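import Mathlib
/-! helper9: clopen subsets of a scheme correspond to idempotent global sections -/
open CategoryTheory CategoryTheory.Limits AlgebraicGeometry TopologicalSpace Opposite
universe u
set_option linter.style.haveILetI false
set_option linter.unusedSectionVars false
set_option backward.isDefEq.respectTransparency false
namespace H9FE

section ClopenIdem
variable {Z : Scheme.{u}}

theorem basicOpen_sup_one_sub (e : Γ(Z, ⊤)) : Z.basicOpen e ⊔ Z.basicOpen (1 - e) = ⊤ := by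
  apply le_antisymm le_top
  have h := Z.basicOpen_add_le e (1 - e)
  rwa [add_sub_cancel, Scheme.basicOpen_one] at h

theorem basicOpen_inf_one_sub (e : Γ(Z, ⊤)) (he : IsIdempotentElem e) :
    Z.basicOpen e ⊓ Z.basicOpen (1 - e) = ⊥ := by
  rw [← Scheme.basicOpen_mul, mul_sub, mul_one, he.eq, sub_self, Scheme.basicOpen_zero]

theorem isClopen_basicOpen_of_idem (e : Γ(Z, ⊤)) (he : IsIdempotentElem e) :
    IsClopen ((Z.basicOpen e : Z.Opens) : Set Z) := by
  refine ⟨?_, (Z.basicOpen e).2⟩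
  have hc : ((Z.basicOpen e : Z.Opens) : Set Z)ᶜ = ((Z.basicOpen (1 - e) : Z.Opens) : Set Z) := by
    have h1 := congrArg (fun U : Z.Opens => (U : Set Z)) (basicOpen_sup_one_sub e)
    have h2 := congrArg (fun U : Z.Opens => (U : Set Z)) (basicOpen_inf_one_sub e he)
    simp only [Opens.coe_sup, Opens.coe_inf, Opens.coe_top, Opens.coe_bot] at h1 h2
    ext x
    constructor
    · intro hx
      have : x ∈ ((Z.basicOpen e : Z.Opens) : Set Z) ∪ ((Z.basicOpen (1 - e) : Z.Opens) : Set Z) := by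
        rw [h1]; trivial
      rcases this with h | h
      · exact absurd h hx
      · exact h
    · intro hx hx'
      have : x ∈ ((Z.basicOpen e : Z.Opens) : Set Z) ∩ ((Z.basicOpen (1 - e) : Z.Opens) : Set Z) :=
        ⟨hx', hx⟩
      rw [h2] at this
      exact this
  rw [← isOpen_compl_iff, hc]
  exact (Z.basicOpen (1 - e)).2

theorem eq_one_of_idem_of_basicOpen_eq_top (e : Γ(Z, ⊤)) (he : IsIdempotentElem e)
    (h : Z.basicOpen e = ⊤) : e = 1 := by
  have hu : IsUnit e := by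
    apply RingedSpace.isUnit_of_isUnit_germ
    intro x hx
    exact (Z.mem_basicOpen_top e x).mp (by rw [h]; trivial)
  obtain ⟨u, rfl⟩ := hu
  have := he.eq
  calc (u : Γ(Z, ⊤)) = ↑u⁻¹ * (↑u * ↑u) := by simp
    _ = ↑u⁻¹ * ↑u := by rw [this]
    _ = 1 := by simp

theorem exists_idem_of_isClopen (T : Set Z) (hT : IsClopen T) :
    ∃ e : Γ(Z, ⊤), IsIdempotentElem e ∧ ((Z.basicOpen e : Z.Opens) : Set Z) = T := by
  let U : Z.Opens := ⟨T, hT.2⟩
  let V : Z.Opens := ⟨Tᶜ, hT.1.isOpen_compl⟩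
  have hUV : U ⊔ V = ⊤ := by
    ext x; simp [U, V, em]
  have hUV' : U ⊓ V = ⊥ := by
    ext x; simp [U, V]
  haveI : Subsingleton Γ(Z, U ⊓ V) := by rw [hUV']; infer_instance
  let x : ↥(RingHom.eqLocus
      (RingHom.comp (Z.sheaf.obj.map (homOfLE inf_le_left : U ⊓ V ⟶ U).op).hom
        (RingHom.fst (Z.sheaf.obj.obj <| op U) (Z.sheaf.obj.obj <| op V)))
      (RingHom.comp (Z.sheaf.obj.map (homOfLE inf_le_right : U ⊓ V ⟶ V).op).hom
        (RingHom.snd (Z.sheaf.obj.obj <| op U) (Z.sheaf.obj.obj <| op V)))) :=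
    ⟨((1 : Γ(Z, U)), (0 : Γ(Z, V))), Subsingleton.elim (α := Γ(Z, U ⊓ V)) _ _⟩
  let e₀ : Γ(Z, U ⊔ V) := (Z.sheaf.objSupIsoProdEqLocus U V).inv x
  have h1 : Z.presheaf.map (homOfLE le_sup_left : U ⟶ U ⊔ V).op e₀ = 1 :=
    Z.sheaf.objSupIsoProdEqLocus_inv_fst U V x
  have h2 : Z.presheaf.map (homOfLE le_sup_right : V ⟶ U ⊔ V).op e₀ = 0 :=
    Z.sheaf.objSupIsoProdEqLocus_inv_snd U V x
  have hidem₀ : IsIdempotentElem e₀ := by
    apply Z.sheaf.eq_of_locally_eq₂ (homOfLE le_sup_left : U ⟶ U ⊔ V)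
      (homOfLE le_sup_right : V ⟶ U ⊔ V) le_rfl
    · show Z.presheaf.map _ (e₀ * e₀) = Z.presheaf.map _ e₀
      rw [map_mul, h1, mul_one]
    · show Z.presheaf.map _ (e₀ * e₀) = Z.presheaf.map _ e₀
      rw [map_mul, h2, mul_zero]
  let e : Γ(Z, ⊤) := Z.presheaf.map (homOfLE (le_of_eq hUV.symm) : (⊤ : Z.Opens) ⟶ U ⊔ V).op e₀
  have he1 : Z.presheaf.map (homOfLE le_top : U ⟶ ⊤).op e = 1 := by
    rw [← h1]
    simp only [e, ← CommRingCat.comp_apply, ← Functor.map_comp, ← op_comp, homOfLE_comp]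
  have he2 : Z.presheaf.map (homOfLE le_top : V ⟶ ⊤).op e = 0 := by
    rw [← h2]
    simp only [e, ← CommRingCat.comp_apply, ← Functor.map_comp, ← op_comp, homOfLE_comp]
  refine ⟨e, hidem₀.map _, ?_⟩
  have hb1 : U ⊓ Z.basicOpen e = U := by
    rw [← Scheme.basicOpen_res _ e (homOfLE le_top : U ⟶ ⊤).op, he1, Scheme.basicOpen_one]
  have hb2 : V ⊓ Z.basicOpen e = ⊥ := by
    rw [← Scheme.basicOpen_res _ e (homOfLE le_top : V ⟶ ⊤).op, he2, Scheme.basicOpen_zero]
  have : Z.basicOpen e = U := by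
    apply le_antisymm
    · intro z hz
      by_contra hzU
      have hzV : z ∈ V := hzU
      have : z ∈ V ⊓ Z.basicOpen e := ⟨hzV, hz⟩
      rw [hb2] at this
      exact this
    · rw [← hb1]; exact inf_le_right
  rw [this]
  rfl

end ClopenIdem

/-- if sections of `W` and of its base change agree, clopen subsets correspond -/
theorem clopen_of_appTop_bijective {W P : Scheme.{u}} (pr : P ⟶ W)
    (hbij : Function.Bijective pr.appTop) :
    (∀ T : Set W, IsClopen T → pr ⁻¹' T = Set.univ → T = Set.univ) ∧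
    (∀ T' : Set P, IsClopen T' → ∃ T : Set W, IsClopen T ∧ pr ⁻¹' T = T') := by
  constructor
  · intro T hT hpre
    obtain ⟨e, he, heT⟩ := exists_idem_of_isClopen T hT
    have h0 : P.basicOpen (pr.appTop e) = ⊤ := by
      rw [← Scheme.preimage_basicOpen_top]
      ext x
      simp only [TopologicalSpace.Opens.coe_top, Set.mem_univ, iff_true]
      show pr x ∈ ((W.basicOpen e : W.Opens) : Set W)
      rw [heT]
      have : x ∈ pr ⁻¹' T := by rw [hpre]; trivial
      exact this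
    have h1 := eq_one_of_idem_of_basicOpen_eq_top (pr.appTop e) (he.map _) h0
    have h2 : e = 1 := hbij.1 (h1.trans (map_one _).symm)
    rw [← heT, h2, Scheme.basicOpen_one]
    rfl
  · intro T' hT'
    obtain ⟨e', he', heT'⟩ := exists_idem_of_isClopen T' hT'
    obtain ⟨e, rfl⟩ := hbij.2 e'
    have he : IsIdempotentElem e := by
      apply hbij.1
      rw [map_mul]
      exact he'
    refine ⟨((W.basicOpen e : W.Opens) : Set W), isClopen_basicOpen_of_idem e he, ?_⟩
    rw [← heT', ← Scheme.preimage_basicOpen_top]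
    rfl


end H9FE
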