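import Mathlib
import Groth.Prelude.Def_EtBase

/-! helper9: a ring with a local homomorphism to a separably closed field along which simple roots
of monic polynomials lift is a strictly henselian local ring. -/

universe u
set_option linter.style.haveILetI false
open Polynomial

namespace H9FE
namespace StrictHensCrit

variable {R Ω : Type u} [CommRing R] [Field Ω] (ev : R →+* Ω)

theorem isLocalRing_of_ev (h1 : ∀ a, ev a ≠ 0 → IsUnit a) : IsLocalRing R := by
  haveI : IsLocalHom ev := ⟨fun a ha => h1 a ha.ne_zero⟩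
  exact RingHom.domain_isLocalRing ev

theorem mem_maximalIdeal_iff [IsLocalRing R] (h1 : ∀ a, ev a ≠ 0 → IsUnit a) (a : R) :
    a ∈ IsLocalRing.maximalIdeal R ↔ ev a = 0 := by
  rw [IsLocalRing.mem_maximalIdeal, mem_nonunits_iff]
  constructor
  · intro h
    by_contra h0
    exact h (h1 a h0)
  · intro h hu
    exact (hu.map ev).ne_zero h

theorem henselian_of_ev [IsLocalRing R] (h1 : ∀ a, ev a ≠ 0 → IsUnit a)
    (h2 : ∀ (P : R[X]) (ω : Ω), P.Monic → (P.map ev).eval ω = 0 →
      (P.map ev).derivative.eval ω ≠ 0 → ∃ a, P.eval a = 0 ∧ ev a = ω) :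
    HenselianLocalRing R := by
  refine ⟨?_⟩
  intro f hf a₀ h0 hu
  have e0 : (f.map ev).eval (ev a₀) = 0 := by
    rw [Polynomial.eval_map_apply]
    exact (mem_maximalIdeal_iff ev h1 _).1 h0
  have e1 : (f.map ev).derivative.eval (ev a₀) ≠ 0 := by
    rw [Polynomial.derivative_map, Polynomial.eval_map_apply]
    exact (hu.map ev).ne_zero
  obtain ⟨a, ha, hev⟩ := h2 f (ev a₀) hf e0 e1
  refine ⟨a, ha, ?_⟩
  rw [mem_maximalIdeal_iff ev h1, map_sub, hev, sub_self]

theorem isSepClosed_residueField_of_ev [IsSepClosed Ω] [IsLocalRing R]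
    (h1 : ∀ a, ev a ≠ 0 → IsUnit a)
    (h2 : ∀ (P : R[X]) (ω : Ω), P.Monic → (P.map ev).eval ω = 0 →
      (P.map ev).derivative.eval ω ≠ 0 → ∃ a, P.eval a = 0 ∧ ev a = ω) :
    IsSepClosed (IsLocalRing.ResidueField R) := by
  haveI : IsLocalHom ev := ⟨fun a ha => h1 a ha.ne_zero⟩
  let ι : IsLocalRing.ResidueField R →+* Ω := IsLocalRing.ResidueField.lift ev
  have hι : ι.comp (IsLocalRing.residue R) = ev := IsLocalRing.ResidueField.lift_comp_residue ev
  apply IsSepClosed.of_exists_root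
  intro p hp hirr hsep
  have hdeg : (p.map ι).degree ≠ 0 := by
    rw [Polynomial.degree_map]
    exact fun h => hirr.not_isUnit (Polynomial.isUnit_iff_degree_eq_zero.2 h)
  obtain ⟨ω, hω⟩ := IsSepClosed.exists_root (p.map ι) hdeg hsep.map
  have hder : (p.map ι).derivative.eval ω ≠ 0 := by
    have := (hsep.map (f := ι)).aeval_derivative_ne_zero (x := ω) (by simpa using hω)
    simpa using this
  have hl : p ∈ Polynomial.lifts (IsLocalRing.residue R) := by
    rw [Polynomial.lifts_iff_coeff_lifts]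
    intro n
    exact IsLocalRing.residue_surjective _
  obtain ⟨P, hP, -, hPm⟩ := Polynomial.lifts_and_degree_eq_and_monic hl hp
  have hPev : P.map ev = p.map ι := by
    rw [← hι, ← Polynomial.map_map, hP]
  obtain ⟨a, ha, -⟩ := h2 P ω hPm (by rw [hPev]; exact hω) (by rw [hPev]; exact hder)
  refine ⟨IsLocalRing.residue R a, ?_⟩
  rw [← hP, Polynomial.eval_map_apply, ha, map_zero]

theorem main [IsSepClosed Ω] (h1 : ∀ a, ev a ≠ 0 → IsUnit a)
    (h2 : ∀ (P : R[X]) (ω : Ω), P.Monic → (P.map ev).eval ω = 0 →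
      (P.map ev).derivative.eval ω ≠ 0 → ∃ a, P.eval a = 0 ∧ ev a = ω) :
    EtCoh.IsStrictlyHenselianLocalRing R := by
  haveI := isLocalRing_of_ev ev h1
  exact ⟨henselian_of_ev ev h1 h2, isSepClosed_residueField_of_ev ev h1 h2⟩

end StrictHensCrit
end H9FE
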