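import Mathlib
import Groth.Prelude.Def_PBC
import Groth.Agent.Lib.Helper6.IndEtAcc
import Groth.Agent.Lib.Helper6.IndEtSpread

/-! helper9: Zariski localizations in the sense of Bhatt–Scholze (finite products of principal
localizations, `IsZarLoc`), their filtered colimits (`IsIndZarLoc`), and the transitivity
statement `isIndZariski_trans`: an ind-Zariski algebra (filtered colimit of local isomorphisms)
followed by an `IsIndZarLoc` algebra is ind-Zariski. -/

set_option autoImplicit false
universe u
open CategoryTheory CategoryTheory.Limits TensorProduct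

namespace H9FE.IZ

set_option linter.style.haveILetI false
set_option linter.unusedSectionVars false

section Defs

/-- `S` is a finite product of principal localizations of `R`. -/
def IsZarLoc (R S : Type u) [CommRing R] [CommRing S] [Algebra R S] : Prop :=
  ∃ (ι : Type u) (_ : Finite ι) (f : ι → R) (S' : ι → Type u) (_ : ∀ i, CommRing (S' i))
    (_ : ∀ i, Algebra R (S' i)),
    (∀ i, IsLocalization.Away (f i) (S' i)) ∧ Nonempty (S ≃ₐ[R] Π i, S' i)

/-- `B` is a filtered colimit, under `A`, of finite products of principal localizations. -/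
def IsIndZarLoc (A B : Type u) [CommRing A] [CommRing B] [Algebra A B] : Prop :=
  ∃ (J : Type u) (_ : SmallCategory J) (_ : IsFiltered J) (D : J ⥤ Under (CommRingCat.of A))
    (c : Cocone D) (_ : IsColimit c),
    (∀ j, letI := (D.obj j).hom.hom.toAlgebra; IsZarLoc A (D.obj j).right) ∧
    Nonempty (c.pt ≅ Under.mk (CommRingCat.ofHom (algebraMap A B)))

variable {R S : Type u} [CommRing R] [CommRing S] [Algebra R S]

lemma IsZarLoc.of_away (f : R) [IsLocalization.Away f S] : IsZarLoc R S :=
  ⟨PUnit.{u+1}, inferInstance, fun _ => f, fun _ => S, fun _ => inferInstance,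
    fun _ => inferInstance, fun _ => inferInstance, ⟨(AlgEquiv.funUnique R PUnit.{u+1} S).symm⟩⟩

lemma IsZarLoc.isLocalIso (h : IsZarLoc R S) : Algebra.IsLocalIso R S := by
  obtain ⟨ι, _, f, S', _, _, hS', ⟨e⟩⟩ := h
  haveI : ∀ i, Algebra.IsStandardOpenImmersion R (S' i) := fun i => ⟨f i, hS' i⟩
  haveI : Algebra.IsLocalIso R (Π i, S' i) := Algebra.IsLocalIso.pi_of_finite R S'
  exact Algebra.IsLocalIso.of_algEquiv e.symm

theorem IsIndZarLoc.isIndZariski {A B : Type u} [CommRing A] [CommRing B] [Algebra A B]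
    (h : IsIndZarLoc A B) : EtPBC.IsIndZariski A B := by
  obtain ⟨J, i1, i2, D, c, hc, hD, hiso⟩ := h
  exact ⟨J, i1, i2, D, c, hc, fun j => by
    letI := (D.obj j).hom.hom.toAlgebra
    exact (hD j).isLocalIso, hiso⟩

end Defs

section RingHomProp

/-- local isomorphisms, as a property of ring homomorphisms -/
def RLocalIso {R S : Type u} [CommRing R] [CommRing S] (f : R →+* S) : Prop :=
  letI := f.toAlgebra; Algebra.IsLocalIso R S

lemma rLocalIso_algebraMap {R S : Type u} [CommRing R] [CommRing S] [Algebra R S] :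
    RLocalIso (algebraMap R S) ↔ Algebra.IsLocalIso R S := by
  rw [RLocalIso, toAlgebra_algebraMap]

lemma rLocalIso_comp {R S T : Type u} [CommRing R] [CommRing S] [CommRing T] (f : R →+* S)
    (g : S →+* T) (hf : RLocalIso f) (hg : RLocalIso g) : RLocalIso (g.comp f) := by
  algebraize [f, g, g.comp f]
  haveI : Algebra.IsLocalIso R S := hf
  haveI : Algebra.IsLocalIso S T := hg
  exact Algebra.IsLocalIso.trans R S T

lemma rLocalIso_of_bijective {R S : Type u} [CommRing R] [CommRing S] (f : R →+* S)
    (hf : Function.Bijective f) : RLocalIso f := by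
  letI := f.toAlgebra
  haveI : Algebra.IsStandardOpenImmersion R S := Algebra.IsStandardOpenImmersion.of_bijective hf
  show Algebra.IsLocalIso R S
  infer_instance

theorem rLocalIso_respectsIso : RingHom.RespectsIso.{u} (@RLocalIso) :=
  RingHom.StableUnderComposition.respectsIso (fun _ _ _ _ _ _ f g hf hg => rLocalIso_comp f g hf hg)
    (fun e => rLocalIso_of_bijective _ e.bijective)

theorem rLocalIso_isStableUnderBaseChange : RingHom.IsStableUnderBaseChange.{u} (@RLocalIso) := by
  refine .mk rLocalIso_respectsIso ?_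
  introv h
  rw [rLocalIso_algebraMap] at h ⊢
  infer_instance

/-- local isomorphisms as a morphism property of `CommRingCat` -/
abbrev localIsoMP : MorphismProperty CommRingCat.{u} := RingHom.toMorphismProperty (@RLocalIso)

/-- Zariski localizations as a morphism property of `CommRingCat` -/
def zarMP : MorphismProperty CommRingCat.{u} :=
  fun X Y f => letI := f.hom.toAlgebra; IsZarLoc X Y

instance : (localIsoMP.{u}).IsStableUnderCobaseChange :=
  RingHom.isStableUnderCobaseChange_toMorphismProperty_iff.mpr rLocalIso_isStableUnderBaseChange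

theorem finitePresentation_of_isLocalIso (R S : Type u) [CommRing R] [CommRing S] [Algebra R S]
    [Algebra.IsLocalIso R S] : Algebra.FinitePresentation R S := by
  refine Algebra.FinitePresentation.of_span_eq_top_target _
    (Algebra.IsLocalIso.span_isStandardOpenImmersion_eq_top R S) ?_
  intro g hg
  obtain ⟨r, hr⟩ := (hg : Algebra.IsStandardOpenImmersion R (Localization.Away g))
  exact IsLocalization.Away.finitePresentation r

theorem localIsoMP_le_fp :
    localIsoMP.{u} ≤ MorphismProperty.isFinitelyPresentable.{u} _ := by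
  intro X Y f hf
  apply CommRingCat.isFinitelyPresentable_hom
  letI := f.hom.toAlgebra
  haveI : Algebra.IsLocalIso X Y := hf
  show (algebraMap X Y).FinitePresentation
  rw [RingHom.finitePresentation_algebraMap]
  exact finitePresentation_of_isLocalIso X Y

end RingHomProp

section Conv

/-- local-isomorphism objects of `Under A` -/
def localIsoProp (A : Type u) [CommRing A] : ObjectProperty (Under (CommRingCat.of A)) :=
  fun X => letI := X.hom.hom.toAlgebra; Algebra.IsLocalIso A X.right

/-- Zariski-localization objects of `Under A` -/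
def zarProp (A : Type u) [CommRing A] : ObjectProperty (Under (CommRingCat.of A)) :=
  fun X => letI := X.hom.hom.toAlgebra; IsZarLoc A X.right

variable (A B : Type u) [CommRing A] [CommRing B] [Algebra A B]

theorem isIndZariski_iff_ind :
    EtPBC.IsIndZariski A B ↔
      ObjectProperty.ind.{u} (localIsoProp A)
        (Under.mk (CommRingCat.ofHom (algebraMap A B))) := by
  constructor
  · rintro ⟨J, _, _, D, c, hc, hEt, ⟨iso⟩⟩
    exact ⟨J, inferInstance, inferInstance,
      (ColimitPresentation.mk D c.ι hc).ofIso iso, fun j => hEt j⟩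
  · rintro ⟨J, _, _, pres, h⟩
    exact ⟨J, inferInstance, inferInstance, pres.diag, Cocone.mk _ pres.ι, pres.isColimit,
      fun j => h j, ⟨Iso.refl _⟩⟩

theorem isIndZarLoc_iff_ind :
    IsIndZarLoc A B ↔
      ObjectProperty.ind.{u} (zarProp A)
        (Under.mk (CommRingCat.ofHom (algebraMap A B))) := by
  constructor
  · rintro ⟨J, _, _, D, c, hc, hEt, ⟨iso⟩⟩
    exact ⟨J, inferInstance, inferInstance,
      (ColimitPresentation.mk D c.ι hc).ofIso iso, fun j => hEt j⟩
  · rintro ⟨J, _, _, pres, h⟩
    exact ⟨J, inferInstance, inferInstance, pres.diag, Cocone.mk _ pres.ι, pres.isColimit,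
      fun j => h j, ⟨Iso.refl _⟩⟩

theorem isIndZariski_iff_indMP :
    EtPBC.IsIndZariski A B ↔
      MorphismProperty.ind.{u} localIsoMP.{u} (CommRingCat.ofHom (algebraMap A B)) := by
  rw [isIndZariski_iff_ind, MorphismProperty.ind_iff_ind_underMk]
  rfl

theorem isIndZarLoc_iff_indMP :
    IsIndZarLoc A B ↔
      MorphismProperty.ind.{u} zarMP.{u} (CommRingCat.ofHom (algebraMap A B)) := by
  rw [isIndZarLoc_iff_ind, MorphismProperty.ind_iff_ind_underMk]
  rfl

end Conv

section Model

/-- A Zariski localization is a pushout of a local isomorphism with finitely presentable source. -/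
theorem zar_model {X T : CommRingCat.{u}} (f : X ⟶ T) (hf : zarMP f) :
    ∃ (A₀ B₀ : CommRingCat.{u}) (a : A₀ ⟶ X) (b : A₀ ⟶ B₀) (t : B₀ ⟶ T),
      IsFinitelyPresentable.{u} A₀ ∧ localIsoMP b ∧ IsPushout a b f t := by
  classical
  algebraize [f.hom]
  obtain ⟨ι, hι, fs, S', _, _, hS', ⟨e⟩⟩ := (hf : IsZarLoc X T)
  haveI := Fintype.ofFinite ι
  let A₀ := MvPolynomial ι ℤ
  let a : A₀ →+* X := (MvPolynomial.aeval fs : MvPolynomial ι ℤ →ₐ[ℤ] X).toRingHom
  letI : Algebra A₀ X := a.toAlgebra
  let B₀ := Π i, Localization.Away (MvPolynomial.X i : A₀)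
  have hloc : ∀ i, IsLocalization.Away (fs i)
      (X ⊗[A₀] Localization.Away (MvPolynomial.X i : A₀)) := by
    intro i
    have h1 : IsLocalization (Algebra.algebraMapSubmonoid X
        (Submonoid.powers (MvPolynomial.X i : A₀)))
        (X ⊗[A₀] Localization.Away (MvPolynomial.X i : A₀)) := inferInstance
    rw [Algebra.algebraMapSubmonoid_powers] at h1
    have h2 : algebraMap A₀ X (MvPolynomial.X i) = fs i := MvPolynomial.aeval_X fs i
    rw [h2] at h1
    exact h1
  let E₁ : X ⊗[A₀] B₀ ≃ₐ[X] Π i, X ⊗[A₀] Localization.Away (MvPolynomial.X i : A₀) :=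
    Algebra.TensorProduct.piRight A₀ X X _
  let E₂ : (Π i, X ⊗[A₀] Localization.Away (MvPolynomial.X i : A₀)) ≃ₐ[X] Π i, S' i :=
    AlgEquiv.piCongrRight (fun i => IsLocalization.algEquiv (Submonoid.powers (fs i)) _ _)
  let E : X ⊗[A₀] B₀ ≃ₐ[X] T := (E₁.trans E₂).trans e.symm
  refine ⟨CommRingCat.of A₀, CommRingCat.of B₀, CommRingCat.ofHom a,
    CommRingCat.ofHom (algebraMap A₀ B₀),
    CommRingCat.ofHom ((E : (X ⊗[A₀] B₀) →+* T).comp
      (Algebra.TensorProduct.includeRight : B₀ →ₐ[A₀] X ⊗[A₀] B₀).toRingHom), ?_, ?_, ?_⟩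
  · apply Groth.Agent.Lib.Helper6.IndEtSpread.isFinitelyPresentable_of_int
    have : Algebra.FinitePresentation ℤ A₀ := inferInstance
    have h3 := (RingHom.finitePresentation_algebraMap (A := ℤ) (B := A₀)).mpr this
    have h4 : algebraMap ℤ A₀ = Int.castRingHom A₀ := RingHom.ext_int _ _
    rw [h4] at h3
    exact h3
  · show RLocalIso (algebraMap A₀ B₀)
    rw [rLocalIso_algebraMap]
    exact Algebra.IsLocalIso.pi_of_finite A₀ _
  · refine (CommRingCat.isPushout_tensorProduct A₀ X B₀).of_iso (Iso.refl _) (Iso.refl _)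
      (Iso.refl _) (E.toRingEquiv.toCommRingCatIso) (by simp) (by simp) ?_ ?_
    · ext x
      simp only [Iso.refl_hom, Category.id_comp]
      show E (x ⊗ₜ[A₀] (1 : B₀)) = f.hom x
      have h1 : (x ⊗ₜ[A₀] (1 : B₀)) = algebraMap X (X ⊗[A₀] B₀) x :=
        (Algebra.TensorProduct.algebraMap_apply x).symm
      rw [h1, E.commutes]
      rfl
    · ext x
      rfl

theorem zar_spread {J : Type u} [SmallCategory J] [IsFiltered J] {D : J ⥤ CommRingCat.{u}}
    {c : Cocone D} (hc : IsColimit c) {T : CommRingCat.{u}} (f : c.pt ⟶ T) (hf : zarMP f) :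
    ∃ (j : J) (T' : CommRingCat.{u}) (f' : D.obj j ⟶ T') (g : T' ⟶ T),
      IsPushout (c.ι.app j) f' f g ∧ localIsoMP f' := by
  obtain ⟨A₀, B₀, a, b, t, hA₀, hb, h⟩ := zar_model f hf
  obtain ⟨j, φ, hφ⟩ := IsFinitelyPresentable.exists_hom_of_isColimit hc a
  subst hφ
  exact ⟨j, pushout φ b, pushout.inl φ b, _,
    IsPushout.of_left' h (IsPushout.of_hasPushout φ b), localIsoMP.pushout_inl _ _ hb⟩

end Model

end H9FE.IZ
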