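import Mathlib
import Groth.Prelude.Def_PBC
import Groth.Agent.Lib.Helper7.SpecTop

/-! helper9: ind-Zariski quotients. The quotient of a ring by an ideal generated by idempotents is
ind-Zariski (`isIndZariski_quotient_span`); the preimage in `Spec A` of a closed subset of
`π₀(Spec A)` is the zero locus of an ideal generated by idempotents
(`exists_idempotents_zeroLocus_eq_preimage`). -/

set_option autoImplicit false
universe u
open CategoryTheory CategoryTheory.Limits

namespace H9FE.WLoc

set_option linter.style.haveILetI false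
set_option linter.unusedSectionVars false

section Quot

variable {A : Type u} [CommRing A]

/-- the object `A → A ⧸ K` of `Under A` -/
noncomputable abbrev qObj (K : Ideal A) : Under (CommRingCat.of A) :=
  Under.mk (CommRingCat.ofHom (algebraMap A (A ⧸ K)))

/-- morphisms out of a quotient of `A` in `Under A` are unique -/
lemma qObj_hom_unique (K : Ideal A) (Y : Under (CommRingCat.of A)) (f g : qObj K ⟶ Y) : f = g := by
  apply Under.UnderMorphism.ext
  apply CommRingCat.hom_ext
  apply Ideal.Quotient.ringHom_ext
  have hf := Under.w f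
  have hg := Under.w g
  have hf' := congrArg CommRingCat.Hom.hom hf
  have hg' := congrArg CommRingCat.Hom.hom hg
  exact hf'.trans hg'.symm

/-- the morphism `A ⧸ K → A ⧸ L` in `Under A` for `K ≤ L` -/
noncomputable def qMap {K L : Ideal A} (h : K ≤ L) : qObj K ⟶ qObj L :=
  Under.homMk (CommRingCat.ofHom (Ideal.Quotient.factor h)) (by
    apply CommRingCat.hom_ext
    apply RingHom.ext
    intro a
    rfl)

/-- the morphism out of a quotient -/
noncomputable def qDesc (K : Ideal A) (Y : Under (CommRingCat.of A))
    (h : ∀ a ∈ K, Y.hom.hom a = 0) : qObj K ⟶ Y :=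
  Under.homMk (CommRingCat.ofHom (Ideal.Quotient.lift K Y.hom.hom h)) (by
    apply CommRingCat.hom_ext
    apply RingHom.ext
    intro a
    rfl)

lemma hom_apply_eq_zero {K : Ideal A} {Y : Under (CommRingCat.of A)} (f : qObj K ⟶ Y) (a : A)
    (ha : a ∈ K) : Y.hom.hom a = 0 := by
  have hf := congrArg CommRingCat.Hom.hom (Under.w f)
  have h1 : Y.hom.hom a = f.right.hom (algebraMap A (A ⧸ K) a) := by
    rw [← hf]
    rfl
  rw [h1]
  have h2 : algebraMap A (A ⧸ K) a = 0 := Ideal.Quotient.eq_zero_iff_mem.mpr ha
  rw [h2, map_zero]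

variable (S : Set A)

/-- the ideal generated by a finite subset of `S` -/
def idl (F : Finset S) : Ideal A := Ideal.span ((fun x : S => (x : A)) '' (F : Set S))

lemma idl_mono {F G : Finset S} (h : F ≤ G) : idl S F ≤ idl S G :=
  Ideal.span_mono (Set.image_mono (by exact_mod_cast h))

lemma idl_le (F : Finset S) : idl S F ≤ Ideal.span S := by
  apply Ideal.span_mono
  rintro _ ⟨x, -, rfl⟩
  exact x.2

lemma exists_mem_idl {a : A} (ha : a ∈ Ideal.span S) : ∃ F : Finset S, a ∈ idl S F := by
  classical
  obtain ⟨T, hT, haT⟩ := Submodule.mem_span_finite_of_mem_span ha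
  refine ⟨T.subtype (· ∈ S) |>.map ⟨fun x => ⟨x.1, x.2⟩, fun x y h => by
    apply Subtype.ext
    exact congrArg (fun z : S => (z : A)) h⟩, ?_⟩
  refine Ideal.span_mono ?_ haT
  intro x hx
  refine ⟨⟨x, hT hx⟩, ?_, rfl⟩
  simp only [Finset.coe_map, Function.Embedding.coeFn_mk, Set.mem_image, Finset.mem_coe,
    Finset.mem_subtype]
  exact ⟨⟨x, hT hx⟩, hx, rfl⟩

/-- the diagram of quotients by finitely many of the generators -/
noncomputable def qDiag : Finset S ⥤ Under (CommRingCat.of A) where
  obj F := qObj (idl S F)
  map h := qMap (idl_mono S (leOfHom h))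
  map_id _ := qObj_hom_unique _ _ _ _
  map_comp _ _ := qObj_hom_unique _ _ _ _

/-- the cocone with point the quotient by all generators -/
noncomputable def qCocone : Cocone (qDiag S) where
  pt := qObj (Ideal.span S)
  ι :=
    { app := fun F => qMap (idl_le S F)
      naturality := fun _ _ _ => qObj_hom_unique _ _ _ _ }

/-- the cocone is colimiting -/
noncomputable def qIsColimit : IsColimit (qCocone S) where
  desc s := qDesc (Ideal.span S) s.pt (by
    intro a ha
    obtain ⟨F, hF⟩ := exists_mem_idl S ha
    exact hom_apply_eq_zero (s.ι.app F) a hF)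
  fac s F := qObj_hom_unique _ _ _ _
  uniq s m _ := qObj_hom_unique _ _ _ _

/-- quotient by a finitely generated ideal generated by idempotents is a local isomorphism -/
lemma isLocalIso_of_idempotents (hS : ∀ e ∈ S, IsIdempotentElem e) (F : Finset S) :
    letI := (qObj (idl S F)).hom.hom.toAlgebra
    Algebra.IsLocalIso A (qObj (idl S F)).right := by
  letI := (qObj (idl S F)).hom.hom.toAlgebra
  have hfg : (idl S F).FG := by
    classical
    exact ⟨F.image (fun x : S => (x : A)), by
      rw [Finset.coe_image]
      rfl⟩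
  have hidem : IsIdempotentElem (idl S F) := by
    apply le_antisymm Ideal.mul_le_right
    unfold idl
    rw [Ideal.span_le]
    rintro _ ⟨x, hx, rfl⟩
    have hx' : (x : A) ∈ idl S F := Ideal.subset_span ⟨x, hx, rfl⟩
    have := Ideal.mul_mem_mul hx' hx'
    rwa [(hS x.1 x.2).eq] at this
  obtain ⟨e, he, heq⟩ := ((idl S F).isIdempotentElem_iff_of_fg hfg).mp hidem
  have hloc : IsLocalization.Away (1 - e) (qObj (idl S F)).right := by
    apply IsLocalization.away_of_isIdempotentElem he.one_sub
    · show RingHom.ker (algebraMap A (A ⧸ idl S F)) = Ideal.span {1 - (1 - e)}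
      rw [sub_sub_cancel, Ideal.Quotient.algebraMap_eq, Ideal.mk_ker, heq]
    · exact Ideal.Quotient.mk_surjective
  haveI : Algebra.IsStandardOpenImmersion A (qObj (idl S F)).right := ⟨1 - e, hloc⟩
  infer_instance

/-- The quotient by an ideal generated by idempotents is ind-Zariski. -/
theorem isIndZariski_quotient_span (hS : ∀ e ∈ S, IsIdempotentElem e) :
    EtPBC.IsIndZariski A (A ⧸ Ideal.span S) := by
  classical
  exact ⟨Finset S, inferInstance, inferInstance, qDiag S, qCocone S, qIsColimit S,
    fun F => isLocalIso_of_idempotents S hS F, ⟨Iso.refl _⟩⟩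

end Quot

section Top

open PrimeSpectrum

variable (A : Type u) [CommRing A]

/-- The preimage in `Spec A` of a closed subset of `π₀(Spec A)` is the zero locus of an ideal
generated by idempotents. -/
theorem exists_idempotents_zeroLocus_eq_preimage
    (T : Set (_root_.ConnectedComponents (PrimeSpectrum A))) (hT : IsClosed T) :
    ∃ S : Set A, (∀ e ∈ S, IsIdempotentElem e) ∧
      zeroLocus (Ideal.span S : Set A) = _root_.ConnectedComponents.mk ⁻¹' T := by
  haveI : T2Space (_root_.ConnectedComponents (PrimeSpectrum A)) :=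
    Groth.Agent.Helper7.SpecTop.t2Space_connectedComponents _
  let Z : Set (PrimeSpectrum A) := _root_.ConnectedComponents.mk ⁻¹' T
  refine ⟨{e | IsIdempotentElem e ∧ Z ⊆ zeroLocus {e}}, fun e he => he.1, ?_⟩
  rw [zeroLocus_span]
  apply Set.Subset.antisymm
  · intro x hx
    by_contra hxZ
    have hxT : _root_.ConnectedComponents.mk x ∈ Tᶜ := hxZ
    obtain ⟨V, hV, hxV, hVT⟩ := compact_exists_isClopen_in_isOpen hT.isOpen_compl hxT
    have hW : IsClopen (_root_.ConnectedComponents.mk ⁻¹' Vᶜ : Set (PrimeSpectrum A)) :=
      hV.compl.preimage _root_.ConnectedComponents.continuous_coe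
    obtain ⟨e, he, hWe⟩ := isClopen_iff_zeroLocus.mp hW
    have hZe : Z ⊆ zeroLocus {e} := by
      rw [← hWe]
      intro z hz hzV
      exact hVT hzV hz
    have hxe : x ∈ zeroLocus {e} := by
      apply zeroLocus_anti_mono _ hx
      intro y hy
      rw [Set.mem_singleton_iff] at hy
      subst hy
      exact ⟨he, hZe⟩
    rw [← hWe] at hxe
    exact hxe hxV
  · intro x hx
    rw [mem_zeroLocus]
    intro e he
    have := he.2 hx
    rw [mem_zeroLocus] at this
    exact this (Set.mem_singleton e)

end Top

end H9FE.WLoc
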