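import Mathlib
import Groth.Prelude.Def_PBC
import Groth.Agent.Lib.Helper7.UnderColim
import Groth.Agent.Lib.Helper9.FE.WLoc1
import Groth.Agent.Lib.Helper9.FE.IZ1

/-! helper9: basic examples of filtered colimits of Zariski localizations (`IsIndZarLoc`):
quotients by ideals generated by idempotents, localizations at submonoids, and the ring of
locally constant functions on a compact space. -/

set_option autoImplicit false
universe u
open CategoryTheory CategoryTheory.Limits

namespace H9FE.IZ

set_option linter.style.haveILetI false
set_option linter.unusedSectionVars false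

section Quot

open H9FE.WLoc

variable {A : Type u} [CommRing A] (S : Set A)

lemma isZarLoc_of_idempotents (hS : ∀ e ∈ S, IsIdempotentElem e) (F : Finset S) :
    letI := (qObj (idl S F)).hom.hom.toAlgebra
    IsZarLoc A (qObj (idl S F)).right := by
  letI := (qObj (idl S F)).hom.hom.toAlgebra
  have hfg : (idl S F).FG := by
    classical
    exact ⟨F.image (fun x : S => (x : A)), by
      rw [Finset.coe_image]
      rfl⟩
  have hidem : IsIdempotentElem (idl S F) := by
    apply le_antisymm Ideal.mul_le_right
    unfold idl
    rw [Ideal.span_le]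
    rintro _ ⟨x, hx, rfl⟩
    have hx' : (x : A) ∈ idl S F := Ideal.subset_span ⟨x, hx, rfl⟩
    have := Ideal.mul_mem_mul hx' hx'
    rwa [(hS x.1 x.2).eq] at this
  obtain ⟨e, he, heq⟩ := ((idl S F).isIdempotentElem_iff_of_fg hfg).mp hidem
  have hloc : IsLocalization.Away (1 - e) (qObj (idl S F)).right := by
    apply IsLocalization.away_of_isIdempotentElem he.one_sub
    · show RingHom.ker (algebraMap A (A ⧸ idl S F)) = Ideal.span {1 - (1 - e)}
      rw [sub_sub_cancel, Ideal.Quotient.algebraMap_eq, Ideal.mk_ker, heq]
    · exact Ideal.Quotient.mk_surjective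
  exact IsZarLoc.of_away (1 - e)

/-- The quotient by an ideal generated by idempotents is a filtered colimit of Zariski
localizations. -/
theorem isIndZarLoc_quotient_span (hS : ∀ e ∈ S, IsIdempotentElem e) :
    IsIndZarLoc A (A ⧸ Ideal.span S) := by
  classical
  exact ⟨Finset S, inferInstance, inferInstance, qDiag S, qCocone S, qIsColimit S,
    fun F => isZarLoc_of_idempotents S hS F, ⟨Iso.refl _⟩⟩

end Quot

section Loc

lemma isLocalization_toAlgebra {R S : Type*} [CommSemiring R] [CommSemiring S] [Algebra R S]
    (M : Submonoid R) [h : IsLocalization M S] :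
    @IsLocalization R _ M S _ (algebraMap R S).toAlgebra := by
  rw [toAlgebra_algebraMap]
  exact h

variable {C : Type u} [CommRing C] (M : Submonoid C) (B : Type u) [CommRing B] [Algebra C B]
  [IsLocalization M B]

/-- the product of a finite set of elements of `M` -/
noncomputable def fprod (F : Finset M) : C := ∏ m ∈ F, (m : C)

lemma fprod_mem (F : Finset M) : fprod M F ∈ M := prod_mem (fun m _ => m.2)

lemma fprod_dvd {F G : Finset M} (h : F ≤ G) : fprod M F ∣ fprod M G :=
  Finset.prod_dvd_prod_of_subset F G _ h

/-- the object `C → C[1/∏F]` of `Under C` -/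
noncomputable abbrev locObj (F : Finset M) : Under (CommRingCat.of C) :=
  Under.mk (CommRingCat.ofHom (algebraMap C (Localization.Away (fprod M F))))

lemma locObj_hom_unique (F : Finset M) (Y : Under (CommRingCat.of C)) (f g : locObj M F ⟶ Y) :
    f = g := by
  apply Under.UnderMorphism.ext
  apply CommRingCat.hom_ext
  refine IsLocalization.ringHom_ext (R := C) (S := Localization.Away (fprod M F))
    (Submonoid.powers (fprod M F)) ?_
  have hf := congrArg CommRingCat.Hom.hom (Under.w f)
  have hg := congrArg CommRingCat.Hom.hom (Under.w g)
  exact hf.trans hg.symm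

lemma isUnit_fprod {F G : Finset M} (h : F ≤ G) :
    IsUnit (algebraMap C (Localization.Away (fprod M G)) (fprod M F)) :=
  isUnit_of_dvd_unit (map_dvd _ (fprod_dvd M h)) (IsLocalization.Away.algebraMap_isUnit (fprod M G))

/-- the transition ring homomorphism -/
noncomputable def locRingHom {F G : Finset M} (h : F ≤ G) :
    Localization.Away (fprod M F) →+* Localization.Away (fprod M G) :=
  IsLocalization.Away.lift (fprod M F) (g := algebraMap C (Localization.Away (fprod M G)))
    (isUnit_fprod M h)

lemma locRingHom_algebraMap {F G : Finset M} (h : F ≤ G) (a : C) :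
    locRingHom M h (algebraMap C _ a) = algebraMap C _ a :=
  IsLocalization.Away.lift_eq _ _ a

/-- the transition map in `Under C` -/
noncomputable def locMap {F G : Finset M} (h : F ≤ G) : locObj M F ⟶ locObj M G :=
  Under.homMk (CommRingCat.ofHom (locRingHom M h)) (by
    apply CommRingCat.hom_ext
    apply RingHom.ext
    intro a
    exact locRingHom_algebraMap M h a)

/-- the ring homomorphism to the localization -/
noncomputable def locToRingHom (F : Finset M) : Localization.Away (fprod M F) →+* B :=
  IsLocalization.Away.lift (fprod M F) (g := algebraMap C B)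
    (IsLocalization.map_units B ⟨fprod M F, fprod_mem M F⟩)

lemma locToRingHom_algebraMap (F : Finset M) (a : C) :
    locToRingHom M B F (algebraMap C _ a) = algebraMap C B a :=
  IsLocalization.Away.lift_eq _ _ a

/-- the diagram of principal localizations -/
noncomputable def locDiag : Finset M ⥤ Under (CommRingCat.of C) where
  obj F := locObj M F
  map h := locMap M (leOfHom h)
  map_id _ := locObj_hom_unique _ _ _ _ _
  map_comp _ _ := locObj_hom_unique _ _ _ _ _

/-- the cocone with point the localization -/
noncomputable def locCocone : Cocone (locDiag M) where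
  pt := Under.mk (CommRingCat.ofHom (algebraMap C B))
  ι :=
    { app := fun F => Under.homMk (CommRingCat.ofHom (locToRingHom M B F)) (by
        apply CommRingCat.hom_ext
        apply RingHom.ext
        intro a
        exact locToRingHom_algebraMap M B F a)
      naturality := fun _ _ _ => locObj_hom_unique _ _ _ _ _ }

lemma locCocone_isColimit : Nonempty (IsColimit (locCocone M B)) := by
  classical
  apply Groth.Agent.Helper7.UnderColim.isColimit_of_elementwise
  · intro (b : B)
    obtain ⟨c, m, rfl⟩ := IsLocalization.exists_mk'_eq M (b : B)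
    have hpm : fprod M {m} = (m : C) := Finset.prod_singleton _ _
    refine ⟨{m}, (IsLocalization.mk' (Localization.Away (fprod M {m})) c
      ⟨fprod M {m}, Submonoid.mem_powers _⟩ : Localization.Away (fprod M {m})), ?_⟩
    show locToRingHom M B {m} _ = _
    rw [IsLocalization.eq_mk'_iff_mul_eq]
    have h1 := IsLocalization.mk'_spec (Localization.Away (fprod M {m})) c
      ⟨fprod M {m}, Submonoid.mem_powers _⟩
    have h2 := congrArg (locToRingHom M B {m}) h1
    rw [map_mul, locToRingHom_algebraMap, locToRingHom_algebraMap] at h2
    rw [← h2]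
    congr 2
    exact hpm.symm
  · intro F (y : Localization.Away (fprod M F)) (y' : Localization.Away (fprod M F)) hyy'
    have hyy : locToRingHom M B F y = locToRingHom M B F y' := hyy'
    obtain ⟨a, ⟨sn, hsn⟩, hd⟩ := IsLocalization.exists_mk'_eq (Submonoid.powers (fprod M F))
      (y - y' : Localization.Away (fprod M F))
    have h1 := IsLocalization.mk'_spec (Localization.Away (fprod M F)) a ⟨sn, hsn⟩
    rw [hd] at h1
    have h0 : locToRingHom M B F (y - y') = 0 := by rw [map_sub, hyy, sub_self]
    have h2 := congrArg (locToRingHom M B F) h1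
    rw [map_mul, h0, zero_mul, locToRingHom_algebraMap] at h2
    obtain ⟨m, hm⟩ := (IsLocalization.map_eq_zero_iff M B a).mp h2.symm
    have hFG : F ≤ insert m F := Finset.subset_insert m F
    refine ⟨insert m F, homOfLE hFG, ?_⟩
    show locRingHom M hFG y = locRingHom M hFG y'
    have h3 := congrArg (locRingHom M hFG) h1
    rw [map_mul, locRingHom_algebraMap, locRingHom_algebraMap] at h3
    have hunit_m : IsUnit (algebraMap C (Localization.Away (fprod M (insert m F))) (m : C)) := by
      apply isUnit_of_dvd_unit (map_dvd _ _)
        (IsLocalization.Away.algebraMap_isUnit (fprod M (insert m F)))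
      exact Finset.dvd_prod_of_mem _ (Finset.mem_insert_self m F)
    have ha0 : algebraMap C (Localization.Away (fprod M (insert m F))) a = 0 := by
      have h4 : algebraMap C (Localization.Away (fprod M (insert m F))) ((m : C) * a) = 0 := by
        rw [hm, map_zero]
      rw [map_mul] at h4
      exact (hunit_m.mul_right_eq_zero).mp h4
    rw [ha0] at h3
    have hunit_sn : IsUnit (algebraMap C (Localization.Away (fprod M (insert m F))) sn) := by
      have h5 := (IsLocalization.map_units (Localization.Away (fprod M F))
        (⟨sn, hsn⟩ : Submonoid.powers (fprod M F))).map (locRingHom M hFG)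
      rwa [locRingHom_algebraMap] at h5
    have h6 : locRingHom M hFG (y - y') = 0 := (hunit_sn.mul_left_eq_zero).mp h3
    rw [map_sub, sub_eq_zero] at h6
    exact h6

include M in
/-- A localization is a filtered colimit of Zariski localizations. -/
theorem isIndZarLoc_of_isLocalization : IsIndZarLoc C B := by
  classical
  obtain ⟨hc⟩ := locCocone_isColimit M B
  refine ⟨Finset M, inferInstance, inferInstance, locDiag M, locCocone M B, hc, fun F => ?_,
    ⟨Iso.refl _⟩⟩
  letI := ((locDiag M).obj F).hom.hom.toAlgebra
  have : IsLocalization.Away (fprod M F) ((locDiag M).obj F).right :=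
    isLocalization_toAlgebra (S := Localization.Away (fprod M F)) (Submonoid.powers (fprod M F))
  exact IsZarLoc.of_away (fprod M F)

end Loc

section LC

variable (A : Type u) [CommRing A] (T : Type u) [TopologicalSpace T] [CompactSpace T]

/-- the object `A → (S → A)` of `Under A` -/
noncomputable abbrev lcObj (S : DiscreteQuotient T) : Under (CommRingCat.of A) :=
  Under.mk (CommRingCat.ofHom (algebraMap A (S → A)))

/-- pullback of functions along a refinement -/
noncomputable def lcRingHom {S₁ S₂ : DiscreteQuotient T} (h : S₂ ≤ S₁) : (S₁ → A) →+* (S₂ → A) :=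
  RingHom.pi (fun i : S₂ => Pi.evalRingHom (fun _ : S₁ => A) (DiscreteQuotient.ofLE h i))

lemma lcRingHom_apply {S₁ S₂ : DiscreteQuotient T} (h : S₂ ≤ S₁) (φ : S₁ → A) (i : S₂) :
    lcRingHom A T h φ i = φ (DiscreteQuotient.ofLE h i) := rfl

/-- the transition maps -/
noncomputable def lcMap {S₁ S₂ : DiscreteQuotient T} (h : S₂ ≤ S₁) : lcObj A T S₁ ⟶ lcObj A T S₂ :=
  Under.homMk (CommRingCat.ofHom (lcRingHom A T h)) (by
    apply CommRingCat.hom_ext
    apply RingHom.ext
    intro a
    rfl)

/-- functions on a discrete quotient as locally constant functions -/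
noncomputable def lcIncl (S : DiscreteQuotient T) : (S → A) →+* LocallyConstant T A where
  toFun φ := ⟨φ ∘ S.proj, S.proj_isLocallyConstant.comp φ⟩
  map_one' := by ext; rfl
  map_mul' _ _ := by ext; rfl
  map_zero' := by ext; rfl
  map_add' _ _ := by ext; rfl

lemma lcIncl_apply (S : DiscreteQuotient T) (φ : S → A) (t : T) :
    lcIncl A T S φ t = φ (S.proj t) := rfl

/-- the diagram indexed by discrete quotients (finer is larger) -/
noncomputable def lcDiag : (DiscreteQuotient T)ᵒᵈ ⥤ Under (CommRingCat.of A) where
  obj i := lcObj A T (OrderDual.ofDual i)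
  map {i j} f := lcMap A T (leOfHom f : OrderDual.ofDual j ≤ OrderDual.ofDual i)
  map_id i := by
    apply Under.UnderMorphism.ext
    apply CommRingCat.hom_ext
    apply RingHom.ext
    intro φ
    funext k
    show φ (DiscreteQuotient.ofLE _ k) = φ k
    rw [DiscreteQuotient.ofLE_refl_apply]
  map_comp {i j k} f g := by
    apply Under.UnderMorphism.ext
    apply CommRingCat.hom_ext
    apply RingHom.ext
    intro φ
    funext l
    show φ (DiscreteQuotient.ofLE _ l) = φ (DiscreteQuotient.ofLE _ (DiscreteQuotient.ofLE _ l))
    rw [DiscreteQuotient.ofLE_ofLE]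

/-- the cocone with point `LocallyConstant T A` -/
noncomputable def lcCocone : Cocone (lcDiag A T) where
  pt := Under.mk (CommRingCat.ofHom (algebraMap A (LocallyConstant T A)))
  ι :=
    { app := fun i => Under.homMk (CommRingCat.ofHom (lcIncl A T (OrderDual.ofDual i))) (by
        apply CommRingCat.hom_ext
        apply RingHom.ext
        intro a
        refine LocallyConstant.ext (fun t => ?_)
        rfl)
      naturality := fun i j f => by
        apply Under.UnderMorphism.ext
        apply CommRingCat.hom_ext
        apply RingHom.ext
        intro φ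
        refine LocallyConstant.ext (fun t => ?_)
        show φ (DiscreteQuotient.ofLE _ ((OrderDual.ofDual j).proj t)) =
          φ ((OrderDual.ofDual i).proj t)
        rw [DiscreteQuotient.ofLE_proj] }

lemma lcCocone_isColimit : Nonempty (IsColimit (lcCocone A T)) := by
  apply Groth.Agent.Helper7.UnderColim.isColimit_of_elementwise
  · intro s
    refine ⟨OrderDual.toDual (LocallyConstant.discreteQuotient (s : LocallyConstant T A)),
      (fun k => (LocallyConstant.lift (s : LocallyConstant T A)) k), ?_⟩
    apply LocallyConstant.ext
    intro t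
    rfl
  · intro i y y' hyy'
    refine ⟨i, 𝟙 i, ?_⟩
    have h1 : lcIncl A T (OrderDual.ofDual i) y = lcIncl A T (OrderDual.ofDual i) y' := hyy'
    have h2 : (y : ((OrderDual.ofDual i : DiscreteQuotient T) : Type u) → A) = y' := by
      funext k
      obtain ⟨t, rfl⟩ := (OrderDual.ofDual i).proj_surjective k
      exact congrArg (fun s : LocallyConstant T A => s t) h1
    exact congrArg _ h2

/-- The ring of locally constant functions on a compact space is a filtered colimit of Zariski
localizations (finite products of copies of `A`). -/
theorem isIndZarLoc_locallyConstant : IsIndZarLoc A (LocallyConstant T A) := by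
  obtain ⟨hc⟩ := lcCocone_isColimit A T
  refine ⟨(DiscreteQuotient T)ᵒᵈ, inferInstance, inferInstance, lcDiag A T, lcCocone A T, hc,
    fun i => ?_, ⟨Iso.refl _⟩⟩
  letI := ((lcDiag A T).obj i).hom.hom.toAlgebra
  let S : DiscreteQuotient T := OrderDual.ofDual i
  refine ⟨(S : Type u), (inferInstance : Finite S), fun _ => 1, fun _ => A,
    fun _ => inferInstance, fun _ => inferInstance,
    fun _ => IsLocalization.away_of_isUnit_of_bijective A isUnit_one Function.bijective_id, ⟨?_⟩⟩
  exact AlgEquiv.ofRingEquiv (f := RingEquiv.refl _) (fun a => rfl)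

end LC

end H9FE.IZ
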