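import Mathlib
import Groth.Prelude.Def_PBC
import Groth.Prelude.Def_ProEtW
import Groth.Agent.Lib.Helper6.IndEtElim
import Groth.Agent.Lib.Helper6.FlatFiltered

/-! helper9: general facts about ind-Zariski algebras (`EtPBC.IsIndZariski`): elementwise
description, flatness, they identify local rings; two-out-of-three and composition for
`EtPBC.IdentifiesLocalRings`; invariance under algebra isomorphisms; `Spec` of a ring map is a
spectral map; invariance of w-locality under homeomorphisms. -/

set_option autoImplicit false
universe u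
open CategoryTheory CategoryTheory.Limits

namespace H9FE.IZ

set_option linter.style.haveILetI false
set_option linter.unusedSectionVars false

section Elementwise

/-- An ind-Zariski algebra as an elementwise filtered system of local isomorphisms. -/
theorem exists_system {A B : Type u} [CommRing A] [CommRing B] [Algebra A B]
    (h : EtPBC.IsIndZariski A B) :
    ∃ (J : Type u) (_ : SmallCategory J) (_ : IsFiltered J) (E : J → Type u)
      (_ : ∀ j, CommRing (E j)) (_ : ∀ j, Algebra A (E j)) (_ : ∀ j, Algebra.IsLocalIso A (E j))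
      (φ : ∀ j, E j →ₐ[A] B) (τ : ∀ j k : J, (j ⟶ k) → (E j →ₐ[A] E k)),
      (∀ (j k : J) (f : j ⟶ k) (x : E j), φ k (τ j k f x) = φ j x) ∧
      (∀ b : B, ∃ (j : J) (x : E j), φ j x = b) ∧
      (∀ (j : J) (x y : E j), φ j x = φ j y → ∃ (k : J) (f : j ⟶ k), τ j k f x = τ j k f y) := by
  obtain ⟨J, _, _, D, c, hc, hEt, ⟨iso⟩⟩ := h
  obtain ⟨hsurj, hinj⟩ :=
    Groth.Agent.Lib.Helper6.IndEt.elim_elementwise (CommRingCat.of A) D c hc
  letI alg : ∀ j, Algebra A ((D.obj j).right : Type u) := fun j => (D.obj j).hom.hom.toAlgebra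
  have hcomm : ∀ (j : J) (a : A), iso.hom.right.hom ((c.ι.app j).right.hom
      (algebraMap A ((D.obj j).right : Type u) a)) = algebraMap A B a := by
    intro j a
    have h1 : (c.ι.app j).right.hom ((D.obj j).hom.hom a) = c.pt.hom.hom a := by
      have := Under.w (c.ι.app j)
      exact congrArg (fun f => f.hom a) this
    have h2 : iso.hom.right.hom (c.pt.hom.hom a) = algebraMap A B a := by
      have := Under.w iso.hom
      exact congrArg (fun f => f.hom a) this
    show iso.hom.right.hom ((c.ι.app j).right.hom ((D.obj j).hom.hom a)) = _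
    rw [h1, h2]
  let φ : ∀ j, ((D.obj j).right : Type u) →ₐ[A] B := fun j =>
    { toRingHom := iso.hom.right.hom.comp (c.ι.app j).right.hom
      commutes' := fun a => hcomm j a }
  let τ : ∀ j k : J, (j ⟶ k) → (((D.obj j).right : Type u) →ₐ[A] ((D.obj k).right : Type u)) :=
    fun j k f =>
    { toRingHom := (D.map f).right.hom
      commutes' := fun a => by
        have := Under.w (D.map f)
        exact congrArg (fun g => g.hom a) this }
  have hiso_inj : Function.Injective iso.hom.right.hom := by
    intro x y hxy
    have h1 : iso.inv.right.hom (iso.hom.right.hom x) = x := by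
      have : iso.hom.right ≫ iso.inv.right = 𝟙 _ := by
        rw [← Under.comp_right, iso.hom_inv_id]; rfl
      exact congrArg (fun g => g.hom x) this
    have h2 : iso.inv.right.hom (iso.hom.right.hom y) = y := by
      have : iso.hom.right ≫ iso.inv.right = 𝟙 _ := by
        rw [← Under.comp_right, iso.hom_inv_id]; rfl
      exact congrArg (fun g => g.hom y) this
    rw [← h1, ← h2, hxy]
  have hiso_surj : Function.Surjective iso.hom.right.hom := by
    intro b
    refine ⟨iso.inv.right.hom b, ?_⟩
    have : iso.inv.right ≫ iso.hom.right = 𝟙 _ := by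
      rw [← Under.comp_right, iso.inv_hom_id]; rfl
    exact congrArg (fun g => g.hom b) this
  refine ⟨J, inferInstance, inferInstance, fun j => ((D.obj j).right : Type u),
    fun j => inferInstance, alg, hEt, φ, τ, ?_, ?_, ?_⟩
  · intro j k f x
    show iso.hom.right.hom ((c.ι.app k).right.hom ((D.map f).right.hom x)) =
      iso.hom.right.hom ((c.ι.app j).right.hom x)
    have := c.w f
    have h1 : (c.ι.app k).right.hom ((D.map f).right.hom x) = (c.ι.app j).right.hom x := by
      have h2 : (D.map f).right ≫ (c.ι.app k).right = (c.ι.app j).right := by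
        rw [← Under.comp_right, this]
      exact congrArg (fun g => g.hom x) h2
    rw [h1]
  · intro b
    obtain ⟨x, rfl⟩ := hiso_surj b
    obtain ⟨j, y, hy⟩ := hsurj x
    exact ⟨j, y, congrArg iso.hom.right.hom hy⟩
  · intro j x y hxy
    exact hinj j x y (hiso_inj hxy)

end Elementwise

section Flat

theorem flat_of_isLocalIso (R S : Type u) [CommRing R] [CommRing S] [Algebra R S]
    [Algebra.IsLocalIso R S] : Module.Flat R S := by
  rw [← RingHom.flat_algebraMap_iff]
  refine RingHom.Flat.ofLocalizationSpanTarget (algebraMap R S) _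
    (Algebra.IsLocalIso.span_isStandardOpenImmersion_eq_top R S) ?_
  rintro ⟨g, hg⟩
  obtain ⟨r, hr⟩ := (hg : Algebra.IsStandardOpenImmersion R (Localization.Away g))
  have h1 : (algebraMap S (Localization.Away g)).comp (algebraMap R S) =
      algebraMap R (Localization.Away g) := (IsScalarTower.algebraMap_eq R S _).symm
  rw [h1, RingHom.flat_algebraMap_iff]
  exact IsLocalization.flat _ (Submonoid.powers r)

theorem flat_of_isIndZariski (A B : Type u) [CommRing A] [CommRing B] [Algebra A B]
    (h : EtPBC.IsIndZariski A B) : Module.Flat A B := by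
  obtain ⟨J, _, _, E, _, _, hLI, φ, τ, hcompat, hsurj, hinj⟩ := exists_system h
  obtain ⟨j₀⟩ := IsFiltered.nonempty (C := J)
  rw [← RingHom.flat_algebraMap_iff]
  refine Groth.Agent.Lib.Helper6.IndEt.flat_of_filtered (J := J) (algebraMap A B) (fun _ => A) E
    (fun j => algebraMap A (E j)) (fun j => ?_) (fun _ => RingHom.id A)
    (fun j => (φ j).toRingHom) (fun j r => (φ j).commutes r) (fun _ _ _ => RingHom.id A)
    (fun j k f => (τ j k f).toRingHom) (fun j k f r => (τ j k f).commutes r)
    (fun _ _ _ _ => rfl) (fun j k f s => hcompat j k f s) (fun r => ⟨j₀, r, rfl⟩) hsurj hinj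
  rw [RingHom.flat_algebraMap_iff]
  exact flat_of_isLocalIso A (E j)

end Flat

section ILR

lemma atPrime_congr {R L : Type*} [CommRing R] [CommRing L] [Algebra R L] (I J : Ideal R)
    [I.IsPrime] [J.IsPrime] (h : I = J) (H : IsLocalization.AtPrime L I) :
    IsLocalization.AtPrime L J := by
  subst h
  exact H

/-- A local isomorphism induces isomorphisms on local rings. -/
theorem bijective_localRingHom_of_isLocalIso (R E : Type u) [CommRing R] [CommRing E]
    [Algebra R E] [Algebra.IsLocalIso R E] (q : Ideal E) [hq : q.IsPrime] (I : Ideal R)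
    [I.IsPrime] (hI : I = q.comap (algebraMap R E)) :
    Function.Bijective (Localization.localRingHom I q (algebraMap R E) hI) := by
  obtain ⟨g, hgq, hstd⟩ := Algebra.IsLocalIso.exists_notMem_isStandardOpenImmersion (R := R) q
  obtain ⟨r, hr⟩ := hstd
  have hdisj : Disjoint (Submonoid.powers g : Set E) (q : Set E) :=
    (Ideal.disjoint_powers_iff_notMem_of_isPrime g).mpr hgq
  haveI hq' : (Ideal.map (algebraMap E (Localization.Away g)) q).IsPrime :=
    IsLocalization.isPrime_of_isPrime_disjoint (Submonoid.powers g) (Localization.Away g) q hq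
      hdisj
  have hq'q : (Ideal.map (algebraMap E (Localization.Away g)) q).comap
      (algebraMap E (Localization.Away g)) = q :=
    IsLocalization.under_map_of_isPrime_disjoint (Submonoid.powers g) (Localization.Away g) hq
      hdisj
  have hE : IsLocalization.AtPrime
      (Localization.AtPrime (Ideal.map (algebraMap E (Localization.Away g)) q))
      ((Ideal.map (algebraMap E (Localization.Away g)) q).comap
        (algebraMap E (Localization.Away g))) :=
    IsLocalization.isLocalization_isLocalization_atPrime_isLocalization (Submonoid.powers g) _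
      (Ideal.map (algebraMap E (Localization.Away g)) q)
  have hR : IsLocalization.AtPrime
      (Localization.AtPrime (Ideal.map (algebraMap E (Localization.Away g)) q))
      ((Ideal.map (algebraMap E (Localization.Away g)) q).comap
        (algebraMap R (Localization.Away g))) :=
    IsLocalization.isLocalization_isLocalization_atPrime_isLocalization (Submonoid.powers r) _
      (Ideal.map (algebraMap E (Localization.Away g)) q)
  have hRI : (Ideal.map (algebraMap E (Localization.Away g)) q).comap
      (algebraMap R (Localization.Away g)) = I := by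
    rw [hI, IsScalarTower.algebraMap_eq R E (Localization.Away g), ← Ideal.comap_comap, hq'q]
  haveI hE' := atPrime_congr _ _ hq'q hE
  haveI hR' := atPrime_congr _ _ hRI hR
  let eA : Localization.AtPrime I ≃ₐ[R]
      Localization.AtPrime (Ideal.map (algebraMap E (Localization.Away g)) q) :=
    IsLocalization.algEquiv I.primeCompl _ _
  let eE : Localization.AtPrime q ≃ₐ[E]
      Localization.AtPrime (Ideal.map (algebraMap E (Localization.Away g)) q) :=
    IsLocalization.algEquiv q.primeCompl _ _
  have key : (eE.toAlgHom.toRingHom).comp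
      (Localization.localRingHom I q (algebraMap R E) hI) = eA.toAlgHom.toRingHom := by
    apply IsLocalization.ringHom_ext I.primeCompl
    ext a
    simp only [RingHom.comp_apply, Localization.localRingHom_to_map]
    have h1 : eE (algebraMap E (Localization.AtPrime q) (algebraMap R E a)) =
        algebraMap E _ (algebraMap R E a) := eE.commutes _
    have h2 : eA (algebraMap R (Localization.AtPrime I) a) = algebraMap R _ a := eA.commutes _
    show eE _ = eA _
    rw [h1, h2]
    exact (IsScalarTower.algebraMap_apply R E _ a).symm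
  have hfun : ⇑(Localization.localRingHom I q (algebraMap R E) hI) = ⇑eE.symm ∘ ⇑eA := by
    funext x
    have := congrArg (fun f => f x) key
    simp only [RingHom.comp_apply] at this
    show _ = eE.symm (eA x)
    rw [AlgEquiv.eq_symm_apply]
    exact this
  rw [hfun]
  exact eE.symm.bijective.comp eA.bijective

theorem bijective_localRingHom_congr {A B : Type u} [CommRing A] [CommRing B] [Algebra A B]
    (q : Ideal B) [q.IsPrime] (h : EtPBC.IdentifiesLocalRings A B) (I : Ideal A) [I.IsPrime]
    (hI : I = q.comap (algebraMap A B)) :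
    Function.Bijective (Localization.localRingHom I q (algebraMap A B) hI) := by
  subst hI
  exact h ⟨q, inferInstance⟩

/-- Ind-Zariski algebras identify local rings. -/
theorem identifiesLocalRings_of_isIndZariski (A B : Type u) [CommRing A] [CommRing B]
    [Algebra A B] (h : EtPBC.IsIndZariski A B) : EtPBC.IdentifiesLocalRings A B := by
  obtain ⟨J, _, _, E, _, _, hLI, φ, τ, hcompat, hsurj, hinj⟩ := exists_system h
  intro q
  have hpj : ∀ j, q.asIdeal.comap (algebraMap A B) =
      (q.asIdeal.comap (φ j).toRingHom).comap (algebraMap A (E j)) := by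
    intro j
    rw [Ideal.comap_comap]
    congr 1
    exact (φ j).comp_algebraMap.symm
  have hbij : ∀ j, Function.Bijective (Localization.localRingHom
      (q.asIdeal.comap (algebraMap A B)) (q.asIdeal.comap (φ j).toRingHom)
      (algebraMap A (E j)) (hpj j)) := fun j =>
    bijective_localRingHom_of_isLocalIso A (E j) _ _ (hpj j)
  constructor
  · rw [injective_iff_map_eq_zero]
    intro x hx
    obtain ⟨a, s, rfl⟩ := IsLocalization.exists_mk'_eq
      (q.asIdeal.comap (algebraMap A B)).primeCompl x
    rw [Localization.localRingHom_mk', IsLocalization.mk'_eq_zero_iff] at hx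
    obtain ⟨m, hm⟩ := hx
    obtain ⟨j, y, hy⟩ := hsurj (m : B)
    have h0 : φ j (y * algebraMap A (E j) a) = φ j 0 := by
      rw [map_mul, hy, AlgHom.commutes, hm, map_zero]
    obtain ⟨k, f, hk⟩ := hinj j _ _ h0
    rw [map_mul, map_zero, AlgHom.commutes] at hk
    have hτy : τ j k f y ∈ (q.asIdeal.comap (φ k).toRingHom).primeCompl := by
      show ¬ (φ k (τ j k f y) ∈ q.asIdeal)
      rw [hcompat, hy]
      exact m.2
    apply (hbij k).1
    rw [map_zero, Localization.localRingHom_mk', IsLocalization.mk'_eq_zero_iff]
    exact ⟨⟨_, hτy⟩, hk⟩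
  · intro z
    obtain ⟨b, t, rfl⟩ := IsLocalization.exists_mk'_eq q.asIdeal.primeCompl z
    obtain ⟨j₁, y₁, hy₁⟩ := hsurj b
    obtain ⟨j₂, y₂, hy₂⟩ := hsurj (t : B)
    have hy : φ (IsFiltered.max j₁ j₂) (τ j₁ _ (IsFiltered.leftToMax j₁ j₂) y₁) = b := by
      rw [hcompat, hy₁]
    have hy' : φ (IsFiltered.max j₁ j₂) (τ j₂ _ (IsFiltered.rightToMax j₁ j₂) y₂) = t := by
      rw [hcompat, hy₂]
    have hy'q : τ j₂ _ (IsFiltered.rightToMax j₁ j₂) y₂ ∈
        (q.asIdeal.comap (φ (IsFiltered.max j₁ j₂)).toRingHom).primeCompl := by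
      show ¬ (φ (IsFiltered.max j₁ j₂) (τ j₂ _ (IsFiltered.rightToMax j₁ j₂) y₂) ∈ q.asIdeal)
      rw [hy']
      exact t.2
    obtain ⟨x, hx⟩ := (hbij (IsFiltered.max j₁ j₂)).2
      (IsLocalization.mk' _ (τ j₁ _ (IsFiltered.leftToMax j₁ j₂) y₁) ⟨_, hy'q⟩)
    refine ⟨x, ?_⟩
    obtain ⟨a, s, rfl⟩ := IsLocalization.exists_mk'_eq
      (q.asIdeal.comap (algebraMap A B)).primeCompl x
    rw [Localization.localRingHom_mk'] at hx ⊢
    rw [IsLocalization.eq] at hx ⊢
    obtain ⟨c, hc⟩ := hx
    refine ⟨⟨φ (IsFiltered.max j₁ j₂) c, c.2⟩, ?_⟩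
    have h3 := congrArg (φ (IsFiltered.max j₁ j₂)) hc
    simp only [map_mul, AlgHom.commutes, hy, hy'] at h3
    exact h3

variable {A B C : Type u} [CommRing A] [CommRing B] [CommRing C] [Algebra A B] [Algebra B C]
  [Algebra A C] [IsScalarTower A B C]

lemma comap_comap_eq (q : Ideal C) :
    (q.comap (algebraMap B C)).comap (algebraMap A B) = q.comap (algebraMap A C) := by
  rw [Ideal.comap_comap, ← IsScalarTower.algebraMap_eq]

lemma localRingHom_comp_eq (q : Ideal C) [q.IsPrime] :
    Localization.localRingHom ((q.comap (algebraMap B C)).comap (algebraMap A B)) q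
      (algebraMap A C) (comap_comap_eq q) =
    (Localization.localRingHom (q.comap (algebraMap B C)) q (algebraMap B C) rfl).comp
      (Localization.localRingHom ((q.comap (algebraMap B C)).comap (algebraMap A B))
        (q.comap (algebraMap B C)) (algebraMap A B) rfl) := by
  apply IsLocalization.ringHom_ext ((q.comap (algebraMap B C)).comap (algebraMap A B)).primeCompl
  ext a
  simp only [RingHom.comp_apply, Localization.localRingHom_to_map]
  rw [IsScalarTower.algebraMap_apply A B C]

/-- two-out-of-three for identifying local rings -/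
theorem identifiesLocalRings_of_comp (hAB : EtPBC.IdentifiesLocalRings A B)
    (hAC : EtPBC.IdentifiesLocalRings A C) : EtPBC.IdentifiesLocalRings B C := by
  intro q
  have h1 := bijective_localRingHom_congr q.asIdeal hAC _ (comap_comap_eq (A := A) (B := B) q.asIdeal)
  have h2 : Function.Bijective (Localization.localRingHom
      ((q.asIdeal.comap (algebraMap B C)).comap (algebraMap A B))
      (q.asIdeal.comap (algebraMap B C)) (algebraMap A B) rfl) :=
    hAB ⟨q.asIdeal.comap (algebraMap B C), inferInstance⟩
  rw [localRingHom_comp_eq, RingHom.coe_comp] at h1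
  exact (Function.Bijective.of_comp_iff _ h2).mp h1

/-- identifying local rings is stable under composition -/
theorem identifiesLocalRings_comp (hAB : EtPBC.IdentifiesLocalRings A B)
    (hBC : EtPBC.IdentifiesLocalRings B C) : EtPBC.IdentifiesLocalRings A C := by
  intro q
  have h2 : Function.Bijective (Localization.localRingHom
      ((q.asIdeal.comap (algebraMap B C)).comap (algebraMap A B))
      (q.asIdeal.comap (algebraMap B C)) (algebraMap A B) rfl) :=
    hAB ⟨q.asIdeal.comap (algebraMap B C), inferInstance⟩
  have h3 : Function.Bijective (Localization.localRingHom (q.asIdeal.comap (algebraMap B C))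
      q.asIdeal (algebraMap B C) rfl) := hBC q
  have h1 : Function.Bijective (Localization.localRingHom
      ((q.asIdeal.comap (algebraMap B C)).comap (algebraMap A B)) q.asIdeal
      (algebraMap A C) (comap_comap_eq q.asIdeal)) := by
    rw [localRingHom_comp_eq, RingHom.coe_comp]
    exact h3.comp h2
  have aux : ∀ (I : Ideal A) [I.IsPrime] (hI : I = q.asIdeal.comap (algebraMap A C)),
      Function.Bijective (Localization.localRingHom I q.asIdeal (algebraMap A C) hI) →
      Function.Bijective (Localization.localRingHom (q.asIdeal.comap (algebraMap A C)) q.asIdeal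
        (algebraMap A C) rfl) := by
    intro I _ hI h
    subst hI
    exact h
  exact aux _ _ h1

end ILR

section Transport

/-- ind-Zariski is invariant under isomorphisms of algebras -/
theorem isIndZariski_of_algEquiv {A B B' : Type u} [CommRing A] [CommRing B] [CommRing B']
    [Algebra A B] [Algebra A B'] (e : B ≃ₐ[A] B') (h : EtPBC.IsIndZariski A B) :
    EtPBC.IsIndZariski A B' := by
  obtain ⟨J, i1, i2, D, c, hc, hD, ⟨iso⟩⟩ := h
  refine ⟨J, i1, i2, D, c, hc, hD, ⟨iso ≪≫ Under.isoMk e.toRingEquiv.toCommRingCatIso ?_⟩⟩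
  ext a
  exact e.commutes a

open PrimeSpectrum in
/-- the map on spectra induced by a ring homomorphism is spectral -/
theorem isSpectralMap_comap {R S : Type*} [CommRing R] [CommRing S] (f : R →+* S) :
    IsSpectralMap (PrimeSpectrum.comap f) := by
  refine ⟨PrimeSpectrum.continuous_comap f, fun s hso hsc => ?_⟩
  classical
  obtain ⟨t, rfl⟩ := isCompact_isOpen_iff.mp ⟨hsc, hso⟩
  have h1 : PrimeSpectrum.comap f ⁻¹' (zeroLocus (t : Set R))ᶜ =
      (zeroLocus ((t.image f : Finset S) : Set S))ᶜ := by
    rw [Set.preimage_compl, preimage_comap_zeroLocus, Finset.coe_image]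
  rw [h1]
  exact (isCompact_isOpen_iff.mpr ⟨t.image f, rfl⟩).1

/-- w-locality is invariant under homeomorphisms (the target being spectral) -/
theorem isWLocal_of_homeomorph {X Y : Type u} [TopologicalSpace X] [TopologicalSpace Y]
    [SpectralSpace Y] (e : X ≃ₜ Y) (h : ProEtW.IsWLocal X) : ProEtW.IsWLocal Y := by
  obtain ⟨_, hc, hu⟩ := h
  have hcl : ∀ y : Y, IsClosed ({y} : Set Y) ↔ IsClosed ({e.symm y} : Set X) := by
    intro y
    rw [← Set.image_singleton, e.symm.isClosed_image]
  refine ⟨inferInstance, ?_, ?_⟩
  · have : {y : Y | IsClosed ({y} : Set Y)} = e.symm ⁻¹' {x : X | IsClosed ({x} : Set X)} := by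
      ext y
      exact hcl y
    rw [this]
    exact hc.preimage e.symm.continuous
  · intro y
    obtain ⟨x', ⟨hx'c, hx's⟩, hx'u⟩ := hu (e.symm y)
    refine ⟨e x', ⟨?_, ?_⟩, ?_⟩
    · rw [hcl, e.symm_apply_apply]
      exact hx'c
    · have := hx's.map e.continuous
      rwa [e.apply_symm_apply] at this
    · rintro y'' ⟨hc'', hs''⟩
      have h4 := hx'u (e.symm y'') ⟨(hcl y'').mp hc'', hs''.map e.symm.continuous⟩
      rw [← h4, e.apply_symm_apply]

end Transport

end H9FE.IZ
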