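import Mathlib

/-! helper9: for a profinite space `T` and a commutative ring `A`, the prime spectrum of the ring
`LocallyConstant T A` is `Spec A × T` (`H9FE.LCSpec.homeo`). -/

set_option autoImplicit false
universe u v
open PrimeSpectrum Topology

namespace H9FE.LCSpec

set_option linter.unusedSectionVars false

variable {T : Type v} [TopologicalSpace T] {A : Type u} [CommRing A]

/-- `(p, t) ↦ ev_t⁻¹(p)`. -/
noncomputable def toSpec (x : PrimeSpectrum A × T) : PrimeSpectrum (LocallyConstant T A) :=
  PrimeSpectrum.comap (LocallyConstant.evalRingHom (Y := A) x.2) x.1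

lemma mem_toSpec (x : PrimeSpectrum A × T) (s : LocallyConstant T A) :
    s ∈ (toSpec x).asIdeal ↔ s x.2 ∈ x.1.asIdeal := Iff.rfl

lemma eval_surjective (t : T) :
    Function.Surjective (LocallyConstant.evalRingHom (X := T) (Y := A) t) :=
  fun a => ⟨LocallyConstant.const T a, rfl⟩

lemma comap_algebraMap_toSpec (x : PrimeSpectrum A × T) :
    PrimeSpectrum.comap (algebraMap A (LocallyConstant T A)) (toSpec x) = x.1 := by
  apply PrimeSpectrum.ext
  ext a
  rfl

lemma charFn_apply_of_mem {W : Set T} (hW : IsClopen W) {t : T} (ht : t ∈ W) :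
    LocallyConstant.charFn A hW t = 1 := by
  rw [LocallyConstant.coe_charFn]
  exact Set.indicator_of_mem ht _

lemma charFn_apply_of_notMem {W : Set T} (hW : IsClopen W) {t : T} (ht : t ∉ W) :
    LocallyConstant.charFn A hW t = 0 := by
  rw [LocallyConstant.coe_charFn]
  exact Set.indicator_of_notMem ht _

lemma charFn_mem_toSpec_iff {W : Set T} (hW : IsClopen W) (x : PrimeSpectrum A × T) :
    LocallyConstant.charFn A hW ∈ (toSpec x).asIdeal ↔ x.2 ∉ W := by
  rw [mem_toSpec]
  by_cases h : x.2 ∈ W
  · rw [charFn_apply_of_mem hW h]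
    exact ⟨fun h1 => absurd h1 x.1.isPrime.one_notMem, fun h2 => absurd h h2⟩
  · rw [charFn_apply_of_notMem hW h]
    exact ⟨fun _ => h, fun _ => zero_mem _⟩

lemma isIdempotentElem_charFn {W : Set T} (hW : IsClopen W) :
    IsIdempotentElem (LocallyConstant.charFn A hW) := by
  ext t
  rw [LocallyConstant.mul_apply]
  by_cases h : t ∈ W
  · rw [charFn_apply_of_mem hW h, mul_one]
  · rw [charFn_apply_of_notMem hW h, mul_zero]

lemma continuous_toSpec : Continuous (toSpec (T := T) (A := A)) := by
  rw [PrimeSpectrum.isTopologicalBasis_basic_opens.continuous_iff]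
  rintro _ ⟨s, rfl⟩
  rw [isOpen_iff_forall_mem_open]
  intro x hx
  refine ⟨(PrimeSpectrum.basicOpen (s x.2) : Set _) ×ˢ (s ⁻¹' {s x.2}), ?_, ?_, ?_⟩
  · rintro ⟨p, t⟩ ⟨hp, ht⟩
    have ht' : s t = s x.2 := ht
    show s t ∉ p.asIdeal
    rw [ht']
    exact hp
  · exact (PrimeSpectrum.basicOpen (s x.2)).isOpen.prod (s.isLocallyConstant.isOpen_fiber _)
  · exact ⟨hx, rfl⟩

variable [T2Space T] [CompactSpace T] [TotallyDisconnectedSpace T]

lemma toSpec_injective : Function.Injective (toSpec (T := T) (A := A)) := by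
  rintro ⟨p, t⟩ ⟨p', t'⟩ h
  have ht : t = t' := by
    by_contra hne
    obtain ⟨W, hW, htW, ht'W⟩ := exists_isClopen_of_totally_separated hne
    have h1 : LocallyConstant.charFn A hW ∈ (toSpec (p', t')).asIdeal :=
      (charFn_mem_toSpec_iff hW _).mpr ht'W
    have h2 : LocallyConstant.charFn A hW ∉ (toSpec (p, t)).asIdeal := fun h3 =>
      (charFn_mem_toSpec_iff hW _).mp h3 htW
    rw [h] at h2
    exact h2 h1
  subst ht
  have hp : p = p' :=
    PrimeSpectrum.comap_injective_of_surjective _ (eval_surjective (A := A) t) h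
  rw [hp]

lemma toSpec_surjective : Function.Surjective (toSpec (T := T) (A := A)) := by
  intro q
  classical
  have key : ∃ t : T, RingHom.ker (LocallyConstant.evalRingHom (X := T) (Y := A) t) ≤ q.asIdeal := by
    by_contra hcon'
    have hcon : ∀ t : T, ¬ RingHom.ker (LocallyConstant.evalRingHom (X := T) (Y := A) t) ≤
        q.asIdeal := fun t ht => hcon' ⟨t, ht⟩
    have h1 : ∀ t : T, ∃ s : LocallyConstant T A, s t = 0 ∧ s ∉ q.asIdeal := by
      intro t
      obtain ⟨s, hs, hsq⟩ := SetLike.not_le_iff_exists.mp (hcon t)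
      exact ⟨s, hs, hsq⟩
    choose s hs0 hsq using h1
    let W : T → Set T := fun t => (s t) ⁻¹' {0}
    have hWc : ∀ t, IsClopen (W t) := fun t => (s t).isLocallyConstant.isClopen_fiber 0
    have hchar : ∀ t, LocallyConstant.charFn A (hWc t) ∈ q.asIdeal := by
      intro t
      have hmul : s t * LocallyConstant.charFn A (hWc t) = 0 := by
        ext x
        rw [LocallyConstant.mul_apply]
        by_cases hx : x ∈ W t
        · have : s t x = 0 := hx
          rw [this, zero_mul]
          rfl
        · rw [charFn_apply_of_notMem _ hx, mul_zero]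
          rfl
      have h0 : s t * LocallyConstant.charFn A (hWc t) ∈ q.asIdeal := by
        rw [hmul]
        exact zero_mem _
      exact (q.isPrime.mem_or_mem h0).resolve_left (hsq t)
    obtain ⟨F, hF⟩ := isCompact_univ.elim_finite_subcover W (fun t => (hWc t).isOpen)
      (fun t _ => Set.mem_iUnion.mpr ⟨t, hs0 t⟩)
    have hprod : ∏ t ∈ F, (1 - LocallyConstant.charFn A (hWc t)) = 0 := by
      ext x
      obtain ⟨t, htF, hxt⟩ : ∃ t ∈ F, x ∈ W t := by simpa using hF (Set.mem_univ x)
      have h2 := map_prod (LocallyConstant.evalRingHom (X := T) (Y := A) x)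
        (fun t => 1 - LocallyConstant.charFn A (hWc t)) F
      have h3 : (∏ t ∈ F, (1 - LocallyConstant.charFn A (hWc t))) x =
          ∏ t ∈ F, (LocallyConstant.evalRingHom (X := T) (Y := A) x)
            (1 - LocallyConstant.charFn A (hWc t)) := h2
      rw [h3]
      apply Finset.prod_eq_zero htF
      show (1 - LocallyConstant.charFn A (hWc t)) x = 0
      rw [LocallyConstant.sub_apply, charFn_apply_of_mem _ hxt]
      simp
    have hmem : ∏ t ∈ F, (1 - LocallyConstant.charFn A (hWc t)) ∈ q.asIdeal := by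
      rw [hprod]
      exact zero_mem _
    obtain ⟨t, -, ht⟩ := (q.isPrime.prod_mem_iff).mp hmem
    have h1mem : (1 : LocallyConstant T A) ∈ q.asIdeal := by
      have := q.asIdeal.add_mem ht (hchar t)
      simpa using this
    exact q.isPrime.one_notMem h1mem
  obtain ⟨t, ht⟩ := key
  have hprime : (q.asIdeal.map (LocallyConstant.evalRingHom (X := T) (Y := A) t)).IsPrime :=
    Ideal.map_isPrime_of_surjective (eval_surjective t) ht
  refine ⟨(⟨_, hprime⟩, t), ?_⟩
  apply PrimeSpectrum.ext
  show Ideal.comap _ (Ideal.map _ q.asIdeal) = q.asIdeal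
  rw [Ideal.comap_map_of_surjective _ (eval_surjective t), sup_eq_left]
  exact ht

lemma image_toSpec_prod (a : A) {W : Set T} (hW : IsClopen W) :
    toSpec '' ((PrimeSpectrum.basicOpen a : Set (PrimeSpectrum A)) ×ˢ W) =
      (PrimeSpectrum.basicOpen (algebraMap A (LocallyConstant T A) a *
        LocallyConstant.charFn A hW) : Set _) := by
  apply Set.Subset.antisymm
  · rintro _ ⟨⟨p, t⟩, ⟨hp, ht⟩, rfl⟩
    show _ ∉ (toSpec (p, t)).asIdeal
    rw [mem_toSpec]
    show a * LocallyConstant.charFn A hW t ∉ p.asIdeal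
    rw [charFn_apply_of_mem hW ht, mul_one]
    exact hp
  · intro q hq
    obtain ⟨⟨p, t⟩, rfl⟩ := toSpec_surjective q
    have hq' : ¬ (a * LocallyConstant.charFn A hW t ∈ p.asIdeal) := hq
    have ht : t ∈ W := by
      by_contra ht
      rw [charFn_apply_of_notMem hW ht, mul_zero] at hq'
      exact hq' (zero_mem _)
    rw [charFn_apply_of_mem hW ht, mul_one] at hq'
    exact ⟨(p, t), ⟨hq', ht⟩, rfl⟩

lemma isOpenMap_toSpec : IsOpenMap (toSpec (T := T) (A := A)) := by
  rw [(PrimeSpectrum.isTopologicalBasis_basic_opens.prod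
    (isTopologicalBasis_isClopen (X := T))).isOpenMap_iff]
  rintro _ ⟨_, ⟨a, rfl⟩, W, hW, rfl⟩
  rw [image_toSpec_prod a hW]
  exact (PrimeSpectrum.basicOpen _).isOpen

/-- The homeomorphism `Spec A × T ≃ₜ Spec (LocallyConstant T A)`. -/
noncomputable def homeo : PrimeSpectrum A × T ≃ₜ PrimeSpectrum (LocallyConstant T A) :=
  (Equiv.ofBijective toSpec ⟨toSpec_injective, toSpec_surjective⟩).toHomeomorphOfContinuousOpen
    continuous_toSpec isOpenMap_toSpec

@[simp] lemma homeo_apply (x : PrimeSpectrum A × T) : homeo x = toSpec x := rfl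

lemma homeo_symm_fst (q : PrimeSpectrum (LocallyConstant T A)) :
    (homeo.symm q).1 = PrimeSpectrum.comap (algebraMap A (LocallyConstant T A)) q := by
  have h := comap_algebraMap_toSpec (homeo.symm q)
  rw [← homeo_apply, Homeomorph.apply_symm_apply] at h
  exact h.symm

end H9FE.LCSpec
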