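import Mathlib
import Groth.Agent.Lib.Helper7.SpecTop
import Groth.Agent.Lib.Helper9.FE.LCSpec

/-! helper9: gluing locally constant functions on `π₀(Spec B)` with values in `B` to elements of
`B`: the ring homomorphism `Glue.rho : LocallyConstant (π₀(Spec B)) B →+* B`, a retraction of the
constants, with `comap rho y = toSpec (y, [y])`. -/

set_option autoImplicit false
universe u
open PrimeSpectrum Topology

namespace H9FE.Glue

open H9FE.LCSpec

set_option linter.unusedSectionVars false

instance t2Space_pi0 (R : Type u) [CommRing R] :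
    T2Space (_root_.ConnectedComponents (PrimeSpectrum R)) :=
  Groth.Agent.Helper7.SpecTop.t2Space_connectedComponents _

variable (B : Type u) [CommRing B]

/-- `π₀(Spec B)` -/
abbrev P0 : Type u := _root_.ConnectedComponents (PrimeSpectrum B)

lemma exists_idem (W : Set (P0 B)) (hW : IsClopen W) :
    ∃ e : B, IsIdempotentElem e ∧
      (_root_.ConnectedComponents.mk ⁻¹' W : Set (PrimeSpectrum B)) = basicOpen e :=
  PrimeSpectrum.isClopen_iff.mp (hW.preimage _root_.ConnectedComponents.continuous_coe)

/-- the idempotent of a clopen subset of `π₀(Spec B)` -/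
noncomputable def idem (W : Set (P0 B)) (hW : IsClopen W) : B := (exists_idem B W hW).choose

lemma idem_isIdempotentElem (W : Set (P0 B)) (hW : IsClopen W) :
    IsIdempotentElem (idem B W hW) := (exists_idem B W hW).choose_spec.1

lemma idem_notMem_iff (W : Set (P0 B)) (hW : IsClopen W) (y : PrimeSpectrum B) :
    idem B W hW ∉ y.asIdeal ↔ _root_.ConnectedComponents.mk y ∈ W := by
  have h := (exists_idem B W hW).choose_spec.2
  have h2 : y ∈ (_root_.ConnectedComponents.mk ⁻¹' W : Set (PrimeSpectrum B)) ↔
      y ∈ (basicOpen (idem B W hW) : Set (PrimeSpectrum B)) := by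
    rw [h]
    rfl
  exact h2.symm

variable {B}

lemma algebraMap_idem_of_notMem (y : PrimeSpectrum B) {e : B} (he : IsIdempotentElem e)
    (h : e ∉ y.asIdeal) : algebraMap B (Localization.AtPrime y.asIdeal) e = 1 := by
  have hu : IsUnit (algebraMap B (Localization.AtPrime y.asIdeal) e) :=
    IsLocalization.map_units _ (⟨e, h⟩ : y.asIdeal.primeCompl)
  have h0 : algebraMap B (Localization.AtPrime y.asIdeal) e *
      (1 - algebraMap B (Localization.AtPrime y.asIdeal) e) = 0 := by
    rw [mul_sub, mul_one, ← map_mul, he.eq, sub_self]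
  have h1 := (hu.mul_right_eq_zero).mp h0
  exact (sub_eq_zero.mp h1).symm

lemma algebraMap_idem_of_mem (y : PrimeSpectrum B) {e : B} (he : IsIdempotentElem e)
    (h : e ∈ y.asIdeal) : algebraMap B (Localization.AtPrime y.asIdeal) e = 0 := by
  have h1 : (1 - e) ∉ y.asIdeal := fun h' => y.isPrime.one_notMem (by
    have := add_mem h' h
    simpa using this)
  have hu : IsUnit (algebraMap B (Localization.AtPrime y.asIdeal) (1 - e)) :=
    IsLocalization.map_units _ (⟨1 - e, h1⟩ : y.asIdeal.primeCompl)
  have h0 : algebraMap B (Localization.AtPrime y.asIdeal) (1 - e) *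
      algebraMap B (Localization.AtPrime y.asIdeal) e = 0 := by
    rw [← map_mul, sub_mul, one_mul, he.eq, sub_self, map_zero]
  exact (hu.mul_right_eq_zero).mp h0

variable (B)

lemma exists_glue (s : LocallyConstant (P0 B) B) :
    ∃ b : B, ∀ y : PrimeSpectrum B, algebraMap B (Localization.AtPrime y.asIdeal) b =
      algebraMap B (Localization.AtPrime y.asIdeal) (s (_root_.ConnectedComponents.mk y)) := by
  classical
  have hcl : ∀ v : B, IsClopen (s ⁻¹' {v}) := fun v => s.isLocallyConstant.isClopen_fiber v
  refine ⟨∑ v ∈ s.range_finite.toFinset, v * idem B _ (hcl v), fun y => ?_⟩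
  rw [map_sum, Finset.sum_eq_single (s (_root_.ConnectedComponents.mk y))]
  · rw [map_mul, algebraMap_idem_of_notMem y (idem_isIdempotentElem B _ _), mul_one]
    rw [idem_notMem_iff]
    rfl
  · intro v _ hv
    rw [map_mul, algebraMap_idem_of_mem y (idem_isIdempotentElem B _ _), mul_zero]
    by_contra hnot
    rw [idem_notMem_iff] at hnot
    exact hv hnot.symm
  · intro hnot
    exfalso
    apply hnot
    rw [Set.Finite.mem_toFinset]
    exact ⟨_root_.ConnectedComponents.mk y, rfl⟩

/-- the glued element -/
noncomputable def glueFun (s : LocallyConstant (P0 B) B) : B := (exists_glue B s).choose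

lemma glueFun_spec (s : LocallyConstant (P0 B) B) (y : PrimeSpectrum B) :
    algebraMap B (Localization.AtPrime y.asIdeal) (glueFun B s) =
      algebraMap B (Localization.AtPrime y.asIdeal) (s (_root_.ConnectedComponents.mk y)) :=
  (exists_glue B s).choose_spec y

variable {B} in
lemma eq_of_forall_localization {b b' : B}
    (h : ∀ y : PrimeSpectrum B, algebraMap B (Localization.AtPrime y.asIdeal) b =
      algebraMap B (Localization.AtPrime y.asIdeal) b') : b = b' := by
  rw [← sub_eq_zero]
  apply eq_zero_of_localization
  intro J hJ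
  have := h ⟨J, hJ.isPrime⟩
  rw [map_sub, this, sub_self]

/-- the gluing homomorphism -/
noncomputable def rho : LocallyConstant (P0 B) B →+* B where
  toFun := glueFun B
  map_one' := eq_of_forall_localization (fun y => by rw [glueFun_spec]; rfl)
  map_mul' s s' := eq_of_forall_localization (fun y => by
    rw [glueFun_spec, map_mul, glueFun_spec, glueFun_spec, ← map_mul]; rfl)
  map_zero' := eq_of_forall_localization (fun y => by rw [glueFun_spec]; rfl)
  map_add' s s' := eq_of_forall_localization (fun y => by
    rw [glueFun_spec, map_add, glueFun_spec, glueFun_spec, ← map_add]; rfl)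

lemma rho_spec (s : LocallyConstant (P0 B) B) (y : PrimeSpectrum B) :
    algebraMap B (Localization.AtPrime y.asIdeal) (rho B s) =
      algebraMap B (Localization.AtPrime y.asIdeal) (s (_root_.ConnectedComponents.mk y)) :=
  glueFun_spec B s y

lemma rho_mem_iff (s : LocallyConstant (P0 B) B) (y : PrimeSpectrum B) :
    rho B s ∈ y.asIdeal ↔ s (_root_.ConnectedComponents.mk y) ∈ y.asIdeal := by
  rw [← IsLocalization.AtPrime.to_map_mem_maximal_iff (Localization.AtPrime y.asIdeal) y.asIdeal,
    ← IsLocalization.AtPrime.to_map_mem_maximal_iff (Localization.AtPrime y.asIdeal) y.asIdeal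
      (s (_root_.ConnectedComponents.mk y)), rho_spec]

lemma rho_const (b : B) : rho B (LocallyConstant.const _ b) = b :=
  eq_of_forall_localization (fun y => rho_spec B _ y)

lemma comap_rho (y : PrimeSpectrum B) :
    PrimeSpectrum.comap (rho B) y = toSpec (y, _root_.ConnectedComponents.mk y) :=
  PrimeSpectrum.ext (Ideal.ext fun s => rho_mem_iff B s y)

end H9FE.Glue
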