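import Mathlib
import Groth.Prelude.Def_PBC
import Groth.Agent.Lib.Helper9.FE.IZ1

/-! helper9: transitivity for ind-Zariski algebras: a generalisation of Mathlib's
`MorphismProperty.IsStableUnderComposition.ind_of_preIndSpreads` to three classes, and its
application `isIndZariski_trans`. -/

set_option autoImplicit false
universe w v u
open CategoryTheory CategoryTheory.Limits

namespace H9FE.IZ

open MorphismProperty in
set_option backward.defeqAttrib.useBackward true in
set_option backward.isDefEq.respectTransparency false in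
/-- `ind P₁` followed by `ind P₂` lies in `ind P₃` provided `P₂`-morphisms out of filtered
colimits descend to `Q`-morphisms at a finite level, `Q` is stable under cobase change and
`P₁` followed by `Q` lies in `P₃`. -/
theorem ind_comp_of_spread {C : Type u} [Category.{v} C]
    [∀ X : C, (IsFinitelyAccessibleCategory.{w} (Under X))] [HasPushouts C]
    {P₁ P₂ Q P₃ : MorphismProperty C} [Q.IsStableUnderCobaseChange]
    (H : P₃ ≤ isFinitelyPresentable.{w} C)
    (hcomp : ∀ {X Y Z : C} (f : X ⟶ Y) (g : Y ⟶ Z), P₁ f → Q g → P₃ (f ≫ g))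
    (hspread : ∀ {J : Type w} [SmallCategory J] [IsFiltered J] {D : J ⥤ C} {c : Cocone D}
      (_ : IsColimit c) {T : C} (f : c.pt ⟶ T), P₂ f →
        ∃ (j : J) (T' : C) (f' : D.obj j ⟶ T') (g : T' ⟶ T),
          IsPushout (c.ι.app j) f' f g ∧ Q f')
    {X Y Z : C} (f : X ⟶ Y) (g : Y ⟶ Z) (hf : ind.{w} P₁ f) (hg : ind.{w} P₂ g) :
    ind.{w} P₃ (f ≫ g) := by
  rw [ind_iff_exists H]
  intro T p u hp hpu
  obtain ⟨J₁, _, _, D₁, s₁, t₁, ht₁, h₁⟩ := hf
  obtain ⟨J₂, _, _, D₂, s₂, t₂, ht₂, h₂⟩ := hg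
  have : IsFinitelyPresentable (CategoryTheory.Under.mk p) := hp
  obtain ⟨j₂, q, hcomp₂, hu⟩ := IsFinitelyPresentable.exists_hom_of_isColimit_under
      ht₂ p ((Functor.const _).map f ≫ s₂) u <| by simp [h₂, hpu]
  obtain ⟨j₁, W, f', g', h, hf'⟩ := hspread ht₁ (s₂.app j₂) (h₂ j₂).left
  let D' : Under j₁ ⥤ C :=
    (Under.post D₁ ⋙ Under.pushout f') ⋙ CategoryTheory.Under.forget _
  let c' : Cocone D' :=
    (Under.pushout f' ⋙ CategoryTheory.Under.forget _).mapCocone
      ((Cocone.mk _ t₁).underPost j₁) |>.extend h.isoPushout.inv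
  let hc' : IsColimit c' :=
    IsColimit.extendIso _ <| isColimitOfPreserves _ (ht₁.underPost j₁)
  let s' : (Functor.const (Under j₁)).obj X ⟶ D' :=
    { app k := s₁.app k.right ≫ pushout.inl _ _
      naturality k l a := by
        have h2 := s₁.naturality a.right
        simp only [Functor.const_obj_obj, Functor.const_obj_map, Category.id_comp] at h2
        simp [h2, D'] }
  obtain ⟨j₃, v, hcomp', hq⟩ := IsFinitelyPresentable.exists_hom_of_isColimit_under
      hc' p s' q <| fun k ↦ by
    simp [c', s', hcomp₂, reassoc_of% (h₁ k.right).right]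
  refine ⟨D'.obj j₃, v, c'.ι.app j₃ ≫ t₂.app j₂, ?_, ?_⟩
  · rwa [reassoc_of% hq]
  · rw [hcomp']
    exact hcomp _ _ (h₁ _).left (Q.pushout_inl _ _ hf')

end H9FE.IZ

namespace H9FE.IZ

universe u₁

/-- An ind-Zariski algebra followed by a filtered colimit of Zariski localizations is
ind-Zariski. -/
theorem isIndZariski_trans (A B C : Type u₁) [CommRing A] [CommRing B] [CommRing C] [Algebra A B]
    [Algebra B C] [Algebra A C] [IsScalarTower A B C] (hAB : EtPBC.IsIndZariski A B)
    (hBC : IsIndZarLoc B C) : EtPBC.IsIndZariski A C := by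
  rw [isIndZariski_iff_indMP] at hAB ⊢
  rw [isIndZarLoc_iff_indMP] at hBC
  have := ind_comp_of_spread.{u₁} (P₁ := localIsoMP.{u₁}) (P₂ := zarMP.{u₁}) (Q := localIsoMP.{u₁})
    (P₃ := localIsoMP.{u₁}) localIsoMP_le_fp
    (fun f g hf hg => rLocalIso_comp _ _ hf hg) (@fun J _ _ D c hc T f hf => zar_spread hc f hf) _ _ hAB hBC
  have h2 : CommRingCat.ofHom (algebraMap A B) ≫ CommRingCat.ofHom (algebraMap B C) =
      CommRingCat.ofHom (algebraMap A C) := by
    ext x
    exact (IsScalarTower.algebraMap_apply A B C x).symm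
  rwa [h2] at this

end H9FE.IZ
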