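import Mathlib
import Groth.Prelude.Def_PBC
import Groth.Agent.Lib.Helper7.SpecTop
import Groth.Agent.Lib.Helper9.FE.LCSpec
import Groth.Agent.Lib.Helper9.FE.IZ2
import Groth.Agent.Lib.Helper9.FE.IZ3

/-! helper9: for a ring `A`, a profinite space `T` and a continuous map `g : T → π₀(Spec A)`, the
ind-Zariski `A`-algebra `PF.B A T g` (a quotient of `LocallyConstant T A` by idempotents) whose
spectrum is the fibre product `Spec A ×_{π₀(Spec A)} T`. -/

set_option autoImplicit false
universe u
open PrimeSpectrum Topology

namespace H9FE.PF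

open H9FE.LCSpec H9FE.IZ

set_option linter.unusedSectionVars false

variable (A : Type u) [CommRing A] (T : Type u) [TopologicalSpace T] [CompactSpace T] [T2Space T]
  [TotallyDisconnectedSpace T] (g : C(T, _root_.ConnectedComponents (PrimeSpectrum A)))

/-- the fibre product as a subset of `Spec A × T` -/
def Z : Set (PrimeSpectrum A × T) := {x | _root_.ConnectedComponents.mk x.1 = g x.2}

/-- idempotents of `LocallyConstant T A` vanishing on `Z` -/
def idemSet : Set (LocallyConstant T A) :=
  {e | IsIdempotentElem e ∧ ∀ x ∈ Z A T g, e ∈ (toSpec x).asIdeal}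

/-- the ideal generated by the idempotents vanishing on `Z` -/
abbrev I : Ideal (LocallyConstant T A) := Ideal.span (idemSet A T g)

/-- the ind-Zariski algebra with spectrum the fibre product -/
abbrev B : Type u := LocallyConstant T A ⧸ I A T g

lemma zeroLocus_I : zeroLocus (I A T g : Set (LocallyConstant T A)) = toSpec '' (Z A T g) := by
  have : T2Space (_root_.ConnectedComponents (PrimeSpectrum A)) :=
    Groth.Agent.Helper7.SpecTop.t2Space_connectedComponents _
  rw [zeroLocus_span]
  apply Set.Subset.antisymm
  · intro q hq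
    obtain ⟨⟨p, t⟩, rfl⟩ := toSpec_surjective q
    refine ⟨(p, t), ?_, rfl⟩
    by_contra hne
    have hne' : _root_.ConnectedComponents.mk p ≠ g t := hne
    obtain ⟨U, hU, hpU, hgU⟩ := exists_isClopen_of_totally_separated hne'
    have hU' : IsClopen (_root_.ConnectedComponents.mk ⁻¹' U : Set (PrimeSpectrum A)) :=
      hU.preimage _root_.ConnectedComponents.continuous_coe
    obtain ⟨a, ha, hUa⟩ := PrimeSpectrum.isClopen_iff.mp hU'
    have hW : IsClopen (g ⁻¹' Uᶜ) := hU.compl.preimage g.continuous
    have he : algebraMap A (LocallyConstant T A) a * LocallyConstant.charFn A hW ∈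
        idemSet A T g := by
      refine ⟨(ha.map (algebraMap A (LocallyConstant T A))).mul (isIdempotentElem_charFn hW), ?_⟩
      rintro ⟨p', t'⟩ hx
      rw [mem_toSpec]
      show a * LocallyConstant.charFn A hW t' ∈ p'.asIdeal
      by_cases ht' : t' ∈ g ⁻¹' Uᶜ
      · rw [charFn_apply_of_mem hW ht', mul_one]
        have h1 : p' ∉ (_root_.ConnectedComponents.mk ⁻¹' U : Set (PrimeSpectrum A)) := by
          intro h2
          have h3 : _root_.ConnectedComponents.mk p' ∈ U := h2
          rw [show _root_.ConnectedComponents.mk p' = g t' from hx] at h3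
          exact ht' h3
        rw [hUa] at h1
        by_contra h4
        exact h1 h4
      · rw [charFn_apply_of_notMem hW ht', mul_zero]
        exact zero_mem _
    have h5 := hq he
    rw [SetLike.mem_coe, mem_toSpec] at h5
    have h6 : a * LocallyConstant.charFn A hW t ∈ p.asIdeal := h5
    rw [charFn_apply_of_mem hW (show t ∈ g ⁻¹' Uᶜ from hgU), mul_one] at h6
    have h7 : p ∈ (_root_.ConnectedComponents.mk ⁻¹' U : Set (PrimeSpectrum A)) := hpU
    rw [hUa] at h7
    exact h7 h6
  · rintro _ ⟨x, hx, rfl⟩
    rw [mem_zeroLocus]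
    intro e he
    exact he.2 x hx

/-- the closed embedding `Spec B → Spec A × T` -/
noncomputable def psi (y : PrimeSpectrum (B A T g)) : PrimeSpectrum A × T :=
  homeo.symm (PrimeSpectrum.comap (algebraMap (LocallyConstant T A) (B A T g)) y)

lemma psi_fst (y : PrimeSpectrum (B A T g)) :
    (psi A T g y).1 = PrimeSpectrum.comap (algebraMap A (B A T g)) y := by
  rw [psi, homeo_symm_fst]
  rfl

lemma toSpec_psi (y : PrimeSpectrum (B A T g)) :
    toSpec (psi A T g y) = PrimeSpectrum.comap (algebraMap (LocallyConstant T A) (B A T g)) y := by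
  rw [psi, ← homeo_apply, Homeomorph.apply_symm_apply]

lemma isClosedEmbedding_psi : IsClosedEmbedding (psi A T g) :=
  homeo.symm.isClosedEmbedding.comp
    (PrimeSpectrum.isClosedEmbedding_comap_of_surjective _ _ Ideal.Quotient.mk_surjective)

lemma range_psi : Set.range (psi A T g) = Z A T g := by
  have h1 : Set.range (PrimeSpectrum.comap (algebraMap (LocallyConstant T A) (B A T g))) =
      zeroLocus (I A T g : Set _) := by
    have := _root_.range_comap_of_surjective (B A T g)
      (algebraMap (LocallyConstant T A) (B A T g)) Ideal.Quotient.mk_surjective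
    rw [this, Ideal.Quotient.algebraMap_eq, Ideal.mk_ker]
  show Set.range (homeo.symm ∘ _) = _
  rw [Set.range_comp, h1, zeroLocus_I, ← Set.image_comp]
  have : ((homeo (T := T) (A := A)).symm ∘ toSpec : PrimeSpectrum A × T → _) = id := by
    funext x
    exact homeo.symm_apply_apply x
  rw [this, Set.image_id]

/-- the projection `Spec B → T` -/
noncomputable def tau (y : PrimeSpectrum (B A T g)) : T := (psi A T g y).2

lemma continuous_tau : Continuous (tau A T g) :=
  continuous_snd.comp (isClosedEmbedding_psi A T g).continuous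

lemma psi_mem (y : PrimeSpectrum (B A T g)) : psi A T g y ∈ Z A T g := by
  rw [← range_psi]
  exact ⟨y, rfl⟩

lemma mk_comap_eq (y : PrimeSpectrum (B A T g)) :
    _root_.ConnectedComponents.mk (PrimeSpectrum.comap (algebraMap A (B A T g)) y) =
      g (tau A T g y) := by
  have h := psi_mem A T g y
  rw [Z, Set.mem_ofPred_eq, psi_fst] at h
  exact h

lemma psi_eq (y : PrimeSpectrum (B A T g)) :
    psi A T g y = (PrimeSpectrum.comap (algebraMap A (B A T g)) y, tau A T g y) :=
  Prod.ext (psi_fst A T g y) rfl

lemma tau_surjective : Function.Surjective (tau A T g) := by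
  intro t
  obtain ⟨p, hp⟩ := _root_.ConnectedComponents.surjective_coe (g t)
  have h : (p, t) ∈ Z A T g := hp
  rw [← range_psi] at h
  obtain ⟨y, hy⟩ := h
  exact ⟨y, congrArg Prod.snd hy⟩

lemma mk_eq_of_tau_eq (y y' : PrimeSpectrum (B A T g)) (h : tau A T g y = tau A T g y') :
    _root_.ConnectedComponents.mk y = _root_.ConnectedComponents.mk y' := by
  apply _root_.ConnectedComponents.coe_eq_coe'.mpr
  have hS : IsPreconnected
      (connectedComponent (psi A T g y').1 ×ˢ ({tau A T g y'} : Set T)) :=
    isPreconnected_connectedComponent.prod isPreconnected_singleton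
  have hSZ : connectedComponent (psi A T g y').1 ×ˢ ({tau A T g y'} : Set T) ⊆
      Set.range (psi A T g) := by
    rw [range_psi]
    rintro ⟨p, t'⟩ ⟨hp, ht'⟩
    have ht'' : t' = tau A T g y' := ht'
    show _root_.ConnectedComponents.mk p = g t'
    rw [ht'', _root_.ConnectedComponents.coe_eq_coe'.mpr hp]
    exact psi_mem A T g y'
  have hpre : IsPreconnected (psi A T g ⁻¹'
      (connectedComponent (psi A T g y').1 ×ˢ ({tau A T g y'} : Set T))) := by
    rw [← (isClosedEmbedding_psi A T g).isInducing.isPreconnected_image,
      Set.image_preimage_eq_of_subset hSZ]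
    exact hS
  have hy' : y' ∈ psi A T g ⁻¹'
      (connectedComponent (psi A T g y').1 ×ˢ ({tau A T g y'} : Set T)) :=
    ⟨mem_connectedComponent, rfl⟩
  have hy : y ∈ psi A T g ⁻¹'
      (connectedComponent (psi A T g y').1 ×ˢ ({tau A T g y'} : Set T)) := by
    refine ⟨?_, h⟩
    apply _root_.ConnectedComponents.coe_eq_coe'.mp
    have h1 : _root_.ConnectedComponents.mk (psi A T g y).1 = g (tau A T g y) := psi_mem A T g y
    have h2 : _root_.ConnectedComponents.mk (psi A T g y').1 = g (tau A T g y') :=
      psi_mem A T g y'
    rw [h1, h2, h]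
  exact hpre.subset_connectedComponent hy' hy

/-- the homeomorphism `π₀(Spec B) ≃ₜ T` -/
noncomputable def eHomeo : _root_.ConnectedComponents (PrimeSpectrum (B A T g)) ≃ₜ T :=
  Continuous.homeoOfEquivCompactToT2
    (f := Equiv.ofBijective (continuous_tau A T g).connectedComponentsLift
      ⟨by
        refine _root_.ConnectedComponents.surjective_coe.forall₂.2 fun a b hab => ?_
        change (continuous_tau A T g).connectedComponentsLift (_root_.ConnectedComponents.mk a) =
          (continuous_tau A T g).connectedComponentsLift (_root_.ConnectedComponents.mk b) at hab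
        rw [Continuous.connectedComponentsLift_apply_coe,
          Continuous.connectedComponentsLift_apply_coe] at hab
        exact mk_eq_of_tau_eq A T g a b hab,
      by
        intro t
        obtain ⟨y, hy⟩ := tau_surjective A T g t
        exact ⟨_root_.ConnectedComponents.mk y,
          ((continuous_tau A T g).connectedComponentsLift_apply_coe y).trans hy⟩⟩)
    (continuous_tau A T g).connectedComponentsLift_continuous

lemma eHomeo_mk (y : PrimeSpectrum (B A T g)) :
    eHomeo A T g (_root_.ConnectedComponents.mk y) = tau A T g y :=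
  (continuous_tau A T g).connectedComponentsLift_apply_coe y

theorem isIndZarLoc_B : IsIndZarLoc (LocallyConstant T A) (B A T g) :=
  isIndZarLoc_quotient_span _ (fun _ he => he.1)

theorem isIndZariski_B : EtPBC.IsIndZariski A (B A T g) :=
  isIndZariski_trans A (LocallyConstant T A) (B A T g)
    (isIndZarLoc_locallyConstant A T).isIndZariski (isIndZarLoc_B A T g)

/-- the statement of S0697 -/
theorem main :
    ∃ (B : Type u) (_ : CommRing B) (_ : Algebra A B)
      (e : _root_.ConnectedComponents (PrimeSpectrum B) ≃ₜ T),
      EtPBC.IsIndZariski A B ∧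
      (∀ y : PrimeSpectrum B,
        g (e (_root_.ConnectedComponents.mk y)) =
          _root_.ConnectedComponents.mk (PrimeSpectrum.comap (algebraMap A B) y)) ∧
      Topology.IsEmbedding (fun y : PrimeSpectrum B =>
        (PrimeSpectrum.comap (algebraMap A B) y, e (_root_.ConnectedComponents.mk y))) ∧
      Set.range (fun y : PrimeSpectrum B =>
        (PrimeSpectrum.comap (algebraMap A B) y, e (_root_.ConnectedComponents.mk y))) =
        {p : PrimeSpectrum A × T | _root_.ConnectedComponents.mk p.1 = g p.2} := by
  have hfun : (fun y : PrimeSpectrum (B A T g) =>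
      (PrimeSpectrum.comap (algebraMap A (B A T g)) y,
        eHomeo A T g (_root_.ConnectedComponents.mk y))) = psi A T g := by
    funext y
    rw [eHomeo_mk, psi_eq]
  refine ⟨B A T g, inferInstance, inferInstance, eHomeo A T g, isIndZariski_B A T g, ?_, ?_, ?_⟩
  · intro y
    rw [eHomeo_mk]
    exact (mk_comap_eq A T g y).symm
  · rw [hfun]
    exact (isClosedEmbedding_psi A T g).isEmbedding
  · rw [hfun]
    exact range_psi A T g

end H9FE.PF
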