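import Mathlib
import Groth.Prelude.Def_PBC
import Groth.Prelude.Def_ProEtW
import Groth.Agent.Lib.Helper7.SpecTop2
import Groth.Agent.Lib.Helper9.FE.PF1
import Groth.Agent.Lib.Helper9.FE.IZ4

/-! helper9: further properties of the fibre-product algebra `PF.B A T g`: closed points,
w-locality when `Spec A` is w-local, surjectivity on spectra when `g` is surjective. -/

set_option autoImplicit false
universe u
open PrimeSpectrum Topology

namespace H9FE.PF

open H9FE.LCSpec H9FE.IZ

set_option linter.unusedSectionVars false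

variable (A : Type u) [CommRing A] (T : Type u) [TopologicalSpace T] [CompactSpace T] [T2Space T]
  [TotallyDisconnectedSpace T] (g : C(T, _root_.ConnectedComponents (PrimeSpectrum A)))

/-- the homeomorphism of `Spec B` with the fibre product -/
noncomputable def homeoSub : PrimeSpectrum (B A T g) ≃ₜ
    {p : PrimeSpectrum A × T // _root_.ConnectedComponents.mk p.1 = g p.2} :=
  ((isClosedEmbedding_psi A T g).isEmbedding.toHomeomorph).trans
    (Homeomorph.setCongr (range_psi A T g))

lemma homeoSub_val (y : PrimeSpectrum (B A T g)) : (homeoSub A T g y).1 = psi A T g y := rfl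

lemma isClosed_singleton_iff (y : PrimeSpectrum (B A T g)) :
    IsClosed ({y} : Set (PrimeSpectrum (B A T g))) ↔
      IsClosed ({PrimeSpectrum.comap (algebraMap A (B A T g)) y} : Set (PrimeSpectrum A)) := by
  have h1 : IsClosed ({y} : Set (PrimeSpectrum (B A T g))) ↔
      IsClosed ({homeoSub A T g y} : Set _) := by
    rw [← Set.image_singleton, (homeoSub A T g).isClosed_image]
  rw [h1, Groth.Agent.Helper7.SpecTop.isClosed_singleton_fibreProduct_iff, homeoSub_val, psi_fst]

theorem isWLocal_B (hA : ProEtW.IsWLocal (PrimeSpectrum A)) :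
    ProEtW.IsWLocal (PrimeSpectrum (B A T g)) := by
  obtain ⟨hS, hc, hu⟩ := hA
  obtain ⟨h1, h2, -⟩ := Groth.Agent.Helper7.SpecTop.wLocal_fibreProduct (PrimeSpectrum A) T g hc hu
  exact isWLocal_of_homeomorph (homeoSub A T g).symm
    ⟨Groth.Agent.Helper7.SpecTop.spectralSpace_fibreProduct (PrimeSpectrum A) T g, h1, h2⟩

theorem isWLocalMap_comap :
    ProEtW.IsWLocalMap (PrimeSpectrum.comap (algebraMap A (B A T g))) :=
  ⟨isSpectralMap_comap _, fun y hy => (isClosed_singleton_iff A T g y).mp hy⟩

theorem closedPoints_B :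
    ProEtW.closedPoints (PrimeSpectrum (B A T g)) =
      PrimeSpectrum.comap (algebraMap A (B A T g)) ⁻¹' ProEtW.closedPoints (PrimeSpectrum A) := by
  ext y
  exact isClosed_singleton_iff A T g y

theorem comap_surjective (hg : Function.Surjective g) :
    Function.Surjective (PrimeSpectrum.comap (algebraMap A (B A T g))) := by
  intro p
  obtain ⟨t, ht⟩ := hg (_root_.ConnectedComponents.mk p)
  have h : (p, t) ∈ Z A T g := ht.symm
  rw [← range_psi] at h
  obtain ⟨y, hy⟩ := h
  refine ⟨y, ?_⟩
  rw [← psi_fst, hy]

theorem flat_B : Module.Flat A (B A T g) :=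
  flat_of_isIndZariski A (B A T g) (isIndZariski_B A T g)

theorem faithfullyFlat_B (hg : Function.Surjective g) : Module.FaithfullyFlat A (B A T g) := by
  haveI := flat_B A T g
  exact Module.FaithfullyFlat.of_comap_surjective (comap_surjective A T g hg)

end H9FE.PF
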