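import Mathlib
import Groth.Prelude.Def_ProEtW
import Groth.Agent.Lib.Helper7.SpecTop2

/-! helper9: w-local spectra of rings.
* `exists_isClopen_of_isWLocal`: in a w-local `Spec R`, two distinct closed points are separated
  by a clopen subset; hence they lie in distinct connected components
  (`mk_ne_mk_of_isWLocal`).
* `bijective_of_identifiesLocalRings`: a ring map identifying local rings between rings with
  w-local spectra, inducing a w-local map and a bijection on `π₀`, is bijective. -/

set_option autoImplicit false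
universe u
open PrimeSpectrum

namespace H9FE.WLoc

set_option linter.style.haveILetI false
set_option linter.unusedSectionVars false

section StepT

variable {R : Type u} [CommRing R]

/-- in a ring where all primes over the radical ideal `J` are maximal, every element is
"von Neumann regular modulo `J`" -/
lemma exists_mul_mem_of_forall_isMaximal (J : Ideal R) (hJ : J.IsRadical)
    (hmax : ∀ p : Ideal R, p.IsPrime → J ≤ p → p.IsMaximal) (a : R) :
    ∃ b : R, a * (1 - a * b) ∈ J := by
  let M : Submonoid R :=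
    { carrier := {x | ∃ (n : ℕ) (b : R), x = a ^ n * (1 - a * b)}
      one_mem' := ⟨0, 0, by simp⟩
      mul_mem' := by
        rintro _ _ ⟨n, b, rfl⟩ ⟨m, b', rfl⟩
        exact ⟨n + m, b + b' - a * b * b', by ring⟩ }
  have hnd : ¬ Disjoint (J : Set R) M := by
    intro hd
    obtain ⟨p, hp, hJp, hpM⟩ := Ideal.exists_le_prime_disjoint J M hd
    have hpm := hmax p hp hJp
    have haM : a ∈ M := ⟨1, 0, by simp⟩
    have hap : a ∉ p := fun h => Set.disjoint_left.mp hpM h haM
    obtain ⟨y, i, hi, hyi⟩ := hpm.exists_inv hap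
    have h1 : (1 - a * y) ∈ p := by
      have : 1 - a * y = i := by rw [← hyi]; ring
      rw [this]; exact hi
    have h2 : (1 - a * y) ∈ M := ⟨0, y, by simp⟩
    exact Set.disjoint_left.mp hpM h1 h2
  rw [Set.not_disjoint_iff] at hnd
  obtain ⟨x, hxJ, n, b, rfl⟩ := hnd
  refine ⟨b, hJ ⟨n + 1, ?_⟩⟩
  have key : ∀ y : R, (a * y) ^ (n + 1) = (a ^ n * y) * (a * y ^ n) := fun y => by ring
  rw [key]
  exact J.mul_mem_right _ hxJ

/-- In a w-local spectrum, two distinct closed points are separated by a clopen subset. -/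
theorem exists_isClopen_of_isWLocal (hW : ProEtW.IsWLocal (PrimeSpectrum R))
    (x x' : PrimeSpectrum R) (hx : IsClosed ({x} : Set (PrimeSpectrum R)))
    (hx' : IsClosed ({x'} : Set (PrimeSpectrum R))) (hne : x ≠ x') :
    ∃ U : Set (PrimeSpectrum R), IsClopen U ∧ x ∈ U ∧ x' ∉ U := by
  obtain ⟨-, hc, hu⟩ := hW
  set X₀ : Set (PrimeSpectrum R) := {x | IsClosed ({x} : Set (PrimeSpectrum R))} with hX₀
  let J : Ideal R := vanishingIdeal X₀
  have hJz : zeroLocus (J : Set R) = X₀ := by
    rw [zeroLocus_vanishingIdeal_eq_closure, hc.closure_eq]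
  have hJrad : J.IsRadical := isRadical_vanishingIdeal X₀
  have hJle : ∀ y : PrimeSpectrum R, IsClosed ({y} : Set (PrimeSpectrum R)) → J ≤ y.asIdeal := by
    intro y hy
    have : y ∈ zeroLocus (J : Set R) := by rw [hJz]; exact hy
    exact (mem_zeroLocus _ _).mp this
  have hmax : ∀ p : Ideal R, p.IsPrime → J ≤ p → p.IsMaximal := by
    intro p hp hJp
    have : (⟨p, hp⟩ : PrimeSpectrum R) ∈ zeroLocus (J : Set R) := (mem_zeroLocus _ _).mpr hJp
    rw [hJz] at this
    exact (isClosed_singleton_iff_isMaximal _).mp this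
  have hxm : x.asIdeal.IsMaximal := (isClosed_singleton_iff_isMaximal _).mp hx
  have hx'm : x'.asIdeal.IsMaximal := (isClosed_singleton_iff_isMaximal _).mp hx'
  have hnle : ¬ x.asIdeal ≤ x'.asIdeal := by
    intro hle
    apply hne
    apply PrimeSpectrum.ext
    exact hxm.eq_of_le hx'm.ne_top hle
  obtain ⟨a, hax, hax'⟩ := SetLike.not_le_iff_exists.mp hnle
  obtain ⟨b, hb⟩ := exists_mul_mem_of_forall_isMaximal J hJrad hmax a
  let I : Ideal R := J ⊔ Ideal.span {a}
  let I' : Ideal R := J ⊔ Ideal.span {1 - a * b}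
  -- dichotomy at closed points
  have hdich : ∀ n : PrimeSpectrum R, IsClosed ({n} : Set (PrimeSpectrum R)) →
      I ≤ n.asIdeal ∨ I' ≤ n.asIdeal := by
    intro n hn
    have hJn := hJle n hn
    rcases n.isPrime.mem_or_mem (hJn hb) with h | h
    · left
      exact sup_le hJn ((Ideal.span_singleton_le_iff_mem _).mpr h)
    · right
      exact sup_le hJn ((Ideal.span_singleton_le_iff_mem _).mpr h)
  have hnot : ∀ n : PrimeSpectrum R, ¬ (I ≤ n.asIdeal ∧ I' ≤ n.asIdeal) := by
    rintro n ⟨h, h'⟩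
    have h1 : a ∈ n.asIdeal := h (Ideal.mem_sup_right (Ideal.mem_span_singleton_self a))
    have h2 : 1 - a * b ∈ n.asIdeal :=
      h' (Ideal.mem_sup_right (Ideal.mem_span_singleton_self _))
    apply n.isPrime.ne_top
    rw [Ideal.eq_top_iff_one]
    have : (1 : R) = (1 - a * b) + a * b := by ring
    rw [this]
    exact n.asIdeal.add_mem h2 (n.asIdeal.mul_mem_right _ h1)
  let M : Submonoid R :=
    { carrier := {z | ∃ i ∈ I, ∃ i' ∈ I', z = (1 + i) * (1 + i')}
      one_mem' := ⟨0, I.zero_mem, 0, I'.zero_mem, by simp⟩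
      mul_mem' := by
        rintro _ _ ⟨i, hi, i', hi', rfl⟩ ⟨j, hj, j', hj', rfl⟩
        refine ⟨i + j + i * j, I.add_mem (I.add_mem hi hj) (I.mul_mem_left _ hj),
          i' + j' + i' * j', I'.add_mem (I'.add_mem hi' hj') (I'.mul_mem_left _ hj'), by ring⟩ }
  have h0M : (0 : R) ∈ M := by
    by_contra h0
    have hd : Disjoint ((⊥ : Ideal R) : Set R) M := by
      rw [Set.disjoint_left]
      intro z hz hzM
      rw [SetLike.mem_coe, Ideal.mem_bot] at hz
      subst hz
      exact h0 hzM
    obtain ⟨p, hp, -, hpM⟩ := Ideal.exists_le_prime_disjoint ⊥ M hd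
    have hpI : p ⊔ I ≠ ⊤ := by
      intro htop
      have h1 : (1 : R) ∈ p ⊔ I := by rw [htop]; trivial
      obtain ⟨z, hz, i, hi, hzi⟩ := Submodule.mem_sup.mp h1
      have hzM : z ∈ M := ⟨-i, I.neg_mem hi, 0, I'.zero_mem, by
        rw [eq_sub_of_add_eq hzi]; ring⟩
      exact Set.disjoint_left.mp hpM hz hzM
    have hpI' : p ⊔ I' ≠ ⊤ := by
      intro htop
      have h1 : (1 : R) ∈ p ⊔ I' := by rw [htop]; trivial
      obtain ⟨z, hz, i, hi, hzi⟩ := Submodule.mem_sup.mp h1
      have hzM : z ∈ M := ⟨0, I.zero_mem, -i, I'.neg_mem hi, by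
        rw [eq_sub_of_add_eq hzi]; ring⟩
      exact Set.disjoint_left.mp hpM hz hzM
    obtain ⟨n, hn, hpn⟩ := Ideal.exists_le_maximal _ hpI
    obtain ⟨n', hn', hpn'⟩ := Ideal.exists_le_maximal _ hpI'
    let y : PrimeSpectrum R := ⟨p, hp⟩
    let N : PrimeSpectrum R := ⟨n, hn.isPrime⟩
    let N' : PrimeSpectrum R := ⟨n', hn'.isPrime⟩
    have hNc : IsClosed ({N} : Set (PrimeSpectrum R)) :=
      (isClosed_singleton_iff_isMaximal _).mpr hn
    have hN'c : IsClosed ({N'} : Set (PrimeSpectrum R)) :=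
      (isClosed_singleton_iff_isMaximal _).mpr hn'
    have hyN : y ⤳ N := (le_iff_specializes y N).mp (le_sup_left.trans hpn)
    have hyN' : y ⤳ N' := (le_iff_specializes y N').mp (le_sup_left.trans hpn')
    obtain ⟨w, -, hw⟩ := hu y
    have e1 : N = w := hw N ⟨hNc, hyN⟩
    have e2 : N' = w := hw N' ⟨hN'c, hyN'⟩
    have e : N = N' := e1.trans e2.symm
    apply hnot N
    refine ⟨le_sup_right.trans hpn, ?_⟩
    rw [e]
    exact le_sup_right.trans hpn'
  obtain ⟨i, hi, i', hi', h0⟩ := h0M
  set u : R := 1 + i with hu_def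
  set u' : R := 1 + i' with hu'_def
  have hunot : ∀ n : PrimeSpectrum R, I ≤ n.asIdeal → u ∉ n.asIdeal := by
    intro n hIn hun
    apply n.isPrime.ne_top
    rw [Ideal.eq_top_iff_one]
    have : (1 : R) = u - i := by rw [hu_def]; ring
    rw [this]
    exact n.asIdeal.sub_mem hun (hIn hi)
  have hu'not : ∀ n : PrimeSpectrum R, I' ≤ n.asIdeal → u' ∉ n.asIdeal := by
    intro n hIn hun
    apply n.isPrime.ne_top
    rw [Ideal.eq_top_iff_one]
    have : (1 : R) = u' - i' := by rw [hu'_def]; ring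
    rw [this]
    exact n.asIdeal.sub_mem hun (hIn hi')
  have hcover : ∀ y : PrimeSpectrum R, u ∉ y.asIdeal ∨ u' ∉ y.asIdeal := by
    intro y
    obtain ⟨n, ⟨hnc, hyn⟩, -⟩ := hu y
    have hle : y.asIdeal ≤ n.asIdeal := (le_iff_specializes y n).mpr hyn
    rcases hdich n hnc with h | h
    · left
      exact fun hy => hunot n h (hle hy)
    · right
      exact fun hy => hu'not n h (hle hy)
  have hdisj : ∀ y : PrimeSpectrum R, ¬ (u ∉ y.asIdeal ∧ u' ∉ y.asIdeal) := by
    rintro y ⟨h, h'⟩
    have : u * u' ∈ y.asIdeal := by rw [← h0]; exact y.asIdeal.zero_mem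
    rcases y.isPrime.mem_or_mem this with h1 | h1
    · exact h h1
    · exact h' h1
  refine ⟨(basicOpen u : Set (PrimeSpectrum R)), ⟨?_, (basicOpen u).isOpen⟩, ?_, ?_⟩
  · have : ((basicOpen u : Set (PrimeSpectrum R)))ᶜ = (basicOpen u' : Set (PrimeSpectrum R)) := by
      ext y
      simp only [Set.mem_compl_iff, SetLike.mem_coe, mem_basicOpen]
      constructor
      · intro h
        rcases hcover y with h1 | h1
        · exact absurd h1 h
        · exact h1
      · intro h h1
        exact hdisj y ⟨h1, h⟩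
    rw [← isOpen_compl_iff, this]
    exact (basicOpen u').isOpen
  · show u ∉ x.asIdeal
    apply hunot x
    exact sup_le (hJle x hx) ((Ideal.span_singleton_le_iff_mem _).mpr hax)
  · show ¬ (u ∉ x'.asIdeal)
    intro h
    apply hdisj x'
    refine ⟨h, hu'not x' ?_⟩
    have h1 : 1 - a * b ∈ x'.asIdeal := by
      rcases x'.isPrime.mem_or_mem (hJle x' hx' hb) with h2 | h2
      · exact absurd h2 hax'
      · exact h2
    exact sup_le (hJle x' hx') ((Ideal.span_singleton_le_iff_mem _).mpr h1)

/-- In a w-local spectrum, distinct closed points lie in distinct connected components. -/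
theorem mk_ne_mk_of_isWLocal (hW : ProEtW.IsWLocal (PrimeSpectrum R))
    (x x' : PrimeSpectrum R) (hx : IsClosed ({x} : Set (PrimeSpectrum R)))
    (hx' : IsClosed ({x'} : Set (PrimeSpectrum R))) (hne : x ≠ x') :
    ConnectedComponents.mk x ≠ ConnectedComponents.mk x' := by
  obtain ⟨U, hU, hxU, hx'U⟩ := exists_isClopen_of_isWLocal hW x x' hx hx' hne
  intro h
  have h1 : x' ∈ connectedComponent x := ConnectedComponents.coe_eq_coe'.mp h.symm
  exact hx'U (hU.connectedComponent_subset hxU h1)

end StepT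

end H9FE.WLoc
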