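import Mathlib
import Groth.Prelude.Def_ProEtW
import Groth.Agent.Lib.Helper9.FE.WLoc2

/-! helper9: `bijective_of_identifiesLocalRings`: a ring map `A → B` identifying local rings, with
`Spec A`, `Spec B` w-local, `Spec B → Spec A` w-local and bijective on `π₀`, is bijective. -/

set_option autoImplicit false
universe u
open PrimeSpectrum

namespace H9FE.WLoc

set_option linter.style.haveILetI false
set_option linter.unusedSectionVars false

section Main

variable (A B : Type u) [CommRing A] [CommRing B] [Algebra A B]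
  (h1 : EtPBC.IdentifiesLocalRings A B) (h2 : ProEtW.IsWLocal (PrimeSpectrum A))
  (h3 : ProEtW.IsWLocal (PrimeSpectrum B))
  (h4 : ProEtW.IsWLocalMap (PrimeSpectrum.comap (algebraMap A B)))
  (h5 : Function.Bijective
      (PrimeSpectrum.continuous_comap (algebraMap A B)).connectedComponentsMap)

include h3 h5 in
/-- closed points of `Spec B` with the same image agree -/
lemma closedPoint_injective (y y' : PrimeSpectrum B) (hy : IsClosed ({y} : Set (PrimeSpectrum B)))
    (hy' : IsClosed ({y'} : Set (PrimeSpectrum B)))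
    (h : comap (algebraMap A B) y = comap (algebraMap A B) y') : y = y' := by
  by_contra hne
  have h6 := mk_ne_mk_of_isWLocal h3 y y' hy hy' hne
  apply h6
  apply h5.1
  show ConnectedComponents.mk (comap (algebraMap A B) y) =
    ConnectedComponents.mk (comap (algebraMap A B) y')
  rw [h]

include h2 h3 h4 h5 in
/-- every closed point of `Spec A` is the image of a closed point of `Spec B` -/
lemma closedPoint_surjective (x : PrimeSpectrum A) (hx : IsClosed ({x} : Set (PrimeSpectrum A))) :
    ∃ y : PrimeSpectrum B, IsClosed ({y} : Set (PrimeSpectrum B)) ∧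
      comap (algebraMap A B) y = x := by
  obtain ⟨c, hc⟩ := h5.2 (ConnectedComponents.mk x)
  obtain ⟨y, rfl⟩ := ConnectedComponents.surjective_coe c
  have hc' : ConnectedComponents.mk (comap (algebraMap A B) y) = ConnectedComponents.mk x := hc
  obtain ⟨y₀, ⟨hy₀c, hyy₀⟩, -⟩ := h3.2.2 y
  refine ⟨y₀, hy₀c, ?_⟩
  by_contra hne
  have hfc : IsClosed ({comap (algebraMap A B) y₀} : Set (PrimeSpectrum A)) := h4.2 y₀ hy₀c
  apply mk_ne_mk_of_isWLocal h2 _ _ hfc hx hne
  rw [← hc']
  have hs : comap (algebraMap A B) y ⤳ comap (algebraMap A B) y₀ :=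
    hyy₀.map (PrimeSpectrum.continuous_comap (algebraMap A B))
  apply ConnectedComponents.coe_eq_coe'.mpr
  have hpc : IsPreconnected (closure ({comap (algebraMap A B) y} : Set (PrimeSpectrum A))) :=
    isPreconnected_singleton.closure
  exact hpc.subset_connectedComponent (subset_closure rfl) (specializes_iff_mem_closure.mp hs)

include h2 h3 h4 h5 in
/-- a prime of `B` whose contraction lies in the contraction of the closed point `y₀` lies
in `y₀` -/
lemma le_of_comap_le (y₀ : PrimeSpectrum B) (hy₀ : IsClosed ({y₀} : Set (PrimeSpectrum B)))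
    (q : Ideal B) [hq : q.IsPrime]
    (hle : q.comap (algebraMap A B) ≤ y₀.asIdeal.comap (algebraMap A B)) : q ≤ y₀.asIdeal := by
  let y : PrimeSpectrum B := ⟨q, hq⟩
  obtain ⟨y₁, ⟨hy₁c, hyy₁⟩, -⟩ := h3.2.2 y
  have hx₀c : IsClosed ({comap (algebraMap A B) y₀} : Set (PrimeSpectrum A)) := h4.2 y₀ hy₀
  have hx₁c : IsClosed ({comap (algebraMap A B) y₁} : Set (PrimeSpectrum A)) := h4.2 y₁ hy₁c
  have hs1 : comap (algebraMap A B) y ⤳ comap (algebraMap A B) y₁ :=
    hyy₁.map (PrimeSpectrum.continuous_comap (algebraMap A B))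
  have hs0 : comap (algebraMap A B) y ⤳ comap (algebraMap A B) y₀ :=
    (le_iff_specializes _ _).mp hle
  obtain ⟨w, -, hw⟩ := h2.2.2 (comap (algebraMap A B) y)
  have e : comap (algebraMap A B) y₁ = comap (algebraMap A B) y₀ :=
    (hw _ ⟨hx₁c, hs1⟩).trans (hw _ ⟨hx₀c, hs0⟩).symm
  have e' : y₁ = y₀ := closedPoint_injective A B h3 h5 y₁ y₀ hy₁c hy₀ e
  rw [← e']
  exact (le_iff_specializes y y₁).mpr hyy₁

include h1 h2 h3 h4 h5 in
theorem injective_of_identifiesLocalRings : Function.Injective (algebraMap A B) := by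
  rw [injective_iff_map_eq_zero]
  intro a ha
  by_contra hne
  let N : Ideal A := Ideal.span {a} |>.annihilator
  have hN : N ≠ ⊤ := by
    intro htop
    have h1N : (1 : A) ∈ N := by rw [htop]; trivial
    have := (Submodule.mem_annihilator_span_singleton _ _).mp h1N
    rw [one_smul] at this
    exact hne this
  obtain ⟨m, hm, hNm⟩ := Ideal.exists_le_maximal N hN
  let x : PrimeSpectrum A := ⟨m, hm.isPrime⟩
  have hx : IsClosed ({x} : Set (PrimeSpectrum A)) := (isClosed_singleton_iff_isMaximal _).mpr hm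
  obtain ⟨y₀, hy₀, hy₀x⟩ := closedPoint_surjective A B h2 h3 h4 h5 x hx
  have hP : y₀.asIdeal.comap (algebraMap A B) = m := congrArg PrimeSpectrum.asIdeal hy₀x
  have hbij := h1 y₀
  have h0 : Localization.localRingHom (y₀.asIdeal.comap (algebraMap A B)) y₀.asIdeal
      (algebraMap A B) rfl (algebraMap A _ a) = 0 := by
    rw [Localization.localRingHom_to_map, ha, map_zero]
  have h0' : algebraMap A (Localization.AtPrime (y₀.asIdeal.comap (algebraMap A B))) a = 0 :=
    hbij.1 (h0.trans (map_zero _).symm)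
  obtain ⟨s, hs⟩ := (IsLocalization.map_eq_zero_iff
    (y₀.asIdeal.comap (algebraMap A B)).primeCompl _ a).mp h0'
  have hsN : (s : A) ∈ N := by
    rw [Submodule.mem_annihilator_span_singleton]
    exact hs
  have : (s : A) ∈ y₀.asIdeal.comap (algebraMap A B) := hP.ge (hNm hsN)
  exact s.2 this

include h1 h2 h3 h4 h5 in
theorem surjective_of_identifiesLocalRings : Function.Surjective (algebraMap A B) := by
  intro b
  let φ := algebraMap A B
  let N : Ideal A :=
    { carrier := {s | ∃ a, φ s * b = φ a}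
      zero_mem' := ⟨0, by simp⟩
      add_mem' := by
        rintro s t ⟨a, ha⟩ ⟨a', ha'⟩
        exact ⟨a + a', by rw [map_add, add_mul, ha, ha', map_add]⟩
      smul_mem' := by
        rintro r s ⟨a, ha⟩
        exact ⟨r * a, by rw [smul_eq_mul, map_mul, mul_assoc, ha, map_mul]⟩ }
  by_cases hN : N = ⊤
  · have h1N : (1 : A) ∈ N := by rw [hN]; trivial
    obtain ⟨a, ha⟩ := h1N
    exact ⟨a, by rw [← ha, map_one, one_mul]⟩
  exfalso
  obtain ⟨m, hm, hNm⟩ := Ideal.exists_le_maximal N hN
  let x : PrimeSpectrum A := ⟨m, hm.isPrime⟩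
  have hx : IsClosed ({x} : Set (PrimeSpectrum A)) := (isClosed_singleton_iff_isMaximal _).mpr hm
  obtain ⟨y₀, hy₀, hy₀x⟩ := closedPoint_surjective A B h2 h3 h4 h5 x hx
  have hP : y₀.asIdeal.comap φ = m := congrArg PrimeSpectrum.asIdeal hy₀x
  have hbij := h1 y₀
  obtain ⟨z, hz⟩ := hbij.2 (algebraMap B (Localization.AtPrime y₀.asIdeal) b)
  obtain ⟨a, s, rfl⟩ := IsLocalization.exists_mk'_eq (y₀.asIdeal.comap φ).primeCompl z
  rw [Localization.localRingHom_mk', IsLocalization.mk'_eq_iff_eq_mul, ← map_mul,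
    IsLocalization.eq_iff_exists y₀.asIdeal.primeCompl] at hz
  obtain ⟨t, ht⟩ := hz
  -- `t` becomes a unit after inverting the image of `A ∖ m`
  let S : Submonoid B := Submonoid.map φ (y₀.asIdeal.comap φ).primeCompl
  have hnd : ¬ Disjoint ((Ideal.span {(t : B)} : Ideal B) : Set B) S := by
    intro hd
    obtain ⟨q, hq, htq, hqS⟩ := Ideal.exists_le_prime_disjoint _ S hd
    have hle : q.comap φ ≤ y₀.asIdeal.comap φ := by
      intro a' ha'
      by_contra hna
      exact Set.disjoint_left.mp hqS ha' ⟨a', hna, rfl⟩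
    have := le_of_comap_le A B h2 h3 h4 h5 y₀ hy₀ q hle
    exact t.2 (this (htq (Ideal.mem_span_singleton_self _)))
  rw [Set.not_disjoint_iff] at hnd
  obtain ⟨w, hwt, s₁, hs₁, rfl⟩ := hnd
  obtain ⟨b', hb'⟩ := Ideal.mem_span_singleton'.mp hwt
  -- conclude
  have hmem : (s₁ * (s : A)) ∈ N := by
    refine ⟨s₁ * a, ?_⟩
    have e1 : φ s₁ = b' * (t : B) := hb'.symm
    have ht' : (t : B) * φ a = (t : B) * (b * φ (s : A)) := ht
    calc φ (s₁ * (s : A)) * b = φ s₁ * (b * φ (s : A)) := by rw [map_mul]; ring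
      _ = b' * ((t : B) * (b * φ (s : A))) := by rw [e1]; ring
      _ = b' * ((t : B) * φ a) := by rw [ht']
      _ = φ s₁ * φ a := by rw [e1]; ring
      _ = φ (s₁ * a) := by rw [map_mul]
  have h1m : (s₁ * (s : A)) ∈ y₀.asIdeal.comap φ := hP.ge (hNm hmem)
  have h2m : (s₁ * (s : A)) ∈ (y₀.asIdeal.comap φ).primeCompl :=
    (y₀.asIdeal.comap φ).primeCompl.mul_mem hs₁ s.2
  exact h2m h1m

include h1 h2 h3 h4 h5 in
theorem bijective_of_identifiesLocalRings : Function.Bijective (algebraMap A B) :=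
  ⟨injective_of_identifiesLocalRings A B h1 h2 h3 h4 h5,
    surjective_of_identifiesLocalRings A B h1 h2 h3 h4 h5⟩

end Main

end H9FE.WLoc
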