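import Mathlib
import Groth.Prelude.Def_PBC
import Groth.Prelude.Def_ProEtW
import Groth.Agent.Lib.Helper9.FE.PF2
import Groth.Agent.Lib.Helper9.FE.Glue
import Groth.Agent.Lib.Helper9.FE.WLoc3

/-! helper9: a ring map `A → B` identifying local rings, with `Spec A`, `Spec B` w-local and
`Spec B → Spec A` w-local, is ind-Zariski: `B` is isomorphic to the fibre-product algebra
`PF.B A (π₀(Spec B)) g`. -/

set_option autoImplicit false
universe u
open PrimeSpectrum Topology

namespace H9FE.PF3

open H9FE.LCSpec H9FE.IZ H9FE.PF H9FE.Glue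

set_option linter.unusedSectionVars false
set_option linter.style.haveILetI false

variable (A B : Type u) [CommRing A] [CommRing B] [Algebra A B]

/-- the map `π₀(Spec B) → π₀(Spec A)` -/
noncomputable def gMap : C(P0 B, P0 A) :=
  ⟨(PrimeSpectrum.continuous_comap (algebraMap A B)).connectedComponentsMap,
    (PrimeSpectrum.continuous_comap (algebraMap A B)).connectedComponentsMap_continuous⟩

lemma gMap_mk (y : PrimeSpectrum B) :
    gMap A B (_root_.ConnectedComponents.mk y) =
      _root_.ConnectedComponents.mk (PrimeSpectrum.comap (algebraMap A B) y) :=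
  (PrimeSpectrum.continuous_comap (algebraMap A B)).connectedComponentsMap_mk y

/-- the map `LocallyConstant (π₀(Spec B)) A → B` -/
noncomputable def kappa0 : LocallyConstant (P0 B) A →+* B :=
  (rho B).comp (LocallyConstant.mapRingHom (algebraMap A B))

lemma kappa0_mem_iff (s : LocallyConstant (P0 B) A) (y : PrimeSpectrum B) :
    kappa0 A B s ∈ y.asIdeal ↔
      s ∈ (toSpec (PrimeSpectrum.comap (algebraMap A B) y,
        _root_.ConnectedComponents.mk y)).asIdeal := by
  show rho B _ ∈ _ ↔ _
  rw [rho_mem_iff, mem_toSpec]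
  rfl

lemma kappa0_eq_zero (e : LocallyConstant (P0 B) A) (he : e ∈ idemSet A (P0 B) (gMap A B)) :
    kappa0 A B e = 0 := by
  have hid : IsIdempotentElem (kappa0 A B e) := he.1.map (kappa0 A B)
  have hnil : IsNilpotent (kappa0 A B e) := by
    rw [← mem_nilradical, nilradical_eq_sInf, Ideal.mem_sInf]
    intro J hJ
    have hJ' : J.IsPrime := hJ
    have h1 := (kappa0_mem_iff A B e ⟨J, hJ'⟩).mpr (he.2 _ (gMap_mk A B ⟨J, hJ'⟩).symm)
    exact h1
  obtain ⟨n, hn⟩ := hnil
  cases n with
  | zero =>
    rw [pow_zero] at hn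
    rw [← mul_one (kappa0 A B e), hn, mul_zero]
  | succ n =>
    rw [hid.pow_succ_eq] at hn
    exact hn

/-- the map `PF.B A (π₀(Spec B)) g → B` -/
noncomputable def kappa : PF.B A (P0 B) (gMap A B) →+* B :=
  Ideal.Quotient.lift (PF.I A (P0 B) (gMap A B)) (kappa0 A B) (fun _ ha =>
    (Ideal.span_le (I := RingHom.ker (kappa0 A B))).mpr
      (fun e he => RingHom.mem_ker.mpr (kappa0_eq_zero A B e he)) ha)

lemma kappa_mk (s : LocallyConstant (P0 B) A) :
    kappa A B (algebraMap (LocallyConstant (P0 B) A) (PF.B A (P0 B) (gMap A B)) s) =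
      kappa0 A B s := rfl

lemma kappa_algebraMap (a : A) :
    kappa A B (algebraMap A (PF.B A (P0 B) (gMap A B)) a) = algebraMap A B a := by
  rw [IsScalarTower.algebraMap_apply A (LocallyConstant (P0 B) A) (PF.B A (P0 B) (gMap A B)),
    kappa_mk]
  exact rho_const B (algebraMap A B a)

/-- the main theorem (S0700) -/
theorem isIndZariski_of_identifiesLocalRings (h1 : EtPBC.IdentifiesLocalRings A B)
    (h2 : ProEtW.IsWLocal (PrimeSpectrum A)) (h3 : ProEtW.IsWLocal (PrimeSpectrum B))
    (h4 : ProEtW.IsWLocalMap (PrimeSpectrum.comap (algebraMap A B))) :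
    EtPBC.IsIndZariski A B := by
  letI : Algebra (PF.B A (P0 B) (gMap A B)) B := (kappa A B).toAlgebra
  haveI : IsScalarTower A (PF.B A (P0 B) (gMap A B)) B :=
    IsScalarTower.of_algebraMap_eq (fun a => (kappa_algebraMap A B a).symm)
  have hIZ : EtPBC.IsIndZariski A (PF.B A (P0 B) (gMap A B)) := isIndZariski_B A _ _
  have hILR : EtPBC.IdentifiesLocalRings (PF.B A (P0 B) (gMap A B)) B :=
    identifiesLocalRings_of_comp (identifiesLocalRings_of_isIndZariski A _ hIZ) h1
  have h2' : ProEtW.IsWLocal (PrimeSpectrum (PF.B A (P0 B) (gMap A B))) :=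
    isWLocal_B A _ _ h2
  have h4' : ProEtW.IsWLocalMap
      (PrimeSpectrum.comap (algebraMap (PF.B A (P0 B) (gMap A B)) B)) := by
    refine ⟨isSpectralMap_comap _, fun y hy => ?_⟩
    rw [PF.isClosed_singleton_iff, ← PrimeSpectrum.comap_comp_apply,
      ← IsScalarTower.algebraMap_eq]
    exact h4.2 y hy
  have hpsi : ∀ y : PrimeSpectrum B,
      psi A (P0 B) (gMap A B)
        (PrimeSpectrum.comap (algebraMap (PF.B A (P0 B) (gMap A B)) B) y) =
      (PrimeSpectrum.comap (algebraMap A B) y, _root_.ConnectedComponents.mk y) := by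
    intro y
    apply toSpec_injective
    rw [toSpec_psi]
    apply PrimeSpectrum.ext
    ext s
    exact kappa0_mem_iff A B s y
  have key : ∀ c : P0 B, eHomeo A (P0 B) (gMap A B)
      ((PrimeSpectrum.continuous_comap
        (algebraMap (PF.B A (P0 B) (gMap A B)) B)).connectedComponentsMap c) = c := by
    intro c
    obtain ⟨y, rfl⟩ := _root_.ConnectedComponents.surjective_coe c
    rw [Continuous.connectedComponentsMap_mk, eHomeo_mk]
    show (psi A (P0 B) (gMap A B) _).2 = _
    rw [hpsi]
  have h5' : Function.Bijective (PrimeSpectrum.continuous_comap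
      (algebraMap (PF.B A (P0 B) (gMap A B)) B)).connectedComponentsMap := by
    constructor
    · intro c c' h
      rw [← key c, ← key c', h]
    · intro c'
      refine ⟨eHomeo A (P0 B) (gMap A B) c', ?_⟩
      apply (eHomeo A (P0 B) (gMap A B)).injective
      rw [key]
  have hbij : Function.Bijective (algebraMap (PF.B A (P0 B) (gMap A B)) B) :=
    H9FE.WLoc.bijective_of_identifiesLocalRings _ B hILR h2' h3 h4' h5'
  exact isIndZariski_of_algEquiv
    (AlgEquiv.ofBijective (IsScalarTower.toAlgHom A (PF.B A (P0 B) (gMap A B)) B) hbij) hIZ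

end H9FE.PF3
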