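import Mathlib
import Groth.Prelude.Def_PBC
import Groth.Prelude.Def_ProEtW
import Groth.Agent.Lib.Helper9.FE.LCSpec
import Groth.Agent.Lib.Helper9.FE.IZ2
import Groth.Agent.Lib.Helper9.FE.IZ3
import Groth.Agent.Lib.Helper9.FE.IZ4

/-! helper9: the w-localization of a ring `A`, constructed as the localization `WLz.Aw A` of the
ring of locally constant functions `Spec A (constructible topology) → A` at the elements
`u_f = f · 1_{D(f)} + 1_{V(f)}`. Its spectrum is `{(p, t) | p ⊆ t} ⊆ Spec A × (Spec A)_cons`. -/

set_option autoImplicit false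
universe u
open PrimeSpectrum Topology

namespace H9FE.WLz

open H9FE.LCSpec H9FE.IZ

set_option linter.unusedSectionVars false

variable (A : Type u) [CommRing A]

/-- `Spec A` with the constructible topology -/
abbrev Tc : Type u := WithConstructibleTopology (PrimeSpectrum A)

/-- the clopen subset of `Tc A` of primes not containing `f` -/
def Dc (f : A) : Set (Tc A) := {t | f ∉ (WithTopology.ofTopology t).asIdeal}

lemma preimage_Dc (f : A) :
    WithTopology.toTopology (constructibleTopology (PrimeSpectrum A)) ⁻¹' (Dc A f) =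
      (basicOpen f : Set (PrimeSpectrum A)) := by
  ext p
  rfl

lemma isClopen_Dc (f : A) : IsClopen (Dc A f) := by
  constructor
  · rw [WithConstructibleTopology.isClosed_iff, preimage_Dc]
    refine @IsClosed.mk _ (constructibleTopology _) _ ?_
    exact IsCompact.isOpen_constructibleTopology_of_isClosed
      (s := (basicOpen f : Set (PrimeSpectrum A))ᶜ)
      (by rw [compl_compl]; exact isCompact_basicOpen f) (basicOpen f).isOpen.isClosed_compl
  · rw [WithConstructibleTopology.isOpen_iff, preimage_Dc]
    exact (isCompact_basicOpen f).isOpen_constructibleTopology_of_isOpen (basicOpen f).isOpen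

instance : TotallySeparatedSpace (Tc A) := by
  rw [totallySeparatedSpace_iff_exists_isClopen]
  intro x y hxy
  have h1 : (WithTopology.ofTopology x).asIdeal ≠ (WithTopology.ofTopology y).asIdeal :=
    fun h => hxy (WithTopology.ofTopology_injective _ (PrimeSpectrum.ext h))
  by_cases hle : (WithTopology.ofTopology x).asIdeal ≤ (WithTopology.ofTopology y).asIdeal
  · have h2 : ¬ (WithTopology.ofTopology y).asIdeal ≤ (WithTopology.ofTopology x).asIdeal :=
      fun h => h1 (le_antisymm hle h)
    obtain ⟨f, hfy, hfx⟩ := SetLike.not_le_iff_exists.mp h2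
    exact ⟨Dc A f, isClopen_Dc A f, hfx, fun h => h hfy⟩
  · obtain ⟨f, hfx, hfy⟩ := SetLike.not_le_iff_exists.mp hle
    exact ⟨(Dc A f)ᶜ, (isClopen_Dc A f).compl, fun h => h hfx, by rw [compl_compl]; exact hfy⟩

instance : T2Space (Tc A) := inferInstance
instance : TotallyDisconnectedSpace (Tc A) := inferInstance
instance : CompactSpace (Tc A) := inferInstance

/-- the element `u_f = f · 1_{D(f)} + 1_{V(f)}` -/
noncomputable def uElem (f : A) : LocallyConstant (Tc A) A :=
  algebraMap A _ f * LocallyConstant.charFn A (isClopen_Dc A f) +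
    LocallyConstant.charFn A (isClopen_Dc A f).compl

lemma uElem_apply_of_mem {f : A} {t : Tc A} (h : t ∈ Dc A f) : uElem A f t = f := by
  show f * LocallyConstant.charFn A (isClopen_Dc A f) t +
    LocallyConstant.charFn A (isClopen_Dc A f).compl t = f
  rw [charFn_apply_of_mem _ h, charFn_apply_of_notMem _ (Set.notMem_compl_iff.mpr h), mul_one,
    add_zero]

lemma uElem_apply_of_notMem {f : A} {t : Tc A} (h : t ∉ Dc A f) : uElem A f t = 1 := by
  show f * LocallyConstant.charFn A (isClopen_Dc A f) t +
    LocallyConstant.charFn A (isClopen_Dc A f).compl t = 1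
  rw [charFn_apply_of_notMem _ h, charFn_apply_of_mem _ (show t ∈ (Dc A f)ᶜ from h), mul_zero,
    zero_add]

/-- the multiplicative set generated by the `u_f` -/
def M : Submonoid (LocallyConstant (Tc A) A) := Submonoid.closure (Set.range (uElem A))

/-- the w-localization of `A` -/
abbrev Aw : Type u := Localization (M A)

/-- the subset `{(p, t) | p ⊆ t}` of `Spec A × (Spec A)_cons` -/
def Wset : Set (PrimeSpectrum A × Tc A) :=
  {x | x.1.asIdeal ≤ (WithTopology.ofTopology x.2).asIdeal}

lemma disjoint_M_iff (x : PrimeSpectrum A × Tc A) :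
    Disjoint (M A : Set (LocallyConstant (Tc A) A)) ((toSpec x).asIdeal : Set _) ↔
      x ∈ Wset A := by
  constructor
  · intro hd f hf
    by_contra hft
    have h1 : uElem A f ∈ (toSpec x).asIdeal := by
      rw [mem_toSpec, uElem_apply_of_mem A (show x.2 ∈ Dc A f from hft)]
      exact hf
    exact Set.disjoint_left.mp hd (Submonoid.subset_closure ⟨f, rfl⟩) h1
  · intro hx
    have hle : M A ≤ (toSpec x).asIdeal.primeCompl := by
      apply Submonoid.closure_le.mpr
      rintro _ ⟨f, rfl⟩
      show uElem A f ∉ (toSpec x).asIdeal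
      rw [mem_toSpec]
      by_cases hft : x.2 ∈ Dc A f
      · rw [uElem_apply_of_mem A hft]
        exact fun hf => hft (hx hf)
      · rw [uElem_apply_of_notMem A hft]
        exact x.1.isPrime.one_notMem
    exact Set.disjoint_left.mpr fun m hm hm' => hle hm hm'

/-- the embedding `Spec A_w → Spec A × (Spec A)_cons` -/
noncomputable def psi (y : PrimeSpectrum (Aw A)) : PrimeSpectrum A × Tc A :=
  homeo.symm (PrimeSpectrum.comap (algebraMap (LocallyConstant (Tc A) A) (Aw A)) y)

lemma toSpec_psi (y : PrimeSpectrum (Aw A)) :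
    toSpec (psi A y) = PrimeSpectrum.comap (algebraMap (LocallyConstant (Tc A) A) (Aw A)) y := by
  rw [psi, ← homeo_apply, Homeomorph.apply_symm_apply]

lemma psi_fst (y : PrimeSpectrum (Aw A)) :
    (psi A y).1 = PrimeSpectrum.comap (algebraMap A (Aw A)) y := by
  rw [psi, homeo_symm_fst]
  rfl

lemma isEmbedding_psi : IsEmbedding (psi A) :=
  homeo.symm.isEmbedding.comp (PrimeSpectrum.localization_comap_isEmbedding (Aw A) (M A))

lemma range_psi : Set.range (psi A) = Wset A := by
  show Set.range (homeo.symm ∘ _) = _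
  rw [Set.range_comp, PrimeSpectrum.localization_comap_range (Aw A) (M A)]
  ext x
  constructor
  · rintro ⟨q, hq, rfl⟩
    rw [← disjoint_M_iff, ← homeo_apply, Homeomorph.apply_symm_apply]
    exact hq
  · intro hx
    refine ⟨toSpec x, (disjoint_M_iff A x).mpr hx, ?_⟩
    rw [← homeo_apply, Homeomorph.symm_apply_apply]

lemma diag_mem (t : Tc A) :
    ((WithTopology.ofTopology t : PrimeSpectrum A), t) ∈ Wset A := by
  show (WithTopology.ofTopology t : PrimeSpectrum A).asIdeal ≤ _
  exact le_refl _

lemma psi_mem (y : PrimeSpectrum (Aw A)) : psi A y ∈ Wset A := by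
  rw [← range_psi]
  exact ⟨y, rfl⟩

lemma exists_psi_eq {x : PrimeSpectrum A × Tc A} (hx : x ∈ Wset A) : ∃ y, psi A y = x := by
  rw [← range_psi] at hx
  exact hx

lemma specializes_iff (y y' : PrimeSpectrum (Aw A)) :
    y ⤳ y' ↔ (psi A y).1.asIdeal ≤ (psi A y').1.asIdeal ∧ (psi A y).2 = (psi A y').2 := by
  rw [← (isEmbedding_psi A).isInducing.specializes_iff]
  constructor
  · intro h
    have h' : ((psi A y).1, (psi A y).2) ⤳ ((psi A y').1, (psi A y').2) := h
    rw [specializes_prod] at h'
    exact ⟨(PrimeSpectrum.le_iff_specializes _ _).mpr h'.1, h'.2.eq⟩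
  · rintro ⟨h1, h2⟩
    have h' : ((psi A y).1, (psi A y).2) ⤳ ((psi A y').1, (psi A y').2) :=
      specializes_prod.mpr ⟨(PrimeSpectrum.le_iff_specializes _ _).mp h1, specializes_of_eq h2⟩
    exact h'

lemma isClosed_singleton_iff (y : PrimeSpectrum (Aw A)) :
    IsClosed ({y} : Set (PrimeSpectrum (Aw A))) ↔
      (psi A y).1 = WithTopology.ofTopology (psi A y).2 := by
  constructor
  · intro hy
    have hx : ((WithTopology.ofTopology (psi A y).2 : PrimeSpectrum A), (psi A y).2) ∈ Wset A :=
      diag_mem A _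
    obtain ⟨y', hy'⟩ := exists_psi_eq A hx
    have hsp : y ⤳ y' := by
      rw [specializes_iff, hy']
      exact ⟨psi_mem A y, rfl⟩
    have h1 := specializes_iff_mem_closure.mp hsp
    rw [hy.closure_eq, Set.mem_singleton_iff] at h1
    rw [h1] at hy'
    exact congrArg Prod.fst hy'
  · intro hy
    rw [← closure_subset_iff_isClosed]
    intro y' hy'
    have hsp : y ⤳ y' := specializes_iff_mem_closure.mpr hy'
    obtain ⟨h1, h2⟩ := (specializes_iff A y y').mp hsp
    have h3 : (psi A y').1.asIdeal ≤ (psi A y).1.asIdeal := by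
      rw [hy, h2]
      exact psi_mem A y'
    have h4 : (psi A y').1 = (psi A y).1 := PrimeSpectrum.ext (le_antisymm h3 h1)
    exact (isEmbedding_psi A).injective (Prod.ext h4 h2.symm)

lemma isClosed_closedPoints :
    IsClosed {y : PrimeSpectrum (Aw A) | IsClosed ({y} : Set (PrimeSpectrum (Aw A)))} := by
  rw [← isOpen_compl_iff]
  have h : {y : PrimeSpectrum (Aw A) | IsClosed ({y} : Set (PrimeSpectrum (Aw A)))}ᶜ =
      psi A ⁻¹' (⋃ f : A, (basicOpen f : Set (PrimeSpectrum A)) ×ˢ (Dc A f)ᶜ) := by
    ext y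
    simp only [Set.mem_compl_iff, Set.mem_ofPred_eq, Set.mem_preimage, Set.mem_iUnion,
      Set.mem_prod]
    rw [isClosed_singleton_iff]
    constructor
    · intro hne
      have h1 : ¬ (WithTopology.ofTopology (psi A y).2 : PrimeSpectrum A).asIdeal ≤
          (psi A y).1.asIdeal := fun hle =>
        hne (PrimeSpectrum.ext (le_antisymm (psi_mem A y) hle))
      obtain ⟨f, hft, hfp⟩ := SetLike.not_le_iff_exists.mp h1
      exact ⟨f, hfp, fun h' => h' hft⟩
    · rintro ⟨f, hfp, hft⟩ heq
      have hft' : f ∈ (WithTopology.ofTopology (psi A y).2 : PrimeSpectrum A).asIdeal := by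
        by_contra h'
        exact hft h'
      rw [← heq] at hft'
      exact hfp hft'
  rw [h]
  apply (isEmbedding_psi A).continuous.isOpen_preimage
  exact isOpen_iUnion fun f => (basicOpen f).isOpen.prod (isClopen_Dc A f).compl.isOpen

lemma existsUnique_closed_specializes (y : PrimeSpectrum (Aw A)) :
    ∃! y' : PrimeSpectrum (Aw A), IsClosed ({y'} : Set (PrimeSpectrum (Aw A))) ∧ y ⤳ y' := by
  have hx : ((WithTopology.ofTopology (psi A y).2 : PrimeSpectrum A), (psi A y).2) ∈ Wset A :=
    diag_mem A _
  obtain ⟨y', hy'⟩ := exists_psi_eq A hx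
  refine ⟨y', ⟨?_, ?_⟩, ?_⟩
  · rw [isClosed_singleton_iff, hy']
  · rw [specializes_iff, hy']
    exact ⟨psi_mem A y, rfl⟩
  · rintro y'' ⟨hc, hs⟩
    obtain ⟨-, h2⟩ := (specializes_iff A y y'').mp hs
    rw [isClosed_singleton_iff] at hc
    apply (isEmbedding_psi A).injective
    rw [hy']
    exact Prod.ext (by rw [hc, h2]) h2.symm

theorem isWLocal : ProEtW.IsWLocal (PrimeSpectrum (Aw A)) :=
  ⟨inferInstance, isClosed_closedPoints A, existsUnique_closed_specializes A⟩

theorem bijOn_closedPoints :
    Set.BijOn (PrimeSpectrum.comap (algebraMap A (Aw A)))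
      (ProEtW.closedPoints (PrimeSpectrum (Aw A))) Set.univ := by
  refine ⟨fun _ _ => Set.mem_univ _, ?_, ?_⟩
  · intro y hy y' hy' h
    have hy1 : (psi A y).1 = WithTopology.ofTopology (psi A y).2 :=
      (isClosed_singleton_iff A y).mp hy
    have hy1' : (psi A y').1 = WithTopology.ofTopology (psi A y').2 :=
      (isClosed_singleton_iff A y').mp hy'
    rw [← psi_fst, ← psi_fst] at h
    have h2 : (psi A y).2 = (psi A y').2 := by
      apply WithTopology.ofTopology_injective
      rw [← hy1, ← hy1', h]
    exact (isEmbedding_psi A).injective (Prod.ext h h2)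
  · intro p _
    have hx : (p, WithTopology.toTopology _ p) ∈ Wset A := diag_mem A (WithTopology.toTopology _ p)
    obtain ⟨y, hy⟩ := exists_psi_eq A hx
    refine ⟨y, ?_, ?_⟩
    · show IsClosed ({y} : Set (PrimeSpectrum (Aw A)))
      rw [isClosed_singleton_iff, hy]
    · rw [← psi_fst, hy]

theorem isIndZarLoc_Aw : IsIndZarLoc (LocallyConstant (Tc A) A) (Aw A) :=
  isIndZarLoc_of_isLocalization (M A) (Aw A)

theorem isIndZariski_Aw : EtPBC.IsIndZariski A (Aw A) :=
  isIndZariski_trans A (LocallyConstant (Tc A) A) (Aw A)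
    (isIndZarLoc_locallyConstant A (Tc A)).isIndZariski (isIndZarLoc_Aw A)

theorem comap_surjective : Function.Surjective (PrimeSpectrum.comap (algebraMap A (Aw A))) := by
  intro p
  obtain ⟨y, -, hy⟩ := (bijOn_closedPoints A).surjOn (Set.mem_univ p)
  exact ⟨y, hy⟩

theorem faithfullyFlat_Aw : Module.FaithfullyFlat A (Aw A) := by
  haveI : Module.Flat A (Aw A) := flat_of_isIndZariski A (Aw A) (isIndZariski_Aw A)
  exact Module.FaithfullyFlat.of_comap_surjective (comap_surjective A)

end H9FE.WLz
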