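import Mathlib
import Groth.Prelude.Def_PBC
import Groth.Prelude.Def_ProEtW
import Groth.Agent.Lib.Helper9.FE.WLz
import Groth.Agent.Lib.Helper9.FE.Glue
import Groth.Agent.Lib.Helper9.FE.WLoc2

/-! helper9: the universal property of the w-localization `WLz.Aw A`: for every `A`-algebra `B`
with w-local spectrum there is exactly one `A`-algebra map `Aw A → B` inducing a w-local map on
spectra. -/

set_option autoImplicit false
universe u
open PrimeSpectrum Topology

namespace H9FE.WLz2

open H9FE.LCSpec H9FE.IZ H9FE.WLz H9FE.Glue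

set_option linter.unusedSectionVars false
set_option linter.style.haveILetI false

lemma mk_eq_of_specializes' {X : Type*} [TopologicalSpace X] {x x' : X} (h : x ⤳ x') :
    _root_.ConnectedComponents.mk x' = _root_.ConnectedComponents.mk x := by
  apply _root_.ConnectedComponents.coe_eq_coe'.mpr
  have h1 : IsPreconnected (closure ({x} : Set X)) := isPreconnected_singleton.closure
  exact h1.subset_connectedComponent (subset_closure rfl) (specializes_iff_mem_closure.mp h)

section ClosedPts

variable (B : Type u) [CommRing B] (hW : ProEtW.IsWLocal (PrimeSpectrum B))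

/-- the subspace of closed points -/
abbrev Xc : Type u := {x : PrimeSpectrum B // IsClosed ({x} : Set (PrimeSpectrum B))}

/-- the closed point a point specializes to -/
noncomputable def rpt (y : PrimeSpectrum B) : PrimeSpectrum B := (hW.2.2 y).choose

lemma rpt_closed (y : PrimeSpectrum B) : IsClosed ({rpt B hW y} : Set (PrimeSpectrum B)) :=
  (hW.2.2 y).choose_spec.1.1

lemma specializes_rpt (y : PrimeSpectrum B) : y ⤳ rpt B hW y := (hW.2.2 y).choose_spec.1.2

lemma rpt_unique (y y' : PrimeSpectrum B) (hc : IsClosed ({y'} : Set (PrimeSpectrum B)))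
    (hs : y ⤳ y') : y' = rpt B hW y := (hW.2.2 y).choose_spec.2 y' ⟨hc, hs⟩

lemma rpt_of_closed (y : PrimeSpectrum B) (hy : IsClosed ({y} : Set (PrimeSpectrum B))) :
    rpt B hW y = y := (rpt_unique B hW y y hy specializes_rfl).symm

/-- closed points to connected components -/
def mkc : Xc B → P0 B := fun x => _root_.ConnectedComponents.mk x.1

lemma continuous_mkc : Continuous (mkc B) :=
  _root_.ConnectedComponents.continuous_coe.comp continuous_subtype_val

include hW in
lemma mkc_bijective : Function.Bijective (mkc B) := by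
  constructor
  · intro x x' h
    by_contra hne
    exact H9FE.WLoc.mk_ne_mk_of_isWLocal hW x.1 x'.1 x.2 x'.2 (fun h' => hne (Subtype.ext h')) h
  · intro c
    obtain ⟨y, rfl⟩ := _root_.ConnectedComponents.surjective_coe c
    exact ⟨⟨rpt B hW y, rpt_closed B hW y⟩, mk_eq_of_specializes' (specializes_rpt B hW y)⟩

/-- closed points are homeomorphic to connected components -/
noncomputable def hcHomeo : Xc B ≃ₜ P0 B :=
  haveI : CompactSpace (Xc B) := isCompact_iff_compactSpace.mp hW.2.1.isCompact
  Continuous.homeoOfEquivCompactToT2 (f := Equiv.ofBijective (mkc B) (mkc_bijective B hW))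
    (continuous_mkc B)

lemma hcHomeo_apply (x : Xc B) : hcHomeo B hW x = _root_.ConnectedComponents.mk x.1 := rfl

lemma hcHomeo_symm_mk (y : PrimeSpectrum B) :
    (hcHomeo B hW).symm (_root_.ConnectedComponents.mk y) =
      ⟨rpt B hW y, rpt_closed B hW y⟩ := by
  apply (hcHomeo B hW).injective
  rw [Homeomorph.apply_symm_apply, hcHomeo_apply]
  exact (mk_eq_of_specializes' (specializes_rpt B hW y)).symm

end ClosedPts

section Univ

variable (A B : Type u) [CommRing A] [CommRing B] [Algebra A B]
  (hW : ProEtW.IsWLocal (PrimeSpectrum B))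

/-- the map `π₀(Spec B) → Spec A`, image of the closed point of the component -/
noncomputable def theta0 (c : P0 B) : PrimeSpectrum A :=
  PrimeSpectrum.comap (algebraMap A B) ((hcHomeo B hW).symm c).1

lemma theta0_mk (y : PrimeSpectrum B) :
    theta0 A B hW (_root_.ConnectedComponents.mk y) =
      PrimeSpectrum.comap (algebraMap A B) (rpt B hW y) := by
  rw [theta0, hcHomeo_symm_mk]

lemma continuous_theta0 :
    @Continuous _ _ _ (constructibleTopology (PrimeSpectrum A)) (theta0 A B hW) := by
  have hcont : Continuous (theta0 A B hW) :=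
    (PrimeSpectrum.continuous_comap _).comp
      (continuous_subtype_val.comp (hcHomeo B hW).symm.continuous)
  refine (continuous_generateFrom_iff (b := constructibleTopologySubbasis (PrimeSpectrum A))).mpr ?_
  intro s hs
  rcases hs with ⟨ho, -⟩ | ⟨hcl, hc⟩
  · exact ho.preimage hcont
  · rw [← isClosed_compl_iff, ← Set.preimage_compl]
    apply IsCompact.isClosed
    have h1 : IsCompact (PrimeSpectrum.comap (algebraMap A B) ⁻¹' sᶜ) :=
      (isSpectralMap_comap (algebraMap A B)).isCompact_preimage_of_isOpen hcl.isOpen_compl hc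
    have h2 : IsCompact ((Subtype.val : Xc B → PrimeSpectrum B) ⁻¹'
        (PrimeSpectrum.comap (algebraMap A B) ⁻¹' sᶜ)) :=
      hW.2.1.isClosedEmbedding_subtypeVal.isCompact_preimage h1
    exact (hcHomeo B hW).symm.isCompact_preimage.mpr h2

/-- the continuous map `π₀(Spec B) → (Spec A)_cons` -/
noncomputable def thetaBar : C(P0 B, Tc A) where
  toFun c := WithTopology.toTopology _ (theta0 A B hW c)
  continuous_toFun := by
    rw [continuous_def]
    intro s hs
    rw [WithConstructibleTopology.isOpen_iff] at hs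
    exact (@continuous_def _ _ _ (constructibleTopology (PrimeSpectrum A)) _).mp
      (continuous_theta0 A B hW) _ hs

lemma thetaBar_mk (y : PrimeSpectrum B) :
    thetaBar A B hW (_root_.ConnectedComponents.mk y) =
      WithTopology.toTopology _ (PrimeSpectrum.comap (algebraMap A B) (rpt B hW y)) := by
  show WithTopology.toTopology _ (theta0 A B hW _) = _
  rw [theta0_mk]

/-- the ring map `LocallyConstant (Tc A) A → B` -/
noncomputable def Phi0 : LocallyConstant (Tc A) A →+* B :=
  (rho B).comp ((LocallyConstant.mapRingHom (algebraMap A B)).comp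
    (LocallyConstant.comapRingHom (thetaBar A B hW)))

lemma Phi0_mem_iff (s : LocallyConstant (Tc A) A) (y : PrimeSpectrum B) :
    Phi0 A B hW s ∈ y.asIdeal ↔
      s ∈ (toSpec (PrimeSpectrum.comap (algebraMap A B) y,
        thetaBar A B hW (_root_.ConnectedComponents.mk y))).asIdeal := by
  show rho B _ ∈ _ ↔ _
  rw [rho_mem_iff, mem_toSpec]
  rfl

lemma comap_Phi0 (y : PrimeSpectrum B) :
    PrimeSpectrum.comap (Phi0 A B hW) y =
      toSpec (PrimeSpectrum.comap (algebraMap A B) y,
        thetaBar A B hW (_root_.ConnectedComponents.mk y)) :=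
  PrimeSpectrum.ext (Ideal.ext fun s => Phi0_mem_iff A B hW s y)

lemma wset_mem (y : PrimeSpectrum B) :
    (PrimeSpectrum.comap (algebraMap A B) y,
      thetaBar A B hW (_root_.ConnectedComponents.mk y)) ∈ Wset A := by
  rw [thetaBar_mk]
  show (PrimeSpectrum.comap (algebraMap A B) y).asIdeal ≤
    (PrimeSpectrum.comap (algebraMap A B) (rpt B hW y)).asIdeal
  exact Ideal.comap_mono ((PrimeSpectrum.le_iff_specializes _ _).mpr (specializes_rpt B hW y))

lemma isUnit_Phi0 (m : M A) : IsUnit (Phi0 A B hW m) := by
  by_contra hnu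
  obtain ⟨I, hI, hmem⟩ := exists_max_ideal_of_mem_nonunits hnu
  have h1 := (Phi0_mem_iff A B hW (m : LocallyConstant (Tc A) A) ⟨I, hI.isPrime⟩).mp hmem
  have h2 := (disjoint_M_iff A _).mpr (wset_mem A B hW ⟨I, hI.isPrime⟩)
  exact Set.disjoint_left.mp h2 m.2 h1

/-- the ring map `Aw A → B` -/
noncomputable def phiRing : Aw A →+* B :=
  IsLocalization.lift (M := M A) (g := Phi0 A B hW) (isUnit_Phi0 A B hW)

lemma phiRing_algebraMap (s : LocallyConstant (Tc A) A) :
    phiRing A B hW (algebraMap (LocallyConstant (Tc A) A) (Aw A) s) = Phi0 A B hW s :=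
  IsLocalization.lift_eq _ s

lemma Phi0_algebraMap (a : A) :
    Phi0 A B hW (algebraMap A (LocallyConstant (Tc A) A) a) = algebraMap A B a :=
  rho_const B (algebraMap A B a)

/-- the `A`-algebra map `Aw A → B` -/
noncomputable def phi : Aw A →ₐ[A] B :=
  { phiRing A B hW with
    commutes' := fun a => by
      show phiRing A B hW (algebraMap A (Aw A) a) = algebraMap A B a
      rw [IsScalarTower.algebraMap_apply A (LocallyConstant (Tc A) A) (Aw A), phiRing_algebraMap,
        Phi0_algebraMap] }

lemma phi_algebraMap (s : LocallyConstant (Tc A) A) :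
    phi A B hW (algebraMap (LocallyConstant (Tc A) A) (Aw A) s) = Phi0 A B hW s :=
  phiRing_algebraMap A B hW s

omit hW in
lemma psi_fst_comap (φ' : Aw A →ₐ[A] B) (y : PrimeSpectrum B) :
    (psi A (PrimeSpectrum.comap φ'.toRingHom y)).1 = PrimeSpectrum.comap (algebraMap A B) y := by
  rw [psi_fst, ← PrimeSpectrum.comap_comp_apply]
  congr 1
  exact φ'.comp_algebraMap

lemma psi_comap_phi (y : PrimeSpectrum B) :
    psi A (PrimeSpectrum.comap (phi A B hW).toRingHom y) =
      (PrimeSpectrum.comap (algebraMap A B) y,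
        thetaBar A B hW (_root_.ConnectedComponents.mk y)) := by
  apply toSpec_injective
  rw [toSpec_psi, ← comap_Phi0, ← PrimeSpectrum.comap_comp_apply]
  congr 1
  ext s
  exact phi_algebraMap A B hW s

theorem isWLocalMap_phi :
    ProEtW.IsWLocalMap (PrimeSpectrum.comap (phi A B hW).toRingHom) := by
  refine ⟨isSpectralMap_comap _, fun y hy => ?_⟩
  rw [WLz.isClosed_singleton_iff, psi_comap_phi, thetaBar_mk, rpt_of_closed B hW y hy]

theorem comap_eq (φ' : Aw A →ₐ[A] B)
    (hφ' : ProEtW.IsWLocalMap (PrimeSpectrum.comap φ'.toRingHom)) (y : PrimeSpectrum B) :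
    PrimeSpectrum.comap φ'.toRingHom y = PrimeSpectrum.comap (phi A B hW).toRingHom y := by
  apply (isEmbedding_psi A).injective
  rw [psi_comap_phi]
  apply Prod.ext
  · exact psi_fst_comap A B φ' y
  · show (psi A (PrimeSpectrum.comap φ'.toRingHom y)).2 = _
    have hs : PrimeSpectrum.comap φ'.toRingHom y ⤳
        PrimeSpectrum.comap φ'.toRingHom (rpt B hW y) :=
      (specializes_rpt B hW y).map (PrimeSpectrum.continuous_comap _)
    have h2 := ((WLz.specializes_iff A _ _).mp hs).2
    rw [h2]
    have hc := hφ'.2 _ (rpt_closed B hW y)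
    rw [WLz.isClosed_singleton_iff, psi_fst_comap] at hc
    rw [thetaBar_mk]
    apply WithTopology.ofTopology_injective
    rw [← hc]

omit [Algebra A B] hW in
lemma lc_eq_sum (T : Type u) [TopologicalSpace T] [CompactSpace T]
    (s : LocallyConstant T A) :
    s = ∑ v ∈ s.range_finite.toFinset, algebraMap A (LocallyConstant T A) v *
      LocallyConstant.charFn A (s.isLocallyConstant.isClopen_fiber v) := by
  classical
  ext t
  have h2 := map_sum (LocallyConstant.evalRingHom (X := T) (Y := A) t)
    (fun v => algebraMap A (LocallyConstant T A) v *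
      LocallyConstant.charFn A (s.isLocallyConstant.isClopen_fiber v)) s.range_finite.toFinset
  have h3 : (∑ v ∈ s.range_finite.toFinset, algebraMap A (LocallyConstant T A) v *
      LocallyConstant.charFn A (s.isLocallyConstant.isClopen_fiber v)) t =
      ∑ v ∈ s.range_finite.toFinset, (LocallyConstant.evalRingHom (X := T) (Y := A) t)
        (algebraMap A (LocallyConstant T A) v *
          LocallyConstant.charFn A (s.isLocallyConstant.isClopen_fiber v)) := h2
  rw [h3, Finset.sum_eq_single (s t)]
  · show s t = s t * LocallyConstant.charFn A (s.isLocallyConstant.isClopen_fiber (s t)) t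
    have h5 := charFn_apply_of_mem (A := A) (s.isLocallyConstant.isClopen_fiber (s t))
      (show t ∈ s ⁻¹' {s t} from rfl)
    exact ((congrArg (fun z => s t * z) h5).trans (mul_one _)).symm
  · intro v _ hv
    show v * LocallyConstant.charFn A (s.isLocallyConstant.isClopen_fiber v) t = 0
    have h5 := charFn_apply_of_notMem (A := A) (s.isLocallyConstant.isClopen_fiber v)
      (show t ∉ s ⁻¹' {v} from fun h => hv h.symm)
    exact (congrArg (fun z => v * z) h5).trans (mul_zero _)
  · intro hnot
    exfalso
    apply hnot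
    rw [Set.Finite.mem_toFinset]
    exact ⟨t, rfl⟩

theorem phi_unique (φ' : Aw A →ₐ[A] B)
    (hφ' : ProEtW.IsWLocalMap (PrimeSpectrum.comap φ'.toRingHom)) : φ' = phi A B hW := by
  have hcomp : ∀ (ψ : Aw A →ₐ[A] B) (a : A),
      ψ (algebraMap (LocallyConstant (Tc A) A) (Aw A) (algebraMap A _ a)) = algebraMap A B a := by
    intro ψ a
    rw [← IsScalarTower.algebraMap_apply A (LocallyConstant (Tc A) A) (Aw A)]
    exact ψ.commutes a
  have hidem : ∀ (W : Set (Tc A)) (hWc : IsClopen W),
      φ' (algebraMap (LocallyConstant (Tc A) A) (Aw A) (LocallyConstant.charFn A hWc)) =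
      phi A B hW (algebraMap (LocallyConstant (Tc A) A) (Aw A) (LocallyConstant.charFn A hWc)) := by
    intro W hWc
    have he : IsIdempotentElem (algebraMap (LocallyConstant (Tc A) A) (Aw A)
        (LocallyConstant.charFn A hWc)) := (isIdempotentElem_charFn hWc).map _
    apply PrimeSpectrum.basicOpen_injOn_isIdempotentElem (he.map φ') (he.map (phi A B hW))
    apply TopologicalSpace.Opens.ext
    ext y
    show φ' _ ∉ y.asIdeal ↔ phi A B hW _ ∉ y.asIdeal
    have h1 := congrArg (fun z : PrimeSpectrum (Aw A) =>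
      algebraMap (LocallyConstant (Tc A) A) (Aw A) (LocallyConstant.charFn A hWc) ∈ z.asIdeal)
      (comap_eq A B hW φ' hφ' y)
    exact not_congr (Iff.of_eq h1)
  apply AlgHom.coe_ringHom_injective
  apply IsLocalization.ringHom_ext (M A)
  ext s
  show φ' (algebraMap _ _ s) = phi A B hW (algebraMap _ _ s)
  rw [lc_eq_sum A (Tc A) s, map_sum, map_sum, map_sum]
  apply Finset.sum_congr rfl
  intro v _
  rw [map_mul, map_mul, map_mul, hcomp, hcomp, hidem]

end Univ

/-- the statement of S0695 -/
theorem main (A : Type u) [CommRing A] :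
    ∃ (Aw : Type u) (_ : CommRing Aw) (_ : Algebra A Aw),
      Module.FaithfullyFlat A Aw ∧ EtPBC.IsIndZariski A Aw ∧ ProEtW.IsWLocal (PrimeSpectrum Aw) ∧
      ∀ (B : Type u) [CommRing B] [Algebra A B], ProEtW.IsWLocal (PrimeSpectrum B) →
        ∃! φ : Aw →ₐ[A] B, ProEtW.IsWLocalMap (PrimeSpectrum.comap φ.toRingHom) :=
  ⟨Aw A, inferInstance, inferInstance, faithfullyFlat_Aw A, isIndZariski_Aw A, isWLocal A,
    fun B _ _ hW => ⟨phi A B hW, isWLocalMap_phi A B hW, fun φ' hφ' => phi_unique A B hW φ' hφ'⟩⟩

end H9FE.WLz2
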