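import Mathlib
import Groth.Prelude.Def_PBC
import Groth.Prelude.Def_ProEtW
import Groth.Agent.Lib.Helper9.FE.PF3
import Groth.Agent.Lib.Helper9.FE.WLz2
import Groth.Agent.Lib.Helper9.FE.IZ4

/-! helper9: the comparison map `PF3.kappa` is bijective; consequently a tower `A₀ → A → B` with
`A₀ → A` ind-Zariski and `A → B` a w-local map of w-local rings identifying local rings has
`A₀ → B` ind-Zariski.  Application: a map identifying local rings becomes ind-Zariski after a
faithfully flat ind-Zariski extension of the target (the w-localization). -/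

set_option autoImplicit false
universe u
open PrimeSpectrum Topology

namespace H9FE.PF4

open H9FE.LCSpec H9FE.IZ H9FE.PF H9FE.Glue H9FE.PF3

set_option linter.unusedSectionVars false
set_option linter.style.haveILetI false

section Bij

variable (A B : Type u) [CommRing A] [CommRing B] [Algebra A B]

theorem bijective_kappa (h1 : EtPBC.IdentifiesLocalRings A B)
    (h2 : ProEtW.IsWLocal (PrimeSpectrum A)) (h3 : ProEtW.IsWLocal (PrimeSpectrum B))
    (h4 : ProEtW.IsWLocalMap (PrimeSpectrum.comap (algebraMap A B))) :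
    Function.Bijective (kappa A B) := by
  letI : Algebra (PF.B A (P0 B) (gMap A B)) B := (kappa A B).toAlgebra
  haveI : IsScalarTower A (PF.B A (P0 B) (gMap A B)) B :=
    IsScalarTower.of_algebraMap_eq (fun a => (kappa_algebraMap A B a).symm)
  have hIZ : EtPBC.IsIndZariski A (PF.B A (P0 B) (gMap A B)) := isIndZariski_B A _ _
  have hILR : EtPBC.IdentifiesLocalRings (PF.B A (P0 B) (gMap A B)) B :=
    identifiesLocalRings_of_comp (identifiesLocalRings_of_isIndZariski A _ hIZ) h1
  have h2' : ProEtW.IsWLocal (PrimeSpectrum (PF.B A (P0 B) (gMap A B))) :=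
    isWLocal_B A _ _ h2
  have h4' : ProEtW.IsWLocalMap
      (PrimeSpectrum.comap (algebraMap (PF.B A (P0 B) (gMap A B)) B)) := by
    refine ⟨isSpectralMap_comap _, fun y hy => ?_⟩
    rw [PF.isClosed_singleton_iff, ← PrimeSpectrum.comap_comp_apply,
      ← IsScalarTower.algebraMap_eq]
    exact h4.2 y hy
  have hpsi : ∀ y : PrimeSpectrum B,
      psi A (P0 B) (gMap A B)
        (PrimeSpectrum.comap (algebraMap (PF.B A (P0 B) (gMap A B)) B) y) =
      (PrimeSpectrum.comap (algebraMap A B) y, _root_.ConnectedComponents.mk y) := by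
    intro y
    apply toSpec_injective
    rw [toSpec_psi]
    apply PrimeSpectrum.ext
    ext s
    exact kappa0_mem_iff A B s y
  have key : ∀ c : P0 B, eHomeo A (P0 B) (gMap A B)
      ((PrimeSpectrum.continuous_comap
        (algebraMap (PF.B A (P0 B) (gMap A B)) B)).connectedComponentsMap c) = c := by
    intro c
    obtain ⟨y, rfl⟩ := _root_.ConnectedComponents.surjective_coe c
    rw [Continuous.connectedComponentsMap_mk, eHomeo_mk]
    show (psi A (P0 B) (gMap A B) _).2 = _
    rw [hpsi]
  have h5' : Function.Bijective (PrimeSpectrum.continuous_comap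
      (algebraMap (PF.B A (P0 B) (gMap A B)) B)).connectedComponentsMap := by
    constructor
    · intro c c' h
      rw [← key c, ← key c', h]
    · intro c'
      refine ⟨eHomeo A (P0 B) (gMap A B) c', ?_⟩
      apply (eHomeo A (P0 B) (gMap A B)).injective
      rw [key]
  exact H9FE.WLoc.bijective_of_identifiesLocalRings _ B hILR h2' h3 h4' h5'

end Bij

section Tower

variable (A₀ A B : Type u) [CommRing A₀] [CommRing A] [CommRing B] [Algebra A₀ A] [Algebra A B]
  [Algebra A₀ B] [IsScalarTower A₀ A B]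

theorem isIndZariski_of_tower (h0 : EtPBC.IsIndZariski A₀ A)
    (h1 : EtPBC.IdentifiesLocalRings A B)
    (h2 : ProEtW.IsWLocal (PrimeSpectrum A)) (h3 : ProEtW.IsWLocal (PrimeSpectrum B))
    (h4 : ProEtW.IsWLocalMap (PrimeSpectrum.comap (algebraMap A B))) :
    EtPBC.IsIndZariski A₀ B := by
  haveI hT1 : IsScalarTower A₀ A (LocallyConstant (P0 B) A) :=
    IsScalarTower.of_algebraMap_eq (fun a => by ext t; rfl)
  have hs1 : EtPBC.IsIndZariski A₀ (LocallyConstant (P0 B) A) :=
    isIndZariski_trans A₀ A _ h0 (isIndZarLoc_locallyConstant A (P0 B))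
  have hs2 : EtPBC.IsIndZariski A₀ (PF.B A (P0 B) (gMap A B)) :=
    isIndZariski_trans A₀ (LocallyConstant (P0 B) A) _ hs1 (isIndZarLoc_B A (P0 B) (gMap A B))
  have hbij := bijective_kappa A B h1 h2 h3 h4
  let e : PF.B A (P0 B) (gMap A B) ≃ₐ[A₀] B := AlgEquiv.ofBijective
    { kappa A B with
      commutes' := fun a => by
        show kappa A B (algebraMap A₀ _ a) = algebraMap A₀ B a
        rw [IsScalarTower.algebraMap_apply A₀ A (PF.B A (P0 B) (gMap A B)), kappa_algebraMap,
          ← IsScalarTower.algebraMap_apply] } hbij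
  exact isIndZariski_of_algEquiv e hs2

end Tower

/-- the statement of S0183 -/
theorem main (A B : Type u) [CommRing A] [CommRing B] [Algebra A B]
    (h : EtPBC.IdentifiesLocalRings A B) :
    ∃ (B' : Type u) (_ : CommRing B') (_ : Algebra B B') (_ : Algebra A B')
      (_ : IsScalarTower A B B'),
      Module.FaithfullyFlat B B' ∧ EtPBC.IsIndZariski B B' ∧ EtPBC.IsIndZariski A B' := by
  letI alg : Algebra A (WLz.Aw B) := ((algebraMap B (WLz.Aw B)).comp (algebraMap A B)).toAlgebra
  haveI tower : @IsScalarTower A B (WLz.Aw B) _ Algebra.toSMul alg.toSMul :=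
    @IsScalarTower.of_algebraMap_eq A B (WLz.Aw B) _ _ _ _ _ alg (fun _ => rfl)
  refine ⟨WLz.Aw B, inferInstance, inferInstance, alg, tower, WLz.faithfullyFlat_Aw B,
    WLz.isIndZariski_Aw B, ?_⟩
  have hWB := WLz.isWLocal B
  let φ : WLz.Aw A →ₐ[A] WLz.Aw B := @WLz2.phi A (WLz.Aw B) _ _ alg hWB
  letI alg2 : Algebra (WLz.Aw A) (WLz.Aw B) := φ.toRingHom.toAlgebra
  haveI tower2 : @IsScalarTower A (WLz.Aw A) (WLz.Aw B) Algebra.toSMul alg2.toSMul alg.toSMul :=
    @IsScalarTower.of_algebraMap_eq A (WLz.Aw A) (WLz.Aw B) _ _ _ _ alg2 alg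
      (fun a => (φ.commutes a).symm)
  have hILR1 : EtPBC.IdentifiesLocalRings A (WLz.Aw B) :=
    identifiesLocalRings_comp h
      (identifiesLocalRings_of_isIndZariski B _ (WLz.isIndZariski_Aw B))
  have hILR2 : EtPBC.IdentifiesLocalRings (WLz.Aw A) (WLz.Aw B) :=
    identifiesLocalRings_of_comp
      (identifiesLocalRings_of_isIndZariski A _ (WLz.isIndZariski_Aw A)) hILR1
  exact isIndZariski_of_tower A (WLz.Aw A) (WLz.Aw B) (WLz.isIndZariski_Aw A) hILR2
    (WLz.isWLocal A) hWB (@WLz2.isWLocalMap_phi A (WLz.Aw B) _ _ alg hWB)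

end H9FE.PF4
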