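import Mathlib
import Groth.Prelude.Def_PBC
import Groth.Prelude.Def_ProEtW
import Groth.Agent.Lib.Helper9.FE.PF4

/-! helper9: spectra all of whose points are closed (totally separated, w-local); base change of
ind-Zariski algebras; an ind-Zariski map `A → B` induces a bijection `A/I → B/IB` as soon as
`V(IB) → V(I)` is a bijection of sets of closed points. -/

set_option autoImplicit false
universe u
open PrimeSpectrum Topology

namespace H9FE.WLz4

open H9FE.IZ H9FE.Glue CategoryTheory

set_option linter.unusedSectionVars false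
set_option linter.style.haveILetI false

section T1

variable (R : Type u) [CommRing R]

theorem totallySeparatedSpace_of_forall_isClosed
    (h : ∀ x : PrimeSpectrum R, IsClosed ({x} : Set (PrimeSpectrum R))) :
    TotallySeparatedSpace (PrimeSpectrum R) := by
  rw [totallySeparatedSpace_iff_exists_isClopen]
  intro x y hxy
  have hopen : IsOpen ({y}ᶜ : Set (PrimeSpectrum R)) := (h y).isOpen_compl
  obtain ⟨_, ⟨f, rfl⟩, hxf, hfy⟩ :=
    PrimeSpectrum.isTopologicalBasis_basic_opens.exists_subset_of_mem_open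
      (show x ∈ ({y}ᶜ : Set (PrimeSpectrum R)) from hxy) hopen
  refine ⟨(PrimeSpectrum.basicOpen f : Set (PrimeSpectrum R)),
    ⟨?_, (PrimeSpectrum.basicOpen f).isOpen⟩, hxf, fun hy => hfy hy rfl⟩
  apply PrimeSpectrum.isClosed_of_stableUnderSpecialization_of_isConstructible
  · intro a b hab ha
    have hb : b ∈ ({a} : Set (PrimeSpectrum R)) := hab.mem_closed (h a) rfl
    rw [Set.mem_singleton_iff] at hb
    rw [hb]
    exact ha
  · exact PrimeSpectrum.isConstructible_basicOpen

theorem isWLocal_of_forall_isClosed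
    (h : ∀ x : PrimeSpectrum R, IsClosed ({x} : Set (PrimeSpectrum R))) :
    ProEtW.IsWLocal (PrimeSpectrum R) := by
  refine ⟨inferInstance, ?_, fun x => ⟨x, ⟨h x, specializes_rfl⟩, ?_⟩⟩
  · have h1 : {x : PrimeSpectrum R | IsClosed ({x} : Set (PrimeSpectrum R))} = Set.univ :=
      Set.eq_univ_of_forall h
    rw [h1]
    exact isClosed_univ
  · rintro y ⟨-, hy⟩
    exact hy.mem_closed (h x) rfl

lemma comap_mk_mem_zeroLocus (J : Ideal R) (P : PrimeSpectrum (R ⧸ J)) :
    PrimeSpectrum.comap (Ideal.Quotient.mk J) P ∈ zeroLocus (J : Set R) := by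
  rw [PrimeSpectrum.mem_zeroLocus]
  intro x hx
  show Ideal.Quotient.mk J x ∈ P.asIdeal
  rw [Ideal.Quotient.eq_zero_iff_mem.mpr hx]
  exact zero_mem _

lemma exists_comap_mk_eq (J : Ideal R) (p : PrimeSpectrum R) (hp : p ∈ zeroLocus (J : Set R)) :
    ∃ P : PrimeSpectrum (R ⧸ J), PrimeSpectrum.comap (Ideal.Quotient.mk J) P = p := by
  have h1 := _root_.range_comap_of_surjective (R ⧸ J) (Ideal.Quotient.mk J)
    Ideal.Quotient.mk_surjective
  rw [Ideal.mk_ker] at h1
  rw [← h1] at hp
  exact hp

lemma isClosed_singleton_quotient (J : Ideal R)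
    (h : ∀ p ∈ zeroLocus (J : Set R), IsClosed ({p} : Set (PrimeSpectrum R)))
    (P : PrimeSpectrum (R ⧸ J)) : IsClosed ({P} : Set (PrimeSpectrum (R ⧸ J))) := by
  have hce := PrimeSpectrum.isClosedEmbedding_comap_of_surjective (R ⧸ J) (Ideal.Quotient.mk J)
    Ideal.Quotient.mk_surjective
  have h1 := (h _ (comap_mk_mem_zeroLocus R J P)).preimage hce.continuous
  rwa [← Set.image_singleton, Set.preimage_image_eq _ hce.injective] at h1

theorem isProfinite_zeroLocus (J : Ideal R)
    (h : ∀ q ∈ zeroLocus (J : Set R), IsClosed ({q} : Set (PrimeSpectrum R))) :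
    ProEtW.IsProfinite (zeroLocus (J : Set R)) := by
  have hc := isClosed_singleton_quotient R J h
  haveI := totallySeparatedSpace_of_forall_isClosed _ hc
  have hce := PrimeSpectrum.isClosedEmbedding_comap_of_surjective (R ⧸ J) (Ideal.Quotient.mk J)
    Ideal.Quotient.mk_surjective
  have hrange : Set.range (PrimeSpectrum.comap (Ideal.Quotient.mk J)) = zeroLocus (J : Set R) := by
    rw [_root_.range_comap_of_surjective _ _ Ideal.Quotient.mk_surjective, Ideal.mk_ker]
  let e : PrimeSpectrum (R ⧸ J) ≃ₜ zeroLocus (J : Set R) :=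
    hce.isEmbedding.toHomeomorph.trans (Homeomorph.setCongr hrange)
  haveI : TotallySeparatedSpace (zeroLocus (J : Set R)) := by
    rw [totallySeparatedSpace_iff_exists_isClopen]
    intro x y hxy
    obtain ⟨U, hU, hxU, hyU⟩ := exists_isClopen_of_totally_separated (e.symm.injective.ne hxy)
    exact ⟨e.symm ⁻¹' U, hU.preimage e.symm.continuous, hxU, hyU⟩
  exact ⟨isCompact_iff_compactSpace.mp (PrimeSpectrum.isClosed_zeroLocus _).isCompact,
    inferInstance, inferInstance⟩

lemma isClosed_singleton_of_isProfinite (I : Ideal R)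
    (hI : ProEtW.IsProfinite (zeroLocus (I : Set R))) (p : PrimeSpectrum R)
    (hp : p ∈ zeroLocus (I : Set R)) : IsClosed ({p} : Set (PrimeSpectrum R)) := by
  obtain ⟨-, h2, -⟩ := hI
  have h1 : IsClosed ({(⟨p, hp⟩ : zeroLocus (I : Set R))} : Set (zeroLocus (I : Set R))) :=
    isClosed_singleton
  have h3 := (PrimeSpectrum.isClosed_zeroLocus (I : Set R)).isClosedEmbedding_subtypeVal.isClosedMap
    _ h1
  rwa [Set.image_singleton] at h3

end T1

theorem bijective_connectedComponentsMap {X Y : Type*} [TopologicalSpace X] [TopologicalSpace Y]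
    [TotallyDisconnectedSpace Y] {f : X → Y} (hf : Continuous f) (hb : Function.Bijective f) :
    Function.Bijective hf.connectedComponentsMap := by
  constructor
  · intro c c' hcc
    obtain ⟨x, rfl⟩ := _root_.ConnectedComponents.surjective_coe c
    obtain ⟨x', rfl⟩ := _root_.ConnectedComponents.surjective_coe c'
    rw [Continuous.connectedComponentsMap_mk, Continuous.connectedComponentsMap_mk] at hcc
    have h1 : f x ∈ connectedComponent (f x') := _root_.ConnectedComponents.coe_eq_coe'.mp hcc
    rw [connectedComponent_eq_singleton] at h1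
    rw [hb.1 h1]
  · intro c
    obtain ⟨y, rfl⟩ := _root_.ConnectedComponents.surjective_coe c
    obtain ⟨x, rfl⟩ := hb.2 y
    exact ⟨_root_.ConnectedComponents.mk x, Continuous.connectedComponentsMap_mk hf x⟩

section BaseChange

variable (A B : Type u) [CommRing A] [CommRing B] [Algebra A B]

theorem isIndZariski_baseChange (A' : Type u) [CommRing A'] [Algebra A A']
    (h : EtPBC.IsIndZariski A B) : EtPBC.IsIndZariski A' (TensorProduct A A' B) := by
  rw [isIndZariski_iff_indMP] at h ⊢
  exact (MorphismProperty.ind.{u} localIsoMP.{u}).of_isPushout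
    (CommRingCat.isPushout_tensorProduct A A' B) h

theorem identifiesLocalRings_quotient (I : Ideal A) (h : EtPBC.IsIndZariski A B) :
    EtPBC.IdentifiesLocalRings (A ⧸ I) (B ⧸ I.map (algebraMap A B)) := by
  have h1 := isIndZariski_baseChange A B (A ⧸ I) h
  have h2 := isIndZariski_of_algEquiv
    (Algebra.TensorProduct.quotIdealMapEquivQuotTensor B I).symm h1
  exact identifiesLocalRings_of_isIndZariski _ _ h2

theorem quotient_bijective (I : Ideal A) (hIZ : EtPBC.IsIndZariski A B)
    (hA : ∀ p ∈ zeroLocus (I : Set A), IsClosed ({p} : Set (PrimeSpectrum A)))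
    (hB : ∀ q ∈ zeroLocus (I.map (algebraMap A B) : Set B),
      IsClosed ({q} : Set (PrimeSpectrum B)))
    (hex : ∀ p ∈ zeroLocus (I : Set A), ∃ q : PrimeSpectrum B,
      PrimeSpectrum.comap (algebraMap A B) q = p)
    (huniq : ∀ q ∈ zeroLocus (I.map (algebraMap A B) : Set B),
      ∀ q' ∈ zeroLocus (I.map (algebraMap A B) : Set B),
      PrimeSpectrum.comap (algebraMap A B) q = PrimeSpectrum.comap (algebraMap A B) q' → q = q') :
    Function.Bijective (Ideal.quotientMap (I.map (algebraMap A B)) (algebraMap A B)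
      Ideal.le_comap_map) := by
  have hILR := identifiesLocalRings_quotient A B I hIZ
  have hAc : ∀ P : PrimeSpectrum (A ⧸ I), IsClosed ({P} : Set (PrimeSpectrum (A ⧸ I))) :=
    isClosed_singleton_quotient A I hA
  have hBc : ∀ Q : PrimeSpectrum (B ⧸ I.map (algebraMap A B)),
      IsClosed ({Q} : Set (PrimeSpectrum (B ⧸ I.map (algebraMap A B)))) :=
    isClosed_singleton_quotient B _ hB
  have hWA := isWLocal_of_forall_isClosed _ hAc
  have hWB := isWLocal_of_forall_isClosed _ hBc
  have hwl : ProEtW.IsWLocalMap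
      (PrimeSpectrum.comap (algebraMap (A ⧸ I) (B ⧸ I.map (algebraMap A B)))) :=
    ⟨isSpectralMap_comap _, fun _ _ => hAc _⟩
  haveI : TotallySeparatedSpace (PrimeSpectrum (A ⧸ I)) :=
    totallySeparatedSpace_of_forall_isClosed _ hAc
  have hcomp : (algebraMap (A ⧸ I) (B ⧸ I.map (algebraMap A B))).comp (Ideal.Quotient.mk I) =
      (Ideal.Quotient.mk (I.map (algebraMap A B))).comp (algebraMap A B) :=
    Ideal.quotientMap_comp_mk Ideal.le_comap_map
  have hfun : ∀ Q : PrimeSpectrum (B ⧸ I.map (algebraMap A B)),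
      PrimeSpectrum.comap (Ideal.Quotient.mk I)
        (PrimeSpectrum.comap (algebraMap (A ⧸ I) (B ⧸ I.map (algebraMap A B))) Q) =
      PrimeSpectrum.comap (algebraMap A B)
        (PrimeSpectrum.comap (Ideal.Quotient.mk (I.map (algebraMap A B))) Q) := by
    intro Q
    rw [← PrimeSpectrum.comap_comp_apply, ← PrimeSpectrum.comap_comp_apply, hcomp]
  have hinj_mkI := PrimeSpectrum.comap_injective_of_surjective (Ideal.Quotient.mk I)
    Ideal.Quotient.mk_surjective
  have hinj_mkIB := PrimeSpectrum.comap_injective_of_surjective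
    (Ideal.Quotient.mk (I.map (algebraMap A B))) Ideal.Quotient.mk_surjective
  have hfbij : Function.Bijective
      (PrimeSpectrum.comap (algebraMap (A ⧸ I) (B ⧸ I.map (algebraMap A B)))) := by
    constructor
    · intro Q Q' hQ
      apply hinj_mkIB
      apply huniq _ (comap_mk_mem_zeroLocus _ _ Q) _ (comap_mk_mem_zeroLocus _ _ Q')
      rw [← hfun, ← hfun, hQ]
    · intro P
      obtain ⟨q, hq⟩ := hex _ (comap_mk_mem_zeroLocus _ I P)
      have hqm : q ∈ zeroLocus (I.map (algebraMap A B) : Set B) := by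
        rw [PrimeSpectrum.mem_zeroLocus, SetLike.coe_subset_coe, Ideal.map_le_iff_le_comap]
        have h1 := comap_mk_mem_zeroLocus _ I P
        rw [← hq, PrimeSpectrum.mem_zeroLocus, SetLike.coe_subset_coe] at h1
        exact h1
      obtain ⟨Q, hQ⟩ := exists_comap_mk_eq _ _ q hqm
      refine ⟨Q, hinj_mkI ?_⟩
      rw [hfun, hQ, hq]
  have h5 := bijective_connectedComponentsMap (PrimeSpectrum.continuous_comap
    (algebraMap (A ⧸ I) (B ⧸ I.map (algebraMap A B)))) hfbij
  exact H9FE.WLoc.bijective_of_identifiesLocalRings _ _ hILR hWA hWB hwl h5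

end BaseChange

section Tower

variable (A₀ A : Type u) [CommRing A₀] [CommRing A] [Algebra A₀ A]
  (T : Type u) [TopologicalSpace T] [CompactSpace T] [T2Space T] [TotallyDisconnectedSpace T]
  (g : C(T, P0 A))

theorem isIndZariski_B_of_tower (h0 : EtPBC.IsIndZariski A₀ A) :
    EtPBC.IsIndZariski A₀ (PF.B A T g) := by
  haveI hT1 : IsScalarTower A₀ A (LocallyConstant T A) :=
    IsScalarTower.of_algebraMap_eq (fun a => by ext t; rfl)
  have hs1 : EtPBC.IsIndZariski A₀ (LocallyConstant T A) :=
    isIndZariski_trans A₀ A _ h0 (isIndZarLoc_locallyConstant A T)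
  exact isIndZariski_trans A₀ (LocallyConstant T A) _ hs1 (PF.isIndZarLoc_B A T g)

end Tower

end H9FE.WLz4
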