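import Mathlib
import Groth.Prelude.Def_PBC
import Groth.Prelude.Def_ProEtW
import Groth.Agent.Lib.Helper6.IndEtObj
import Groth.Agent.Lib.Helper6.IndEtComp
import Groth.Agent.Lib.Helper6.IndEtWeakly

/-! helper9: the coproduct (infinite tensor product) of all faithfully flat étale `A`-algebras is a
faithfully flat ind-étale `A`-algebra receiving a map from every faithfully flat étale
`A`-algebra.  General part: for a morphism property `W` stable under composition and cobase
change, `W.underObj` is closed under finite coproducts and arbitrary coproducts are `ind`. -/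

set_option autoImplicit false
universe w v u
open CategoryTheory Limits

namespace H9FE.EtCov

section General

variable {T : Type u} [Category.{v} T] (W : MorphismProperty T) {X : T}

instance underObj_closed_initial [W.ContainsIdentities] [W.RespectsIso] :
    (W.underObj (X := X)).IsClosedUnderColimitsOfShape (Discrete.{0} PEmpty) where
  colimitsOfShape_le := by
    rintro Y ⟨p⟩
    have hY : IsInitial Y :=
      (IsColimit.equivOfNatIsoOfIso p.diag.uniqueFromEmpty _ _
        (by exact Cocone.ext (Iso.refl _) (by rintro ⟨⟨⟩⟩))).1 p.isColimit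
    have iso : Y ≅ Under.mk (𝟙 X) := hY.uniqueUpToIso Under.mkIdInitial
    exact (W.underObj (X := X)).prop_of_iso iso.symm (W.id_mem X)

instance underObj_closed_binary [HasPushouts T] [W.IsStableUnderComposition]
    [W.IsStableUnderCobaseChange] [W.RespectsIso] :
    (W.underObj (X := X)).IsClosedUnderColimitsOfShape (Discrete WalkingPair) where
  colimitsOfShape_le := by
    rintro Y ⟨p⟩
    have h₁ : W (p.diag.obj ⟨WalkingPair.left⟩).hom := p.prop_diag_obj _
    have h₂ : W (p.diag.obj ⟨WalkingPair.right⟩).hom := p.prop_diag_obj _
    let c : BinaryCofan (Under.mk (p.diag.obj ⟨WalkingPair.left⟩).hom)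
        (Under.mk (p.diag.obj ⟨WalkingPair.right⟩).hom) :=
      pushoutCoconeEquivBinaryCofan.functor.obj
        (PushoutCocone.mk _ _ (pushout.condition (f := (p.diag.obj ⟨WalkingPair.left⟩).hom)
          (g := (p.diag.obj ⟨WalkingPair.right⟩).hom)))
    have hc : IsColimit c :=
      IsColimit.pushoutCoconeEquivBinaryCofanFunctor (pushoutIsPushout _ _)
    have iso : Y ≅ c.pt :=
      IsColimit.coconePointsIsoOfNatIso p.isColimit hc (diagramIsoPair p.diag)
    have hpt : W.underObj c.pt := W.comp_mem _ _ h₁ (W.pushout_inl _ _ h₂)
    exact (W.underObj (X := X)).prop_of_iso iso.symm hpt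

instance underObj_closed_finiteCoproducts [HasPushouts T] [HasFiniteCoproducts (Under X)]
    [W.IsStableUnderComposition] [W.IsStableUnderCobaseChange] [W.RespectsIso]
    [W.ContainsIdentities] : (W.underObj (X := X)).IsClosedUnderFiniteCoproducts :=
  ObjectProperty.IsClosedUnderFiniteCoproducts.mk'

theorem underObj_ind_coproduct [HasPushouts T] [HasFiniteCoproducts (Under X)]
    [W.IsStableUnderComposition] [W.IsStableUnderCobaseChange] [W.RespectsIso]
    [W.ContainsIdentities] {α : Type w} [HasColimitsOfShape (Finset (Discrete α)) (Under X)]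
    (f : α → Under X) [HasCoproduct f] (hf : ∀ a, W (f a).hom) :
    ObjectProperty.ind.{w} (W.underObj (X := X)) (∐ f) :=
  ⟨Finset (Discrete α), inferInstance, inferInstance,
    ⟨CoproductsFromFiniteFiltered.liftToFinsetObj (Discrete.functor f),
      (CoproductsFromFiniteFiltered.finiteSubcoproductsCocone f).ι,
      CoproductsFromFiniteFiltered.isColimitFiniteSubproductsCocone f⟩,
    fun S => (W.underObj (X := X)).prop_coproduct (fun j => hf j.1.as)⟩

end General

open Groth.Agent.Lib.Helper6

instance : (IndEtComp.etaleMP.{u}).ContainsIdentities where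
  id_mem X := by
    show RingHom.Etale (RingHom.id X)
    exact RingHom.Etale.of_bijective Function.bijective_id

end H9FE.EtCov
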