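import Mathlib
import Groth.Prelude.Def_PBC
import Groth.Prelude.Def_ProEtW
import Groth.Agent.Lib.Helper9.FE.EtCov1

/-! helper9: the coproduct `A1 A` of all faithfully flat étale `A`-algebras: it is ind-étale and
faithfully flat over `A`, and every faithfully flat étale `A`-algebra maps to it. -/

set_option autoImplicit false
universe u
open CategoryTheory Limits TensorProduct

namespace H9FE.EtCov

open Groth.Agent.Lib.Helper6

section AlgClosed

variable (A : Type u) [CommRing A]

theorem exists_algHom_algClosed (B : Type u) [CommRing B] [Algebra A B] [Algebra.FiniteType A B]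
    [Module.FaithfullyFlat A B] (Ω : Type u) [Field Ω] [IsAlgClosed Ω] [Algebra A Ω] :
    Nonempty (B →ₐ[A] Ω) := by
  haveI : Nontrivial (B ⊗[A] Ω) := Module.FaithfullyFlat.lTensor_nontrivial A B Ω
  haveI : Nontrivial (Ω ⊗[A] B) := (Algebra.TensorProduct.comm A Ω B).toEquiv.nontrivial
  obtain ⟨M, hM⟩ := Ideal.exists_maximal (Ω ⊗[A] B)
  letI : Field ((Ω ⊗[A] B) ⧸ M) := Ideal.Quotient.field M
  haveI : Algebra.FiniteType Ω ((Ω ⊗[A] B) ⧸ M) := inferInstance
  haveI : Module.Finite Ω ((Ω ⊗[A] B) ⧸ M) := finite_of_finite_type_of_isJacobsonRing Ω _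
  have hb : Function.Bijective (algebraMap Ω ((Ω ⊗[A] B) ⧸ M)) :=
    IsAlgClosed.algebraMap_bijective_of_isIntegral
  let e : Ω ≃ₐ[Ω] ((Ω ⊗[A] B) ⧸ M) := AlgEquiv.ofBijective (Algebra.ofId Ω _) hb
  exact ⟨(((e.symm : ((Ω ⊗[A] B) ⧸ M) →ₐ[Ω] Ω).comp (Ideal.Quotient.mkₐ Ω M)).restrictScalars A).comp
    Algebra.TensorProduct.includeRight⟩

end AlgClosed

section Step1

variable (A : Type u) [CommRing A]

/-- presentations of faithfully flat étale algebras -/
structure FFEt where
  /-- number of variables -/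
  n : ℕ
  /-- ideal of relations -/
  J : Ideal (MvPolynomial (Fin n) A)
  et : Algebra.Etale A (MvPolynomial (Fin n) A ⧸ J)
  ff : Module.FaithfullyFlat A (MvPolynomial (Fin n) A ⧸ J)

variable {A} in
/-- the ring presented -/
abbrev FFEt.ring (s : FFEt A) : Type u := MvPolynomial (Fin s.n) A ⧸ s.J

instance (s : FFEt A) : Algebra.Etale A s.ring := s.et

instance (s : FFEt A) : Module.FaithfullyFlat A s.ring := s.ff

theorem exists_ffet (B : Type u) [CommRing B] [Algebra A B] [Algebra.Etale A B]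
    [Module.FaithfullyFlat A B] : ∃ s : FFEt A, Nonempty (B ≃ₐ[A] s.ring) := by
  obtain ⟨n, f, hf, -⟩ := (inferInstance : Algebra.FinitePresentation A B).out
  let e : (MvPolynomial (Fin n) A ⧸ RingHom.ker f) ≃ₐ[A] B :=
    Ideal.quotientKerAlgEquivOfSurjective hf
  exact ⟨⟨n, RingHom.ker f, Algebra.Etale.of_equiv e.symm,
    Module.FaithfullyFlat.of_linearEquiv A B e.toLinearEquiv⟩, ⟨e.symm⟩⟩

/-- the object of `Under A` -/
noncomputable def obj (s : FFEt A) : Under (CommRingCat.of A) :=
  Under.mk (CommRingCat.ofHom (algebraMap A s.ring))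

/-- the coproduct of all faithfully flat étale algebras -/
noncomputable def X1 : Under (CommRingCat.of A) := ∐ (obj A)

/-- its underlying ring -/
abbrev A1 : Type u := (X1 A).right

noncomputable instance : Algebra A (A1 A) := (X1 A).hom.hom.toAlgebra

theorem isIndEtale_A1 : EtPBC.IsIndEtale A (A1 A) := by
  have h := underObj_ind_coproduct IndEtComp.etaleMP.{u} (obj A)
    (fun s => (RingHom.etale_algebraMap.mpr s.et : RingHom.Etale (algebraMap A s.ring)))
  exact (IndEtObj.isIndEtale_iff_ind' A (X1 A)).mpr h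

/-- the map from a member -/
noncomputable def iotaAlg (s : FFEt A) : s.ring →ₐ[A] A1 A :=
  { toRingHom := (Sigma.ι (obj A) s).right.hom
    commutes' := fun a => congr($(Under.w (Sigma.ι (obj A) s)).hom a) }

theorem exists_algHom_A1 (B : Type u) [CommRing B] [Algebra A B] [Algebra.Etale A B]
    [Module.FaithfullyFlat A B] : Nonempty (B →ₐ[A] A1 A) := by
  obtain ⟨s, ⟨e⟩⟩ := exists_ffet A B
  exact ⟨(iotaAlg A s).comp e.toAlgHom⟩

theorem comap_surjective_A1 :
    Function.Surjective (PrimeSpectrum.comap (algebraMap A (A1 A))) := by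
  intro p
  have hψ : ∀ s : FFEt A, Nonempty (s.ring →ₐ[A] AlgebraicClosure p.asIdeal.ResidueField) :=
    fun s => exists_algHom_algClosed A s.ring (AlgebraicClosure p.asIdeal.ResidueField)
  let φ : X1 A ⟶ Under.mk (CommRingCat.ofHom
      (algebraMap A (AlgebraicClosure p.asIdeal.ResidueField))) :=
    Sigma.desc (fun s => Under.homMk (CommRingCat.ofHom (hψ s).some.toRingHom)
      (by ext a; exact (hψ s).some.commutes a))
  let φr : A1 A →+* AlgebraicClosure p.asIdeal.ResidueField := φ.right.hom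
  have hφ : ∀ a : A, φr (algebraMap A (A1 A) a) =
      algebraMap A (AlgebraicClosure p.asIdeal.ResidueField) a :=
    fun a => congr($(Under.w φ).hom a)
  refine ⟨⟨RingHom.ker φr, RingHom.ker_isPrime φr⟩, ?_⟩
  apply PrimeSpectrum.ext
  ext a
  show φr (algebraMap A (A1 A) a) = 0 ↔ a ∈ p.asIdeal
  rw [hφ, IsScalarTower.algebraMap_apply A p.asIdeal.ResidueField
    (AlgebraicClosure p.asIdeal.ResidueField),
    map_eq_zero_iff _ (algebraMap p.asIdeal.ResidueField
      (AlgebraicClosure p.asIdeal.ResidueField)).injective,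
    Ideal.algebraMap_residueField_eq_zero]

theorem faithfullyFlat_A1 : Module.FaithfullyFlat A (A1 A) := by
  haveI : Module.Flat A (A1 A) :=
    (IndEt.weaklyEtale_of_isIndEtale A (A1 A) (isIndEtale_A1 A)).flat
  exact Module.FaithfullyFlat.of_comap_surjective (comap_surjective_A1 A)

end Step1

/-- the one-step cover in categorical form -/
theorem step1 (R : CommRingCat.{u}) : ∃ (R' : CommRingCat.{u}) (φ : R ⟶ R'),
    MorphismProperty.ind.{u} IndEtComp.etaleMP.{u} φ ∧ φ.hom.FaithfullyFlat ∧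
    ∀ (T : CommRingCat.{u}) (g : R ⟶ T), IndEtComp.etaleMP g → g.hom.FaithfullyFlat →
      ∃ h : T ⟶ R', g ≫ h = φ := by
  refine ⟨CommRingCat.of (A1 R), CommRingCat.ofHom (algebraMap R (A1 R)), ?_, ?_, ?_⟩
  · exact (IndEtComp.isIndEtale_iff_indMP R (A1 R)).mp (isIndEtale_A1 R)
  · exact (RingHom.faithfullyFlat_algebraMap_iff).mpr (faithfullyFlat_A1 R)
  · intro T g hg hgf
    letI := g.hom.toAlgebra
    haveI : Algebra.Etale R T := hg
    haveI : Module.FaithfullyFlat R T := hgf
    obtain ⟨h⟩ := exists_algHom_A1 R T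
    refine ⟨CommRingCat.ofHom h.toRingHom, ?_⟩
    ext a
    exact h.commutes a

end H9FE.EtCov
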