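import Mathlib
import Groth.Prelude.Def_PBC
import Groth.Prelude.Def_ProEtW
import Groth.Agent.Lib.Helper9.FE.EtCov2

/-! helper9: iterating the one-step cover `EtCov.step1` countably many times produces, for every
ring `A`, a faithfully flat ind-étale `A`-algebra all of whose faithfully flat étale algebras have
retractions. -/

set_option autoImplicit false
universe u
open CategoryTheory Limits TensorProduct

namespace H9FE.EtCov

open Groth.Agent.Lib.Helper6

set_option linter.unusedSectionVars false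
set_option linter.style.haveILetI false

/-! ### points of fibre products of spectra -/

section Fibre

theorem exists_field_of_comap_eq {X Y Z : Type u} [CommRing X] [CommRing Y] [CommRing Z]
    (a : X →+* Y) (b : X →+* Z) (𝔭 : Ideal Y) [𝔭.IsPrime] (q : Ideal Z) [q.IsPrime]
    (h : 𝔭.comap a = q.comap b) :
    ∃ (Ω : Type u) (_ : Field Ω) (β : Y →+* Ω) (γ : Z →+* Ω),
      β.comp a = γ.comp b ∧ RingHom.ker β = 𝔭 := by
  letI alg₁ : Algebra (𝔭.comap a).ResidueField 𝔭.ResidueField :=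
    (Ideal.ResidueField.map (𝔭.comap a) 𝔭 a rfl).toAlgebra
  letI alg₂ : Algebra (𝔭.comap a).ResidueField q.ResidueField :=
    (Ideal.ResidueField.map (𝔭.comap a) q b h).toAlgebra
  haveI : Nontrivial (𝔭.ResidueField ⊗[(𝔭.comap a).ResidueField] q.ResidueField) := inferInstance
  obtain ⟨M, hM⟩ :=
    Ideal.exists_maximal (𝔭.ResidueField ⊗[(𝔭.comap a).ResidueField] q.ResidueField)
  letI : Field ((𝔭.ResidueField ⊗[(𝔭.comap a).ResidueField] q.ResidueField) ⧸ M) :=
    Ideal.Quotient.field M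
  let inclL : 𝔭.ResidueField →+*
      (𝔭.ResidueField ⊗[(𝔭.comap a).ResidueField] q.ResidueField) ⧸ M :=
    (Ideal.Quotient.mk M).comp Algebra.TensorProduct.includeLeftRingHom
  let inclR : q.ResidueField →+*
      (𝔭.ResidueField ⊗[(𝔭.comap a).ResidueField] q.ResidueField) ⧸ M :=
    (Ideal.Quotient.mk M).comp
      (Algebra.TensorProduct.includeRight (R := (𝔭.comap a).ResidueField)
        (A := 𝔭.ResidueField) (B := q.ResidueField)).toRingHom
  refine ⟨(𝔭.ResidueField ⊗[(𝔭.comap a).ResidueField] q.ResidueField) ⧸ M, inferInstance,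
    inclL.comp (algebraMap Y 𝔭.ResidueField), inclR.comp (algebraMap Z q.ResidueField), ?_, ?_⟩
  · ext r
    show Ideal.Quotient.mk M ((algebraMap Y 𝔭.ResidueField (a r)) ⊗ₜ 1) =
      Ideal.Quotient.mk M (1 ⊗ₜ (algebraMap Z q.ResidueField (b r)))
    congr 1
    rw [← Ideal.ResidueField.map_algebraMap (𝔭.comap a) 𝔭 a rfl,
      ← Ideal.ResidueField.map_algebraMap (𝔭.comap a) q b h]
    show (algebraMap (𝔭.comap a).ResidueField 𝔭.ResidueField
        (algebraMap X (𝔭.comap a).ResidueField r)) ⊗ₜ[(𝔭.comap a).ResidueField]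
        (1 : q.ResidueField) =
      (1 : 𝔭.ResidueField) ⊗ₜ[(𝔭.comap a).ResidueField]
        (algebraMap (𝔭.comap a).ResidueField q.ResidueField
          (algebraMap X (𝔭.comap a).ResidueField r))
    rw [Algebra.algebraMap_eq_smul_one, Algebra.algebraMap_eq_smul_one (A := q.ResidueField),
      TensorProduct.smul_tmul]
  · ext y
    rw [RingHom.mem_ker]
    show inclL (algebraMap Y 𝔭.ResidueField y) = 0 ↔ y ∈ 𝔭
    rw [map_eq_zero_iff _ inclL.injective, Ideal.algebraMap_residueField_eq_zero]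

theorem exists_prime_of_isPushout {X Y Z W : CommRingCat.{u}} {a : X ⟶ Y} {b : X ⟶ Z}
    {c : Y ⟶ W} {d : Z ⟶ W} (hpo : IsPushout a b c d) (𝔭 : PrimeSpectrum Y)
    (q : PrimeSpectrum Z)
    (h : PrimeSpectrum.comap a.hom 𝔭 = PrimeSpectrum.comap b.hom q) :
    ∃ Q : PrimeSpectrum W, PrimeSpectrum.comap c.hom Q = 𝔭 := by
  have h' : 𝔭.asIdeal.comap a.hom = q.asIdeal.comap b.hom := congrArg PrimeSpectrum.asIdeal h
  obtain ⟨Ω, _, β, γ, hβγ, hker⟩ :=
    exists_field_of_comap_eq a.hom b.hom 𝔭.asIdeal q.asIdeal h'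
  let δ : W ⟶ CommRingCat.of Ω := hpo.desc (CommRingCat.ofHom β) (CommRingCat.ofHom γ)
    (by ext r; exact congr($hβγ r))
  have hδ : c ≫ δ = CommRingCat.ofHom β := hpo.inl_desc _ _ _
  let δr : W →+* Ω := δ.hom
  refine ⟨⟨RingHom.ker δr, RingHom.ker_isPrime δr⟩, ?_⟩
  apply PrimeSpectrum.ext
  rw [← hker]
  ext y
  show δr (c.hom y) = 0 ↔ β y = 0
  rw [show δr (c.hom y) = β y from congr($(hδ).hom y)]

end Fibre

/-! ### ideals in filtered colimits of rings -/

section ColimIdeal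

variable {J : Type u} [SmallCategory J] [IsFiltered J] (D : J ⥤ CommRingCat.{u}) (c : Cocone D)
  (hc : IsColimit c)

omit [IsFiltered J] in
lemma mem_map_comp {j₀ j₁ j₂ : J} (K : Ideal (D.obj j₀)) (f : j₀ ⟶ j₁) (g : j₁ ⟶ j₂)
    {y : D.obj j₁} (hy : y ∈ Ideal.map (D.map f).hom K) :
    (D.map g).hom y ∈ Ideal.map (D.map (f ≫ g)).hom K := by
  have h1 := Ideal.mem_map_of_mem (D.map g).hom hy
  rw [Ideal.map_map] at h1
  have h2 : (D.map (f ≫ g)).hom = (D.map g).hom.comp (D.map f).hom := by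
    rw [D.map_comp]
    rfl
  rw [h2]
  exact h1

omit [IsFiltered J] in
lemma cocone_apply {j₁ j₂ : J} (g : j₁ ⟶ j₂) (y : D.obj j₁) :
    (c.ι.app j₂).hom ((D.map g).hom y) = (c.ι.app j₁).hom y :=
  congr($(c.w g).hom y)

include hc in
theorem exists_rep_of_mem_map (j₀ : J) (K : Ideal (D.obj j₀)) (y : c.pt)
    (hy : y ∈ Ideal.map (c.ι.app j₀).hom K) :
    ∃ (j : J) (f : j₀ ⟶ j) (y' : D.obj j), y' ∈ Ideal.map (D.map f).hom K ∧
      (c.ι.app j).hom y' = y := by
  induction hy using Submodule.span_induction with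
  | mem x hx =>
    obtain ⟨x₀, hx₀, rfl⟩ := hx
    refine ⟨j₀, 𝟙 j₀, x₀, ?_, rfl⟩
    have h1 : (D.map (𝟙 j₀)).hom = RingHom.id _ := by
      rw [D.map_id]
      rfl
    rw [h1, Ideal.map_id]
    exact hx₀
  | zero => exact ⟨j₀, 𝟙 j₀, 0, zero_mem _, map_zero _⟩
  | add x y _ _ ihx ihy =>
    obtain ⟨j₁, f₁, y₁, h₁, e₁⟩ := ihx
    obtain ⟨j₂, f₂, y₂, h₂, e₂⟩ := ihy
    obtain ⟨k, g₁, g₂, hg⟩ := IsFiltered.span f₁ f₂
    refine ⟨k, f₁ ≫ g₁, (D.map g₁).hom y₁ + (D.map g₂).hom y₂, ?_, ?_⟩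
    · refine add_mem (mem_map_comp D K f₁ g₁ h₁) ?_
      rw [hg]
      exact mem_map_comp D K f₂ g₂ h₂
    · rw [map_add, cocone_apply, cocone_apply, e₁, e₂]
  | smul a x _ ih =>
    obtain ⟨j₁, f₁, y₁, h₁, e₁⟩ := ih
    obtain ⟨j₂, a', ha'⟩ := Concrete.isColimit_exists_rep D hc a
    have ha'' : (c.ι.app j₂).hom a' = a := ha'
    refine ⟨IsFiltered.max j₁ j₂, f₁ ≫ IsFiltered.leftToMax j₁ j₂,
      (D.map (IsFiltered.rightToMax j₁ j₂)).hom a' * (D.map (IsFiltered.leftToMax j₁ j₂)).hom y₁,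
      ?_, ?_⟩
    · exact Ideal.mul_mem_left _ _ (mem_map_comp D K f₁ _ h₁)
    · rw [map_mul, cocone_apply, cocone_apply, e₁, ha'', smul_eq_mul]

include hc in
theorem exists_map_eq_top (j₀ : J) (K : Ideal (D.obj j₀))
    (h : Ideal.map (c.ι.app j₀).hom K = ⊤) :
    ∃ (j : J) (f : j₀ ⟶ j), Ideal.map (D.map f).hom K = ⊤ := by
  obtain ⟨j, f, y', hy', e⟩ := exists_rep_of_mem_map D c hc j₀ K 1 (by rw [h]; trivial)
  have e' : (ConcreteCategory.hom (c.ι.app j)) y' = (ConcreteCategory.hom (c.ι.app j)) 1 :=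
    e.trans (map_one (c.ι.app j).hom).symm
  obtain ⟨k, g, g', hgg⟩ := Concrete.isColimit_exists_of_rep_eq D hc y' 1 e'
  have hgg' : (D.map g).hom y' = 1 := hgg.trans (map_one (D.map g').hom)
  refine ⟨k, f ≫ g, ?_⟩
  rw [Ideal.eq_top_iff_one, ← hgg']
  exact mem_map_comp D K f g hy'

end ColimIdeal

/-! ### the tower -/

/-- the one-step cover -/
noncomputable def next (R : CommRingCat.{u}) : CommRingCat.{u} := (step1 R).choose

/-- the map to the one-step cover -/
noncomputable def stepHom (R : CommRingCat.{u}) : R ⟶ next R := (step1 R).choose_spec.choose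

lemma stepHom_ind (R : CommRingCat.{u}) :
    MorphismProperty.ind.{u} IndEtComp.etaleMP.{u} (stepHom R) :=
  (step1 R).choose_spec.choose_spec.1

lemma stepHom_ff (R : CommRingCat.{u}) : (stepHom R).hom.FaithfullyFlat :=
  (step1 R).choose_spec.choose_spec.2.1

lemma stepHom_univ (R : CommRingCat.{u}) {T : CommRingCat.{u}} (g : R ⟶ T)
    (hg : IndEtComp.etaleMP g) (hgf : g.hom.FaithfullyFlat) :
    ∃ h : T ⟶ next R, g ≫ h = stepHom R :=
  (step1 R).choose_spec.choose_spec.2.2 T g hg hgf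

/-- the tower of covers -/
noncomputable def seq (R : CommRingCat.{u}) : ℕ → CommRingCat.{u}
  | 0 => R
  | (n + 1) => next (seq R n)

/-- the tower as a functor -/
noncomputable def seqF (R : CommRingCat.{u}) : ℕ ⥤ CommRingCat.{u} :=
  Functor.ofSequence (X := seq R) (fun n => stepHom (seq R n))

lemma seqF_map_succ (R : CommRingCat.{u}) (n : ℕ) (h : n ≤ n + 1) :
    (seqF R).map (homOfLE h) = stepHom (seq R n) :=
  Functor.ofSequence_map_homOfLE_succ _ n

lemma mp_of_eq (P : MorphismProperty CommRingCat.{u}) {X Y : CommRingCat.{u}} {f g : X ⟶ Y}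
    (h : f = g) (hf : P f) : P g := by
  subst h
  exact hf

lemma ind_map (R : CommRingCat.{u}) : ∀ (n : ℕ) (f : (0 : ℕ) ⟶ n),
    MorphismProperty.ind.{u} IndEtComp.etaleMP.{u} ((seqF R).map f)
  | 0, f => by
    have h1 : f = 𝟙 0 := Subsingleton.elim _ _
    refine mp_of_eq _ (show 𝟙 ((seqF R).obj 0) = (seqF R).map f from ?_)
      (MorphismProperty.id_mem _ _)
    rw [h1, CategoryTheory.Functor.map_id]
  | n + 1, f => by
    have h1 : f = homOfLE (Nat.zero_le n) ≫ homOfLE (Nat.le_add_right n 1) :=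
      Subsingleton.elim _ _
    have h2 : (seqF R).map f =
        (seqF R).map (homOfLE (Nat.zero_le n)) ≫ (seqF R).map (homOfLE (Nat.le_add_right n 1)) := by
      rw [h1, CategoryTheory.Functor.map_comp]
    refine mp_of_eq _ h2.symm (MorphismProperty.comp_mem _ _ _ (ind_map R n _) ?_)
    exact mp_of_eq _ (seqF_map_succ R n _).symm (stepHom_ind _)

lemma ff_map (R : CommRingCat.{u}) : ∀ (n : ℕ) (f : (0 : ℕ) ⟶ n),
    ((seqF R).map f).hom.FaithfullyFlat
  | 0, f => by
    have h1 : f = 𝟙 0 := Subsingleton.elim _ _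
    have h2 : (seqF R).map f = 𝟙 _ := by
      rw [h1, CategoryTheory.Functor.map_id]
    rw [h2]
    exact RingHom.FaithfullyFlat.of_bijective Function.bijective_id
  | n + 1, f => by
    have h1 : f = homOfLE (Nat.zero_le n) ≫ homOfLE (Nat.le_add_right n 1) :=
      Subsingleton.elim _ _
    have h2 : (seqF R).map f =
        (seqF R).map (homOfLE (Nat.zero_le n)) ≫ stepHom (seq R n) := by
      rw [h1, CategoryTheory.Functor.map_comp, seqF_map_succ]
      rfl
    rw [h2]
    exact RingHom.FaithfullyFlat.stableUnderComposition _ _ (ff_map R n _) (stepHom_ff _)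

/-- the index functor -/
def downF : ULift.{u} ℕ ⥤ ℕ :=
  (show Monotone (ULift.down : ULift.{u} ℕ → ℕ) from fun _ _ h => h).functor

/-- the tower indexed by a `Type u`-small category -/
noncomputable def Dn (R : CommRingCat.{u}) : ULift.{u} ℕ ⥤ CommRingCat.{u} := downF ⋙ seqF R

/-- the colimit of the tower -/
noncomputable abbrev Cinf (R : CommRingCat.{u}) : CommRingCat.{u} := colimit (Dn R)

lemma Dn_map (R : CommRingCat.{u}) {i j : ULift.{u} ℕ} (f : i ⟶ j) :
    (Dn R).map f = (seqF R).map (downF.map f) := rfl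

theorem ind_iota (R : CommRingCat.{u}) :
    MorphismProperty.ind.{u} IndEtComp.etaleMP.{u} (colimit.ι (Dn R) (ULift.up 0)) := by
  have h := MorphismProperty.ind_ind.{u} (P := IndEtComp.etaleMP.{u}) IndEtComp.etaleMP_le_fp
  refine h.le _ ?_
  refine ⟨ULift.{u} ℕ, inferInstance, inferInstance, Dn R,
    { app := fun j => (Dn R).map (homOfLE (show ULift.up 0 ≤ j from Nat.zero_le j.down))
      naturality := fun j j' f =>
        (Category.id_comp _).trans (by rw [← CategoryTheory.Functor.map_comp]; congr 1) },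
    (colimit.cocone (Dn R)).ι, colimit.isColimit (Dn R), fun j => ⟨?_, ?_⟩⟩
  · exact ind_map R j.down (downF.map (homOfLE (show ULift.up 0 ≤ j from Nat.zero_le j.down)))
  · exact colimit.w (Dn R) (homOfLE (show ULift.up 0 ≤ j from Nat.zero_le j.down))

lemma map_ne_top_of_ff {R S : Type u} [CommRing R] [CommRing S] (φ : R →+* S)
    (hφ : φ.FaithfullyFlat) (m : Ideal R) [m.IsPrime] : Ideal.map φ m ≠ ⊤ := by
  obtain ⟨q, hq⟩ :=
    ((RingHom.FaithfullyFlat.iff_flat_and_comap_surjective).mp hφ).2 ⟨m, inferInstance⟩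
  intro htop
  have h1 : Ideal.map φ m ≤ q.asIdeal := by
    rw [Ideal.map_le_iff_le_comap]
    have h2 := congrArg PrimeSpectrum.asIdeal hq
    exact h2.symm.le
  rw [htop] at h1
  exact q.2.ne_top (top_le_iff.mp h1)

theorem ff_iota (R : CommRingCat.{u}) :
    (colimit.ι (Dn R) (ULift.up 0)).hom.FaithfullyFlat := by
  have hind := ind_iota R
  letI alg : Algebra R (Cinf R) := (colimit.ι (Dn R) (ULift.up 0)).hom.toAlgebra
  have hIE : EtPBC.IsIndEtale R (Cinf R) :=
    (IndEtComp.isIndEtale_iff_indMP R (Cinf R)).mpr hind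
  haveI hflat : Module.Flat R (Cinf R) :=
    (IndEt.weaklyEtale_of_isIndEtale R (Cinf R) hIE).flat
  show Module.FaithfullyFlat R (Cinf R)
  refine ⟨fun m hm htop => ?_⟩
  rw [Ideal.smul_top_eq_map, Submodule.restrictScalars_eq_top_iff] at htop
  obtain ⟨j, f, hj⟩ := exists_map_eq_top (Dn R) _ (colimit.isColimit (Dn R)) (ULift.up 0) m htop
  haveI := hm.isPrime
  exact @map_ne_top_of_ff _ _ _ _ ((Dn R).map f).hom (ff_map R j.down (downF.map f)) m
    hm.isPrime hj

theorem exists_retraction (R : CommRingCat.{u}) (T : CommRingCat.{u})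
    (f : Cinf R ⟶ T) (hf : IndEtComp.etaleMP f) (hff : f.hom.FaithfullyFlat) :
    ∃ r : T ⟶ Cinf R, f ≫ r = 𝟙 _ := by
  obtain ⟨j, T', f', g, hpo, hf'⟩ :=
    IndEtComp.etaleMP.{u}.exists_isPushout_of_isFiltered (colimit.isColimit (Dn R)) f hf
  letI alg' : Algebra ((Dn R).obj j) T' := f'.hom.toAlgebra
  haveI het' : Algebra.Etale ((Dn R).obj j) T' := hf'
  have hopen : IsOpen (Set.range (PrimeSpectrum.comap f'.hom)) :=
    (PrimeSpectrum.isOpenMap_comap_of_hasGoingDown_of_finitePresentation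
      (R := (Dn R).obj j) (S := T')).isOpen_range
  have hZ : PrimeSpectrum.zeroLocus
      (PrimeSpectrum.vanishingIdeal (Set.range (PrimeSpectrum.comap f'.hom))ᶜ : Set _) =
      (Set.range (PrimeSpectrum.comap f'.hom))ᶜ := by
    rw [PrimeSpectrum.zeroLocus_vanishingIdeal_eq_closure, hopen.isClosed_compl.closure_eq]
  have hKtop : Ideal.map (colimit.ι (Dn R) j).hom
      (PrimeSpectrum.vanishingIdeal (Set.range (PrimeSpectrum.comap f'.hom))ᶜ) = ⊤ := by
    by_contra hne
    obtain ⟨M, hM, hle⟩ := Ideal.exists_le_maximal _ hne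
    obtain ⟨Q, hQ⟩ :=
      ((RingHom.FaithfullyFlat.iff_flat_and_comap_surjective).mp hff).2 ⟨M, hM.isPrime⟩
    have h1 : PrimeSpectrum.comap f'.hom (PrimeSpectrum.comap g.hom Q) =
        PrimeSpectrum.comap (colimit.ι (Dn R) j).hom ⟨M, hM.isPrime⟩ := by
      rw [← hQ, ← PrimeSpectrum.comap_comp_apply, ← PrimeSpectrum.comap_comp_apply]
      congr 1
      exact congrArg CommRingCat.Hom.hom hpo.w.symm
    have h2 : PrimeSpectrum.comap (colimit.ι (Dn R) j).hom ⟨M, hM.isPrime⟩ ∈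
        PrimeSpectrum.zeroLocus
          (PrimeSpectrum.vanishingIdeal (Set.range (PrimeSpectrum.comap f'.hom))ᶜ : Set _) := by
      rw [PrimeSpectrum.mem_zeroLocus, SetLike.coe_subset_coe]
      exact Ideal.map_le_iff_le_comap.mp hle
    rw [hZ] at h2
    exact h2 ⟨_, h1⟩
  obtain ⟨k, jk, hk⟩ := exists_map_eq_top (Dn R) _ (colimit.isColimit (Dn R)) j _ hKtop
  have hinl_et : IndEtComp.etaleMP (pushout.inl ((Dn R).map jk) f') :=
    MorphismProperty.pushout_inl _ _ hf'
  have hinl_ff : (pushout.inl ((Dn R).map jk) f').hom.FaithfullyFlat := by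
    rw [RingHom.FaithfullyFlat.iff_flat_and_comap_surjective]
    constructor
    · letI := (pushout.inl ((Dn R).map jk) f').hom.toAlgebra
      haveI : Algebra.Etale ((Dn R).obj k) (pushout ((Dn R).map jk) f' : CommRingCat.{u}) :=
        hinl_et
      exact (inferInstance :
        Module.Flat ((Dn R).obj k) (pushout ((Dn R).map jk) f' : CommRingCat.{u}))
    · intro 𝔭
      have hy : PrimeSpectrum.comap ((Dn R).map jk).hom 𝔭 ∈
          Set.range (PrimeSpectrum.comap f'.hom) := by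
        by_contra hnot
        have h3 : PrimeSpectrum.comap ((Dn R).map jk).hom 𝔭 ∈ PrimeSpectrum.zeroLocus
            (PrimeSpectrum.vanishingIdeal (Set.range (PrimeSpectrum.comap f'.hom))ᶜ : Set _) := by
          rw [hZ]
          exact hnot
        rw [PrimeSpectrum.mem_zeroLocus, SetLike.coe_subset_coe] at h3
        have h4 : Ideal.map ((Dn R).map jk).hom
            (PrimeSpectrum.vanishingIdeal (Set.range (PrimeSpectrum.comap f'.hom))ᶜ) ≤
            𝔭.asIdeal := Ideal.map_le_iff_le_comap.mpr h3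
        rw [hk] at h4
        exact 𝔭.2.ne_top (top_le_iff.mp h4)
      obtain ⟨q, hq⟩ := hy
      exact exists_prime_of_isPushout (IsPushout.of_hasPushout ((Dn R).map jk) f') 𝔭 q hq.symm
  obtain ⟨h, hh⟩ := stepHom_univ (seq R k.down) (pushout.inl ((Dn R).map jk) f') hinl_et hinl_ff
  have hstep : (Dn R).map (homOfLE (show k ≤ ULift.up (k.down + 1) from Nat.le_succ k.down)) =
      stepHom (seq R k.down) := seqF_map_succ R k.down (Nat.le_succ k.down)
  let h' : (pushout ((Dn R).map jk) f' : CommRingCat.{u}) ⟶ (Dn R).obj (ULift.up (k.down + 1)) := h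
  have hh' : pushout.inl ((Dn R).map jk) f' ≫ h' =
      (Dn R).map (homOfLE (show k ≤ ULift.up (k.down + 1) from Nat.le_succ k.down)) :=
    hh.trans hstep.symm
  let u : T' ⟶ Cinf R :=
    pushout.inr ((Dn R).map jk) f' ≫ h' ≫ colimit.ι (Dn R) (ULift.up (k.down + 1))
  have hw : colimit.ι (Dn R) j ≫ 𝟙 (Cinf R) = f' ≫ u :=
    calc colimit.ι (Dn R) j ≫ 𝟙 (Cinf R) = colimit.ι (Dn R) j := Category.comp_id _
      _ = (Dn R).map jk ≫ colimit.ι (Dn R) k := (colimit.w (Dn R) jk).symm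
      _ = (Dn R).map jk ≫ (Dn R).map (homOfLE (show k ≤ ULift.up (k.down + 1) from
            Nat.le_succ k.down)) ≫ colimit.ι (Dn R) (ULift.up (k.down + 1)) := by
          rw [colimit.w (Dn R) (homOfLE (show k ≤ ULift.up (k.down + 1) from
            Nat.le_succ k.down))]
      _ = (Dn R).map jk ≫ (pushout.inl ((Dn R).map jk) f' ≫ h') ≫
            colimit.ι (Dn R) (ULift.up (k.down + 1)) := by rw [hh']
      _ = ((Dn R).map jk ≫ pushout.inl ((Dn R).map jk) f') ≫ h' ≫
            colimit.ι (Dn R) (ULift.up (k.down + 1)) := by simp only [Category.assoc]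
      _ = (f' ≫ pushout.inr ((Dn R).map jk) f') ≫ h' ≫
            colimit.ι (Dn R) (ULift.up (k.down + 1)) := by rw [pushout.condition]
      _ = f' ≫ u := Category.assoc _ _ _
  exact ⟨hpo.desc (𝟙 _) u hw, hpo.inl_desc _ _ _⟩

/-- the statement of S0693 -/
theorem main693 (A : Type u) [CommRing A] :
    ∃ (C : Type u) (_ : CommRing C) (_ : Algebra A C),
      Module.FaithfullyFlat A C ∧ EtPBC.IsIndEtale A C ∧ ProEtW.HasEtaleRetractions C := by
  letI alg : Algebra A (Cinf (CommRingCat.of A)) :=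
    (colimit.ι (Dn (CommRingCat.of A)) (ULift.up 0)).hom.toAlgebra
  refine ⟨Cinf (CommRingCat.of A), inferInstance, alg, ff_iota (CommRingCat.of A), ?_, ?_⟩
  · exact (IndEtComp.isIndEtale_iff_indMP A (Cinf (CommRingCat.of A))).mpr
      (ind_iota (CommRingCat.of A))
  · intro B _ _ hff het
    obtain ⟨r, hr⟩ := exists_retraction (CommRingCat.of A) (CommRingCat.of B)
      (CommRingCat.ofHom (algebraMap (Cinf (CommRingCat.of A)) B))
      (RingHom.etale_algebraMap.mpr het) (RingHom.faithfullyFlat_algebraMap_iff.mpr hff)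
    exact ⟨{ toRingHom := r.hom, commutes' := fun c => congr($(hr).hom c) }⟩

end H9FE.EtCov
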