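import Mathlib
import Groth.Prelude.Def_PBC
import Groth.Prelude.Def_ProEtW
import Groth.Agent.Lib.Helper9.FE.EtCov3
import Groth.Agent.Lib.Helper9.FE.IZ4
import Groth.Agent.Lib.Helper9.WEtField.Main
import Groth.Agent.Lib.Helper6.IndEtWeakly

/-! helper9: basic permanence facts used for w-strictly-local covers: ind-Zariski algebras are
ind-étale, weakly étale (hence ind-étale) algebras induce algebraic residue field extensions,
algebraic residue field extensions are stable under base change, and points of fibre products of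
spectra. -/

set_option autoImplicit false
universe u
open CategoryTheory Limits TensorProduct

namespace H9FE.WStr

open Groth.Agent.Lib.Helper6

set_option linter.unusedSectionVars false
set_option linter.style.haveILetI false

/-! ### ind-Zariski implies ind-étale -/

theorem etale_of_isLocalIso (R S : Type u) [CommRing R] [CommRing S] [Algebra R S]
    [Algebra.IsLocalIso R S] : Algebra.Etale R S := by
  rw [← RingHom.etale_algebraMap]
  refine RingHom.Etale.ofLocalizationSpanTarget (algebraMap R S) _
    (Algebra.IsLocalIso.span_isStandardOpenImmersion_eq_top R S) ?_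
  rintro ⟨g, hg⟩
  obtain ⟨r, hr⟩ := (hg : Algebra.IsStandardOpenImmersion R (Localization.Away g))
  rw [← IsScalarTower.algebraMap_eq, RingHom.etale_algebraMap]
  exact Algebra.Etale.of_isLocalizationAway r

theorem isIndEtale_of_isIndZariski (A B : Type u) [CommRing A] [CommRing B] [Algebra A B]
    (h : EtPBC.IsIndZariski A B) : EtPBC.IsIndEtale A B := by
  obtain ⟨J, i1, i2, D, c, hc, hD, hiso⟩ := h
  refine ⟨J, i1, i2, D, c, hc, fun j => ?_, hiso⟩
  letI := (D.obj j).hom.hom.toAlgebra
  haveI : Algebra.IsLocalIso A (D.obj j).right := hD j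
  exact etale_of_isLocalIso A (D.obj j).right

/-! ### algebraic residue field extensions -/

theorem isAlgebraic_of_fractionRing_field {R S K L : Type u} [CommRing R] [IsDomain R]
    [CommRing S]
    [Algebra R S] [Field K] [Field L] [Algebra R K] [IsFractionRing R K] [Algebra K L]
    [Algebra.IsAlgebraic K L] (φ : S →+* L) (hφ : Function.Injective φ)
    (hcomm : ∀ r : R, φ (algebraMap R S r) = algebraMap K L (algebraMap R K r)) :
    Algebra.IsAlgebraic R S := by
  letI algRL : Algebra R L := ((algebraMap K L).comp (algebraMap R K)).toAlgebra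
  haveI : IsScalarTower R K L := IsScalarTower.of_algebraMap_eq (fun _ => rfl)
  letI algSL : Algebra S L := φ.toAlgebra
  haveI : IsScalarTower R S L := IsScalarTower.of_algebraMap_eq (fun r => (hcomm r).symm)
  refine ⟨fun s => ?_⟩
  have h1 : IsAlgebraic K (algebraMap S L s) := Algebra.IsAlgebraic.isAlgebraic _
  have h2 : IsAlgebraic R (algebraMap S L s) := (IsFractionRing.isAlgebraic_iff R K L).mpr h1
  exact (isAlgebraic_algebraMap_iff hφ).mp h2

theorem isAlgebraic_quotient_of_field (A B K : Type u) [CommRing A] [CommRing B] [Algebra A B]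
    [Algebra.WeaklyEtale A B] [Field K] [Algebra A K] (q : Ideal B) [q.IsPrime]
    [Algebra (A ⧸ q.comap (algebraMap A B)) K]
    [IsScalarTower A (A ⧸ q.comap (algebraMap A B)) K]
    [IsFractionRing (A ⧸ q.comap (algebraMap A B)) K] :
    Algebra.IsAlgebraic (A ⧸ q.comap (algebraMap A B)) (B ⧸ q) := by
  haveI hpp : (q.comap (algebraMap A B)).IsPrime := Ideal.comap_isPrime _ _
  haveI hbot : (⊥ : Ideal K).IsPrime := Ideal.isPrime_bot
  have hcomap : q.comap (algebraMap A B) = (⊥ : Ideal K).comap (algebraMap A K) := by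
    ext x
    rw [Ideal.mem_comap (f := algebraMap A K), Ideal.mem_bot,
      IsScalarTower.algebraMap_apply A (A ⧸ q.comap (algebraMap A B)) K,
      map_eq_zero_iff _ (IsFractionRing.injective (A ⧸ q.comap (algebraMap A B)) K),
      Ideal.Quotient.algebraMap_eq, Ideal.Quotient.eq_zero_iff_mem]
  obtain ⟨Ω, _, β, γ, hβγ, hker⟩ := H9FE.EtCov.exists_field_of_comap_eq (algebraMap A B)
    (algebraMap A K) q ⊥ hcomap
  letI algAΩ : Algebra A Ω := (β.comp (algebraMap A B)).toAlgebra
  let β' : B →ₐ[A] Ω := { β with commutes' := fun _ => rfl }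
  let γ' : K →ₐ[A] Ω := { γ with commutes' := fun a => (congr($hβγ a)).symm }
  let δ : K ⊗[A] B →ₐ[A] Ω := Algebra.TensorProduct.productMap γ' β'
  have hδ : ∀ b : B, δ (1 ⊗ₜ b) = β b := by
    intro b
    show Algebra.TensorProduct.productMap γ' β' (1 ⊗ₜ b) = β b
    rw [Algebra.TensorProduct.productMap_apply_tmul, map_one, one_mul]
    rfl
  haveI hq' : (RingHom.ker δ.toRingHom).IsPrime := RingHom.ker_isPrime _
  haveI hsep : Algebra.IsSeparable K (RingHom.ker δ.toRingHom).ResidueField :=
    Groth.Agent.Helper9.WEtField.isSeparable_residueField K (K ⊗[A] B) _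
  haveI halg : Algebra.IsAlgebraic K (RingHom.ker δ.toRingHom).ResidueField :=
    Algebra.IsSeparable.isAlgebraic _ _
  have hmem : ∀ b : B, algebraMap (K ⊗[A] B)
      (RingHom.ker δ.toRingHom).ResidueField (1 ⊗ₜ b) = 0 ↔ b ∈ q := by
    intro b
    rw [Ideal.algebraMap_residueField_eq_zero, RingHom.mem_ker]
    show δ (1 ⊗ₜ b) = 0 ↔ b ∈ q
    rw [hδ, ← hker, RingHom.mem_ker]
  let φ : B ⧸ q →+* (RingHom.ker δ.toRingHom).ResidueField :=
    Ideal.Quotient.lift q ((algebraMap (K ⊗[A] B)
      (RingHom.ker δ.toRingHom).ResidueField).comp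
        (Algebra.TensorProduct.includeRight (R := A) (A := K) (B := B)).toRingHom)
      (fun b hb => (hmem b).mpr hb)
  have hφinj : Function.Injective φ := by
    rw [injective_iff_map_eq_zero]
    intro x hx
    obtain ⟨b, rfl⟩ := Ideal.Quotient.mk_surjective x
    rw [Ideal.Quotient.eq_zero_iff_mem]
    exact (hmem b).mp hx
  refine isAlgebraic_of_fractionRing_field (K := K)
    (L := (RingHom.ker δ.toRingHom).ResidueField) φ hφinj ?_
  intro r
  obtain ⟨a, rfl⟩ := Ideal.Quotient.mk_surjective r
  have e1 : algebraMap (A ⧸ q.comap (algebraMap A B)) K (Ideal.Quotient.mk _ a) =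
      algebraMap A K a := (IsScalarTower.algebraMap_apply A (A ⧸ q.comap (algebraMap A B)) K a).symm
  rw [e1]
  show algebraMap (K ⊗[A] B)
      (RingHom.ker δ.toRingHom).ResidueField (1 ⊗ₜ (algebraMap A B a)) =
    algebraMap K (RingHom.ker δ.toRingHom).ResidueField (algebraMap A K a)
  have e2 : (1 : K) ⊗ₜ[A] (algebraMap A B a) = (algebraMap A K a) ⊗ₜ[A] (1 : B) := by
    rw [Algebra.algebraMap_eq_smul_one, Algebra.algebraMap_eq_smul_one (A := K),
      TensorProduct.smul_tmul]
  rw [IsScalarTower.algebraMap_apply K (K ⊗[A] B) (RingHom.ker δ.toRingHom).ResidueField,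
    Algebra.TensorProduct.algebraMap_apply, e2]
  rfl

theorem algebraicResidueExtensions_of_weaklyEtale (A B : Type u) [CommRing A] [CommRing B]
    [Algebra A B] [Algebra.WeaklyEtale A B] : ProEtW.AlgebraicResidueExtensions A B := by
  intro q hq
  haveI hpp : (q.comap (algebraMap A B)).IsPrime := Ideal.comap_isPrime _ _
  exact isAlgebraic_quotient_of_field A B (q.comap (algebraMap A B)).ResidueField q

theorem algebraicResidueExtensions_of_isIndEtale (A B : Type u) [CommRing A] [CommRing B]
    [Algebra A B] (h : EtPBC.IsIndEtale A B) : ProEtW.AlgebraicResidueExtensions A B := by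
  haveI := IndEt.weaklyEtale_of_isIndEtale A B h
  exact algebraicResidueExtensions_of_weaklyEtale A B

end H9FE.WStr
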