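import Mathlib
import Groth.Prelude.Def_PBC
import Groth.Prelude.Def_ProEtW
import Groth.Agent.Lib.Helper9.FE.WStr1
import Groth.Agent.Lib.Helper9.FE.IZ3
import Groth.Agent.Lib.Helper9.FE.WLz4

/-! helper9: points of tensor products over two compatible points, base change of algebraic residue
field extensions, lifting points through a bijection of quotients, and: a ring map that induces
isomorphisms of local rings at all maximal ideals does so at all primes. -/

set_option autoImplicit false
universe u
open CategoryTheory Limits TensorProduct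

namespace H9FE.WStr

open H9FE.IZ

set_option linter.unusedSectionVars false
set_option linter.style.haveILetI false

/-! ### points of tensor products -/

theorem exists_field_of_comap_eq' {X Y Z : Type u} [CommRing X] [CommRing Y] [CommRing Z]
    (a : X →+* Y) (b : X →+* Z) (𝔭 : Ideal Y) [𝔭.IsPrime] (q : Ideal Z) [q.IsPrime]
    (h : 𝔭.comap a = q.comap b) :
    ∃ (Ω : Type u) (_ : Field Ω) (β : Y →+* Ω) (γ : Z →+* Ω),
      β.comp a = γ.comp b ∧ RingHom.ker β = 𝔭 ∧ RingHom.ker γ = q := by
  letI alg₁ : Algebra (𝔭.comap a).ResidueField 𝔭.ResidueField :=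
    (Ideal.ResidueField.map (𝔭.comap a) 𝔭 a rfl).toAlgebra
  letI alg₂ : Algebra (𝔭.comap a).ResidueField q.ResidueField :=
    (Ideal.ResidueField.map (𝔭.comap a) q b h).toAlgebra
  haveI : Nontrivial (𝔭.ResidueField ⊗[(𝔭.comap a).ResidueField] q.ResidueField) := inferInstance
  obtain ⟨M, hM⟩ :=
    Ideal.exists_maximal (𝔭.ResidueField ⊗[(𝔭.comap a).ResidueField] q.ResidueField)
  letI : Field ((𝔭.ResidueField ⊗[(𝔭.comap a).ResidueField] q.ResidueField) ⧸ M) :=
    Ideal.Quotient.field M
  let inclL : 𝔭.ResidueField →+*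
      (𝔭.ResidueField ⊗[(𝔭.comap a).ResidueField] q.ResidueField) ⧸ M :=
    (Ideal.Quotient.mk M).comp Algebra.TensorProduct.includeLeftRingHom
  let inclR : q.ResidueField →+*
      (𝔭.ResidueField ⊗[(𝔭.comap a).ResidueField] q.ResidueField) ⧸ M :=
    (Ideal.Quotient.mk M).comp
      (Algebra.TensorProduct.includeRight (R := (𝔭.comap a).ResidueField)
        (A := 𝔭.ResidueField) (B := q.ResidueField)).toRingHom
  refine ⟨(𝔭.ResidueField ⊗[(𝔭.comap a).ResidueField] q.ResidueField) ⧸ M, inferInstance,
    inclL.comp (algebraMap Y 𝔭.ResidueField), inclR.comp (algebraMap Z q.ResidueField), ?_, ?_, ?_⟩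
  · ext r
    show Ideal.Quotient.mk M ((algebraMap Y 𝔭.ResidueField (a r)) ⊗ₜ 1) =
      Ideal.Quotient.mk M (1 ⊗ₜ (algebraMap Z q.ResidueField (b r)))
    congr 1
    rw [← Ideal.ResidueField.map_algebraMap (𝔭.comap a) 𝔭 a rfl,
      ← Ideal.ResidueField.map_algebraMap (𝔭.comap a) q b h]
    show (algebraMap (𝔭.comap a).ResidueField 𝔭.ResidueField
        (algebraMap X (𝔭.comap a).ResidueField r)) ⊗ₜ[(𝔭.comap a).ResidueField]
        (1 : q.ResidueField) =
      (1 : 𝔭.ResidueField) ⊗ₜ[(𝔭.comap a).ResidueField]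
        (algebraMap (𝔭.comap a).ResidueField q.ResidueField
          (algebraMap X (𝔭.comap a).ResidueField r))
    rw [Algebra.algebraMap_eq_smul_one, Algebra.algebraMap_eq_smul_one (A := q.ResidueField),
      TensorProduct.smul_tmul]
  · ext y
    rw [RingHom.mem_ker]
    show inclL (algebraMap Y 𝔭.ResidueField y) = 0 ↔ y ∈ 𝔭
    rw [map_eq_zero_iff _ inclL.injective, Ideal.algebraMap_residueField_eq_zero]
  · ext z
    rw [RingHom.mem_ker]
    show inclR (algebraMap Z q.ResidueField z) = 0 ↔ z ∈ q
    rw [map_eq_zero_iff _ inclR.injective, Ideal.algebraMap_residueField_eq_zero]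

theorem exists_prime_tensor (A B C : Type u) [CommRing A] [CommRing B] [CommRing C]
    [Algebra A B] [Algebra A C] (q : PrimeSpectrum B) (c : PrimeSpectrum C)
    (h : PrimeSpectrum.comap (algebraMap A B) q = PrimeSpectrum.comap (algebraMap A C) c) :
    ∃ Q : PrimeSpectrum (B ⊗[A] C),
      PrimeSpectrum.comap
        (Algebra.TensorProduct.includeLeftRingHom : B →+* B ⊗[A] C) Q = q ∧
      PrimeSpectrum.comap
        (Algebra.TensorProduct.includeRight (R := A) (A := B) (B := C)).toRingHom Q = c := by
  have h' : q.asIdeal.comap (algebraMap A B) = c.asIdeal.comap (algebraMap A C) :=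
    congrArg PrimeSpectrum.asIdeal h
  obtain ⟨Ω, _, β, γ, hβγ, hkβ, hkγ⟩ :=
    exists_field_of_comap_eq' (algebraMap A B) (algebraMap A C) q.asIdeal c.asIdeal h'
  letI algAΩ : Algebra A Ω := (β.comp (algebraMap A B)).toAlgebra
  let β' : B →ₐ[A] Ω := { β with commutes' := fun _ => rfl }
  let γ' : C →ₐ[A] Ω := { γ with commutes' := fun a => (congr($hβγ a)).symm }
  let δ : B ⊗[A] C →ₐ[A] Ω := Algebra.TensorProduct.productMap β' γ'
  have hδ : ∀ (b : B) (c : C), δ (b ⊗ₜ c) = β b * γ c := by
    intro b c
    show Algebra.TensorProduct.productMap β' γ' (b ⊗ₜ c) = β b * γ c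
    rw [Algebra.TensorProduct.productMap_apply_tmul]
    rfl
  refine ⟨⟨RingHom.ker δ.toRingHom, RingHom.ker_isPrime _⟩, ?_, ?_⟩
  · apply PrimeSpectrum.ext
    rw [← hkβ]
    ext y
    show δ (y ⊗ₜ 1) = 0 ↔ β y = 0
    rw [hδ, map_one, mul_one]
  · apply PrimeSpectrum.ext
    rw [← hkγ]
    ext y
    show δ (1 ⊗ₜ y) = 0 ↔ γ y = 0
    rw [hδ, map_one, one_mul]

/-! ### base change of algebraic residue field extensions -/

theorem isAlgebraic_map_of_comm {R₁ S₁ R₂ S₂ : Type u} [CommRing R₁] [CommRing S₁] [CommRing R₂]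
    [CommRing S₂] [Algebra R₁ S₁] [Algebra R₂ S₂] (f : R₁ →+* R₂) (hf : Function.Injective f)
    (g : S₁ →+* S₂) (hcomm : g.comp (algebraMap R₁ S₁) = (algebraMap R₂ S₂).comp f) (s : S₁)
    (hs : IsAlgebraic R₁ s) : IsAlgebraic R₂ (g s) := by
  obtain ⟨P, hP0, hP⟩ := hs
  refine ⟨P.map f, (Polynomial.map_ne_zero_iff hf).mpr hP0, ?_⟩
  rw [Polynomial.aeval_def, Polynomial.eval₂_map, ← hcomm, ← Polynomial.hom_eval₂,
    ← Polynomial.aeval_def, hP, map_zero]

theorem tensor_comm_algebraMap (A B C : Type u) [CommRing A] [CommRing B] [CommRing C]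
    [Algebra A B] [Algebra A C] (a : A) :
    (algebraMap A B a) ⊗ₜ[A] (1 : C) = (1 : B) ⊗ₜ[A] (algebraMap A C a) := by
  rw [Algebra.algebraMap_eq_smul_one, Algebra.algebraMap_eq_smul_one (A := C),
    TensorProduct.smul_tmul]

theorem are_baseChange (A B C : Type u) [CommRing A] [CommRing B] [CommRing C] [Algebra A B]
    [Algebra A C] (h : ProEtW.AlgebraicResidueExtensions A B) :
    letI := Algebra.TensorProduct.rightAlgebra (R := A) (A := B) (B := C)
    ProEtW.AlgebraicResidueExtensions C (B ⊗[A] C) := by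
  letI := Algebra.TensorProduct.rightAlgebra (R := A) (A := B) (B := C)
  intro Q hQ
  haveI h𝔠 : (Q.comap (algebraMap C (B ⊗[A] C))).IsPrime := Ideal.comap_isPrime _ _
  haveI hq : (Q.comap (algebraMap B (B ⊗[A] C))).IsPrime := Ideal.comap_isPrime _ _
  have hAlg := h (Q.comap (algebraMap B (B ⊗[A] C)))
  have hmaps : (algebraMap B (B ⊗[A] C)).comp (algebraMap A B) =
      (algebraMap C (B ⊗[A] C)).comp (algebraMap A C) := by
    ext a
    exact tensor_comm_algebraMap A B C a
  have hpe : (Q.comap (algebraMap B (B ⊗[A] C))).comap (algebraMap A B) =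
      (Q.comap (algebraMap C (B ⊗[A] C))).comap (algebraMap A C) := by
    rw [Ideal.comap_comap, Ideal.comap_comap, hmaps]
  let f : A ⧸ (Q.comap (algebraMap B (B ⊗[A] C))).comap (algebraMap A B) →+*
      C ⧸ Q.comap (algebraMap C (B ⊗[A] C)) :=
    Ideal.quotientMap _ (algebraMap A C) hpe.le
  have hf : Function.Injective f := Ideal.quotientMap_injective' hpe.ge
  let g : B ⧸ Q.comap (algebraMap B (B ⊗[A] C)) →+* (B ⊗[A] C) ⧸ Q :=
    Ideal.quotientMap Q (algebraMap B (B ⊗[A] C)) le_rfl
  have hcomm : g.comp (algebraMap (A ⧸ (Q.comap (algebraMap B (B ⊗[A] C))).comap (algebraMap A B))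
      (B ⧸ Q.comap (algebraMap B (B ⊗[A] C)))) =
      (algebraMap (C ⧸ Q.comap (algebraMap C (B ⊗[A] C))) ((B ⊗[A] C) ⧸ Q)).comp f := by
    apply Ideal.Quotient.ringHom_ext
    ext a
    show Ideal.Quotient.mk Q (algebraMap B (B ⊗[A] C) (algebraMap A B a)) =
      Ideal.Quotient.mk Q (algebraMap C (B ⊗[A] C) (algebraMap A C a))
    congr 1
    exact tensor_comm_algebraMap A B C a
  refine ⟨fun x => ?_⟩
  obtain ⟨t, rfl⟩ := Ideal.Quotient.mk_surjective x
  induction t using TensorProduct.induction_on with
  | zero =>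
    rw [map_zero]
    exact isAlgebraic_zero
  | add x y hx hy =>
    rw [map_add]
    exact hx.add hy
  | tmul b c =>
    have e : b ⊗ₜ[A] c = (b ⊗ₜ[A] (1 : C)) * ((1 : B) ⊗ₜ[A] c) := by
      rw [Algebra.TensorProduct.tmul_mul_tmul, mul_one, one_mul]
    rw [e, map_mul]
    refine IsAlgebraic.mul ?_ ?_
    · exact isAlgebraic_map_of_comm f hf g hcomm (Ideal.Quotient.mk _ b) (hAlg.isAlgebraic _)
    · exact isAlgebraic_algebraMap (R := C ⧸ Q.comap (algebraMap C (B ⊗[A] C)))
        (A := (B ⊗[A] C) ⧸ Q) (Ideal.Quotient.mk _ c)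

/-! ### lifting points through a bijection of quotients -/

theorem exists_comap_eq_of_quotient_bijective {R S : Type u} [CommRing R] [CommRing S]
    [Algebra R S] (K : Ideal R)
    (hb : Function.Bijective (Ideal.quotientMap (K.map (algebraMap R S)) (algebraMap R S)
      Ideal.le_comap_map))
    (z : PrimeSpectrum R) (hz : K ≤ z.asIdeal) :
    ∃ w : PrimeSpectrum S, PrimeSpectrum.comap (algebraMap R S) w = z := by
  obtain ⟨z', hz'⟩ := H9FE.WLz4.exists_comap_mk_eq R K z
    (by rw [PrimeSpectrum.mem_zeroLocus]; exact hz)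
  let e := RingEquiv.ofBijective _ hb
  refine ⟨PrimeSpectrum.comap (Ideal.Quotient.mk (K.map (algebraMap R S)))
    (PrimeSpectrum.comap e.symm.toRingHom z'), ?_⟩
  rw [← hz']
  apply PrimeSpectrum.ext
  show ((z'.asIdeal.comap e.symm.toRingHom).comap (Ideal.Quotient.mk _)).comap (algebraMap R S) =
    (z'.asIdeal).comap (Ideal.Quotient.mk K)
  rw [Ideal.comap_comap, Ideal.comap_comap]
  congr 1
  ext r
  show e.symm (Ideal.Quotient.mk _ (algebraMap R S r)) = Ideal.Quotient.mk K r
  rw [RingEquiv.symm_apply_eq]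
  rfl

/-! ### identifying local rings at maximal ideals suffices -/

theorem bijective_localRingHom_of_le (C D : Type u) [CommRing C] [CommRing D] [Algebra C D]
    (M : Ideal D) [M.IsPrime]
    (hM : Function.Bijective
      (Localization.localRingHom (M.comap (algebraMap C D)) M (algebraMap C D) rfl))
    (Q : Ideal D) [Q.IsPrime] (hQM : Q ≤ M) :
    Function.Bijective
      (Localization.localRingHom (Q.comap (algebraMap C D)) Q (algebraMap C D) rfl) := by
  letI algLoc : Algebra (Localization.AtPrime (M.comap (algebraMap C D)))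
      (Localization.AtPrime M) :=
    (Localization.localRingHom (M.comap (algebraMap C D)) M (algebraMap C D) rfl).toAlgebra
  haveI tower : IsScalarTower C (Localization.AtPrime (M.comap (algebraMap C D)))
      (Localization.AtPrime M) :=
    IsScalarTower.of_algebraMap_eq (fun c => by
      show algebraMap C (Localization.AtPrime M) c =
        Localization.localRingHom _ _ _ rfl (algebraMap C _ c)
      rw [Localization.localRingHom_to_map,
        IsScalarTower.algebraMap_apply C D (Localization.AtPrime M)])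
  have ha : EtPBC.IdentifiesLocalRings C (Localization.AtPrime (M.comap (algebraMap C D))) :=
    identifiesLocalRings_of_isIndZariski _ _ (IsIndZarLoc.isIndZariski
      (isIndZarLoc_of_isLocalization (M.comap (algebraMap C D)).primeCompl _))
  have hb : EtPBC.IdentifiesLocalRings D (Localization.AtPrime M) :=
    identifiesLocalRings_of_isIndZariski _ _ (IsIndZarLoc.isIndZariski
      (isIndZarLoc_of_isLocalization M.primeCompl _))
  haveI hLI : Algebra.IsLocalIso (Localization.AtPrime (M.comap (algebraMap C D)))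
      (Localization.AtPrime M) :=
    rLocalIso_algebraMap.mp (rLocalIso_of_bijective _ hM)
  have hc : EtPBC.IdentifiesLocalRings (Localization.AtPrime (M.comap (algebraMap C D)))
      (Localization.AtPrime M) :=
    fun q => bijective_localRingHom_of_isLocalIso _ _ q.asIdeal _ rfl
  have hd : EtPBC.IdentifiesLocalRings C (Localization.AtPrime M) :=
    identifiesLocalRings_comp ha hc
  have hdisj : Disjoint (M.primeCompl : Set D) (Q : Set D) := by
    rw [Set.disjoint_left]
    intro x hx hxQ
    exact hx (hQM hxQ)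
  haveI hQ'prime : (Q.map (algebraMap D (Localization.AtPrime M))).IsPrime :=
    IsLocalization.isPrime_of_isPrime_disjoint M.primeCompl _ Q inferInstance hdisj
  have hQ'comap : (Q.map (algebraMap D (Localization.AtPrime M))).comap
      (algebraMap D (Localization.AtPrime M)) = Q :=
    IsLocalization.under_map_of_isPrime_disjoint M.primeCompl _ inferInstance hdisj
  have h1 := bijective_localRingHom_congr (Q.map (algebraMap D (Localization.AtPrime M))) hd _
    (comap_comap_eq (A := C) (B := D) (Q.map (algebraMap D (Localization.AtPrime M))))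
  have h2 : Function.Bijective (Localization.localRingHom
      ((Q.map (algebraMap D (Localization.AtPrime M))).comap
        (algebraMap D (Localization.AtPrime M)))
      (Q.map (algebraMap D (Localization.AtPrime M)))
      (algebraMap D (Localization.AtPrime M)) rfl) :=
    hb ⟨Q.map (algebraMap D (Localization.AtPrime M)), hQ'prime⟩
  rw [localRingHom_comp_eq, RingHom.coe_comp] at h1
  have h3 := (Function.Bijective.of_comp_iff' h2 _).mp h1
  have aux : ∀ (Q₁ : Ideal D) [Q₁.IsPrime] (_ : Q₁ = Q),
      Function.Bijective (Localization.localRingHom (Q₁.comap (algebraMap C D)) Q₁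
        (algebraMap C D) rfl) →
      Function.Bijective (Localization.localRingHom (Q.comap (algebraMap C D)) Q
        (algebraMap C D) rfl) := by
    intro Q₁ _ e h
    subst e
    exact h
  exact aux _ hQ'comap h3

theorem identifiesLocalRings_of_maximal (C D : Type u) [CommRing C] [CommRing D] [Algebra C D]
    (h : ∀ (M : Ideal D) [M.IsMaximal], Function.Bijective
      (Localization.localRingHom (M.comap (algebraMap C D)) M (algebraMap C D) rfl)) :
    EtPBC.IdentifiesLocalRings C D := by
  intro q
  obtain ⟨M, hM, hle⟩ := Ideal.exists_le_maximal q.asIdeal q.2.ne_top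
  haveI := hM
  exact bijective_localRingHom_of_le C D M (h M) q.asIdeal hle

end H9FE.WStr
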