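import Mathlib
import Groth.Prelude.Def_EtCore
import Groth.Agent.S0623

/-! helper9: naturality of `Ext.mapExactFunctor` in the functor (enough injectives version),
compatibility with composition of functors, and transitivity of vanishing of pulled back étale
cohomology classes -/

set_option autoImplicit false
universe w w' w'' v v' v'' u u' u''
open CategoryTheory CategoryTheory.Limits Abelian

namespace H9FE.HpullComp

set_option linter.style.haveILetI false

section General

variable {C : Type u} [Category.{v} C] [Abelian C] {D : Type u'} [Category.{v'} D] [Abelian D]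
  [HasExt.{w} C] [HasExt.{w'} D] [EnoughInjectives C]
  (F G : C ⥤ D) [F.Additive] [G.Additive] [PreservesFiniteLimits F] [PreservesFiniteColimits F]
  [PreservesFiniteLimits G] [PreservesFiniteColimits G] (τ : F ⟶ G)

/-- the morphism of short complexes induced by a natural transformation -/
def mapSC (S : ShortComplex C) : S.map F ⟶ S.map G where
  τ₁ := τ.app S.X₁
  τ₂ := τ.app S.X₂
  τ₃ := τ.app S.X₃
  comm₁₂ := (τ.naturality S.f).symm
  comm₂₃ := (τ.naturality S.g).symm

theorem mapExactFunctor_naturality : ∀ (n : ℕ) {X Y : C} (x : Ext.{w} X Y n),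
    (x.mapExactFunctor F).comp (Ext.mk₀ (τ.app Y)) (add_zero n) =
      (Ext.mk₀ (τ.app X)).comp (x.mapExactFunctor G) (zero_add n) := by
  intro n
  induction n with
  | zero =>
    intro X Y x
    obtain ⟨f, rfl⟩ := (Ext.mk₀_bijective X Y).2 x
    rw [Ext.mapExactFunctor_mk₀, Ext.mapExactFunctor_mk₀, Ext.mk₀_comp_mk₀, Ext.mk₀_comp_mk₀,
      τ.naturality]
  | succ n ih =>
    intro X Y x
    let I : InjectivePresentation Y := Classical.arbitrary _
    let S : ShortComplex C := ShortComplex.mk I.f (cokernel.π I.f) (cokernel.condition I.f)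
    haveI : Mono I.f := I.mono
    have hS : S.ShortExact := { exact := ShortComplex.exact_cokernel I.f }
    have h0 : x.comp (Ext.mk₀ S.f) (add_zero (n + 1)) = 0 := by
      haveI : Injective S.X₂ := I.injective
      exact Ext.eq_zero_of_injective _
    obtain ⟨x₁, rfl⟩ := Ext.covariant_sequence_exact₁ X hS x h0 (rfl : n + 1 = n + 1)
    rw [Ext.mapExactFunctor_comp, Ext.mapExactFunctor_comp, Ext.mapExactFunctor_extClass,
      Ext.mapExactFunctor_extClass]
    have hnat := ShortComplex.ShortExact.extClass_naturality (hS.map_of_exact F)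
      (hS.map_of_exact G) (mapSC F G τ S)
    have hnat' : (hS.map_of_exact F).extClass.comp (Ext.mk₀ (τ.app S.X₁)) (add_zero 1) =
        (Ext.mk₀ (τ.app S.X₃)).comp (hS.map_of_exact G).extClass (zero_add 1) := hnat
    refine (Ext.comp_assoc_of_third_deg_zero _ _ _ _).trans ?_
    refine (congrArg (fun z => (x₁.mapExactFunctor F).comp z (rfl : n + 1 = n + 1)) hnat').trans ?_
    refine (Ext.comp_assoc_of_second_deg_zero _ _ _ _).symm.trans ?_
    refine (congrArg (fun z => z.comp (hS.map_of_exact G).extClass (rfl : n + 1 = n + 1))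
      (ih x₁)).trans ?_
    exact Ext.comp_assoc (a₁ := 0) (a₂ := n) (a₃ := 1) _ _ _ (zero_add n) rfl (by omega)

end General

section CompFunctor

variable {C : Type u} [Category.{v} C] [Abelian C] {D : Type u'} [Category.{v'} D] [Abelian D]
  {E : Type u''} [Category.{v''} E] [Abelian E]
  [HasExt.{w} C] [HasExt.{w'} D] [HasExt.{w''} E] [EnoughInjectives C]
  (F : C ⥤ D) (G : D ⥤ E) [F.Additive] [G.Additive] [PreservesFiniteLimits F]
  [PreservesFiniteColimits F] [PreservesFiniteLimits G] [PreservesFiniteColimits G]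

theorem mapExactFunctor_comp_functor : ∀ (n : ℕ) {X Y : C} (x : Ext.{w} X Y n),
    x.mapExactFunctor (F ⋙ G) = (x.mapExactFunctor F).mapExactFunctor G := by
  intro n
  induction n with
  | zero =>
    intro X Y x
    obtain ⟨f, rfl⟩ := (Ext.mk₀_bijective X Y).2 x
    rw [Ext.mapExactFunctor_mk₀, Ext.mapExactFunctor_mk₀, Ext.mapExactFunctor_mk₀]
    rfl
  | succ n ih =>
    intro X Y x
    let I : InjectivePresentation Y := Classical.arbitrary _
    let S : ShortComplex C := ShortComplex.mk I.f (cokernel.π I.f) (cokernel.condition I.f)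
    haveI : Mono I.f := I.mono
    have hS : S.ShortExact := { exact := ShortComplex.exact_cokernel I.f }
    have h0 : x.comp (Ext.mk₀ S.f) (add_zero (n + 1)) = 0 := by
      haveI : Injective S.X₂ := I.injective
      exact Ext.eq_zero_of_injective _
    obtain ⟨x₁, rfl⟩ := Ext.covariant_sequence_exact₁ X hS x h0 (rfl : n + 1 = n + 1)
    have e1 : (x₁.comp hS.extClass (rfl : n + 1 = n + 1)).mapExactFunctor (F ⋙ G) =
        (x₁.mapExactFunctor (F ⋙ G)).comp (hS.map_of_exact (F ⋙ G)).extClass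
          (rfl : n + 1 = n + 1) := by
      refine (Ext.mapExactFunctor_comp (F ⋙ G) _ _ _).trans ?_
      exact congrArg (fun z => (x₁.mapExactFunctor (F ⋙ G)).comp z
        (rfl : n + 1 = n + 1)) (Ext.mapExactFunctor_extClass (F ⋙ G) hS)
    have e2 : (x₁.comp hS.extClass (rfl : n + 1 = n + 1)).mapExactFunctor F =
        (x₁.mapExactFunctor F).comp (hS.map_of_exact F).extClass (rfl : n + 1 = n + 1) := by
      refine (Ext.mapExactFunctor_comp F _ _ _).trans ?_
      exact congrArg (fun z => (x₁.mapExactFunctor F).comp z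
        (rfl : n + 1 = n + 1)) (Ext.mapExactFunctor_extClass F hS)
    have e3 : ((x₁.mapExactFunctor F).comp (hS.map_of_exact F).extClass
        (rfl : n + 1 = n + 1)).mapExactFunctor G =
        ((x₁.mapExactFunctor F).mapExactFunctor G).comp
          ((hS.map_of_exact F).map_of_exact G).extClass (rfl : n + 1 = n + 1) := by
      refine (Ext.mapExactFunctor_comp G _ _ _).trans ?_
      exact congrArg (fun z => ((x₁.mapExactFunctor F).mapExactFunctor G).comp z
        (rfl : n + 1 = n + 1)) (Ext.mapExactFunctor_extClass G (hS.map_of_exact F))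
    rw [e1, e2]
    refine Eq.trans ?_ e3.symm
    rw [ih x₁]
    rfl

end CompFunctor

section Iso

variable {C : Type u} [Category.{v} C] [Abelian C] [HasExt.{w} C]

lemma mk₀_iso_comp_eq_zero_iff {A B Y : C} (e : A ≅ B) {n : ℕ} (x : Ext.{w} B Y n) :
    (Ext.mk₀ e.hom).comp x (zero_add n) = 0 ↔ x = 0 := by
  constructor
  · intro h
    have h1 : (Ext.mk₀ e.inv).comp ((Ext.mk₀ e.hom).comp x (zero_add n)) (zero_add n) =
        (Ext.mk₀ e.inv).comp 0 (zero_add n) := by rw [h]
    rw [← Ext.comp_assoc_of_second_deg_zero, Ext.mk₀_comp_mk₀, Iso.inv_hom_id, Ext.mk₀_id_comp,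
      Ext.comp_zero] at h1
    exact h1
  · intro h
    rw [h, Ext.comp_zero]

lemma comp_mk₀_iso_eq_zero_iff {X A B : C} (e : A ≅ B) {n : ℕ} (x : Ext.{w} X A n) :
    x.comp (Ext.mk₀ e.hom) (add_zero n) = 0 ↔ x = 0 := by
  constructor
  · intro h
    have h1 : (x.comp (Ext.mk₀ e.hom) (add_zero n)).comp (Ext.mk₀ e.inv) (add_zero n) =
        (0 : Ext.{w} X B n).comp (Ext.mk₀ e.inv) (add_zero n) := by rw [h]
    rw [Ext.comp_assoc_of_third_deg_zero, Ext.mk₀_comp_mk₀, Iso.hom_inv_id, Ext.comp_mk₀_id,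
      Ext.zero_comp] at h1
    exact h1
  · intro h
    rw [h, Ext.zero_comp]

end Iso

section Et

open AlgebraicGeometry

variable {X Y Z : Scheme.{u}}

lemma Hpull_eq_zero_iff (f : Y ⟶ Z) [PreservesFiniteLimits (EtCoh.pull f)] (G : EtCoh.Ab Z)
    (n : ℕ) (α : EtCoh.H Z G n) :
    EtCore.Hpull f G n α = 0 ↔ α.mapExactFunctor (EtCoh.pull f) = 0 := by
  change (Ext.mk₀ (EtCore.pullConst f ℤ).inv).comp (α.mapExactFunctor (EtCoh.pull f))
    (zero_add n) = 0 ↔ _
  exact mk₀_iso_comp_eq_zero_iff (EtCore.pullConst f ℤ).symm _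

theorem Hpull_comp_eq_zero_iff (g : X ⟶ Y) (f : Y ⟶ Z) (h : X ⟶ Z) (w : g ≫ f = h)
    [PreservesFiniteLimits (EtCoh.pull g)] [PreservesFiniteLimits (EtCoh.pull f)]
    [PreservesFiniteLimits (EtCoh.pull h)] (G : EtCoh.Ab Z) (n : ℕ) (α : EtCoh.H Z G n) :
    EtCore.Hpull g ((EtCoh.pull f).obj G) n (EtCore.Hpull f G n α) = 0 ↔
      EtCore.Hpull h G n α = 0 := by
  subst w
  rw [Hpull_eq_zero_iff, Hpull_eq_zero_iff]
  change ((Ext.mk₀ (EtCore.pullConst f ℤ).inv).comp (α.mapExactFunctor (EtCoh.pull f))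
    (zero_add n)).mapExactFunctor (EtCoh.pull g) = 0 ↔ _
  rw [Ext.mapExactFunctor_comp, Ext.mapExactFunctor_mk₀]
  refine (mk₀_iso_comp_eq_zero_iff ((EtCoh.pull g).mapIso (EtCore.pullConst f ℤ).symm) _).trans ?_
  rw [← mapExactFunctor_comp_functor (EtCoh.pull f) (EtCoh.pull g) n α]
  refine (mk₀_iso_comp_eq_zero_iff ((EtCore.pullComp g f).app (EtCoh.const Z ℤ)) _).symm.trans ?_
  have hnat := mapExactFunctor_naturality (EtCoh.pull (g ≫ f)) (EtCoh.pull f ⋙ EtCoh.pull g)
    (EtCore.pullComp g f).hom n α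
  change (Ext.mk₀ ((EtCore.pullComp g f).hom.app (EtCoh.const Z ℤ))).comp
    (α.mapExactFunctor (EtCoh.pull f ⋙ EtCoh.pull g)) (zero_add n) = 0 ↔ _
  rw [← hnat]
  exact comp_mk₀_iso_eq_zero_iff ((EtCore.pullComp g f).app G) _

end Et

end H9FE.HpullComp
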