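import Mathlib

/-! helper9: the comparison isomorphism `sheafFiberComapIso` of Mathlib computed on germs. -/

set_option autoImplicit false
universe w v
open CategoryTheory CategoryTheory.Limits Opposite

namespace H9FE.StalkComapGerm

open GrothendieckTopology

lemma counit_eq {C : Type*} [Category* C] {J : GrothendieckTopology C}
    (Ψ : Point.{w} J) {A : Type*} [Category.{v} A] [HasProducts.{w} A]
    [HasColimitsOfSize.{w, w} A] (M : A) :
    Ψ.skyscraperSheafAdjunction.counit.app M =
      Ψ.skyscraperPresheafHomEquiv.symm (𝟙 (Ψ.skyscraperPresheaf M)) := by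
  have h1 := Ψ.skyscraperSheafAdjunction_homEquiv_symm_apply (𝟙 (Ψ.skyscraperSheaf M))
  have e := Ψ.skyscraperSheafAdjunction.homEquiv_counit (Ψ.skyscraperSheaf M) M
    (𝟙 (Ψ.skyscraperSheaf M))
  rw [CategoryTheory.Functor.map_id, Category.id_comp] at e
  exact e.symm.trans h1

lemma toPresheafFiber_counit {C : Type*} [Category* C] {J : GrothendieckTopology C}
    (Ψ : Point.{w} J) {A : Type*} [Category.{v} A] [HasProducts.{w} A]
    [HasColimitsOfSize.{w, w} A] (M : A) (X : C) (x : Ψ.fiber.obj X) :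
    Ψ.toPresheafFiber X x (Ψ.skyscraperSheafFunctor.obj M).obj ≫
      Ψ.skyscraperSheafAdjunction.counit.app M = Pi.π _ x := by
  refine (congrArg (fun z => Ψ.toPresheafFiber X x (Ψ.skyscraperPresheaf M) ≫ z)
    (counit_eq Ψ M)).trans ?_
  refine (Ψ.toPresheafFiber_skyscraperPresheafHomEquiv_symm
    (𝟙 (Ψ.skyscraperPresheaf M)) X x).trans ?_
  exact Category.id_comp _

lemma unit_eq {C : Type*} [Category* C] {J : GrothendieckTopology C}
    (Ψ : Point.{w} J) {A : Type*} [Category.{v} A] [HasProducts.{w} A]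
    [HasColimitsOfSize.{w, w} A] (H : Sheaf J A) :
    (Ψ.skyscraperSheafAdjunction.unit.app H).hom =
      Ψ.skyscraperPresheafHomEquiv (𝟙 (Ψ.presheafFiber.obj H.obj)) := by
  have h1 := Ψ.skyscraperSheafAdjunction_homEquiv_apply_hom (F := H) (𝟙 (Ψ.presheafFiber.obj H.obj))
  have e := Ψ.skyscraperSheafAdjunction.homEquiv_unit H (Ψ.presheafFiber.obj H.obj)
    (𝟙 (Ψ.presheafFiber.obj H.obj))
  have e2 : Ψ.skyscraperSheafAdjunction.unit.app H =
      (Ψ.skyscraperSheafAdjunction.homEquiv H (Ψ.presheafFiber.obj H.obj))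
        (𝟙 (Ψ.presheafFiber.obj H.obj)) := by
    have e3 : Ψ.skyscraperSheafFunctor.map (𝟙 (Ψ.presheafFiber.obj H.obj)) =
        𝟙 (Ψ.skyscraperSheafFunctor.obj (Ψ.presheafFiber.obj H.obj)) :=
      CategoryTheory.Functor.map_id _ _
    exact ((Category.comp_id _).symm.trans
      (congrArg (fun z => Ψ.skyscraperSheafAdjunction.unit.app H ≫ z) e3.symm)).trans e.symm
  rw [e2]
  exact h1

lemma unit_app_π {C : Type*} [Category* C] {J : GrothendieckTopology C}
    (Ψ : Point.{w} J) {A : Type*} [Category.{v} A] [HasProducts.{w} A]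
    [HasColimitsOfSize.{w, w} A] (H : Sheaf J A) (X : C) (x : Ψ.fiber.obj X) :
    (Ψ.skyscraperSheafAdjunction.unit.app H).hom.app (op X) ≫ Pi.π _ x =
      Ψ.toPresheafFiber X x H.obj := by
  refine (congrArg (fun z => z.app (op X) ≫ Pi.π (fun _ : Ψ.fiber.obj X => Ψ.presheafFiber.obj H.obj) x)
    (unit_eq Ψ H)).trans ?_
  refine (Ψ.skyscraperPresheafHomEquiv_app_π (𝟙 (Ψ.presheafFiber.obj H.obj)) X x).trans ?_
  exact Category.comp_id _

section Key

variable {C D : Type*} [Category* C] [Category* D]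
  {K : GrothendieckTopology D}
  (Φ : Point.{w} K) (F : C ⥤ D) [RepresentablyFlat F] {J : GrothendieckTopology C}
  (hF : CoverPreserving J K F)
  [InitiallySmall (F ⋙ Φ.fiber).Elements]
  (A : Type*) [Category.{v} A] [HasProducts.{w} A]
  [Functor.IsContinuous F J K]
  [(F.sheafPushforwardContinuous A J K).IsRightAdjoint]
  [HasColimitsOfSize.{w, w} A]

lemma aux (M : A) (V : C) (v : (Φ.comap F hF).fiber.obj V) :
    (Φ.comap F hF).toPresheafFiber V v
      ((F.sheafPushforwardContinuous A J K).obj (Φ.skyscraperSheafFunctor.obj M)).obj ≫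
      (Φ.comap F hF).presheafFiber.map
        ((Φ.skyscraperSheafFunctorCompSheafPushforwardContinuous F hF A).hom.app M).hom ≫
      ((Φ.comap F hF).skyscraperSheafAdjunction.counit.app M :
        (Φ.comap F hF).presheafFiber.obj ((Φ.comap F hF).skyscraperSheafFunctor.obj M).obj ⟶ M) =
      Pi.π _ v := by
  change (Φ.comap F hF).toPresheafFiber V v ((Φ.comap F hF).skyscraperSheafFunctor.obj M).obj ≫
      (Φ.comap F hF).presheafFiber.map (𝟙 ((Φ.comap F hF).skyscraperSheafFunctor.obj M).obj) ≫
        ((Φ.comap F hF).skyscraperSheafAdjunction.counit.app M :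
          (Φ.comap F hF).presheafFiber.obj ((Φ.comap F hF).skyscraperSheafFunctor.obj M).obj ⟶ M) = _
  rw [CategoryTheory.Functor.map_id]
  erw [Category.id_comp]
  exact toPresheafFiber_counit (Φ.comap F hF) M V v

/-- the comparison `sheafFiberComapIso` on germs -/
lemma key (G : Sheaf J A) (V : C) (v : (Φ.comap F hF).fiber.obj V) :
    (Φ.comap F hF).toPresheafFiber V v G.obj ≫ (Φ.sheafFiberComapIso F hF A).hom.app G =
      ((F.sheafAdjunctionContinuous A J K).unit.app G).hom.app (op V) ≫
        Φ.toPresheafFiber (F.obj V) v ((F.sheafPullback A J K).obj G).obj := by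
  rw [Point.sheafFiberComapIso_hom_app]
  change (Φ.comap F hF).toPresheafFiber V v G.obj ≫
    (Φ.comap F hF).presheafFiber.map ((F.sheafAdjunctionContinuous A J K).unit.app G).hom ≫
    (Φ.comap F hF).presheafFiber.map ((F.sheafPushforwardContinuous A J K).map
      (Φ.skyscraperSheafAdjunction.unit.app ((F.sheafPullback A J K).obj G))).hom ≫
    (Φ.comap F hF).presheafFiber.map
      ((Φ.skyscraperSheafFunctorCompSheafPushforwardContinuous F hF A).hom.app
        (Φ.sheafFiber.obj ((F.sheafPullback A J K).obj G))).hom ≫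
    (Φ.comap F hF).skyscraperSheafAdjunction.counit.app
      (Φ.sheafFiber.obj ((F.sheafPullback A J K).obj G)) = _
  rw [Point.toPresheafFiber_naturality_assoc, Point.toPresheafFiber_naturality_assoc]
  have h3 := aux Φ F hF A (Φ.sheafFiber.obj ((F.sheafPullback A J K).obj G)) V v
  refine (congrArg (fun z => ((F.sheafAdjunctionContinuous A J K).unit.app G).hom.app (op V) ≫
    ((F.sheafPushforwardContinuous A J K).map
      (Φ.skyscraperSheafAdjunction.unit.app ((F.sheafPullback A J K).obj G))).hom.app (op V) ≫ z)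
    h3).trans ?_
  congr 1
  exact unit_app_π Φ ((F.sheafPullback A J K).obj G) (F.obj V) v

end Key

end H9FE.StalkComapGerm
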