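import Mathlib

/-! helper9: residue fields and points of fibre products; a finite étale morphism is an isomorphism
onto an open and closed subscheme near a point which is alone in its fibre with trivial residue
field extension. -/

universe u
open CategoryTheory CategoryTheory.Limits AlgebraicGeometry

namespace H9FE
namespace EtDeg1

set_option linter.style.haveILetI false
set_option linter.unusedSectionVars false
set_option backward.isDefEq.respectTransparency false

/-- the residue field extension of `m` at `e` is purely inseparable -/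
def PIAt {P V : Scheme.{u}} (m : P ⟶ V) (e : P) : Prop :=
  letI := (m.residueFieldMap e).hom.toAlgebra
  IsPurelyInseparable (V.residueField (m e)) (P.residueField e)

theorem PIAt.congr {P V : Scheme.{u}} {m m' : P ⟶ V} (h : m = m') {e : P} (hpi : PIAt m e) :
    PIAt m' e := by
  subst h
  exact hpi

theorem surjective_congr {P V : Scheme.{u}} {m m' : P ⟶ V} (h : m = m') {e : P}
    (hs : Function.Surjective (m.residueFieldMap e)) :
    Function.Surjective (m'.residueFieldMap e) := by
  subst h
  exact hs

/-- an unramified morphism whose composite with another morphism has purely inseparable residue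
field extension at a point is residually trivial at that point -/
theorem residueFieldMap_surjective_of_isPurelyInseparable {P Z V : Scheme.{u}} (a : P ⟶ Z)
    (b : Z ⟶ V) [FormallyUnramified a] [LocallyOfFiniteType a] (e : P)
    (hpi : PIAt (a ≫ b) e) :
    Function.Surjective (a.residueFieldMap e) := by
  letI alg02 : Algebra (V.residueField (b (a e))) (P.residueField e) :=
    ((a ≫ b).residueFieldMap e).hom.toAlgebra
  letI alg01 : Algebra (V.residueField (b (a e))) (Z.residueField (a e)) :=
    (b.residueFieldMap (a e)).hom.toAlgebra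
  letI alg12 : Algebra (Z.residueField (a e)) (P.residueField e) :=
    (a.residueFieldMap e).hom.toAlgebra
  haveI : IsScalarTower (V.residueField (b (a e))) (Z.residueField (a e)) (P.residueField e) := by
    apply IsScalarTower.of_algebraMap_eq'
    have h := Scheme.residueFieldMap_comp a b e
    exact congrArg (fun φ => φ.hom) h
  haveI : IsPurelyInseparable (V.residueField (b (a e))) (P.residueField e) := hpi
  haveI : IsPurelyInseparable (Z.residueField (a e)) (P.residueField e) :=
    IsPurelyInseparable.tower_top (V.residueField (b (a e))) _ _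
  haveI : Algebra.IsSeparable (Z.residueField (a e)) (P.residueField e) := inferInstance
  exact IsPurelyInseparable.surjective_algebraMap_of_isSeparable _ _

/-- purely inseparable residue extension is insensitive to restriction to an open subscheme -/
theorem PIAt.openImmersion_comp {C Q V : Scheme.{u}} (i : C ⟶ Q) [IsOpenImmersion i] (s : Q ⟶ V)
    (e : C) (hpi : PIAt s (i e)) : PIAt (i ≫ s) e := by
  letI alg01 : Algebra (V.residueField (s (i e))) (Q.residueField (i e)) :=
    (s.residueFieldMap (i e)).hom.toAlgebra
  letI alg02 : Algebra (V.residueField (s (i e))) (C.residueField e) :=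
    ((i ≫ s).residueFieldMap e).hom.toAlgebra
  haveI : IsPurelyInseparable (V.residueField (s (i e))) (Q.residueField (i e)) := hpi
  haveI : IsIso (i.residueFieldMap e) := inferInstance
  let σ : Q.residueField (i e) ≃+* C.residueField e := (asIso (i.residueFieldMap e)).commRingCatIsoToRingEquiv
  let σ' : Q.residueField (i e) ≃ₐ[V.residueField (s (i e))] C.residueField e :=
    { σ with
      commutes' := fun r => by
        have h := Scheme.residueFieldMap_comp i s e
        exact (congrArg (fun φ => φ.hom r) h).symm }
  exact σ'.isPurelyInseparable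

theorem pushout_inr_surjective {A B C : CommRingCat.{u}} (φ : A ⟶ B) (ψ : A ⟶ C)
    (h : Function.Surjective φ.hom) : Function.Surjective (pushout.inr φ ψ).hom := by
  have h1 : Function.Surjective (pushout.inl ψ φ).hom :=
    RingHom.surjective_isStableUnderBaseChange.pushout_inl RingHom.surjective_respectsIso ψ φ h
  have h2 : pushout.inr φ ψ = pushout.inl ψ φ ≫ (pushoutSymmetry ψ φ).hom :=
    (inl_comp_pushoutSymmetry_hom ψ φ).symm
  rw [h2, CommRingCat.hom_comp]
  exact (ConcreteCategory.bijective_of_isIso (pushoutSymmetry ψ φ).hom).surjective.comp h1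

open AlgebraicGeometry.Scheme.Pullback in
/-- two points of a fibre product with the same projections coincide as soon as one of the two
residue field extensions over the base is trivial -/
theorem eq_of_fst_eq_of_snd_eq {X Y S : Scheme.{u}} (f : X ⟶ S) (g : Y ⟶ S)
    (k₁ k₂ : ↑(pullback f g)) (h1 : pullback.fst f g k₁ = pullback.fst f g k₂)
    (h2 : pullback.snd f g k₁ = pullback.snd f g k₂)
    (hs : Function.Surjective (f.residueFieldMap (pullback.fst f g k₂))) : k₁ = k₂ := by
  apply (carrierEquiv (f := f) (g := g)).injective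
  have e : Triplet.ofPoint k₁ = Triplet.ofPoint k₂ := Triplet.ext h1 h2
  apply carrierEquiv_eq_iff.mpr
  refine ⟨e, ?_⟩
  show Spec.map (Triplet.tensorCongr e).inv (SpecOfPoint k₁) = SpecOfPoint k₂
  have hsurj : Function.Surjective (Triplet.ofPoint k₂).tensorInr.hom := by
    apply pushout_inr_surjective
    rw [CommRingCat.hom_comp, RingHom.coe_comp]
    exact hs.comp (ConcreteCategory.bijective_of_isIso
      (S.residueFieldCongr (Triplet.ofPoint k₂).hx).inv).surjective
  haveI : Subsingleton (Spec (Triplet.ofPoint k₂).tensor) := by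
    have hinj := PrimeSpectrum.comap_injective_of_surjective _ hsurj
    constructor
    intro a b
    apply hinj
    exact Subsingleton.elim _ _
  exact Subsingleton.elim _ _

/-- étale and universally injective morphisms are open immersions -/
theorem isOpenImmersion_of_surjective_diagonal {X Y : Scheme.{u}} (f : X ⟶ Y) [Etale f]
    (h2 : Surjective (pullback.diagonal f)) : IsOpenImmersion f := by
  have h1 : IsOpenImmersion (pullback.diagonal f) := inferInstance
  have h3 : IsIso (pullback.diagonal f) := (isIso_iff_isOpenImmersion_and_surjective _).mpr ⟨h1, h2⟩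
  have h4 : Mono f := (pullback.isIso_diagonal_iff f).mp h3
  exact IsOpenImmersion.of_flat_of_mono f

/-- a finite étale morphism is an isomorphism onto an open and closed subscheme near a point which
is alone in its fibre with trivial residue field extension -/
theorem exists_clopen_section {C Z : Scheme.{u}} (φ : C ⟶ Z) [IsFinite φ] [Etale φ] (c : C)
    (hc : ∀ c' : C, φ c' = φ c → c' = c)
    (hs : Function.Surjective (φ.residueFieldMap c)) :
    ∃ D : C.Opens, IsClosed (D : Set C) ∧ c ∈ D ∧ IsOpenImmersion (D.ι ≫ φ) ∧
      IsClosed (Set.range (D.ι ≫ φ)) := by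
  have hΔo : IsOpenImmersion (pullback.diagonal φ) := inferInstance
  have hΔc : IsClosedImmersion (pullback.diagonal φ) := inferInstance
  have hKo : IsOpen (Set.range (pullback.diagonal φ))ᶜ :=
    (pullback.diagonal φ).isClosedEmbedding.isClosed_range.isOpen_compl
  have hKc : IsClosed (Set.range (pullback.diagonal φ))ᶜ :=
    (pullback.diagonal φ).isOpenEmbedding.isOpen_range.isClosed_compl
  have hp1closed : IsClosedMap (pullback.fst φ φ) := (pullback.fst φ φ).isClosedMap
  have hp1open : IsOpenMap (pullback.fst φ φ) := (pullback.fst φ φ).isOpenMap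
  let D : C.Opens := ⟨(pullback.fst φ φ '' (Set.range (pullback.diagonal φ))ᶜ)ᶜ,
    (hp1closed _ hKc).isOpen_compl⟩
  have hDc : IsClosed (D : Set C) := (hp1open _ hKo).isClosed_compl
  have hmemD : ∀ d : C, d ∈ D ↔ ∀ k : ↑(pullback φ φ), pullback.fst φ φ k = d →
      k ∈ Set.range (pullback.diagonal φ) := by
    intro d
    constructor
    · intro hd k hk
      by_contra hk'
      exact hd ⟨k, hk', hk⟩
    · rintro hd ⟨k, hk', hk⟩
      exact hk' (hd k hk)
  have hfstΔ : ∀ d : C, pullback.fst φ φ (pullback.diagonal φ d) = d := by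
    intro d
    rw [← Scheme.Hom.comp_apply, pullback.diagonal_fst]
    rfl
  have hsndΔ : ∀ d : C, pullback.snd φ φ (pullback.diagonal φ d) = d := by
    intro d
    rw [← Scheme.Hom.comp_apply, pullback.diagonal_snd]
    rfl
  refine ⟨D, hDc, ?_, ?_, ?_⟩
  · rw [hmemD]
    intro k hk
    have hk2 : pullback.snd φ φ k = c := by
      apply hc
      rw [← hk, ← Scheme.Hom.comp_apply, ← Scheme.Hom.comp_apply, pullback.condition]
    refine ⟨c, ?_⟩
    symm
    apply eq_of_fst_eq_of_snd_eq φ φ
    · rw [hk, hfstΔ]
    · rw [hk2, hsndΔ]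
    · rw [hfstΔ]
      exact hs
  · apply isOpenImmersion_of_surjective_diagonal
    constructor
    intro w
    let m := pullback.map (D.ι ≫ φ) (D.ι ≫ φ) φ φ D.ι D.ι (𝟙 Z) (by simp) (by simp)
    have hm1 : m ≫ pullback.fst φ φ = pullback.fst _ _ ≫ D.ι := pullback.lift_fst _ _ _
    have hm2 : m ≫ pullback.snd φ φ = pullback.snd _ _ ≫ D.ι := pullback.lift_snd _ _ _
    have hmd : pullback.diagonal (D.ι ≫ φ) ≫ m = D.ι ≫ pullback.diagonal φ := by
      apply pullback.hom_ext
      · rw [Category.assoc, hm1, pullback.diagonal_fst_assoc, Category.assoc, pullback.diagonal_fst,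
          Category.comp_id]
      · rw [Category.assoc, hm2, pullback.diagonal_snd_assoc, Category.assoc, pullback.diagonal_snd,
          Category.comp_id]
    have hminj : Function.Injective m := by
      haveI : IsOpenImmersion m := inferInstance
      exact m.isOpenEmbedding.injective
    have h1 : pullback.fst φ φ (m w) = D.ι (pullback.fst (D.ι ≫ φ) (D.ι ≫ φ) w) := by
      rw [← Scheme.Hom.comp_apply, hm1, Scheme.Hom.comp_apply]
    have h2 : pullback.snd φ φ (m w) = D.ι (pullback.snd (D.ι ≫ φ) (D.ι ≫ φ) w) := by
      rw [← Scheme.Hom.comp_apply, hm2, Scheme.Hom.comp_apply]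
    have hD : D.ι (pullback.fst (D.ι ≫ φ) (D.ι ≫ φ) w) ∈ D := (pullback.fst (D.ι ≫ φ) (D.ι ≫ φ) w).2
    obtain ⟨c₀, hc₀⟩ := (hmemD _).mp hD (m w) h1
    have hc₀1 : c₀ = D.ι (pullback.fst (D.ι ≫ φ) (D.ι ≫ φ) w) := by
      rw [← h1, ← hc₀, hfstΔ]
    refine ⟨pullback.fst (D.ι ≫ φ) (D.ι ≫ φ) w, hminj ?_⟩
    rw [← Scheme.Hom.comp_apply, hmd, Scheme.Hom.comp_apply, ← hc₀1, hc₀]
  · have : Set.range (D.ι ≫ φ) = φ '' (D : Set C) := by
      ext z
      constructor
      · rintro ⟨d, rfl⟩
        exact ⟨D.ι d, d.2, by rw [Scheme.Hom.comp_apply]⟩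
      · rintro ⟨d, hd, rfl⟩
        exact ⟨⟨d, hd⟩, by rw [Scheme.Hom.comp_apply]; rfl⟩
    rw [this]
    exact φ.isClosedMap _ hDc

end EtDeg1
end H9FE
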