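import Mathlib
import Groth.Agent.Lib.Helper9.FE.EtDeg1

/-! helper9: geometric points of finite schemes over fields: uniqueness through purely inseparable
points, finiteness and existence of lifts of geometric points along finite morphisms. -/

set_option autoImplicit false
universe u
open CategoryTheory CategoryTheory.Limits AlgebraicGeometry Opposite

namespace H9FE.FinGeoPt

set_option backward.isDefEq.respectTransparency false
set_option linter.style.haveILetI false
set_option linter.unusedSectionVars false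

open EtDeg1

/-- two field-valued points through the same point with purely inseparable residue extension and
the same image are equal -/
theorem eq_of_PIAt {P V : Scheme.{u}} (m : P ⟶ V) (e : P) (hpi : PIAt m e) (K : Type u) [Field K]
    (g₁ g₂ : Spec (CommRingCat.of K) ⟶ P)
    (h₁ : g₁ (IsLocalRing.closedPoint K) = e) (h₂ : g₂ (IsLocalRing.closedPoint K) = e)
    (hg : g₁ ≫ m = g₂ ≫ m) : g₁ = g₂ := by
  obtain ⟨e', h⟩ := Scheme.SpecToEquivOfField_eq_iff.mp congr((V.SpecToEquivOfField K) $(hg))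
  apply (P.SpecToEquivOfField K).injective

  simp only [Scheme.SpecToEquivOfField_apply_snd, Scheme.SpecToEquivOfField_apply_fst,
    Scheme.descResidueField_stalkClosedPointTo_comp] at e' h
  have e12 : g₁ (IsLocalRing.closedPoint K) = g₂ (IsLocalRing.closedPoint K) := h₁.trans h₂.symm
  rw [← m.residueFieldMap_congr'_assoc e12, CommRingCat.hom_ext_iff] at h
  rw [Scheme.SpecToEquivOfField_eq_iff]
  subst h₁
  have hfx := hpi
  unfold PIAt at hfx
  algebraize [(m.residueFieldMap (g₁ (IsLocalRing.closedPoint K))).hom]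
  refine ⟨e12, CommRingCat.hom_ext ?_⟩
  exact IsPurelyInseparable.injective_comp_algebraMap
    (V.residueField (m (g₁ (IsLocalRing.closedPoint K))))
    (P.residueField (g₁ (IsLocalRing.closedPoint K))) _ h

/-- ring-level: retractions of a finite algebra over a field are finite in number -/
theorem finite_retractions {Ω : Type u} [Field Ω] (B : CommRingCat.{u}) (φ : CommRingCat.of Ω ⟶ B)
    (hφ : φ.hom.Finite) : Finite {χ : B ⟶ CommRingCat.of Ω // φ ≫ χ = 𝟙 _} := by
  algebraize [φ.hom]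
  haveI : Module.Finite Ω B := hφ
  let F : {χ : B ⟶ CommRingCat.of Ω // φ ≫ χ = 𝟙 _} → (B →ₐ[Ω] Ω) := fun χ =>
    { toRingHom := χ.1.hom
      commutes' := fun r => by
        have := congrArg (fun ψ => ψ.hom r) χ.2
        exact this }
  refine Finite.of_injective F ?_
  intro χ₁ χ₂ h
  apply Subtype.ext
  ext b
  exact congrArg (fun ψ : B →ₐ[Ω] Ω => ψ b) h

/-- ring-level: over an algebraically closed field every prime of a finite algebra is the kernel of
a retraction -/
theorem exists_retraction {Ω : Type u} [Field Ω] [IsAlgClosed Ω] (B : CommRingCat.{u})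
    (φ : CommRingCat.of Ω ⟶ B) (hφ : φ.hom.Finite) (𝔭 : Ideal B) [𝔭.IsPrime] :
    ∃ χ : B ⟶ CommRingCat.of Ω, φ ≫ χ = 𝟙 _ ∧ RingHom.ker χ.hom = 𝔭 := by
  algebraize [φ.hom]
  haveI : Module.Finite Ω B := hφ
  haveI : Module.Finite Ω (B ⧸ 𝔭) := Module.Finite.of_surjective
    (Ideal.Quotient.mkₐ Ω 𝔭).toLinearMap (Ideal.Quotient.mkₐ_surjective Ω 𝔭)
  haveI : Algebra.IsIntegral Ω (B ⧸ 𝔭) := Algebra.IsIntegral.of_finite Ω (B ⧸ 𝔭)
  have hbij : Function.Bijective (algebraMap Ω (B ⧸ 𝔭)) :=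
    IsAlgClosed.algebraMap_bijective_of_isIntegral
  let eq : Ω ≃+* (B ⧸ 𝔭) := RingEquiv.ofBijective (algebraMap Ω (B ⧸ 𝔭)) hbij
  let χ : B →+* Ω := (eq.symm : (B ⧸ 𝔭) →+* Ω).comp (Ideal.Quotient.mk 𝔭)
  refine ⟨CommRingCat.ofHom χ, ?_, ?_⟩
  · ext r
    change eq.symm (Ideal.Quotient.mk 𝔭 (algebraMap Ω B r)) = r
    have : Ideal.Quotient.mk 𝔭 (algebraMap Ω B r) = eq r := rfl
    rw [this, RingEquiv.symm_apply_apply]
  · ext b
    change eq.symm (Ideal.Quotient.mk 𝔭 b) = 0 ↔ b ∈ 𝔭
    rw [map_eq_zero_iff _ eq.symm.injective, Ideal.Quotient.eq_zero_iff_mem]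


/-- sections of a finite scheme over a field are finite in number -/
theorem finite_sections {Ω : Type u} [Field Ω] {P : Scheme.{u}} (π : P ⟶ Spec (CommRingCat.of Ω))
    [IsFinite π] : Finite {σ : Spec (CommRingCat.of Ω) ⟶ P // σ ≫ π = 𝟙 _} := by
  haveI : IsAffine P := isAffine_of_isAffineHom π
  obtain ⟨φ, hφ⟩ := Spec.map_surjective (P.isoSpec.inv ≫ π)
  have hfin : φ.hom.Finite := by
    rw [← IsFinite.SpecMap_iff, hφ]
    infer_instance
  haveI := finite_retractions Γ(P, ⊤) φ hfin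
  let F : {σ : Spec (CommRingCat.of Ω) ⟶ P // σ ≫ π = 𝟙 _} →
      {χ : Γ(P, ⊤) ⟶ CommRingCat.of Ω // φ ≫ χ = 𝟙 _} := fun σ =>
    ⟨Spec.preimage (σ.1 ≫ P.isoSpec.hom), by
      apply Spec.map_injective
      rw [Spec.map_comp, Spec.map_preimage, hφ, Category.assoc, Iso.hom_inv_id_assoc, σ.2,
        Spec.map_id]⟩
  refine Finite.of_injective F ?_
  intro σ₁ σ₂ h
  apply Subtype.ext
  have h' : Spec.preimage (σ₁.1 ≫ P.isoSpec.hom) = Spec.preimage (σ₂.1 ≫ P.isoSpec.hom) :=
    congrArg Subtype.val h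
  have h'' := congrArg Spec.map h'
  rw [Spec.map_preimage, Spec.map_preimage] at h''
  exact (cancel_mono P.isoSpec.hom).1 h''

/-- over an algebraically closed field every point of a finite scheme is the image of a section -/
theorem exists_section {Ω : Type u} [Field Ω] [IsAlgClosed Ω] {P : Scheme.{u}}
    (π : P ⟶ Spec (CommRingCat.of Ω)) [IsFinite π] (p : P) :
    ∃ σ : Spec (CommRingCat.of Ω) ⟶ P, σ ≫ π = 𝟙 _ ∧ ∀ a, σ a = p := by
  haveI : IsAffine P := isAffine_of_isAffineHom π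
  obtain ⟨φ, hφ⟩ := Spec.map_surjective (P.isoSpec.inv ≫ π)
  have hfin : φ.hom.Finite := by
    rw [← IsFinite.SpecMap_iff, hφ]
    infer_instance
  let q : PrimeSpectrum Γ(P, ⊤) := P.isoSpec.hom p
  obtain ⟨χ, hχ1, hχ2⟩ := exists_retraction Γ(P, ⊤) φ hfin q.asIdeal
  refine ⟨Spec.map χ ≫ P.isoSpec.inv, ?_, ?_⟩
  · rw [Category.assoc, ← hφ, ← Spec.map_comp, hχ1, Spec.map_id]
  · intro a
    have h1 : (Spec.map χ) a = q := by
      apply PrimeSpectrum.ext
      change Ideal.comap χ.hom a.asIdeal = q.asIdeal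
      have : a.asIdeal = ⊥ := by
        have := a.isPrime
        exact (Ideal.eq_bot_or_top a.asIdeal).resolve_right a.isPrime.ne_top
      rw [this, ← hχ2]
      rfl
    rw [Scheme.Hom.comp_apply, h1]
    change P.isoSpec.inv (P.isoSpec.hom p) = p
    rw [← Scheme.Hom.comp_apply, Iso.hom_inv_id]
    rfl


/-- the geometric points of `X` over a geometric point of `Y`, for finite `f`, are finite in
number -/
theorem finite_lifts {X Y : Scheme.{u}} (f : X ⟶ Y) [IsFinite f] {Ω : Type u} [Field Ω]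
    (η : Spec (CommRingCat.of Ω) ⟶ Y) :
    Finite {ξ : Spec (CommRingCat.of Ω) ⟶ X // ξ ≫ f = η} := by
  haveI := finite_sections (pullback.snd f η)
  let F : {ξ : Spec (CommRingCat.of Ω) ⟶ X // ξ ≫ f = η} →
      {σ : Spec (CommRingCat.of Ω) ⟶ pullback f η // σ ≫ pullback.snd f η = 𝟙 _} := fun ξ =>
    ⟨pullback.lift ξ.1 (𝟙 _) (by rw [ξ.2, Category.id_comp]), pullback.lift_snd _ _ _⟩
  refine Finite.of_injective F ?_
  intro ξ₁ ξ₂ h
  apply Subtype.ext
  have h' := congrArg (fun σ => σ.1 ≫ pullback.fst f η) h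
  simpa [F] using h'

/-- over an algebraically closed field, every point of the fibre is the image of a geometric point
over the given one -/
theorem exists_lift {X Y : Scheme.{u}} (f : X ⟶ Y) [IsFinite f] {Ω : Type u} [Field Ω]
    [IsAlgClosed Ω] (η : Spec (CommRingCat.of Ω) ⟶ Y) (x : X)
    (hx : ∀ a, f x = η a) :
    ∃ ξ : Spec (CommRingCat.of Ω) ⟶ X, ξ ≫ f = η ∧ ∀ a, ξ a = x := by
  obtain ⟨p, hp1, hp2⟩ := Scheme.Pullback.exists_preimage_pullback (f := f) (g := η) x
    (default : Spec (CommRingCat.of Ω)) (hx _)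
  obtain ⟨σ, hσ1, hσ2⟩ := exists_section (pullback.snd f η) p
  refine ⟨σ ≫ pullback.fst f η, ?_, ?_⟩
  · rw [Category.assoc, pullback.condition, ← Category.assoc, hσ1, Category.id_comp]
  · intro a
    rw [Scheme.Hom.comp_apply, hσ2 a, hp1]

end H9FE.FinGeoPt
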