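import Mathlib
import Groth.Agent.S9778
import Groth.Agent.Lib.Helper9.FE.EtDeg1
import Groth.Agent.Lib.Helper9.FE.FinGeoPt

/-! helper9: geometric-point aware version of the étale-local clopen lifting (`EtClopenLift`): the
clopen piece receives the given geometric point compatibly and carries at most one geometric point
over the chosen geometric point of the base. -/

universe u
open CategoryTheory CategoryTheory.Limits AlgebraicGeometry

namespace H9FE
namespace EtClopenLiftG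

set_option linter.style.haveILetI false
set_option linter.unusedSectionVars false
set_option backward.isDefEq.respectTransparency false

open EtDeg1 FinGeoPt

theorem pieceG {X Y T V : Scheme.{u}} (f : X ⟶ Y) [IsSeparated f] (t : T ⟶ X) [Etale t]
    (p : V ⟶ Y) (v₀ : V) (C : (pullback (t ≫ f) p).Opens) (e : ↑(pullback (t ≫ f) p))
    (heC : e ∈ C) (hfin : IsFinite (C.ι ≫ pullback.snd (t ≫ f) p))
    (hev : pullback.snd (t ≫ f) p e = v₀)
    (huniq : ∀ w : ↑(pullback (t ≫ f) p), w ∈ C → pullback.snd (t ≫ f) p w = v₀ → w = e)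
    (hpi : PIAt (pullback.snd (t ≫ f) p) e) :
    ∃ (W : (pullback f p).Opens) (h : (W : Scheme.{u}) ⟶ T),
      IsClosed (W : Set ↑(pullback f p)) ∧ h ≫ t = W.ι ≫ pullback.fst f p ∧
      (∀ {K : Scheme.{u}} (a : K ⟶ T) (b : K ⟶ V) (hab : a ≫ t ≫ f = b ≫ p),
        (∀ k : K, pullback.lift a b hab k = e) →
          ∃ c : K ⟶ (W : Scheme.{u}), c ≫ h = a ∧ c ≫ W.ι ≫ pullback.snd f p = b) ∧
      (∀ (K : Type u) [Field K] (c₁ c₂ : Spec (CommRingCat.of K) ⟶ (W : Scheme.{u})),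
        c₁ ≫ W.ι ≫ pullback.snd f p = c₂ ≫ W.ι ≫ pullback.snd f p →
        (∀ a, (c₁ ≫ W.ι ≫ pullback.snd f p) a = v₀) → c₁ = c₂) := by
  let ψ : pullback (t ≫ f) p ⟶ pullback f p :=
    (pullbackRightPullbackFstIso f p t).inv ≫ pullback.snd t (pullback.fst f p)
  have hψ1 : ψ ≫ pullback.fst f p = pullback.fst (t ≫ f) p ≫ t := by
    simp only [ψ, Category.assoc]
    rw [← pullback.condition, pullbackRightPullbackFstIso_inv_fst_assoc]
  have hψ2 : ψ ≫ pullback.snd f p = pullback.snd (t ≫ f) p := by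
    simp only [ψ, Category.assoc]
    rw [pullbackRightPullbackFstIso_inv_snd_snd]
  let φ : (C : Scheme.{u}) ⟶ pullback f p := C.ι ≫ ψ
  have hφ2 : φ ≫ pullback.snd f p = C.ι ≫ pullback.snd (t ≫ f) p := by
    simp only [φ, Category.assoc, hψ2]
  haveI : Etale φ := by
    dsimp only [φ, ψ]
    infer_instance
  haveI : IsFinite (φ ≫ pullback.snd f p) := by
    rw [hφ2]
    exact hfin
  haveI : IsFinite φ := IsFinite.of_comp φ (pullback.snd f p)
  let e' : ↥C := ⟨e, heC⟩
  have he' : C.ι e' = e := rfl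
  have hc : ∀ c' : ↥C, φ c' = φ e' → c' = e' := by
    intro c' hc'
    apply Subtype.ext
    apply huniq _ c'.2
    have h1 : pullback.snd f p (φ c') = pullback.snd (t ≫ f) p c'.1 := by
      rw [← Scheme.Hom.comp_apply, hφ2, Scheme.Hom.comp_apply]
      rfl
    have h2 : pullback.snd f p (φ e') = pullback.snd (t ≫ f) p e := by
      rw [← Scheme.Hom.comp_apply, hφ2, Scheme.Hom.comp_apply]
      rfl
    rw [← h1, hc', h2, hev]
  have hs : Function.Surjective (φ.residueFieldMap e') := by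
    apply residueFieldMap_surjective_of_isPurelyInseparable φ (pullback.snd f p)
    apply PIAt.congr hφ2.symm
    apply PIAt.openImmersion_comp
    exact hpi
  obtain ⟨D, hDc, heD, hDo, hDr⟩ := exists_clopen_section φ e' hc hs
  haveI := hDo
  have hιW : (D.ι ≫ φ).isoOpensRange.hom ≫ (D.ι ≫ φ).opensRange.ι = D.ι ≫ φ :=
    Scheme.Hom.isoOpensRange_hom_ι (D.ι ≫ φ)
  have hιW' : (D.ι ≫ φ).isoOpensRange.inv ≫ D.ι ≫ φ = (D.ι ≫ φ).opensRange.ι :=
    Scheme.Hom.isoOpensRange_inv_comp (D.ι ≫ φ)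
  refine ⟨(D.ι ≫ φ).opensRange, (D.ι ≫ φ).isoOpensRange.inv ≫ D.ι ≫ C.ι ≫ pullback.fst (t ≫ f) p,
    hDr, ?_, ?_, ?_⟩
  · rw [← hιW']
    simp only [φ, Category.assoc, hψ1]
  · intro K a b hab hK
    have hrC : Set.range (pullback.lift a b hab).base ⊆ Set.range C.ι.base := by
      rintro _ ⟨k, rfl⟩
      rw [Scheme.Opens.range_ι]
      rw [hK k]
      exact heC
    let LC : K ⟶ (C : Scheme.{u}) := IsOpenImmersion.lift C.ι (pullback.lift a b hab) hrC
    have hLC : LC ≫ C.ι = pullback.lift a b hab := IsOpenImmersion.lift_fac _ _ _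
    have hLCk : ∀ k : K, LC k = e' := by
      intro k
      apply Subtype.ext
      have := congrArg (fun m => m.base k) hLC
      exact this.trans (hK k)
    have hrD : Set.range LC.base ⊆ Set.range D.ι.base := by
      rintro _ ⟨k, rfl⟩
      rw [Scheme.Opens.range_ι]
      rw [hLCk k]
      exact heD
    let LD : K ⟶ (D : Scheme.{u}) := IsOpenImmersion.lift D.ι LC hrD
    have hLD : LD ≫ D.ι = LC := IsOpenImmersion.lift_fac _ _ _
    refine ⟨LD ≫ (D.ι ≫ φ).isoOpensRange.hom, ?_, ?_⟩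
    · simp only [Category.assoc, Iso.hom_inv_id_assoc]
      rw [← Category.assoc LD, hLD, ← Category.assoc LC, hLC, pullback.lift_fst]
    · rw [Category.assoc, ← Category.assoc _ (D.ι ≫ φ).opensRange.ι, hιW]
      simp only [Category.assoc, hφ2]
      rw [← Category.assoc LD, hLD, ← Category.assoc LC, hLC, pullback.lift_snd]
  · intro K _ c₁ c₂ h12 hv
    have key : ∀ c : Spec (CommRingCat.of K) ⟶ ((D.ι ≫ φ).opensRange : Scheme.{u}),
        (c ≫ (D.ι ≫ φ).isoOpensRange.inv ≫ D.ι ≫ C.ι) ≫ pullback.snd (t ≫ f) p =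
          c ≫ (D.ι ≫ φ).opensRange.ι ≫ pullback.snd f p := by
      intro c
      have h5 := congrArg (fun m => c ≫ m ≫ pullback.snd f p) hιW'
      simp only [Category.assoc] at h5
      simp only [Category.assoc]
      rw [← hφ2]
      exact h5
    have hpt : ∀ c : Spec (CommRingCat.of K) ⟶ ((D.ι ≫ φ).opensRange : Scheme.{u}),
        (∀ a, (c ≫ (D.ι ≫ φ).opensRange.ι ≫ pullback.snd f p) a = v₀) →
        (c ≫ (D.ι ≫ φ).isoOpensRange.inv ≫ D.ι ≫ C.ι) (IsLocalRing.closedPoint K) = e := by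
      intro c hcv
      apply huniq
      · have : (c ≫ (D.ι ≫ φ).isoOpensRange.inv ≫ D.ι ≫ C.ι) (IsLocalRing.closedPoint K) =
            C.ι ((c ≫ (D.ι ≫ φ).isoOpensRange.inv ≫ D.ι) (IsLocalRing.closedPoint K)) := by
          simp only [Scheme.Hom.comp_apply]
        rw [this]
        exact (Subtype.property _)
      · rw [← Scheme.Hom.comp_apply, key c]
        exact hcv _
    have hv2 : ∀ a, (c₂ ≫ (D.ι ≫ φ).opensRange.ι ≫ pullback.snd f p) a = v₀ := by
      intro a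
      rw [← h12]
      exact hv a
    have heq := eq_of_PIAt (pullback.snd (t ≫ f) p) e hpi K _ _ (hpt c₁ hv) (hpt c₂ hv2)
      (by rw [key c₁, key c₂, h12])
    have h3 : c₁ ≫ (D.ι ≫ φ).isoOpensRange.inv = c₂ ≫ (D.ι ≫ φ).isoOpensRange.inv := by
      haveI : Mono (D.ι ≫ C.ι) := inferInstance
      apply (cancel_mono (D.ι ≫ C.ι)).1
      simpa only [Category.assoc] using heq
    exact (cancel_mono (D.ι ≫ φ).isoOpensRange.inv).1 h3


theorem mainG {X Y T : Scheme.{u}} (f : X ⟶ Y) [IsSeparated f] [LocallyOfFiniteType f]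
    (t : T ⟶ X) [Etale t] [IsSeparated (t ≫ f)] {Ω : Type u} [Field Ω] [IsSepClosed Ω]
    (u : Spec (CommRingCat.of Ω) ⟶ T)
    (hqf : (t ≫ f).QuasiFiniteAt (u (default : Spec (CommRingCat.of Ω)))) :
    ∃ (V : Scheme.{u}) (p : V ⟶ Y) (v : Spec (CommRingCat.of Ω) ⟶ V), Etale p ∧
      v ≫ p = u ≫ t ≫ f ∧
      ∃ (W : (pullback f p).Opens) (h : (W : Scheme.{u}) ⟶ T),
        IsClosed (W : Set ↑(pullback f p)) ∧ h ≫ t = W.ι ≫ pullback.fst f p ∧
        (∃ c : Spec (CommRingCat.of Ω) ⟶ (W : Scheme.{u}),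
          c ≫ h = u ∧ c ≫ W.ι ≫ pullback.snd f p = v) ∧
        (∀ c₁ c₂ : Spec (CommRingCat.of Ω) ⟶ (W : Scheme.{u}),
          c₁ ≫ W.ι ≫ pullback.snd f p = v → c₂ ≫ W.ι ≫ pullback.snd f p = v → c₁ = c₂) := by
  classical
  obtain ⟨V, p, v₀, hp, hpv, J, hJ, Vo, e, hclopen, hdisj, hprop, hcover⟩ :=
    Groth.Agent.S9778.result (t ≫ f) ((t ≫ f) (u (default : Spec (CommRingCat.of Ω))))
      (ι := Unit) (fun _ => u (default : Spec (CommRingCat.of Ω)))
      (fun _ _ _ => Subsingleton.elim _ _) (fun _ => rfl) (fun _ => hqf)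
  haveI := hp
  obtain ⟨v, hv1, hv2⟩ := Scheme.exists_fac_of_etale_of_isSepClosed p (u ≫ t ≫ f) v₀ (by
    rw [hpv]
    simp only [Scheme.Hom.comp_apply])
  have hab : u ≫ t ≫ f = v ≫ p := hv1.symm
  let L := pullback.lift u v hab
  have hL1 : pullback.snd (t ≫ f) p (L default) = v₀ := by
    rw [← Scheme.Hom.comp_apply, pullback.lift_snd]
    exact hv2
  have hL2 : pullback.fst (t ≫ f) p (L default) = u default := by
    rw [← Scheme.Hom.comp_apply, pullback.lift_fst]
  obtain ⟨j, hj⟩ := hcover (L default) () hL1 hL2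
  obtain ⟨h1, h2, h3, h4, h5, h6⟩ := hprop () j
  have hLe : L default = e () j := h4 _ hj hL1
  obtain ⟨W, h, hWc, hWh, ha, hb⟩ := pieceG f t p v₀ (Vo () j) (e () j) h1 h2 h3 h4 h5
  refine ⟨V, p, v, hp, hv1, W, h, hWc, hWh, ?_, ?_⟩
  · obtain ⟨c, hc1, hc2⟩ := ha u v hab (fun k => by
      rw [Subsingleton.elim k default]
      exact hLe)
    exact ⟨c, hc1, hc2⟩
  · intro c₁ c₂ e1 e2
    refine hb Ω c₁ c₂ (e1.trans e2.symm) (fun a => ?_)
    rw [e1, Subsingleton.elim a default]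
    exact hv2

end EtClopenLiftG
end H9FE
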