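import Mathlib
import Groth.Agent.S9778
import Groth.Agent.Lib.Helper9.FE.EtDeg1

/-! helper9: étale-local clopen lifting of fibre products through étale maps at finitely many
quasi-finite points (the common core of conditions (A) and (B) for quasi-finite morphisms). -/

universe u
open CategoryTheory CategoryTheory.Limits AlgebraicGeometry

namespace H9FE
namespace EtClopenLift

set_option linter.style.haveILetI false
set_option linter.unusedSectionVars false
set_option backward.isDefEq.respectTransparency false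

open EtDeg1

theorem locallyQuasiFinite_of_etale {X Y : Scheme.{u}} (f : X ⟶ Y) [Etale f] :
    LocallyQuasiFinite f := by
  rw [HasRingHomProperty.iff_appLE (P := @LocallyQuasiFinite)]
  intro U V e
  have h := (HasRingHomProperty.iff_appLE (P := @Etale)).mp ‹Etale f› U V e
  algebraize [(f.appLE U V e).hom]
  have : Algebra.Etale Γ(Y, U) Γ(X, V) := h
  exact (inferInstance : Algebra.QuasiFinite Γ(Y, U) Γ(X, V))

/-- one piece: given a clopen `C` of `T ×_Y V` finite over `V` with a unique point `e` over `v₀`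
with purely inseparable residue field, the image of a clopen neighbourhood of `e` in `C` is a clopen
of `X ×_Y V` which lifts to `T`. -/
theorem piece {X Y T V : Scheme.{u}} (f : X ⟶ Y) [IsSeparated f] (t : T ⟶ X) [Etale t]
    (p : V ⟶ Y) (v₀ : V) (C : (pullback (t ≫ f) p).Opens) (e : ↑(pullback (t ≫ f) p))
    (heC : e ∈ C) (hfin : IsFinite (C.ι ≫ pullback.snd (t ≫ f) p))
    (hev : pullback.snd (t ≫ f) p e = v₀)
    (huniq : ∀ w : ↑(pullback (t ≫ f) p), w ∈ C → pullback.snd (t ≫ f) p w = v₀ → w = e)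
    (hpi : PIAt (pullback.snd (t ≫ f) p) e) :
    ∃ (W : (pullback f p).Opens) (h : (W : Scheme.{u}) ⟶ T),
      IsClosed (W : Set ↑(pullback f p)) ∧ h ≫ t = W.ι ≫ pullback.fst f p ∧
      ∃ w : ↥W, h w = pullback.fst (t ≫ f) p e ∧
        w.1 = ((pullbackRightPullbackFstIso f p t).inv ≫ pullback.snd t (pullback.fst f p)) e := by
  let ψ : pullback (t ≫ f) p ⟶ pullback f p :=
    (pullbackRightPullbackFstIso f p t).inv ≫ pullback.snd t (pullback.fst f p)
  have hψ1 : ψ ≫ pullback.fst f p = pullback.fst (t ≫ f) p ≫ t := by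
    simp only [ψ, Category.assoc]
    rw [← pullback.condition, pullbackRightPullbackFstIso_inv_fst_assoc]
  have hψ2 : ψ ≫ pullback.snd f p = pullback.snd (t ≫ f) p := by
    simp only [ψ, Category.assoc]
    rw [pullbackRightPullbackFstIso_inv_snd_snd]
  let φ : (C : Scheme.{u}) ⟶ pullback f p := C.ι ≫ ψ
  have hφ2 : φ ≫ pullback.snd f p = C.ι ≫ pullback.snd (t ≫ f) p := by
    simp only [φ, Category.assoc, hψ2]
  haveI : Etale φ := by
    dsimp only [φ, ψ]
    infer_instance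
  haveI : IsFinite (φ ≫ pullback.snd f p) := by
    rw [hφ2]
    exact hfin
  haveI : IsFinite φ := IsFinite.of_comp φ (pullback.snd f p)
  let e' : ↥C := ⟨e, heC⟩
  have he' : C.ι e' = e := rfl
  have hc : ∀ c' : ↥C, φ c' = φ e' → c' = e' := by
    intro c' hc'
    apply Subtype.ext
    apply huniq _ c'.2
    have h1 : pullback.snd f p (φ c') = pullback.snd (t ≫ f) p c'.1 := by
      rw [← Scheme.Hom.comp_apply, hφ2, Scheme.Hom.comp_apply]
      rfl
    have h2 : pullback.snd f p (φ e') = pullback.snd (t ≫ f) p e := by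
      rw [← Scheme.Hom.comp_apply, hφ2, Scheme.Hom.comp_apply]
      rfl
    rw [← h1, hc', h2, hev]
  have hs : Function.Surjective (φ.residueFieldMap e') := by
    apply residueFieldMap_surjective_of_isPurelyInseparable φ (pullback.snd f p)
    apply PIAt.congr hφ2.symm
    apply PIAt.openImmersion_comp
    exact hpi
  obtain ⟨D, hDc, heD, hDo, hDr⟩ := exists_clopen_section φ e' hc hs
  haveI := hDo
  refine ⟨(D.ι ≫ φ).opensRange, (D.ι ≫ φ).isoOpensRange.inv ≫ D.ι ≫ C.ι ≫ pullback.fst (t ≫ f) p,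
    hDr, ?_, ?_⟩
  · rw [← Scheme.Hom.isoOpensRange_inv_comp]
    simp only [φ, Category.assoc, hψ1]
  · refine ⟨(D.ι ≫ φ).isoOpensRange.hom ⟨e', heD⟩, ?_, ?_⟩
    · rw [← Scheme.Hom.comp_apply, Iso.hom_inv_id_assoc]
      rfl
    · have := congrArg (fun m => m.base (⟨e', heD⟩ : ↥D)) (Scheme.Hom.isoOpensRange_hom_ι (D.ι ≫ φ))
      exact this

/-- étale-local clopen lifting at finitely many quasi-finite points -/
theorem main {X Y T : Scheme.{u}} (f : X ⟶ Y) [IsSeparated f] [LocallyOfFiniteType f]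
    (t : T ⟶ X) [Etale t] [IsSeparated (t ≫ f)] (y : Y) {ι : Type} [Finite ι] (u : ι → T)
    (hinj : Function.Injective u) (hy : ∀ k, f (t (u k)) = y)
    (hqf : ∀ k, (t ≫ f).QuasiFiniteAt (u k)) :
    ∃ (V : Scheme.{u}) (p : V ⟶ Y) (v₀ : V), Etale p ∧ p v₀ = y ∧
      ∃ (M : Type) (_ : Finite M) (W : M → (pullback f p).Opens)
        (h : ∀ m, ((W m : (pullback f p).Opens) : Scheme.{u}) ⟶ T),
        (∀ m, IsClosed (W m : Set ↑(pullback f p))) ∧
        (∀ m, h m ≫ t = (W m).ι ≫ pullback.fst f p) ∧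
        (∀ k, ∃ m, ∃ w : ↥(W m), h m w = u k ∧ pullback.snd f p w.1 = v₀) ∧
        (∀ (z : ↑(pullback f p)) (k : ι), pullback.snd f p z = v₀ →
          pullback.fst f p z = t (u k) → ∃ m, z ∈ W m) := by
  classical
  obtain ⟨V, p, v₀, hp, hpv, J, hJ, Vo, e, hclopen, hdisj, hprop, hcover⟩ :=
    Groth.Agent.S9778.result (t ≫ f) y u hinj
      (fun k => by rw [Scheme.Hom.comp_apply]; exact hy k) hqf
  haveI := hp
  haveI := hJ
  let ψ : pullback (t ≫ f) p ⟶ pullback f p :=
    (pullbackRightPullbackFstIso f p t).inv ≫ pullback.snd t (pullback.fst f p)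
  have hψ2 : ψ ≫ pullback.snd f p = pullback.snd (t ≫ f) p := by
    simp only [ψ, Category.assoc]
    rw [pullbackRightPullbackFstIso_inv_snd_snd]
  have hpiece : ∀ (m : Σ k, J k), ∃ (W : (pullback f p).Opens) (h : (W : Scheme.{u}) ⟶ T),
      IsClosed (W : Set ↑(pullback f p)) ∧ h ≫ t = W.ι ≫ pullback.fst f p ∧
      ∃ w : ↥W, h w = pullback.fst (t ≫ f) p (e m.1 m.2) ∧ w.1 = ψ (e m.1 m.2) := by
    rintro ⟨k, j⟩
    obtain ⟨h1, h2, h3, h4, h5, h6⟩ := hprop k j
    exact piece f t p v₀ (Vo k j) (e k j) h1 h2 h3 h4 h5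
  choose W h hWc hWh w hw1 hw2 using hpiece
  refine ⟨V, p, v₀, hp, hpv, Σ k, J k, inferInstance, W, h, hWc, hWh, ?_, ?_⟩
  · intro k
    obtain ⟨w₀, hw₀1, hw₀2⟩ := Scheme.Pullback.exists_preimage_pullback (f := t ≫ f) (g := p)
      (u k) v₀ (by rw [Scheme.Hom.comp_apply, hy k, hpv])
    obtain ⟨j, hj⟩ := hcover w₀ k hw₀2 hw₀1
    obtain ⟨h1, h2, h3, h4, h5, h6⟩ := hprop k j
    refine ⟨⟨k, j⟩, w ⟨k, j⟩, ?_, ?_⟩
    · rw [hw1, h6]
    · rw [hw2, ← Scheme.Hom.comp_apply, hψ2, h3]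
  · intro z k hz1 hz2
    obtain ⟨e₀', he1, he2⟩ := Scheme.Pullback.exists_preimage_pullback (f := t)
      (g := pullback.fst f p) (u k) z hz2.symm
    let e₀ := (pullbackRightPullbackFstIso f p t).hom e₀'
    have he₀1 : pullback.fst (t ≫ f) p e₀ = u k := by
      rw [← he1, ← Scheme.Hom.comp_apply, pullbackRightPullbackFstIso_hom_fst]
    have he₀2 : ψ e₀ = z := by
      rw [← he2]
      simp only [ψ, e₀]
      rw [← Scheme.Hom.comp_apply, Iso.hom_inv_id_assoc]
    have he₀3 : pullback.snd (t ≫ f) p e₀ = v₀ := by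
      rw [← hψ2, Scheme.Hom.comp_apply, he₀2, hz1]
    obtain ⟨j, hj⟩ := hcover e₀ k he₀3 he₀1
    obtain ⟨h1, h2, h3, h4, h5, h6⟩ := hprop k j
    have : e₀ = e k j := h4 e₀ hj he₀3
    refine ⟨⟨k, j⟩, ?_⟩
    rw [← he₀2, this]
    have h7 := (w ⟨k, j⟩).2
    rw [hw2 ⟨k, j⟩] at h7
    exact h7

end EtClopenLift
end H9FE
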