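import Mathlib
import Groth.Agent.Lib.Helper9.FE.EtClopenLift
import Groth.Prelude.Def_BigSite

/-! helper9: variant of `FinDisj.coreB` in which the étale family is only assumed to cover the fibre
of `F` over the given point `y` (same proof). -/

universe u
open CategoryTheory CategoryTheory.Limits AlgebraicGeometry

namespace H9FE
namespace FinDisjFib

set_option linter.style.haveILetI false
set_option linter.unusedSectionVars false
set_option backward.isDefEq.respectTransparency false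

open EtClopenLift

theorem coreB' {Z V : Scheme.{u}} (F : Z ⟶ V) [IsFinite F] (y : V) {I : Type*}
    (U : I → Scheme.{u}) (g : ∀ i, U i ⟶ Z) (hg : ∀ i, Etale (g i))
    (hcov : ∀ z : Z, F z = y → ∃ i, z ∈ Set.range (g i)) :
    ∃ (V' : Scheme.{u}) (p : V' ⟶ V) (y' : V'), Etale p ∧ p y' = y ∧
      ∃ (μ : Type) (_ : Finite μ) (O : μ → (pullback F p).Opens),
        (∀ a b, a ≠ b → Disjoint (O a) (O b)) ∧
        (∀ z : ↑(pullback F p), ∃ a, z ∈ O a) ∧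
        ∀ a, ∃ (i : I) (h : ((O a : (pullback F p).Opens) : Scheme.{u}) ⟶ U i),
          h ≫ g i = (O a).ι ≫ pullback.fst F p := by
  classical
  -- the fibre
  have hfin : (F ⁻¹' {y}).Finite := F.finite_preimage_singleton y
  haveI : Finite ↥(F ⁻¹' {y}) := hfin
  let n := Nat.card ↥(F ⁻¹' {y})
  let eqv : ↥(F ⁻¹' {y}) ≃ Fin n := Finite.equivFin _
  let x : Fin n → Z := fun k => (eqv.symm k).1
  have hxinj : Function.Injective x := fun a b hab => eqv.symm.injective (Subtype.ext hab)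
  have hxy : ∀ k, F (x k) = y := fun k => (eqv.symm k).2
  have hxsurj : ∀ z : Z, F z = y → ∃ k, z = x k := fun z hz =>
    ⟨eqv ⟨z, hz⟩, by simp [x]⟩
  choose i hi using fun k => hcov (x k) (hxy k)
  choose u₀ hu₀ using hi
  have haff : ∀ k, ∃ T : (U (i k)).Opens, IsAffineOpen T ∧ u₀ k ∈ T := by
    intro k
    obtain ⟨_, ⟨T, hT, rfl⟩, hu, -⟩ :=
      (U (i k)).isBasis_affineOpens.exists_subset_of_mem_open (Set.mem_univ (u₀ k)) isOpen_univ
    exact ⟨T, hT, hu⟩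
  choose Tk hTk huTk using haff
  let Ts : Fin n → Scheme.{u} := fun k => (Tk k : Scheme.{u})
  haveI : ∀ k, IsAffine (Ts k) := fun k => hTk k
  let t : (∐ Ts) ⟶ Z := Sigma.desc (fun k => (Tk k).ι ≫ g (i k))
  haveI : Etale t := IsZariskiLocalAtSource.sigmaDesc (fun k => by
    haveI := hg (i k)
    infer_instance)
  let pts : Fin n → ↑(∐ Ts) := fun k => Sigma.ι Ts k ⟨u₀ k, huTk k⟩
  have hpts : ∀ k, t (pts k) = x k := by
    intro k
    simp only [pts, t]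
    rw [← Scheme.Hom.comp_apply, Sigma.ι_desc, Scheme.Hom.comp_apply]
    exact hu₀ k
  have hptsinj : Function.Injective pts := fun a b hab =>
    hxinj (by rw [← hpts a, ← hpts b, hab])
  haveI : LocallyQuasiFinite t := locallyQuasiFinite_of_etale t
  obtain ⟨V₁, p₁, v₀, hp₁, hpv, M, hM, W, h, hWc, hWh, -, hW2⟩ :=
    main F t y pts hptsinj (fun k => by rw [hpts k, hxy k])
      (fun k => (t ≫ F).quasiFiniteAt _)
  haveI := hM
  haveI := hp₁
  -- shrink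
  have hWallopen : IsOpen (⋃ m, (W m : Set ↑(pullback F p₁))) :=
    isOpen_iUnion (fun m => (W m).2)
  have himcl : IsClosed (pullback.snd F p₁ '' (⋃ m, (W m : Set ↑(pullback F p₁)))ᶜ) :=
    (pullback.snd F p₁).isClosedMap _ hWallopen.isClosed_compl
  let V₂ : V₁.Opens := ⟨(pullback.snd F p₁ '' (⋃ m, (W m : Set ↑(pullback F p₁)))ᶜ)ᶜ,
    himcl.isOpen_compl⟩
  have hv₀ : v₀ ∈ V₂ := by
    rintro ⟨z, hz, hzv⟩
    obtain ⟨k, hk⟩ := hxsurj (pullback.fst F p₁ z) (by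
      rw [← Scheme.Hom.comp_apply, pullback.condition, Scheme.Hom.comp_apply, hzv, hpv])
    obtain ⟨m, hm⟩ := hW2 z k hzv (by rw [hk, hpts])
    exact hz (Set.mem_iUnion.mpr ⟨m, hm⟩)
  let j : pullback F (V₂.ι ≫ p₁) ⟶ pullback F p₁ :=
    pullback.map F (V₂.ι ≫ p₁) F p₁ (𝟙 Z) V₂.ι (𝟙 V) (by simp) (by simp)
  have hj1 : j ≫ pullback.fst F p₁ = pullback.fst F (V₂.ι ≫ p₁) := by simp [j]
  have hj2 : j ≫ pullback.snd F p₁ = pullback.snd F (V₂.ι ≫ p₁) ≫ V₂.ι := by simp [j]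
  have hjW : ∀ z, j z ∈ ⋃ m, (W m : Set ↑(pullback F p₁)) := by
    intro z
    by_contra hz
    have h1 : pullback.snd F p₁ (j z) ∈ V₂ := by
      rw [← Scheme.Hom.comp_apply, hj2, Scheme.Hom.comp_apply]
      exact (pullback.snd F (V₂.ι ≫ p₁) z).2
    exact h1 ⟨j z, hz, rfl⟩
  -- order on `M`
  let eM : M ≃ Fin (Nat.card M) := Finite.equivFin M
  let prev : M → Set ↑(pullback F p₁) := fun m => ⋃ m' ∈ {m' : M | eM m' < eM m}, (W m' : Set _)
  have hprev : ∀ m, IsClosed (prev m) := fun m =>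
    Set.Finite.isClosed_biUnion (Set.toFinite _) (fun m' _ => hWc m')
  let G : M → Fin n → (pullback F p₁).Opens := fun m k =>
    (W m).ι ''ᵁ ((h m) ⁻¹ᵁ (Sigma.ι Ts k).opensRange)
  have hG : ∀ m k (z : ↑(pullback F p₁)), z ∈ G m k ↔
      ∃ w : ↥(W m), h m w ∈ Set.range (Sigma.ι Ts k) ∧ w.1 = z := by
    intro m k z
    constructor
    · rintro ⟨w, hw, rfl⟩
      exact ⟨w, hw, rfl⟩
    · rintro ⟨w, hw, rfl⟩
      exact ⟨w, hw, rfl⟩
  let B : M × Fin n → (pullback F p₁).Opens := fun a =>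
    ⟨(G a.1 a.2 : Set _) ∩ (prev a.1)ᶜ, IsOpen.inter (G a.1 a.2).2 (hprev a.1).isOpen_compl⟩
  have hBG : ∀ a z, z ∈ B a → z ∈ G a.1 a.2 := fun a z hz => hz.1
  have hBW : ∀ a z, z ∈ B a → z ∈ W a.1 := by
    intro a z hz
    obtain ⟨w, -, rfl⟩ := (hG _ _ _).mp (hBG a z hz)
    exact w.2
  have hBprev : ∀ a z, z ∈ B a → ∀ m', eM m' < eM a.1 → z ∉ W m' := by
    intro a z hz m' hm' hzm'
    exact hz.2 (Set.mem_biUnion (show m' ∈ {m' : M | eM m' < eM a.1} from hm') hzm')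
  refine ⟨V₂, V₂.ι ≫ p₁, ⟨v₀, hv₀⟩, inferInstance, ?_, M × Fin n, inferInstance,
    fun a => j ⁻¹ᵁ (B a), ?_, ?_, ?_⟩
  · rw [Scheme.Hom.comp_apply]
    exact hpv
  · -- disjoint
    intro a b hab
    rw [disjoint_iff]
    ext z
    simp only [TopologicalSpace.Opens.coe_inf, Set.mem_inter_iff, SetLike.mem_coe,
      TopologicalSpace.Opens.coe_bot, Set.mem_empty_iff_false, iff_false, not_and]
    intro hza hzb
    have hza' : j z ∈ B a := hza
    have hzb' : j z ∈ B b := hzb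
    apply hab
    have h1 : a.1 = b.1 := by
      apply eM.injective
      rcases lt_trichotomy (eM a.1) (eM b.1) with hlt | heq | hgt
      · exact absurd (hBW a _ hza') (hBprev b _ hzb' a.1 hlt)
      · exact heq
      · exact absurd (hBW b _ hzb') (hBprev a _ hza' b.1 hgt)
    obtain ⟨a1, a2⟩ := a
    obtain ⟨b1, b2⟩ := b
    simp only at h1
    subst h1
    obtain ⟨w, hw, hwz⟩ := (hG _ _ _).mp (hBG _ _ hza')
    obtain ⟨w', hw', hwz'⟩ := (hG _ _ _).mp (hBG _ _ hzb')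
    have hww : w = w' := Subtype.ext (hwz.trans hwz'.symm)
    subst hww
    by_contra hne
    have hne' : a2 ≠ b2 := fun h => hne (by rw [h])
    have hd := disjoint_opensRange_sigmaι Ts a2 b2 hne'
    exact (hd.le_bot (show h a1 w ∈ (Sigma.ι Ts a2).opensRange ⊓ (Sigma.ι Ts b2).opensRange from
      ⟨hw, hw'⟩))
  · -- cover
    intro z
    obtain ⟨m₀, hm₀⟩ := Set.mem_iUnion.mp (hjW z)
    obtain ⟨m, hm, hmin⟩ := Set.exists_min_image {m : M | j z ∈ W m} eM (Set.toFinite _)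
      ⟨m₀, hm₀⟩
    obtain ⟨k, q, hq⟩ : ∃ (k : Fin n) (q : ↑(Ts k)), Sigma.ι Ts k q = h m ⟨j z, hm⟩ :=
      (sigmaOpenCover Ts).exists_eq (h m ⟨j z, hm⟩)
    refine ⟨(m, k), ?_⟩
    show j z ∈ B (m, k)
    refine ⟨(hG _ _ _).mpr ⟨⟨j z, hm⟩, ⟨q, hq⟩, rfl⟩, ?_⟩
    intro hz
    obtain ⟨m', hm', hzm'⟩ := Set.mem_iUnion₂.mp hz
    exact absurd (hmin m' hzm') (not_le.mpr hm')
  · -- factor
    rintro ⟨m, k⟩
    have hr1 : Set.range ((j ⁻¹ᵁ (B (m, k))).ι ≫ j) ⊆ Set.range (W m).ι := by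
      rintro _ ⟨z, rfl⟩
      rw [Scheme.Opens.range_ι]
      rw [Scheme.Hom.comp_apply]
      exact hBW (m, k) _ z.2
    let l₁ : ((j ⁻¹ᵁ (B (m, k)) : (pullback F (V₂.ι ≫ p₁)).Opens) : Scheme.{u}) ⟶ (W m : Scheme.{u}) :=
      IsOpenImmersion.lift (W m).ι ((j ⁻¹ᵁ (B (m, k))).ι ≫ j) hr1
    have hl₁ : l₁ ≫ (W m).ι = (j ⁻¹ᵁ (B (m, k))).ι ≫ j := IsOpenImmersion.lift_fac _ _ _
    have hr2 : Set.range (l₁ ≫ h m) ⊆ Set.range (Sigma.ι Ts k) := by
      rintro _ ⟨z, rfl⟩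
      obtain ⟨w, hw, hwz⟩ := (hG _ _ _).mp (hBG (m, k) _ z.2)
      have : l₁ z = w := by
        apply Subtype.ext
        rw [hwz]
        have := congrArg (fun φ => φ.base z) hl₁
        exact this
      rw [Scheme.Hom.comp_apply, this]
      exact hw
    let l₂ : ((j ⁻¹ᵁ (B (m, k)) : (pullback F (V₂.ι ≫ p₁)).Opens) : Scheme.{u}) ⟶ Ts k :=
      IsOpenImmersion.lift (Sigma.ι Ts k) (l₁ ≫ h m) hr2
    have hl₂ : l₂ ≫ Sigma.ι Ts k = l₁ ≫ h m := IsOpenImmersion.lift_fac _ _ _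
    refine ⟨i k, l₂ ≫ (Tk k).ι, ?_⟩
    have ht : Sigma.ι Ts k ≫ t = (Tk k).ι ≫ g (i k) := Sigma.ι_desc _ _
    rw [Category.assoc, ← ht, ← Category.assoc, hl₂, Category.assoc, hWh m, ← Category.assoc, hl₁,
      Category.assoc, hj1]


end FinDisjFib
end H9FE
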