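import Mathlib
import Groth.Prelude.Def_EtBase
import Groth.Agent.Lib.Helper5.Misc.EtStalk
import Groth.Agent.Lib.Helper5.Misc.EtStalkPull
import Groth.Agent.Lib.Helper9.FE.StalkComapGerm
import Groth.Agent.S0072

/-! helper9: the stalk comparison `stalkPullIso` on germs, and its compatibility with the unit and
counit of `f⁻¹ ⊣ f_*` through the comparison map `phi` of `S0072`. -/

set_option autoImplicit false
universe u
open CategoryTheory CategoryTheory.Limits AlgebraicGeometry Opposite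

namespace H9FE.StalkPullGerm

set_option backward.isDefEq.respectTransparency false
set_option linter.style.haveILetI false
set_option linter.unusedSectionVars false

open Groth.Agent.Lib.Helper5 Groth.Agent.S0072.Aux

variable {X Y : Scheme.{u}} (f : X ⟶ Y) {Ω : Type u} [Field Ω] [IsSepClosed Ω]
  (ξ : Spec (CommRingCat.of Ω) ⟶ X)

lemma fiberIso_hom_liftPt (V : Y.Etale) (v : (Scheme.pointSmallEtale (ξ ≫ f)).fiber.obj V) :
    (EtStalkPull.fiberIso f ξ).hom.app V (liftPt f (ξ ≫ f) ξ rfl V v) = v := by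
  apply Over.OverMorphism.ext
  change (((Over.mapPullbackAdj f).homEquiv (Over.mk ξ) ((Scheme.Etale.forget Y).obj V)).symm
    (liftPt f (ξ ≫ f) ξ rfl V v)).left = v.left
  rw [Adjunction.homEquiv_counit]
  simp
  rw [liftPt_left]
  exact pullback.lift_fst _ _ _

lemma fiberIso_inv (V : Y.Etale) (v : (Scheme.pointSmallEtale (ξ ≫ f)).fiber.obj V) :
    (EtStalkPull.fiberIso f ξ).inv.app V v = liftPt f (ξ ≫ f) ξ rfl V v := by
  have h := congrArg ((EtStalkPull.fiberIso f ξ).inv.app V) (fiberIso_hom_liftPt f ξ V v)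
  refine h.symm.trans ?_
  exact ConcreteCategory.congr_hom ((EtStalkPull.fiberIso f ξ).hom_inv_id_app V) _

/-- the inverse of `stalkPullIso` on germs -/
lemma stalkPullIso_inv_germ (G : EtCoh.Ab Y) (V : Y.Etale)
    (v : (Scheme.pointSmallEtale (ξ ≫ f)).fiber.obj V) :
    (Scheme.pointSmallEtale (ξ ≫ f)).toPresheafFiber V v G.obj ≫
      (EtStalkPull.stalkPullIso f ξ).inv.app G =
      ((EtCoh.pullPushAdj f).unit.app G).hom.app (op V) ≫
        (Scheme.pointSmallEtale ξ).toPresheafFiber ((EtCoh.bc f).obj V)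
          (liftPt f (ξ ≫ f) ξ rfl V v) ((EtCoh.pull f).obj G).obj := by
  have h1 : (EtStalkPull.stalkPullIso f ξ).inv.app G =
      (EtStalkPull.sheafFiberIsoOfIso (EtStalkPull.pointIso f ξ)).inv.app G ≫
        (GrothendieckTopology.Point.sheafFiberComapIso (Scheme.pointSmallEtale ξ) (EtCoh.bc f)
          (EtCoh.coverPreserving_bc f) AddCommGrpCat.{u + 1}).hom.app G := rfl
  have h2 : (Scheme.pointSmallEtale (ξ ≫ f)).toPresheafFiber V v G.obj ≫
      (EtStalkPull.sheafFiberIsoOfIso (A := AddCommGrpCat.{u + 1})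
        (EtStalkPull.pointIso f ξ)).inv.app G =
      (EtStalkPull.comapPoint f ξ).toPresheafFiber V ((EtStalkPull.fiberIso f ξ).inv.app V v)
        G.obj := by
    simp [EtStalkPull.sheafFiberIsoOfIso, EtStalkPull.pointIso]
    rfl
  rw [h1, ← Category.assoc, h2, fiberIso_inv]
  exact StalkComapGerm.key (Scheme.pointSmallEtale ξ) (EtCoh.bc f) (EtCoh.coverPreserving_bc f)
    AddCommGrpCat.{u + 1} G V (liftPt f (ξ ≫ f) ξ rfl V v)

lemma toPF_phi (F : EtCoh.Ab X) (V : Y.Etale)
    (v : (Scheme.pointSmallEtale (ξ ≫ f)).fiber.obj V) :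
    (Scheme.pointSmallEtale (ξ ≫ f)).toPresheafFiber V v ((EtCoh.push f).obj F).obj ≫
      phi f (ξ ≫ f) F ξ rfl =
    (Scheme.pointSmallEtale ξ).toPresheafFiber ((EtCoh.bc f).obj V)
      (liftPt f (ξ ≫ f) ξ rfl V v) F.obj :=
  (Scheme.pointSmallEtale (ξ ≫ f)).toPresheafFiber_presheafFiberDesc _ _ V v

lemma phi_natural {F F' : EtCoh.Ab X} (α : F ⟶ F') :
    (EtCoh.stalk (ξ ≫ f)).map ((EtCoh.push f).map α) ≫ phi f (ξ ≫ f) F' ξ rfl =
      phi f (ξ ≫ f) F ξ rfl ≫ (EtCoh.stalk ξ).map α := by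
  apply (Scheme.pointSmallEtale (ξ ≫ f)).presheafFiber_hom_ext
  intro V v
  change (Scheme.pointSmallEtale (ξ ≫ f)).toPresheafFiber V v ((EtCoh.push f).obj F).obj ≫
      (Scheme.pointSmallEtale (ξ ≫ f)).presheafFiber.map ((EtCoh.push f).map α).hom ≫
        phi f (ξ ≫ f) F' ξ rfl =
      (Scheme.pointSmallEtale (ξ ≫ f)).toPresheafFiber V v ((EtCoh.push f).obj F).obj ≫
        phi f (ξ ≫ f) F ξ rfl ≫ (Scheme.pointSmallEtale ξ).presheafFiber.map α.hom
  rw [(Scheme.pointSmallEtale (ξ ≫ f)).toPresheafFiber_naturality_assoc, toPF_phi,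
    ← Category.assoc, toPF_phi, (Scheme.pointSmallEtale ξ).toPresheafFiber_naturality]
  rfl

/-- the comparison `phi` composed with the stalk of the unit is the inverse of `stalkPullIso` -/
lemma unit_phi (G : EtCoh.Ab Y) :
    (EtCoh.stalk (ξ ≫ f)).map ((EtCoh.pullPushAdj f).unit.app G) ≫
      phi f (ξ ≫ f) ((EtCoh.pull f).obj G) ξ rfl = (EtStalkPull.stalkPullIso f ξ).inv.app G := by
  apply (Scheme.pointSmallEtale (ξ ≫ f)).presheafFiber_hom_ext
  intro V v
  change (Scheme.pointSmallEtale (ξ ≫ f)).toPresheafFiber V v G.obj ≫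
      (Scheme.pointSmallEtale (ξ ≫ f)).presheafFiber.map ((EtCoh.pullPushAdj f).unit.app G).hom ≫
        phi f (ξ ≫ f) ((EtCoh.pull f).obj G) ξ rfl =
      (Scheme.pointSmallEtale (ξ ≫ f)).toPresheafFiber V v G.obj ≫
        (EtStalkPull.stalkPullIso f ξ).inv.app G
  rw [stalkPullIso_inv_germ, (Scheme.pointSmallEtale (ξ ≫ f)).toPresheafFiber_naturality_assoc]
  congr 1
  exact toPF_phi f ξ ((EtCoh.pull f).obj G) V v

/-- the stalk of the counit is `stalkPullIso` followed by the comparison `phi` -/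
lemma stalkPullIso_phi (F : EtCoh.Ab X) :
    (EtStalkPull.stalkPullIso f ξ).hom.app ((EtCoh.push f).obj F) ≫ phi f (ξ ≫ f) F ξ rfl =
      (EtCoh.stalk ξ).map ((EtCoh.pullPushAdj f).counit.app F) := by
  rw [← cancel_epi ((EtStalkPull.stalkPullIso f ξ).inv.app ((EtCoh.push f).obj F))]
  rw [← Category.assoc, ← NatTrans.comp_app, Iso.inv_hom_id, NatTrans.id_app, Category.id_comp]
  rw [← unit_phi, Category.assoc]
  have h := phi_natural f ξ ((EtCoh.pullPushAdj f).counit.app F)
  erw [← h]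
  rw [← Category.assoc, ← Functor.map_comp]
  have h3 := (EtCoh.pullPushAdj f).right_triangle_components F
  erw [h3]
  exact ((congrArg (fun z => z ≫ phi f (ξ ≫ f) F ξ rfl)
    (CategoryTheory.Functor.map_id (EtCoh.stalk (ξ ≫ f)) ((EtCoh.push f).obj F))).trans
    (Category.id_comp _)).symm

end H9FE.StalkPullGerm
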