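import Mathlib
import Groth.Agent.Lib.Helper9.FE.FinDisj
import Groth.Agent.Lib.Helper5.Misc.EtGlue

/-! helper9: the direct image of abelian étale sheaves along a finite morphism preserves
epimorphisms (is exact). -/

universe u
open CategoryTheory CategoryTheory.Limits AlgebraicGeometry Opposite

namespace H9FE
namespace FinPush

set_option linter.style.haveILetI false
set_option linter.unusedSectionVars false
set_option backward.isDefEq.respectTransparency false

open Groth.Agent.Lib.Helper5

theorem epi_push_of_hasDisjointRefinement {X Y : Scheme.{u}} (f : X ⟶ Y)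
    (hB : EtGlue.HasDisjointRefinement f) {F G : EtCoh.Ab X} (a : F ⟶ G) [Epi a] :
    Epi ((EtCoh.push f).map a) := by
  haveI h1 : Sheaf.IsLocallySurjective a := (Sheaf.isLocallySurjective_iff_epi' _ a).mpr inferInstance
  haveI h2 : Sheaf.IsLocallySurjective
      ((sheafCompose X.smallEtaleTopology (forget AddCommGrpCat.{u + 1})).map a) := inferInstance
  have h3 : Epi ((sheafCompose X.smallEtaleTopology (forget AddCommGrpCat.{u + 1})).map a) :=
    inferInstance
  have h4 := EtGlue.epi_pushSh_of_hasDisjointRefinement f hB _ h3
  have h5 : Sheaf.IsLocallySurjective ((EtDesc.pushSh f).map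
      ((sheafCompose X.smallEtaleTopology (forget AddCommGrpCat.{u + 1})).map a)) :=
    (Sheaf.isLocallySurjective_iff_epi _).mpr h4
  have h6 : Sheaf.IsLocallySurjective ((EtCoh.push f).map a) := by
    rw [Sheaf.IsLocallySurjective, Presheaf.isLocallySurjective_iff_whisker_forget]
    exact h5
  exact (Sheaf.isLocallySurjective_iff_epi' _ _).mp h6

theorem preservesEpimorphisms_of_isFinite {X Y : Scheme.{u}} (f : X ⟶ Y) [IsFinite f] :
    (EtCoh.push f).PreservesEpimorphisms :=
  ⟨fun a _ => epi_push_of_hasDisjointRefinement f
    (EtGlue.hasDisjointRefinement_of_propB f (FinDisj.propB_of_isFinite f)) a⟩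

end FinPush
end H9FE
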