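import Mathlib

/-! helper9: descent of standard étale pairs to subalgebras containing the coefficients, and the
base change square of standard étale algebras on spectra. -/

universe u
open CategoryTheory CategoryTheory.Limits AlgebraicGeometry Polynomial

namespace H9FE
namespace StdEtDescent

set_option linter.style.haveILetI false
set_option linter.unusedSectionVars false
set_option backward.isDefEq.respectTransparency false

open Algebra

theorem pair_ext {R : Type*} [CommRing R] {P Q : StandardEtalePair R} (hf : P.f = Q.f)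
    (hg : P.g = Q.g) : P = Q := by
  cases P
  cases Q
  simp only at hf hg
  subst hf hg
  rfl

theorem exists_pair_of_lifts {B' B : Type u} [CommRing B'] [CommRing B]
    (φ : B' →+* B)
    (hφ : Function.Injective φ) (P : StandardEtalePair B)
    (p₁ p₂ : B[X]) (n : ℕ) (e : derivative P.f * p₁ + P.f * p₂ = P.g ^ n)
    (hf : P.f ∈ lifts φ) (hg : P.g ∈ lifts φ) (h1 : p₁ ∈ lifts φ) (h2 : p₂ ∈ lifts φ) :
    ∃ P' : StandardEtalePair B', P'.map φ = P := by
  rcases subsingleton_or_nontrivial B with hB | hB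
  · haveI : Subsingleton B' := hφ.subsingleton
    exact ⟨⟨1, monic_one, 1, ⟨0, 0, 0, Subsingleton.elim _ _⟩⟩,
      pair_ext (Subsingleton.elim _ _) (Subsingleton.elim _ _)⟩
  obtain ⟨f', hf', -, hmonic⟩ := lifts_and_degree_eq_and_monic hf P.monic_f
  obtain ⟨g', hg'⟩ := (mem_lifts _).mp hg
  obtain ⟨p₁', hp₁'⟩ := (mem_lifts _).mp h1
  obtain ⟨p₂', hp₂'⟩ := (mem_lifts _).mp h2
  refine ⟨⟨f', hmonic, g', ⟨p₁', p₂', n, ?_⟩⟩, ?_⟩
  · apply Polynomial.map_injective φ hφ
    rw [Polynomial.map_add, Polynomial.map_mul, Polynomial.map_mul, Polynomial.map_pow,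
      ← Polynomial.derivative_map, hf', hg', hp₁', hp₂', e]
  · exact pair_ext hf' hg'

theorem exists_finset_descent {A B : Type u} [CommRing A] [CommRing B]
    [Algebra A B] {r : ℕ} (P : Fin r → StandardEtalePair B) :
    ∃ s₀ : Finset B, ∀ (B' : Subalgebra A B), (↑s₀ ⊆ (B' : Set B)) →
      ∃ P' : Fin r → StandardEtalePair B', ∀ k, (P' k).map (algebraMap B' B) = P k := by
  classical
  choose p₁ p₂ n e using fun k => (P k).cond
  refine ⟨Finset.univ.biUnion (fun k => (P k).f.coeffs ∪ (P k).g.coeffs ∪ (p₁ k).coeffs ∪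
    (p₂ k).coeffs), fun B' hB' => ?_⟩
  have hsub : ∀ (k : Fin r) (q : B[X]), q.coeffs ⊆ (P k).f.coeffs ∪ (P k).g.coeffs ∪
      (p₁ k).coeffs ∪ (p₂ k).coeffs → q ∈ lifts (algebraMap B' B) := by
    intro k q hq
    rw [lifts_iff_coeffs_subset_range]
    intro c hc
    have hc' : c ∈ (B' : Set B) := hB' (Finset.mem_biUnion.mpr ⟨k, Finset.mem_univ k, hq hc⟩)
    exact ⟨⟨c, hc'⟩, rfl⟩
  have key : ∀ k, ∃ P' : StandardEtalePair B', P'.map (algebraMap B' B) = P k := by
    intro k
    refine exists_pair_of_lifts (algebraMap B' B) Subtype.val_injective (P k) (p₁ k) (p₂ k) (n k)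
      (e k) (hsub k _ ?_) (hsub k _ ?_) (hsub k _ ?_) (hsub k _ ?_)
    · intro c hc; simp [hc]
    · intro c hc; simp [hc]
    · intro c hc; simp [hc]
    · intro c hc; simp [hc]
  choose P' hP' using key
  exact ⟨P', hP'⟩

open TensorProduct in
/-- base change square for standard étale algebras -/
theorem isPullback_SpecMap {B' B : Type u} [CommRing B'] [CommRing B] (φ : B' →+* B)
    (P' : StandardEtalePair B') :
    ∃ (m : P'.Ring →+* (P'.map φ).Ring),
      IsPullback (Spec.map (CommRingCat.ofHom (algebraMap B (P'.map φ).Ring)))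
        (Spec.map (CommRingCat.ofHom m))
        (Spec.map (CommRingCat.ofHom φ))
        (Spec.map (CommRingCat.ofHom (algebraMap B' P'.Ring))) := by
  algebraize [φ]
  let Prs : StandardEtalePresentation B' P'.Ring :=
    ⟨P', P'.X, P'.hasMap_X, by simpa [StandardEtalePair.lift_X_left] using Function.bijective_id⟩
  let e : B ⊗[B'] P'.Ring ≃ₐ[B] (P'.map (algebraMap B' B)).Ring := (Prs.baseChange (T := B)).equivRing
  refine ⟨(e : B ⊗[B'] P'.Ring →+* _).comp
    (Algebra.TensorProduct.includeRight (R := B') (A := B) (B := P'.Ring)).toRingHom, ?_⟩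
  apply isPullback_SpecMap_of_isPushout
  refine (CommRingCat.isPushout_tensorProduct B' B P'.Ring).of_iso (Iso.refl _) (Iso.refl _)
    (Iso.refl _) e.toRingEquiv.toCommRingCatIso (by simp; rfl) (by simp) ?_ ?_
  · ext b
    have h1 : (b ⊗ₜ[B'] (1 : P'.Ring)) = algebraMap B (B ⊗[B'] P'.Ring) b :=
      (Algebra.TensorProduct.algebraMap_apply b).symm
    have h2 := e.commutes b
    simp only [Iso.refl_hom, Category.id_comp]
    show e (b ⊗ₜ[B'] 1) = _
    rw [h1, h2]
    rfl
  · ext x
    rfl

end StdEtDescent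
end H9FE
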