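import Mathlib
import Groth.Agent.S9722

/-! helper9: every étale covering of an affine scheme is refined by finitely many affine opens of
members which are spectra of standard étale algebras over the ring of global functions. -/

universe u
open CategoryTheory CategoryTheory.Limits AlgebraicGeometry

namespace H9FE
namespace StdEtRefine

set_option linter.style.haveILetI false
set_option linter.unusedSectionVars false
set_option backward.isDefEq.respectTransparency false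

theorem pointwise {Z U : Scheme.{u}} [IsAffine Z] (g : U ⟶ Z) [Etale g] (u : U) :
    ∃ (T : U.Opens) (P : StandardEtalePair Γ(Z, ⊤))
      (e : (T : Scheme.{u}) ≅ Spec (CommRingCat.of P.Ring)), u ∈ T ∧
      e.hom ≫ Spec.map (CommRingCat.ofHom (algebraMap Γ(Z, ⊤) P.Ring)) ≫ Z.isoSpec.inv =
        T.ι ≫ g := by
  obtain ⟨T, hT, huT, hle, hstd⟩ := (Groth.Agent.S9722.result g u ⊤ (isAffineOpen_top Z)
    trivial).mp ⟨⊤, trivial, inferInstance⟩
  letI alg : Algebra Γ(Z, ⊤) Γ(U, T) := (g.appLE ⊤ T hle).hom.toAlgebra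
  haveI : Algebra.IsStandardEtale Γ(Z, ⊤) Γ(U, T) := hstd
  let Prs : StandardEtalePresentation Γ(Z, ⊤) Γ(U, T) :=
    (Algebra.IsStandardEtale.nonempty_standardEtalePresentation).some
  let e₁ : Γ(U, T) ≃+* Prs.P.Ring := Prs.equivRing.toRingEquiv
  refine ⟨T, Prs.P, hT.isoSpec ≪≫ (Scheme.Spec.mapIso e₁.toCommRingCatIso.op).symm, huT, ?_⟩
  have h1 : Spec.map (CommRingCat.ofHom (algebraMap Γ(Z, ⊤) Prs.P.Ring)) =
      Spec.map e₁.toCommRingCatIso.hom ≫ Spec.map (g.appLE ⊤ T hle) := by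
    rw [← Spec.map_comp]
    congr 1
    ext b
    exact (Prs.equivRing.commutes b).symm
  have h2 := IsAffineOpen.SpecMap_appLE_fromSpec g (isAffineOpen_top Z) hT hle
  rw [IsAffineOpen.fromSpec_top] at h2
  simp only [Iso.trans_hom, Iso.symm_hom, Functor.mapIso_inv, Iso.op_inv, Scheme.Spec_map,
    Quiver.Hom.unop_op, Category.assoc]
  rw [h1, Category.assoc, h2, ← Spec.map_comp_assoc, Iso.hom_inv_id, Spec.map_id, Category.id_comp,
    ← IsAffineOpen.isoSpec_inv_ι, Category.assoc, Iso.hom_inv_id_assoc]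

theorem main {Z : Scheme.{u}} [IsAffine Z] {I : Type*} (U : I → Scheme.{u})
    (g : ∀ i, U i ⟶ Z) (hg : ∀ i, Etale (g i)) (hcov : ∀ z : Z, ∃ i, z ∈ Set.range (g i)) :
    ∃ (r : ℕ) (i : Fin r → I) (T : ∀ k, (U (i k)).Opens)
      (P : Fin r → StandardEtalePair Γ(Z, ⊤))
      (e : ∀ k, ((T k : (U (i k)).Opens) : Scheme.{u}) ≅ Spec (CommRingCat.of (P k).Ring)),
      (∀ k, (e k).hom ≫ Spec.map (CommRingCat.ofHom (algebraMap Γ(Z, ⊤) (P k).Ring)) ≫
        Z.isoSpec.inv = (T k).ι ≫ g (i k)) ∧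
      (∀ z : Z, ∃ k, z ∈ Set.range ((T k).ι ≫ g (i k))) := by
  classical
  choose i₀ u₀ hu₀ using hcov
  have key := fun z : Z => by
    haveI := hg (i₀ z)
    exact pointwise (g (i₀ z)) (u₀ z)
  choose T₀ P₀ e₀ huT₀ he₀ using key
  -- open images
  have hopen : ∀ z, IsOpen (Set.range ((T₀ z).ι ≫ g (i₀ z))) := by
    intro z
    haveI := hg (i₀ z)
    exact ((T₀ z).ι ≫ g (i₀ z)).isOpenMap.isOpen_range
  have hmem : ∀ z, z ∈ Set.range ((T₀ z).ι ≫ g (i₀ z)) := by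
    intro z
    refine ⟨⟨u₀ z, huT₀ z⟩, ?_⟩
    rw [Scheme.Hom.comp_apply]
    exact hu₀ z
  obtain ⟨t, ht⟩ := isCompact_univ.elim_finite_subcover
    (fun z : Z => Set.range ((T₀ z).ι ≫ g (i₀ z))) hopen
    (fun z _ => Set.mem_iUnion.mpr ⟨z, hmem z⟩)
  let eqv : ↥t ≃ Fin (Fintype.card ↥t) := Fintype.equivFin _
  refine ⟨Fintype.card ↥t, fun k => i₀ (eqv.symm k).1, fun k => T₀ (eqv.symm k).1,
    fun k => P₀ (eqv.symm k).1, fun k => e₀ (eqv.symm k).1, fun k => he₀ _, ?_⟩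
  intro z
  obtain ⟨z', hz't, hz'⟩ := Set.mem_iUnion₂.mp (ht (Set.mem_univ z))
  refine ⟨eqv ⟨z', hz't⟩, ?_⟩
  have h3 : (eqv.symm (eqv ⟨z', hz't⟩)).1 = z' := by rw [Equiv.symm_apply_apply]
  show z ∈ Set.range ((T₀ (eqv.symm (eqv ⟨z', hz't⟩)).1).ι ≫ g (i₀ (eqv.symm (eqv ⟨z', hz't⟩)).1))
  rw [h3]
  exact hz'

end StdEtRefine
end H9FE
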