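import Mathlib
import Groth.Agent.Lib.Helper9.FE.FinDisj
import Groth.Agent.Lib.Helper9.FE.StdEtDescent
import Groth.Agent.Lib.Helper9.FE.StdEtRefine
import Groth.Agent.Lib.Helper9.FE.FinPush

/-! helper9: for an integral morphism `F : Z ⟶ V`, every étale covering of `Z` is refined, étale
locally on `V`, by a finite decomposition into pairwise disjoint opens (reduction to the finite
case by descending standard étale algebras to finite subalgebras). -/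

universe u
open CategoryTheory CategoryTheory.Limits AlgebraicGeometry

namespace H9FE
namespace IntDisj

set_option linter.style.haveILetI false
set_option linter.unusedSectionVars false
set_option backward.isDefEq.respectTransparency false

theorem specMap_surjective_of_integral_injective {R S : Type u} [CommRing R] [CommRing S]
    [Algebra R S] [Algebra.IsIntegral R S] (hinj : Function.Injective (algebraMap R S)) :
    Function.Surjective (Spec.map (CommRingCat.ofHom (algebraMap R S))) := by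
  intro p
  haveI : p.asIdeal.IsPrime := p.isPrime
  obtain ⟨Q, -, hQ, hQp⟩ := Ideal.exists_ideal_over_prime_of_isIntegral p.asIdeal (⊥ : Ideal S)
    (by
      rw [← RingHom.ker_eq_comap_bot, (RingHom.injective_iff_ker_eq_bot _).mp hinj]
      exact bot_le)
  refine ⟨⟨Q, hQ⟩, ?_⟩
  apply PrimeSpectrum.ext
  exact hQp

theorem coreB_affine {Z V : Scheme.{u}} [IsAffine Z] [IsAffine V] (F : Z ⟶ V) [IsIntegralHom F]
    (y : V) {I : Type*} (U : I → Scheme.{u}) (g : ∀ i, U i ⟶ Z) (hg : ∀ i, Etale (g i))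
    (hcov : ∀ z : Z, ∃ i, z ∈ Set.range (g i)) :
    ∃ (V' : Scheme.{u}) (p : V' ⟶ V) (y' : V'), Etale p ∧ p y' = y ∧
      ∃ (μ : Type) (_ : Finite μ) (O : μ → (pullback F p).Opens),
        (∀ a b, a ≠ b → Disjoint (O a) (O b)) ∧
        (∀ z : ↑(pullback F p), ∃ a, z ∈ O a) ∧
        ∀ a, ∃ (i : I) (h : ((O a : (pullback F p).Opens) : Scheme.{u}) ⟶ U i),
          h ≫ g i = (O a).ι ≫ pullback.fst F p := by
  classical
  obtain ⟨r, i, T, P, e, he, hsurj⟩ := StdEtRefine.main U g hg hcov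
  letI algAB : Algebra Γ(V, ⊤) Γ(Z, ⊤) := F.appTop.hom.toAlgebra
  haveI hint : Algebra.IsIntegral Γ(V, ⊤) Γ(Z, ⊤) :=
    ⟨F.isIntegral_app ⊤ (isAffineOpen_top V)⟩
  obtain ⟨s₀, hs₀⟩ := StdEtDescent.exists_finset_descent (A := Γ(V, ⊤)) P
  obtain ⟨P', hP'⟩ := hs₀ (Algebra.adjoin Γ(V, ⊤) (s₀ : Set Γ(Z, ⊤))) Algebra.subset_adjoin
  obtain rfl : P = fun k => (P' k).map (algebraMap _ _) := funext fun k => (hP' k).symm
  have hfg : (Algebra.adjoin Γ(V, ⊤) (s₀ : Set Γ(Z, ⊤))).toSubmodule.FG :=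
    fg_adjoin_of_finite s₀.finite_toSet (fun x _ => Algebra.IsIntegral.isIntegral x)
  haveI hfin : Module.Finite Γ(V, ⊤) ↥(Algebra.adjoin Γ(V, ⊤) (s₀ : Set Γ(Z, ⊤))) :=
    Module.Finite.iff_fg.mpr hfg
  haveI hint' : Algebra.IsIntegral ↥(Algebra.adjoin Γ(V, ⊤) (s₀ : Set Γ(Z, ⊤))) Γ(Z, ⊤) :=
    Algebra.IsIntegral.tower_top (R := Γ(V, ⊤))
  -- schemes
  let ζ : Z ⟶ Spec (CommRingCat.of ↥(Algebra.adjoin Γ(V, ⊤) (s₀ : Set Γ(Z, ⊤)))) :=
    Z.isoSpec.hom ≫ Spec.map (CommRingCat.ofHom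
      (algebraMap ↥(Algebra.adjoin Γ(V, ⊤) (s₀ : Set Γ(Z, ⊤))) Γ(Z, ⊤)))
  let F' : Spec (CommRingCat.of ↥(Algebra.adjoin Γ(V, ⊤) (s₀ : Set Γ(Z, ⊤)))) ⟶ V :=
    Spec.map (CommRingCat.ofHom
      (algebraMap Γ(V, ⊤) ↥(Algebra.adjoin Γ(V, ⊤) (s₀ : Set Γ(Z, ⊤))))) ≫ V.isoSpec.inv
  have hζF : ζ ≫ F' = F := by
    simp only [ζ, F', Category.assoc]
    rw [← Spec.map_comp_assoc]
    have h1 : CommRingCat.ofHom (algebraMap Γ(V, ⊤) ↥(Algebra.adjoin Γ(V, ⊤) (s₀ : Set Γ(Z, ⊤)))) ≫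
        CommRingCat.ofHom (algebraMap ↥(Algebra.adjoin Γ(V, ⊤) (s₀ : Set Γ(Z, ⊤))) Γ(Z, ⊤)) =
        F.appTop := by
      ext a
      rfl
    rw [h1, Scheme.isoSpec_hom_naturality_assoc, Iso.hom_inv_id, Category.comp_id]
  haveI : IsFinite F' := by
    haveI : IsFinite (Spec.map (CommRingCat.ofHom
        (algebraMap Γ(V, ⊤) ↥(Algebra.adjoin Γ(V, ⊤) (s₀ : Set Γ(Z, ⊤)))))) := by
      rw [IsFinite.SpecMap_iff]
      exact RingHom.finite_algebraMap.mpr hfin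
    infer_instance
  have hζsurj : Function.Surjective ζ := by
    intro z'
    obtain ⟨q, hq⟩ := specMap_surjective_of_integral_injective
      (R := ↥(Algebra.adjoin Γ(V, ⊤) (s₀ : Set Γ(Z, ⊤)))) (S := Γ(Z, ⊤))
      Subtype.val_injective z'
    refine ⟨Z.isoSpec.inv q, ?_⟩
    simp only [ζ]
    rw [Scheme.Hom.comp_apply, ← Scheme.Hom.comp_apply Z.isoSpec.inv, Iso.inv_hom_id]
    exact hq
  -- the descended family
  let τ' : ∀ k : Fin r, Spec (CommRingCat.of (P' k).Ring) ⟶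
      Spec (CommRingCat.of ↥(Algebra.adjoin Γ(V, ⊤) (s₀ : Set Γ(Z, ⊤)))) := fun k =>
    Spec.map (CommRingCat.ofHom (algebraMap _ (P' k).Ring))
  have hτ' : ∀ k, Etale (τ' k) := by
    intro k
    simp only [τ']
    rw [HasRingHomProperty.Spec_iff (P := @Etale)]
    exact RingHom.etale_algebraMap.mpr inferInstance
  choose m hm using fun k => StdEtDescent.isPullback_SpecMap
    (algebraMap ↥(Algebra.adjoin Γ(V, ⊤) (s₀ : Set Γ(Z, ⊤))) Γ(Z, ⊤)) (P' k)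
  have hcov' : ∀ z' : ↑(Spec (CommRingCat.of ↥(Algebra.adjoin Γ(V, ⊤) (s₀ : Set Γ(Z, ⊤))))),
      ∃ k, z' ∈ Set.range (τ' k) := by
    intro z'
    obtain ⟨z, rfl⟩ := hζsurj z'
    obtain ⟨k, t, ht⟩ := hsurj z
    refine ⟨k, Spec.map (CommRingCat.ofHom (m k)) ((e k).hom t), ?_⟩
    rw [← ht, ← he k]
    simp only [ζ, τ']
    rw [← Scheme.Hom.comp_apply, ← Scheme.Hom.comp_apply, ← Scheme.Hom.comp_apply]
    congr 1
    simp only [Category.assoc, Iso.inv_hom_id_assoc]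
    rw [← (hm k).w]
  obtain ⟨V', p, y', hp, hpy, μ, hμ, O, hdisj, hcover, hfac⟩ :=
    FinDisj.coreB F' y (fun k => Spec (CommRingCat.of (P' k).Ring)) τ' hτ' hcov'
  let π : pullback F p ⟶ pullback F' p :=
    pullback.map F p F' p ζ (𝟙 V') (𝟙 V) (by rw [Category.comp_id, hζF]) (by simp)
  have hπ1 : π ≫ pullback.fst F' p = pullback.fst F p ≫ ζ := pullback.lift_fst _ _ _
  refine ⟨V', p, y', hp, hpy, μ, hμ, fun a => π ⁻¹ᵁ (O a), ?_, ?_, ?_⟩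
  · intro a b hab
    have hd := hdisj a b hab
    rw [disjoint_iff] at hd ⊢
    rw [← Scheme.Hom.preimage_inf, hd]
    rfl
  · intro z
    obtain ⟨a, ha⟩ := hcover (π z)
    exact ⟨a, ha⟩
  · intro a
    obtain ⟨k, h', hh'⟩ := hfac a
    have hcond : ((π ⁻¹ᵁ (O a)).ι ≫ pullback.fst F p ≫ Z.isoSpec.hom) ≫
        Spec.map (CommRingCat.ofHom
          (algebraMap ↥(Algebra.adjoin Γ(V, ⊤) (s₀ : Set Γ(Z, ⊤))) Γ(Z, ⊤))) =
        ((π ∣_ (O a)) ≫ h') ≫ τ' k := by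
      rw [Category.assoc, Category.assoc, Category.assoc, hh', morphismRestrict_ι_assoc, hπ1]
    let l := (hm k).lift _ _ hcond
    have hl1 : l ≫ Spec.map (CommRingCat.ofHom (algebraMap Γ(Z, ⊤)
        ((P' k).map (algebraMap ↥(Algebra.adjoin Γ(V, ⊤) (s₀ : Set Γ(Z, ⊤))) Γ(Z, ⊤))).Ring)) =
        (π ⁻¹ᵁ (O a)).ι ≫ pullback.fst F p ≫ Z.isoSpec.hom := (hm k).lift_fst _ _ hcond
    refine ⟨i k, l ≫ (e k).inv ≫ (T k).ι, ?_⟩
    rw [Category.assoc, Category.assoc, ← he k, Iso.inv_hom_id_assoc, ← Category.assoc, hl1,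
      Category.assoc, Category.assoc, Iso.hom_inv_id, Category.comp_id]

theorem coreB {Z V : Scheme.{u}} (F : Z ⟶ V) [IsIntegralHom F]
    (y : V) {I : Type*} (U : I → Scheme.{u}) (g : ∀ i, U i ⟶ Z) (hg : ∀ i, Etale (g i))
    (hcov : ∀ z : Z, ∃ i, z ∈ Set.range (g i)) :
    ∃ (V' : Scheme.{u}) (p : V' ⟶ V) (y' : V'), Etale p ∧ p y' = y ∧
      ∃ (μ : Type) (_ : Finite μ) (O : μ → (pullback F p).Opens),
        (∀ a b, a ≠ b → Disjoint (O a) (O b)) ∧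
        (∀ z : ↑(pullback F p), ∃ a, z ∈ O a) ∧
        ∀ a, ∃ (i : I) (h : ((O a : (pullback F p).Opens) : Scheme.{u}) ⟶ U i),
          h ≫ g i = (O a).ι ≫ pullback.fst F p := by
  obtain ⟨V₀, hV₀, hy⟩ : ∃ V₀ : V.Opens, IsAffineOpen V₀ ∧ y ∈ V₀ := by
    obtain ⟨_, ⟨V₀, hV₀, rfl⟩, hy, -⟩ :=
      V.isBasis_affineOpens.exists_subset_of_mem_open (Set.mem_univ y) isOpen_univ
    exact ⟨V₀, hV₀, hy⟩
  haveI : IsAffine (V₀ : Scheme.{u}) := hV₀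
  haveI : IsAffine ((F ⁻¹ᵁ V₀ : Z.Opens) : Scheme.{u}) := hV₀.preimage F
  have hg₀ : ∀ i, Etale ((g i) ∣_ (F ⁻¹ᵁ V₀)) := by
    intro i
    haveI := hg i
    infer_instance
  have hcov₀ : ∀ z : ↥(F ⁻¹ᵁ V₀), ∃ i, z ∈ Set.range ((g i) ∣_ (F ⁻¹ᵁ V₀)) := by
    intro z
    obtain ⟨i, u, hu⟩ := hcov z.1
    have huZ : u ∈ (g i) ⁻¹ᵁ (F ⁻¹ᵁ V₀) := by
      show g i u ∈ F ⁻¹ᵁ V₀
      rw [hu]
      exact z.2
    refine ⟨i, ⟨u, huZ⟩, ?_⟩
    apply Subtype.ext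
    have h1 := congrArg (fun φ => φ.base (⟨u, huZ⟩ : ↥((g i) ⁻¹ᵁ (F ⁻¹ᵁ V₀))))
      (morphismRestrict_ι (g i) (F ⁻¹ᵁ V₀))
    exact h1.trans hu
  obtain ⟨V', p₀, y', hp₀, hpy, μ, hμ, O, hdisj, hcover, hfac⟩ :=
    coreB_affine (F ∣_ V₀) ⟨y, hy⟩ (fun i => (((g i) ⁻¹ᵁ (F ⁻¹ᵁ V₀) : (U i).Opens) : Scheme.{u}))
      (fun i => (g i) ∣_ (F ⁻¹ᵁ V₀)) hg₀ hcov₀
  haveI := hp₀
  have hrange : Set.range (pullback.fst F (p₀ ≫ V₀.ι)) ⊆ Set.range (F ⁻¹ᵁ V₀).ι := by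
    rintro _ ⟨w, rfl⟩
    rw [Scheme.Opens.range_ι]
    show F (pullback.fst F (p₀ ≫ V₀.ι) w) ∈ V₀
    rw [← Scheme.Hom.comp_apply, pullback.condition, Scheme.Hom.comp_apply, Scheme.Hom.comp_apply]
    exact (p₀ (pullback.snd F (p₀ ≫ V₀.ι) w)).2
  let l : pullback F (p₀ ≫ V₀.ι) ⟶ ((F ⁻¹ᵁ V₀ : Z.Opens) : Scheme.{u}) :=
    IsOpenImmersion.lift (F ⁻¹ᵁ V₀).ι (pullback.fst F (p₀ ≫ V₀.ι)) hrange
  have hl : l ≫ (F ⁻¹ᵁ V₀).ι = pullback.fst F (p₀ ≫ V₀.ι) := IsOpenImmersion.lift_fac _ _ _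
  have hcond : l ≫ (F ∣_ V₀) = pullback.snd F (p₀ ≫ V₀.ι) ≫ p₀ := by
    rw [← cancel_mono V₀.ι, Category.assoc, morphismRestrict_ι, ← Category.assoc, hl,
      pullback.condition, Category.assoc]
  let Θ : pullback F (p₀ ≫ V₀.ι) ⟶ pullback (F ∣_ V₀) p₀ :=
    pullback.lift l (pullback.snd F (p₀ ≫ V₀.ι)) hcond
  have hΘ : Θ ≫ pullback.fst (F ∣_ V₀) p₀ ≫ (F ⁻¹ᵁ V₀).ι = pullback.fst F (p₀ ≫ V₀.ι) := by
    rw [← Category.assoc, pullback.lift_fst, hl]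
  refine ⟨V', p₀ ≫ V₀.ι, y', inferInstance, ?_, μ, hμ, fun a => Θ ⁻¹ᵁ (O a), ?_, ?_, ?_⟩
  · rw [Scheme.Hom.comp_apply, hpy]
    rfl
  · intro a b hab
    have hd := hdisj a b hab
    rw [disjoint_iff] at hd ⊢
    rw [← Scheme.Hom.preimage_inf, hd]
    rfl
  · intro z
    obtain ⟨a, ha⟩ := hcover (Θ z)
    exact ⟨a, ha⟩
  · intro a
    obtain ⟨i, hz, hhz⟩ := hfac a
    refine ⟨i, (Θ ∣_ (O a)) ≫ hz ≫ ((g i) ⁻¹ᵁ (F ⁻¹ᵁ V₀)).ι, ?_⟩
    rw [Category.assoc, Category.assoc, ← morphismRestrict_ι, ← Category.assoc hz, hhz,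
      Category.assoc, morphismRestrict_ι_assoc, hΘ]

/-- condition (B) for integral morphisms -/
theorem propB_of_isIntegralHom {X Y : Scheme.{u}} (f : X ⟶ Y) [IsIntegralHom f] :
    BigSite.PropB f := by
  intro V v _ ι U g hg hcov
  have key := fun y : V => coreB (pullback.snd f v) y U g hg hcov
  choose V' p y' hp hpy μ hμ O hdisj hcover hfac using key
  refine ⟨V, V', p, hp, fun y => ⟨y, y' y, hpy y⟩, fun y => ?_⟩
  refine ⟨ULift.{u} (μ y),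
    fun a => (pullbackLeftPullbackSndIso f v (p y)).inv ⁻¹ᵁ (O y a.down), ?_, ?_, ?_⟩
  · intro a b hab
    have hab' : a.down ≠ b.down := fun h => hab (ULift.ext _ _ h)
    have hd := hdisj y a.down b.down hab'
    rw [disjoint_iff] at hd ⊢
    rw [← Scheme.Hom.preimage_inf, hd]
    rfl
  · rw [eq_top_iff]
    intro z _
    obtain ⟨a, ha⟩ := hcover y ((pullbackLeftPullbackSndIso f v (p y)).inv z)
    exact TopologicalSpace.Opens.mem_iSup.mpr ⟨⟨a⟩, ha⟩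
  · intro a
    obtain ⟨i, h₀, hh₀⟩ := hfac y a.down
    refine ⟨i, ((pullbackLeftPullbackSndIso f v (p y)).inv ∣_ (O y a.down)) ≫ h₀, ?_⟩
    rw [Category.assoc, hh₀, morphismRestrict_ι_assoc]
    congr 1
    apply pullback.hom_ext
    · rw [Category.assoc, pullbackLeftPullbackSndIso_inv_fst, pullback.lift_fst, Category.comp_id]
    · rw [Category.assoc, pullbackLeftPullbackSndIso_inv_fst_snd, pullback.lift_snd]

open Groth.Agent.Lib.Helper5 in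
theorem preservesEpimorphisms_of_isIntegralHom {X Y : Scheme.{u}} (f : X ⟶ Y)
    [IsIntegralHom f] : (EtCoh.push f).PreservesEpimorphisms :=
  ⟨fun a _ => FinPush.epi_push_of_hasDisjointRefinement f
    (EtGlue.hasDisjointRefinement_of_propB f (propB_of_isIntegralHom f)) a⟩

end IntDisj
end H9FE
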