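import Mathlib
import Groth.Agent.Lib.Helper7.CAlg.EtaleLift

/-! helper9: étale algebras over a normal domain with separably closed fraction field split
(idempotent decomposition with epimorphic pieces), and the same over quotients. -/

universe u
open TensorProduct

namespace H9FE


/-- étale algebra over a separably closed field: complete orthogonal idempotents each spanning
a line -/
theorem sepClosed_etale_idem (K : Type u) [Field K] [IsSepClosed K] (L : Type u) [CommRing L]
    [Algebra K L] [Algebra.Etale K L] :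
    ∃ (I : Type u) (_ : Fintype I) (ε : I → L), CompleteOrthogonalIdempotents ε ∧
      ∀ j (l : L), ∃ c : K, l * ε j = c • ε j := by
  classical
  obtain ⟨I, hI, F, hF, hA, e, hsep⟩ := (Algebra.Etale.iff_exists_algEquiv_prod K L).1 inferInstance
  have : Fintype I := Fintype.ofFinite I
  refine ⟨I, inferInstance, fun j => e.symm (Pi.single j 1), ?_, ?_⟩
  · have h := CompleteOrthogonalIdempotents.single (fun i => F i)
    exact h.map e.symm.toRingEquiv.toRingHom
  · intro j l
    have hs : Algebra.IsSeparable K (F j) := (hsep j).2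
    obtain ⟨c, hc⟩ := IsSepClosed.algebraMap_surjective K (F j) (e l j)
    refine ⟨c, ?_⟩
    apply e.injective
    rw [map_mul, map_smul, AlgEquiv.apply_symm_apply]
    ext i
    by_cases hij : i = j
    · subst hij
      simp [Algebra.smul_def, hc]
    · simp [Pi.single_eq_of_ne hij]



theorem isIntegral_of_isIdempotentElem {R S : Type*} [CommRing R] [CommRing S] [Algebra R S]
    {x : S} (hx : IsIdempotentElem x) : IsIntegral R x := by
  refine ⟨Polynomial.X * (Polynomial.X - Polynomial.C 1), ?_, ?_⟩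
  · exact Polynomial.monic_X.mul (Polynomial.monic_X_sub_C 1)
  · have := hx.eq
    simp [mul_sub, this]

/-- the image of `C ⊗ integralClosure A K` in `C ⊗ K` is the image of `C` when `A` is
integrally closed -/
theorem map_val_mem_range (A K C : Type u) [CommRing A] [IsDomain A] [IsIntegrallyClosed A]
    [Field K] [Algebra A K] [IsFractionRing A K] [CommRing C] [Algebra A C]
    (y : C ⊗[A] integralClosure A K) :
    ∃ c : C, (Algebra.TensorProduct.map (AlgHom.id C C) (integralClosure A K).val) y =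
      c ⊗ₜ[A] (1 : K) := by
  induction y with
  | zero => exact ⟨0, by simp⟩
  | add x y hx hy =>
    obtain ⟨c, hc⟩ := hx
    obtain ⟨d, hd⟩ := hy
    exact ⟨c + d, by rw [map_add, hc, hd, add_tmul]⟩
  | tmul c x =>
    have hx : (x : K) ∈ (⊥ : Subalgebra A K) := by
      have h := (IsIntegrallyClosed.integralClosure_eq_bot_iff (R := A) K).2 inferInstance
      rw [← h]; exact x.2
    obtain ⟨a, ha⟩ := Algebra.mem_bot.1 hx
    refine ⟨a • c, ?_⟩
    simp only [Algebra.TensorProduct.map_tmul, AlgHom.coe_id, id_eq, Subalgebra.coe_val]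
    rw [← ha, Algebra.algebraMap_eq_smul_one, smul_tmul]

theorem normal_etale_idem (A K C : Type u) [CommRing A] [IsDomain A] [IsIntegrallyClosed A]
    [Field K] [Algebra A K] [IsFractionRing A K] [IsSepClosed K] [CommRing C] [Algebra A C]
    [Algebra.Etale A C] :
    ∃ (I : Type u) (_ : Fintype I) (e : I → C), CompleteOrthogonalIdempotents e ∧
      ∀ j (c : C), ∃ a a' : A, a ≠ 0 ∧ a • (c * e j) = a' • e j := by
  classical
  obtain ⟨I, hI, ε, hε, hline⟩ := sepClosed_etale_idem K (K ⊗[A] C)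
  -- transport to `C ⊗ K`
  let τ : K ⊗[A] C ≃ₐ[A] C ⊗[A] K := Algebra.TensorProduct.comm A K C
  have hinj : Function.Injective (Algebra.TensorProduct.includeLeft : C →ₐ[A] C ⊗[A] K) :=
    Algebra.TensorProduct.includeLeft_injective (IsFractionRing.injective A K)
  have hex : ∀ j, ∃ c : C, τ (ε j) = c ⊗ₜ[A] (1 : K) := by
    intro j
    have hint : IsIntegral C (τ (ε j)) :=
      isIntegral_of_isIdempotentElem ((hε.idem j).map τ)
    obtain ⟨y, hy⟩ := (TensorProduct.toIntegralClosure_bijective_of_smooth (R := A) (S := C)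
      (B := K)).2 ⟨τ (ε j), hint⟩
    obtain ⟨c, hc⟩ := map_val_mem_range A K C y
    refine ⟨c, ?_⟩
    rw [← hc]
    have := congrArg Subtype.val hy
    simpa [TensorProduct.toIntegralClosure] using this.symm
  choose e he using hex
  refine ⟨I, hI, e, ?_, ?_⟩
  · rw [← CompleteOrthogonalIdempotents.map_injective_iff
      (Algebra.TensorProduct.includeLeft : C →ₐ[A] C ⊗[A] K).toRingHom hinj]
    have h2 := hε.map τ.toRingEquiv.toRingHom
    convert h2 using 1
    ext j
    exact (he j).symm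
  · intro j c
    obtain ⟨l, hl⟩ := hline j ((1 : K) ⊗ₜ[A] c)
    obtain ⟨a', a, hl'⟩ := IsLocalization.exists_mk'_eq (nonZeroDivisors A) l
    have ha0 : (a : A) ≠ 0 := nonZeroDivisors.ne_zero a.2
    refine ⟨a, a', ha0, ?_⟩
    apply hinj
    show ((a : A) • (c * e j)) ⊗ₜ[A] (1 : K) = (a' • e j) ⊗ₜ[A] (1 : K)
    have h1 : (a : A) • (((1 : K) ⊗ₜ[A] c) * ε j) = a' • ε j := by
      rw [hl, ← hl']
      rw [← IsScalarTower.algebraMap_smul K (a : A), smul_smul, ← IsScalarTower.algebraMap_smul K a']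
      congr 1
      exact IsLocalization.mk'_spec' K a' a
    have h2 := congrArg τ h1
    rw [map_smul, map_smul, map_mul, he j] at h2
    have h3 : τ ((1 : K) ⊗ₜ[A] c) = c ⊗ₜ[A] (1 : K) := by simp [τ]
    rw [h3, Algebra.TensorProduct.tmul_mul_tmul, mul_one, smul_tmul', smul_tmul'] at h2
    exact h2


set_option linter.style.haveILetI false

theorem normal_etale_rel (A K C : Type u) [CommRing A] [IsDomain A] [IsIntegrallyClosed A]
    [Field K] [Algebra A K] [IsFractionRing A K] [IsSepClosed K] [CommRing C] [Algebra A C]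
    [Algebra.Etale A C] :
    ∃ (I : Type u) (_ : Fintype I) (e : I → C), CompleteOrthogonalIdempotents e ∧
      ∀ j (c : C), (e j ⊗ₜ[A] e j) * (c ⊗ₜ[A] (1 : C) - (1 : C) ⊗ₜ[A] c) = 0 := by
  obtain ⟨I, hI, e, he, hrel⟩ := normal_etale_idem A K C
  refine ⟨I, hI, e, he, fun j c => ?_⟩
  obtain ⟨a, a', ha, h⟩ := hrel j c
  have hflat : Module.Flat A (C ⊗[A] C) := inferInstance
  have hreg : IsSMulRegular (C ⊗[A] C) a :=
    Module.Flat.isSMulRegular_of_nonZeroDivisors (mem_nonZeroDivisors_of_ne_zero ha)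
  apply hreg
  show a • ((e j ⊗ₜ[A] e j) * (c ⊗ₜ[A] (1 : C) - (1 : C) ⊗ₜ[A] c)) = a • 0
  rw [smul_zero, mul_sub, smul_sub, Algebra.TensorProduct.tmul_mul_tmul,
    Algebra.TensorProduct.tmul_mul_tmul, mul_one]
  have h1 : a • ((e j * c) ⊗ₜ[A] e j) = (a' • e j) ⊗ₜ[A] e j := by
    rw [smul_tmul', mul_comm, h]
  have h2 : a • (e j ⊗ₜ[A] (e j * c)) = e j ⊗ₜ[A] (a' • e j) := by
    rw [← tmul_smul, mul_comm, h]
  rw [h1, h2, smul_tmul, sub_self]

theorem normal_etale_test (A K C : Type u) [CommRing A] [IsDomain A] [IsIntegrallyClosed A]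
    [Field K] [Algebra A K] [IsFractionRing A K] [IsSepClosed K] [CommRing C] [Algebra A C]
    [Algebra.Etale A C] :
    ∃ (I : Type u) (_ : Fintype I) (e : I → C), CompleteOrthogonalIdempotents e ∧
      ∀ (T : Type u) [CommRing T] (h₁ h₂ : C →+* T),
        h₁.comp (algebraMap A C) = h₂.comp (algebraMap A C) →
        ∀ j (c : C), h₁ (e j) * h₂ (e j) * (h₁ c - h₂ c) = 0 := by
  obtain ⟨I, hI, e, he, hrel⟩ := normal_etale_rel A K C
  refine ⟨I, hI, e, he, ?_⟩
  intro T _ h₁ h₂ h12 j c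
  letI : Algebra A T := (h₁.comp (algebraMap A C)).toAlgebra
  let g₁ : C →ₐ[A] T := ⟨h₁, fun a => rfl⟩
  let g₂ : C →ₐ[A] T := ⟨h₂, fun a => (RingHom.congr_fun h12 a).symm⟩
  have := congrArg (Algebra.TensorProduct.productMap g₁ g₂) (hrel j c)
  simpa [g₁, g₂] using this

theorem quotient_normal_etale_test {A Ab Cb : Type u} [CommRing A] [CommRing Ab] [CommRing Cb]
    [IsDomain A] [IsIntegrallyClosed A] (K : Type u) [Field K] [Algebra A K] [IsFractionRing A K]
    [IsSepClosed K] (π : A →+* Ab) (hπ : Function.Surjective π) (f : Ab →+* Cb) (hf : f.Etale) :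
    ∃ (I : Type u) (_ : Fintype I) (e : I → Cb), CompleteOrthogonalIdempotents e ∧
      ∀ (T : Type u) [CommRing T] (h₁ h₂ : Cb →+* T), h₁.comp f = h₂.comp f →
        ∀ j (c : Cb), h₁ (e j) * h₂ (e j) * (h₁ c - h₂ c) = 0 := by
  let J : Ideal A := RingHom.ker π
  let q : A ⧸ J ≃+* Ab := RingHom.quotientKerEquivOfSurjective hπ
  have hfq : (f.comp q.toRingHom).Etale :=
    RingHom.Etale.stableUnderComposition _ _ (RingHom.Etale.of_bijective q.bijective) hf
  letI : Algebra (A ⧸ J) Cb := (f.comp q.toRingHom).toAlgebra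
  have : Algebra.Etale (A ⧸ J) Cb := hfq
  obtain ⟨C, _, _, hC, ⟨ψ⟩⟩ := Groth.Agent.Helper7.EtaleLift.exists_etale_lift A J Cb
  obtain ⟨I, hI, e, he, hrel⟩ := normal_etale_test A K C
  let ρ : C →+* Cb := ψ.toAlgHom.toRingHom.comp
    (Algebra.TensorProduct.includeRight : C →ₐ[A] (A ⧸ J) ⊗[A] C).toRingHom
  have hρ : Function.Surjective ρ := by
    intro y
    obtain ⟨x, rfl⟩ := ψ.surjective y
    suffices h : ∃ c : C, x = (1 : A ⧸ J) ⊗ₜ[A] c by
      obtain ⟨c, rfl⟩ := h
      exact ⟨c, rfl⟩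
    induction x with
    | zero => exact ⟨0, by simp⟩
    | add x y hx hy =>
      obtain ⟨c, rfl⟩ := hx
      obtain ⟨d, rfl⟩ := hy
      exact ⟨c + d, by rw [tmul_add]⟩
    | tmul a c =>
      obtain ⟨a, rfl⟩ := Ideal.Quotient.mk_surjective a
      refine ⟨a • c, ?_⟩
      rw [← smul_tmul]
      congr 1
      rw [Algebra.smul_def, mul_one]; rfl
  have hρA : ρ.comp (algebraMap A C) = f.comp π := by
    ext a
    show ψ ((1 : A ⧸ J) ⊗ₜ[A] (algebraMap A C a)) = f (π a)
    have h1 : (1 : A ⧸ J) ⊗ₜ[A] (algebraMap A C a) =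
        algebraMap (A ⧸ J) ((A ⧸ J) ⊗[A] C) (Ideal.Quotient.mk J a) := by
      rw [Algebra.TensorProduct.algebraMap_apply, Algebra.algebraMap_eq_smul_one, ← smul_tmul]
      congr 1
      rw [Algebra.smul_def, mul_one]; rfl
    rw [h1, ψ.commutes]
    rfl
  refine ⟨I, hI, fun j => ρ (e j), he.map ρ, ?_⟩
  intro T _ h₁ h₂ h12 j c
  obtain ⟨c, rfl⟩ := hρ c
  have h := hrel T (h₁.comp ρ) (h₂.comp ρ) (by
    have e1 : (h₁.comp ρ).comp (algebraMap A C) = h₁.comp (ρ.comp (algebraMap A C)) := rfl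
    have e2 : (h₂.comp ρ).comp (algebraMap A C) = h₂.comp (ρ.comp (algebraMap A C)) := rfl
    rw [e1, e2, hρA, ← RingHom.comp_assoc, ← RingHom.comp_assoc, h12]) j c
  exact h

end H9FE
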