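import Mathlib
import Groth.Agent.Lib.Helper9.FE.NormalSplit

/-! helper9: étale algebras over a normal domain: idempotent decomposition into pieces with prime annihilator. -/

universe u
open TensorProduct

namespace H9FE
namespace NormalIrred

/-- étale algebra over a field: complete orthogonal idempotents with "prime" pieces -/
theorem field_etale_idem (K : Type u) [Field K] (L : Type u) [CommRing L]
    [Algebra K L] [Algebra.Etale K L] :
    ∃ (I : Type u) (_ : Fintype I) (ε : I → L), CompleteOrthogonalIdempotents ε ∧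
      ∀ j (l l' : L), l * l' * ε j = 0 → l * ε j = 0 ∨ l' * ε j = 0 := by
  classical
  obtain ⟨I, hI, F, hF, hA, e, hsep⟩ := (Algebra.Etale.iff_exists_algEquiv_prod K L).1 inferInstance
  have : Fintype I := Fintype.ofFinite I
  refine ⟨I, inferInstance, fun j => e.symm (Pi.single j 1), ?_, ?_⟩
  · have h := CompleteOrthogonalIdempotents.single (fun i => F i)
    exact h.map e.symm.toRingEquiv.toRingHom
  · intro j l l' h
    have h1 := congrArg (fun f => e f j) h
    simp only [map_mul, AlgEquiv.apply_symm_apply, Pi.mul_apply, Pi.single_eq_same, mul_one,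
      map_zero, Pi.zero_apply] at h1
    have key : ∀ m : L, e m j = 0 → m * e.symm (Pi.single j 1) = 0 := by
      intro m hm
      apply e.injective
      rw [map_mul, AlgEquiv.apply_symm_apply, map_zero]
      ext i
      by_cases hij : i = j
      · subst hij
        simp [hm]
      · simp [Pi.single_eq_of_ne hij]
    rcases mul_eq_zero.1 h1 with h2 | h2
    · exact Or.inl (key l h2)
    · exact Or.inr (key l' h2)

theorem normal_etale_irred (A C : Type u) [CommRing A] [IsDomain A] [IsIntegrallyClosed A]
    [CommRing C] [Algebra A C] [Algebra.Etale A C] :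
    ∃ (I : Type u) (_ : Fintype I) (e : I → C), CompleteOrthogonalIdempotents e ∧
      ∀ j (x y : C), x * y * e j = 0 → x * e j = 0 ∨ y * e j = 0 := by
  classical
  let K := FractionRing A
  obtain ⟨I, hI, ε, hε, hprime⟩ := field_etale_idem K (K ⊗[A] C)
  let τ : K ⊗[A] C ≃ₐ[A] C ⊗[A] K := Algebra.TensorProduct.comm A K C
  have hinj : Function.Injective (Algebra.TensorProduct.includeLeft : C →ₐ[A] C ⊗[A] K) :=
    Algebra.TensorProduct.includeLeft_injective (IsFractionRing.injective A K)
  have hex : ∀ j, ∃ c : C, τ (ε j) = c ⊗ₜ[A] (1 : K) := by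
    intro j
    have hint : IsIntegral C (τ (ε j)) :=
      isIntegral_of_isIdempotentElem ((hε.idem j).map τ)
    obtain ⟨y, hy⟩ := (TensorProduct.toIntegralClosure_bijective_of_smooth (R := A) (S := C)
      (B := K)).2 ⟨τ (ε j), hint⟩
    obtain ⟨c, hc⟩ := map_val_mem_range A K C y
    refine ⟨c, ?_⟩
    rw [← hc]
    have := congrArg Subtype.val hy
    simpa [TensorProduct.toIntegralClosure] using this.symm
  choose e he using hex
  refine ⟨I, hI, e, ?_, ?_⟩
  · rw [← CompleteOrthogonalIdempotents.map_injective_iff
      (Algebra.TensorProduct.includeLeft : C →ₐ[A] C ⊗[A] K).toRingHom hinj]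
    have h2 := hε.map τ.toRingEquiv.toRingHom
    convert h2 using 1
    ext j
    exact (he j).symm
  · intro j x y hxy
    have hτ : ∀ c : C, τ ((1 : K) ⊗ₜ[A] c) = c ⊗ₜ[A] (1 : K) := fun c => by simp [τ]
    have h1 : ((1 : K) ⊗ₜ[A] x) * ((1 : K) ⊗ₜ[A] y) * ε j = 0 := by
      apply τ.injective
      rw [map_mul, map_mul, hτ, hτ, he j, map_zero, Algebra.TensorProduct.tmul_mul_tmul,
        Algebra.TensorProduct.tmul_mul_tmul, mul_one, mul_one, hxy, zero_tmul]
    have key : ∀ c : C, ((1 : K) ⊗ₜ[A] c) * ε j = 0 → c * e j = 0 := by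
      intro c hc
      apply hinj
      have h2 := congrArg τ hc
      rw [map_mul, hτ, he j, map_zero, Algebra.TensorProduct.tmul_mul_tmul, mul_one] at h2
      rw [map_zero]
      exact h2
    rcases hprime j _ _ h1 with h2 | h2
    · exact Or.inl (key x h2)
    · exact Or.inr (key y h2)

end NormalIrred
end H9FE
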