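import Mathlib
import Groth.Agent.Lib.Helper9.FE.NormalSplit

/-! helper9: étale affine schemes over a closed subscheme of a normal integral affine scheme with
separably closed function field split into opens. -/

universe u
open CategoryTheory CategoryTheory.Limits AlgebraicGeometry Opposite

namespace H9FE

set_option backward.isDefEq.respectTransparency false
set_option linter.style.haveILetI false
set_option linter.unusedSectionVars false

theorem isUnit_of_basicOpen_eq_top {S : Scheme.{u}} (s : Γ(S, ⊤)) (h : S.basicOpen s = ⊤) :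
    IsUnit s := by
  apply S.toRingedSpace.isUnit_of_isUnit_germ ⊤ s
  intro x hx
  have hx' : x ∈ S.basicOpen s := by rw [h]; trivial
  exact (S.mem_basicOpen_top s x).1 hx'

/-- a morphism landing in a basic open of an idempotent pulls the idempotent back to `1` -/
theorem appTop_idem_eq_one {S V : Scheme.{u}} (e : Γ(V, ⊤)) (he : IsIdempotentElem e)
    (a : S ⟶ V) (ha : Set.range a ⊆ (V.basicOpen e : Set V)) : a.appTop e = 1 := by
  have h1 : S.basicOpen (a.appTop e) = ⊤ := by
    rw [← Scheme.preimage_basicOpen_top]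
    ext x
    simp only [TopologicalSpace.Opens.coe_top, Set.mem_univ, iff_true]
    exact ha ⟨x, rfl⟩
  have hu := isUnit_of_basicOpen_eq_top _ h1
  have hid : IsIdempotentElem (a.appTop e) := he.map a.appTop.hom
  exact (IsIdempotentElem.iff_eq_one_of_isUnit hu).1 hid

theorem isOpenImmersion_basicOpen_ι_comp {V Z : Scheme.{u}} [IsAffine V] (φ : V ⟶ Z)
    [Etale φ] (e : Γ(V, ⊤)) (he : IsIdempotentElem e)
    (htest : ∀ (T : Type u) [CommRing T] (h₁ h₂ : Γ(V, ⊤) →+* T),
      h₁.comp φ.appTop.hom = h₂.comp φ.appTop.hom → ∀ c, h₁ e * h₂ e * (h₁ c - h₂ c) = 0) :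
    IsOpenImmersion ((V.basicOpen e).ι ≫ φ) := by
  have hmono : Mono ((V.basicOpen e).ι ≫ φ) := by
    constructor
    intro S a₁ a₂ h12
    rw [← cancel_mono (V.basicOpen e).ι]
    apply ext_of_isAffine
    have h1 : (a₁ ≫ (V.basicOpen e).ι).appTop e = 1 := by
      apply appTop_idem_eq_one e he
      rintro _ ⟨x, rfl⟩
      exact (a₁ x).2
    have h2 : (a₂ ≫ (V.basicOpen e).ι).appTop e = 1 := by
      apply appTop_idem_eq_one e he
      rintro _ ⟨x, rfl⟩
      exact (a₂ x).2
    have hcomp : (a₁ ≫ (V.basicOpen e).ι).appTop.hom.comp φ.appTop.hom =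
        (a₂ ≫ (V.basicOpen e).ι).appTop.hom.comp φ.appTop.hom := by
      have := congrArg (fun k => k.appTop.hom) h12
      simpa [Scheme.Hom.comp_appTop] using this
    ext c
    have := htest _ _ _ hcomp c
    rw [h1, h2, one_mul, one_mul, sub_eq_zero] at this
    exact this
  have : Flat ((V.basicOpen e).ι ≫ φ) := inferInstance
  have : LocallyOfFinitePresentation ((V.basicOpen e).ι ≫ φ) := inferInstance
  exact IsOpenImmersion.of_flat_of_mono _



theorem isIntegrallyClosed_top_of_stalks {X : Scheme.{u}} [IsAffine X] [IsIntegral X]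
    (hN : ∀ x : X, IsIntegrallyClosed (X.presheaf.stalk x)) : IsIntegrallyClosed Γ(X, ⊤) := by
  apply IsIntegrallyClosed.of_localization_maximal
  intro p _ hp
  have hU := isAffineOpen_top X
  let y : PrimeSpectrum Γ(X, ⊤) := ⟨p, hp.isPrime⟩
  letI := TopCat.Presheaf.algebra_section_stalk X.presheaf
    (⟨hU.fromSpec y, trivial⟩ : (⊤ : X.Opens))
  have hloc : IsLocalization.AtPrime (X.presheaf.stalk (hU.fromSpec y)) p :=
    hU.isLocalization_stalk' y trivial
  have := hN (hU.fromSpec y)
  let eqv : X.presheaf.stalk (hU.fromSpec y) ≃ₐ[Γ(X, ⊤)] Localization.AtPrime p :=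
    IsLocalization.algEquiv p.primeCompl _ _
  exact IsIntegrallyClosed.of_equiv eqv.toRingEquiv



open scoped Function in
/-- complete orthogonal idempotents on an affine scheme whose basic opens map by open immersions
give a decomposition as coproduct of opens of the target -/
theorem exists_sigma_opens_iso {V Z : Scheme.{u}} [IsAffine V] (φ : V ⟶ Z)
    {I : Type u} [Fintype I] (e : I → Γ(V, ⊤)) (he : CompleteOrthogonalIdempotents e)
    (hoi : ∀ j, IsOpenImmersion ((V.basicOpen (e j)).ι ≫ φ)) :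
    ∃ (W : I → Z.Opens) (ε : (∐ fun k => (W k : Scheme.{u})) ≅ V),
      ∀ k, Sigma.ι (fun k => (W k : Scheme.{u})) k ≫ ε.hom ≫ φ = (W k).ι := by
  classical
  let f : ∀ j, (V.basicOpen (e j) : Scheme.{u}) ⟶ Z := fun j => (V.basicOpen (e j)).ι ≫ φ
  have : ∀ j, IsOpenImmersion (f j) := hoi
  let W : I → Z.Opens := fun j => (f j).opensRange
  have hr : ∀ j, Set.range (W j).ι = Set.range (f j) := by
    intro j
    rw [Scheme.Opens.range_ι]
    rfl
  let g : ∀ j, (W j : Scheme.{u}) ⟶ V := fun j =>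
    (IsOpenImmersion.isoOfRangeEq (W j).ι (f j) (hr j)).hom ≫ (V.basicOpen (e j)).ι
  have hgφ : ∀ j, g j ≫ φ = (W j).ι := by
    intro j
    show ((IsOpenImmersion.isoOfRangeEq (W j).ι (f j) (hr j)).hom ≫ (V.basicOpen (e j)).ι) ≫ φ = _
    rw [Category.assoc]
    exact IsOpenImmersion.isoOfRangeEq_hom_fac _ _ _
  have : ∀ j, IsOpenImmersion (g j) := fun j => inferInstance
  have hgr : ∀ j, (g j).opensRange = V.basicOpen (e j) := by
    intro j
    ext x
    show x ∈ Set.range (g j) ↔ x ∈ V.basicOpen (e j)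
    have : Set.range (g j) = Set.range (V.basicOpen (e j)).ι := by
      show Set.range ((IsOpenImmersion.isoOfRangeEq (W j).ι (f j) (hr j)).hom ≫
        (V.basicOpen (e j)).ι) = _
      rw [Scheme.Hom.comp_base, TopCat.coe_comp, Set.range_comp]
      have hsurj : Function.Surjective (IsOpenImmersion.isoOfRangeEq (W j).ι (f j) (hr j)).hom :=
        (IsOpenImmersion.isoOfRangeEq (W j).ι (f j) (hr j)).hom.surjective
      rw [hsurj.range_eq, Set.image_univ]
    rw [this, Scheme.Opens.range_ι]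
    rfl
  have hcov : ⨆ j, (g j).opensRange = ⊤ := by
    simp_rw [hgr]
    have h1 : Ideal.span (Set.range e) = ⊤ := by
      rw [Ideal.eq_top_iff_one, ← he.complete]
      exact Ideal.sum_mem _ fun j _ => Ideal.subset_span ⟨j, rfl⟩
    have h2 := (isAffineOpen_top V).iSup_basicOpen_eq_self_iff.2 h1
    rw [eq_top_iff]
    refine h2.ge.trans ?_
    apply iSup_le
    rintro ⟨_, j, rfl⟩
    exact le_iSup (fun j => V.basicOpen (e j)) j
  have hdisj : Pairwise (Disjoint on (g · |>.opensRange)) := by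
    intro i j hij
    show Disjoint (g i).opensRange (g j).opensRange
    rw [hgr, hgr, disjoint_iff, ← Scheme.basicOpen_mul, he.ortho hij, Scheme.basicOpen_zero]
  obtain ⟨hc⟩ := nonempty_isColimit_cofanMk_of g hcov hdisj
  let ε : (∐ fun k => (W k : Scheme.{u})) ≅ V :=
    (colimit.isColimit _).coconePointUniqueUpToIso hc
  refine ⟨W, ε, fun k => ?_⟩
  have h1 : Sigma.ι (fun k => (W k : Scheme.{u})) k ≫ ε.hom = g k :=
    (colimit.isColimit _).comp_coconePointUniqueUpToIso_hom hc ⟨k⟩
  rw [← Category.assoc, h1, hgφ]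


theorem normal_sepClosed_split {V Z X : Scheme.{u}} [IsAffine X] [IsIntegral X]
    (hN : ∀ x : X, IsIntegrallyClosed (X.presheaf.stalk x)) [IsSepClosed X.functionField]
    (i : Z ⟶ X) [IsClosedImmersion i] (φ : V ⟶ Z) [Etale φ] [IsAffine V] :
    ∃ (ι : Type u) (_ : Fintype ι) (e : ι → Γ(V, ⊤)) (W : ι → Z.Opens)
      (ε : (∐ fun k => (W k : Scheme.{u})) ≅ V), CompleteOrthogonalIdempotents e ∧
      (∀ k, Sigma.ι (fun k => (W k : Scheme.{u})) k ≫ ε.hom ≫ φ = (W k).ι) := by
  obtain ⟨hZ, hsurj⟩ := IsClosedImmersion.isAffine_surjective_of_isAffine (f := i)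
  have hic : IsIntegrallyClosed Γ(X, ⊤) := isIntegrallyClosed_top_of_stalks hN
  haveI hne : Nonempty (⊤ : X.Opens) := ⟨⟨Nonempty.some inferInstance, trivial⟩⟩
  have hfr : IsFractionRing Γ(X, ⊤) X.functionField :=
    functionField_isFractionRing_of_isAffineOpen X ⊤ (isAffineOpen_top X)
  have hf : φ.appTop.hom.Etale := HasRingHomProperty.appTop (P := @Etale) φ inferInstance
  obtain ⟨I, hI, e, he, htest⟩ :=
    quotient_normal_etale_test X.functionField i.appTop.hom hsurj φ.appTop.hom hf
  have hoi : ∀ j, IsOpenImmersion ((V.basicOpen (e j)).ι ≫ φ) := fun j =>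
    isOpenImmersion_basicOpen_ι_comp φ (e j) (he.idem j)
      (fun T _ h₁ h₂ h c => htest T h₁ h₂ h j c)
  obtain ⟨W, ε, hε⟩ := exists_sigma_opens_iso φ e he hoi
  exact ⟨I, hI, e, W, ε, he, hε⟩

end H9FE
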