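import Mathlib
import Groth.Agent.Lib.Helper9.FE.NormalSplitSch

/-! helper9: separated étale schemes over a normal integral scheme with separably closed function
field are disjoint unions of opens of the base. -/

universe u
open CategoryTheory CategoryTheory.Limits AlgebraicGeometry Opposite

namespace H9FE
set_option backward.isDefEq.respectTransparency false
set_option linter.style.haveILetI false
set_option linter.unusedSectionVars false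

theorem isIntegrallyClosed_of_isAffineOpen_of_stalks {X : Scheme.{u}} [IsIntegral X]
    (hN : ∀ x : X, IsIntegrallyClosed (X.presheaf.stalk x)) (X₀ : X.Opens)
    (hX₀ : IsAffineOpen X₀) [Nonempty X₀] : IsIntegrallyClosed Γ(X, X₀) := by
  apply IsIntegrallyClosed.of_localization_maximal
  intro p _ hp
  let y : PrimeSpectrum Γ(X, X₀) := ⟨p, hp.isPrime⟩
  have hy : hX₀.fromSpec y ∈ X₀ := by
    have : hX₀.fromSpec y ∈ Set.range hX₀.fromSpec := ⟨y, rfl⟩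
    rwa [hX₀.range_fromSpec] at this
  letI := TopCat.Presheaf.algebra_section_stalk X.presheaf
    (⟨hX₀.fromSpec y, hy⟩ : X₀)
  have hloc : IsLocalization.AtPrime (X.presheaf.stalk (hX₀.fromSpec y)) p :=
    hX₀.isLocalization_stalk' y hy
  have := hN (hX₀.fromSpec y)
  let eqv : X.presheaf.stalk (hX₀.fromSpec y) ≃ₐ[Γ(X, X₀)] Localization.AtPrime p :=
    IsLocalization.algEquiv p.primeCompl _ _
  exact IsIntegrallyClosed.of_equiv eqv.toRingEquiv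

/-- local structure: an étale map to a normal integral scheme with separably closed function field
is locally on the source an open immersion -/
theorem exists_opens_isOpenImmersion {U X : Scheme.{u}} [IsIntegral X]
    (hN : ∀ x : X, IsIntegrallyClosed (X.presheaf.stalk x)) [IsSepClosed X.functionField]
    (g : U ⟶ X) [Etale g] (u : U) :
    ∃ N : U.Opens, u ∈ N ∧ IsOpenImmersion (N.ι ≫ g) := by
  obtain ⟨X₀, hX₀, hxX₀, -⟩ := exists_isAffineOpen_mem_and_subset (x := g u) (U := ⊤) trivial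
  obtain ⟨U₀, hU₀, huU₀, hle⟩ := exists_isAffineOpen_mem_and_subset (x := u)
    (U := g ⁻¹ᵁ X₀) hxX₀
  have hle' : U₀ ≤ g ⁻¹ᵁ X₀ := hle
  haveI : Nonempty X₀ := ⟨⟨g u, hxX₀⟩⟩
  let φ : (U₀ : Scheme.{u}) ⟶ (X₀ : Scheme.{u}) := g.resLE X₀ U₀ hle'
  have hφι : φ ≫ X₀.ι = U₀.ι ≫ g := Scheme.Hom.resLE_comp_ι _ _
  have hφ : Etale φ := by
    have h1 : Etale (φ ≫ X₀.ι) := by rw [hφι]; infer_instance
    exact Etale.of_comp φ X₀.ι
  haveI : IsAffine (U₀ : Scheme.{u}) := hU₀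
  haveI : IsAffine (X₀ : Scheme.{u}) := hX₀
  have hic : IsIntegrallyClosed Γ(X, X₀) := isIntegrallyClosed_of_isAffineOpen_of_stalks hN X₀ hX₀
  have hfr : IsFractionRing Γ(X, X₀) X.functionField :=
    functionField_isFractionRing_of_isAffineOpen X X₀ hX₀
  have hf : φ.appTop.hom.Etale := HasRingHomProperty.appTop (P := @Etale) φ hφ
  have hπ : Function.Surjective (X₀.topIso.inv.hom) := by
    intro b
    refine ⟨X₀.topIso.hom.hom b, ?_⟩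
    have := congrArg (fun k => k.hom b) X₀.topIso.hom_inv_id
    exact this
  obtain ⟨I, hI, e, he, htest⟩ :=
    quotient_normal_etale_test X.functionField (X₀.topIso.inv.hom) hπ φ.appTop.hom hf
  have hoi : ∀ j, IsOpenImmersion (((U₀ : Scheme.{u}).basicOpen (e j)).ι ≫ φ) := fun j =>
    isOpenImmersion_basicOpen_ι_comp φ (e j) (he.idem j)
      (fun T _ h₁ h₂ h c => htest T h₁ h₂ h j c)
  have hcov : ⨆ j, (U₀ : Scheme.{u}).basicOpen (e j) = ⊤ := by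
    have h1 : Ideal.span (Set.range e) = ⊤ := by
      rw [Ideal.eq_top_iff_one, ← he.complete]
      exact Ideal.sum_mem _ fun j _ => Ideal.subset_span ⟨j, rfl⟩
    have h2 := (isAffineOpen_top (U₀ : Scheme.{u})).iSup_basicOpen_eq_self_iff.2 h1
    rw [eq_top_iff]
    refine h2.ge.trans ?_
    apply iSup_le
    rintro ⟨_, j, rfl⟩
    exact le_iSup (fun j => (U₀ : Scheme.{u}).basicOpen (e j)) j
  have hu₀ : (⟨u, huU₀⟩ : U₀) ∈ ⨆ j, (U₀ : Scheme.{u}).basicOpen (e j) := by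
    rw [hcov]; trivial
  obtain ⟨j, hj⟩ := TopologicalSpace.Opens.mem_iSup.1 hu₀
  refine ⟨U₀.ι ''ᵁ ((U₀ : Scheme.{u}).basicOpen (e j)), ⟨⟨u, huU₀⟩, hj, rfl⟩, ?_⟩
  have heq : (U₀.ι ''ᵁ ((U₀ : Scheme.{u}).basicOpen (e j))).ι ≫ g =
      (U₀.ι.isoImage ((U₀ : Scheme.{u}).basicOpen (e j))).inv ≫
        (((U₀ : Scheme.{u}).basicOpen (e j)).ι ≫ φ) ≫ X₀.ι := by
    have h1 : (U₀.ι ''ᵁ ((U₀ : Scheme.{u}).basicOpen (e j))).ι =
        (U₀.ι.isoImage ((U₀ : Scheme.{u}).basicOpen (e j))).inv ≫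
          ((U₀ : Scheme.{u}).basicOpen (e j)).ι ≫ U₀.ι := by
      rw [Iso.eq_inv_comp]
      exact Scheme.Hom.isoImage_hom_ι _ _
    rw [h1, Category.assoc, Category.assoc, Category.assoc, hφι]
  rw [heq]
  have := hoi j
  infer_instance

/-- injectivity of `g` on the union of two "good" opens sharing a point over the generic point -/
theorem eq_of_good_of_generic {U X : Scheme.{u}} [IsIntegral X] (g : U ⟶ X) [IsSeparated g]
    (N₁ N₂ : U.Opens) (h₁ : IsOpenImmersion (N₁.ι ≫ g)) (h₂ : IsOpenImmersion (N₂.ι ≫ g))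
    (ξ : U) (hξ₁ : ξ ∈ N₁) (hξ₂ : ξ ∈ N₂)
    (u₁ u₂ : U) (hu₁ : u₁ ∈ N₁) (hu₂ : u₂ ∈ N₂) (hu : g u₁ = g u₂) : u₁ = u₂ := by
  let j₁ := N₁.ι ≫ g
  let j₂ := N₂.ι ≫ g
  let W : X.Opens := j₁.opensRange ⊓ j₂.opensRange
  have hW₁ : Set.range W.ι ⊆ Set.range j₁ := by
    rw [Scheme.Opens.range_ι]; exact fun x hx => hx.1
  have hW₂ : Set.range W.ι ⊆ Set.range j₂ := by
    rw [Scheme.Opens.range_ι]; exact fun x hx => hx.2
  let l₁ : (W : Scheme.{u}) ⟶ (N₁ : Scheme.{u}) := IsOpenImmersion.lift j₁ W.ι hW₁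
  let l₂ : (W : Scheme.{u}) ⟶ (N₂ : Scheme.{u}) := IsOpenImmersion.lift j₂ W.ι hW₂
  have hl₁ : l₁ ≫ j₁ = W.ι := IsOpenImmersion.lift_fac _ _ _
  have hl₂ : l₂ ≫ j₂ = W.ι := IsOpenImmersion.lift_fac _ _ _
  let s₁ : (W : Scheme.{u}) ⟶ U := l₁ ≫ N₁.ι
  let s₂ : (W : Scheme.{u}) ⟶ U := l₂ ≫ N₂.ι
  have hs₁ : s₁ ≫ g = W.ι := by rw [Category.assoc]; exact hl₁
  have hs₂ : s₂ ≫ g = W.ι := by rw [Category.assoc]; exact hl₂
  -- pointwise description of `s₁`, `s₂`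
  have hpt₁ : ∀ (n : U) (hn : n ∈ N₁) (hw : g n ∈ W), s₁ ⟨g n, hw⟩ = n := by
    intro n hn hw
    have h1 : j₁ (l₁ ⟨g n, hw⟩) = j₁ ⟨n, hn⟩ := by
      have := congrArg (fun k => k ⟨g n, hw⟩) hl₁
      exact this
    have h2 := j₁.injective h1
    show N₁.ι (l₁ ⟨g n, hw⟩) = n
    rw [h2]; rfl
  have hpt₂ : ∀ (n : U) (hn : n ∈ N₂) (hw : g n ∈ W), s₂ ⟨g n, hw⟩ = n := by
    intro n hn hw
    have h1 : j₂ (l₂ ⟨g n, hw⟩) = j₂ ⟨n, hn⟩ := by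
      have := congrArg (fun k => k ⟨g n, hw⟩) hl₂
      exact this
    have h2 := j₂.injective h1
    show N₂.ι (l₂ ⟨g n, hw⟩) = n
    rw [h2]; rfl
  have hWu : g u₁ ∈ W := ⟨⟨⟨u₁, hu₁⟩, rfl⟩, ⟨⟨u₂, hu₂⟩, hu.symm⟩⟩
  have hWξ : g ξ ∈ W := ⟨⟨⟨ξ, hξ₁⟩, rfl⟩, ⟨⟨ξ, hξ₂⟩, rfl⟩⟩
  haveI : Nonempty W := ⟨⟨g ξ, hWξ⟩⟩
  -- the open where `s₁` lands in `N₂`
  let D : (W : Scheme.{u}).Opens := s₁ ⁻¹ᵁ N₂
  have hDξ : (⟨g ξ, hWξ⟩ : W) ∈ D := by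
    show s₁ ⟨g ξ, hWξ⟩ ∈ N₂
    rw [hpt₁ ξ hξ₁ hWξ]; exact hξ₂
  have hDr : Set.range (D.ι ≫ s₁) ⊆ Set.range N₂.ι := by
    rintro _ ⟨d, rfl⟩
    rw [Scheme.Opens.range_ι]
    exact d.2
  let k : (D : Scheme.{u}) ⟶ (N₂ : Scheme.{u}) := IsOpenImmersion.lift N₂.ι (D.ι ≫ s₁) hDr
  have hk : k ≫ N₂.ι = D.ι ≫ s₁ := IsOpenImmersion.lift_fac _ _ _
  have hkl : k = D.ι ≫ l₂ := by
    rw [← cancel_mono j₂]
    show k ≫ N₂.ι ≫ g = (D.ι ≫ l₂) ≫ j₂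
    rw [← Category.assoc, hk, Category.assoc, hs₁, Category.assoc, hl₂]
  have hD : D.ι ≫ s₁ = D.ι ≫ s₂ := by
    rw [← hk, hkl, Category.assoc]
  haveI : IsDominant D.ι := by
    constructor
    rw [DenseRange, Scheme.Opens.range_ι]
    exact D.isOpen.dense ⟨_, hDξ⟩
  have hss : s₁ = s₂ :=
    ext_of_isDominant_of_isSeparated g (by rw [hs₁, hs₂]) D.ι hD
  have e1 := hpt₁ u₁ hu₁ hWu
  have hWu' : g u₂ ∈ W := hu ▸ hWu
  have e2 := hpt₂ u₂ hu₂ hWu'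
  have e3 : (⟨g u₁, hWu⟩ : W) = ⟨g u₂, hWu'⟩ := Subtype.ext hu
  rw [← e1, ← e2, hss, e3]

open scoped Function in
theorem exists_sigma_opens_iso_of_opens {U X : Scheme.{u}} (g : U ⟶ X) {ι : Type u}
    (V' : ι → U.Opens) (hoi : ∀ i, IsOpenImmersion ((V' i).ι ≫ g))
    (hcov : ∀ u : U, ∃ i, u ∈ V' i) (hdisj : ∀ i j, i ≠ j → Disjoint (V' i) (V' j)) :
    ∃ (V : ι → X.Opens) (e : (∐ fun i => (V i : Scheme.{u})) ≅ U),
      ∀ i, Sigma.ι (fun i => (V i : Scheme.{u})) i ≫ e.hom ≫ g = (V i).ι := by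
  classical
  let f : ∀ j, (V' j : Scheme.{u}) ⟶ X := fun j => (V' j).ι ≫ g
  have : ∀ j, IsOpenImmersion (f j) := hoi
  let W : ι → X.Opens := fun j => (f j).opensRange
  have hr : ∀ j, Set.range (W j).ι = Set.range (f j) := by
    intro j
    rw [Scheme.Opens.range_ι]
    rfl
  let k : ∀ j, (W j : Scheme.{u}) ⟶ U := fun j =>
    (IsOpenImmersion.isoOfRangeEq (W j).ι (f j) (hr j)).hom ≫ (V' j).ι
  have hkg : ∀ j, k j ≫ g = (W j).ι := by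
    intro j
    show ((IsOpenImmersion.isoOfRangeEq (W j).ι (f j) (hr j)).hom ≫ (V' j).ι) ≫ g = _
    rw [Category.assoc]
    exact IsOpenImmersion.isoOfRangeEq_hom_fac _ _ _
  have : ∀ j, IsOpenImmersion (k j) := fun j => inferInstance
  have hkr : ∀ j, (k j).opensRange = V' j := by
    intro j
    ext x
    show x ∈ Set.range (k j) ↔ x ∈ V' j
    have : Set.range (k j) = Set.range (V' j).ι := by
      show Set.range ((IsOpenImmersion.isoOfRangeEq (W j).ι (f j) (hr j)).hom ≫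
        (V' j).ι) = _
      rw [Scheme.Hom.comp_base, TopCat.coe_comp, Set.range_comp]
      have hsurj : Function.Surjective (IsOpenImmersion.isoOfRangeEq (W j).ι (f j) (hr j)).hom :=
        (IsOpenImmersion.isoOfRangeEq (W j).ι (f j) (hr j)).hom.surjective
      rw [hsurj.range_eq, Set.image_univ]
    rw [this, Scheme.Opens.range_ι]
    rfl
  have hcov' : ⨆ j, (k j).opensRange = ⊤ := by
    simp_rw [hkr]
    rw [eq_top_iff]
    intro u _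
    obtain ⟨i, hi⟩ := hcov u
    exact TopologicalSpace.Opens.mem_iSup.2 ⟨i, hi⟩
  have hdisj' : Pairwise (Disjoint on (k · |>.opensRange)) := by
    intro i j hij
    show Disjoint (k i).opensRange (k j).opensRange
    rw [hkr, hkr]
    exact hdisj i j hij
  obtain ⟨hc⟩ := nonempty_isColimit_cofanMk_of k hcov' hdisj'
  let ε : (∐ fun i => (W i : Scheme.{u})) ≅ U :=
    (colimit.isColimit _).coconePointUniqueUpToIso hc
  refine ⟨W, ε, fun i => ?_⟩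
  have h1 : Sigma.ι (fun i => (W i : Scheme.{u})) i ≫ ε.hom = k i :=
    (colimit.isColimit _).comp_coconePointUniqueUpToIso_hom hc ⟨i⟩
  rw [← Category.assoc, h1, hkg]

theorem exists_sigma_opens_iso_of_local {U X : Scheme.{u}} [IsIntegral X] (g : U ⟶ X) [Etale g]
    [IsSeparated g]
    (hloc : ∀ u : U, ∃ N : U.Opens, u ∈ N ∧ IsOpenImmersion (N.ι ≫ g)) :
    ∃ (ι : Type u) (V : ι → X.Opens) (e : (∐ fun i => (V i : Scheme.{u})) ≅ U),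
      ∀ i, Sigma.ι (fun i => (V i : Scheme.{u})) i ≫ e.hom ≫ g = (V i).ι := by
  classical
  let η := genericPoint X
  have hη : ∀ O : X.Opens, (O : Set X).Nonempty → η ∈ O := by
    intro O hO
    have := (genericPoint_spec X).mem_open_set_iff O.isOpen
    exact this.2 (by simpa using hO)
  -- F1'
  have F1' : ∀ N : U.Opens, IsOpenImmersion (N.ι ≫ g) → ∀ ξ ξ' : U, ξ ∈ N → ξ' ∈ N →
      g ξ = g ξ' → ξ = ξ' := by
    intro N hN ξ ξ' h h' hg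
    have : (N.ι ≫ g) ⟨ξ, h⟩ = (N.ι ≫ g) ⟨ξ', h'⟩ := hg
    have := (N.ι ≫ g).injective this
    exact congrArg Subtype.val this
  -- F2
  have F2 : ∀ N : U.Opens, IsOpenImmersion (N.ι ≫ g) → ∀ ξ : U, ξ ∈ N → g ξ = η →
      ∀ M : U.Opens, (∃ m, m ∈ M ∧ m ∈ N) → ξ ∈ M := by
    intro N hN ξ hξ hgξ M ⟨m, hmM, hmN⟩
    let O : X.Opens := (N.ι ≫ g) ''ᵁ (N.ι ⁻¹ᵁ M)
    have hO : (O : Set X).Nonempty := ⟨g m, ⟨⟨m, hmN⟩, hmM, rfl⟩⟩
    obtain ⟨n, hnM, hn⟩ := hη O hO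
    have : n.1 = ξ := F1' N hN n.1 ξ n.2 hξ (by rw [hgξ]; exact hn)
    rw [← this]
    exact hnM
  -- F1
  have F1 : ∀ N : U.Opens, IsOpenImmersion (N.ι ≫ g) → ∀ n : U, n ∈ N → ∃ ξ, ξ ∈ N ∧ g ξ = η := by
    intro N hN n hn
    have hO : ((N.ι ≫ g).opensRange : Set X).Nonempty := ⟨g n, ⟨⟨n, hn⟩, rfl⟩⟩
    obtain ⟨ξ, hξ⟩ := hη _ hO
    exact ⟨ξ.1, ξ.2, hξ⟩
  let ι : Type u := {ξ : U // g ξ = η}
  let V' : ι → U.Opens := fun ξ =>
    ⨆ N : {N : U.Opens // IsOpenImmersion (N.ι ≫ g) ∧ ξ.1 ∈ N}, N.1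
  have hmem : ∀ (ξ : ι) (u : U), u ∈ V' ξ ↔
      ∃ N : U.Opens, IsOpenImmersion (N.ι ≫ g) ∧ ξ.1 ∈ N ∧ u ∈ N := by
    intro ξ u
    constructor
    · intro h
      obtain ⟨⟨N, hN, hξ⟩, hu⟩ := TopologicalSpace.Opens.mem_iSup.1 h
      exact ⟨N, hN, hξ, hu⟩
    · rintro ⟨N, hN, hξ, hu⟩
      exact TopologicalSpace.Opens.mem_iSup.2 ⟨⟨N, hN, hξ⟩, hu⟩
  have hinj : ∀ (ξ : ι) (u₁ u₂ : U), u₁ ∈ V' ξ → u₂ ∈ V' ξ → g u₁ = g u₂ → u₁ = u₂ := by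
    intro ξ u₁ u₂ h₁ h₂ hg
    obtain ⟨N₁, hN₁, hξ₁, hu₁⟩ := (hmem ξ u₁).1 h₁
    obtain ⟨N₂, hN₂, hξ₂, hu₂⟩ := (hmem ξ u₂).1 h₂
    exact eq_of_good_of_generic g N₁ N₂ hN₁ hN₂ ξ.1 hξ₁ hξ₂ u₁ u₂ hu₁ hu₂ hg
  have hmono : ∀ ξ : ι, Mono ((V' ξ).ι ≫ g) := by
    intro ξ
    constructor
    intro T b₁ b₂ hb
    rw [← cancel_mono (V' ξ).ι]
    apply Scheme.hom_ext_of_forall
    intro t
    have hpt : ∀ t : T, (b₁ ≫ (V' ξ).ι) t = (b₂ ≫ (V' ξ).ι) t := by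
      intro t
      apply hinj ξ _ _ (b₁ t).2 (b₂ t).2
      have := congrArg (fun k => k t) hb
      exact this
    obtain ⟨N, hN, hξ, hu⟩ := (hmem ξ _).1 (b₁ t).2
    let T' : T.Opens := (b₁ ≫ (V' ξ).ι) ⁻¹ᵁ N
    have htT' : t ∈ T' := hu
    refine ⟨T', htT', ?_⟩
    have hr₁ : Set.range (T'.ι ≫ b₁ ≫ (V' ξ).ι) ⊆ Set.range N.ι := by
      rintro _ ⟨d, rfl⟩
      rw [Scheme.Opens.range_ι]
      exact d.2
    have hr₂ : Set.range (T'.ι ≫ b₂ ≫ (V' ξ).ι) ⊆ Set.range N.ι := by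
      rintro _ ⟨d, rfl⟩
      rw [Scheme.Opens.range_ι]
      show (b₂ ≫ (V' ξ).ι) d.1 ∈ N
      rw [← hpt d.1]
      exact d.2
    let k₁ := IsOpenImmersion.lift N.ι _ hr₁
    let k₂ := IsOpenImmersion.lift N.ι _ hr₂
    have e₁ : k₁ ≫ N.ι = T'.ι ≫ b₁ ≫ (V' ξ).ι := IsOpenImmersion.lift_fac N.ι _ hr₁
    have e₂ : k₂ ≫ N.ι = T'.ι ≫ b₂ ≫ (V' ξ).ι := IsOpenImmersion.lift_fac N.ι _ hr₂
    have hk : k₁ = k₂ := by
      rw [← cancel_mono (N.ι ≫ g)]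
      calc k₁ ≫ N.ι ≫ g = (k₁ ≫ N.ι) ≫ g := (Category.assoc _ _ _).symm
        _ = (T'.ι ≫ b₁ ≫ (V' ξ).ι) ≫ g := by rw [e₁]
        _ = T'.ι ≫ (b₁ ≫ (V' ξ).ι ≫ g) := by simp only [Category.assoc]
        _ = T'.ι ≫ (b₂ ≫ (V' ξ).ι ≫ g) := by rw [hb]
        _ = (T'.ι ≫ b₂ ≫ (V' ξ).ι) ≫ g := by simp only [Category.assoc]
        _ = (k₂ ≫ N.ι) ≫ g := by rw [e₂]
        _ = k₂ ≫ N.ι ≫ g := Category.assoc _ _ _
    exact e₁.symm.trans ((congrArg (· ≫ N.ι) hk).trans e₂)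
  have hoi : ∀ ξ : ι, IsOpenImmersion ((V' ξ).ι ≫ g) := by
    intro ξ
    have := hmono ξ
    exact IsOpenImmersion.of_flat_of_mono _
  have hcov : ∀ u : U, ∃ ξ : ι, u ∈ V' ξ := by
    intro u
    obtain ⟨N, huN, hN⟩ := hloc u
    obtain ⟨ξ, hξN, hξ⟩ := F1 N hN u huN
    exact ⟨⟨ξ, hξ⟩, (hmem _ u).2 ⟨N, hN, hξN, huN⟩⟩
  have hdisj : ∀ ξ ξ' : ι, ξ ≠ ξ' → Disjoint (V' ξ) (V' ξ') := by
    intro ξ ξ' hne
    rw [disjoint_iff]
    ext u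
    simp only [TopologicalSpace.Opens.coe_inf, Set.mem_inter_iff, SetLike.mem_coe,
      TopologicalSpace.Opens.coe_bot, Set.mem_empty_iff_false, iff_false, not_and]
    intro h h'
    obtain ⟨N, hN, hξ, hu⟩ := (hmem ξ u).1 h
    obtain ⟨N', hN', hξ', hu'⟩ := (hmem ξ' u).1 h'
    have h1 : ξ.1 ∈ N' := F2 N hN ξ.1 hξ ξ.2 N' ⟨u, hu', hu⟩
    have h2 : ξ.1 = ξ'.1 := F1' N' hN' ξ.1 ξ'.1 h1 hξ' (by rw [ξ.2, ξ'.2])
    exact hne (Subtype.ext h2)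
  obtain ⟨V, e, he⟩ := exists_sigma_opens_iso_of_opens g V' hoi hcov hdisj
  exact ⟨ι, V, e, he⟩


theorem normal_sepClosed_separated_etale_split {U X : Scheme.{u}} [IsIntegral X]
    (hN : ∀ x : X, IsIntegrallyClosed (X.presheaf.stalk x)) [IsSepClosed X.functionField]
    (g : U ⟶ X) [Etale g] [IsSeparated g] :
    ∃ (ι : Type u) (V : ι → X.Opens) (e : (∐ fun i => (V i : Scheme.{u})) ≅ U),
      ∀ i, Sigma.ι (fun i => (V i : Scheme.{u})) i ≫ e.hom ≫ g = (V i).ι :=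
  exists_sigma_opens_iso_of_local g (exists_opens_isOpenImmersion hN g)

end H9FE
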