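import Mathlib
import Groth.Agent.Lib.Helper9.FE.NormalSplitGlob
import Groth.Agent.Lib.Helper9.FE.NormalIrred

/-! helper9: étale schemes over a normal integral scheme are locally irreducible. -/

universe u
open CategoryTheory CategoryTheory.Limits AlgebraicGeometry Opposite

namespace H9FE
namespace NormalIrredSch

set_option backward.isDefEq.respectTransparency false
set_option linter.style.haveILetI false
set_option linter.unusedSectionVars false

theorem isPreirreducible_basicOpen {C : Type*} [CommRing C] (e : C)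
    (hp : ∀ x y : C, x * y * e = 0 → x * e = 0 ∨ y * e = 0) :
    IsPreirreducible (PrimeSpectrum.basicOpen e : Set (PrimeSpectrum C)) := by
  by_cases h0 : e = 0
  · subst h0
    simp [isPreirreducible_empty]
  · let P : Ideal C :=
      { carrier := {x | x * e = 0}
        add_mem' := fun {a b} ha hb => by
          simp only [Set.mem_ofPred_eq] at ha hb ⊢
          rw [add_mul, ha, hb, add_zero]
        zero_mem' := by simp
        smul_mem' := fun c x hx => by
          simp only [Set.mem_ofPred_eq, smul_eq_mul] at hx ⊢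
          rw [mul_assoc, hx, mul_zero] }
    have hP : P.IsPrime := by
      refine ⟨?_, ?_⟩
      · intro h
        have : (1 : C) ∈ P := by rw [h]; trivial
        have h1 : (1 : C) * e = 0 := this
        rw [one_mul] at h1
        exact h0 h1
      · intro x y hxy
        exact hp x y hxy
    let p : PrimeSpectrum C := ⟨P, hP⟩
    have hsub : (PrimeSpectrum.basicOpen e : Set (PrimeSpectrum C)) ⊆ closure {p} := by
      intro q hq
      rw [← specializes_iff_mem_closure, ← PrimeSpectrum.le_iff_specializes]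
      intro x hx
      have h1 : x * e ∈ q.asIdeal := by
        have : x * e = 0 := hx
        rw [this]; exact zero_mem _
      rcases q.isPrime.mem_or_mem h1 with h2 | h2
      · exact h2
      · exact absurd h2 hq
    exact (isPreirreducible_singleton.closure).open_subset (PrimeSpectrum.basicOpen e).isOpen hsub

theorem exists_irreducible_nhd {X : Scheme.{u}} [IsIntegral X]
    (hN : ∀ x : X, IsIntegrallyClosed (X.presheaf.stalk x)) {V : Scheme.{u}} (f : V ⟶ X) [Etale f]
    (v : V) : ∃ W : V.Opens, v ∈ W ∧ IsPreirreducible (W : Set V) := by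
  obtain ⟨X₀, hX₀, hxX₀, -⟩ := exists_isAffineOpen_mem_and_subset (x := f v) (U := ⊤) trivial
  obtain ⟨V₀, hV₀, hvV₀, hle⟩ := exists_isAffineOpen_mem_and_subset (x := v)
    (U := f ⁻¹ᵁ X₀) hxX₀
  haveI : Nonempty X₀ := ⟨⟨f v, hxX₀⟩⟩
  let ψ : Γ(X, X₀) ⟶ Γ(V, V₀) := f.appLE X₀ V₀ hle
  have hψet : ψ.hom.Etale :=
    HasRingHomProperty.appLE (P := @Etale) f inferInstance ⟨X₀, hX₀⟩ ⟨V₀, hV₀⟩ hle
  algebraize [ψ.hom]
  haveI : IsIntegrallyClosed Γ(X, X₀) := isIntegrallyClosed_of_isAffineOpen_of_stalks hN X₀ hX₀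
  obtain ⟨I, hI, e, he, hprime⟩ := NormalIrred.normal_etale_irred Γ(X, X₀) Γ(V, V₀)
  -- `v` lies in some `D(e i)`
  let q := hV₀.primeIdealOf ⟨v, hvV₀⟩
  have hq : hV₀.fromSpec q = v := hV₀.fromSpec_primeIdealOf ⟨v, hvV₀⟩
  have hex : ∃ i, e i ∉ q.asIdeal := by
    by_contra hcon
    push Not at hcon
    have h1 : (∑ i, e i) ∈ q.asIdeal := Ideal.sum_mem _ (fun i _ => hcon i)
    rw [he.complete] at h1
    exact q.isPrime.ne_top ((Ideal.eq_top_iff_one _).2 h1)
  obtain ⟨i, hi⟩ := hex
  refine ⟨V.basicOpen (e i), ?_, ?_⟩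
  · rw [← hq]
    change q ∈ hV₀.fromSpec ⁻¹ᵁ V.basicOpen (e i)
    rw [hV₀.fromSpec_preimage_basicOpen]
    exact hi
  · have h1 := isPreirreducible_basicOpen (e i) (hprime i)
    have h2 := h1.image hV₀.fromSpec hV₀.fromSpec.continuous.continuousOn
    have h3 := congrArg (fun O : V.Opens => (O : Set V)) (hV₀.fromSpec_image_basicOpen (e i))
    rw [← h3]
    exact h2

end NormalIrredSch
end H9FE
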