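import Mathlib
import Groth.Agent.Lib.Helper9.FE.NormalIrredSch

/-! helper9: generic fibres of étale maps from irreducible schemes; étale implies quasi-finite. -/

universe u
open CategoryTheory CategoryTheory.Limits AlgebraicGeometry Opposite

namespace H9FE
namespace NormalIrredSch

set_option backward.isDefEq.respectTransparency false
set_option linter.style.haveILetI false
set_option linter.unusedSectionVars false

theorem locallyQuasiFinite_of_etale {W X : Scheme.{u}} (f : W ⟶ X) [Etale f] :
    LocallyQuasiFinite f := by
  rw [HasRingHomProperty.iff_appLE (P := @LocallyQuasiFinite)]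
  intro U V e
  have h : (f.appLE U.1 V.1 e).hom.Etale :=
    HasRingHomProperty.appLE (P := @Etale) f inferInstance U V e
  algebraize [(f.appLE U.1 V.1 e).hom]
  show Algebra.QuasiFinite _ _
  infer_instance

/-- the generic fibre of an étale map from an irreducible scheme to an integral scheme has at
most one point -/
theorem generic_fibre_subsingleton {W X : Scheme.{u}} [IsIntegral X] [PreirreducibleSpace W]
    (f : W ⟶ X) [Etale f] (w w' : W) (hw : f w = genericPoint X) (hw' : f w' = genericPoint X) :
    w = w' := by
  haveI : IrreducibleSpace W := { toPreirreducibleSpace := inferInstance, toNonempty := ⟨w⟩ }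
  haveI := locallyQuasiFinite_of_etale f
  have hdisc := f.isDiscrete_preimage_singleton (genericPoint X)
  have key : ∀ z : W, f z = genericPoint X → genericPoint W = z := by
    intro z hz
    have h1 : genericPoint W ⤳ z := (genericPoint_spec W).specializes (Set.mem_univ z)
    have h2 : f (genericPoint W) ⤳ genericPoint X := hz ▸ h1.map f.continuous
    have h3 : genericPoint X ⤳ f (genericPoint W) :=
      (genericPoint_spec X).specializes (Set.mem_univ _)
    have h4 : f (genericPoint W) = genericPoint X := (h2.antisymm h3).eq
    exact hdisc.eq_of_specializes h1 h4 hz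
  rw [← key w hw, ← key w' hw']

theorem preirreducibleSpace_of_isOpenEmbedding {Z Z' : Type*} [TopologicalSpace Z]
    [TopologicalSpace Z'] (f : Z → Z') (hf : Topology.IsOpenEmbedding f) [PreirreducibleSpace Z'] :
    PreirreducibleSpace Z := by
  constructor
  have := (PreirreducibleSpace.isPreirreducible_univ (X := Z')).preimage hf
  simpa using this

/-- a nonempty étale scheme over an integral scheme has a point over the generic point -/
theorem exists_over_generic {V X : Scheme.{u}} [IsIntegral X] (f : V ⟶ X) [Etale f]
    [Nonempty V] : ∃ v : V, f v = genericPoint X := by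
  have ho : IsOpen (Set.range f) := f.isOpenMap.isOpen_range
  have hne : (Set.univ ∩ Set.range f).Nonempty := by
    obtain ⟨v⟩ := (inferInstance : Nonempty V)
    exact ⟨f v, trivial, v, rfl⟩
  have := ((genericPoint_spec X).mem_open_set_iff ho).2 hne
  exact this

end NormalIrredSch
end H9FE
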