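import Mathlib

/-! helper9: Olivier, part A.  Pure kernels of flat surjections and the valuation-ring
idempotent lemma (weakly étale algebras over a valuation ring contain the idempotents of
their generic fibre, in denominator-free form). -/

set_option autoImplicit false
set_option linter.style.haveILetI false

universe u

open TensorProduct

namespace H9FE.OlivA

/-- Elements of the kernel of a flat surjection are fixed by an element of the kernel. -/
theorem exists_mul_eq_of_flat_surjective {R C : Type*} [CommRing R] [CommRing C] (φ : R →+* C)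
    (hφ : φ.Flat) (hs : Function.Surjective φ) {x : R} (hx : φ x = 0) :
    ∃ γ : R, φ γ = 0 ∧ x = x * γ := by
  letI := φ.toAlgebra
  haveI : Module.Flat R C := hφ
  have hs' : Function.Surjective (Algebra.ofId R C) := hs
  let e : (R ⧸ RingHom.ker (Algebra.ofId R C)) ≃ₐ[R] C :=
    Ideal.quotientKerAlgEquivOfSurjective hs'
  haveI : Module.Flat R (R ⧸ RingHom.ker (Algebra.ofId R C)) :=
    Module.Flat.of_linearEquiv e.toLinearEquiv
  have hx' : x ∈ RingHom.ker (Algebra.ofId R C) := hx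
  obtain ⟨y, hy, h⟩ := Ideal.exists_eq_mul_of_pure hx'
  exact ⟨y, hy, h⟩

section V1

variable {V C : Type u} [CommRing V] [IsDomain V] [ValuationRing V] [CommRing C] [Algebra V C]
  [Module.Flat V C]

/-- **Valuation ring idempotent lemma.** Let `C` be a flat algebra over a valuation ring `V` whose
multiplication map `C ⊗[V] C → C` is flat.  If `b * b = s • b` with `s ≠ 0`, then `b = s • y`
for some `y`. -/
theorem exists_smul_eq (hfl : (Algebra.TensorProduct.lmul' V (S := C)).Flat)
    (b : C) (s : V) (hb : b * b = s • b) : ∃ y : C, b = s • y := by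
  classical
  set b' : C := s • (1 : C) - b with hb'
  have hbb' : b * b' = 0 := by
    rw [hb', mul_sub, hb, mul_smul_comm, mul_one, sub_self]
  let a0 : Ideal C := LinearMap.ker (LinearMap.mulLeft C b)
  let a1 : Ideal C := LinearMap.ker (LinearMap.mulLeft C b')
  have ha0 : ∀ x, x ∈ a0 ↔ b * x = 0 := fun x => Iff.rfl
  have ha1 : ∀ x, x ∈ a1 ↔ b' * x = 0 := fun x => Iff.rfl
  suffices h : (1 : C) ∈ a0 ⊔ a1 by
    obtain ⟨x, hx, y, hy, hxy⟩ := Submodule.mem_sup.mp h
    have hx0 : b * x = 0 := (ha0 x).mp hx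
    have hy0 : b' * y = 0 := (ha1 y).mp hy
    refine ⟨y, ?_⟩
    have h1 : b = b * y := by
      calc b = b * 1 := (mul_one b).symm
        _ = b * (x + y) := by rw [hxy]
        _ = b * y := by rw [mul_add, hx0, zero_add]
    have h2 : s • y = b * y := by
      have h3 : (s • (1 : C) - b) * y = 0 := hy0
      rw [sub_mul, smul_mul_assoc, one_mul, sub_eq_zero] at h3
      exact h3
    rw [h2]
    exact h1
  -- the two quotients
  let μ1 : (C ⧸ a0) →ₗ[V] C :=
    (Submodule.liftQ a0 (LinearMap.mulLeft C b) le_rfl).restrictScalars V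
  let μ0 : (C ⧸ a1) →ₗ[V] C :=
    (Submodule.liftQ a1 (LinearMap.mulLeft C b') le_rfl).restrictScalars V
  have hμ1 : Function.Injective μ1 := by
    have : LinearMap.ker (Submodule.liftQ a0 (LinearMap.mulLeft C b) le_rfl) = ⊥ :=
      Submodule.ker_liftQ_eq_bot _ _ _ le_rfl
    intro x y hxy
    exact (LinearMap.ker_eq_bot.mp this) hxy
  have hμ0 : Function.Injective μ0 := by
    have : LinearMap.ker (Submodule.liftQ a1 (LinearMap.mulLeft C b') le_rfl) = ⊥ :=
      Submodule.ker_liftQ_eq_bot _ _ _ le_rfl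
    intro x y hxy
    exact (LinearMap.ker_eq_bot.mp this) hxy
  have hμ1_mk : ∀ c : C, μ1 (Ideal.Quotient.mk a0 c) = b * c := fun c => rfl
  have hμ0_mk : ∀ c : C, μ0 (Ideal.Quotient.mk a1 c) = b' * c := fun c => rfl
  haveI : Module.IsTorsionFree V (C ⧸ a0) :=
    Function.Injective.moduleIsTorsionFree μ1 hμ1 (fun r m => map_smul μ1 r m)
  haveI : Module.IsTorsionFree V (C ⧸ a1) :=
    Function.Injective.moduleIsTorsionFree μ0 hμ0 (fun r m => map_smul μ0 r m)
  haveI : Module.Flat V (C ⧸ a0) :=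
    Module.Flat.flat_iff_torsion_eq_bot_of_isBezout.mpr
      (Submodule.isTorsionFree_iff_torsion_eq_bot.mp inferInstance)
  haveI : Module.Flat V (C ⧸ a1) :=
    Module.Flat.flat_iff_torsion_eq_bot_of_isBezout.mpr
      (Submodule.isTorsionFree_iff_torsion_eq_bot.mp inferInstance)
  let θ : (C ⧸ a0) ⊗[V] (C ⧸ a1) →ₗ[V] C ⊗[V] C := TensorProduct.map μ1 μ0
  have hθ : Function.Injective θ := by
    have h1 : θ = (μ1.rTensor C) ∘ₗ (μ0.lTensor (C ⧸ a0)) := by
      rw [LinearMap.rTensor_comp_lTensor]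
    rw [h1]
    exact (Module.Flat.rTensor_preserves_injective_linearMap (M := C) μ1 hμ1).comp
      (Module.Flat.lTensor_preserves_injective_linearMap (M := C ⧸ a0) μ0 hμ0)
  let π : C ⊗[V] C →ₐ[V] (C ⧸ a0) ⊗[V] (C ⧸ a1) :=
    Algebra.TensorProduct.map (Ideal.Quotient.mkₐ V a0) (Ideal.Quotient.mkₐ V a1)
  have hθπ : ∀ r : C ⊗[V] C, θ (π r) = r * (b ⊗ₜ[V] b') := by
    intro r
    induction r using TensorProduct.induction_on with
    | zero => simp
    | tmul c c' =>
      have : π (c ⊗ₜ[V] c') = (Ideal.Quotient.mk a0 c) ⊗ₜ[V] (Ideal.Quotient.mk a1 c') := rfl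
      rw [this]
      change μ1 _ ⊗ₜ[V] μ0 _ = _
      rw [hμ1_mk, hμ0_mk, Algebra.TensorProduct.tmul_mul_tmul, mul_comm b c, mul_comm b' c']
    | add x y hx hy => rw [map_add, map_add, hx, hy, add_mul]
  -- purity
  have hg : (Algebra.TensorProduct.lmul' V (S := C)).toRingHom (b ⊗ₜ[V] b') = 0 := by
    simpa using hbb'
  have hsurj : Function.Surjective (Algebra.TensorProduct.lmul' V (S := C)).toRingHom := by
    intro c
    exact ⟨c ⊗ₜ 1, by simp⟩
  obtain ⟨γ, hγ0, hγ⟩ := exists_mul_eq_of_flat_surjective _ hfl hsurj hg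
  have hπγ : π γ = 1 := by
    have h1 : θ (π (1 - γ)) = 0 := by
      rw [hθπ, sub_mul, one_mul, mul_comm γ, ← hγ, sub_self]
    have h2 : π (1 - γ) = 0 := hθ (by rw [h1, map_zero])
    rw [map_sub, map_one, sub_eq_zero] at h2
    exact h2.symm
  -- the map to the quotient by the sum
  let Φ : (C ⧸ a0) ⊗[V] (C ⧸ a1) →ₐ[V] (C ⧸ (a0 ⊔ a1)) :=
    Algebra.TensorProduct.productMap (Ideal.Quotient.factorₐ V (le_sup_left : a0 ≤ a0 ⊔ a1))
      (Ideal.Quotient.factorₐ V (le_sup_right : a1 ≤ a0 ⊔ a1))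
  have hΦπ : Φ.comp π = (Ideal.Quotient.mkₐ V (a0 ⊔ a1)).comp
      (Algebra.TensorProduct.lmul' V (S := C)) := by
    apply Algebra.TensorProduct.ext'
    intro c c'
    simp [Φ, π]
  have h10 : (1 : C ⧸ (a0 ⊔ a1)) = 0 := by
    have h1 : Φ (π γ) = 1 := by rw [hπγ, map_one]
    have h2 : Φ (π γ) = Ideal.Quotient.mk (a0 ⊔ a1)
        ((Algebra.TensorProduct.lmul' V (S := C)) γ) := by
      have := congrArg (fun f => f γ) hΦπ
      simpa using this
    rw [← h1, h2]
    have : (Algebra.TensorProduct.lmul' V (S := C)) γ = 0 := hγ0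
    rw [this, map_zero]
  have := Ideal.Quotient.eq_zero_iff_mem.mp (show Ideal.Quotient.mk (a0 ⊔ a1) 1 = 0 by
    rw [map_one]; exact h10)
  exact this

end V1

end H9FE.OlivA
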