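import Mathlib
import Groth.Agent.Lib.Helper9.FE.OlivA
import Groth.Agent.Lib.Helper9.WEtField.Main

/-! helper9: Olivier, part B1. Lagrange idempotents, an integrality lemma, images of
submodules under flat base change. -/

set_option autoImplicit false
set_option linter.style.haveILetI false

universe u

open TensorProduct Polynomial

namespace H9FE.OlivB

section LAG

variable {L 𝔹 : Type*} [Field L] [CommRing 𝔹] [Algebra L 𝔹]

/-- Lagrange idempotents: if `∏ (β - a) = 0` over a finite set of scalars, then `β` is a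
combination `∑ a • e a` of idempotents with `β * e a = a • e a`. -/
theorem exists_idempotents (β : 𝔹) (s : Finset L)
    (hprod : ∏ a ∈ s, (β - algebraMap L 𝔹 a) = 0) :
    ∃ e : L → 𝔹, (∀ a ∈ s, IsIdempotentElem (e a)) ∧ (∀ a ∈ s, β * e a = a • e a) ∧
      ∑ a ∈ s, e a = 1 := by
  classical
  rcases s.eq_empty_or_nonempty with rfl | hne
  · have h10 : (0 : 𝔹) = 1 := by simpa using hprod.symm
    haveI : Subsingleton 𝔹 := subsingleton_of_zero_eq_one h10
    exact ⟨fun _ => 0, by simp, by simp, Subsingleton.elim _ _⟩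
  let c : L → L := fun a => ∏ j ∈ s.erase a, (a - j)⁻¹
  let P : L → 𝔹 := fun a => ∏ j ∈ s.erase a, (β - algebraMap L 𝔹 j)
  let e : L → 𝔹 := fun a => c a • P a
  have he_aeval : ∀ a, aeval β (Lagrange.basis s id a) = e a := by
    intro a
    simp only [Lagrange.basis, Lagrange.basisDivisor, map_prod, map_mul, aeval_C, map_sub,
      aeval_X, id_eq, e, c, P, Finset.prod_mul_distrib, Algebra.smul_def]
  have hsum : ∑ a ∈ s, e a = 1 := by
    have h1 := Lagrange.sum_basis (s := s) (v := (id : L → L)) (Set.injOn_id _) hne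
    have h2 := congrArg (aeval β) h1
    rw [map_sum, map_one] at h2
    rw [← h2]
    exact Finset.sum_congr rfl fun a _ => (he_aeval a).symm
  have hkillP : ∀ a ∈ s, (β - algebraMap L 𝔹 a) * P a = 0 := by
    intro a ha
    have := Finset.mul_prod_erase s (fun j => β - algebraMap L 𝔹 j) ha
    simp only [P]
    rw [this, hprod]
  have hkill : ∀ a ∈ s, (β - algebraMap L 𝔹 a) * e a = 0 := by
    intro a ha
    simp only [e]
    rw [mul_smul_comm, hkillP a ha, smul_zero]
  have horth : ∀ a ∈ s, ∀ a' ∈ s, a ≠ a' → e a * e a' = 0 := by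
    intro a ha a' ha' hne'
    have hmem : a ∈ s.erase a' := Finset.mem_erase.mpr ⟨hne', ha⟩
    have h1 := Finset.mul_prod_erase (s.erase a') (fun j => β - algebraMap L 𝔹 j) hmem
    have h2 : P a' = (β - algebraMap L 𝔹 a) *
        ∏ j ∈ (s.erase a').erase a, (β - algebraMap L 𝔹 j) := h1.symm
    have h3 : e a * e a' = c a' • ((β - algebraMap L 𝔹 a) * e a *
        ∏ j ∈ (s.erase a').erase a, (β - algebraMap L 𝔹 j)) := by
      simp only [e]
      rw [h2, mul_smul_comm]
      congr 1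
      ring
    rw [h3, hkill a ha, zero_mul, smul_zero]
  refine ⟨e, ?_, ?_, hsum⟩
  · intro a ha
    have h1 : e a = e a * ∑ a' ∈ s, e a' := by rw [hsum, mul_one]
    rw [Finset.mul_sum, Finset.sum_eq_single a] at h1
    · exact h1.symm
    · intro a' ha' hne'
      exact horth a ha a' ha' hne'.symm
    · intro h; exact absurd ha h
  · intro a ha
    have h1 := hkill a ha
    rw [sub_mul, sub_eq_zero] at h1
    rw [h1, Algebra.smul_def]

end LAG

section VAL

/-- If `c` is integral over the subring `T`, and `t * c = e`, `e * c = c` with `t, e ∈ T`,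
`e` idempotent, then `c ∈ T`. -/
theorem mem_of_isIntegral_of_mul_eq {𝔹 : Type*} [CommRing 𝔹] (T : Subring 𝔹) {c e t : 𝔹}
    (ht : t ∈ T) (he : e ∈ T) (hee : IsIdempotentElem e) (htc : t * c = e) (hce : e * c = c)
    (hint : IsIntegral T c) : c ∈ T := by
  obtain ⟨p, hp, hpc⟩ := hint
  set n := p.natDegree with hn
  rcases Nat.eq_zero_or_pos n with h0 | hpos
  · have hp1 : p = 1 := by
      exact (Polynomial.Monic.natDegree_eq_zero hp).mp h0
    rw [hp1, eval₂_one] at hpc
    have hc0 : c = 0 := by rw [← mul_one c, hpc, mul_zero]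
    rw [hc0]; exact T.zero_mem
  · have hsum := hp.as_sum
    have h1 : c ^ n + ∑ i ∈ Finset.range n, (algebraMap T 𝔹 (p.coeff i)) * c ^ i = 0 := by
      have h := hpc
      rw [hsum] at h
      simpa [eval₂_add, eval₂_pow, eval₂_X, eval₂_finsetSum, eval₂_mul, eval₂_C] using h
    have h2 : t ^ (n - 1) * c ^ n = c := by
      obtain ⟨m, hm⟩ : ∃ m, n = m + 1 := ⟨n - 1, (Nat.sub_add_cancel hpos).symm⟩
      rw [hm, Nat.add_sub_cancel, pow_succ, ← mul_assoc, ← mul_pow, htc]
      rcases Nat.eq_zero_or_pos m with rfl | hm'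
      · simp
      · obtain ⟨m', rfl⟩ : ∃ m', m = m' + 1 := ⟨m - 1, (Nat.sub_add_cancel hm').symm⟩
        rw [hee.pow_succ_eq, hce]
    have h3 : ∀ i ∈ Finset.range n, t ^ (n - 1) * ((algebraMap T 𝔹 (p.coeff i)) * c ^ i) ∈ T := by
      intro i hi
      have hi' : i ≤ n - 1 := by have := Finset.mem_range.mp hi; omega
      have h4 : t ^ (n - 1) * ((algebraMap T 𝔹 (p.coeff i)) * c ^ i) =
          (algebraMap T 𝔹 (p.coeff i)) * t ^ (n - 1 - i) * e ^ i := by
        rw [← htc, mul_pow]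
        have h5 : t ^ (n - 1) = t ^ (n - 1 - i) * t ^ i := by
          rw [← pow_add]; congr 1; omega
        rw [h5]; ring
      rw [h4]
      exact T.mul_mem (T.mul_mem (show algebraMap T 𝔹 (p.coeff i) ∈ T from (p.coeff i).2) (T.pow_mem ht _)) (T.pow_mem he _)
    have h4 : c = - ∑ i ∈ Finset.range n, t ^ (n - 1) * ((algebraMap T 𝔹 (p.coeff i)) * c ^ i) := by
      have h5 := congrArg (fun z => t ^ (n - 1) * z) h1
      simp only [mul_add, mul_zero, Finset.mul_sum] at h5
      rw [h2] at h5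
      exact eq_neg_of_add_eq_zero_left h5
    rw [h4]
    exact T.neg_mem (T.sum_mem h3)

end VAL

section FI

variable {A : Type*} [CommRing A] {L : Type*} [AddCommGroup L] [Module A L]
  (B : Type*) [AddCommGroup B] [Module A B]

/-- The image of `N ⊗ B` in `L ⊗ B`. -/
def M (N : Submodule A L) : Submodule A (L ⊗[A] B) := LinearMap.range (N.subtype.rTensor B)

variable {B}

theorem M_mono {N N' : Submodule A L} (h : N ≤ N') : M B N ≤ M B N' := by
  rintro _ ⟨w, rfl⟩
  refine ⟨(Submodule.inclusion h).rTensor B w, ?_⟩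
  rw [← LinearMap.comp_apply, ← LinearMap.rTensor_comp]
  rfl

theorem tmul_mem_M {N : Submodule A L} {x : L} (hx : x ∈ N) (b : B) : x ⊗ₜ[A] b ∈ M B N :=
  ⟨(⟨x, hx⟩ : N) ⊗ₜ b, rfl⟩

theorem M_inf [Module.Flat A B] (N₁ N₂ : Submodule A L) : M B N₁ ⊓ M B N₂ ≤ M B (N₁ ⊓ N₂) := by
  rintro z ⟨⟨z₁, rfl⟩, hz₂⟩
  have hz₂' : N₁.subtype.rTensor B z₁ ∈ LinearMap.ker (N₂.mkQ.rTensor B) := by
    rw [rTensor_mkQ]; exact hz₂
  have hex : Function.Exact (Submodule.inclusion (inf_le_left : N₁ ⊓ N₂ ≤ N₁))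
      (N₂.mkQ ∘ₗ N₁.subtype) := by
    intro x
    constructor
    · intro hx
      have hx2 : (x : L) ∈ N₂ := (Submodule.Quotient.mk_eq_zero N₂).mp hx
      exact ⟨⟨x, ⟨x.2, hx2⟩⟩, rfl⟩
    · rintro ⟨y, rfl⟩
      exact (Submodule.Quotient.mk_eq_zero N₂).mpr y.2.2
  have hex' := Module.Flat.rTensor_exact B hex
  have hz₁ : ((N₂.mkQ ∘ₗ N₁.subtype).rTensor B) z₁ = 0 := by
    rw [LinearMap.rTensor_comp, LinearMap.comp_apply]; exact hz₂'
  obtain ⟨w, rfl⟩ := (hex' z₁).mp hz₁
  refine ⟨w, ?_⟩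
  rw [← LinearMap.comp_apply, ← LinearMap.rTensor_comp]
  rfl

end FI

end H9FE.OlivB
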