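import Mathlib
import Groth.Agent.Lib.Helper9.FE.OlivA
import Groth.Agent.Lib.Helper9.WEtField.Main
import Groth.Agent.Lib.Helper9.FE.OlivB1

/-! helper9: Olivier, part B2. Concrete integrality, comparison maps `S ⊗ B → L ⊗ B` for
valuation-type subalgebras `S` of a field `L`: integral elements of the generic fibre that
are killed by a split separable polynomial come from `S ⊗ B`. -/

set_option autoImplicit false
set_option linter.style.haveILetI false

universe u

open TensorProduct Polynomial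

namespace H9FE.OlivB

section CInt

variable {L : Type*} [Field L]

/-- concrete integrality over a subset of a field -/
def CInt (T : Set L) (y : L) : Prop :=
  ∃ p : L[X], p.Monic ∧ (∀ n, p.coeff n ∈ T) ∧ p.eval y = 0

theorem CInt.mono {T T' : Set L} (h : T ⊆ T') {y : L} (hy : CInt T y) : CInt T' y :=
  let ⟨p, hp, hc, he⟩ := hy; ⟨p, hp, fun n => h (hc n), he⟩

theorem cint_iff_subalgebra {R : Type*} [CommRing R] [Algebra R L] (S : Subalgebra R L) (y : L) :
    CInt (S : Set L) y ↔ IsIntegral ↥S y := by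
  constructor
  · rintro ⟨p, hp, hc, hy⟩
    have hl : p ∈ Polynomial.lifts (algebraMap ↥S L) := by
      rw [Polynomial.lifts_iff_coeff_lifts]
      intro n
      exact ⟨⟨p.coeff n, hc n⟩, rfl⟩
    obtain ⟨q, hq, -, hqm⟩ := Polynomial.lifts_and_degree_eq_and_monic hl hp
    refine ⟨q, hqm, ?_⟩
    rw [← eval_map, hq]; exact hy
  · rintro ⟨q, hq, hy⟩
    refine ⟨q.map (algebraMap ↥S L), hq.map _, fun n => ?_, ?_⟩
    · rw [coeff_map]; exact (q.coeff n).2
    · rw [eval_map]; exact hy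

theorem cint_iff_subring (S : Subring L) (y : L) :
    CInt (S : Set L) y ↔ IsIntegral ↥S y := by
  constructor
  · rintro ⟨p, hp, hc, hy⟩
    have hl : p ∈ Polynomial.lifts (algebraMap ↥S L) := by
      rw [Polynomial.lifts_iff_coeff_lifts]
      intro n
      exact ⟨⟨p.coeff n, hc n⟩, rfl⟩
    obtain ⟨q, hq, -, hqm⟩ := Polynomial.lifts_and_degree_eq_and_monic hl hp
    refine ⟨q, hqm, ?_⟩
    rw [← eval_map, hq]; exact hy
  · rintro ⟨q, hq, hy⟩
    refine ⟨q.map (algebraMap ↥S L), hq.map _, fun n => ?_, ?_⟩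
    · rw [coeff_map]; exact (q.coeff n).2
    · rw [eval_map]; exact hy

theorem cint_iff_valuationSubring (S : ValuationSubring L) (y : L) :
    CInt (S : Set L) y ↔ IsIntegral ↥S y := by
  constructor
  · rintro ⟨p, hp, hc, hy⟩
    have hl : p ∈ Polynomial.lifts (algebraMap ↥S L) := by
      rw [Polynomial.lifts_iff_coeff_lifts]
      intro n
      exact ⟨⟨p.coeff n, hc n⟩, rfl⟩
    obtain ⟨q, hq, -, hqm⟩ := Polynomial.lifts_and_degree_eq_and_monic hl hp
    refine ⟨q, hqm, ?_⟩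
    rw [← eval_map, hq]; exact hy
  · rintro ⟨q, hq, hy⟩
    refine ⟨q.map (algebraMap ↥S L), hq.map _, fun n => ?_, ?_⟩
    · rw [coeff_map]; exact (q.coeff n).2
    · rw [eval_map]; exact hy

end CInt

section Main

variable {A : Type u} [CommRing A] {L : Type u} [Field L] [Algebra A L]
  {B : Type u} [CommRing B] [Algebra A B]

/-- the comparison map `S ⊗ B → L ⊗ B` -/
noncomputable def j (S : Subalgebra A L) : ↥S ⊗[A] B →ₐ[↥S] L ⊗[A] B :=
  Algebra.TensorProduct.map (Algebra.ofId ↥S L) (AlgHom.id A B)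

theorem j_tmul (S : Subalgebra A L) (x : S) (b : B) :
    j (B := B) S (x ⊗ₜ b) = (x : L) ⊗ₜ b := rfl

theorem j_mem_M (S : Subalgebra A L) (w : ↥S ⊗[A] B) :
    j S w ∈ M B (Subalgebra.toSubmodule S) := by
  induction w using TensorProduct.induction_on with
  | zero => rw [map_zero]; exact zero_mem _
  | tmul x b => exact tmul_mem_M x.2 b
  | add x y hx hy => rw [map_add]; exact add_mem hx hy

theorem j_injective [Module.Flat A B] (S : Subalgebra A L) : Function.Injective (j (B := B) S) := by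
  have h := Module.Flat.rTensor_preserves_injective_linearMap (M := B) (S.val.toLinearMap)
    Subtype.val_injective
  have heq : ∀ w, j S w = (S.val.toLinearMap.rTensor B) w := by
    intro w
    induction w using TensorProduct.induction_on with
    | zero => simp
    | tmul x b => rfl
    | add x y hx hy => rw [map_add, map_add, hx, hy]
  intro x y hxy
  apply h
  rw [← heq, ← heq, hxy]

/-- valuation-type subalgebras -/
def IsVal (S : Subalgebra A L) : Prop := ∀ x : L, x ≠ 0 → x ∈ S ∨ x⁻¹ ∈ S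

theorem valuationRing_of_isVal {S : Subalgebra A L} (hS : IsVal S) : ValuationRing ↥S := by
  rw [ValuationRing.iff_dvd_total]
  refine ⟨fun a b => ?_⟩
  by_cases hb : b = 0
  · left; rw [hb]; exact dvd_zero a
  by_cases ha : a = 0
  · right; rw [ha]; exact dvd_zero b
  have hb' : (b : L) ≠ 0 := fun h => hb (Subtype.ext h)
  have ha' : (a : L) ≠ 0 := fun h => ha (Subtype.ext h)
  rcases hS ((a : L) / b) (div_ne_zero ha' hb') with h | h
  · right
    refine ⟨⟨_, h⟩, Subtype.ext ?_⟩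
    change (a : L) = (b : L) * ((a : L) / b)
    field_simp
  · left
    refine ⟨⟨_, h⟩, Subtype.ext ?_⟩
    change (b : L) = (a : L) * ((a : L) / b)⁻¹
    field_simp

theorem exists_smul_eq_j {S : Subalgebra A L} (hS : IsVal S) (z : L ⊗[A] B) :
    ∃ s : ↥S, s ≠ 0 ∧ ∃ w : ↥S ⊗[A] B, s • z = j S w := by
  induction z using TensorProduct.induction_on with
  | zero => exact ⟨1, one_ne_zero, 0, by simp⟩
  | tmul l b =>
    by_cases hl : l = 0
    · exact ⟨1, one_ne_zero, 0, by simp [hl]⟩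
    rcases hS l hl with h | h
    · exact ⟨1, one_ne_zero, (⟨l, h⟩ : S) ⊗ₜ b, by rw [one_smul]; rfl⟩
    · refine ⟨⟨l⁻¹, h⟩, ?_, (1 : S) ⊗ₜ b, ?_⟩
      · intro h0; exact (inv_ne_zero hl) (congrArg Subtype.val h0)
      · refine (TensorProduct.smul_tmul' (⟨l⁻¹, h⟩ : S) l b).trans ?_
        rw [j_tmul]
        congr 1
        change (l⁻¹ : L) * l = 1
        exact inv_mul_cancel₀ hl
  | add z₁ z₂ h₁ h₂ =>
    obtain ⟨s₁, hs₁, w₁, e₁⟩ := h₁
    obtain ⟨s₂, hs₂, w₂, e₂⟩ := h₂
    refine ⟨s₁ * s₂, mul_ne_zero hs₁ hs₂, s₂ • w₁ + s₁ • w₂, ?_⟩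
    rw [smul_add, mul_smul, mul_smul, smul_comm s₁ s₂ z₁, e₁, e₂, map_add, map_smul, map_smul]

variable [Algebra.WeaklyEtale A B]

theorem idem_mem_range_j {S : Subalgebra A L} (hS : IsVal S) {e : L ⊗[A] B}
    (he : IsIdempotentElem e) : e ∈ Set.range (j (B := B) S) := by
  haveI := valuationRing_of_isVal hS
  obtain ⟨s, hs, w, hw⟩ := exists_smul_eq_j hS e
  have hww : w * w = s • w := by
    apply j_injective S
    rw [map_mul, map_smul, ← hw, smul_mul_smul_comm, he.eq, mul_smul]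
  obtain ⟨y, hy⟩ := OlivA.exists_smul_eq (V := ↥S) (C := ↥S ⊗[A] B)
    (Algebra.WeaklyEtale.flat_lmul' ↥S (↥S ⊗[A] B)) w s hww
  refine ⟨y, ?_⟩
  have h1 : s • j S y = s • e := by rw [← map_smul, ← hy, hw]
  have h2 : ∀ z : L ⊗[A] B, s • z = (s : L) • z := fun z => by
    rw [← algebraMap_smul L s z]; rfl
  rw [h2, h2] at h1
  exact smul_right_injective _ (show (s : L) ≠ 0 from fun h => hs (Subtype.ext h)) h1

theorem mem_range_j_of_isVal {S : Subalgebra A L} (hS : IsVal S) (β : L ⊗[A] B) (s : Finset L)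
    (hprod : ∏ a ∈ s, (β - algebraMap L (L ⊗[A] B) a) = 0)
    (hint : (Algebra.TensorProduct.includeRight : B →ₐ[A] L ⊗[A] B).toRingHom.IsIntegralElem β) :
    β ∈ Set.range (j (B := B) S) := by
  obtain ⟨e, he_idem, he_mul, he_sum⟩ := exists_idempotents β s hprod
  let T : Subring (L ⊗[A] B) := (j (B := B) S).range.toSubring
  have heT : ∀ a ∈ s, e a ∈ T := fun a ha => idem_mem_range_j hS (he_idem a ha)
  have hβT : IsIntegral T β := by
    obtain ⟨p, hp, hpβ⟩ := hint
    let ρ : B →+* T := RingHom.codRestrict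
      (Algebra.TensorProduct.includeRight : B →ₐ[A] L ⊗[A] B).toRingHom T
      (fun b => ⟨(1 : S) ⊗ₜ b, rfl⟩)
    refine ⟨p.map ρ, hp.map ρ, ?_⟩
    rw [eval₂_map]
    exact hpβ
  have hmem : ∀ a ∈ s, β * e a ∈ T := by
    intro a ha
    by_cases ha0 : a = 0
    · rw [he_mul a ha, ha0, zero_smul]; exact T.zero_mem
    rcases hS a ha0 with h | h
    · obtain ⟨y, hy⟩ := heT a ha
      have hy' : j S y = e a := hy
      rw [he_mul a ha]
      refine ⟨(⟨a, h⟩ : S) • y, ?_⟩
      change j S ((⟨a, h⟩ : S) • y) = _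
      rw [map_smul, hy', ← algebraMap_smul L (⟨a, h⟩ : S) (e a)]
      rfl
    · refine mem_of_isIntegral_of_mul_eq T (t := algebraMap L _ a⁻¹) (e := e a) ?_ (heT a ha)
        (he_idem a ha) ?_ ?_ ?_
      · exact ⟨(⟨a⁻¹, h⟩ : S) ⊗ₜ 1, rfl⟩
      · rw [he_mul a ha, ← Algebra.smul_def, smul_smul, inv_mul_cancel₀ ha0, one_smul]
      · rw [mul_left_comm, (he_idem a ha).eq]
      · exact IsIntegral.mul hβT (isIntegral_algebraMap (R := T) (x := ⟨e a, heT a ha⟩))
  have hβ : β = ∑ a ∈ s, β * e a := by rw [← Finset.mul_sum, he_sum, mul_one]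
  rw [hβ]
  exact T.sum_mem hmem

end Main

end H9FE.OlivB
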