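import Mathlib
import Groth.Agent.Lib.Helper9.FE.OlivB2

/-! helper9: Olivier, part B3. Zorn's lemma over integrally closed subalgebras of `L`:
reduction from a normal domain to valuation rings. -/

set_option autoImplicit false
set_option linter.style.haveILetI false

universe u

open TensorProduct Polynomial

namespace H9FE.OlivB

section Zorn

variable {A : Type u} [CommRing A] {L : Type u} [Field L] [Algebra A L]
  {B : Type u} [CommRing B] [Algebra A B]

/-- An element integral over `S[x]` and over `S[x⁻¹]` lies in `S`, for `S` integrally closed. -/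
theorem mem_of_cint_adjoin (S : Subalgebra A L) (hIC : ∀ y : L, CInt (S : Set L) y → y ∈ S)
    (x : L) (y : L)
    (h1 : CInt (Algebra.adjoin A ((S : Set L) ∪ {x}) : Set L) y)
    (h2 : CInt (Algebra.adjoin A ((S : Set L) ∪ {x⁻¹}) : Set L) y) : y ∈ S := by
  by_contra hy
  haveI : IsIntegrallyClosedIn S.toSubring L := by
    rw [Subring.isIntegrallyClosedIn_iff]
    intro z hz
    exact hIC z ((cint_iff_subring S.toSubring z).mpr hz)
  obtain ⟨V, hSV, hyV⟩ := Subring.exists_le_valuationSubring_of_isIntegrallyClosedIn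
    (R := S.toSubring) (x := y) hy
  let VA : Subalgebra A L :=
    { V.toSubring with algebraMap_mem' := fun a => hSV (S.algebraMap_mem a) }
  have hVint : ∀ z, CInt (V : Set L) z → z ∈ V := by
    intro z hz
    have h3 : IsIntegral V z := (cint_iff_valuationSubring V z).mp hz
    obtain ⟨w, hw⟩ := IsIntegrallyClosed.isIntegral_iff.mp h3
    rw [← hw]; exact w.2
  have hadj : ∀ u : L, u ∈ V → (Algebra.adjoin A ((S : Set L) ∪ {u}) : Set L) ⊆ (V : Set L) := by
    intro u hu
    have h3 : Algebra.adjoin A ((S : Set L) ∪ {u}) ≤ VA := Algebra.adjoin_le (by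
      rintro z (hz | hz)
      · exact hSV hz
      · rw [Set.mem_singleton_iff] at hz; rw [hz]; exact hu)
    exact h3
  rcases V.mem_or_inv_mem x with h | h
  · exact hyV (hVint y (h1.mono (hadj x h)))
  · exact hyV (hVint y (h2.mono (hadj x⁻¹ h)))

variable [Algebra.WeaklyEtale A B]

/-- **Zorn step.** An element of `L ⊗ B`, integral over `B` and killed by a split separable
polynomial, comes from `A' ⊗ B` where `A'` is the integral closure of `A` in `L`. -/
theorem mem_M_integralClosure (β : L ⊗[A] B) (s : Finset L)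
    (hprod : ∏ a ∈ s, (β - algebraMap L (L ⊗[A] B) a) = 0)
    (hint : (Algebra.TensorProduct.includeRight : B →ₐ[A] L ⊗[A] B).toRingHom.IsIntegralElem β) :
    β ∈ M B (Subalgebra.toSubmodule (integralClosure A L)) := by
  classical
  by_contra hβ
  let Good : Set (Subalgebra A L) :=
    {S | (∀ y : L, CInt (S : Set L) y → y ∈ S) ∧ β ∉ M B (Subalgebra.toSubmodule S)}
  have h0 : integralClosure A L ∈ Good := by
    refine ⟨fun y hy => ?_, hβ⟩
    have h1 : IsIntegral ↥(integralClosure A L) y := (cint_iff_subalgebra _ y).mp hy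
    exact isIntegral_trans (R := A) (A := ↥(integralClosure A L)) y h1
  have hchain : ∀ c ⊆ Good, IsChain (· ≤ ·) c → ∀ y ∈ c, ∃ ub ∈ Good, ∀ z ∈ c, z ≤ ub := by
    intro c hcG hc y₀ hy₀
    haveI : Nonempty c := ⟨⟨y₀, hy₀⟩⟩
    have dir : Directed (· ≤ ·) (fun i : c => (i : Subalgebra A L)) := hc.directed
    let ub : Subalgebra A L := ⨆ i : c, (i : Subalgebra A L)
    have hmem : ∀ x : L, x ∈ ub ↔ ∃ i : c, x ∈ (i : Subalgebra A L) := by
      intro x
      have := Subalgebra.coe_iSup_of_directed dir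
      rw [← SetLike.mem_coe, this, Set.mem_iUnion]
      rfl
    refine ⟨ub, ⟨?_, ?_⟩, fun z hz => le_iSup (fun i : c => (i : Subalgebra A L)) ⟨z, hz⟩⟩
    · rintro y ⟨p, hp, hcoef, hy⟩
      have hch : ∀ n, ∃ i : c, p.coeff n ∈ (i : Subalgebra A L) := fun n => (hmem _).mp (hcoef n)
      choose ι hι using hch
      obtain ⟨z, hz⟩ := dir.finset_le (p.support.image ι)
      have hall : ∀ n, p.coeff n ∈ (z : Subalgebra A L) := by
        intro n
        by_cases hn : n ∈ p.support
        · exact hz (ι n) (Finset.mem_image_of_mem ι hn) (hι n)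
        · rw [Polynomial.notMem_support_iff.mp hn]; exact zero_mem _
      exact (hmem y).mpr ⟨z, (hcG z.2).1 y ⟨p, hp, hall, hy⟩⟩
    · rintro ⟨w, hw⟩
      have key : ∀ w : ↥(Subalgebra.toSubmodule ub) ⊗[A] B, ∃ i : c,
          ((Subalgebra.toSubmodule ub).subtype.rTensor B) w ∈
            M B (Subalgebra.toSubmodule (i : Subalgebra A L)) := by
        intro w
        induction w using TensorProduct.induction_on with
        | zero => exact ⟨⟨y₀, hy₀⟩, by rw [map_zero]; exact zero_mem _⟩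
        | tmul x b =>
          obtain ⟨i, hi⟩ := (hmem x.1).mp x.2
          exact ⟨i, tmul_mem_M hi b⟩
        | add x y hx hy =>
          obtain ⟨i₁, h₁⟩ := hx
          obtain ⟨i₂, h₂⟩ := hy
          obtain ⟨z, hz₁, hz₂⟩ := dir i₁ i₂
          refine ⟨z, ?_⟩
          rw [map_add]
          exact add_mem (M_mono (by exact hz₁) h₁) (M_mono (by exact hz₂) h₂)
      obtain ⟨i, hi⟩ := key w
      rw [hw] at hi
      exact (hcG i.2).2 hi
  obtain ⟨S₀, -, hmax⟩ := zorn_le_nonempty₀ Good hchain _ h0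
  have hS₀ : S₀ ∈ Good := hmax.prop
  have hval : IsVal S₀ := by
    intro x hx
    by_contra hcon
    rw [not_or] at hcon
    obtain ⟨hx1, hx2⟩ := hcon
    -- closure of S₀[u]
    have key : ∀ u : L, u ∉ S₀ → ∃ S₁ : Subalgebra A L,
        (∀ y, y ∈ S₁ ↔ CInt (Algebra.adjoin A ((S₀ : Set L) ∪ {u}) : Set L) y) ∧
        β ∈ M B (Subalgebra.toSubmodule S₁) := by
      intro u hu
      let T : Subalgebra A L := Algebra.adjoin A ((S₀ : Set L) ∪ {u})
      let S₁ : Subalgebra A L := (integralClosure ↥T L).restrictScalars A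
      have hmem : ∀ y, y ∈ S₁ ↔ CInt (T : Set L) y := by
        intro y
        rw [cint_iff_subalgebra]
        rfl
      have hTS₁ : ∀ y, y ∈ T → y ∈ S₁ := by
        intro y hy
        rw [hmem, cint_iff_subalgebra]
        exact isIntegral_algebraMap (R := ↥T) (x := ⟨y, hy⟩)
      have hS₀S₁ : S₀ ≤ S₁ := fun y hy =>
        hTS₁ y (Algebra.subset_adjoin (Or.inl hy))
      have huS₁ : u ∈ S₁ := hTS₁ u (Algebra.subset_adjoin (Or.inr rfl))
      refine ⟨S₁, hmem, ?_⟩
      by_contra hβ₁
      have hG : S₁ ∈ Good := by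
        refine ⟨fun y hy => ?_, hβ₁⟩
        have h1 : IsIntegral ↥(integralClosure ↥T L) y :=
          (cint_iff_subalgebra (integralClosure ↥T L) y).mp hy
        have h2 : IsIntegral ↥T y :=
          isIntegral_trans (R := ↥T) (A := ↥(integralClosure ↥T L)) y h1
        exact h2
      exact hu (hmax.le_of_ge hG hS₀S₁ huS₁)
    obtain ⟨S₁, hS₁, hβ₁⟩ := key x hx1
    obtain ⟨S₂, hS₂, hβ₂⟩ := key x⁻¹ hx2
    have h3 : β ∈ M B (Subalgebra.toSubmodule S₁ ⊓ Subalgebra.toSubmodule S₂) :=
      M_inf _ _ ⟨hβ₁, hβ₂⟩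
    have h4 : Subalgebra.toSubmodule S₁ ⊓ Subalgebra.toSubmodule S₂ ≤ Subalgebra.toSubmodule S₀ := by
      rintro y ⟨hy1, hy2⟩
      exact mem_of_cint_adjoin S₀ hS₀.1 x y ((hS₁ y).mp hy1) ((hS₂ y).mp hy2)
    exact hS₀.2 (M_mono h4 h3)
  obtain ⟨w, hw⟩ := mem_range_j_of_isVal hval β s hprod hint
  exact hS₀.2 (hw ▸ j_mem_M S₀ w)

end Zorn

end H9FE.OlivB
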