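import Mathlib
import Groth.Agent.Lib.Helper9.FE.OlivB3

/-! helper9: Olivier, part B4. Weakly étale algebras over a normal domain are integrally
closed in their generic fibre (Stacks 092W for a normal base). -/

set_option autoImplicit false
set_option linter.unusedSectionVars false
set_option linter.style.haveILetI false

universe u

open TensorProduct Polynomial

namespace H9FE.OlivB

section Core

variable (A : Type u) [CommRing A] [IsDomain A] [IsIntegrallyClosed A]
  (K : Type u) [Field K] [Algebra A K] [IsFractionRing A K]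
  (B : Type u) [CommRing B] [Algebra A B] [Algebra.WeaklyEtale A B]

/-- **Core statement** (in the `K ⊗ B` orientation): elements of `K ⊗[A] B` integral over `B`
come from `B`. -/
theorem exists_eq_of_isIntegralElem (β₁ : K ⊗[A] B)
    (hint : (Algebra.TensorProduct.includeRight : B →ₐ[A] K ⊗[A] B).toRingHom.IsIntegralElem β₁) :
    ∃ b : B, β₁ = 1 ⊗ₜ[A] b := by
  classical
  let L := AlgebraicClosure K
  let iK : K ⊗[A] B →ₐ[K] L ⊗[A] B :=
    Algebra.TensorProduct.map (Algebra.ofId K L) (AlgHom.id A B)
  have hiK_tmul : ∀ (k : K) (b : B), iK (k ⊗ₜ b) = (algebraMap K L k) ⊗ₜ b := fun k b => rfl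
  have hiK_inj : Function.Injective iK := by
    have h := Module.Flat.rTensor_preserves_injective_linearMap (M := B)
      ((Algebra.linearMap K L).restrictScalars A) (algebraMap K L).injective
    have heq : ∀ w, iK w = (((Algebra.linearMap K L).restrictScalars A).rTensor B) w := by
      intro w
      induction w using TensorProduct.induction_on with
      | zero => simp
      | tmul x b => rfl
      | add x y hx hy => rw [map_add, map_add, hx, hy]
    intro x y hxy
    apply h
    rw [← heq, ← heq, hxy]
  set β : L ⊗[A] B := iK β₁ with hβdef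
  -- integrality of β
  have hintβ : (Algebra.TensorProduct.includeRight : B →ₐ[A] L ⊗[A] B).toRingHom.IsIntegralElem β := by
    obtain ⟨p, hp, hpβ⟩ := hint
    refine ⟨p, hp, ?_⟩
    have h1 : (Algebra.TensorProduct.includeRight : B →ₐ[A] L ⊗[A] B).toRingHom =
        (iK : K ⊗[A] B →+* L ⊗[A] B).comp
          (Algebra.TensorProduct.includeRight : B →ₐ[A] K ⊗[A] B).toRingHom := by
      ext b
      change (1 : L) ⊗ₜ[A] b = iK ((1 : K) ⊗ₜ[A] b)
      rw [hiK_tmul, map_one]
    rw [h1, hβdef]
    change eval₂ _ ((iK : K ⊗[A] B →+* L ⊗[A] B) β₁) p = 0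
    rw [← Polynomial.hom_eval₂, hpβ, map_zero]
  -- a separable polynomial killing β₁
  obtain ⟨f, hfsep, hf⟩ := Groth.Agent.Helper9.WEtField.isSepElem_of_weaklyEtale K (K ⊗[A] B) β₁
  let g : L[X] := f.map (algebraMap K L)
  have hgsep : g.Separable := hfsep.map
  have hg0 : g ≠ 0 := hgsep.ne_zero
  have hgβ : aeval β g = 0 := by
    rw [Polynomial.aeval_map_algebraMap, hβdef, Polynomial.aeval_algHom_apply, hf, map_zero]
  have hsplit : g.Splits := IsAlgClosed.splits g
  have hnodup : g.roots.Nodup := Polynomial.nodup_roots hgsep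
  let s : Finset L := g.roots.toFinset
  have hprod : ∏ a ∈ s, (β - algebraMap L (L ⊗[A] B) a) = 0 := by
    have h1 := hsplit.eq_prod_roots
    have h2 : aeval β g = algebraMap L (L ⊗[A] B) g.leadingCoeff *
        (g.roots.map (fun a => β - algebraMap L (L ⊗[A] B) a)).prod := by
      conv_lhs => rw [h1]
      rw [map_mul, aeval_C, map_multiset_prod, Multiset.map_map]
      congr 2
      apply Multiset.map_congr rfl
      intro a _
      simp
    have h3 : (g.roots.map (fun a => β - algebraMap L (L ⊗[A] B) a)).prod = 0 := by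
      rw [hgβ, ← Algebra.smul_def] at h2
      exact (smul_eq_zero.mp h2.symm).resolve_left (Polynomial.leadingCoeff_ne_zero.mpr hg0)
    rw [Finset.prod_eq_multiset_prod]
    have h4 : s.val = g.roots := by
      simp only [s, Multiset.toFinset_val]
      exact Multiset.dedup_eq_self.mpr hnodup
    rw [h4]
    exact h3
  -- Zorn
  have hZ := mem_M_integralClosure β s hprod hintβ
  -- β also comes from K
  let NK : Submodule A L := LinearMap.range ((Algebra.linearMap K L).restrictScalars A)
  have hK : β ∈ M B NK := by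
    have key : ∀ w : K ⊗[A] B, iK w ∈ M B NK := by
      intro w
      induction w using TensorProduct.induction_on with
      | zero => rw [map_zero]; exact zero_mem _
      | tmul k b =>
        rw [hiK_tmul]
        exact tmul_mem_M (show algebraMap K L k ∈ NK from ⟨k, rfl⟩) b
      | add x y hx hy => rw [map_add]; exact add_mem hx hy
    exact key β₁
  have h5 : β ∈ M B (NK ⊓ Subalgebra.toSubmodule (integralClosure A L)) := M_inf _ _ ⟨hK, hZ⟩
  let NA : Submodule A L := LinearMap.range (Algebra.linearMap A L)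
  have h6 : NK ⊓ Subalgebra.toSubmodule (integralClosure A L) ≤ NA := by
    rintro y ⟨⟨k, rfl⟩, hy2⟩
    have h7 : IsIntegral A (algebraMap K L k) := hy2
    have h8 : IsIntegral A k := (isIntegral_algebraMap_iff (algebraMap K L).injective).mp h7
    obtain ⟨a, ha⟩ := IsIntegrallyClosed.isIntegral_iff.mp h8
    refine ⟨a, ?_⟩
    change algebraMap A L a = algebraMap K L k
    rw [← ha, ← IsScalarTower.algebraMap_apply]
  have h9 : β ∈ M B NA := M_mono h6 h5
  have h10 : ∀ w : ↥NA ⊗[A] B, ∃ b : B, (NA.subtype.rTensor B) w = (1 : L) ⊗ₜ[A] b := by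
    intro w
    induction w using TensorProduct.induction_on with
    | zero => exact ⟨0, by simp⟩
    | tmul x b =>
      obtain ⟨x, a, rfl⟩ := x
      refine ⟨a • b, ?_⟩
      change (algebraMap A L a) ⊗ₜ[A] b = _
      rw [Algebra.algebraMap_eq_smul_one, TensorProduct.smul_tmul]
    | add x y hx hy =>
      obtain ⟨b₁, h₁⟩ := hx
      obtain ⟨b₂, h₂⟩ := hy
      exact ⟨b₁ + b₂, by rw [map_add, h₁, h₂, TensorProduct.tmul_add]⟩
  obtain ⟨w, hw⟩ := h9
  obtain ⟨b, hb⟩ := h10 w
  refine ⟨b, hiK_inj ?_⟩
  rw [hiK_tmul, map_one, ← hb, hw]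

/-- The `B ⊗[A] K` orientation (frozen statement S1967). -/
theorem isIntegrallyClosedIn : IsIntegrallyClosedIn B (B ⊗[A] K) := by
  rw [isIntegrallyClosedIn_iff]
  constructor
  · exact Algebra.TensorProduct.includeLeft_injective (R := A) (S := B) (A := B) (B := K)
      (IsFractionRing.injective A K)
  · intro x hx
    let cm : B ⊗[A] K ≃ₐ[A] K ⊗[A] B := Algebra.TensorProduct.comm A B K
    have h1 : (Algebra.TensorProduct.includeRight : B →ₐ[A] K ⊗[A] B).toRingHom.IsIntegralElem
        (cm x) := by
      obtain ⟨p, hp, hpx⟩ := hx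
      refine ⟨p, hp, ?_⟩
      have h2 : (Algebra.TensorProduct.includeRight : B →ₐ[A] K ⊗[A] B).toRingHom =
          (cm : B ⊗[A] K →+* K ⊗[A] B).comp (algebraMap B (B ⊗[A] K)) := by
        ext b
        change (1 : K) ⊗ₜ[A] b = cm (b ⊗ₜ[A] (1 : K))
        rw [Algebra.TensorProduct.comm_tmul]
      rw [h2]
      change eval₂ _ ((cm : B ⊗[A] K →+* K ⊗[A] B) x) p = 0
      rw [← Polynomial.hom_eval₂, hpx, map_zero]
    obtain ⟨b, hb⟩ := exists_eq_of_isIntegralElem A K B (cm x) h1
    refine ⟨b, ?_⟩
    apply cm.injective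
    rw [hb]
    change cm (b ⊗ₜ[A] (1 : K)) = _
    rw [Algebra.TensorProduct.comm_tmul]

end Core

end H9FE.OlivB
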