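import Mathlib
import Groth.Agent.Lib.Helper9.FE.OlivB4
import Groth.Agent.Lib.Helper7.Hensel.IntegralDomain

/-! helper9: Olivier, part C1. Trivial residue field extension and locality of integral
base changes of a local weakly étale algebra over a strictly henselian ring. -/

set_option autoImplicit false
set_option linter.overlappingInstances false
set_option linter.style.haveILetI false
set_option linter.unusedSectionVars false

universe u

open TensorProduct Polynomial

namespace H9FE.OlivC

section Setup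

variable {A B : Type u} [CommRing A] [CommRing B] [IsLocalRing A] [IsLocalRing B]
  [IsSepClosed (IsLocalRing.ResidueField A)] [Algebra A B] [IsLocalHom (algebraMap A B)]
  [Algebra.WeaklyEtale A B]

/-- (O0) the residue field extension is trivial. -/
theorem exists_sub_mem_maximalIdeal (b : B) :
    ∃ a : A, b - algebraMap A B a ∈ IsLocalRing.maximalIdeal B := by
  let κ := IsLocalRing.ResidueField A
  let κB := IsLocalRing.ResidueField B
  obtain ⟨f, hfsep, hf⟩ :=
    Groth.Agent.Helper9.WEtField.isSepElem_of_weaklyEtale κ (κ ⊗[A] B) ((1 : κ) ⊗ₜ[A] b)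
  let φ : κ ⊗[A] B →ₐ[A] κB :=
    Algebra.TensorProduct.productMap (IsScalarTower.toAlgHom A κ κB) (IsScalarTower.toAlgHom A B κB)
  have hφ1 : (φ : κ ⊗[A] B →+* κB).comp (algebraMap κ (κ ⊗[A] B)) = algebraMap κ κB := by
    ext k
    change φ (k ⊗ₜ[A] (1 : B)) = _
    simp [φ]
  have hφ2 : φ ((1 : κ) ⊗ₜ[A] b) = IsLocalRing.residue B b := by
    simp [φ]
    rfl
  have hroot : ((f.map (algebraMap κ κB))).IsRoot (IsLocalRing.residue B b) := by
    rw [Polynomial.IsRoot.def, Polynomial.eval_map, ← hφ1, ← hφ2]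
    change eval₂ _ ((φ : κ ⊗[A] B →+* κB) _) f = 0
    rw [← Polynomial.hom_eval₂]
    rw [Polynomial.aeval_def] at hf
    rw [hf, map_zero]
  have hsplit : f.Splits := IsSepClosed.splits_of_separable f hfsep
  obtain ⟨k, hk⟩ := hsplit.mem_range_of_isRoot hfsep.ne_zero hroot
  obtain ⟨a, rfl⟩ := IsLocalRing.residue_surjective k
  refine ⟨a, ?_⟩
  rw [← IsLocalRing.residue_eq_zero_iff, map_sub, sub_eq_zero, ← hk]
  rfl

/-- (O1) base change along an integral local algebra stays local. -/
theorem isLocalRing_tensor (A' : Type u) [CommRing A'] [IsLocalRing A'] [Algebra A A']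
    [Algebra.IsIntegral A A'] : IsLocalRing (A' ⊗[A] B) := by
  haveI : Module.FaithfullyFlat A B := Module.FaithfullyFlat.of_flat_of_isLocalHom
  let iR : B →+* A' ⊗[A] B := (Algebra.TensorProduct.includeRight : B →ₐ[A] A' ⊗[A] B).toRingHom
  let iL : A' →+* A' ⊗[A] B := (Algebra.TensorProduct.includeLeft : A' →ₐ[A] A' ⊗[A] B).toRingHom
  -- integrality
  have hint : iR.IsIntegral := by
    intro z
    induction z using TensorProduct.induction_on with
    | zero => exact iR.isIntegralElem_zero
    | tmul a' b =>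
      have h1 : a' ⊗ₜ[A] b = iL a' * iR b := by
        simp [iL, iR]
      rw [h1]
      refine RingHom.IsIntegralElem.mul _ ?_ (iR.isIntegralElem_map)
      obtain ⟨p, hp, hpa⟩ := Algebra.IsIntegral.isIntegral (R := A) a'
      refine ⟨p.map (algebraMap A B), hp.map _, ?_⟩
      rw [Polynomial.eval₂_map]
      have h2 : iR.comp (algebraMap A B) = iL.comp (algebraMap A A') := by
        ext a
        change (1 : A') ⊗ₜ[A] (algebraMap A B a) = (algebraMap A A' a) ⊗ₜ[A] (1 : B)
        rw [Algebra.algebraMap_eq_smul_one, Algebra.algebraMap_eq_smul_one,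
          TensorProduct.tmul_smul, TensorProduct.smul_tmul']
      rw [h2, ← Polynomial.hom_eval₂, hpa, map_zero]
    | add x y hx hy => exact RingHom.IsIntegralElem.add _ hx hy
  let J : Ideal (A' ⊗[A] B) := Ideal.map iR (IsLocalRing.maximalIdeal B)
  have hJ : J ≤ Ideal.jacobson ⊥ := by
    rw [Ideal.jacobson, le_sInf_iff]
    rintro 𝔫 ⟨-, h𝔫⟩
    haveI := h𝔫
    have hmax := Ideal.isMaximal_comap_of_isIntegral_of_isMaximal' iR hint 𝔫
    have heq : 𝔫.comap iR = IsLocalRing.maximalIdeal B := IsLocalRing.eq_maximalIdeal hmax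
    rw [Ideal.map_le_iff_le_comap, heq]
  -- (S1)
  have hS1 : ∀ z : A' ⊗[A] B, ∃ a' : A', z - iL a' ∈ J := by
    intro z
    induction z using TensorProduct.induction_on with
    | zero => exact ⟨0, by simp⟩
    | tmul a' b =>
      obtain ⟨a, ha⟩ := exists_sub_mem_maximalIdeal (A := A) b
      refine ⟨a • a', ?_⟩
      have h1 : a' ⊗ₜ[A] b - iL (a • a') = iL a' * iR (b - algebraMap A B a) := by
        change a' ⊗ₜ[A] b - (a • a') ⊗ₜ[A] (1 : B) =
          (a' ⊗ₜ[A] (1 : B)) * ((1 : A') ⊗ₜ[A] (b - algebraMap A B a))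
        rw [Algebra.TensorProduct.tmul_mul_tmul, mul_one, one_mul, TensorProduct.tmul_sub,
          Algebra.algebraMap_eq_smul_one, TensorProduct.tmul_smul, TensorProduct.smul_tmul']
      rw [h1]
      exact Ideal.mul_mem_left _ _ (Ideal.mem_map_of_mem _ ha)
    | add x y hx hy =>
      obtain ⟨a₁, h₁⟩ := hx
      obtain ⟨a₂, h₂⟩ := hy
      refine ⟨a₁ + a₂, ?_⟩
      have : x + y - iL (a₁ + a₂) = (x - iL a₁) + (y - iL a₂) := by rw [map_add]; ring
      rw [this]
      exact J.add_mem h₁ h₂
  have hunit : ∀ (u : A' ⊗[A] B) (w : A' ⊗[A] B), IsUnit u → w ∈ J → IsUnit (u + w) := by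
    intro u w hu hw
    obtain ⟨u', rfl⟩ := hu
    have h1 := (Ideal.mem_jacobson_bot.mp (hJ hw)) (↑u'⁻¹ : A' ⊗[A] B)
    have h2 : (u' : A' ⊗[A] B) + w = u' * (w * ↑u'⁻¹ + 1) := by
      rw [mul_add, mul_one, mul_comm w, ← mul_assoc, Units.mul_inv, one_mul, add_comm]
    rw [h2]
    exact u'.isUnit.mul h1
  refine IsLocalRing.of_isUnit_or_isUnit_one_sub_self fun z => ?_
  obtain ⟨a', ha'⟩ := hS1 z
  rcases IsLocalRing.isUnit_or_isUnit_one_sub_self a' with h | h
  · left
    have := hunit (iL a') (z - iL a') (h.map iL) ha'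
    rwa [add_sub_cancel] at this
  · right
    have h3 : -(z - iL a') ∈ J := J.neg_mem ha'
    have := hunit (iL (1 - a')) (-(z - iL a')) (h.map iL) h3
    have h4 : iL (1 - a') + -(z - iL a') = 1 - z := by rw [map_sub, map_one]; ring
    rwa [h4] at this

end Setup

end H9FE.OlivC
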