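import Mathlib
import Groth.Agent.Lib.Helper9.FE.OlivC1

/-! helper9: Olivier, part C2. After base change to an algebraically closed field which is
algebraic over a quotient domain of `A`, every element of `B` becomes a scalar. -/

set_option autoImplicit false
set_option backward.isDefEq.respectTransparency false
set_option linter.style.haveILetI false
set_option linter.unusedSectionVars false

universe u

open TensorProduct Polynomial

namespace H9FE.OlivC

section Step2

variable {A B : Type u} [CommRing A] [CommRing B] [HenselianLocalRing A] [IsLocalRing B]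
  [IsSepClosed (IsLocalRing.ResidueField A)] [Algebra A B] [IsLocalHom (algebraMap A B)]
  [Algebra.WeaklyEtale A B]

/-- idempotents are integral -/
theorem isIntegralElem_of_isIdempotentElem {R S : Type*} [CommRing R] [CommRing S] (φ : R →+* S)
    {x : S} (hx : IsIdempotentElem x) : φ.IsIntegralElem x := by
  refine ⟨X * (X - C 1), monic_X.mul (monic_X_sub_C 1), ?_⟩
  rw [eval₂_mul, eval₂_X, eval₂_sub, eval₂_X, eval₂_C, map_one, mul_sub, mul_one, hx.eq, sub_self]

/-- idempotents of a local ring are trivial -/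
theorem eq_zero_or_one_of_isIdempotentElem {R : Type*} [CommRing R] [IsLocalRing R] {y : R}
    (hy : IsIdempotentElem y) : y = 0 ∨ y = 1 := by
  have h0 : y * (1 - y) = 0 := by rw [mul_sub, mul_one, hy.eq, sub_self]
  rcases IsLocalRing.isUnit_or_isUnit_one_sub_self y with h | h
  · right
    have := (h.mul_right_eq_zero).mp h0
    exact (sub_eq_zero.mp this).symm
  · left
    exact (h.mul_left_eq_zero).mp h0

set_option maxHeartbeats 2000000 in
/-- (O2) after base change to an algebraically closed field algebraic over a quotient domain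
of `A`, every element of `B` becomes a scalar. -/
theorem exists_tmul_eq (Ā : Type u) [CommRing Ā] [IsDomain Ā] [Algebra A Ā]
    (L : Type u) [Field L] [IsAlgClosed L] [Algebra Ā L] [Algebra A L] [IsScalarTower A Ā L]
    (hsurj : Function.Surjective (algebraMap A Ā)) (hinj : Function.Injective (algebraMap Ā L))
    [Algebra.IsAlgebraic Ā L] (b : B) :
    ∃ α : L, (1 : L) ⊗ₜ[A] b = α ⊗ₜ[A] (1 : B) := by
  classical
  let A' : Subalgebra Ā L := integralClosure Ā L
  haveI hfr : IsFractionRing ↥A' L :=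
    integralClosure.isFractionRing_of_algebraic (A := Ā) (L := L)
      (fun x hx => hinj (by rw [hx, map_zero]))
  haveI : IsIntegrallyClosed ↥A' :=
    (isIntegrallyClosed_iff_isIntegrallyClosedIn L).mpr inferInstance
  haveI : Algebra.IsIntegral A Ā := Algebra.isIntegral_of_surjective hsurj
  haveI : Algebra.IsIntegral A ↥A' := by
    constructor
    intro x
    have h1 : IsIntegral Ā (x : L) := x.2
    have h2 : IsIntegral A (x : L) := isIntegral_trans (R := A) (A := Ā) (x : L) h1
    exact (isIntegral_algHom_iff (A'.val.restrictScalars A) Subtype.val_injective).mp h2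
  haveI : IsLocalRing ↥A' := Groth.Agent.Helper7.Hensel.isLocalRing_of_isIntegral_domain A ↥A'
  haveI : IsLocalRing (↥A' ⊗[A] B) := isLocalRing_tensor ↥A'
  let ec : L ⊗[↥A'] (↥A' ⊗[A] B) ≃ₐ[↥A'] L ⊗[A] B :=
    Algebra.TensorProduct.cancelBaseChange A ↥A' ↥A' L B
  rcases subsingleton_or_nontrivial (L ⊗[↥A'] (↥A' ⊗[A] B)) with hsub | hnt
  · haveI : Subsingleton (L ⊗[A] B) := ec.symm.injective.subsingleton
    exact ⟨0, Subsingleton.elim _ _⟩
  set β : L ⊗[↥A'] (↥A' ⊗[A] B) := (1 : L) ⊗ₜ[↥A'] ((1 : ↥A') ⊗ₜ[A] b) with hβ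
  obtain ⟨f, hfsep, hf⟩ :=
    Groth.Agent.Helper9.WEtField.isSepElem_of_weaklyEtale L (L ⊗[↥A'] (↥A' ⊗[A] B)) β
  have hf0 : f ≠ 0 := hfsep.ne_zero
  have hsplit : f.Splits := IsAlgClosed.splits f
  have hnodup : f.roots.Nodup := Polynomial.nodup_roots hfsep
  let s : Finset L := f.roots.toFinset
  have hprod : ∏ a ∈ s, (β - algebraMap L (L ⊗[↥A'] (↥A' ⊗[A] B)) a) = 0 := by
    have h1 := hsplit.eq_prod_roots
    have h2 : aeval β f = algebraMap L (L ⊗[↥A'] (↥A' ⊗[A] B)) f.leadingCoeff *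
        (f.roots.map (fun a => β - algebraMap L (L ⊗[↥A'] (↥A' ⊗[A] B)) a)).prod := by
      conv_lhs => rw [h1]
      rw [map_mul, aeval_C, map_multiset_prod, Multiset.map_map]
      congr 2
      apply Multiset.map_congr rfl
      intro a _
      simp
    have h3 : (f.roots.map (fun a => β - algebraMap L (L ⊗[↥A'] (↥A' ⊗[A] B)) a)).prod = 0 := by
      rw [hf, ← Algebra.smul_def] at h2
      exact (smul_eq_zero.mp h2.symm).resolve_left (Polynomial.leadingCoeff_ne_zero.mpr hf0)
    rw [Finset.prod_eq_multiset_prod]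
    have h4 : s.val = f.roots := by
      simp only [s, Multiset.toFinset_val]
      exact Multiset.dedup_eq_self.mpr hnodup
    rw [h4]
    exact h3
  obtain ⟨e, he_idem, he_mul, he_sum⟩ := H9FE.OlivB.exists_idempotents β s hprod
  have hinjR : Function.Injective
      (Algebra.TensorProduct.includeRight : (↥A' ⊗[A] B) →ₐ[↥A'] L ⊗[↥A'] (↥A' ⊗[A] B)) :=
    Algebra.TensorProduct.includeRight_injective (IsFractionRing.injective ↥A' L)
  have he01 : ∀ a ∈ s, e a = 0 ∨ e a = 1 := by
    intro a ha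
    have hint : (Algebra.TensorProduct.includeRight :
        (↥A' ⊗[A] B) →ₐ[↥A'] L ⊗[↥A'] (↥A' ⊗[A] B)).toRingHom.IsIntegralElem (e a) :=
      isIntegralElem_of_isIdempotentElem _ (he_idem a ha)
    obtain ⟨y, hy⟩ := H9FE.OlivB.exists_eq_of_isIntegralElem ↥A' L (↥A' ⊗[A] B) (e a) hint
    have hyi : IsIdempotentElem y := by
      apply hinjR
      change (1 : L) ⊗ₜ[↥A'] (y * y) = (1 : L) ⊗ₜ[↥A'] y
      have h5 := (he_idem a ha).eq
      rw [hy, Algebra.TensorProduct.tmul_mul_tmul, mul_one] at h5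
      exact h5
    rcases eq_zero_or_one_of_isIdempotentElem hyi with h | h
    · left; rw [hy, h, TensorProduct.tmul_zero]
    · right; rw [hy, h]; rfl
  have hex : ∃ a₀ ∈ s, e a₀ = 1 := by
    by_contra hcon
    push Not at hcon
    have hall : ∀ a ∈ s, e a = 0 := fun a ha => (he01 a ha).resolve_right (hcon a ha)
    have : (1 : L ⊗[↥A'] (↥A' ⊗[A] B)) = 0 := by
      rw [← he_sum]; exact Finset.sum_eq_zero hall
    exact one_ne_zero this
  obtain ⟨a₀, ha₀, he₀⟩ := hex
  have hβa : β = a₀ • (1 : L ⊗[↥A'] (↥A' ⊗[A] B)) := by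
    have := he_mul a₀ ha₀
    rwa [he₀, mul_one] at this
  refine ⟨a₀, ?_⟩
  have h6 : ec β = ec (a₀ • (1 : L ⊗[↥A'] (↥A' ⊗[A] B))) := congrArg ec hβa
  have h8 : ec β = (1 : L) ⊗ₜ[A] b := by
    rw [hβ]
    refine (Algebra.TensorProduct.cancelBaseChange_tmul A ↥A' ↥A' L B
      (1 : L) (1 : ↥A') b).trans ?_
    rw [one_smul]
  have h7 : a₀ • (1 : L ⊗[↥A'] (↥A' ⊗[A] B)) = a₀ ⊗ₜ[↥A'] ((1 : ↥A') ⊗ₜ[A] (1 : B)) := by
    rw [Algebra.TensorProduct.one_def, TensorProduct.smul_tmul', smul_eq_mul, mul_one]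
    rfl
  have h9 : ec (a₀ • (1 : L ⊗[↥A'] (↥A' ⊗[A] B))) = a₀ ⊗ₜ[A] (1 : B) := by
    rw [h7]
    refine (Algebra.TensorProduct.cancelBaseChange_tmul A ↥A' ↥A' L B
      a₀ (1 : ↥A') (1 : B)).trans ?_
    rw [one_smul]
  rw [← h8, h6, h9]

end Step2

end H9FE.OlivC
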