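import Mathlib
import Groth.Agent.Lib.Helper9.FE.OlivC2

/-! helper9: Olivier, part C3. **Olivier's theorem**: a weakly étale local homomorphism from
a strictly henselian local ring to a local ring is an isomorphism (Stacks 092Z). -/

set_option autoImplicit false
set_option backward.isDefEq.respectTransparency false
set_option linter.style.haveILetI false
set_option linter.unusedSectionVars false

universe u

open TensorProduct Polynomial

namespace H9FE.OlivC

section Final

variable {A B : Type u} [CommRing A] [CommRing B] [HenselianLocalRing A] [IsLocalRing B]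
  [IsSepClosed (IsLocalRing.ResidueField A)] [Algebra A B] [IsLocalHom (algebraMap A B)]
  [Algebra.WeaklyEtale A B]

/-- (O3) two ring homomorphisms from `B` to an algebraically closed field which agree on `A`
are equal. -/
theorem ringHom_ext_of_isAlgClosed (F : Type u) [Field F] [IsAlgClosed F] (χ : A →+* F)
    (ρ₁ ρ₂ : B →+* F) (h₁ : ρ₁.comp (algebraMap A B) = χ) (h₂ : ρ₂.comp (algebraMap A B) = χ) :
    ρ₁ = ρ₂ := by
  let p : Ideal A := RingHom.ker χ
  haveI : p.IsPrime := RingHom.ker_isPrime χ
  let χ' : (A ⧸ p) →+* F := RingHom.kerLift χ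
  have hχ' : Function.Injective χ' := RingHom.kerLift_injective χ
  let χK : FractionRing (A ⧸ p) →+* F := IsFractionRing.lift hχ'
  letI : Algebra (FractionRing (A ⧸ p)) F := χK.toAlgebra
  let ι : AlgebraicClosure (FractionRing (A ⧸ p)) →ₐ[FractionRing (A ⧸ p)] F := IsAlgClosed.lift
  letI : Algebra A F := χ.toAlgebra
  have hι : ∀ a : A, ι (algebraMap A (AlgebraicClosure (FractionRing (A ⧸ p))) a) = χ a := by
    intro a
    have h3 : algebraMap A (AlgebraicClosure (FractionRing (A ⧸ p))) a =
        algebraMap (FractionRing (A ⧸ p)) (AlgebraicClosure (FractionRing (A ⧸ p)))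
          (algebraMap (A ⧸ p) (FractionRing (A ⧸ p)) (Ideal.Quotient.mk p a)) := by
      rw [IsScalarTower.algebraMap_apply A (FractionRing (A ⧸ p))
        (AlgebraicClosure (FractionRing (A ⧸ p))),
        IsScalarTower.algebraMap_apply A (A ⧸ p) (FractionRing (A ⧸ p))]
      rfl
    rw [h3, AlgHom.commutes]
    change χK (algebraMap (A ⧸ p) (FractionRing (A ⧸ p)) _) = _
    rw [IsFractionRing.lift_algebraMap]
    rfl
  haveI : Algebra.IsAlgebraic (A ⧸ p) (AlgebraicClosure (FractionRing (A ⧸ p))) :=
    (IsFractionRing.comap_isAlgebraic_iff (A := A ⧸ p) (K := FractionRing (A ⧸ p))).mpr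
      inferInstance
  have hinj : Function.Injective
      (algebraMap (A ⧸ p) (AlgebraicClosure (FractionRing (A ⧸ p)))) := by
    rw [IsScalarTower.algebraMap_eq (A ⧸ p) (FractionRing (A ⧸ p))
      (AlgebraicClosure (FractionRing (A ⧸ p)))]
    exact (algebraMap (FractionRing (A ⧸ p)) _).injective.comp
      (IsFractionRing.injective (A ⧸ p) (FractionRing (A ⧸ p)))
  let ιA : AlgebraicClosure (FractionRing (A ⧸ p)) →ₐ[A] F :=
    { ι.toRingHom with commutes' := hι }
  let ρ₁' : B →ₐ[A] F := { ρ₁ with commutes' := fun a => RingHom.congr_fun h₁ a }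
  let ρ₂' : B →ₐ[A] F := { ρ₂ with commutes' := fun a => RingHom.congr_fun h₂ a }
  ext b
  obtain ⟨α, hα⟩ := exists_tmul_eq (A := A) (B := B) (A ⧸ p)
    (AlgebraicClosure (FractionRing (A ⧸ p))) Ideal.Quotient.mk_surjective hinj b
  have e1 := congrArg (Algebra.TensorProduct.productMap ιA ρ₁') hα
  have e2 := congrArg (Algebra.TensorProduct.productMap ιA ρ₂') hα
  rw [Algebra.TensorProduct.productMap_apply_tmul, Algebra.TensorProduct.productMap_apply_tmul,
    map_one, map_one, one_mul, mul_one] at e1 e2
  change ρ₁ b = ι α at e1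
  change ρ₂ b = ι α at e2
  rw [e1, e2]

/-- (O4) the diagonal of `B` over `A` is an isomorphism. -/
theorem lmul'_injective : Function.Injective (Algebra.TensorProduct.lmul' A (S := B)) := by
  have hsurj : Function.Surjective (Algebra.TensorProduct.lmul' A (S := B)).toRingHom := by
    intro c
    exact ⟨c ⊗ₜ 1, by simp⟩
  have hprime : ∀ (P : Ideal (B ⊗[A] B)) [P.IsPrime], KaehlerDifferential.ideal A B ≤ P := by
    intro P hP
    rw [← KaehlerDifferential.span_range_eq_ideal, Ideal.span_le]
    rintro _ ⟨b, rfl⟩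
    let F := AlgebraicClosure (FractionRing ((B ⊗[A] B) ⧸ P))
    let σ : (B ⊗[A] B) →+* F := algebraMap (B ⊗[A] B) F
    have hσ : ∀ x, σ x = 0 → x ∈ P := by
      intro x hx
      have h1 : σ x = algebraMap (FractionRing ((B ⊗[A] B) ⧸ P)) F
          (algebraMap ((B ⊗[A] B) ⧸ P) (FractionRing ((B ⊗[A] B) ⧸ P))
            (Ideal.Quotient.mk P x)) := by
        change algebraMap (B ⊗[A] B) F x = _
        rw [IsScalarTower.algebraMap_apply (B ⊗[A] B) (FractionRing ((B ⊗[A] B) ⧸ P)) F,
          IsScalarTower.algebraMap_apply (B ⊗[A] B) ((B ⊗[A] B) ⧸ P)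
            (FractionRing ((B ⊗[A] B) ⧸ P))]
        rfl
      rw [h1, map_eq_zero_iff _ (algebraMap (FractionRing ((B ⊗[A] B) ⧸ P)) F).injective,
        map_eq_zero_iff _ (IsFractionRing.injective _ _)] at hx
      exact Ideal.Quotient.eq_zero_iff_mem.mp hx
    let ρ₁ : B →+* F := σ.comp
      (Algebra.TensorProduct.includeLeft : B →ₐ[A] B ⊗[A] B).toRingHom
    let ρ₂ : B →+* F := σ.comp
      (Algebra.TensorProduct.includeRight : B →ₐ[A] B ⊗[A] B).toRingHom
    have h12 : ρ₁ = ρ₂ := by
      refine ringHom_ext_of_isAlgClosed F (ρ₁.comp (algebraMap A B)) ρ₁ ρ₂ rfl ?_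
      ext a
      change σ ((1 : B) ⊗ₜ[A] (algebraMap A B a)) = σ ((algebraMap A B a) ⊗ₜ[A] (1 : B))
      congr 1
      rw [Algebra.algebraMap_eq_smul_one, TensorProduct.tmul_smul, TensorProduct.smul_tmul']
    apply hσ
    rw [map_sub, sub_eq_zero]
    exact (RingHom.congr_fun h12 b).symm
  -- kernel is nil and pure, hence zero
  rw [injective_iff_map_eq_zero]
  intro x hx
  have hxI : (Algebra.TensorProduct.lmul' A (S := B)).toRingHom x = 0 := hx
  obtain ⟨γ, hγ0, hγ⟩ := H9FE.OlivA.exists_mul_eq_of_flat_surjective _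
    (Algebra.WeaklyEtale.flat_lmul' A B) hsurj hxI
  have hγnil : IsNilpotent γ := by
    rw [← mem_nilradical, nilradical_eq_sInf, Ideal.mem_sInf]
    intro P hP
    haveI : P.IsPrime := hP
    exact hprime P hγ0
  obtain ⟨n, hn⟩ := hγnil
  have hpow : ∀ k : ℕ, x = x * γ ^ k := by
    intro k
    induction k with
    | zero => simp
    | succ k ih => rw [pow_succ, ← mul_assoc, ← ih, ← hγ]
  rw [hpow n, hn, mul_zero]

/-- **Olivier's theorem.** A weakly étale local homomorphism from a strictly henselian local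
ring to a local ring is an isomorphism. -/
theorem bijective_algebraMap : Function.Bijective (algebraMap A B) := by
  haveI : Module.FaithfullyFlat A B := Module.FaithfullyFlat.of_flat_of_isLocalHom
  have hinj : Function.Injective (algebraMap A B) :=
    FaithfulSMul.algebraMap_injective A B
  refine ⟨hinj, ?_⟩
  have hs : Function.Surjective ((Algebra.linearMap A B).lTensor B) := by
    intro z
    induction z using TensorProduct.induction_on with
    | zero => exact ⟨0, map_zero _⟩
    | tmul b₁ b₂ =>
      refine ⟨(b₁ * b₂) ⊗ₜ[A] (1 : A), ?_⟩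
      apply lmul'_injective
      simp
    | add x y hx hy =>
      obtain ⟨x', rfl⟩ := hx
      obtain ⟨y', rfl⟩ := hy
      exact ⟨x' + y', map_add _ _ _⟩
  exact (Module.FaithfullyFlat.lTensor_surjective_iff_surjective A B (Algebra.linearMap A B)).mp hs

end Final

end H9FE.OlivC
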