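import Mathlib
import Groth.Agent.Lib.Helper9.FE.OlivC3

/-! helper9: Olivier, part D. A local ring weakly étale over a normal domain is a normal
domain. -/

set_option autoImplicit false
set_option backward.isDefEq.respectTransparency false
set_option linter.style.haveILetI false
set_option linter.unusedSectionVars false

universe u

open TensorProduct Polynomial

namespace H9FE.OlivD

/-- A local ring which is weakly étale over a normal domain is a normal domain. -/
theorem isDomain_and_isIntegrallyClosed (A : Type u) [CommRing A] [IsDomain A]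
    [IsIntegrallyClosed A] (B : Type u) [CommRing B] [IsLocalRing B] [Algebra A B]
    [Algebra.WeaklyEtale A B] : IsDomain B ∧ IsIntegrallyClosed B := by
  let K := FractionRing A
  let ι : B →ₐ[A] K ⊗[A] B := Algebra.TensorProduct.includeRight
  have hι : Function.Injective ι :=
    Algebra.TensorProduct.includeRight_injective (IsFractionRing.injective A K)
  haveI : Nontrivial (K ⊗[A] B) := hι.nontrivial
  have hclosed : ∀ z : K ⊗[A] B, ι.toRingHom.IsIntegralElem z → ∃ b, z = ι b := fun z hz => by
    obtain ⟨b, hb⟩ := H9FE.OlivB.exists_eq_of_isIntegralElem A K B z hz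
    exact ⟨b, hb⟩
  have hidem : ∀ e : K ⊗[A] B, IsIdempotentElem e → e = 0 ∨ e = 1 := by
    intro e he
    obtain ⟨b, rfl⟩ := hclosed e (H9FE.OlivC.isIntegralElem_of_isIdempotentElem _ he)
    have hb : IsIdempotentElem b := hι (by rw [map_mul]; exact he.eq)
    rcases H9FE.OlivC.eq_zero_or_one_of_isIdempotentElem hb with h | h
    · left; rw [h, map_zero]
    · right; rw [h, map_one]
  have hunit : ∀ x : K ⊗[A] B, x ≠ 0 → IsUnit x := by
    intro x hx
    obtain ⟨y, hy⟩ := Groth.Agent.Helper9.WEtField.exists_eq_sq_mul_of_flat x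
      (Groth.Agent.Helper9.WEtField.flat_of_weaklyEtale_field K (K ⊗[A] B)
        ((K ⊗[A] B) ⧸ Ideal.span {x}))
    have he : IsIdempotentElem (x * y) := by
      change x * y * (x * y) = x * y
      calc x * y * (x * y) = (x * x * y) * y := by ring
        _ = x * y := by rw [← hy]
    rcases hidem _ he with h | h
    · exfalso; apply hx; rw [hy, mul_assoc, h, mul_zero]
    · exact IsUnit.of_mul_eq_one y h
  haveI : NoZeroDivisors (K ⊗[A] B) := by
    refine ⟨fun {x y} hxy => ?_⟩
    by_cases hx : x = 0
    · exact Or.inl hx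
    · right
      exact (hunit x hx).mul_right_eq_zero.mp hxy
  haveI : IsDomain (K ⊗[A] B) := NoZeroDivisors.to_isDomain _
  haveI : IsDomain B := hι.isDomain ι.toRingHom
  refine ⟨inferInstance, ?_⟩
  rw [isIntegrallyClosed_iff (FractionRing B)]
  intro x hx
  have hg : ∀ y : nonZeroDivisors B, IsUnit (ι.toRingHom y) := by
    intro y
    apply hunit
    intro h0
    have : (y : B) = 0 := hι (by rw [map_zero]; exact h0)
    exact nonZeroDivisors.coe_ne_zero y this
  let l : FractionRing B →+* K ⊗[A] B := IsLocalization.lift hg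
  have hl : ∀ b : B, l (algebraMap B (FractionRing B) b) = ι b := fun b =>
    IsLocalization.lift_eq hg b
  have hz : ι.toRingHom.IsIntegralElem (l x) := by
    obtain ⟨p, hp, hpx⟩ := hx
    refine ⟨p, hp, ?_⟩
    have h1 : ι.toRingHom = l.comp (algebraMap B (FractionRing B)) := by
      ext b
      exact (hl b).symm
    rw [h1, ← Polynomial.hom_eval₂, hpx, map_zero]
  obtain ⟨b, hb⟩ := hclosed (l x) hz
  refine ⟨b, ?_⟩
  apply l.injective
  rw [hl, hb]

end H9FE.OlivD
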