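import Mathlib
import Groth.Prelude.Def_PBC
import Groth.Prelude.Def_ProEtW
import Groth.Agent.Lib.Helper9.FE.WLz4

/-! helper9: for an ideal `I` of `A` with `V(I)` profinite there is an ind-Zariski `A`-algebra `B`
with w-local spectrum, closed points `V(IB)` and `A/I ≅ B/IB`; application to ring maps with
algebraic residue field extensions out of a w-local ring. -/

set_option autoImplicit false
universe u
open PrimeSpectrum Topology

namespace H9FE.WLz5

open H9FE.IZ H9FE.Glue H9FE.WLz4

set_option linter.unusedSectionVars false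
set_option linter.style.haveILetI false

/-- the closed subset `V(I)` as a type -/
abbrev VI (A : Type u) [CommRing A] (I : Ideal A) : Type u := zeroLocus (I : Set A)

section Core

variable (A R : Type u) [CommRing A] [CommRing R] [Algebra A R] (I : Ideal A)
  [CompactSpace (VI A I)] [T2Space (VI A I)] [TotallyDisconnectedSpace (VI A I)]

/-- the map to components -/
def gOf (δ : C(VI A I, PrimeSpectrum R)) : C(VI A I, P0 R) :=
  ⟨fun t => _root_.ConnectedComponents.mk (δ t),
    _root_.ConnectedComponents.continuous_coe.comp δ.continuous⟩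

lemma gOf_apply (δ : C(VI A I, PrimeSpectrum R)) (t : VI A I) :
    gOf A R I δ t = _root_.ConnectedComponents.mk (δ t) := rfl

theorem core (hR : ProEtW.IsWLocal (PrimeSpectrum R)) (hIZ : EtPBC.IsIndZariski A R)
    (δ : C(VI A I, PrimeSpectrum R))
    (h1 : ∀ t, IsClosed ({δ t} : Set (PrimeSpectrum R)))
    (h2 : ∀ t, PrimeSpectrum.comap (algebraMap A R) (δ t) = t.1)
    (h3 : ∀ y : PrimeSpectrum R, PrimeSpectrum.comap (algebraMap A R) y ∈ zeroLocus (I : Set A) →
      IsClosed ({y} : Set (PrimeSpectrum R)))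
    (hA : ∀ p ∈ zeroLocus (I : Set A), IsClosed ({p} : Set (PrimeSpectrum A))) :
    ∃ (B : Type u) (_ : CommRing B) (_ : Algebra A B),
      EtPBC.IsIndZariski A B ∧ ProEtW.IsWLocal (PrimeSpectrum B) ∧
      ProEtW.closedPoints (PrimeSpectrum B) = PrimeSpectrum.zeroLocus (I.map (algebraMap A B)) ∧
      Function.Bijective (Ideal.quotientMap (I.map (algebraMap A B)) (algebraMap A B)
        Ideal.le_comap_map) := by
  haveI tower : @IsScalarTower A R (PF.B R (VI A I) (gOf A R I δ)) Algebra.toSMul Algebra.toSMul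
      Algebra.toSMul := IsScalarTower.of_algebraMap_eq (fun a => rfl)
  have hIZB : EtPBC.IsIndZariski A (PF.B R (VI A I) (gOf A R I δ)) :=
    isIndZariski_B_of_tower A R (VI A I) (gOf A R I δ) hIZ
  have hWB := PF.isWLocal_B R (VI A I) (gOf A R I δ) hR
  have hcomap : ∀ z : PrimeSpectrum (PF.B R (VI A I) (gOf A R I δ)),
      PrimeSpectrum.comap (algebraMap A (PF.B R (VI A I) (gOf A R I δ))) z =
        PrimeSpectrum.comap (algebraMap A R)
          (PrimeSpectrum.comap (algebraMap R (PF.B R (VI A I) (gOf A R I δ))) z) := by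
    intro z
    rw [← PrimeSpectrum.comap_comp_apply, ← IsScalarTower.algebraMap_eq]
  have hkey : ∀ z : PrimeSpectrum (PF.B R (VI A I) (gOf A R I δ)),
      IsClosed ({PrimeSpectrum.comap (algebraMap R (PF.B R (VI A I) (gOf A R I δ))) z} :
        Set (PrimeSpectrum R)) →
      PrimeSpectrum.comap (algebraMap R (PF.B R (VI A I) (gOf A R I δ))) z =
        δ (PF.tau R (VI A I) (gOf A R I δ) z) := by
    intro z hz
    by_contra hne
    exact H9FE.WLoc.mk_ne_mk_of_isWLocal hR _ _ hz (h1 _) hne
      (PF.mk_comap_eq R (VI A I) (gOf A R I δ) z)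
  have hmemiff : ∀ z : PrimeSpectrum (PF.B R (VI A I) (gOf A R I δ)),
      z ∈ zeroLocus (I.map (algebraMap A (PF.B R (VI A I) (gOf A R I δ))) :
        Set (PF.B R (VI A I) (gOf A R I δ))) ↔
      PrimeSpectrum.comap (algebraMap A (PF.B R (VI A I) (gOf A R I δ))) z ∈
        zeroLocus (I : Set A) := by
    intro z
    rw [PrimeSpectrum.mem_zeroLocus, PrimeSpectrum.mem_zeroLocus, SetLike.coe_subset_coe,
      SetLike.coe_subset_coe, Ideal.map_le_iff_le_comap]
    rfl
  have hcp : ProEtW.closedPoints (PrimeSpectrum (PF.B R (VI A I) (gOf A R I δ))) =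
      PrimeSpectrum.zeroLocus (I.map (algebraMap A (PF.B R (VI A I) (gOf A R I δ)))) := by
    ext z
    rw [hmemiff]
    constructor
    · intro hz
      have hy := (PF.isClosed_singleton_iff R _ _ z).mp hz
      rw [hcomap, hkey z hy, h2]
      exact (PF.tau R _ _ z).2
    · intro hz
      apply (PF.isClosed_singleton_iff R _ _ z).mpr
      apply h3
      rw [← hcomap]
      exact hz
  refine ⟨PF.B R (VI A I) (gOf A R I δ), inferInstance, inferInstance, hIZB, hWB, hcp, ?_⟩
  apply quotient_bijective A _ I hIZB hA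
  · intro q hq
    have hq' : q ∈ PrimeSpectrum.zeroLocus
      (I.map (algebraMap A (PF.B R (VI A I) (gOf A R I δ))) : Set _) := hq
    rw [← hcp] at hq'
    exact hq'
  · intro p hp
    have hZ : (δ ⟨p, hp⟩, (⟨p, hp⟩ : VI A I)) ∈ PF.Z R (VI A I) (gOf A R I δ) := rfl
    rw [← PF.range_psi] at hZ
    obtain ⟨z, hz⟩ := hZ
    refine ⟨z, ?_⟩
    rw [hcomap, ← PF.psi_fst, hz, h2]
  · intro z hz z' hz' heq
    have hzc : z ∈ PrimeSpectrum.zeroLocus
      (I.map (algebraMap A (PF.B R (VI A I) (gOf A R I δ))) : Set _) := hz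
    have hzc' : z' ∈ PrimeSpectrum.zeroLocus
      (I.map (algebraMap A (PF.B R (VI A I) (gOf A R I δ))) : Set _) := hz'
    rw [← hcp] at hzc hzc'
    have hy := (PF.isClosed_singleton_iff R _ _ z).mp hzc
    have hy' := (PF.isClosed_singleton_iff R _ _ z').mp hzc'
    have e1 : PrimeSpectrum.comap (algebraMap A (PF.B R (VI A I) (gOf A R I δ))) z =
        (PF.tau R _ _ z).1 := by rw [hcomap, hkey z hy, h2]
    have e1' : PrimeSpectrum.comap (algebraMap A (PF.B R (VI A I) (gOf A R I δ))) z' =
        (PF.tau R _ _ z').1 := by rw [hcomap, hkey z' hy', h2]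
    have ht : PF.tau R _ _ z = PF.tau R _ _ z' := Subtype.ext (by rw [← e1, ← e1', heq])
    apply (PF.isClosedEmbedding_psi R _ _).injective
    rw [PF.psi_eq, PF.psi_eq, hkey z hy, hkey z' hy', ht]

end Core

section Inst

variable (A : Type u) [CommRing A] (I : Ideal A)
  [CompactSpace (VI A I)] [T2Space (VI A I)] [TotallyDisconnectedSpace (VI A I)]

lemma continuous_val_cons :
    @Continuous (VI A I) (PrimeSpectrum A) _ (constructibleTopology (PrimeSpectrum A))
      Subtype.val := by
  refine (continuous_generateFrom_iff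
    (b := constructibleTopologySubbasis (PrimeSpectrum A))).mpr ?_
  intro s hs
  rcases hs with ⟨ho, -⟩ | ⟨hcl, hc⟩
  · exact ho.preimage continuous_subtype_val
  · rw [← isClosed_compl_iff, ← Set.preimage_compl]
    apply IsCompact.isClosed
    exact (PrimeSpectrum.isClosed_zeroLocus (I : Set A)).isClosedEmbedding_subtypeVal.isCompact_preimage
      hc

/-- `V(I) → (Spec A)_cons` -/
def toCons (t : VI A I) : WLz.Tc A := WithTopology.toTopology _ t.1

lemma continuous_toCons : Continuous (toCons A I) := by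
  rw [continuous_def]
  intro s hs
  rw [WithConstructibleTopology.isOpen_iff] at hs
  exact (@continuous_def _ _ _ (constructibleTopology (PrimeSpectrum A)) _).mp
    (continuous_val_cons A I) _ hs

lemma exists_delta (t : VI A I) : ∃ y : PrimeSpectrum (WLz.Aw A),
    WLz.psi A y = (t.1, toCons A I t) :=
  WLz.exists_psi_eq A (WLz.diag_mem A (toCons A I t))

/-- the closed point of `Spec A_w` over a point of `V(I)` -/
noncomputable def deltaFun (t : VI A I) : PrimeSpectrum (WLz.Aw A) := (exists_delta A I t).choose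

lemma psi_deltaFun (t : VI A I) : WLz.psi A (deltaFun A I t) = (t.1, toCons A I t) :=
  (exists_delta A I t).choose_spec

lemma continuous_deltaFun : Continuous (deltaFun A I) := by
  rw [(WLz.isEmbedding_psi A).isInducing.continuous_iff]
  have h : WLz.psi A ∘ deltaFun A I = fun t => (t.1, toCons A I t) :=
    funext fun t => psi_deltaFun A I t
  rw [h]
  exact continuous_subtype_val.prodMk (continuous_toCons A I)

/-- the continuous section over `V(I)` -/
noncomputable def delta : C(VI A I, PrimeSpectrum (WLz.Aw A)) :=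
  ⟨deltaFun A I, continuous_deltaFun A I⟩

lemma psi_delta (t : VI A I) : WLz.psi A (delta A I t) = (t.1, toCons A I t) :=
  psi_deltaFun A I t

lemma isClosed_delta (t : VI A I) :
    IsClosed ({delta A I t} : Set (PrimeSpectrum (WLz.Aw A))) := by
  rw [WLz.isClosed_singleton_iff, psi_delta]
  rfl

lemma comap_delta (t : VI A I) :
    PrimeSpectrum.comap (algebraMap A (WLz.Aw A)) (delta A I t) = t.1 := by
  rw [← WLz.psi_fst, psi_delta]

lemma isClosed_of_comap_isClosed (y : PrimeSpectrum (WLz.Aw A))
    (hy : IsClosed ({PrimeSpectrum.comap (algebraMap A (WLz.Aw A)) y} : Set (PrimeSpectrum A))) :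
    IsClosed ({y} : Set (PrimeSpectrum (WLz.Aw A))) := by
  rw [WLz.isClosed_singleton_iff]
  rw [← WLz.psi_fst] at hy
  have hmax : (WLz.psi A y).1.asIdeal.IsMaximal :=
    (PrimeSpectrum.isClosed_singleton_iff_isMaximal _).mp hy
  have hle : (WLz.psi A y).1.asIdeal ≤ (WithTopology.ofTopology (WLz.psi A y).2).asIdeal :=
    WLz.psi_mem A y
  exact PrimeSpectrum.ext (hmax.eq_of_le (WithTopology.ofTopology (WLz.psi A y).2).2.ne_top hle)

end Inst

/-- the statement of S0705 -/
theorem main705 (A : Type u) [CommRing A] (I : Ideal A)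
    (hI : ProEtW.IsProfinite (PrimeSpectrum.zeroLocus (R := A) I)) :
    ∃ (B : Type u) (_ : CommRing B) (_ : Algebra A B),
      EtPBC.IsIndZariski A B ∧ ProEtW.IsWLocal (PrimeSpectrum B) ∧
      ProEtW.closedPoints (PrimeSpectrum B) = PrimeSpectrum.zeroLocus (I.map (algebraMap A B)) ∧
      Function.Bijective (Ideal.quotientMap (I.map (algebraMap A B)) (algebraMap A B)
        Ideal.le_comap_map) := by
  have hA := isClosed_singleton_of_isProfinite A I hI
  obtain ⟨i1, i2, i3⟩ := hI
  haveI : CompactSpace (VI A I) := i1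
  haveI : T2Space (VI A I) := i2
  haveI : TotallyDisconnectedSpace (VI A I) := i3
  exact core A (WLz.Aw A) I (WLz.isWLocal A) (WLz.isIndZariski_Aw A) (delta A I)
    (isClosed_delta A I) (comap_delta A I)
    (fun y hy => isClosed_of_comap_isClosed A y (hA _ hy)) hA

section Alg

variable (A B : Type u) [CommRing A] [CommRing B] [Algebra A B]

lemma isMaximal_of_algebraic (q : Ideal B) [q.IsPrime]
    (hp : (q.comap (algebraMap A B)).IsMaximal)
    (halg : Algebra.IsAlgebraic (A ⧸ q.comap (algebraMap A B)) (B ⧸ q)) : q.IsMaximal := by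
  letI := Ideal.Quotient.field (q.comap (algebraMap A B))
  haveI : Algebra.IsIntegral (A ⧸ q.comap (algebraMap A B)) (B ⧸ q) :=
    Algebra.IsAlgebraic.isIntegral
  apply Ideal.Quotient.maximal_of_isField
  exact isField_of_isIntegral_of_isField' (R := A ⧸ q.comap (algebraMap A B)) (Field.toIsField _)

/-- the statement of S0737 -/
theorem main737 (hA : ProEtW.IsWLocal (PrimeSpectrum A)) (I : Ideal A) (hI : I.IsRadical)
    (hI0 : PrimeSpectrum.zeroLocus (R := A) I = ProEtW.closedPoints (PrimeSpectrum A))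
    (h : ProEtW.AlgebraicResidueExtensions A B) :
    PrimeSpectrum.zeroLocus (R := B) (I.map (algebraMap A B)) ⊆
      ProEtW.closedPoints (PrimeSpectrum B) ∧
    ∃ (C : Type u) (_ : CommRing C) (_ : Algebra B C) (_ : Algebra A C)
      (_ : IsScalarTower A B C),
      EtPBC.IsIndZariski B C ∧
      Function.Bijective (Ideal.quotientMap ((I.map (algebraMap A B)).map (algebraMap B C))
        (algebraMap B C) Ideal.le_comap_map) ∧
      ProEtW.IsWLocal (PrimeSpectrum C) ∧
      ProEtW.IsWLocalMap (PrimeSpectrum.comap (algebraMap A C)) ∧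
      ProEtW.closedPoints (PrimeSpectrum C) =
        PrimeSpectrum.comap (algebraMap A C) ⁻¹' ProEtW.closedPoints (PrimeSpectrum A) := by
  have hJ : ∀ q ∈ zeroLocus (I.map (algebraMap A B) : Set B),
      IsClosed ({q} : Set (PrimeSpectrum B)) := by
    intro q hq
    rw [PrimeSpectrum.mem_zeroLocus, SetLike.coe_subset_coe, Ideal.map_le_iff_le_comap] at hq
    have hp : PrimeSpectrum.comap (algebraMap A B) q ∈ zeroLocus (I : Set A) := by
      rw [PrimeSpectrum.mem_zeroLocus, SetLike.coe_subset_coe]
      exact hq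
    rw [hI0] at hp
    have hmax : (q.asIdeal.comap (algebraMap A B)).IsMaximal :=
      (PrimeSpectrum.isClosed_singleton_iff_isMaximal _).mp hp
    have hqmax := isMaximal_of_algebraic A B q.asIdeal hmax (h q.asIdeal)
    exact (PrimeSpectrum.isClosed_singleton_iff_isMaximal _).mpr hqmax
  refine ⟨fun q hq => hJ q hq, ?_⟩
  have hprof := isProfinite_zeroLocus B (I.map (algebraMap A B)) hJ
  obtain ⟨C, iC, algC, hIZ, hW, hcp, hbij⟩ := main705 B (I.map (algebraMap A B)) hprof
  letI alg : Algebra A C := ((algebraMap B C).comp (algebraMap A B)).toAlgebra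
  haveI tower : IsScalarTower A B C := IsScalarTower.of_algebraMap_eq (fun _ => rfl)
  have hmem : ∀ y : PrimeSpectrum C,
      y ∈ zeroLocus ((I.map (algebraMap A B)).map (algebraMap B C) : Set C) ↔
      PrimeSpectrum.comap (algebraMap A C) y ∈ zeroLocus (I : Set A) := by
    intro y
    rw [PrimeSpectrum.mem_zeroLocus, PrimeSpectrum.mem_zeroLocus, SetLike.coe_subset_coe,
      SetLike.coe_subset_coe, Ideal.map_map, Ideal.map_le_iff_le_comap]
    rfl
  have hcp' : ProEtW.closedPoints (PrimeSpectrum C) =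
      PrimeSpectrum.comap (algebraMap A C) ⁻¹' ProEtW.closedPoints (PrimeSpectrum A) := by
    ext y
    rw [hcp, ← hI0, Set.mem_preimage]
    exact hmem y
  refine ⟨C, iC, algC, alg, tower, hIZ, hbij, hW, ⟨isSpectralMap_comap _, fun y hy => ?_⟩, hcp'⟩
  have hy' : y ∈ ProEtW.closedPoints (PrimeSpectrum C) := hy
  rw [hcp'] at hy'
  exact hy'

end Alg

end H9FE.WLz5
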