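import Mathlib
import Groth.Prelude.Def_PBC
import Groth.Prelude.Def_ProEtW
import Groth.Prelude.Def_EtBase
import Groth.Agent.Lib.Helper9.FE.WStr2
import Groth.Agent.Lib.Helper9.FE.WLz
import Groth.Agent.Lib.Helper9.FE.WLz5
import Groth.Agent.Lib.Helper9.FE.EtCov3
import Groth.Agent.Lib.Helper6.IndEtComp
import Groth.Agent.Lib.Helper7.EtRetr.Main
import Groth.Agent.Lib.Helper2.Ring.StrictHensTransfer

/-! helper9: every ring has a faithfully flat ind-étale cover whose spectrum is w-local, whose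
closed points surject onto the spectrum of the base, and all of whose local rings at maximal
ideals are strictly henselian. -/

set_option autoImplicit false
universe u
open CategoryTheory Limits TensorProduct

namespace H9FE.WStr

open H9FE.IZ Groth.Agent.Lib.Helper6

set_option linter.unusedSectionVars false
set_option linter.style.haveILetI false

theorem ideal_of_closedPoints (R : Type u) [CommRing R]
    (hW : ProEtW.IsWLocal (PrimeSpectrum R)) :
    (PrimeSpectrum.vanishingIdeal (ProEtW.closedPoints (PrimeSpectrum R))).IsRadical ∧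
    PrimeSpectrum.zeroLocus (R := R)
      (PrimeSpectrum.vanishingIdeal (ProEtW.closedPoints (PrimeSpectrum R))) =
      ProEtW.closedPoints (PrimeSpectrum R) := by
  refine ⟨PrimeSpectrum.isRadical_vanishingIdeal _, ?_⟩
  rw [PrimeSpectrum.zeroLocus_vanishingIdeal_eq_closure]
  exact hW.2.1.closure_eq

/-- the w-strictly-local cover -/
theorem goalW (A : Type u) [CommRing A] :
    ∃ (C : Type u) (_ : CommRing C) (_ : Algebra A C),
      Module.FaithfullyFlat A C ∧ EtPBC.IsIndEtale A C ∧ ProEtW.IsWLocal (PrimeSpectrum C) ∧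
      PrimeSpectrum.comap (algebraMap A C) '' ProEtW.closedPoints (PrimeSpectrum C) = Set.univ ∧
      ∀ (m : Ideal C) [m.IsMaximal],
        EtCoh.IsStrictlyHenselianLocalRing (Localization.AtPrime m) := by
  have hW' : ProEtW.IsWLocal (PrimeSpectrum (WLz.Aw A)) := WLz.isWLocal A
  have hIZ' : EtPBC.IsIndZariski A (WLz.Aw A) := WLz.isIndZariski_Aw A
  obtain ⟨hI, hI0⟩ := ideal_of_closedPoints (WLz.Aw A) hW'
  obtain ⟨C', _, _, hff', hIE', hret'⟩ := H9FE.EtCov.main693 (WLz.Aw A)
  have hSH' : ∀ (n : Ideal C') [n.IsMaximal],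
      EtCoh.IsStrictlyHenselianLocalRing (Localization.AtPrime n) :=
    fun n _ => Groth.Agent.Helper7.EtRetr.main C' hret' n
  have hARE : ProEtW.AlgebraicResidueExtensions (WLz.Aw A) C' :=
    algebraicResidueExtensions_of_isIndEtale _ _ hIE'
  obtain ⟨hcl, C, _, _, _, _, hIZ, hbij, hWC, hWmap, hclC⟩ :=
    H9FE.WLz5.main737 (A := WLz.Aw A) (B := C') hW' _ hI hI0 hARE
  letI algAC : Algebra A C := ((algebraMap (WLz.Aw A) C).comp (algebraMap A (WLz.Aw A))).toAlgebra
  haveI towerAC : @IsScalarTower A (WLz.Aw A) C Algebra.toSMul Algebra.toSMul Algebra.toSMul :=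
    IsScalarTower.of_algebraMap_eq (fun _ => rfl)
  -- ind-étale
  have hAA' : EtPBC.IsIndEtale A (WLz.Aw A) := isIndEtale_of_isIndZariski _ _ hIZ'
  have hC'C : EtPBC.IsIndEtale C' C := isIndEtale_of_isIndZariski _ _ hIZ
  have hA'C : EtPBC.IsIndEtale (WLz.Aw A) C := IndEtComp.comp (WLz.Aw A) C' C hIE' hC'C
  have hAC : EtPBC.IsIndEtale A C := IndEtComp.comp A (WLz.Aw A) C hAA' hA'C
  haveI hflat : Module.Flat A C := (IndEt.weaklyEtale_of_isIndEtale A C hAC).flat
  -- closed points surject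
  have hsurj : ∀ p : PrimeSpectrum A, ∃ w : PrimeSpectrum C,
      w ∈ ProEtW.closedPoints (PrimeSpectrum C) ∧ PrimeSpectrum.comap (algebraMap A C) w = p := by
    intro p
    obtain ⟨y, hy, hyp⟩ := (WLz.bijOn_closedPoints A).surjOn (Set.mem_univ p)
    have hyI : PrimeSpectrum.vanishingIdeal (ProEtW.closedPoints (PrimeSpectrum (WLz.Aw A))) ≤
        y.asIdeal := by
      rw [← hI0, PrimeSpectrum.mem_zeroLocus, SetLike.coe_subset_coe] at hy
      exact hy
    haveI := hff'
    obtain ⟨z, hz⟩ := PrimeSpectrum.comap_surjective_of_faithfullyFlat (A := WLz.Aw A) (B := C') y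
    have hzI : (PrimeSpectrum.vanishingIdeal
        (ProEtW.closedPoints (PrimeSpectrum (WLz.Aw A)))).map (algebraMap (WLz.Aw A) C') ≤
        z.asIdeal := by
      rw [Ideal.map_le_iff_le_comap]
      have h2 := congrArg PrimeSpectrum.asIdeal hz
      exact hyI.trans h2.symm.le
    obtain ⟨w, hw⟩ := exists_comap_eq_of_quotient_bijective _ hbij z hzI
    have hwy : PrimeSpectrum.comap (algebraMap (WLz.Aw A) C) w = y := by
      rw [← hz, ← hw, ← PrimeSpectrum.comap_comp_apply, ← IsScalarTower.algebraMap_eq]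
    refine ⟨w, ?_, ?_⟩
    · rw [hclC]
      show PrimeSpectrum.comap (algebraMap (WLz.Aw A) C) w ∈
        ProEtW.closedPoints (PrimeSpectrum (WLz.Aw A))
      rw [hwy]
      exact hy
    · rw [← hyp, ← hwy, ← PrimeSpectrum.comap_comp_apply, ← IsScalarTower.algebraMap_eq]
  refine ⟨C, inferInstance, algAC, ?_, hAC, hWC, ?_, ?_⟩
  · exact Module.FaithfullyFlat.of_comap_surjective (fun p => by
      obtain ⟨w, _, hw⟩ := hsurj p
      exact ⟨w, hw⟩)
  · rw [Set.eq_univ_iff_forall]
    intro p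
    obtain ⟨w, hw1, hw2⟩ := hsurj p
    exact ⟨w, hw1, hw2⟩
  · intro m hm
    have hmcl : (⟨m, hm.isPrime⟩ : PrimeSpectrum C) ∈ ProEtW.closedPoints (PrimeSpectrum C) :=
      (PrimeSpectrum.isClosed_singleton_iff_isMaximal _).mpr hm
    rw [hclC] at hmcl
    have hmI : PrimeSpectrum.comap (algebraMap (WLz.Aw A) C) ⟨m, hm.isPrime⟩ ∈
        PrimeSpectrum.zeroLocus (R := WLz.Aw A)
          (PrimeSpectrum.vanishingIdeal (ProEtW.closedPoints (PrimeSpectrum (WLz.Aw A)))) := by
      rw [hI0]
      exact hmcl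
    rw [PrimeSpectrum.mem_zeroLocus, SetLike.coe_subset_coe] at hmI
    haveI hnprime : (m.comap (algebraMap C' C)).IsPrime := Ideal.comap_isPrime _ _
    have hnI : (⟨m.comap (algebraMap C' C), hnprime⟩ : PrimeSpectrum C') ∈
        PrimeSpectrum.zeroLocus (R := C') ((PrimeSpectrum.vanishingIdeal
          (ProEtW.closedPoints (PrimeSpectrum (WLz.Aw A)))).map (algebraMap (WLz.Aw A) C')) := by
      rw [PrimeSpectrum.mem_zeroLocus, SetLike.coe_subset_coe, Ideal.map_le_iff_le_comap]
      show _ ≤ (m.comap (algebraMap C' C)).comap (algebraMap (WLz.Aw A) C')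
      rw [Ideal.comap_comap, ← IsScalarTower.algebraMap_eq]
      exact hmI
    haveI hnmax : (m.comap (algebraMap C' C)).IsMaximal :=
      (PrimeSpectrum.isClosed_singleton_iff_isMaximal _).mp (hcl hnI)
    have hSHn := hSH' (m.comap (algebraMap C' C))
    have hILR := identifiesLocalRings_of_isIndZariski C' C hIZ ⟨m, hm.isPrime⟩
    exact Groth.Agent.Helper2.StrictHensTransfer.isStrictlyHenselian_of_ringEquiv
      (RingEquiv.ofBijective _ hILR) hSHn

end H9FE.WStr
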