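import Mathlib
import Groth.Prelude.Def_PBC
import Groth.Prelude.Def_ProEtW
import Groth.Prelude.Def_EtBase
import Groth.Agent.Lib.Helper9.FE.WStr3
import Groth.Agent.Lib.Helper6.IndEtBC

/-! helper9: the w-local ind-étale square over a ring map with algebraic residue field
extensions (statement S0692). -/

set_option autoImplicit false
universe u
open CategoryTheory Limits TensorProduct

namespace H9FE.WStr

open H9FE.IZ Groth.Agent.Lib.Helper6

set_option linter.unusedSectionVars false
set_option linter.style.haveILetI false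

/-- the statement of S0692 -/
theorem main692 (A B : Type u) [CommRing A] [CommRing B] [Algebra A B]
    (h : ProEtW.AlgebraicResidueExtensions A B) :
    ∃ (C D : Type u) (_ : CommRing C) (_ : CommRing D) (_ : Algebra A C) (_ : Algebra B D)
      (_ : Algebra C D) (_ : Algebra A D) (_ : IsScalarTower A C D) (_ : IsScalarTower A B D),
      Module.FaithfullyFlat A C ∧ EtPBC.IsIndEtale A C ∧ Module.FaithfullyFlat B D ∧
      EtPBC.IsIndEtale B D ∧ ProEtW.IsWLocal (PrimeSpectrum C) ∧ ProEtW.IsWLocal (PrimeSpectrum D) ∧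
      ProEtW.IsWLocalMap (PrimeSpectrum.comap (algebraMap C D)) ∧
      ProEtW.closedPoints (PrimeSpectrum D) =
        PrimeSpectrum.comap (algebraMap C D) ⁻¹' ProEtW.closedPoints (PrimeSpectrum C) ∧
      PrimeSpectrum.comap (algebraMap A C) '' ProEtW.closedPoints (PrimeSpectrum C) = Set.univ ∧
      PrimeSpectrum.comap (algebraMap B D) '' ProEtW.closedPoints (PrimeSpectrum D) = Set.univ ∧
      ∀ (m : Ideal C) [m.IsMaximal],
        EtCoh.IsStrictlyHenselianLocalRing (Localization.AtPrime m) := by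
  obtain ⟨C, _, _, hffC, hIEC, hWC, hsurjC, hSHC⟩ := goalW A
  obtain ⟨hJ, hJ0⟩ := ideal_of_closedPoints C hWC
  letI algCD' : Algebra C (B ⊗[A] C) := Algebra.TensorProduct.rightAlgebra
  have hD'ind : EtPBC.IsIndEtale B (B ⊗[A] C) := IndEt.baseChange A C B hIEC
  have hARE' : ProEtW.AlgebraicResidueExtensions C (B ⊗[A] C) := are_baseChange A B C h
  obtain ⟨hcl', D, _, algD'D, algCD, towerCD'D, hIZD, hbijD, hWD, hWmapD, hclD⟩ :=
    H9FE.WLz5.main737 (A := C) (B := B ⊗[A] C) hWC _ hJ hJ0 hARE'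
  letI algBD : Algebra B D :=
    ((algebraMap (B ⊗[A] C) D).comp (algebraMap B (B ⊗[A] C))).toAlgebra
  haveI towerBD'D : @IsScalarTower B (B ⊗[A] C) D Algebra.toSMul Algebra.toSMul Algebra.toSMul :=
    IsScalarTower.of_algebraMap_eq (fun _ => rfl)
  letI algAD : Algebra A D := ((algebraMap C D).comp (algebraMap A C)).toAlgebra
  haveI towerACD : @IsScalarTower A C D Algebra.toSMul Algebra.toSMul Algebra.toSMul :=
    IsScalarTower.of_algebraMap_eq (fun _ => rfl)
  haveI towerABD : @IsScalarTower A B D Algebra.toSMul Algebra.toSMul Algebra.toSMul := by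
    refine IsScalarTower.of_algebraMap_eq (fun a => ?_)
    show algebraMap C D (algebraMap A C a) =
      algebraMap (B ⊗[A] C) D (algebraMap B (B ⊗[A] C) (algebraMap A B a))
    rw [IsScalarTower.algebraMap_apply C (B ⊗[A] C) D]
    congr 1
    exact (tensor_comm_algebraMap A B C a).symm
  -- ind-étale
  have hBD : EtPBC.IsIndEtale B D :=
    IndEtComp.comp B (B ⊗[A] C) D hD'ind (isIndEtale_of_isIndZariski _ _ hIZD)
  haveI hflatBD : Module.Flat B D := (IndEt.weaklyEtale_of_isIndEtale B D hBD).flat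
  -- closed points of D surject onto Spec B
  have hsurjD : ∀ q : PrimeSpectrum B, ∃ Q : PrimeSpectrum D,
      Q ∈ ProEtW.closedPoints (PrimeSpectrum D) ∧ PrimeSpectrum.comap (algebraMap B D) Q = q := by
    intro q
    have hp : PrimeSpectrum.comap (algebraMap A B) q ∈
        PrimeSpectrum.comap (algebraMap A C) '' ProEtW.closedPoints (PrimeSpectrum C) := by
      rw [hsurjC]
      exact Set.mem_univ _
    obtain ⟨c, hc, hcp⟩ := hp
    obtain ⟨Q', hQ'q, hQ'c⟩ := exists_prime_tensor A B C q c hcp.symm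
    have hQ'c' : PrimeSpectrum.comap (algebraMap C (B ⊗[A] C)) Q' = c := hQ'c
    have hQ'q' : PrimeSpectrum.comap (algebraMap B (B ⊗[A] C)) Q' = q := hQ'q
    have hcJ : PrimeSpectrum.vanishingIdeal (ProEtW.closedPoints (PrimeSpectrum C)) ≤
        c.asIdeal := by
      rw [← hJ0, PrimeSpectrum.mem_zeroLocus, SetLike.coe_subset_coe] at hc
      exact hc
    have hQ'J : (PrimeSpectrum.vanishingIdeal (ProEtW.closedPoints (PrimeSpectrum C))).map
        (algebraMap C (B ⊗[A] C)) ≤ Q'.asIdeal := by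
      rw [Ideal.map_le_iff_le_comap]
      have h2 := congrArg PrimeSpectrum.asIdeal hQ'c'
      exact hcJ.trans h2.symm.le
    obtain ⟨Q, hQ⟩ := exists_comap_eq_of_quotient_bijective _ hbijD Q' hQ'J
    have hQc : PrimeSpectrum.comap (algebraMap C D) Q = c := by
      rw [← hQ'c', ← hQ, ← PrimeSpectrum.comap_comp_apply, ← IsScalarTower.algebraMap_eq]
    refine ⟨Q, ?_, ?_⟩
    · rw [hclD]
      show PrimeSpectrum.comap (algebraMap C D) Q ∈ ProEtW.closedPoints (PrimeSpectrum C)
      rw [hQc]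
      exact hc
    · rw [← hQ'q', ← hQ, ← PrimeSpectrum.comap_comp_apply, ← IsScalarTower.algebraMap_eq]
  refine ⟨C, D, inferInstance, inferInstance, inferInstance, algBD, algCD, algAD, towerACD,
    towerABD, hffC, hIEC, ?_, hBD, hWC, hWD, hWmapD, hclD, hsurjC, ?_, hSHC⟩
  · exact Module.FaithfullyFlat.of_comap_surjective (fun q => by
      obtain ⟨Q, _, hQ⟩ := hsurjD q
      exact ⟨Q, hQ⟩)
  · rw [Set.eq_univ_iff_forall]
    intro q
    obtain ⟨Q, hQ1, hQ2⟩ := hsurjD q
    exact ⟨Q, hQ1, hQ2⟩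

end H9FE.WStr
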