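import Mathlib
import Groth.Prelude.Def_PBC
import Groth.Prelude.Def_ProEtW
import Groth.Prelude.Def_EtBase
import Groth.Agent.Lib.Helper9.FE.WStr4
import Groth.Agent.Lib.Helper9.FE.OlivC3
import Groth.Agent.Lib.Helper9.FE.PF3
import Groth.Agent.Lib.Helper5.WEt.Basic

/-! helper9: a weakly étale map out of a ring whose local rings at maximal ideals are strictly
henselian, sending maximal ideals to maximal ideals, identifies local rings (Olivier).
Consequences: weakly étale algebras are ind-étale after a faithfully flat ind-étale extension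
(S0176), and w-contractibility can be tested on ind-étale covers (S0778). -/

set_option autoImplicit false
universe u
open CategoryTheory Limits TensorProduct

namespace H9FE.WStr

open H9FE.IZ Groth.Agent.Lib.Helper6

set_option linter.unusedSectionVars false
set_option linter.style.haveILetI false

theorem identifiesLocalRings_of_weaklyEtale (C D : Type u) [CommRing C] [CommRing D]
    [Algebra C D] [Algebra.WeaklyEtale C D]
    (hmax : ∀ (M : Ideal D) [M.IsMaximal], (M.comap (algebraMap C D)).IsMaximal)
    (hSH : ∀ (m : Ideal C) [m.IsMaximal],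
      EtCoh.IsStrictlyHenselianLocalRing (Localization.AtPrime m)) :
    EtPBC.IdentifiesLocalRings C D := by
  refine identifiesLocalRings_of_maximal C D (fun M hM => ?_)
  haveI hm := hmax M
  obtain ⟨hH, hS⟩ := hSH (M.comap (algebraMap C D))
  haveI := hH
  haveI := hS
  letI algLoc : Algebra (Localization.AtPrime (M.comap (algebraMap C D)))
      (Localization.AtPrime M) :=
    (Localization.localRingHom (M.comap (algebraMap C D)) M (algebraMap C D) rfl).toAlgebra
  haveI hloc : IsLocalHom (algebraMap (Localization.AtPrime (M.comap (algebraMap C D)))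
      (Localization.AtPrime M)) :=
    Localization.isLocalHom_localRingHom _ _ _ rfl
  haveI tower : IsScalarTower C (Localization.AtPrime (M.comap (algebraMap C D)))
      (Localization.AtPrime M) :=
    IsScalarTower.of_algebraMap_eq (fun c => by
      show algebraMap C (Localization.AtPrime M) c =
        Localization.localRingHom _ _ _ rfl (algebraMap C _ c)
      rw [Localization.localRingHom_to_map,
        IsScalarTower.algebraMap_apply C D (Localization.AtPrime M)])
  haveI : Algebra.WeaklyEtale D (Localization.AtPrime M) :=
    Helper5.WEt.weaklyEtale_of_isLocalization M.primeCompl _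
  haveI : Algebra.WeaklyEtale C (Localization.AtPrime M) :=
    Algebra.WeaklyEtale.trans C D (Localization.AtPrime M)
  haveI : Algebra.WeaklyEtale C (Localization.AtPrime (M.comap (algebraMap C D))) :=
    Helper5.WEt.weaklyEtale_of_isLocalization (M.comap (algebraMap C D)).primeCompl _
  haveI : Algebra.WeaklyEtale (Localization.AtPrime (M.comap (algebraMap C D)))
      (Localization.AtPrime M) :=
    Helper5.WEt.weaklyEtale_of_algHom C _ _
  exact H9FE.OlivC.bijective_algebraMap (A := Localization.AtPrime (M.comap (algebraMap C D)))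
    (B := Localization.AtPrime M)

theorem isMaximal_comap_of_isWLocalMap (C D : Type u) [CommRing C] [CommRing D] [Algebra C D]
    (hW : ProEtW.IsWLocalMap (PrimeSpectrum.comap (algebraMap C D))) (M : Ideal D)
    [hM : M.IsMaximal] : (M.comap (algebraMap C D)).IsMaximal := by
  have h1 : IsClosed ({(⟨M, hM.isPrime⟩ : PrimeSpectrum D)} : Set (PrimeSpectrum D)) :=
    (PrimeSpectrum.isClosed_singleton_iff_isMaximal _).mpr hM
  exact (PrimeSpectrum.isClosed_singleton_iff_isMaximal _).mp (hW.2 _ h1)

/-- the statement of S0176 -/
theorem main176 (A B : Type u) [CommRing A] [CommRing B] [Algebra A B]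
    [Algebra.WeaklyEtale A B] :
    ∃ (B' : Type u) (_ : CommRing B') (_ : Algebra B B') (_ : Algebra A B')
      (_ : IsScalarTower A B B'),
      Module.FaithfullyFlat B B' ∧ EtPBC.IsIndEtale B B' ∧ EtPBC.IsIndEtale A B' := by
  have h := algebraicResidueExtensions_of_weaklyEtale A B
  obtain ⟨C, D, _, _, _, _, _, _, towerACD, towerABD, hffC, hIEC, hffD, hIED, hWC, hWD, hWmap,
    hcl, hsC, hsD, hSH⟩ := main692 A B h
  haveI : Algebra.WeaklyEtale A C := IndEt.weaklyEtale_of_isIndEtale A C hIEC
  haveI : Algebra.WeaklyEtale B D := IndEt.weaklyEtale_of_isIndEtale B D hIED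
  haveI : Algebra.WeaklyEtale A D := Algebra.WeaklyEtale.trans A B D
  haveI hCD : Algebra.WeaklyEtale C D := Helper5.WEt.weaklyEtale_of_algHom A C D
  have hILR : EtPBC.IdentifiesLocalRings C D :=
    identifiesLocalRings_of_weaklyEtale C D
      (fun M _ => isMaximal_comap_of_isWLocalMap C D hWmap M) hSH
  have hIZ : EtPBC.IsIndZariski C D :=
    H9FE.PF3.isIndZariski_of_identifiesLocalRings C D hILR hWC hWD hWmap
  exact ⟨D, inferInstance, inferInstance, inferInstance, towerABD, hffD, hIED,
    IndEtComp.comp A C D hIEC (isIndEtale_of_isIndZariski _ _ hIZ)⟩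

/-- the statement of S0778 -/
theorem main778 (A : Type u) [CommRing A] :
    EtPBC.IsWContractible A ↔ ProEtW.HasIndEtaleRetractions A := by
  constructor
  · intro h B _ _ hff hIE
    exact h B hff (IndEt.weaklyEtale_of_isIndEtale A B hIE)
  · intro h B _ _ hff hWE
    haveI := hWE
    obtain ⟨B', _, _, _, tower, hffB', hIEB', hIEAB'⟩ := main176 A B
    haveI := hff
    haveI := hffB'
    have hffAB' : Module.FaithfullyFlat A B' := Module.FaithfullyFlat.trans A B B'
    obtain ⟨r⟩ := h B' hffAB' hIEAB'
    exact ⟨r.comp (IsScalarTower.toAlgHom A B B')⟩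

end H9FE.WStr
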