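import Mathlib

/-! helper9: on a site with a class `B` of "quasi-compact quasi-separated" objects (every covering
of a member of `B` is refined by a finite covering family of members of `B`, and `B` is stable under
fibre products), sections over members of `B` commute with filtered colimits of abelian sheaves:
elementwise form (`sect_surj`, `sect_inj`) for an arbitrary colimit cocone. -/

set_option autoImplicit false
set_option linter.unusedSectionVars false
universe w v u
open CategoryTheory Limits Opposite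

namespace H9FE.SiteSectColim

section Filtered

/-- finitely many eventually true, monotone conditions on arrows out of `j` hold simultaneously -/
lemma eventually_all {J : Type*} [Category J] [IsFiltered J] (j : J) {α : Type*} (s : Finset α)
    (p : α → ∀ k, (j ⟶ k) → Prop)
    (hmono : ∀ a k (f : j ⟶ k) k' (g : k ⟶ k'), p a k f → p a k' (f ≫ g))
    (hex : ∀ a ∈ s, ∃ k f, p a k f) : ∃ k f, ∀ a ∈ s, p a k f := by
  classical
  induction s using Finset.induction_on with
  | empty => exact ⟨j, 𝟙 j, fun a ha => absurd ha (Finset.notMem_empty a)⟩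
  | insert a s ha ih =>
    obtain ⟨k₁, f₁, h₁⟩ := ih (fun b hb => hex b (Finset.mem_insert_of_mem hb))
    obtain ⟨k₂, f₂, h₂⟩ := hex a (Finset.mem_insert_self a s)
    let k₃ := IsFiltered.max k₁ k₂
    let g₁ : j ⟶ k₃ := f₁ ≫ IsFiltered.leftToMax k₁ k₂
    let g₂ : j ⟶ k₃ := f₂ ≫ IsFiltered.rightToMax k₁ k₂
    refine ⟨IsFiltered.coeq g₁ g₂, g₁ ≫ IsFiltered.coeqHom g₁ g₂, ?_⟩
    intro b hb
    rcases Finset.mem_insert.1 hb with rfl | hb
    · rw [IsFiltered.coeq_condition]
      exact hmono _ _ _ _ _ (hmono _ _ _ _ _ h₂)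
    · exact hmono _ _ _ _ _ (hmono _ _ _ _ _ (h₁ b hb))

end Filtered

variable {C : Type u} [Category.{v} C] [HasPullbacks C] (Jt : GrothendieckTopology C)
  [HasSheafify Jt AddCommGrpCat.{w}] [Jt.WEqualsLocallyBijective AddCommGrpCat.{w}]
  [Jt.HasSheafCompose (forget AddCommGrpCat.{w})]

/-- a class of objects all of whose coverings are refined by finite coverings by members of the
class, and which is stable under fibre products -/
structure QcClass (B : Set C) : Prop where
  fin : ∀ V ∈ B, ∀ T ∈ Jt V, ∃ (n : ℕ) (W : Fin n → C) (g : ∀ i, W i ⟶ V),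
    (∀ i, W i ∈ B) ∧ (∀ i, T (g i)) ∧ Sieve.ofArrows W g ∈ Jt V
  pb : ∀ {V W₁ W₂ : C} (g₁ : W₁ ⟶ V) (g₂ : W₂ ⟶ V), V ∈ B → W₁ ∈ B → W₂ ∈ B →
    pullback g₁ g₂ ∈ B

variable {Jt}

section Sheaf

/-- sections of a sheaf which agree on a covering family are equal -/
lemma sheaf_ext (F : Sheaf Jt AddCommGrpCat.{w}) {V : C} {n : ℕ} (W : Fin n → C)
    (g : ∀ i, W i ⟶ V) (hg : Sieve.ofArrows W g ∈ Jt V) (s t : F.obj.obj (op V))
    (h : ∀ i, F.obj.map (g i).op s = F.obj.map (g i).op t) : s = t := by
  have hsh : Presieve.IsSheaf Jt (F.obj ⋙ forget AddCommGrpCat.{w}) :=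
    (isSheaf_iff_isSheaf_of_type Jt _).1 ((sheafCompose Jt (forget AddCommGrpCat.{w})).obj F).2
  refine (hsh _ hg).isSeparatedFor.ext ?_
  rintro Z f ⟨Y, k, l, hl, rfl⟩
  obtain ⟨i⟩ := hl
  have e : F.obj.map (k ≫ g i).op = F.obj.map (g i).op ≫ F.obj.map k.op := by
    rw [op_comp, Functor.map_comp]
  change F.obj.map (k ≫ g i).op s = F.obj.map (k ≫ g i).op t
  rw [e, ConcreteCategory.comp_apply, ConcreteCategory.comp_apply, h i]

/-- gluing sections of a sheaf along a finite covering family, with compatibility on the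
fibre products -/
lemma sheaf_glue (F : Sheaf Jt AddCommGrpCat.{w}) {V : C} {n : ℕ} (W : Fin n → C)
    (g : ∀ i, W i ⟶ V) (hg : Sieve.ofArrows W g ∈ Jt V) (x : ∀ i, F.obj.obj (op (W i)))
    (hx : ∀ i j, F.obj.map (pullback.fst (g i) (g j)).op (x i) =
      F.obj.map (pullback.snd (g i) (g j)).op (x j)) :
    ∃ s : F.obj.obj (op V), ∀ i, F.obj.map (g i).op s = x i := by
  have hsh : Presieve.IsSheaf Jt (F.obj ⋙ forget AddCommGrpCat.{w}) :=
    (isSheaf_iff_isSheaf_of_type Jt _).1 ((sheafCompose Jt (forget AddCommGrpCat.{w})).obj F).2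
  have h1 := hsh _ hg
  rw [Sieve.ofArrows, ← Presieve.isSheafFor_iff_generate,
    Presieve.isSheafFor_arrows_iff_pullbacks] at h1
  obtain ⟨s, hs, -⟩ := h1 x (fun i j => hx i j)
  exact ⟨s, hs⟩

end Sheaf

section Colim

variable {J : Type w} [SmallCategory J] [IsFiltered J] (K : J ⥤ Sheaf Jt AddCommGrpCat.{w})

/-- the diagram of underlying presheaves -/
noncomputable abbrev Kp : J ⥤ Cᵒᵖ ⥤ AddCommGrpCat.{w} := K ⋙ sheafToPresheaf Jt AddCommGrpCat.{w}

/-- the presheaf colimit -/
noncomputable abbrev P : Cᵒᵖ ⥤ AddCommGrpCat.{w} := colimit (Kp K)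

/-- the inclusions into the presheaf colimit, on sections -/
noncomputable abbrev inc (j : J) (W : C) : (K.obj j).obj.obj (op W) ⟶ (P K).obj (op W) :=
  (colimit.ι (Kp K) j).app (op W)

/-- evaluation of the presheaf colimit cocone is a colimit -/
noncomputable def hE (W : C) :
    IsColimit (((evaluation Cᵒᵖ AddCommGrpCat.{w}).obj (op W)).mapCocone (colimit.cocone (Kp K))) :=
  isColimitOfPreserves _ (colimit.isColimit (Kp K))

lemma inc_rep (W : C) (s : (P K).obj (op W)) :
    ∃ (j : J) (y : (K.obj j).obj.obj (op W)), inc K j W y = s :=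
  Concrete.isColimit_exists_rep (Kp K ⋙ (evaluation Cᵒᵖ AddCommGrpCat.{w}).obj (op W)) (hE K W) s

lemma inc_eq (W : C) {i j : J} (x : (K.obj i).obj.obj (op W)) (y : (K.obj j).obj.obj (op W))
    (h : inc K i W x = inc K j W y) :
    ∃ (k : J) (f : i ⟶ k) (g : j ⟶ k), (K.map f).hom.app (op W) x = (K.map g).hom.app (op W) y :=
  Concrete.isColimit_exists_of_rep_eq
    (Kp K ⋙ (evaluation Cᵒᵖ AddCommGrpCat.{w}).obj (op W)) (hE K W) x y h

lemma inc_map (W : C) {i j : J} (f : i ⟶ j) (x : (K.obj i).obj.obj (op W)) :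
    inc K j W ((K.map f).hom.app (op W) x) = inc K i W x := by
  have h := colimit.w (Kp K) f
  have h2 := congrArg (fun τ => τ.app (op W)) h
  exact ConcreteCategory.congr_hom h2 x

lemma inc_res {W W' : C} (h : W' ⟶ W) (j : J) (x : (K.obj j).obj.obj (op W)) :
    (P K).map h.op (inc K j W x) = inc K j W' ((K.obj j).obj.map h.op x) :=
  (ConcreteCategory.congr_hom ((colimit.ι (Kp K) j).naturality h.op) x).symm

lemma inc_eq_zero (W : C) {j : J} (y : (K.obj j).obj.obj (op W)) (h : inc K j W y = 0) :
    ∃ (k : J) (f : j ⟶ k), (K.map f).hom.app (op W) y = 0 := by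
  have h' : inc K j W y = inc K j W 0 := by rw [h, map_zero]
  obtain ⟨k, f, g, hfg⟩ := inc_eq K W y 0 h'
  exact ⟨k, f, by rw [hfg, map_zero]⟩

variable {B : Set C} (hB : QcClass Jt B)

include hB in
/-- a section of the presheaf colimit over a member of `B` which vanishes locally vanishes -/
lemma toSheafify_injective_on {V : C} (hV : V ∈ B) (s : (P K).obj (op V))
    (hs : (toSheafify Jt (P K)).app (op V) s = 0) : s = 0 := by
  obtain ⟨j, y, rfl⟩ := inc_rep K V s
  have hT : Presheaf.equalizerSieve (inc K j V y) (0 : (P K).obj (op V)) ∈ Jt V := by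
    apply Presheaf.equalizerSieve_mem Jt (toSheafify Jt (P K))
    rw [map_zero]
    exact hs
  obtain ⟨n, W, g, hWB, hWT, hcov⟩ := hB.fin V hV _ hT
  -- each restriction dies at some stage
  have hex : ∀ a ∈ (Finset.univ : Finset (Fin n)), ∃ (k : J) (f : j ⟶ k),
      (K.map f).hom.app (op (W a)) ((K.obj j).obj.map (g a).op y) = 0 := by
    intro a _
    apply inc_eq_zero K (W a)
    rw [← inc_res]
    have := hWT a
    change (P K).map (g a).op (inc K j V y) = (P K).map (g a).op 0 at this
    rw [this, map_zero]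
  obtain ⟨k, f, hk⟩ := eventually_all j Finset.univ
    (fun a k f => (K.map f).hom.app (op (W a)) ((K.obj j).obj.map (g a).op y) = 0)
    (by
      intro a k f k' g' h
      rw [K.map_comp]
      change (K.map g').hom.app (op (W a)) ((K.map f).hom.app (op (W a)) _) = 0
      rw [h, map_zero]) hex
  have hz : (K.map f).hom.app (op V) y = 0 := by
    apply sheaf_ext (K.obj k) W g hcov
    intro a
    rw [map_zero]
    have nat := ConcreteCategory.congr_hom ((K.map f).hom.naturality (g a).op) y
    exact nat.symm.trans (hk a (Finset.mem_univ a))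
  rw [← inc_map K V f y, hz, map_zero]

lemma map_comp_apply {i j k : J} (f : i ⟶ j) (g : j ⟶ k) (W : C) (x : (K.obj i).obj.obj (op W)) :
    (K.map (f ≫ g)).hom.app (op W) x = (K.map g).hom.app (op W) ((K.map f).hom.app (op W) x) := by
  rw [K.map_comp]
  rfl

lemma map_res {i j : J} (f : i ⟶ j) {W W' : C} (h : W' ⟶ W) (x : (K.obj i).obj.obj (op W)) :
    (K.map f).hom.app (op W') ((K.obj i).obj.map h.op x) =
      (K.obj j).obj.map h.op ((K.map f).hom.app (op W) x) :=
  ConcreteCategory.congr_hom ((K.map f).hom.naturality h.op) x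

/-- finitely many sections of the presheaf colimit have representatives at a common stage -/
lemma inc_rep_fin {n : ℕ} (W : Fin n → C) (s : ∀ a, (P K).obj (op (W a))) :
    ∃ (j : J) (y : ∀ a, (K.obj j).obj.obj (op (W a))), ∀ a, inc K j (W a) (y a) = s a := by
  classical
  choose ja ya hya using fun a => inc_rep K (W a) (s a)
  obtain ⟨j, hj⟩ := IsFiltered.sup_objs_exists (Finset.univ.image ja)
  have hj' : ∀ a, Nonempty (ja a ⟶ j) := fun a =>
    hj (Finset.mem_image_of_mem ja (Finset.mem_univ a))
  refine ⟨j, fun a => (K.map (hj' a).some).hom.app (op (W a)) (ya a), fun a => ?_⟩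
  rw [inc_map, hya]

include hB in
/-- every section of the sheafified colimit over a member of `B` comes from the presheaf colimit -/
lemma toSheafify_surjective_on {V : C} (hV : V ∈ B) (t : (sheafify Jt (P K)).obj (op V)) :
    ∃ s : (P K).obj (op V), (toSheafify Jt (P K)).app (op V) s = t := by
  have hT : Presheaf.imageSieve (toSheafify Jt (P K)) t ∈ Jt V :=
    Presheaf.imageSieve_mem Jt (toSheafify Jt (P K)) t
  obtain ⟨n, W, g, hWB, hWT, hcov⟩ := hB.fin V hV _ hT
  choose sa hsa using hWT
  -- the local lifts agree on the fibre products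
  have hagree : ∀ a b, (P K).map (pullback.fst (g a) (g b)).op (sa a) =
      (P K).map (pullback.snd (g a) (g b)).op (sa b) := by
    intro a b
    rw [← sub_eq_zero]
    apply toSheafify_injective_on K hB (hB.pb (g a) (g b) hV (hWB a) (hWB b))
    rw [map_sub, sub_eq_zero]
    have n1 := ConcreteCategory.congr_hom
      ((toSheafify Jt (P K)).naturality (pullback.fst (g a) (g b)).op) (sa a)
    have n2 := ConcreteCategory.congr_hom
      ((toSheafify Jt (P K)).naturality (pullback.snd (g a) (g b)).op) (sa b)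
    refine n1.trans (Eq.trans ?_ n2.symm)
    change (sheafify Jt (P K)).map (pullback.fst (g a) (g b)).op
        ((toSheafify Jt (P K)).app (op (W a)) (sa a)) =
      (sheafify Jt (P K)).map (pullback.snd (g a) (g b)).op
        ((toSheafify Jt (P K)).app (op (W b)) (sa b))
    rw [hsa a, hsa b]
    have e1 : (sheafify Jt (P K)).map (g a).op ≫
        (sheafify Jt (P K)).map (pullback.fst (g a) (g b)).op =
        (sheafify Jt (P K)).map (g b).op ≫
        (sheafify Jt (P K)).map (pullback.snd (g a) (g b)).op := by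
      rw [← Functor.map_comp, ← Functor.map_comp, ← op_comp, ← op_comp, pullback.condition]
    exact ConcreteCategory.congr_hom e1 t
  -- representatives at a common stage
  obtain ⟨j, y, hy⟩ := inc_rep_fin K W sa
  have hex : ∀ ab ∈ (Finset.univ : Finset (Fin n × Fin n)), ∃ (k : J) (f : j ⟶ k),
      (K.map f).hom.app (op (pullback (g ab.1) (g ab.2)))
        ((K.obj j).obj.map (pullback.fst (g ab.1) (g ab.2)).op (y ab.1)) =
      (K.map f).hom.app (op (pullback (g ab.1) (g ab.2)))
        ((K.obj j).obj.map (pullback.snd (g ab.1) (g ab.2)).op (y ab.2)) := by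
    rintro ⟨a, b⟩ -
    have h1 : inc K j _ ((K.obj j).obj.map (pullback.fst (g a) (g b)).op (y a)) =
        inc K j _ ((K.obj j).obj.map (pullback.snd (g a) (g b)).op (y b)) := by
      rw [← inc_res, ← inc_res, hy a, hy b]
      exact hagree a b
    obtain ⟨k, f, f', hff'⟩ := inc_eq K _ _ _ h1
    refine ⟨IsFiltered.coeq f f', f ≫ IsFiltered.coeqHom f f', ?_⟩
    rw [map_comp_apply, hff', ← map_comp_apply, ← IsFiltered.coeq_condition]
  obtain ⟨k, f, hk⟩ := eventually_all j Finset.univ
    (fun (ab : Fin n × Fin n) k f =>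
      (K.map f).hom.app (op (pullback (g ab.1) (g ab.2)))
        ((K.obj j).obj.map (pullback.fst (g ab.1) (g ab.2)).op (y ab.1)) =
      (K.map f).hom.app (op (pullback (g ab.1) (g ab.2)))
        ((K.obj j).obj.map (pullback.snd (g ab.1) (g ab.2)).op (y ab.2)))
    (by
      intro ab k f k' g' h
      rw [map_comp_apply, map_comp_apply, h]) hex
  -- glue at stage `k`
  obtain ⟨σ, hσ⟩ := sheaf_glue (K.obj k) W g hcov
    (fun a => (K.map f).hom.app (op (W a)) (y a)) (by
      intro a b
      rw [← map_res, ← map_res]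
      exact hk (a, b) (Finset.mem_univ _))
  refine ⟨inc K k V σ, ?_⟩
  apply sheaf_ext ((presheafToSheaf Jt AddCommGrpCat.{w}).obj (P K)) W g hcov
  intro a
  change (sheafify Jt (P K)).map (g a).op _ = (sheafify Jt (P K)).map (g a).op t
  rw [← hsa a, ← hy a]
  have n1 := ConcreteCategory.congr_hom ((toSheafify Jt (P K)).naturality (g a).op) (inc K k V σ)
  refine n1.symm.trans ?_
  change (toSheafify Jt (P K)).app (op (W a)) ((P K).map (g a).op (inc K k V σ)) = _
  rw [inc_res, hσ a, inc_map]

/-- the standard colimit cocone: sheafification of the presheaf colimit -/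
noncomputable abbrev stdCocone : Cocone K := Sheaf.sheafifyCocone (colimit.cocone (Kp K))

/-- the standard colimit cocone is a colimit -/
noncomputable def stdIsColimit : IsColimit (stdCocone K) :=
  Sheaf.isColimitSheafifyCocone _ (colimit.isColimit _)

lemma std_ι_app (j : J) (W : C) (y : (K.obj j).obj.obj (op W)) :
    ((stdCocone K).ι.app j).hom.app (op W) y =
      (toSheafify Jt (P K)).app (op W) (inc K j W y) := by
  have h := Sheaf.sheafifyCocone_ι_app_val (colimit.cocone (Kp K)) j
  have h2 := congrArg (fun τ => τ.app (op W)) h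
  exact ConcreteCategory.congr_hom h2 y

include hB in
/-- sections over a member of `B` of a filtered colimit of sheaves come from some stage -/
theorem sect_surj (c : Cocone K) (hc : IsColimit c) {V : C} (hV : V ∈ B)
    (x : c.pt.obj.obj (op V)) :
    ∃ (j : J) (y : (K.obj j).obj.obj (op V)), (c.ι.app j).hom.app (op V) y = x := by
  let e := (stdIsColimit K).coconePointUniqueUpToIso hc
  have he : ∀ j, (stdCocone K).ι.app j ≫ e.hom = c.ι.app j := fun j =>
    IsColimit.comp_coconePointUniqueUpToIso_hom _ _ j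
  obtain ⟨s, hs⟩ := toSheafify_surjective_on K hB hV (e.inv.hom.app (op V) x)
  obtain ⟨j, y, rfl⟩ := inc_rep K V s
  refine ⟨j, y, ?_⟩
  rw [← he j]
  change e.hom.hom.app (op V) (((stdCocone K).ι.app j).hom.app (op V) y) = x
  rw [std_ι_app]
  have hs' : (toSheafify Jt (P K)).app (op V) (inc K j V y) = e.inv.hom.app (op V) x := hs
  rw [hs']
  have h1 : e.inv ≫ e.hom = 𝟙 _ := e.inv_hom_id
  have h2 := congrArg (fun τ : c.pt ⟶ c.pt => τ.hom.app (op V)) h1
  exact ConcreteCategory.congr_hom h2 x

include hB in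
/-- a section over a member of `B` which dies in a filtered colimit of sheaves dies at some stage -/
theorem sect_inj (c : Cocone K) (hc : IsColimit c) {V : C} (hV : V ∈ B) (j : J)
    (y : (K.obj j).obj.obj (op V)) (h : (c.ι.app j).hom.app (op V) y = 0) :
    ∃ (k : J) (f : j ⟶ k), (K.map f).hom.app (op V) y = 0 := by
  let e := (stdIsColimit K).coconePointUniqueUpToIso hc
  have he : ∀ j, (stdCocone K).ι.app j ≫ e.hom = c.ι.app j := fun j =>
    IsColimit.comp_coconePointUniqueUpToIso_hom _ _ j
  rw [← he j] at h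
  have h' : e.hom.hom.app (op V) (((stdCocone K).ι.app j).hom.app (op V) y) = 0 := h
  have h3 : ((stdCocone K).ι.app j).hom.app (op V) y = 0 := by
    have h1 : e.hom ≫ e.inv = 𝟙 _ := e.hom_inv_id
    have h2 := congrArg (fun τ : (stdCocone K).pt ⟶ (stdCocone K).pt => τ.hom.app (op V)) h1
    have h4 := ConcreteCategory.congr_hom h2 (((stdCocone K).ι.app j).hom.app (op V) y)
    change e.inv.hom.app (op V) (e.hom.hom.app (op V) _) = _ at h4
    rw [h', map_zero] at h4
    exact h4.symm
  rw [std_ι_app] at h3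
  exact inc_eq_zero K V y (toSheafify_injective_on K hB hV _ h3)

end Colim

end H9FE.SiteSectColim
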