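import Mathlib
import Groth.Prelude.Def_EtBase
import Groth.Agent.Lib.Helper5.Misc.EtSiteBasic
import Groth.Agent.Lib.Helper9.FE.SiteSectColim

/-! helper9: on the small étale site of a scheme, the objects whose underlying scheme is
quasi-compact and quasi-separated form a `QcClass`: coverings are refined by finite families of
affine objects, and the class is stable under fibre products and finite products in over
categories. -/

set_option autoImplicit false
set_option linter.unusedSectionVars false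
set_option linter.style.haveILetI false
set_option backward.isDefEq.respectTransparency false
universe u
open CategoryTheory Limits Opposite AlgebraicGeometry

namespace H9FE.EtQcClass

open Groth.Agent.Lib.Helper5 H9FE.SiteSectColim

variable {X : Scheme.{u}}

/-- étale `X`-schemes with quasi-compact quasi-separated underlying scheme -/
def qcB (X : Scheme.{u}) : Set X.Etale :=
  {V | CompactSpace V.left ∧ QuasiSeparatedSpace V.left}

lemma mem_qcB_of_isAffine (V : X.Etale) [IsAffine V.left] : V ∈ qcB X :=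
  ⟨inferInstance, inferInstance⟩

/-- every covering sieve of an object with quasi-compact underlying scheme contains a finite
jointly surjective family of affine objects -/
lemma exists_finite_affine_refinement (V : X.Etale) [CompactSpace V.left] (T : Sieve V)
    (hT : T ∈ X.smallEtaleTopology V) :
    ∃ (n : ℕ) (W : Fin n → X.Etale) (g : ∀ i, W i ⟶ V),
      (∀ i, IsAffine (W i).left) ∧ (∀ i, T (g i)) ∧
        ∀ v : V.left, ∃ (i : Fin n) (w : (W i).left), (g i).left w = v := by
  rw [EtSiteBasic.mem_smallEtale_iff] at hT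
  choose W g w hTg hw using hT
  -- affine neighbourhoods
  have haff : ∀ v : V.left, ∃ U : (W v).left.Opens, IsAffineOpen U ∧ w v ∈ U := by
    intro v
    obtain ⟨_, ⟨U, hU, rfl⟩, hwU, -⟩ := (W v).left.isBasis_affineOpens.exists_subset_of_mem_open
      (Set.mem_univ (w v)) isOpen_univ
    exact ⟨U, hU, hwU⟩
  choose U hU hwU using haff
  -- the images are open and cover `V`
  have hopen : ∀ v : V.left, IsOpen ((g v).left '' (U v : Set (W v).left)) := by
    intro v
    haveI : Etale (g v).left := inferInstance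
    exact (g v).left.isOpenMap _ (U v).2
  have hcov : (Set.univ : Set V.left) ⊆ ⋃ v : V.left, (g v).left '' (U v : Set (W v).left) := by
    intro v _
    exact Set.mem_iUnion.2 ⟨v, w v, hwU v, hw v⟩
  obtain ⟨s, hs⟩ := isCompact_univ.elim_finite_subcover _ hopen hcov
  -- enumerate the finite subcover
  let e := s.equivFin
  let WS : s → X.Etale := fun a =>
    haveI : Etale (W a.1).hom := (W a.1).prop
    EtSiteBasic.ofEtale ((U a.1).ι ≫ (W a.1).hom)
  let gS : ∀ a : s, WS a ⟶ V := fun a =>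
    (MorphismProperty.Over.homMk (U a.1).ι rfl trivial : WS a ⟶ W a.1) ≫ g a.1
  refine ⟨s.card, fun i => WS (e.symm i), fun i => gS (e.symm i), ?_, ?_, ?_⟩
  · intro i
    exact hU (e.symm i).1
  · intro i
    exact T.downward_closed (hTg _) _
  · intro v
    obtain ⟨x, hx, hvx⟩ := Set.mem_iUnion₂.1 (hs (Set.mem_univ v))
    obtain ⟨y, hy, hyv⟩ := hvx
    refine ⟨e ⟨x, hx⟩, ?_⟩
    change ∃ w : (WS (e.symm (e ⟨x, hx⟩))).left, (gS (e.symm (e ⟨x, hx⟩))).left w = v
    rw [Equiv.symm_apply_apply]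
    exact ⟨⟨y, hy⟩, hyv⟩

/-- a jointly surjective family generates a covering sieve -/
lemma ofArrows_mem {V : X.Etale} {ι : Type*} (W : ι → X.Etale) (g : ∀ i, W i ⟶ V)
    (h : ∀ v : V.left, ∃ (i : ι) (w : (W i).left), (g i).left w = v) :
    Sieve.ofArrows W g ∈ X.smallEtaleTopology V := by
  rw [EtSiteBasic.mem_smallEtale_iff]
  intro v
  obtain ⟨i, w, hw⟩ := h v
  exact ⟨W i, g i, w, Sieve.ofArrows_mk W g i, hw⟩

/-- the forgetful functor to schemes -/
noncomputable abbrev toSch (X : Scheme.{u}) : X.Etale ⥤ Scheme.{u} :=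
  Scheme.Etale.forget X ⋙ Over.forget X

/-- the underlying scheme of a fibre product in the small étale site -/
noncomputable def pullbackLeftIso {V W₁ W₂ : X.Etale} (g₁ : W₁ ⟶ V) (g₂ : W₂ ⟶ V) :
    (pullback g₁ g₂).left ≅ pullback g₁.left g₂.left :=
  PreservesPullback.iso (toSch X) g₁ g₂

lemma qc_of_iso {A A' : Scheme.{u}} (e : A ≅ A') [CompactSpace A'] [QuasiSeparatedSpace A'] :
    CompactSpace A ∧ QuasiSeparatedSpace A := by
  haveI : QuasiCompact e.hom := inferInstance
  haveI : QuasiSeparated e.hom := inferInstance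
  exact ⟨QuasiCompact.compactSpace_of_compactSpace e.hom,
    quasiSeparatedSpace_of_quasiSeparated e.hom⟩

lemma qc_pullback {A B S : Scheme.{u}} (f : A ⟶ S) (g : B ⟶ S) [CompactSpace A]
    [QuasiSeparatedSpace A] [CompactSpace B] [QuasiSeparatedSpace B] [QuasiSeparatedSpace S] :
    CompactSpace ↑(pullback f g) ∧ QuasiSeparatedSpace ↑(pullback f g) := by
  haveI : QuasiCompact g := inferInstance
  haveI : QuasiSeparated g := inferInstance
  haveI : QuasiSeparated (pullback.fst f g) := inferInstance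
  exact ⟨inferInstance, quasiSeparatedSpace_of_quasiSeparated (pullback.fst f g)⟩

lemma pullback_mem_qcB {V W₁ W₂ : X.Etale} (g₁ : W₁ ⟶ V) (g₂ : W₂ ⟶ V) (hV : V ∈ qcB X)
    (h₁ : W₁ ∈ qcB X) (h₂ : W₂ ∈ qcB X) : pullback g₁ g₂ ∈ qcB X := by
  haveI := hV.1; haveI := hV.2; haveI := h₁.1; haveI := h₁.2; haveI := h₂.1; haveI := h₂.2
  obtain ⟨hc, hq⟩ := qc_pullback g₁.left g₂.left
  exact qc_of_iso (pullbackLeftIso g₁ g₂)

theorem qcClass (X : Scheme.{u}) : QcClass X.smallEtaleTopology (qcB X) where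
  fin := by
    intro V hV T hT
    haveI := hV.1
    obtain ⟨n, W, g, haff, hTg, hcov⟩ := exists_finite_affine_refinement V T hT
    exact ⟨n, W, g, fun i => by haveI := haff i; exact mem_qcB_of_isAffine (W i), hTg,
      ofArrows_mem W g hcov⟩
  pb := fun g₁ g₂ hV h₁ h₂ => pullback_mem_qcB g₁ g₂ hV h₁ h₂

lemma mem_qcB_of_iso {A A' : X.Etale} (e : A ≅ A') (h : A' ∈ qcB X) : A ∈ qcB X := by
  haveI : CompactSpace ↥((toSch X).obj A') := h.1
  haveI : QuasiSeparatedSpace ↥((toSch X).obj A') := h.2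
  exact qc_of_iso ((toSch X).mapIso e)

/-- finite products in the over categories of the small étale site stay in the class -/
lemma pi_left_mem_qcB {V : X.Etale} (hV : V ∈ qcB X) :
    ∀ (n : ℕ) (Y : Fin n → Over V), (∀ k, (Y k).left ∈ qcB X) → (∏ᶜ Y).left ∈ qcB X := by
  intro n
  induction n with
  | zero =>
    intro Y _
    -- the empty product is the terminal object
    let t : Over.mk (𝟙 V) ⟶ ∏ᶜ Y := Pi.lift (fun k => k.elim0)
    have h1 : t ≫ (Over.mkIdTerminal.from (∏ᶜ Y)) = 𝟙 _ := Over.mkIdTerminal.hom_ext _ _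
    have h2 : (Over.mkIdTerminal.from (∏ᶜ Y)) ≫ t = 𝟙 _ := by
      apply Pi.hom_ext
      intro k
      exact k.elim0
    let e : ∏ᶜ Y ≅ Over.mk (𝟙 V) := ⟨Over.mkIdTerminal.from _, t, h2, h1⟩
    exact mem_qcB_of_iso ((Over.forget V).mapIso e) hV
  | succ n ih =>
    intro Y hY
    let P₁ : Over V := ∏ᶜ fun i : Fin n => Y i.succ
    have hP₁ : P₁.left ∈ qcB X := ih _ (fun k => hY k.succ)
    let c₁ : Fan fun i : Fin n => Y i.succ := Fan.mk P₁ (Pi.π _)
    have hc₁ : IsLimit c₁ := productIsProduct _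
    let c₂ : BinaryFan (Y 0) c₁.pt := BinaryFan.mk (prod.fst : Y 0 ⨯ P₁ ⟶ Y 0) prod.snd
    have hc₂ : IsLimit c₂ := prodIsProd _ _
    let e : ∏ᶜ Y ≅ Y 0 ⨯ P₁ :=
      (productIsProduct Y).conePointUniqueUpToIso (extendFanIsLimit Y hc₁ hc₂)
    have h3 : (Y 0 ⨯ P₁).left ∈ qcB X :=
      mem_qcB_of_iso (Over.prodLeftIsoPullback (Y 0) P₁)
        (pullback_mem_qcB (Y 0).hom P₁.hom hV (hY 0) hP₁)
    exact mem_qcB_of_iso ((Over.forget V).mapIso e) h3

lemma cech_obj_mem_qcB {V : X.Etale} (hV : V ∈ qcB X) {ι : Type*} (Y : ι → Over V)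
    (hY : ∀ i, (Y i).left ∈ qcB X) (p : ℕ) (a : Fin (p + 1) → ι) :
    (∏ᶜ fun k => Y (a k)).left ∈ qcB X :=
  pi_left_mem_qcB hV (p + 1) (fun k => Y (a k)) (fun k => hY (a k))

end H9FE.EtQcClass
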