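import Mathlib

/-! helper9: in an abelian category with exact filtered colimits and enough injectives, if
`Hom(Z, -)` commutes with `J`-shaped filtered colimits (elementwise form) and `J`-shaped colimits of
injective objects are `Ext(Z, -)`-acyclic, then every `Ext^n(Z, -)` commutes with `J`-shaped
colimits (elementwise form `HSurj`, `HInj`). -/

set_option autoImplicit false
set_option linter.unusedSectionVars false
universe w' w v u
open CategoryTheory Limits Abelian

namespace H9FE.ExtFilteredColim

section Push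

variable {𝒜 : Type u} [Category.{v} 𝒜] [Abelian 𝒜] [HasExt.{w'} 𝒜] {Z : 𝒜}

/-- push-forward of an `Ext`-class along a morphism -/
noncomputable def push {A B : 𝒜} (φ : A ⟶ B) {n : ℕ} (x : Ext.{w'} Z A n) : Ext.{w'} Z B n :=
  x.comp (Ext.mk₀ φ) (add_zero n)

lemma push_comp {A B D : 𝒜} (φ : A ⟶ B) (ψ : B ⟶ D) {n : ℕ} (x : Ext.{w'} Z A n) :
    push (φ ≫ ψ) x = push ψ (push φ x) := by
  unfold push
  rw [← Ext.mk₀_comp_mk₀]
  exact (Ext.comp_assoc_of_third_deg_zero x (Ext.mk₀ φ) (Ext.mk₀ ψ) (add_zero n)).symm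

lemma push_zero {A B : 𝒜} (φ : A ⟶ B) {n : ℕ} : push φ (0 : Ext.{w'} Z A n) = 0 := by
  unfold push
  exact Ext.zero_comp Z n (Ext.mk₀ φ) n (add_zero n)

lemma push_add {A B : 𝒜} (φ : A ⟶ B) {n : ℕ} (x y : Ext.{w'} Z A n) :
    push φ (x + y) = push φ x + push φ y := by
  unfold push
  exact Ext.add_comp x y (Ext.mk₀ φ) (add_zero n)

lemma push_neg {A B : 𝒜} (φ : A ⟶ B) {n : ℕ} (x : Ext.{w'} Z A n) :
    push φ (-x) = -push φ x := by
  unfold push
  exact Ext.neg_comp x (Ext.mk₀ φ) (add_zero n)

lemma push_sub {A B : 𝒜} (φ : A ⟶ B) {n : ℕ} (x y : Ext.{w'} Z A n) :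
    push φ (x - y) = push φ x - push φ y := by
  rw [sub_eq_add_neg, push_add, push_neg, sub_eq_add_neg]

/-- connecting maps are natural for morphisms of short exact sequences -/
lemma push_delta {S S' : ShortComplex 𝒜} (hS : S.ShortExact) (hS' : S'.ShortExact) (φ : S ⟶ S')
    {n n' : ℕ} (h : n + 1 = n') (z : Ext.{w'} Z S.X₃ n) :
    push φ.τ₁ (z.comp hS.extClass h) = (push φ.τ₃ z).comp hS'.extClass h := by
  unfold push
  rw [Ext.comp_assoc_of_third_deg_zero, ShortComplex.ShortExact.extClass_naturality hS hS' φ,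
    Ext.comp_assoc_of_second_deg_zero]

lemma push_g_delta {S : ShortComplex 𝒜} (hS : S.ShortExact) {n n' : ℕ} (h : n + 1 = n')
    (x : Ext.{w'} Z S.X₂ n) : (push S.g x).comp hS.extClass h = 0 := by
  unfold push
  rw [Ext.comp_assoc_of_second_deg_zero, hS.comp_extClass, Ext.comp_zero]

end Push

section Inj

variable {𝒜 : Type u} [Category.{v} 𝒜] [Abelian 𝒜] [EnoughInjectives 𝒜]
  {J : Type w} [SmallCategory J] [HasProducts.{w} 𝒜] (D : J ⥤ 𝒜)

/-- a functorial embedding of a diagram into a diagram of injective objects -/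
@[reducible] noncomputable def injDiag : J ⥤ 𝒜 where
  obj j := ∏ᶜ fun (k : J) => ∏ᶜ fun (_ : j ⟶ k) => Injective.under (D.obj k)
  map {j j'} g := Limits.Pi.map fun k => Pi.lift fun (h : j' ⟶ k) => Pi.π _ (g ≫ h)
  map_id j := by
    apply Pi.hom_ext
    intro k
    apply Pi.hom_ext
    intro h
    simp
  map_comp {j j' j''} g g' := by
    apply Pi.hom_ext
    intro k
    apply Pi.hom_ext
    intro h
    simp

instance (j : J) : Injective ((injDiag D).obj j) := by
  unfold injDiag
  infer_instance

/-- the embedding -/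
noncomputable def injι : D ⟶ injDiag D where
  app j := Pi.lift fun k => Pi.lift fun (h : j ⟶ k) => D.map h ≫ Injective.ι (D.obj k)
  naturality {j j'} g := by
    apply Pi.hom_ext
    intro k
    apply Pi.hom_ext
    intro h
    simp [injDiag]

instance (j : J) : Mono ((injι D).app j) := by
  have h : (injι D).app j ≫
      (Pi.π (fun (k : J) => ∏ᶜ fun (_ : j ⟶ k) => Injective.under (D.obj k)) j ≫
        Pi.π (fun (_ : j ⟶ j) => Injective.under (D.obj j)) (𝟙 j)) = Injective.ι (D.obj j) := by
    simp [injι]
  exact mono_of_mono_fac h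

instance : Mono (injι D) := NatTrans.mono_of_mono_app _

/-- the short exact sequence `0 ⟶ D ⟶ I ⟶ Q ⟶ 0` of diagrams -/
noncomputable def ses : ShortComplex (J ⥤ 𝒜) :=
  ShortComplex.mk (injι D) (cokernel.π (injι D)) (cokernel.condition _)

lemma ses_shortExact : (ses D).ShortExact :=
  { exact := ShortComplex.exact_cokernel _
    mono_f := by dsimp [ses]; infer_instance
    epi_g := by dsimp [ses]; infer_instance }

end Inj

section Main

variable {𝒜 : Type u} [Category.{v} 𝒜] [Abelian 𝒜] [HasExt.{w'} 𝒜] [EnoughInjectives 𝒜]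
  {J : Type w} [SmallCategory J] [IsFiltered J] [HasProducts.{w} 𝒜]
  [HasColimitsOfShape J 𝒜] [HasExactColimitsOfShape J 𝒜] (Z : 𝒜)

/-- every class in `Ext^n(Z, colim D)` comes from some stage -/
def HSurj (D : J ⥤ 𝒜) (n : ℕ) : Prop :=
  ∀ x : Ext.{w'} Z (colimit D) n, ∃ (j : J) (y : Ext.{w'} Z (D.obj j) n),
    push (colimit.ι D j) y = x

/-- a class at some stage which dies in `Ext^n(Z, colim D)` dies at a later stage -/
def HInj (D : J ⥤ 𝒜) (n : ℕ) : Prop :=
  ∀ (j : J) (y : Ext.{w'} Z (D.obj j) n), push (colimit.ι D j) y = 0 →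
    ∃ (k : J) (f : j ⟶ k), push (D.map f) y = 0

variable (D : J ⥤ 𝒜)

/-- the short exact sequence at stage `j` -/
noncomputable abbrev sesAt (j : J) : ShortComplex 𝒜 :=
  ShortComplex.mk ((injι D).app j) ((cokernel.π (injι D)).app j) (by
    rw [← NatTrans.comp_app, cokernel.condition]
    rfl)

lemma sesAt_shortExact (j : J) : (sesAt D j).ShortExact :=
  (ses_shortExact D).map_of_exact ((evaluation J 𝒜).obj j)

/-- the short exact sequence of colimits -/
noncomputable abbrev sesColim : ShortComplex 𝒜 :=
  ShortComplex.mk (colimMap (injι D)) (colimMap (cokernel.π (injι D))) (by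
    have h : colim.map (injι D) ≫ colim.map (cokernel.π (injι D)) = 0 := by
      rw [← Functor.map_comp, cokernel.condition, Functor.map_zero]
    exact h)

lemma sesColim_shortExact : (sesColim D).ShortExact :=
  (ses_shortExact D).map_of_exact colim

/-- the inclusion of the stage `j` sequence into the colimit sequence -/
noncomputable abbrev toColim (j : J) : sesAt D j ⟶ sesColim D where
  τ₁ := colimit.ι D j
  τ₂ := colimit.ι (injDiag D) j
  τ₃ := colimit.ι (cokernel (injι D)) j
  comm₁₂ := ι_colimMap _ _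
  comm₂₃ := ι_colimMap _ _

/-- the transition maps between the stage sequences -/
noncomputable abbrev trans {j k : J} (f : j ⟶ k) : sesAt D j ⟶ sesAt D k where
  τ₁ := D.map f
  τ₂ := (injDiag D).map f
  τ₃ := (cokernel (injι D)).map f
  comm₁₂ := (injι D).naturality f
  comm₂₃ := (cokernel.π (injι D)).naturality f

variable {Z}

theorem hsurj_hinj (h0 : ∀ D : J ⥤ 𝒜, HSurj Z D 0 ∧ HInj Z D 0)
    (hacyc : ∀ (I : J ⥤ 𝒜), (∀ j, Injective (I.obj j)) →
      ∀ (n : ℕ) (x : Ext.{w'} Z (colimit I) (n + 1)), x = 0) :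
    ∀ (n : ℕ) (D : J ⥤ 𝒜), HSurj Z D n ∧ HInj Z D n := by
  intro n
  induction n with
  | zero => exact h0
  | succ n ih =>
    intro D
    have hSj := sesAt_shortExact D
    have hSc := sesColim_shortExact D
    obtain ⟨hQs, hQi⟩ := ih (cokernel (injι D))
    obtain ⟨hIs, -⟩ := ih (injDiag D)
    -- a key computation: the push-forward of a boundary to the colimit
    have key : ∀ (j : J) (z : Ext.{w'} Z (cokernel (injι D) |>.obj j) n),
        push (colimit.ι D j) (z.comp (hSj j).extClass rfl) =
          (push (colimit.ι (cokernel (injι D)) j) z).comp hSc.extClass rfl :=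
      fun j z => push_delta (hSj j) hSc (toColim D j) rfl z
    have keyT : ∀ {j k : J} (f : j ⟶ k) (z : Ext.{w'} Z (cokernel (injι D) |>.obj j) n),
        push (D.map f) (z.comp (hSj j).extClass rfl) =
          (push ((cokernel (injι D)).map f) z).comp (hSj k).extClass rfl :=
      fun f z => push_delta (hSj _) (hSj _) (trans D f) rfl z
    refine ⟨?_, ?_⟩
    · -- surjectivity
      intro x
      have hx : x.comp (Ext.mk₀ (sesColim D).f) (add_zero (n + 1)) = 0 :=
        hacyc (injDiag D) (fun j => inferInstance) n _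
      obtain ⟨z, hz⟩ := Ext.covariant_sequence_exact₁ Z hSc x hx rfl
      obtain ⟨j, zj, hzj⟩ := hQs z
      refine ⟨j, zj.comp (hSj j).extClass rfl, ?_⟩
      rw [key, hzj, hz]
    · -- injectivity
      intro j y hy
      have hyI : y.comp (Ext.mk₀ (sesAt D j).f) (add_zero (n + 1)) = 0 := by
        have : Injective (sesAt D j).X₂ := by
          change Injective ((injDiag D).obj j)
          infer_instance
        exact Ext.eq_zero_of_injective _
      obtain ⟨zj, hzj⟩ := Ext.covariant_sequence_exact₁ Z (hSj j) y hyI rfl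
      rw [← hzj, key] at hy
      obtain ⟨wc, hwc⟩ := Ext.covariant_sequence_exact₃ Z hSc _ rfl hy
      obtain ⟨k, wk, hwk⟩ := hIs wc
      -- a common later stage
      let l := IsFiltered.max j k
      let f : j ⟶ l := IsFiltered.leftToMax j k
      let g : k ⟶ l := IsFiltered.rightToMax j k
      let z' : Ext.{w'} Z ((cokernel (injι D)).obj l) n :=
        push ((cokernel (injι D)).map f) zj - push (sesAt D l).g (push ((injDiag D).map g) wk)
      have hz' : push (colimit.ι (cokernel (injι D)) l) z' = 0 := by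
        dsimp only [z']
        rw [push_sub, ← push_comp, ← push_comp, ← push_comp, colimit.w]
        have e1 : (injDiag D).map g ≫ (sesAt D l).g ≫ colimit.ι (cokernel (injι D)) l =
            colimit.ι (injDiag D) k ≫ (sesColim D).g := by
          have e2 : (sesAt D l).g ≫ colimit.ι (cokernel (injι D)) l =
              colimit.ι (injDiag D) l ≫ (sesColim D).g := (toColim D l).comm₂₃.symm
          rw [e2, ← Category.assoc, colimit.w]
        rw [e1, push_comp, hwk]
        have hwc' : push (sesColim D).g wc = push (colimit.ι (cokernel (injι D)) j) zj := hwc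
        rw [hwc', sub_self]
      obtain ⟨m, h, hm⟩ := hQi l z' hz'
      refine ⟨m, f ≫ h, ?_⟩
      rw [← hzj, keyT]
      have e3 : push ((cokernel (injι D)).map (f ≫ h)) zj =
          push (sesAt D m).g (push ((injDiag D).map (g ≫ h)) wk) := by
        have e4 : push ((cokernel (injι D)).map h) z' = 0 := hm
        dsimp only [z'] at e4
        rw [push_sub, sub_eq_zero, ← push_comp, ← push_comp, ← push_comp] at e4
        rw [Functor.map_comp, e4]
        have e5 : (injDiag D).map g ≫ (sesAt D l).g ≫ (cokernel (injι D)).map h =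
            (injDiag D).map (g ≫ h) ≫ (sesAt D m).g := by
          have e6 : (sesAt D l).g ≫ (cokernel (injι D)).map h =
              (injDiag D).map h ≫ (sesAt D m).g := (trans D h).comm₂₃.symm
          rw [e6, ← Category.assoc, ← Functor.map_comp]
        rw [e5, push_comp]
      rw [e3]
      exact push_g_delta (hSj m) rfl _

end Main

end H9FE.ExtFilteredColim
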