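import Mathlib
import Groth.Prelude.Def_EtCech
import Groth.Agent.Lib.Helper3.CechDeltaG
import Groth.Agent.Lib.Helper3.CechG
import Groth.Agent.Lib.Helper3.AcyClass
import Groth.Agent.Lib.Helper3.OverPostProdG

/-! helper9: universe-general port of helper3's low-degree Čech lemmas (`CechLow`, `CechSurj`,
`CechLES`, `ShSec`) to the complexes of `CechDeltaG`, and Cartan's criterion on an arbitrary site:
a sheaf whose Čech cohomology vanishes for a cofinal class of coverings (stable under fibre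
products) is acyclic for `Ext(Z, -)` whenever `Hom(Z, -)` is sections over an object of the class. -/

set_option autoImplicit false
set_option linter.unusedSectionVars false
universe w v u
open CategoryTheory Limits Opposite

namespace H9FE.CechCartanG

open Groth.Agent.Helper3 Groth.Agent.Helper3.CechDeltaG

section Low

variable {C : Type u} [Category.{v} C] {U : C} [HasFiniteProducts (Over U)] {ι : Type w}
  (Y : ι → Over U)

/-- the face maps between iterated fibre products -/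
noncomputable def face {n : ℕ} (a : Fin (n + 2) → ι) (i : Fin (n + 2)) :
    YY Y a ⟶ YY Y (fun k : Fin (n + 1) => a (i.succAbove k)) :=
  (Pi.lift (fun k : Fin (n + 1) => Pi.π (fun k => Y (a k)) (i.succAbove k))).left

/-- the coface maps of the Čech cosimplicial group -/
noncomputable abbrev coface (P : Cᵒᵖ ⥤ AddCommGrpCat.{w}) (n : ℕ) (i : Fin (n + 2)) :
    (K Y P).X n ⟶ (K Y P).X (n + 1) :=
  ((FormalCoproduct.cosimplicialObjectFunctor (FormalCoproduct.mk _ Y).cech).obj
    ((Over.forget U).op ⋙ P)).δ i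

lemma coface_proj (P : Cᵒᵖ ⥤ AddCommGrpCat.{w}) (n : ℕ) (i : Fin (n + 2)) (a : Fin (n + 2) → ι) :
    coface Y P n i ≫ proj Y P (n + 1) a =
      proj Y P n (fun k => a (i.succAbove k)) ≫ P.map (face Y a i).op := by
  have h : coface Y P n i = Pi.lift (fun (b : Fin (n + 2) → ι) =>
      Pi.π (fun (c : Fin (n + 1) → ι) => P.obj (op (YY Y c))) (fun k => b (i.succAbove k)) ≫
        P.map (face Y b i).op) := rfl
  rw [h]
  exact Pi.lift_π _ a

lemma d_eq (P : Cᵒᵖ ⥤ AddCommGrpCat.{w}) (n : ℕ) :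
    (K Y P).d n (n + 1) = ∑ i : Fin (n + 2), (-1 : ℤ) ^ (i : ℕ) • coface Y P n i := by
  exact CochainComplex.of_d (V := AddCommGrpCat.{w}) _
    (AlgebraicTopology.AlternatingCofaceMapComplex.objD
      ((FormalCoproduct.cosimplicialObjectFunctor (FormalCoproduct.mk _ Y).cech).obj
        ((Over.forget U).op ⋙ P))) n

lemma d0_proj (P : Cᵒᵖ ⥤ AddCommGrpCat.{w}) (a : Fin 2 → ι) :
    (K Y P).d 0 1 ≫ proj Y P 1 a =
      proj Y P 0 (fun k => a ((0 : Fin 2).succAbove k)) ≫ P.map (face Y a 0).op -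
        proj Y P 0 (fun k => a ((1 : Fin 2).succAbove k)) ≫ P.map (face Y a 1).op := by
  rw [d_eq Y P 0, Fin.sum_univ_two, Preadditive.add_comp, Preadditive.zsmul_comp,
    Preadditive.zsmul_comp, coface_proj, coface_proj]
  simp [sub_eq_add_neg]

lemma d0_apply (P : Cᵒᵖ ⥤ AddCommGrpCat.{w}) (a : Fin 2 → ι) (t : (K Y P).X 0) :
    (proj Y P 1 a).hom (((K Y P).d 0 1).hom t) =
      (P.map (face Y a 0).op).hom ((proj Y P 0 (fun k => a ((0 : Fin 2).succAbove k))).hom t) -
        (P.map (face Y a 1).op).hom ((proj Y P 0 (fun k => a ((1 : Fin 2).succAbove k))).hom t) := by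
  have h := ConcreteCategory.congr_hom (d0_proj Y P a) t
  exact h

/-- a dependent family over `Fin 2` from its two members -/
def fam2 {β : Fin 2 → Sort*} (x0 : β 0) (x1 : β 1) : ∀ k, β k
  | 0 => x0
  | 1 => x1

/-- the diagonal `Y i ⟶ ∏ (fun _ : Fin 1 => Y i)` -/
noncomputable def dg (i : ι) : (Y i).left ⟶ YY Y (fun _ : Fin 1 => i) :=
  (Pi.lift (fun _ : Fin 1 => 𝟙 (Y i))).left

/-- the projection from the one-fold fibre product -/
noncomputable def pr0 (b : Fin 1 → ι) : YY Y b ⟶ (Y (b 0)).left :=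
  (Pi.π (fun k => Y (b k)) 0).left

lemma pr0_dg (i : ι) : pr0 Y (fun _ : Fin 1 => i) ≫ dg Y i = 𝟙 _ := by
  have h : Pi.π (fun _ : Fin 1 => Y i) 0 ≫ Pi.lift (fun _ : Fin 1 => 𝟙 (Y i)) = 𝟙 _ := by
    apply Pi.hom_ext
    intro k
    obtain rfl : k = 0 := Subsingleton.elim _ _
    simp
  exact congrArg (fun m => m.left) h

/-- the family of sections attached to a 0-cochain -/
noncomputable def sec (Q : Cᵒᵖ ⥤ AddCommGrpCat.{w}) (t : (K Y Q).X 0) (i : ι) :
    Q.obj (op (Y i).left) :=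
  (Q.map (dg Y i).op).hom ((proj Y Q 0 (fun _ => i)).hom t)

lemma proj_eq_sec (Q : Cᵒᵖ ⥤ AddCommGrpCat.{w}) (t : (K Y Q).X 0) (b : Fin 1 → ι) :
    (proj Y Q 0 b).hom t = (Q.map (pr0 Y b).op).hom (sec Y Q t (b 0)) := by
  obtain ⟨i, rfl⟩ : ∃ i, b = fun _ => i := ⟨b 0, by
    funext k
    obtain rfl : k = 0 := Subsingleton.elim _ _
    rfl⟩
  change _ = (Q.map (pr0 Y (fun _ : Fin 1 => i)).op).hom ((Q.map (dg Y i).op).hom _)
  have h : Q.map (dg Y i).op ≫ Q.map (pr0 Y (fun _ : Fin 1 => i)).op = 𝟙 _ := by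
    rw [← Q.map_comp, ← op_comp, pr0_dg, op_id, Q.map_id]
  exact (ConcreteCategory.congr_hom h _).symm

lemma face_pr0 (a : Fin 2 → ι) (i : Fin 2) :
    face Y a i ≫ pr0 Y (fun k => a (i.succAbove k)) =
      (Pi.π (fun k => Y (a k)) (i.succAbove 0)).left := by
  rw [face, pr0, ← Over.comp_left, Pi.lift_π]

lemma sec_cocycle (Q : Cᵒᵖ ⥤ AddCommGrpCat.{w}) (t : (K Y Q).X 0)
    (ht : ((K Y Q).d 0 1).hom t = 0) (a : Fin 2 → ι) :
    (Q.map (Pi.π (fun k => Y (a k)) 1).left.op).hom (sec Y Q t (a 1)) =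
      (Q.map (Pi.π (fun k => Y (a k)) 0).left.op).hom (sec Y Q t (a 0)) := by
  have h := d0_apply Y Q a t
  rw [ht, map_zero, proj_eq_sec, proj_eq_sec] at h
  have h0 : (Q.map (face Y a 0).op).hom
      ((Q.map (pr0 Y (fun k => a ((0 : Fin 2).succAbove k))).op).hom
      (sec Y Q t (a ((0 : Fin 2).succAbove 0)))) =
      (Q.map (Pi.π (fun k => Y (a k)) 1).left.op).hom (sec Y Q t (a 1)) := by
    have e := face_pr0 Y a 0
    have e' : Q.map (pr0 Y (fun k => a ((0 : Fin 2).succAbove k))).op ≫ Q.map (face Y a 0).op =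
        Q.map (Pi.π (fun k => Y (a k)) ((0 : Fin 2).succAbove 0)).left.op := by
      rw [← Q.map_comp, ← op_comp, e]
    exact ConcreteCategory.congr_hom e' _
  have h1 : (Q.map (face Y a 1).op).hom
      ((Q.map (pr0 Y (fun k => a ((1 : Fin 2).succAbove k))).op).hom
      (sec Y Q t (a ((1 : Fin 2).succAbove 0)))) =
      (Q.map (Pi.π (fun k => Y (a k)) 0).left.op).hom (sec Y Q t (a 0)) := by
    have e := face_pr0 Y a 1
    have e' : Q.map (pr0 Y (fun k => a ((1 : Fin 2).succAbove k))).op ≫ Q.map (face Y a 1).op =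
        Q.map (Pi.π (fun k => Y (a k)) ((1 : Fin 2).succAbove 0)).left.op := by
      rw [← Q.map_comp, ← op_comp, e]
    exact ConcreteCategory.congr_hom e' _
  rw [h0, h1] at h
  exact (sub_eq_zero.1 h.symm)

lemma sec_compatible (Q : Cᵒᵖ ⥤ AddCommGrpCat.{w}) (t : (K Y Q).X 0)
    (ht : ((K Y Q).d 0 1).hom t = 0) (i j : ι) (Z : C) (gi : Z ⟶ (Y i).left) (gj : Z ⟶ (Y j).left)
    (hw : gi ≫ (Y i).hom = gj ≫ (Y j).hom) :
    (Q.map gi.op).hom (sec Y Q t i) = (Q.map gj.op).hom (sec Y Q t j) := by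
  let a : Fin 2 → ι := fam2 (β := fun _ => ι) i j
  let Z' : Over U := Over.mk (gi ≫ (Y i).hom)
  let m : Z' ⟶ ∏ᶜ fun k => Y (a k) :=
    Pi.lift (fam2 (β := fun k => Z' ⟶ Y (a k)) (Over.homMk gi rfl) (Over.homMk gj hw.symm))
  have hm0 : m.left ≫ (Pi.π (fun k => Y (a k)) 0).left = gi := by
    rw [← Over.comp_left, Pi.lift_π]
    rfl
  have hm1 : m.left ≫ (Pi.π (fun k => Y (a k)) 1).left = gj := by
    rw [← Over.comp_left, Pi.lift_π]
    rfl
  have h := congrArg (Q.map m.left.op).hom (sec_cocycle Y Q t ht a)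
  have e0 : Q.map (Pi.π (fun k => Y (a k)) 0).left.op ≫ Q.map m.left.op = Q.map gi.op := by
    rw [← Q.map_comp, ← op_comp]
    exact congrArg (fun g => Q.map (Quiver.Hom.op g)) hm0
  have e1 : Q.map (Pi.π (fun k => Y (a k)) 1).left.op ≫ Q.map m.left.op = Q.map gj.op := by
    rw [← Q.map_comp, ← op_comp]
    exact congrArg (fun g => Q.map (Quiver.Hom.op g)) hm1
  exact ((ConcreteCategory.congr_hom e0 _).symm.trans h.symm).trans (ConcreteCategory.congr_hom e1 _)

variable (J : GrothendieckTopology C) [J.HasSheafCompose (forget AddCommGrpCat.{w})]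
  (P : Sheaf J AddCommGrpCat.{w})

/-- a 0-cocycle of a sheaf for a covering family is the restriction of a unique section -/
theorem glue (hY : Sieve.ofArrows (fun i => (Y i).left) (fun i => (Y i).hom) ∈ J U)
    (t : (K Y P.obj).X 0) (ht : ((K Y P.obj).d 0 1).hom t = 0) :
    ∃ τ : P.obj.obj (op U), ∀ b : Fin 1 → ι,
      (proj Y P.obj 0 b).hom t = (P.obj.map (∏ᶜ fun k => Y (b k)).hom.op).hom τ := by
  have hsh : Presieve.IsSheaf J (P.obj ⋙ forget AddCommGrpCat.{w}) :=
    (isSheaf_iff_isSheaf_of_type J _).1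
      ((sheafCompose J (forget AddCommGrpCat.{w})).obj P).2
  have h1 := hsh _ hY
  rw [Sieve.ofArrows, ← Presieve.isSheafFor_iff_generate, Presieve.isSheafFor_arrows_iff] at h1
  obtain ⟨τ, hτ, -⟩ := h1 (sec Y P.obj t)
    (fun i j Z gi gj hw => sec_compatible Y P.obj t ht i j Z gi gj hw)
  refine ⟨τ, fun b => ?_⟩
  rw [proj_eq_sec]
  have e : P.obj.map (Y (b 0)).hom.op ≫ P.obj.map (pr0 Y b).op =
      P.obj.map (∏ᶜ fun k => Y (b k)).hom.op := by
    rw [← P.obj.map_comp, ← op_comp]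
    congr 2
    exact Over.w (Pi.π (fun k => Y (b k)) 0)
  rw [← ConcreteCategory.congr_hom e τ]
  exact congrArg (P.obj.map (pr0 Y b).op).hom (hτ (b 0)).symm

lemma face_hom {n : ℕ} (a : Fin (n + 2) → ι) (i : Fin (n + 2)) :
    face Y a i ≫ (∏ᶜ fun k : Fin (n + 1) => Y (a (i.succAbove k))).hom =
      (∏ᶜ fun k => Y (a k)).hom :=
  Over.w (Pi.lift (fun k : Fin (n + 1) => Pi.π (fun k => Y (a k)) (i.succAbove k)))

/-- the restriction of a section over `U` to the family is a `0`-cocycle -/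
lemma d0_aug (Q : Cᵒᵖ ⥤ AddCommGrpCat.{w}) (τ : Q.obj (op U)) (t : (K Y Q).X 0)
    (ht : ∀ b : Fin 1 → ι, (proj Y Q 0 b).hom t = (Q.map (∏ᶜ fun k => Y (b k)).hom.op).hom τ) :
    ((K Y Q).d 0 1).hom t = 0 := by
  apply ext Y Q 1
  intro a
  rw [d0_apply, ht, ht, map_zero]
  have e : ∀ i : Fin 2, Q.map (∏ᶜ fun k : Fin 1 => Y (a (i.succAbove k))).hom.op ≫
      Q.map (face Y a i).op = Q.map (∏ᶜ fun k => Y (a k)).hom.op := by
    intro i
    rw [← Q.map_comp, ← op_comp, face_hom]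
  have e0 := ConcreteCategory.congr_hom (e 0) τ
  have e1 := ConcreteCategory.congr_hom (e 1) τ
  exact sub_eq_zero.2 (e0.trans e1.symm)

lemma dg_hom (i : ι) : dg Y i ≫ (∏ᶜ fun _ : Fin 1 => Y i).hom = (Y i).hom :=
  Over.w (Pi.lift (fun _ : Fin 1 => 𝟙 (Y i)))

/-- sections of a sheaf over `U` are determined by their restrictions to a covering family -/
lemma aug_injective (hY : Sieve.ofArrows (fun i => (Y i).left) (fun i => (Y i).hom) ∈ J U)
    (τ₁ τ₂ : P.obj.obj (op U))
    (h : ∀ b : Fin 1 → ι, (P.obj.map (∏ᶜ fun k => Y (b k)).hom.op).hom τ₁ =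
      (P.obj.map (∏ᶜ fun k => Y (b k)).hom.op).hom τ₂) : τ₁ = τ₂ := by
  have hsh : Presieve.IsSheaf J (P.obj ⋙ forget AddCommGrpCat.{w}) :=
    (isSheaf_iff_isSheaf_of_type J _).1
      ((sheafCompose J (forget AddCommGrpCat.{w})).obj P).2
  have e : ∀ (i : ι) (V : C) (k : V ⟶ (Y i).left) (τ : P.obj.obj (op U)),
      (P.obj.map (k ≫ (Y i).hom).op).hom τ =
      (P.obj.map (k ≫ dg Y i).op).hom ((P.obj.map (∏ᶜ fun _ : Fin 1 => Y i).hom.op).hom τ) := by
    intro i V k τ
    have e' : P.obj.map (∏ᶜ fun _ : Fin 1 => Y i).hom.op ≫ P.obj.map (k ≫ dg Y i).op =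
        P.obj.map (k ≫ (Y i).hom).op := by
      rw [← P.obj.map_comp, ← op_comp, Category.assoc, dg_hom]
    exact (ConcreteCategory.congr_hom e' τ).symm
  refine (hsh _ hY).isSeparatedFor.ext ?_
  rintro V f ⟨W, k, g, hg, rfl⟩
  obtain ⟨i⟩ := hg
  exact (e i _ k τ₁).trans ((congrArg _ (h (fun _ => i))).trans (e i _ k τ₂).symm)

/-- vanishing of the first Čech cohomology: `1`-cocycles are coboundaries -/
lemma exists_of_isZero_H1 (Q : Cᵒᵖ ⥤ AddCommGrpCat.{w}) (hQ : IsZero (EtCech.cechH Y Q 1))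
    (e : (K Y Q).X 1) (he : ((K Y Q).d 1 2).hom e = 0) :
    ∃ b : (K Y Q).X 0, ((K Y Q).d 0 1).hom b = e := by
  have h1 : (K Y Q).ExactAt 1 := (HomologicalComplex.exactAt_iff_isZero_homology _ _).2 hQ
  rw [(K Y Q).exactAt_iff' 0 1 2 (by simp) (by simp), ShortComplex.ab_exact_iff] at h1
  exact h1 e he

/-- vanishing of Čech cohomology in degree `p + 1`: cocycles are coboundaries -/
lemma exists_of_isZero_H (Q : Cᵒᵖ ⥤ AddCommGrpCat.{w}) (p : ℕ)
    (hQ : IsZero (EtCech.cechH Y Q (p + 1)))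
    (e : (K Y Q).X (p + 1)) (he : ((K Y Q).d (p + 1) (p + 2)).hom e = 0) :
    ∃ b : (K Y Q).X p, ((K Y Q).d p (p + 1)).hom b = e := by
  have h1 : (K Y Q).ExactAt (p + 1) := (HomologicalComplex.exactAt_iff_isZero_homology _ _).2 hQ
  rw [(K Y Q).exactAt_iff' p (p + 1) (p + 2) (by simp) (by simp), ShortComplex.ab_exact_iff] at h1
  exact h1 e he

/-- conversely -/
lemma isZero_H_of_exists (Q : Cᵒᵖ ⥤ AddCommGrpCat.{w}) (p : ℕ)
    (h : ∀ e : (K Y Q).X (p + 1), ((K Y Q).d (p + 1) (p + 2)).hom e = 0 →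
      ∃ b : (K Y Q).X p, ((K Y Q).d p (p + 1)).hom b = e) :
    IsZero (EtCech.cechH Y Q (p + 1)) := by
  have h1 : (K Y Q).ExactAt (p + 1) := by
    rw [(K Y Q).exactAt_iff' p (p + 1) (p + 2) (by simp) (by simp), ShortComplex.ab_exact_iff]
    exact h
  exact (HomologicalComplex.exactAt_iff_isZero_homology _ _).1 h1

end Low

section ShSec

variable {C : Type u} [Category.{v} C] {J : GrothendieckTopology C}
  [HasSheafify J AddCommGrpCat.{w}] [J.WEqualsLocallyBijective AddCommGrpCat.{w}]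
  {S : ShortComplex (Sheaf J AddCommGrpCat.{w})}

/-- sections over `V` -/
noncomputable abbrev Γ (J : GrothendieckTopology C) (V : C) :
    Sheaf J AddCommGrpCat.{w} ⥤ AddCommGrpCat.{w} :=
  sheafToPresheaf J AddCommGrpCat.{w} ⋙ (evaluation Cᵒᵖ AddCommGrpCat.{w}).obj (op V)

instance (V : C) : (Γ.{w} J V).Additive where

lemma injective_f (hS : S.ShortExact) (V : C) : Function.Injective (S.f.hom.app (op V)) := by
  have := hS.mono_f
  have h : Mono ((Γ J V).map S.f) := inferInstance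
  exact (AddCommGrpCat.mono_iff_injective _).1 h

lemma zero_apply (V : C) (y : S.X₁.obj.obj (op V)) :
    (S.g.hom.app (op V)).hom ((S.f.hom.app (op V)).hom y) = 0 := by
  have h : (Γ J V).map S.f ≫ (Γ J V).map S.g = 0 := by
    rw [← Functor.map_comp, S.zero, Functor.map_zero]
  exact ConcreteCategory.congr_hom h y

lemma exact_sections (hS : S.ShortExact) (V : C) (x : S.X₂.obj.obj (op V))
    (hx : (S.g.hom.app (op V)).hom x = 0) :
    ∃ y : S.X₁.obj.obj (op V), (S.f.hom.app (op V)).hom y = x := by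
  have := hS.mono_f
  have h : (S.map (Γ J V)).Exact :=
    hS.exact.map_of_mono_of_preservesKernel (Γ J V) inferInstance inferInstance
  rw [ShortComplex.ab_exact_iff] at h
  exact h x hx

lemma imageSieve_mem (hS : S.ShortExact) {U : C} (s : S.X₃.obj.obj (op U)) :
    Presheaf.imageSieve S.g.hom s ∈ J U := by
  have := hS.epi_g
  have : Sheaf.IsLocallySurjective S.g :=
    (Sheaf.isLocallySurjective_iff_epi' (φ := S.g)).2 inferInstance
  exact Presheaf.imageSieve_mem J S.g.hom s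

end ShSec

section Surj

variable {C : Type u} [Category.{v} C] {J : GrothendieckTopology C}
  [HasSheafify J AddCommGrpCat.{w}] [J.WEqualsLocallyBijective AddCommGrpCat.{w}]
  [J.HasSheafCompose (forget AddCommGrpCat.{w})]
  {S : ShortComplex (Sheaf J AddCommGrpCat.{w})} {U : C} [HasFiniteProducts (Over U)]
  {ι : Type w} (Y : ι → Over U)

/-- a section of the quotient which lifts on a covering family with vanishing first Čech
cohomology of the kernel lifts globally -/
theorem exists_lift (hS : S.ShortExact)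
    (hY : Sieve.ofArrows (fun i => (Y i).left) (fun i => (Y i).hom) ∈ J U)
    (hH : IsZero (EtCech.cechH Y S.X₁.obj 1)) (s : S.X₃.obj.obj (op U))
    (hs : ∀ i, ∃ t : S.X₂.obj.obj (op (Y i).left),
      (S.g.hom.app (op (Y i).left)).hom t = (S.X₃.obj.map (Y i).hom.op).hom s) :
    ∃ τ : S.X₂.obj.obj (op U), (S.g.hom.app (op U)).hom τ = s := by
  choose ti hti using hs
  -- the 0-cochain of local lifts
  obtain ⟨t, ht⟩ := exists_cochain Y S.X₂.obj 0
    (fun b => (S.X₂.obj.map (pr0 Y b).op).hom (ti (b 0)))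
  -- its image is the restriction of `s`
  have hσ : ∀ b : Fin 1 → ι, (proj Y S.X₃.obj 0 b).hom (((Kmap Y S.g.hom).f 0).hom t) =
      (S.X₃.obj.map (∏ᶜ fun k => Y (b k)).hom.op).hom s := by
    intro b
    rw [Kmap_proj_apply, ht]
    have n1 := ConcreteCategory.congr_hom (S.g.hom.naturality (pr0 Y b).op) (ti (b 0))
    refine n1.trans ?_
    change (S.X₃.obj.map (pr0 Y b).op).hom ((S.g.hom.app (op (Y (b 0)).left)).hom (ti (b 0))) = _
    rw [hti]
    have e : S.X₃.obj.map (Y (b 0)).hom.op ≫ S.X₃.obj.map (pr0 Y b).op =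
        S.X₃.obj.map (∏ᶜ fun k => Y (b k)).hom.op := by
      rw [← S.X₃.obj.map_comp, ← op_comp]
      congr 2
      exact Over.w (Pi.π (fun k => Y (b k)) 0)
    exact ConcreteCategory.congr_hom e s
  have hdσ : ((K Y S.X₃.obj).d 0 1).hom (((Kmap Y S.g.hom).f 0).hom t) = 0 :=
    d0_aug Y S.X₃.obj s _ hσ
  -- so `d t` comes from a 1-cochain of the kernel
  have hgdt : ((Kmap Y S.g.hom).f 1).hom (((K Y S.X₂.obj).d 0 1).hom t) = 0 := by
    have := ConcreteCategory.congr_hom ((Kmap Y S.g.hom).comm 0 1) t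
    exact this.symm.trans hdσ
  have he : ∀ a : Fin 2 → ι, ∃ y : S.X₁.obj.obj (op (YY Y a)),
      (S.f.hom.app (op (YY Y a))).hom y =
        (proj Y S.X₂.obj 1 a).hom (((K Y S.X₂.obj).d 0 1).hom t) := by
    intro a
    apply exact_sections hS
    rw [← Kmap_proj_apply, hgdt, map_zero]
  choose ea hea using he
  obtain ⟨e, he⟩ := exists_cochain Y S.X₁.obj 1 ea
  have hfe : ((Kmap Y S.f.hom).f 1).hom e = ((K Y S.X₂.obj).d 0 1).hom t := by
    apply ext Y S.X₂.obj 1
    intro a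
    rw [Kmap_proj_apply, he, hea]
  -- `e` is a cocycle
  have hinj : ∀ (n : ℕ) (x : (K Y S.X₁.obj).X n), ((Kmap Y S.f.hom).f n).hom x = 0 → x = 0 := by
    intro n x hx
    apply ext Y S.X₁.obj n
    intro a
    apply injective_f hS
    rw [map_zero, map_zero, ← Kmap_proj_apply, hx, map_zero]
  have hde : ((K Y S.X₁.obj).d 1 2).hom e = 0 := by
    apply hinj
    have := ConcreteCategory.congr_hom ((Kmap Y S.f.hom).comm 1 2) e
    refine this.symm.trans ?_
    change ((K Y S.X₂.obj).d 1 2).hom (((Kmap Y S.f.hom).f 1).hom e) = 0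
    rw [hfe]
    exact ConcreteCategory.congr_hom ((K Y S.X₂.obj).d_comp_d 0 1 2) t
  obtain ⟨b, hb⟩ := exists_of_isZero_H1 Y S.X₁.obj hH e hde
  -- corrected cochain
  have hd' : ((K Y S.X₂.obj).d 0 1).hom (t - ((Kmap Y S.f.hom).f 0).hom b) = 0 := by
    rw [map_sub]
    have := ConcreteCategory.congr_hom ((Kmap Y S.f.hom).comm 0 1) b
    have h2 : ((K Y S.X₂.obj).d 0 1).hom (((Kmap Y S.f.hom).f 0).hom b) =
        ((Kmap Y S.f.hom).f 1).hom (((K Y S.X₁.obj).d 0 1).hom b) := this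
    rw [h2, hb, hfe, sub_self]
  obtain ⟨τ, hτ⟩ := glue Y J S.X₂ hY _ hd'
  refine ⟨τ, ?_⟩
  apply aug_injective Y J S.X₃ hY
  intro c
  rw [← hσ c]
  have n1 := ConcreteCategory.congr_hom (S.g.hom.naturality (∏ᶜ fun k => Y (c k)).hom.op) τ
  refine n1.symm.trans ?_
  change (S.g.hom.app (op (YY Y c))).hom ((S.X₂.obj.map (∏ᶜ fun k => Y (c k)).hom.op).hom τ) = _
  rw [← hτ c, map_sub, map_sub, Kmap_proj_apply, Kmap_proj_apply, zero_apply, sub_zero]

end Surj

section LES

variable {C : Type u} [Category.{v} C] {U : C} [HasFiniteProducts (Over U)] {ι : Type w}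
  (Y : ι → Over U) {A I Q : Cᵒᵖ ⥤ AddCommGrpCat.{w}} (f : A ⟶ I) (g : I ⟶ Q)

lemma Kmap_comp_zero
    (hzero : ∀ (V : C) (x : A.obj (op V)), (g.app (op V)).hom ((f.app (op V)).hom x) = 0) :
    Kmap Y f ≫ Kmap Y g = 0 := by
  ext n x
  apply CechDeltaG.ext Y Q n
  intro a
  change (proj Y Q n a).hom (((Kmap Y g).f n).hom (((Kmap Y f).f n).hom x)) = (proj Y Q n a).hom 0
  rw [Kmap_proj_apply, Kmap_proj_apply, hzero, map_zero]

/-- the short complex of Čech complexes attached to a complex of presheaves -/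
noncomputable def SC
    (hzero : ∀ (V : C) (x : A.obj (op V)), (g.app (op V)).hom ((f.app (op V)).hom x) = 0) :
    ShortComplex (CochainComplex AddCommGrpCat.{w} ℕ) :=
  ShortComplex.mk (Kmap Y f) (Kmap Y g) (Kmap_comp_zero Y f g hzero)

lemma SC_shortExact
    (hzero : ∀ (V : C) (x : A.obj (op V)), (g.app (op V)).hom ((f.app (op V)).hom x) = 0)
    (hinj : ∀ (n : ℕ) (a : Fin (n + 1) → ι), Function.Injective (f.app (op (YY Y a))).hom)
    (hex : ∀ (n : ℕ) (a : Fin (n + 1) → ι) (y : I.obj (op (YY Y a))),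
      (g.app (op (YY Y a))).hom y = 0 → ∃ x, (f.app (op (YY Y a))).hom x = y)
    (hsurj : ∀ (n : ℕ) (a : Fin (n + 1) → ι), Function.Surjective (g.app (op (YY Y a))).hom) :
    (SC Y f g hzero).ShortExact := by
  apply HomologicalComplex.shortExact_of_degreewise_shortExact
  intro n
  have hm : Mono ((Kmap Y f).f n) := by
    rw [AddCommGrpCat.mono_iff_injective]
    intro x y hxy
    apply CechDeltaG.ext Y A n
    intro a
    apply hinj n a
    have := congrArg (proj Y I n a).hom hxy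
    rw [Kmap_proj_apply, Kmap_proj_apply] at this
    exact this
  have he : Epi ((Kmap Y g).f n) := by
    rw [AddCommGrpCat.epi_iff_surjective]
    intro z
    choose y hy using fun a => hsurj n a ((proj Y Q n a).hom z)
    obtain ⟨w, hw⟩ := exists_cochain Y I n y
    refine ⟨w, ?_⟩
    apply CechDeltaG.ext Y Q n
    intro a
    have := Kmap_proj_apply Y g n a w
    exact this.trans ((congrArg _ (hw a)).trans (hy a))
  refine ShortComplex.ShortExact.mk' ?_ hm he
  rw [ShortComplex.ab_exact_iff]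
  intro y hy
  have hy' : ∀ a, (g.app (op (YY Y a))).hom ((proj Y I n a).hom y) = 0 := by
    intro a
    have h1 := Kmap_proj_apply Y g n a y
    have h2 : ((Kmap Y g).f n).hom y = 0 := hy
    rw [h2, map_zero] at h1
    exact h1.symm
  choose x hx using fun a => hex n a _ (hy' a)
  obtain ⟨w, hw⟩ := exists_cochain Y A n x
  refine ⟨w, ?_⟩
  apply CechDeltaG.ext Y I n
  intro a
  have := Kmap_proj_apply Y f n a w
  exact this.trans ((congrArg _ (hw a)).trans (hx a))

/-- vanishing of Čech cohomology of the quotient from the long exact sequence -/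
theorem isZero_cechH_quotient
    (hzero : ∀ (V : C) (x : A.obj (op V)), (g.app (op V)).hom ((f.app (op V)).hom x) = 0)
    (hinj : ∀ (n : ℕ) (a : Fin (n + 1) → ι), Function.Injective (f.app (op (YY Y a))).hom)
    (hex : ∀ (n : ℕ) (a : Fin (n + 1) → ι) (y : I.obj (op (YY Y a))),
      (g.app (op (YY Y a))).hom y = 0 → ∃ x, (f.app (op (YY Y a))).hom x = y)
    (hsurj : ∀ (n : ℕ) (a : Fin (n + 1) → ι), Function.Surjective (g.app (op (YY Y a))).hom)
    (p : ℕ) (hI : IsZero (EtCech.cechH Y I p)) (hA : IsZero (EtCech.cechH Y A (p + 1))) :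
    IsZero (EtCech.cechH Y Q p) := by
  have hS := SC_shortExact Y f g hzero hinj hex hsurj
  have h3 := hS.homology_exact₃ p (p + 1) (by simp)
  exact h3.isZero_of_both_zeros (hI.eq_of_src _ _) (hA.eq_of_tgt _ _)

end LES

section Cartan

universe w'

variable {C : Type u} [Category.{v} C] [LocallySmall.{w} C] [∀ U : C, HasFiniteProducts (Over U)]
  (J : GrothendieckTopology C)
  [HasSheafify J AddCommGrpCat.{w}] [J.WEqualsLocallyBijective AddCommGrpCat.{w}]
  [J.HasSheafCompose (forget AddCommGrpCat.{w})]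
  [HasExt.{w'} (Sheaf J AddCommGrpCat.{w})] [EnoughInjectives (Sheaf J AddCommGrpCat.{w})]

/-- the underlying presheaf of an injective sheaf is injective -/
lemma injective_sheaf_obj (I : Sheaf J AddCommGrpCat.{w}) [Injective I] : Injective I.obj := by
  have : (sheafToPresheaf J AddCommGrpCat.{w}).PreservesInjectiveObjects :=
    Functor.preservesInjectiveObjects_of_adjunction_of_preservesMonomorphisms
      (sheafificationAdjunction J AddCommGrpCat.{w})
  exact (sheafToPresheaf J AddCommGrpCat.{w}).injective_obj I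

/-- Čech cohomology of an injective sheaf vanishes in positive degrees, for any family -/
lemma isZero_cechH_of_injective (I : Sheaf J AddCommGrpCat.{w}) [Injective I] {V : C} {ι : Type w}
    (Y : ι → Over V) (p : ℕ) : IsZero (EtCech.cechH Y I.obj (p + 1)) := by
  have := injective_sheaf_obj J I
  have : PreservesFiniteProducts (Over.post (X := V) (𝟭 C)) :=
    OverPostProdG.preservesFiniteProducts_overPost (𝟭 C) V
  exact CechG.isZero_cech_of_injective (𝟭 C) Y I.obj p

/-- **Cartan's criterion**: let `B` be a class of objects and `Cov` a class of covering families of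
members of `B`, stable under iterated fibre products and cofinal among coverings of members of `B`.
A sheaf all of whose positive Čech cohomology for families in `Cov` vanishes is acyclic for
`Ext(Z, -)`, for every sheaf `Z` such that morphisms `Z ⟶ Q` lift along epimorphisms `I ⟶ Q` which
are surjective on sections over some fixed member `U` of `B`. -/
theorem cartan (B : Set C) (Cov : ∀ (U : C) (ι : Type w), (ι → Over U) → Prop)
    (h1 : ∀ (U : C) (ι : Type w) (Y : ι → Over U), Cov U ι Y → U ∈ B ∧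
      Sieve.ofArrows (fun i => (Y i).left) (fun i => (Y i).hom) ∈ J U ∧
      ∀ (p : ℕ) (a : Fin (p + 1) → ι), (∏ᶜ fun k => Y (a k)).left ∈ B)
    (h2 : ∀ U ∈ B, ∀ T ∈ J U, ∃ (ι : Type w) (Y : ι → Over U), Cov U ι Y ∧
      ∀ i, T.arrows (Y i).hom)
    (Z : Sheaf J AddCommGrpCat.{w}) (U : C) (hU : U ∈ B)
    (hZ : ∀ (S : ShortComplex (Sheaf J AddCommGrpCat.{w})),
      Function.Surjective (S.g.hom.app (op U)).hom →
        ∀ ψ : Z ⟶ S.X₃, ∃ ψ' : Z ⟶ S.X₂, ψ' ≫ S.g = ψ)
    (F : Sheaf J AddCommGrpCat.{w})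
    (h3 : ∀ (V : C) (ι : Type w) (Y : ι → Over V), Cov V ι Y → ∀ p : ℕ,
      IsZero (EtCech.cechH Y F.obj (p + 1)))
    (p : ℕ) (x : Abelian.Ext.{w'} Z F (p + 1)) : x = 0 := by
  have hsurjB : ∀ (S : ShortComplex (Sheaf J AddCommGrpCat.{w})) (hS : S.ShortExact),
      (∀ (V : C) (ι : Type w) (Y : ι → Over V), Cov V ι Y → ∀ p : ℕ,
        IsZero (EtCech.cechH Y S.X₁.obj (p + 1))) →
      ∀ V ∈ B, Function.Surjective (S.g.hom.app (Opposite.op V)).hom := by
    intro S hS h1' V hV s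
    obtain ⟨ι, Y, hc, hT⟩ := h2 V hV _ (imageSieve_mem hS s)
    exact exists_lift Y hS (h1 V ι Y hc).2.1 (h1' V ι Y hc 0) s hT
  exact AcyClass.ext_eq_zero Z
    (fun M : Sheaf J AddCommGrpCat.{w} => ∀ (V : C) (ι : Type w) (Y : ι → Over V), Cov V ι Y →
      ∀ p : ℕ, IsZero (EtCech.cechH Y M.obj (p + 1))) (by
      intro S hS hX1 hinjX2
      refine ⟨?_, ?_⟩
      · intro V ι Y hc p
        have hYB := (h1 V ι Y hc).2.2
        have := hinjX2
        exact isZero_cechH_quotient Y S.f.hom S.g.hom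
          (fun V x => zero_apply V x)
          (fun n a => injective_f hS _)
          (fun n a y hy => exact_sections hS _ y hy)
          (fun n a => hsurjB S hS hX1 _ (hYB n a)) (p + 1)
          (isZero_cechH_of_injective J S.X₂ Y p)
          (hX1 V ι Y hc (p + 1))
      · intro ψ
        exact hZ S (hsurjB S hS hX1 U hU) ψ) p F h3 x

end Cartan

end H9FE.CechCartanG
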