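import Mathlib
import Groth.Agent.Lib.Helper9.FE.CechCartanG
import Groth.Agent.Lib.Helper9.FE.SiteSectColim

/-! helper9: on a site with a class `B` of quasi-compact quasi-separated objects (`QcClass`), Čech
cohomology with respect to a finite family all of whose iterated fibre products lie in `B` commutes
with filtered colimits of abelian sheaves, in the form: a filtered colimit of sheaves with vanishing
Čech cohomology in degree `p + 1` has vanishing Čech cohomology in degree `p + 1`. -/

set_option autoImplicit false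
set_option linter.unusedSectionVars false
universe w v u
open CategoryTheory Limits Opposite

namespace H9FE.SiteCechColim

open Groth.Agent.Helper3 Groth.Agent.Helper3.CechDeltaG H9FE.CechCartanG H9FE.SiteSectColim

variable {C : Type u} [Category.{v} C] [HasPullbacks C] {Jt : GrothendieckTopology C}
  [HasSheafify Jt AddCommGrpCat.{w}] [Jt.WEqualsLocallyBijective AddCommGrpCat.{w}]
  [Jt.HasSheafCompose (forget AddCommGrpCat.{w})]
  {J : Type w} [SmallCategory J] [IsFiltered J] (D : J ⥤ Sheaf Jt AddCommGrpCat.{w})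
  {B : Set C} (hB : QcClass Jt B)
  {V : C} [HasFiniteProducts (Over V)] {ι : Type w} [Finite ι] (Y : ι → Over V)

include hB in
theorem isZero_cechH_colimit
    (hYB : ∀ (p : ℕ) (a : Fin (p + 1) → ι), (∏ᶜ fun k => Y (a k)).left ∈ B)
    (c : Cocone D) (hc : IsColimit c) (p : ℕ)
    (hK : ∀ j, IsZero (EtCech.cechH Y (D.obj j).obj (p + 1))) :
    IsZero (EtCech.cechH Y c.pt.obj (p + 1)) := by
  classical
  apply isZero_H_of_exists
  intro e he
  let _i1 : Fintype (Fin (p + 1 + 1) → ι) := Fintype.ofFinite _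
  let _i2 : Fintype (Fin (p + 2 + 1) → ι) := Fintype.ofFinite _
  -- represent the components of `e` at a common stage
  choose ja ya hya using fun a : Fin (p + 1 + 1) → ι =>
    sect_surj D hB c hc (hYB (p + 1) a) ((proj Y c.pt.obj (p + 1) a).hom e)
  obtain ⟨j, hj⟩ := IsFiltered.sup_objs_exists (Finset.univ.image ja)
  have hj' : ∀ a, Nonempty (ja a ⟶ j) := fun a =>
    hj (Finset.mem_image_of_mem ja (Finset.mem_univ a))
  obtain ⟨ε, hε⟩ := exists_cochain Y (D.obj j).obj (p + 1)
    (fun a => (D.map (hj' a).some).hom.app (op (YY Y a)) (ya a))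
  have hεe : ((Kmap Y (c.ι.app j).hom).f (p + 1)).hom ε = e := by
    apply CechDeltaG.ext Y c.pt.obj (p + 1)
    intro a
    rw [Kmap_proj_apply, hε, ← hya a]
    have hw : D.map (hj' a).some ≫ c.ι.app j = c.ι.app (ja a) := c.w (hj' a).some
    rw [← hw]
    rfl
  -- the differential of `ε` dies at a later stage
  have hdε : ((Kmap Y (c.ι.app j).hom).f (p + 2)).hom
      (((CechDeltaG.K Y (D.obj j).obj).d (p + 1) (p + 2)).hom ε) = 0 := by
    have := ConcreteCategory.congr_hom ((Kmap Y (c.ι.app j).hom).comm (p + 1) (p + 2)) ε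
    refine this.symm.trans ?_
    change ((CechDeltaG.K Y c.pt.obj).d (p + 1) (p + 2)).hom (((Kmap Y (c.ι.app j).hom).f (p + 1)).hom ε) = 0
    rw [hεe]
    exact he
  have hex : ∀ b ∈ (Finset.univ : Finset (Fin (p + 2 + 1) → ι)), ∃ (k : J) (f : j ⟶ k),
      (D.map f).hom.app (op (YY Y b))
        ((proj Y (D.obj j).obj (p + 2) b).hom (((CechDeltaG.K Y (D.obj j).obj).d (p + 1) (p + 2)).hom ε)) = 0 := by
    intro b _
    apply sect_inj D hB c hc (hYB (p + 2) b) j
    rw [← Kmap_proj_apply, hdε, map_zero]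
  obtain ⟨k, f, hk⟩ := eventually_all j Finset.univ
    (fun (b : Fin (p + 2 + 1) → ι) k f => (D.map f).hom.app (op (YY Y b))
        ((proj Y (D.obj j).obj (p + 2) b).hom (((CechDeltaG.K Y (D.obj j).obj).d (p + 1) (p + 2)).hom ε)) = 0)
    (by
      intro b k f k' g' h
      rw [map_comp_apply, h, map_zero]) hex
  -- so the image of `ε` at stage `k` is a cocycle, hence a coboundary
  let ε' := ((Kmap Y (D.map f).hom).f (p + 1)).hom ε
  have hdε' : ((CechDeltaG.K Y (D.obj k).obj).d (p + 1) (p + 2)).hom ε' = 0 := by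
    have := ConcreteCategory.congr_hom ((Kmap Y (D.map f).hom).comm (p + 1) (p + 2)) ε
    refine this.trans ?_
    change ((Kmap Y (D.map f).hom).f (p + 2)).hom
      (((CechDeltaG.K Y (D.obj j).obj).d (p + 1) (p + 2)).hom ε) = 0
    apply CechDeltaG.ext Y (D.obj k).obj (p + 2)
    intro b
    rw [Kmap_proj_apply, map_zero]
    exact hk b (Finset.mem_univ b)
  obtain ⟨β, hβ⟩ := exists_of_isZero_H Y (D.obj k).obj p (hK k) ε' hdε'
  refine ⟨((Kmap Y (c.ι.app k).hom).f p).hom β, ?_⟩
  have h1 := ConcreteCategory.congr_hom ((Kmap Y (c.ι.app k).hom).comm p (p + 1)) β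
  refine Eq.trans h1 ?_
  change ((Kmap Y (c.ι.app k).hom).f (p + 1)).hom (((CechDeltaG.K Y (D.obj k).obj).d p (p + 1)).hom β) = e
  rw [hβ, ← hεe]
  have hw : D.map f ≫ c.ι.app k = c.ι.app j := c.w f
  have h2 : Kmap Y (D.map f).hom ≫ Kmap Y (c.ι.app k).hom = Kmap Y (c.ι.app j).hom := by
    rw [← hw]
    exact ((cxFunctor Y).map_comp _ _).symm
  rw [← h2]
  rfl

end H9FE.SiteCechColim
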