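import Mathlib
import Groth.Agent.Lib.Helper9.FE.SiteCechColim
import Groth.Agent.Lib.Helper9.FE.ExtFilteredColim

/-! helper9: on a site with a class `B` of quasi-compact quasi-separated objects (`QcClass`, stable
under isomorphisms), for an object `U` of `B` and an abelian sheaf `Z` corepresenting sections over
`U` (`Repr Z U`), the groups `Ext^n(Z, -)`, i.e. the cohomology groups `H^n(U, -)`, commute with
filtered colimits of abelian sheaves (in the elementwise form `HSurj`/`HInj`). -/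

set_option autoImplicit false
set_option linter.unusedSectionVars false
set_option linter.style.haveILetI false
universe w' w v u
open CategoryTheory Limits Opposite Abelian

namespace H9FE.SiteHUColim

open H9FE.SiteSectColim H9FE.CechCartanG H9FE.SiteCechColim H9FE.ExtFilteredColim

variable {C : Type u} [Category.{v} C] {Jt : GrothendieckTopology C}

/-- `Z` corepresents sections over `U` -/
structure Repr (Z : Sheaf Jt AddCommGrpCat.{w}) (U : C) where
  /-- the bijection between morphisms out of `Z` and sections over `U` -/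
  e : ∀ G : Sheaf Jt AddCommGrpCat.{w}, (Z ⟶ G) ≃ G.obj.obj (op U)
  nat : ∀ {G G' : Sheaf Jt AddCommGrpCat.{w}} (φ : G ⟶ G') (ψ : Z ⟶ G),
    e G' (ψ ≫ φ) = φ.hom.app (op U) (e G ψ)

namespace Repr

variable {Z : Sheaf Jt AddCommGrpCat.{w}} {U : C} (R : Repr Z U)

/-- the universal section -/
def gen : Z.obj.obj (op U) := R.e Z (𝟙 Z)

lemma e_eq (G : Sheaf Jt AddCommGrpCat.{w}) (ψ : Z ⟶ G) :
    R.e G ψ = ψ.hom.app (op U) R.gen := by
  have h := R.nat ψ (𝟙 Z)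
  rw [Category.id_comp] at h
  exact h

lemma e_zero (G : Sheaf Jt AddCommGrpCat.{w}) : R.e G 0 = 0 := by
  rw [e_eq]
  rfl

lemma e_add (G : Sheaf Jt AddCommGrpCat.{w}) (ψ ψ' : Z ⟶ G) :
    R.e G (ψ + ψ') = R.e G ψ + R.e G ψ' := by
  rw [e_eq, e_eq, e_eq]
  rfl

lemma e_nsmul (G : Sheaf Jt AddCommGrpCat.{w}) (m : ℕ) (ψ : Z ⟶ G) :
    R.e G (m • ψ) = m • R.e G ψ := by
  induction m with
  | zero => rw [zero_smul, zero_smul, e_zero]
  | succ m ih => rw [succ_nsmul, succ_nsmul, e_add, ih]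

lemma e_symm_comp {G G' : Sheaf Jt AddCommGrpCat.{w}} (φ : G ⟶ G') (t : G.obj.obj (op U)) :
    (R.e G).symm t ≫ φ = (R.e G').symm (φ.hom.app (op U) t) := by
  apply (R.e G').injective
  rw [R.nat, Equiv.apply_symm_apply, Equiv.apply_symm_apply]

include R in
/-- morphisms out of `Z` lift along maps which are surjective on sections over `U` -/
lemma lift (S : ShortComplex (Sheaf Jt AddCommGrpCat.{w}))
    (hs : Function.Surjective (S.g.hom.app (op U)).hom) (ψ : Z ⟶ S.X₃) :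
    ∃ ψ' : Z ⟶ S.X₂, ψ' ≫ S.g = ψ := by
  obtain ⟨t, ht⟩ := hs (R.e S.X₃ ψ)
  refine ⟨(R.e S.X₂).symm t, ?_⟩
  rw [e_symm_comp]
  have ht' : S.g.hom.app (op U) t = R.e S.X₃ ψ := ht
  rw [ht', Equiv.symm_apply_apply]

end Repr

section Main

variable [HasPullbacks C] [LocallySmall.{w} C]
  [∀ U : C, HasFiniteProducts (Over U)]
  [HasSheafify Jt AddCommGrpCat.{w}] [Jt.WEqualsLocallyBijective AddCommGrpCat.{w}]
  [Jt.HasSheafCompose (forget AddCommGrpCat.{w})]
  [HasExt.{w'} (Sheaf Jt AddCommGrpCat.{w})] [EnoughInjectives (Sheaf Jt AddCommGrpCat.{w})]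
  {B : Set C} (hB : QcClass Jt B) (hiso : ∀ {V W : C}, (V ≅ W) → V ∈ B → W ∈ B)

/-- the class of coverings used in Cartan's criterion: finite families of members of `B` covering
a member of `B` -/
def Cov (Jt : GrothendieckTopology C) (B : Set C) (V : C) (ι : Type w) (Y : ι → Over V) : Prop :=
  V ∈ B ∧ Finite ι ∧ (∀ i, (Y i).left ∈ B) ∧
    Sieve.ofArrows (fun i => (Y i).left) (fun i => (Y i).hom) ∈ Jt V

include hB hiso in
/-- finite products in the over categories stay in the class -/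
lemma pi_left_mem {V : C} (hV : V ∈ B) :
    ∀ (n : ℕ) (Y : Fin n → Over V), (∀ k, (Y k).left ∈ B) → (∏ᶜ Y).left ∈ B := by
  intro n
  induction n with
  | zero =>
    intro Y _
    let t : Over.mk (𝟙 V) ⟶ ∏ᶜ Y := Pi.lift (fun k => k.elim0)
    have h1 : t ≫ (Over.mkIdTerminal.from (∏ᶜ Y)) = 𝟙 _ := Over.mkIdTerminal.hom_ext _ _
    have h2 : (Over.mkIdTerminal.from (∏ᶜ Y)) ≫ t = 𝟙 _ := by
      apply Limits.Pi.hom_ext
      intro k
      exact k.elim0
    let e : ∏ᶜ Y ≅ Over.mk (𝟙 V) := ⟨Over.mkIdTerminal.from _, t, h2, h1⟩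
    exact hiso ((Over.forget V).mapIso e).symm hV
  | succ n ih =>
    intro Y hY
    let P₁ : Over V := ∏ᶜ fun i : Fin n => Y i.succ
    have hP₁ : P₁.left ∈ B := ih _ (fun k => hY k.succ)
    let c₁ : Fan fun i : Fin n => Y i.succ := Fan.mk P₁ (Pi.π _)
    have hc₁ : IsLimit c₁ := productIsProduct _
    let c₂ : BinaryFan (Y 0) c₁.pt := BinaryFan.mk (prod.fst : Y 0 ⨯ P₁ ⟶ Y 0) prod.snd
    have hc₂ : IsLimit c₂ := prodIsProd _ _
    let e : ∏ᶜ Y ≅ Y 0 ⨯ P₁ :=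
      (productIsProduct Y).conePointUniqueUpToIso (extendFanIsLimit Y hc₁ hc₂)
    have h3 : (Y 0 ⨯ P₁).left ∈ B :=
      hiso (Over.prodLeftIsoPullback (Y 0) P₁).symm (hB.pb (Y 0).hom P₁.hom hV (hY 0) hP₁)
    exact hiso ((Over.forget V).mapIso e).symm h3

include hB hiso in
lemma cov_h1 (V : C) (ι : Type w) (Y : ι → Over V) (h : Cov Jt B V ι Y) :
    V ∈ B ∧ Sieve.ofArrows (fun i => (Y i).left) (fun i => (Y i).hom) ∈ Jt V ∧
      ∀ (p : ℕ) (a : Fin (p + 1) → ι), (∏ᶜ fun k => Y (a k)).left ∈ B :=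
  ⟨h.1, h.2.2.2, fun p a => pi_left_mem hB hiso h.1 (p + 1) (fun k => Y (a k))
    (fun k => h.2.2.1 (a k))⟩

include hB in
lemma cov_h2 (V : C) (hV : V ∈ B) (T : Sieve V) (hT : T ∈ Jt V) :
    ∃ (ι : Type w) (Y : ι → Over V), Cov Jt B V ι Y ∧ ∀ i, T.arrows (Y i).hom := by
  obtain ⟨n, W, g, hWB, hTg, hcov⟩ := hB.fin V hV T hT
  refine ⟨ULift.{w} (Fin n), fun i => Over.mk (g i.down), ⟨hV, inferInstance,
    fun i => hWB i.down, ?_⟩, fun i => hTg i.down⟩
  refine Jt.superset_covering ?_ hcov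
  rintro Z f ⟨Y', k, l, hl, rfl⟩
  obtain ⟨i⟩ := hl
  exact ⟨_, k, _, Presieve.ofArrows.mk (ULift.up i), rfl⟩

variable {J : Type w} [SmallCategory J] [IsFiltered J]
  [HasProducts.{w} (Sheaf Jt AddCommGrpCat.{w})]
  [HasColimitsOfShape J (Sheaf Jt AddCommGrpCat.{w})]
  [HasExactColimitsOfShape J (Sheaf Jt AddCommGrpCat.{w})]
  {Z : Sheaf Jt AddCommGrpCat.{w}} {U : C} (R : Repr Z U) (hU : U ∈ B)

include hB hiso R hU in
/-- a filtered colimit of injective abelian sheaves is acyclic over members of `B` -/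
lemma hacyc (I : J ⥤ Sheaf Jt AddCommGrpCat.{w}) (hI : ∀ j, Injective (I.obj j)) (n : ℕ)
    (x : Ext.{w'} Z (colimit I) (n + 1)) : x = 0 := by
  refine cartan Jt B (Cov Jt B) (cov_h1 hB hiso) (cov_h2 hB) Z U hU R.lift (colimit I) ?_ n x
  intro V ι Y h p
  haveI : Finite ι := h.2.1
  exact isZero_cechH_colimit I hB Y (cov_h1 hB hiso V ι Y h).2.2 (colimit.cocone I)
    (colimit.isColimit I) p (fun j => isZero_cechH_of_injective _ (I.obj j) Y p)

lemma homEquiv₀_mk₀ {A A' : Sheaf Jt AddCommGrpCat.{w}} (ψ : A ⟶ A') :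
    Ext.homEquiv₀ (Ext.mk₀ ψ : Ext.{w'} A A' 0) = ψ := by
  apply (Ext.mk₀_bijective A A').1
  rw [Ext.mk₀_homEquiv₀_apply]

/-- the bijection between `Ext^0(Z, G)` and sections of `G` over `U` -/
noncomputable def e₀ (G : Sheaf Jt AddCommGrpCat.{w}) : Ext.{w'} Z G 0 ≃ G.obj.obj (op U) :=
  Ext.homEquiv₀.trans (R.e G)

lemma e₀_push {G G' : Sheaf Jt AddCommGrpCat.{w}} (φ : G ⟶ G') (y : Ext.{w'} Z G 0) :
    e₀ R G' (push φ y) = φ.hom.app (op U) (e₀ R G y) := by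
  obtain ⟨ψ, rfl⟩ := (Ext.mk₀_bijective Z G).2 y
  have h1 : push φ (Ext.mk₀ ψ) = Ext.mk₀ (ψ ≫ φ) := by
    unfold push
    rw [Ext.mk₀_comp_mk₀]
  rw [h1]
  unfold e₀
  rw [Equiv.trans_apply, Equiv.trans_apply, homEquiv₀_mk₀, homEquiv₀_mk₀, R.nat]

lemma e₀_zero (G : Sheaf Jt AddCommGrpCat.{w}) : e₀ R G (0 : Ext.{w'} Z G 0) = 0 := by
  unfold e₀
  rw [Equiv.trans_apply]
  have : Ext.homEquiv₀ (0 : Ext.{w'} Z G 0) = 0 := by
    rw [← Ext.mk₀_zero, homEquiv₀_mk₀]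
  rw [this, R.e_zero]

include hB R hU in
lemma h0 (D : J ⥤ Sheaf Jt AddCommGrpCat.{w}) : HSurj Z D 0 ∧ HInj Z D 0 := by
  refine ⟨?_, ?_⟩
  · intro x
    obtain ⟨j, y, hy⟩ := sect_surj D hB (colimit.cocone D) (colimit.isColimit D)
      hU (e₀ R (colimit D) x)
    refine ⟨j, (e₀ R (D.obj j)).symm y, ?_⟩
    apply (e₀ R (colimit D)).injective
    rw [e₀_push, Equiv.apply_symm_apply]
    exact hy
  · intro j y hy
    have h1 : (colimit.ι D j).hom.app (op U) (e₀ R (D.obj j) y) = 0 := by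
      rw [← e₀_push, hy, e₀_zero]
    obtain ⟨k, f, hf⟩ := sect_inj D hB (colimit.cocone D) (colimit.isColimit D)
      hU j (e₀ R (D.obj j) y) h1
    refine ⟨k, f, ?_⟩
    apply (e₀ R (D.obj k)).injective
    rw [e₀_push, e₀_zero]
    exact hf

include hB hiso R hU in
/-- every class in `Ext^n(Z, colim D)` comes from some stage, and a class at some stage dying in
the colimit dies at a later stage -/
theorem hsurj_hinj_site (n : ℕ) (D : J ⥤ Sheaf Jt AddCommGrpCat.{w}) :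
    HSurj Z D n ∧ HInj Z D n :=
  hsurj_hinj (fun D => h0 hB R hU D) (fun I hI n x => hacyc hB hiso R hU I hI n x) n D

end Main

end H9FE.SiteHUColim
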