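import Mathlib
import Groth.Agent.Lib.Helper9.FE.SiteHUColim

/-! helper9: on a site with a class `B` of quasi-compact quasi-separated objects, the cohomology
`Ext^n(Z, F)` over a member `U` of `B` (with `Z` corepresenting sections over `U`) of an abelian
sheaf `F` all of whose sections are locally killed by members of a multiplicative set `M` of
natural numbers, is killed elementwise by members of `M`. The sheaf `F` is written as the filtered
colimit of its subsheaves `F[m]`, `m ∈ M`. -/

set_option autoImplicit false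
set_option linter.unusedSectionVars false
set_option linter.style.haveILetI false
universe w' w v u
open CategoryTheory Limits Opposite Abelian

namespace H9FE.SiteTorsColim

open H9FE.SiteSectColim H9FE.CechCartanG H9FE.SiteCechColim H9FE.ExtFilteredColim
  H9FE.SiteHUColim

section Push

variable {𝒜 : Type u} [Category.{v} 𝒜] [Abelian 𝒜] [HasExt.{w'} 𝒜] {Z : 𝒜}

lemma push_hom_add {A A' : 𝒜} (φ ψ : A ⟶ A') {n : ℕ} (y : Ext.{w'} Z A n) :
    push (φ + ψ) y = push φ y + push ψ y := by
  unfold push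
  rw [Ext.mk₀_add, Ext.comp_add]

lemma push_hom_zero {A A' : 𝒜} {n : ℕ} (y : Ext.{w'} Z A n) :
    push (0 : A ⟶ A') y = 0 := by
  unfold push
  rw [Ext.mk₀_zero, Ext.comp_zero]

lemma push_hom_nsmul {A A' : 𝒜} (m : ℕ) (φ : A ⟶ A') {n : ℕ} (y : Ext.{w'} Z A n) :
    push (m • φ) y = m • push φ y := by
  induction m with
  | zero => rw [zero_smul, zero_smul, push_hom_zero]
  | succ m ih => rw [succ_nsmul, succ_nsmul, push_hom_add, ih]

lemma push_id {A : 𝒜} {n : ℕ} (y : Ext.{w'} Z A n) : push (𝟙 A) y = y := by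
  unfold push
  rw [Ext.comp_mk₀_id]

end Push

/-- the index category: members of `M` ordered by divisibility -/
structure Idx (M : Submonoid ℕ) : Type w where
  /-- the underlying number -/
  val : ℕ
  mem : val ∈ M

namespace Idx

variable {M : Submonoid ℕ}

instance : Preorder (Idx.{w} M) where
  le a b := a.val ∣ b.val
  le_refl a := dvd_refl _
  le_trans _ _ _ := dvd_trans

instance : Nonempty (Idx.{w} M) := ⟨⟨1, M.one_mem⟩⟩

instance : IsDirected (Idx.{w} M) (· ≤ ·) where
  directed a b := ⟨⟨a.val * b.val, M.mul_mem a.mem b.mem⟩, dvd_mul_right _ _, dvd_mul_left _ _⟩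

instance : IsFiltered (Idx.{w} M) := isFiltered_of_directed_le_nonempty _

end Idx

section Diagram

variable {𝒜 : Type u} [Category.{v} 𝒜] [Abelian 𝒜] (F : 𝒜) (M : Submonoid ℕ)

lemma ι_comp_nsmul {a b : ℕ} (h : a ∣ b) :
    kernel.ι (a • 𝟙 F) ≫ (b • 𝟙 F) = 0 := by
  obtain ⟨c, rfl⟩ := h
  rw [mul_nsmul, Preadditive.comp_nsmul, kernel.condition, smul_zero]

/-- the diagram of the subobjects `F[m]`, `m ∈ M` -/
noncomputable def tors : Idx.{w} M ⥤ 𝒜 where
  obj a := kernel (a.val • 𝟙 F)
  map {a b} f := kernel.lift _ (kernel.ι _) (ι_comp_nsmul F (leOfHom f))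
  map_id a := by
    rw [← cancel_mono (kernel.ι _), kernel.lift_ι, Category.id_comp]
  map_comp f g := by
    rw [← cancel_mono (kernel.ι _), kernel.lift_ι, Category.assoc, kernel.lift_ι, kernel.lift_ι]

/-- the inclusions `F[m] ⟶ F` -/
noncomputable def torsι : tors.{w} F M ⟶ (Functor.const _).obj F where
  app a := kernel.ι (a.val • 𝟙 F)
  naturality a b f := by
    change kernel.lift _ (kernel.ι _) _ ≫ kernel.ι _ = kernel.ι _ ≫ 𝟙 F
    rw [kernel.lift_ι, Category.comp_id]

instance (a : Idx.{w} M) : Mono ((torsι.{w} F M).app a) :=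
  inferInstanceAs (Mono (kernel.ι (a.val • 𝟙 F)))

variable [HasColimitsOfShape (Idx.{w} M) 𝒜] [HasExactColimitsOfShape (Idx.{w} M) 𝒜]

/-- the canonical map from the colimit of the `F[m]` to `F` -/
noncomputable def torsDesc : colimit (tors.{w} F M) ⟶ F :=
  colimit.desc _ ⟨F, torsι F M⟩

lemma ι_torsDesc (a : Idx.{w} M) :
    colimit.ι (tors.{w} F M) a ≫ torsDesc F M = kernel.ι (a.val • 𝟙 F) :=
  colimit.ι_desc _ _

attribute [local instance] IsFiltered.isConnected in
instance : Mono (torsDesc.{w} F M) := by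
  haveI : Mono (torsι.{w} F M) := NatTrans.mono_of_mono_app _
  exact colim.map_mono' (torsι.{w} F M) (colimit.isColimit _) (isColimitConstCocone _ F)
    (torsDesc F M) (fun a => (ι_torsDesc.{w} F M a).trans (Category.comp_id _).symm)

end Diagram

section Site

variable {C : Type u} [Category.{v} C] {Jt : GrothendieckTopology C}
  [HasSheafify Jt AddCommGrpCat.{w}] [Jt.WEqualsLocallyBijective AddCommGrpCat.{w}]
  [Jt.HasSheafCompose (forget AddCommGrpCat.{w})]

/-- sections of a kernel of sheaves -/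
lemma kernel_sections {F G : Sheaf Jt AddCommGrpCat.{w}} (t : F ⟶ G) (V : C)
    (x : F.obj.obj (op V)) (hx : (t.hom.app (op V)).hom x = 0) :
    ∃ y : (kernel t).obj.obj (op V), ((kernel.ι t).hom.app (op V)).hom y = x := by
  let S : ShortComplex (Sheaf Jt AddCommGrpCat.{w}) :=
    ShortComplex.mk (kernel.ι t) t (kernel.condition t)
  have hS : S.Exact := S.exact_of_f_is_kernel (kernelIsKernel t)
  haveI : Mono S.f := inferInstanceAs (Mono (kernel.ι t))
  have h : (S.map (Γ Jt V)).Exact :=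
    hS.map_of_mono_of_preservesKernel (Γ Jt V) inferInstance inferInstance
  rw [ShortComplex.ab_exact_iff] at h
  exact h x hx

variable (M : Submonoid ℕ) (F : Sheaf Jt AddCommGrpCat.{w})
  [HasColimitsOfShape (Idx.{w} M) (Sheaf Jt AddCommGrpCat.{w})]
  [HasExactColimitsOfShape (Idx.{w} M) (Sheaf Jt AddCommGrpCat.{w})]

/-- sections of `F` are locally killed by members of `M` -/
def LocKilled : Prop :=
  ∀ (V : C) (s : F.obj.obj (op V)), ∃ T ∈ Jt V, ∀ (W : C) (g : W ⟶ V), T g →
    ∃ m ∈ M, m • (F.obj.map g.op).hom s = 0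

lemma nsmul_hom_app (m : ℕ) {G G' : Sheaf Jt AddCommGrpCat.{w}} (φ : G ⟶ G') (V : C)
    (x : G.obj.obj (op V)) : ((m • φ).hom.app (op V)).hom x = m • (φ.hom.app (op V)).hom x := by
  induction m with
  | zero =>
    rw [zero_smul, zero_smul]
    rfl
  | succ m ih =>
    rw [succ_nsmul, succ_nsmul, ← ih]
    rfl

variable {M F} in
lemma epi_torsDesc (hF : LocKilled M F) : Epi (torsDesc.{w} F M) := by
  haveI : Sheaf.IsLocallySurjective (torsDesc.{w} F M) := by
    constructor
    intro V s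
    obtain ⟨T, hT, h⟩ := hF V s
    refine Jt.superset_covering ?_ hT
    intro W g hg
    obtain ⟨m, hm, hms⟩ := h W g hg
    have h1 : (((m • 𝟙 F : F ⟶ F)).hom.app (op W)).hom ((F.obj.map g.op).hom s) = 0 := by
      rw [nsmul_hom_app]
      exact hms
    obtain ⟨y, hy⟩ := kernel_sections (m • 𝟙 F) W _ h1
    refine ⟨((colimit.ι (tors.{w} F M) ⟨m, hm⟩).hom.app (op W)).hom y, ?_⟩
    have h2 := ι_torsDesc.{w} F M ⟨m, hm⟩
    have h3 : (colimit.ι (tors.{w} F M) ⟨m, hm⟩).hom.app (op W) ≫
        (torsDesc.{w} F M).hom.app (op W) = (kernel.ι (m • 𝟙 F)).hom.app (op W) := by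
      rw [← h2]
      rfl
    exact (ConcreteCategory.congr_hom h3 y).trans hy
  infer_instance

variable {M F} in
lemma isIso_torsDesc (hF : LocKilled M F) : IsIso (torsDesc.{w} F M) := by
  haveI := epi_torsDesc hF
  exact isIso_of_mono_of_epi _

end Site

section Main

variable {C : Type u} [Category.{v} C] {Jt : GrothendieckTopology C}
  [HasPullbacks C] [LocallySmall.{w} C]
  [∀ U : C, HasFiniteProducts (Over U)]
  [HasSheafify Jt AddCommGrpCat.{w}] [Jt.WEqualsLocallyBijective AddCommGrpCat.{w}]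
  [Jt.HasSheafCompose (forget AddCommGrpCat.{w})]
  [HasExt.{w'} (Sheaf Jt AddCommGrpCat.{w})] [EnoughInjectives (Sheaf Jt AddCommGrpCat.{w})]
  {B : Set C} (hB : QcClass Jt B) (hiso : ∀ {V W : C}, (V ≅ W) → V ∈ B → W ∈ B)
  (M : Submonoid ℕ)
  [HasProducts.{w} (Sheaf Jt AddCommGrpCat.{w})]
  [HasColimitsOfShape (Idx.{w} M) (Sheaf Jt AddCommGrpCat.{w})]
  [HasExactColimitsOfShape (Idx.{w} M) (Sheaf Jt AddCommGrpCat.{w})]
  {Z : Sheaf Jt AddCommGrpCat.{w}} {U : C} (R : Repr Z U) (hU : U ∈ B)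

include hB hiso R hU in
/-- cohomology over a member of `B` of a sheaf locally killed by members of `M` is killed
elementwise by members of `M` -/
theorem ext_killed (F : Sheaf Jt AddCommGrpCat.{w}) (hF : LocKilled M F) (n : ℕ)
    (ξ : Ext.{w'} Z F n) : ∃ m ∈ M, m • ξ = 0 := by
  haveI := isIso_torsDesc hF
  obtain ⟨hs, -⟩ := hsurj_hinj_site hB hiso R hU n (tors.{w} F M)
  obtain ⟨a, y, hy⟩ := hs (push (inv (torsDesc.{w} F M)) ξ)
  refine ⟨a.val, a.mem, ?_⟩
  have h1 : ξ = push (kernel.ι (a.val • 𝟙 F)) y := by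
    have e1 : push (colimit.ι (tors.{w} F M) a ≫ torsDesc.{w} F M) y =
        push (torsDesc.{w} F M) (push (inv (torsDesc.{w} F M)) ξ) := by
      rw [push_comp (colimit.ι _ a) (torsDesc.{w} F M) y, hy]
    have e2 : push (torsDesc.{w} F M) (push (inv (torsDesc.{w} F M)) ξ) = ξ := by
      rw [← push_comp, IsIso.inv_hom_id, push_id]
    have e3 := congrArg (fun φ => push φ y) (ι_torsDesc.{w} F M a)
    exact (e2.symm.trans e1.symm).trans e3
  have h2 : a.val • kernel.ι (a.val • 𝟙 F) = 0 := by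
    have := kernel.condition (a.val • 𝟙 F)
    rw [Preadditive.comp_nsmul, Category.comp_id] at this
    exact this
  let y' : Ext.{w'} Z (kernel (a.val • 𝟙 F)) n := y
  have h3 : a.val • push (kernel.ι (a.val • 𝟙 F)) y' = 0 := by
    rw [← push_hom_nsmul, h2, push_hom_zero]
  rw [h1]
  exact h3

end Main

end H9FE.SiteTorsColim
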