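import Mathlib
import Groth.Agent.Lib.Helper9.FE.SiteSectColim

/-! helper9: the site obtained from a site `(C, J)` with fibre products and binary products by
formally adjoining a terminal object (`WithTerminal C`, topology `plus J`): it has fibre products,
the inclusion of `C` is a dense subsite, and a class of quasi-compact quasi-separated objects of
`C` (`QcClass`) stable under binary products, finitely many members of which cover the terminal
sheaf, extends to such a class containing the new terminal object. -/

set_option autoImplicit false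
set_option linter.unusedSectionVars false
set_option linter.style.haveILetI false
set_option backward.isDefEq.respectTransparency false
universe w v u
open CategoryTheory Limits Opposite

namespace H9FE.WTSite

open WithTerminal

variable {C : Type u} [Category.{v} C]

section Lim

/-- morphisms into `of b` from an arbitrary object: the source is in `C` -/
lemma exists_of_hom_of {T : WithTerminal C} {b : C} (f : T ⟶ of b) : ∃ d : C, T = of d := by
  cases T with
  | of d => exact ⟨d, rfl⟩
  | star => exact (false_of_from_star f).elim

variable [HasBinaryProducts C]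

/-- the product of two objects of `C` is their product in `WithTerminal C` -/
noncomputable def prodFan (a b : C) : BinaryFan (of a : WithTerminal C) (of b) :=
  BinaryFan.mk (P := of (a ⨯ b)) (incl.map (prod.fst : a ⨯ b ⟶ a)) (incl.map prod.snd)

noncomputable def prodLift (a b : C) : ∀ (T : WithTerminal C) (_ : T ⟶ of a) (_ : T ⟶ of b),
    T ⟶ of (a ⨯ b)
  | of _, f, g => incl.map (prod.lift (down f) (down g))
  | WithTerminal.star, f, _ => (false_of_from_star f).elim

lemma prodLift_fst (a b : C) (T : WithTerminal C) (f : T ⟶ of a) (g : T ⟶ of b) :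
    prodLift a b T f g ≫ incl.map (prod.fst : a ⨯ b ⟶ a) = f := by
  cases T with
  | of d => exact (prod.lift_fst (down f) (down g) : _ = down f)
  | star => exact (false_of_from_star f).elim

lemma prodLift_snd (a b : C) (T : WithTerminal C) (f : T ⟶ of a) (g : T ⟶ of b) :
    prodLift a b T f g ≫ incl.map (prod.snd : a ⨯ b ⟶ b) = g := by
  cases T with
  | of d => exact (prod.lift_snd (down f) (down g) : _ = down g)
  | star => exact (false_of_from_star f).elim

lemma prod_hom_ext (a b : C) (T : WithTerminal C) (m m' : T ⟶ of (a ⨯ b))
    (h1 : m ≫ incl.map (prod.fst : a ⨯ b ⟶ a) = m' ≫ incl.map (prod.fst : a ⨯ b ⟶ a))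
    (h2 : m ≫ incl.map (prod.snd : a ⨯ b ⟶ b) = m' ≫ incl.map (prod.snd : a ⨯ b ⟶ b)) :
    m = m' := by
  cases T with
  | of d => exact Limits.prod.hom_ext (f := down m) (g := down m') h1 h2
  | star => exact (false_of_from_star m).elim

noncomputable def prodFanIsLimit (a b : C) : IsLimit (prodFan a b) :=
  BinaryFan.IsLimit.mk _ (fun {T} f g => prodLift a b T f g)
    (fun {T} f g => prodLift_fst a b T f g) (fun {T} f g => prodLift_snd a b T f g)
    (fun {T} f g m h1 h2 => prod_hom_ext a b T m _
      (h1.trans (prodLift_fst a b T f g).symm) (h2.trans (prodLift_snd a b T f g).symm))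

variable [HasPullbacks C]

noncomputable def pbLift {a b c : C} (f : a ⟶ c) (g : b ⟶ c) :
    ∀ (T : WithTerminal C) (p : T ⟶ of a) (q : T ⟶ of b),
      p ≫ incl.map f = q ≫ incl.map g → (T ⟶ of (pullback f g))
  | of _, p, q, h => incl.map (pullback.lift (down p) (down q) h)
  | WithTerminal.star, p, _, _ => (false_of_from_star p).elim

lemma pbLift_fst {a b c : C} (f : a ⟶ c) (g : b ⟶ c) (T : WithTerminal C) (p : T ⟶ of a)
    (q : T ⟶ of b) (h : p ≫ incl.map f = q ≫ incl.map g) :
    pbLift f g T p q h ≫ incl.map (pullback.fst f g) = p := by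
  cases T with
  | of d => exact (pullback.lift_fst (f := f) (g := g) (down p) (down q) h : _ = down p)
  | star => exact (false_of_from_star p).elim

lemma pbLift_snd {a b c : C} (f : a ⟶ c) (g : b ⟶ c) (T : WithTerminal C) (p : T ⟶ of a)
    (q : T ⟶ of b) (h : p ≫ incl.map f = q ≫ incl.map g) :
    pbLift f g T p q h ≫ incl.map (pullback.snd f g) = q := by
  cases T with
  | of d => exact (pullback.lift_snd (f := f) (g := g) (down p) (down q) h : _ = down q)
  | star => exact (false_of_from_star p).elim

lemma pb_hom_ext {a b c : C} (f : a ⟶ c) (g : b ⟶ c) (T : WithTerminal C)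
    (m m' : T ⟶ of (pullback f g))
    (h1 : m ≫ incl.map (pullback.fst f g) = m' ≫ incl.map (pullback.fst f g))
    (h2 : m ≫ incl.map (pullback.snd f g) = m' ≫ incl.map (pullback.snd f g)) : m = m' := by
  cases T with
  | of d => exact pullback.hom_ext (f := f) (g := g) (k := down m) (l := down m') h1 h2
  | star => exact (false_of_from_star m).elim

/-- the inclusion takes pullback squares to pullback squares -/
lemma isPullback_incl {a b c : C} (f : a ⟶ c) (g : b ⟶ c) :
    IsPullback (incl.map (pullback.fst f g)) (incl.map (pullback.snd f g))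
      (incl.map f : (of a : WithTerminal C) ⟶ of c) (incl.map g) := by
  refine ⟨⟨?_⟩, ⟨PullbackCone.IsLimit.mk _ (fun s => pbLift f g s.pt s.fst s.snd s.condition)
    (fun s => pbLift_fst f g s.pt s.fst s.snd s.condition)
    (fun s => pbLift_snd f g s.pt s.fst s.snd s.condition)
    (fun s m h1 h2 => pb_hom_ext f g s.pt m _
      (h1.trans (pbLift_fst f g s.pt s.fst s.snd s.condition).symm)
      (h2.trans (pbLift_snd f g s.pt s.fst s.snd s.condition).symm))⟩⟩
  rw [← Functor.map_comp, ← Functor.map_comp, pullback.condition]

lemma hasPullback_aux : ∀ (X Y Z : WithTerminal C) (f : X ⟶ Z) (g : Y ⟶ Z), HasPullback f g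
  | of a, of b, of c, f, g => (isPullback_incl (down f) (down g)).hasPullback
  | WithTerminal.star, _, of c, f, _ => (false_of_from_star f).elim
  | of _, WithTerminal.star, of c, _, g => (false_of_from_star g).elim
  | WithTerminal.star, Y, WithTerminal.star, f, g => by
      haveI : IsIso f := by
        rw [show f = 𝟙 _ from Subsingleton.elim _ _]; infer_instance
      exact hasPullback_of_left_iso f g
  | of a, WithTerminal.star, WithTerminal.star, f, g => by
      haveI : IsIso g := by
        rw [show g = 𝟙 _ from Subsingleton.elim _ _]; infer_instance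
      exact hasPullback_of_right_iso f g
  | of a, of b, WithTerminal.star, f, g => by
      have h := IsPullback.of_is_product (prodFanIsLimit a b) (starTerminal (C := C))
      have hf : f = starTerminal.from _ := Subsingleton.elim _ _
      have hg : g = starTerminal.from _ := Subsingleton.elim _ _
      rw [hf, hg]
      exact h.hasPullback

instance : HasPullbacks (WithTerminal C) :=
  @hasPullbacks_of_hasLimit_cospan _ _ (fun {X Y Z} {f} {g} => hasPullback_aux X Y Z f g)

instance : HasFiniteLimits (WithTerminal C) := hasFiniteLimits_of_hasTerminal_and_pullbacks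

instance (U : WithTerminal C) : HasFiniteProducts (Over U) :=
  Over.ConstructProducts.over_finiteProducts_of_finiteWidePullbacks

end Lim


section Top

variable (J : GrothendieckTopology C)

/-- the restriction to `C` of the pullback of a sieve along a morphism from an object of `C` -/
abbrev res {Y : WithTerminal C} (S : Sieve Y) {W : C} (f : incl.obj W ⟶ Y) : Sieve W :=
  (S.pullback f).functorPullback incl

lemma res_apply {Y : WithTerminal C} (S : Sieve Y) {W : C} (f : incl.obj W ⟶ Y) {V : C}
    (g : V ⟶ W) : (res S f).arrows g ↔ S.arrows (incl.map g ≫ f) := Iff.rfl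

/-- the topology on `WithTerminal C` extending a topology on `C`: a sieve is covering when all
its pullbacks to objects of `C` are -/
def plus : GrothendieckTopology (WithTerminal C) where
  sieves Y := {S | ∀ (W : C) (f : incl.obj W ⟶ Y), res S f ∈ J W}
  top_mem' Y W f := by
    have : res (⊤ : Sieve Y) f = ⊤ := by
      ext V g
      simp
    rw [this]
    exact J.top_mem W
  pullback_stable' Y Y' S h hS W f := by
    have : res (S.pullback h) f = res S (f ≫ h) := by
      ext V g
      simp only [res_apply, Sieve.pullback_apply, Category.assoc]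
    rw [this]
    exact hS W (f ≫ h)
  transitive' Y S hS R hR W f := by
    refine J.transitive (hS W f) _ ?_
    intro V g hg
    have h1 := hR hg V (𝟙 _)
    have : res (R.pullback (incl.map g ≫ f)) (𝟙 (incl.obj V)) = (res R f).pullback g := by
      ext V' g'
      simp only [res_apply, Sieve.pullback_apply, Category.assoc, Functor.map_comp,
        Category.id_comp]
    rw [this] at h1
    exact h1

lemma mem_plus_iff {Y : WithTerminal C} (S : Sieve Y) :
    S ∈ plus J Y ↔ ∀ (W : C) (f : incl.obj W ⟶ Y), res S f ∈ J W := Iff.rfl

lemma mem_plus_of {W : C} (S : Sieve ((incl : C ⥤ WithTerminal C).obj W)) :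
    S ∈ plus J (incl.obj W) ↔ S.functorPullback incl ∈ J W := by
  constructor
  · intro h
    have h1 := h W (𝟙 _)
    have : res S (𝟙 (incl.obj W)) = S.functorPullback incl := by
      ext V g
      simp only [res_apply, Category.comp_id, Sieve.functorPullback_apply]
      rfl
    rwa [this] at h1
  · intro h W' f
    obtain ⟨f', rfl⟩ := incl.map_surjective f
    have : res S (incl.map f') = (S.functorPullback incl).pullback f' := by
      ext V g
      simp only [res_apply, Sieve.pullback_apply, Sieve.functorPullback_apply]
      rfl
    rw [this]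
    exact J.pullback_stable _ h

lemma mem_plus_star (S : Sieve (star : WithTerminal C)) :
    S ∈ plus J star ↔ ∀ W : C, res S (homFrom W) ∈ J W := by
  constructor
  · intro h W
    exact h W _
  · intro h W f
    rw [show f = homFrom W from Subsingleton.elim _ _]
    exact h W

lemma functorPushforward_res {W : C} (S : Sieve W) :
    (S.functorPushforward incl).functorPullback (incl : C ⥤ WithTerminal C) = S := by
  ext V g
  simp only [Sieve.functorPullback_apply, Sieve.functorPushforward_apply]
  constructor
  · rintro ⟨Z, a, b, ha, hab⟩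
    obtain ⟨b', rfl⟩ := incl.map_surjective b
    rw [← Functor.map_comp] at hab
    rw [incl.map_injective hab]
    exact S.downward_closed ha _
  · intro h
    exact ⟨V, g, 𝟙 _, h, (Category.id_comp _).symm⟩

instance : Functor.IsDenseSubsite J (plus J) (incl : C ⥤ WithTerminal C) where
  isCoverDense' := by
    constructor
    intro U W f
    have : res (Sieve.coverByImage (incl : C ⥤ WithTerminal C) U) f = ⊤ := by
      ext V g
      simp only [res_apply, Sieve.top_apply, iff_true]
      exact ⟨⟨V, 𝟙 _, incl.map g ≫ f, Category.id_comp _⟩⟩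
    rw [this]
    exact J.top_mem W
  functorPushforward_mem_iff {X} {S} := by
    rw [mem_plus_of, functorPushforward_res]

end Top


section Qc

open H9FE.SiteSectColim

variable (J : GrothendieckTopology C)

/-- the class of objects of `WithTerminal C` made of a class of objects of `C` and the terminal
object -/
def Bplus (B : Set C) : Set (WithTerminal C) := fun Y =>
  match Y with
  | of W => W ∈ B
  | WithTerminal.star => True

lemma of_mem_Bplus {B : Set C} {W : C} : (of W : WithTerminal C) ∈ Bplus B ↔ W ∈ B := Iff.rfl

lemma star_mem_Bplus {B : Set C} : (star : WithTerminal C) ∈ Bplus B := trivial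

lemma Bplus_iso {B : Set C} (hiso : ∀ {V W : C}, (V ≅ W) → V ∈ B → W ∈ B) :
    ∀ {Y Y' : WithTerminal C}, (Y ≅ Y') → Y ∈ Bplus B → Y' ∈ Bplus B
  | of _, of _, e, h => hiso (incl.preimageIso e) h
  | of _, WithTerminal.star, _, _ => trivial
  | WithTerminal.star, of _, e, _ => (false_of_from_star e.hom).elim
  | WithTerminal.star, WithTerminal.star, _, _ => trivial

variable [HasPullbacks C] [HasBinaryProducts C]

lemma ofArrows_incl_mem {V : C} {n : ℕ} (W : Fin n → C) (g : ∀ i, W i ⟶ V)
    (h : Sieve.ofArrows W g ∈ J V) :
    Sieve.ofArrows (fun i => (incl : C ⥤ WithTerminal C).obj (W i)) (fun i => incl.map (g i)) ∈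
      plus J (incl.obj V) := by
  rw [mem_plus_of]
  refine J.superset_covering ?_ h
  rintro Z f ⟨Y', k, l, hl, rfl⟩
  obtain ⟨i⟩ := hl
  rw [Sieve.functorPullback_apply]
  change (Sieve.ofArrows _ _).arrows (incl.map (k ≫ g i))
  rw [Functor.map_comp]
  exact Sieve.downward_closed _ (Sieve.ofArrows_mk _ _ i) _

theorem qcClass_plus {B : Set C} (hB : QcClass J B)
    (hiso : ∀ {V W : C}, (V ≅ W) → V ∈ B → W ∈ B)
    (hprod : ∀ {W₁ W₂ : C}, W₁ ∈ B → W₂ ∈ B → (W₁ ⨯ W₂) ∈ B)
    {n₀ : ℕ} (U : Fin n₀ → C) (hU : ∀ i, U i ∈ B) (hcov : J.CoversTop U) :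
    QcClass (plus J) (Bplus B) where
  fin := by
    intro V hV T hT
    cases V with
    | of V =>
      have hT' : T.functorPullback incl ∈ J V := (mem_plus_of J T).1 hT
      obtain ⟨n, W, g, hWB, hTg, hcovW⟩ := hB.fin V hV _ hT'
      exact ⟨n, fun i => incl.obj (W i), fun i => incl.map (g i), hWB, hTg,
        ofArrows_incl_mem J W g hcovW⟩
    | star =>
      have h1 : ∀ i, ∃ (n : ℕ) (W : Fin n → C) (g : ∀ k, W k ⟶ U i),
          (∀ k, W k ∈ B) ∧ (∀ k, (res T (homFrom (U i))).arrows (g k)) ∧
            Sieve.ofArrows W g ∈ J (U i) :=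
        fun i => hB.fin (U i) (hU i) _ ((mem_plus_star J T).1 hT (U i))
      choose n W g hWB hTg hcovW using h1
      let e := Finite.equivFin (Σ i : Fin n₀, Fin (n i))
      refine ⟨Nat.card (Σ i : Fin n₀, Fin (n i)),
        fun a => incl.obj (W (e.symm a).1 (e.symm a).2),
        fun a => incl.map (g (e.symm a).1 (e.symm a).2) ≫ homFrom (U (e.symm a).1),
        fun a => hWB _ _, fun a => hTg _ _, ?_⟩
      rw [mem_plus_star]
      intro W'
      refine J.transitive (hcov W') _ ?_
      rintro V f ⟨i, ⟨h⟩⟩
      refine J.superset_covering ?_ (J.pullback_stable h (hcovW i))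
      rintro Z k ⟨Y', l, m, hm, hlm⟩
      obtain ⟨j⟩ := hm
      rw [Sieve.pullback_apply, res_apply]
      have hmem := Sieve.ofArrows_mk
        (fun a => (incl : C ⥤ WithTerminal C).obj (W (e.symm a).1 (e.symm a).2))
        (fun a => incl.map (g (e.symm a).1 (e.symm a).2) ≫ homFrom (U (e.symm a).1)) (e ⟨i, j⟩)
      have h2 : incl.map (k ≫ f) ≫ homFrom W' =
          incl.map l ≫ incl.map (g i j) ≫ homFrom (U i) := Subsingleton.elim _ _
      rw [h2]
      refine Sieve.downward_closed _ ?_ _
      have hs : e.symm (e ⟨i, j⟩) = ⟨i, j⟩ := e.symm_apply_apply _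
      revert hmem
      generalize e.symm (e ⟨i, j⟩) = s at hs
      subst hs
      exact fun hmem => hmem
  pb := by
    intro V W₁ W₂ g₁ g₂ hV h₁ h₂
    cases V with
    | of c =>
      cases W₁ with
      | of a =>
        cases W₂ with
        | of b =>
          obtain ⟨f₁, rfl⟩ := incl.map_surjective g₁
          obtain ⟨f₂, rfl⟩ := incl.map_surjective g₂
          exact Bplus_iso hiso (isPullback_incl f₁ f₂).isoPullback (hB.pb f₁ f₂ hV h₁ h₂)
        | star => exact (false_of_from_star g₂).elim
      | star => exact (false_of_from_star g₁).elim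
    | star =>
      cases W₁ with
      | of a =>
        cases W₂ with
        | of b =>
          have h := IsPullback.of_is_product (prodFanIsLimit a b) (starTerminal (C := C))
          have hf : g₁ = starTerminal.from _ := Subsingleton.elim _ _
          have hg : g₂ = starTerminal.from _ := Subsingleton.elim _ _
          subst hf hg
          exact Bplus_iso hiso h.isoPullback (hprod h₁ h₂)
        | star =>
          haveI : IsIso g₂ := by
            rw [show g₂ = 𝟙 _ from Subsingleton.elim _ _]; infer_instance
          exact Bplus_iso hiso (asIso (pullback.fst g₁ g₂)).symm h₁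
      | star =>
        haveI : IsIso g₁ := by
          rw [show g₁ = 𝟙 _ from Subsingleton.elim _ _]; infer_instance
        exact Bplus_iso hiso (asIso (pullback.snd g₁ g₂)).symm h₂

end Qc

end H9FE.WTSite
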