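import Mathlib
import Groth.Agent.Lib.Helper9.FE.WTSite
import Groth.Agent.Lib.Helper9.FE.SiteHUColim
import Groth.Agent.Lib.Helper9.FE.SiteTorsColim

/-! helper9: cohomology `Ext^n(ℤ, -)` of a site without terminal object commutes with filtered
colimits when the site has a class of quasi-compact quasi-separated objects finitely many of which
cover the terminal sheaf: reduction to the site with a terminal object adjoined (`WTSite`) through
the dense-subsite equivalence of sheaf categories and the invariance of `Ext` under exact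
equivalences. -/

set_option autoImplicit false
set_option linter.unusedSectionVars false
set_option linter.style.haveILetI false
set_option backward.isDefEq.respectTransparency false
universe w'' w' w v₂ v₁ u₂ u₁ v u
open CategoryTheory Limits Opposite Abelian

namespace H9FE.WTSiteH

open WithTerminal H9FE.WTSite H9FE.SiteSectColim H9FE.SiteHUColim H9FE.ExtFilteredColim

section Small

variable {C : Type u} [Category.{v} C]

instance [LocallySmall.{w} C] : LocallySmall.{w} (WithTerminal C) where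
  hom_small X Y := by
    cases X with
    | of a =>
      cases Y with
      | of b => exact (inferInstance : Small.{w} (a ⟶ b))
      | star => exact small_subsingleton _
    | star =>
      cases Y with
      | of b =>
        haveI : Subsingleton ((star : WithTerminal C) ⟶ of b) :=
          ⟨fun f => (false_of_from_star f).elim⟩
        exact small_subsingleton _
      | star => exact small_subsingleton _

end Small

section Transport

variable {𝒜 : Type u₁} [Category.{v₁} 𝒜] [Abelian 𝒜] [HasExt.{w'} 𝒜]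
  {𝒜' : Type u₂} [Category.{v₂} 𝒜'] [Abelian 𝒜'] [HasExt.{w''} 𝒜']
  (E : 𝒜 ⥤ 𝒜') [E.Additive] [PreservesFiniteLimits E] [PreservesFiniteColimits E]

lemma map_push {Z A B : 𝒜} (φ : A ⟶ B) {n : ℕ} (y : Ext.{w'} Z A n) :
    (push φ y).mapExactFunctor E = push (E.map φ) (y.mapExactFunctor E) := by
  unfold push
  rw [Ext.mapExactFunctor_comp, Ext.mapExactFunctor_mk₀]

variable [E.Full] [E.Faithful] [EnoughInjectives 𝒜] [E.PreservesInjectiveObjects]
  {J : Type w} [SmallCategory J] [HasColimitsOfShape J 𝒜] [HasColimitsOfShape J 𝒜']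
  [PreservesColimitsOfShape J E]

lemma hsurj_of_map (Z : 𝒜) (D : J ⥤ 𝒜) (n : ℕ) (h : HSurj.{w''} (E.obj Z) (D ⋙ E) n) :
    HSurj.{w'} Z D n := by
  intro x
  have hb := Functor.mapExt_bijective_of_preservesInjectiveObjects.{w', w''} E Z
  obtain ⟨j, y', hy'⟩ := h (push (preservesColimitIso E D).hom (x.mapExactFunctor E))
  obtain ⟨y, hy⟩ := (hb (D.obj j) n).2 y'
  refine ⟨j, y, (hb (colimit D) n).1 ?_⟩
  change (push (colimit.ι D j) y).mapExactFunctor E = x.mapExactFunctor E
  have hy2 : y.mapExactFunctor E = y' := hy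
  rw [map_push, hy2, ← ι_preservesColimitIso_inv E D j, push_comp, hy', ← push_comp,
    Iso.hom_inv_id]
  exact H9FE.SiteTorsColim.push_id _

lemma hinj_of_map (Z : 𝒜) (D : J ⥤ 𝒜) (n : ℕ) (h : HInj.{w''} (E.obj Z) (D ⋙ E) n) :
    HInj.{w'} Z D n := by
  intro j y hy
  have hb := Functor.mapExt_bijective_of_preservesInjectiveObjects.{w', w''} E Z
  have h1 : push (colimit.ι (D ⋙ E) j) (y.mapExactFunctor E) = 0 := by
    rw [← ι_preservesColimitIso_hom E D j, push_comp, ← map_push, hy]
    have : (0 : Ext.{w'} Z (colimit D) n).mapExactFunctor E = 0 := Ext.mapExactFunctor_zero E _ _ _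
    rw [this, push_zero]
  obtain ⟨k, f, hf⟩ := h j _ h1
  refine ⟨k, f, (hb (D.obj k) n).1 ?_⟩
  change (push (D.map f) y).mapExactFunctor E = (0 : Ext.{w'} Z (D.obj k) n).mapExactFunctor E
  rw [map_push, Ext.mapExactFunctor_zero E _ _ _]
  exact hf

end Transport


section ReprT

variable {C : Type u} [Category.{v} C] (Jt : GrothendieckTopology C)
  [HasSheafify Jt AddCommGrpCat.{w}] [HasExt.{w'} (Sheaf Jt AddCommGrpCat.{w})]

/-- the constant sheaf `ℤ` -/
noncomputable abbrev constZ : Sheaf Jt AddCommGrpCat.{w} :=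
  (constantSheaf Jt AddCommGrpCat.{w}).obj (AddCommGrpCat.of (ULift ℤ))

/-- on a site with a terminal object the constant sheaf `ℤ` corepresents sections over it -/
noncomputable def reprConst {T : C} (hT : IsTerminal T) : Repr (constZ.{w} Jt) T where
  e G := (Ext.homEquiv₀ (X := constZ.{w} Jt) (Y := G)).symm.trans (Sheaf.H.equiv₀ G hT).toEquiv
  nat {G G'} φ ψ := by
    have h1 : Ext.mk₀ (ψ ≫ φ) = Sheaf.H.map φ 0 (Ext.mk₀ ψ) := by
      rw [Sheaf.H.map_apply, Ext.mk₀_comp_mk₀]
    change Sheaf.H.equiv₀ G' hT (Ext.mk₀ (ψ ≫ φ)) = _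
    rw [h1]
    exact (Sheaf.H.equiv₀_naturality (hT := hT) φ (Ext.mk₀ ψ)).symm

omit [HasSheafify Jt AddCommGrpCat.{w}] [HasExt.{w'} (Sheaf Jt AddCommGrpCat.{w})] in
/-- corepresentability of sections is invariant under isomorphisms -/
def Repr.ofIso {Z Z' : Sheaf Jt AddCommGrpCat.{w}} {U : C} (R : Repr Z U) (θ : Z' ≅ Z) :
    Repr Z' U where
  e G := (Iso.homFromEquiv θ).trans (R.e G)
  nat {G G'} φ ψ := by
    change R.e G' (θ.inv ≫ ψ ≫ φ) = φ.hom.app (op U) (R.e G (θ.inv ≫ ψ))
    rw [← Category.assoc, R.nat]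

end ReprT


section Main

variable {C : Type u} [Category.{v} C] [HasPullbacks C] [HasBinaryProducts C] [LocallySmall.{w} C]
  (Jt : GrothendieckTopology C)
  [HasSheafify Jt AddCommGrpCat.{w}] [HasExt.{w'} (Sheaf Jt AddCommGrpCat.{w})]
  [EnoughInjectives (Sheaf Jt AddCommGrpCat.{w})]
  [HasSheafify (plus Jt) AddCommGrpCat.{w}]
  [(plus Jt).WEqualsLocallyBijective AddCommGrpCat.{w}]
  [(plus Jt).HasSheafCompose (forget AddCommGrpCat.{w})]
  [HasExt.{w''} (Sheaf (plus Jt) AddCommGrpCat.{w})]
  [EnoughInjectives (Sheaf (plus Jt) AddCommGrpCat.{w})]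
  [∀ X, HasLimitsOfShape (StructuredArrow X (incl : C ⥤ WithTerminal C).op) AddCommGrpCat.{w}]

/-- the extension of sheaves from `C` to `WithTerminal C` -/
noncomputable abbrev ext : Sheaf Jt AddCommGrpCat.{w} ⥤ Sheaf (plus Jt) AddCommGrpCat.{w} :=
  (Functor.IsDenseSubsite.sheafEquiv Jt (plus Jt) (incl : C ⥤ WithTerminal C)
    AddCommGrpCat.{w}).functor

instance : (ext.{w} Jt).IsEquivalence := by unfold ext; infer_instance

instance : ((incl : C ⥤ WithTerminal C).sheafPushforwardContinuous AddCommGrpCat.{w} Jt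
    (plus Jt)).Additive where
  map_add := by
    intro G G' f g
    apply Sheaf.hom_ext
    ext X
    rfl

instance : (ext.{w} Jt).Additive := by
  unfold ext
  haveI : ((incl : C ⥤ WithTerminal C).sheafPushforwardContinuous AddCommGrpCat.{w} Jt
      (plus Jt)).asEquivalence.functor.Additive :=
    (inferInstance : ((incl : C ⥤ WithTerminal C).sheafPushforwardContinuous AddCommGrpCat.{w} Jt
      (plus Jt)).Additive)
  exact Equivalence.inverse_additive
    ((incl : C ⥤ WithTerminal C).sheafPushforwardContinuous AddCommGrpCat.{w} Jt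
      (plus Jt)).asEquivalence


/-- the extension of the constant sheaf is the constant sheaf -/
noncomputable def extConstIso : (ext.{w} Jt).obj (constZ.{w} Jt) ≅ constZ.{w} (plus Jt) :=
  (ext.{w} Jt).mapIso
    ((Functor.IsDenseSubsite.sheafEquivSheafificationCompatibility Jt (plus Jt)
      (incl : C ⥤ WithTerminal C) AddCommGrpCat.{w}).app
        ((Functor.const (WithTerminal C)ᵒᵖ).obj (AddCommGrpCat.of (ULift ℤ)))) ≪≫
    (Functor.IsDenseSubsite.sheafEquiv Jt (plus Jt) (incl : C ⥤ WithTerminal C)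
      AddCommGrpCat.{w}).counitIso.app _

variable {J : Type w} [SmallCategory J] [IsFiltered J]
  [HasProducts.{w} (Sheaf (plus Jt) AddCommGrpCat.{w})]
  [HasColimitsOfShape J (Sheaf (plus Jt) AddCommGrpCat.{w})]
  [HasExactColimitsOfShape J (Sheaf (plus Jt) AddCommGrpCat.{w})]
  [HasColimitsOfShape J (Sheaf Jt AddCommGrpCat.{w})]

/-- on a site with a class `B` of quasi-compact quasi-separated objects stable under binary
products, finitely many members of which cover the terminal sheaf, the cohomology groups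
`H^n(-) = Ext^n(ℤ, -)` commute with filtered colimits -/
theorem hsurj_hinj_const {B : Set C} (hB : QcClass Jt B)
    (hiso : ∀ {V W : C}, (V ≅ W) → V ∈ B → W ∈ B)
    (hprod : ∀ {W₁ W₂ : C}, W₁ ∈ B → W₂ ∈ B → (W₁ ⨯ W₂) ∈ B)
    {n₀ : ℕ} (U : Fin n₀ → C) (hU : ∀ i, U i ∈ B) (hcov : Jt.CoversTop U)
    (n : ℕ) (D : J ⥤ Sheaf Jt AddCommGrpCat.{w}) :
    HSurj.{w'} (constZ.{w} Jt) D n ∧ HInj.{w'} (constZ.{w} Jt) D n := by
  have hB' := qcClass_plus Jt hB hiso hprod U hU hcov
  have R : Repr ((ext.{w} Jt).obj (constZ.{w} Jt)) (star : WithTerminal C) :=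
    Repr.ofIso (plus Jt) (reprConst.{w''} (plus Jt) starTerminal) (extConstIso.{w} Jt)
  obtain ⟨h1, h2⟩ := hsurj_hinj_site.{w''} hB' (fun e h => Bplus_iso hiso e h) R star_mem_Bplus n
    (D ⋙ ext.{w} Jt)
  haveI : (ext.{w} Jt).PreservesInjectiveObjects :=
    Functor.preservesInjectiveObjects_of_adjunction_of_preservesMonomorphisms
      (Functor.IsDenseSubsite.sheafEquiv Jt (plus Jt) (incl : C ⥤ WithTerminal C)
        AddCommGrpCat.{w}).symm.toAdjunction
  exact ⟨hsurj_of_map (ext.{w} Jt) _ D n h1, hinj_of_map (ext.{w} Jt) _ D n h2⟩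

end Main

end H9FE.WTSiteH
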