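import Mathlib
import Groth.Prelude.Def_ProEtS
import Groth.Agent.Lib.Helper9.FE.EtQcClass
import Groth.Agent.Lib.Helper9.FE.SiteHUColim
import Groth.Agent.Lib.Helper9.FE.WTSiteH

/-! helper9: the small pro-étale site of a scheme: the objects with quasi-compact quasi-separated
underlying scheme form a `QcClass`, and pro-étale cohomology of a quasi-compact quasi-separated
scheme commutes with filtered colimits of abelian sheaves. -/

set_option autoImplicit false
set_option linter.unusedSectionVars false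
set_option linter.style.haveILetI false
set_option backward.isDefEq.respectTransparency false
universe u
open CategoryTheory Limits Opposite AlgebraicGeometry Abelian

namespace H9FE.ProEtQc

open H9FE.SiteSectColim H9FE.SiteHUColim H9FE.ExtFilteredColim

variable {X : Scheme.{u}}

/-- the forgetful functor to schemes -/
noncomputable abbrev toSch (X : Scheme.{u}) : X.ProEt ⥤ Scheme.{u} :=
  Scheme.ProEt.forget X ⋙ Over.forget X

instance (X : Scheme.{u}) : (Scheme.ProEt.precoverage X).IsStableUnderBaseChange := by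
  unfold Scheme.ProEt.precoverage; infer_instance
instance (X : Scheme.{u}) : (Scheme.ProEt.precoverage X).IsStableUnderComposition := by
  unfold Scheme.ProEt.precoverage; infer_instance
instance (X : Scheme.{u}) : (Scheme.ProEt.precoverage X).HasIsos := by
  unfold Scheme.ProEt.precoverage; infer_instance

instance {V W : X.ProEt} (g : W ⟶ V) : WeaklyEtale g.left := by
  haveI : WeaklyEtale (g.left ≫ V.hom) := by
    rw [MorphismProperty.Over.w g]; infer_instance
  exact WeaklyEtale.of_comp g.left V.hom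

lemma image_eqToHom {Y Y' T : Scheme.{u}} (e : Y = Y') (f : Y' ⟶ T) (O : Y'.Opens) :
    (eqToHom e ≫ f) '' ((eqToHom e ⁻¹ᵁ O : Y.Opens) : Set Y) = f '' (O : Set Y') := by
  subst e
  simp

/-- an open subscheme of an object of the pro-étale site -/
noncomputable def openSub (U : X.ProEt) (W : U.left.Opens) : X.ProEt :=
  Scheme.ProEt.mk (W.ι ≫ U.hom)

noncomputable def openSubι (U : X.ProEt) (W : U.left.Opens) : openSub U W ⟶ U :=
  MorphismProperty.Over.homMk W.ι rfl trivial

/-- every covering sieve of an object with quasi-compact underlying scheme contains a finite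
jointly surjective family of affine objects -/
lemma exists_finite_affine_refinement (V : X.ProEt) [CompactSpace V.left] (T : Sieve V)
    (hT : T ∈ Scheme.ProEt.topology X V) :
    ∃ (n : ℕ) (W : Fin n → X.ProEt) (g : ∀ i, W i ⟶ V),
      (∀ i, IsAffine (W i).left) ∧ (∀ i, T (g i)) ∧
        ∀ v : V.left, ∃ i, v ∈ Set.range (g i).left := by
  rw [Precoverage.mem_toGrothendieck_iff_of_isStableUnderComposition] at hT
  obtain ⟨R, hR, hle⟩ := hT
  have h1 : R.map (toSch X) ∈ Scheme.propQCPrecoverage @WeaklyEtale V.left := hR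
  rw [Scheme.mem_propQCPrecoverage_iff_exists_quasiCompactCover] at h1
  obtain ⟨𝒰, h𝒰, hR𝒰⟩ := h1
  have hc : IsCompact ((⊤ : V.left.Opens) : Set V.left) := by
    simpa using isCompact_univ
  obtain ⟨n, f, Vv, hVv, hcov⟩ :=
    QuasiCompactCover.exists_isAffineOpen_of_isCompact 𝒰.toPreZeroHypercover hc
  have h2 : ∀ i : Fin n, ∃ (Z : X.ProEt) (h : (toSch X).obj Z = 𝒰.X (f i)) (g : Z ⟶ V),
      R g ∧ (toSch X).map g = eqToHom h ≫ 𝒰.f (f i) := by
    intro i
    have : (R.map (toSch X)) (𝒰.f (f i)) := by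
      rw [hR𝒰]
      exact Presieve.ofArrows.mk (f i)
    exact Presieve.map_iff.1 this
  choose Z hZ g hRg hg using h2
  let O : ∀ i, (Z i).left.Opens := fun i => eqToHom (hZ i) ⁻¹ᵁ Vv i
  refine ⟨n, fun i => openSub (Z i) (O i), fun i => openSubι (Z i) (O i) ≫ g i, ?_, ?_, ?_⟩
  · intro i
    have : IsAffineOpen (O i) := (hVv i).preimage_of_isIso (eqToHom (hZ i))
    exact this
  · intro i
    exact T.downward_closed (hle _ _ (hRg i)) _
  · intro v
    have hv : v ∈ ⋃ i, 𝒰.f (f i) '' (Vv i : Set (𝒰.X (f i))) := by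
      rw [hcov]; trivial
    obtain ⟨i, hi⟩ := Set.mem_iUnion.1 hv
    rw [← image_eqToHom (hZ i)] at hi
    obtain ⟨x, hx, hxv⟩ := hi
    refine ⟨i, ⟨x, hx⟩, ?_⟩
    rw [← hg i] at hxv
    exact hxv


/-- a finite jointly surjective family of quasi-compact objects over a quasi-separated object
generates a covering sieve -/
lemma ofArrows_mem {V : X.ProEt} [QuasiSeparatedSpace V.left] {n : ℕ} (W : Fin n → X.ProEt)
    (g : ∀ i, W i ⟶ V) (hW : ∀ i, CompactSpace (W i).left)
    (h : ∀ v : V.left, ∃ i, v ∈ Set.range (g i).left) :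
    Sieve.ofArrows W g ∈ Scheme.ProEt.topology X V := by
  refine Precoverage.generate_mem_toGrothendieck ?_
  change (Presieve.ofArrows W g).map (toSch X) ∈ Scheme.propQCPrecoverage @WeaklyEtale V.left
  rw [Presieve.map_ofArrows]
  have hmem : Presieve.ofArrows (fun i => (toSch X).obj (W i)) (fun i => (toSch X).map (g i)) ∈
      Scheme.precoverage @WeaklyEtale V.left := by
    rw [Scheme.ofArrows_mem_precoverage_iff]
    exact ⟨h, fun i => (inferInstance : WeaklyEtale (g i).left)⟩
  let 𝒰 : Scheme.Cover (Scheme.precoverage @WeaklyEtale) V.left :=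
    { I₀ := Fin n
      X := fun i => (toSch X).obj (W i)
      f := fun i => (toSch X).map (g i)
      mem₀ := hmem }
  haveI : ∀ i, QuasiCompact (𝒰.f i) := fun i => by
    haveI : CompactSpace ↥((toSch X).obj (W i)) := hW i
    haveI : QuasiSeparatedSpace ↥((toSch X).obj V) := ‹QuasiSeparatedSpace V.left›
    change QuasiCompact ((toSch X).map (g i))
    infer_instance
  haveI : Finite 𝒰.I₀ := (inferInstance : Finite (Fin n))
  have hqc : QuasiCompactCover 𝒰.toPreZeroHypercover := QuasiCompactCover.of_finite (𝒰 := 𝒰)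
  exact ⟨Scheme.presieve₀_mem_qcPrecoverage_iff.2 hqc, hmem⟩

/-- weakly étale `X`-schemes with quasi-compact quasi-separated underlying scheme -/
def qcB (X : Scheme.{u}) : Set X.ProEt :=
  {V | CompactSpace V.left ∧ QuasiSeparatedSpace V.left}

lemma mem_qcB_of_isAffine (V : X.ProEt) [IsAffine V.left] : V ∈ qcB X :=
  ⟨inferInstance, inferInstance⟩

/-- the underlying scheme of a fibre product in the small pro-étale site -/
noncomputable def pullbackLeftIso {V W₁ W₂ : X.ProEt} (g₁ : W₁ ⟶ V) (g₂ : W₂ ⟶ V) :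
    (pullback g₁ g₂).left ≅ pullback g₁.left g₂.left :=
  PreservesPullback.iso (toSch X) g₁ g₂

lemma pullback_mem_qcB {V W₁ W₂ : X.ProEt} (g₁ : W₁ ⟶ V) (g₂ : W₂ ⟶ V) (hV : V ∈ qcB X)
    (h₁ : W₁ ∈ qcB X) (h₂ : W₂ ∈ qcB X) : pullback g₁ g₂ ∈ qcB X := by
  haveI := hV.1; haveI := hV.2; haveI := h₁.1; haveI := h₁.2; haveI := h₂.1; haveI := h₂.2
  obtain ⟨hc, hq⟩ := H9FE.EtQcClass.qc_pullback g₁.left g₂.left
  exact H9FE.EtQcClass.qc_of_iso (pullbackLeftIso g₁ g₂)

theorem qcClass (X : Scheme.{u}) : QcClass (Scheme.ProEt.topology X) (qcB X) where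
  fin := by
    intro V hV T hT
    haveI := hV.1
    haveI := hV.2
    obtain ⟨n, W, g, haff, hTg, hcov⟩ := exists_finite_affine_refinement V T hT
    exact ⟨n, W, g, fun i => by haveI := haff i; exact mem_qcB_of_isAffine (W i), hTg,
      ofArrows_mem W g (fun i => by haveI := haff i; infer_instance) hcov⟩
  pb := fun g₁ g₂ hV h₁ h₂ => pullback_mem_qcB g₁ g₂ hV h₁ h₂

lemma qcB_iso {A A' : X.ProEt} (e : A ≅ A') (h : A ∈ qcB X) : A' ∈ qcB X := by
  haveI : CompactSpace ↥((toSch X).obj A) := h.1
  haveI : QuasiSeparatedSpace ↥((toSch X).obj A) := h.2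
  exact H9FE.EtQcClass.qc_of_iso ((toSch X).mapIso e.symm)


/-- `X` itself is a terminal object of its small pro-étale site -/
noncomputable def topIsTerminal (X : Scheme.{u}) : IsTerminal (ProEtS.topP X) :=
  IsTerminal.isTerminalOfObj (Scheme.ProEt.forget X) (ProEtS.topP X) Over.mkIdTerminal

lemma top_mem [CompactSpace X] [QuasiSeparatedSpace X] : ProEtS.topP X ∈ qcB X :=
  ⟨(inferInstance : CompactSpace ↥X), (inferInstance : QuasiSeparatedSpace ↥X)⟩

open H9FE.WTSiteH

section Main

variable (X) [CompactSpace X] [QuasiSeparatedSpace X]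

/-- pro-étale cohomology of a qcqs scheme commutes with filtered colimits (elementwise form) -/
theorem hsurj_hinj {J : Type (u + 1)} [SmallCategory J] [IsFiltered J] (n : ℕ)
    (D : J ⥤ ProEtS.AbP X) :
    HSurj.{u + 1} (constZ.{u + 1} (Scheme.ProEt.topology X)) D n ∧
      HInj.{u + 1} (constZ.{u + 1} (Scheme.ProEt.topology X)) D n :=
  hsurj_hinj_site.{u + 1, u + 1, u, u + 1} (qcClass X) (fun e h => qcB_iso e h)
    (reprConst.{u + 1, u + 1} (Scheme.ProEt.topology X) (topIsTerminal X)) top_mem n D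

lemma HPF_map_apply {A B : ProEtS.AbP X} (φ : A ⟶ B) (n : ℕ)
    (y : Ext.{u + 1} (constZ.{u + 1} (Scheme.ProEt.topology X)) A n) :
    ((ProEtS.HPF X n).map φ).hom y = push φ y := rfl

theorem preserves_big {J : Type (u + 1)} [SmallCategory J] [IsFiltered J] (n : ℕ) :
    PreservesColimitsOfShape J (ProEtS.HPF X n) := by
  constructor
  intro K
  apply preservesColimit_of_preserves_colimit_cocone (colimit.isColimit K)
  haveI : ReflectsColimitsOfShape J (forget AddCommGrpCat.{u + 1}) :=
    reflectsColimitsOfShape_of_reflectsIsomorphisms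
  apply isColimitOfReflects (forget AddCommGrpCat.{u + 1})
  obtain ⟨hs, hi⟩ := hsurj_hinj X n K
  apply Types.FilteredColimit.isColimitOf'
  · intro x
    obtain ⟨j, y, hy⟩ := hs x
    exact ⟨j, y, hy.symm⟩
  · intro i x y hxy
    have hxy' : push (colimit.ι K i)
        (x : Ext.{u + 1} (constZ.{u + 1} (Scheme.ProEt.topology X)) (K.obj i) n) =
      push (colimit.ι K i)
        (y : Ext.{u + 1} (constZ.{u + 1} (Scheme.ProEt.topology X)) (K.obj i) n) := hxy
    have h0 : push (colimit.ι K i)
        ((x : Ext.{u + 1} (constZ.{u + 1} (Scheme.ProEt.topology X)) (K.obj i) n) - y) = 0 := by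
      rw [push_sub, hxy', sub_self]
    obtain ⟨k, f, hf⟩ := hi i _ h0
    refine ⟨k, f, ?_⟩
    rw [push_sub, sub_eq_zero] at hf
    exact hf

end Main

end H9FE.ProEtQc
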