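import Mathlib
import Groth.Prelude.Def_PBC
import Groth.Prelude.Def_ProEtW
import Groth.Agent.Lib.Helper9.FE.PF4

/-! helper9: a ring `A` has retractions of all faithfully flat ind-Zariski algebras iff `Spec A`
is w-local and `π₀(Spec A)` is extremally disconnected. -/

set_option autoImplicit false
universe u
open PrimeSpectrum Topology

namespace H9FE.WLz3

open H9FE.LCSpec H9FE.IZ H9FE.Glue H9FE.WLz2

set_option linter.unusedSectionVars false
set_option linter.style.haveILetI false

/-- a closed subscheme of a w-local affine scheme is w-local -/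
theorem isWLocal_of_surjective {R S : Type u} [CommRing R] [CommRing S] (f : R →+* S)
    (hf : Function.Surjective f) (hR : ProEtW.IsWLocal (PrimeSpectrum R)) :
    ProEtW.IsWLocal (PrimeSpectrum S) := by
  have hce := PrimeSpectrum.isClosedEmbedding_comap_of_surjective S f hf
  have hcl : ∀ x : PrimeSpectrum S, IsClosed ({x} : Set (PrimeSpectrum S)) ↔
      IsClosed ({PrimeSpectrum.comap f x} : Set (PrimeSpectrum R)) := by
    intro x
    constructor
    · intro h
      have h1 := hce.isClosedMap _ h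
      rwa [Set.image_singleton] at h1
    · intro h
      have h1 := h.preimage hce.continuous
      rwa [← Set.image_singleton, Set.preimage_image_eq _ hce.injective] at h1
  refine ⟨inferInstance, ?_, ?_⟩
  · have h1 : {x : PrimeSpectrum S | IsClosed ({x} : Set (PrimeSpectrum S))} =
        PrimeSpectrum.comap f ⁻¹' {y | IsClosed ({y} : Set (PrimeSpectrum R))} := by
      ext x
      exact hcl x
    rw [h1]
    exact hR.2.1.preimage hce.continuous
  · intro x
    obtain ⟨y', ⟨hy'c, hy's⟩, hy'u⟩ := hR.2.2 (PrimeSpectrum.comap f x)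
    have hmem : y' ∈ Set.range (PrimeSpectrum.comap f) :=
      hce.isClosed_range.stableUnderSpecialization hy's ⟨x, rfl⟩
    obtain ⟨x', rfl⟩ := hmem
    refine ⟨x', ⟨(hcl x').mpr hy'c, hce.isInducing.specializes_iff.mp hy's⟩, ?_⟩
    rintro x'' ⟨hc, hs⟩
    apply hce.injective
    exact hy'u _ ⟨(hcl x'').mp hc, hs.map hce.continuous⟩

section Forward

variable (A : Type u) [CommRing A]

theorem wLocal_of_retractions (h : ProEtW.HasIndZariskiRetractions A) :
    ProEtW.IsWLocal (PrimeSpectrum A) := by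
  obtain ⟨r⟩ := h (WLz.Aw A) (WLz.faithfullyFlat_Aw A) (WLz.isIndZariski_Aw A)
  have hsurj : Function.Surjective r.toRingHom := fun a => ⟨algebraMap A (WLz.Aw A) a, r.commutes a⟩
  exact isWLocal_of_surjective r.toRingHom hsurj (WLz.isWLocal A)

/-- a copy of a type with the discrete topology -/
def Disc (X : Type u) : Type u := X

instance (X : Type u) : TopologicalSpace (Disc X) := ⊥

instance (X : Type u) : DiscreteTopology (Disc X) := ⟨rfl⟩

/-- the Stone-Cech compactification of the discrete space of components -/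
abbrev Tsc : Type u := StoneCech (Disc (P0 A))

instance : ExtremallyDisconnected (Tsc A) := StoneCech.projective.extremallyDisconnected

/-- the identity map out of the discrete copy -/
def Disc.out {X : Type u} (x : Disc X) : X := x

/-- the identity map into the discrete copy -/
def Disc.in {X : Type u} (x : X) : Disc X := x

lemma continuous_discId : Continuous (Disc.out : Disc (P0 A) → P0 A) :=
  continuous_of_discreteTopology

/-- the canonical surjection -/
noncomputable def qMap : C(Tsc A, P0 A) :=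
  ⟨stoneCechExtend (continuous_discId A), continuous_stoneCechExtend (continuous_discId A)⟩

lemma qMap_surjective : Function.Surjective (qMap A) := fun c =>
  ⟨stoneCechUnit (Disc.in c), stoneCechExtend_stoneCechUnit (continuous_discId A) (Disc.in c)⟩

theorem extrDisc_of_retractions (h : ProEtW.HasIndZariskiRetractions A) :
    ExtremallyDisconnected (P0 A) := by
  obtain ⟨r⟩ := h (PF.B A (Tsc A) (qMap A)) (PF.faithfullyFlat_B A (Tsc A) (qMap A) (qMap_surjective A))
    (PF.isIndZariski_B A (Tsc A) (qMap A))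
  let s : P0 A → Tsc A := fun c => PF.eHomeo A (Tsc A) (qMap A)
    ((PrimeSpectrum.continuous_comap r.toRingHom).connectedComponentsMap c)
  have hs : Continuous s := (PF.eHomeo A (Tsc A) (qMap A)).continuous.comp
    (PrimeSpectrum.continuous_comap r.toRingHom).connectedComponentsMap_continuous
  have hqs : ∀ c, qMap A (s c) = c := by
    intro c
    obtain ⟨x, rfl⟩ := _root_.ConnectedComponents.surjective_coe c
    show qMap A (PF.eHomeo A (Tsc A) (qMap A)
      ((PrimeSpectrum.continuous_comap r.toRingHom).connectedComponentsMap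
        (_root_.ConnectedComponents.mk x))) = _root_.ConnectedComponents.mk x
    rw [Continuous.connectedComponentsMap_mk, PF.eHomeo_mk, ← PF.mk_comap_eq,
      ← PrimeSpectrum.comap_comp_apply]
    have h1 : r.toRingHom.comp (algebraMap A (PF.B A (Tsc A) (qMap A))) = RingHom.id A :=
      RingHom.ext fun a => r.commutes a
    rw [h1]
    rfl
  apply CompactT2.Projective.extremallyDisconnected
  intro Y Z _ _ _ _ _ _ f g hf hg hgs
  obtain ⟨h', hh', hh'e⟩ := StoneCech.projective (X := Disc (P0 A))
    (hf.comp (qMap A).continuous) hg hgs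
  refine ⟨h' ∘ s, hh'.comp hs, ?_⟩
  funext c
  have h2 := congrFun hh'e (s c)
  simp only [Function.comp_apply] at h2 ⊢
  rw [h2, hqs]

end Forward

section Retr

variable (A B₁ : Type u) [CommRing A] [CommRing B₁] [Algebra A B₁]
  (hA : ProEtW.IsWLocal (PrimeSpectrum A))
  (hB : ProEtW.IsWLocal (PrimeSpectrum B₁))

/-- closed points of `Spec B₁` over closed points of `Spec A` -/
def Sset : Set (Xc B₁) :=
  {y | IsClosed ({PrimeSpectrum.comap (algebraMap A B₁) y.1} : Set (PrimeSpectrum A))}

include hA in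
lemma isClosed_Sset : IsClosed (Sset A B₁) :=
  hA.2.1.preimage ((PrimeSpectrum.continuous_comap (algebraMap A B₁)).comp continuous_subtype_val)

/-- the map to the components of `Spec A` -/
def pMap : Sset A B₁ → P0 A := fun y =>
  _root_.ConnectedComponents.mk (PrimeSpectrum.comap (algebraMap A B₁) y.1.1)

lemma continuous_pMap : Continuous (pMap A B₁) :=
  _root_.ConnectedComponents.continuous_coe.comp
    ((PrimeSpectrum.continuous_comap (algebraMap A B₁)).comp
      (continuous_subtype_val.comp continuous_subtype_val))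

include hA hB in
lemma pMap_surjective (hsurj : Function.Surjective (PrimeSpectrum.comap (algebraMap A B₁))) :
    Function.Surjective (pMap A B₁) := by
  intro c
  obtain ⟨x0, rfl⟩ := _root_.ConnectedComponents.surjective_coe c
  have hx : IsClosed ({rpt A hA x0} : Set (PrimeSpectrum A)) := rpt_closed A hA x0
  obtain ⟨y0, hy0⟩ := hsurj (rpt A hA x0)
  have hy : IsClosed ({rpt B₁ hB y0} : Set (PrimeSpectrum B₁)) := rpt_closed B₁ hB y0
  have hsp : PrimeSpectrum.comap (algebraMap A B₁) y0 ⤳
      PrimeSpectrum.comap (algebraMap A B₁) (rpt B₁ hB y0) :=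
    (specializes_rpt B₁ hB y0).map (PrimeSpectrum.continuous_comap _)
  rw [hy0] at hsp
  have hxy : PrimeSpectrum.comap (algebraMap A B₁) (rpt B₁ hB y0) = rpt A hA x0 :=
    hsp.mem_closed hx (Set.mem_singleton _)
  refine ⟨⟨⟨rpt B₁ hB y0, hy⟩, ?_⟩, ?_⟩
  · show IsClosed ({PrimeSpectrum.comap (algebraMap A B₁) (rpt B₁ hB y0)} : Set (PrimeSpectrum A))
    rw [hxy]
    exact hx
  · show _root_.ConnectedComponents.mk (PrimeSpectrum.comap (algebraMap A B₁) (rpt B₁ hB y0)) =
      _root_.ConnectedComponents.mk x0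
    rw [hxy]
    exact mk_eq_of_specializes' (specializes_rpt A hA x0)

include hA hB in
lemma exists_section (hED : ExtremallyDisconnected (P0 A))
    (hsurj : Function.Surjective (PrimeSpectrum.comap (algebraMap A B₁))) :
    ∃ σ : C(P0 A, P0 B₁), ∀ t : P0 A, ∃ y : PrimeSpectrum B₁,
      IsClosed ({y} : Set (PrimeSpectrum B₁)) ∧
      IsClosed ({PrimeSpectrum.comap (algebraMap A B₁) y} : Set (PrimeSpectrum A)) ∧
      _root_.ConnectedComponents.mk (PrimeSpectrum.comap (algebraMap A B₁) y) = t ∧
      σ t = _root_.ConnectedComponents.mk y := by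
  haveI : CompactSpace (Xc B₁) := isCompact_iff_compactSpace.mp hB.2.1.isCompact
  haveI : T2Space (Xc B₁) := (hcHomeo B₁ hB).isEmbedding.t2Space
  haveI : CompactSpace (Sset A B₁) :=
    isCompact_iff_compactSpace.mp (isClosed_Sset A B₁ hA).isCompact
  have hproj : CompactT2.Projective (P0 A) := CompactT2.ExtremallyDisconnected.projective
  obtain ⟨h, hh, hhe⟩ := hproj (continuous_id (X := P0 A)) (continuous_pMap A B₁)
    (pMap_surjective A B₁ hA hB hsurj)
  refine ⟨⟨fun t => _root_.ConnectedComponents.mk (h t).1.1,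
    _root_.ConnectedComponents.continuous_coe.comp
      (continuous_subtype_val.comp (continuous_subtype_val.comp hh))⟩,
    fun t => ⟨(h t).1.1, (h t).1.2, (h t).2, congrFun hhe t, rfl⟩⟩

include hA hB in
theorem retraction_of_wLocal (hED : ExtremallyDisconnected (P0 A))
    (hILR : EtPBC.IdentifiesLocalRings A B₁)
    (hsurj : Function.Surjective (PrimeSpectrum.comap (algebraMap A B₁))) :
    Nonempty (B₁ →ₐ[A] A) := by
  obtain ⟨σ, hσ⟩ := exists_section A B₁ hA hB hED hsurj
  haveI tower : @IsScalarTower A B₁ (PF.B B₁ (P0 A) σ) Algebra.toSMul Algebra.toSMul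
      Algebra.toSMul := IsScalarTower.of_algebraMap_eq (fun a => rfl)
  have hIZ : EtPBC.IsIndZariski B₁ (PF.B B₁ (P0 A) σ) := PF.isIndZariski_B B₁ _ σ
  have hILRC : EtPBC.IdentifiesLocalRings A (PF.B B₁ (P0 A) σ) :=
    identifiesLocalRings_comp hILR (identifiesLocalRings_of_isIndZariski B₁ _ hIZ)
  have hWC : ProEtW.IsWLocal (PrimeSpectrum (PF.B B₁ (P0 A) σ)) := PF.isWLocal_B B₁ _ σ hB
  have hcomap : ∀ y : PrimeSpectrum (PF.B B₁ (P0 A) σ),
      PrimeSpectrum.comap (algebraMap A (PF.B B₁ (P0 A) σ)) y =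
        PrimeSpectrum.comap (algebraMap A B₁)
          (PrimeSpectrum.comap (algebraMap B₁ (PF.B B₁ (P0 A) σ)) y) := by
    intro y
    rw [← PrimeSpectrum.comap_comp_apply, ← IsScalarTower.algebraMap_eq]
  have hkey : ∀ y : PrimeSpectrum (PF.B B₁ (P0 A) σ),
      _root_.ConnectedComponents.mk (PrimeSpectrum.comap (algebraMap A (PF.B B₁ (P0 A) σ)) y) =
        PF.tau B₁ (P0 A) σ y := by
    intro y
    obtain ⟨y', -, -, hy't, hy'σ⟩ := hσ (PF.tau B₁ (P0 A) σ y)
    have h1 := PF.mk_comap_eq B₁ (P0 A) σ y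
    rw [hy'σ] at h1
    have h2 := congrArg (PF3.gMap A B₁) h1
    rw [PF3.gMap_mk, PF3.gMap_mk, hy't, ← hcomap] at h2
    exact h2
  have hwl : ProEtW.IsWLocalMap (PrimeSpectrum.comap (algebraMap A (PF.B B₁ (P0 A) σ))) := by
    refine ⟨isSpectralMap_comap _, fun y hy => ?_⟩
    have hy1 : IsClosed ({PrimeSpectrum.comap (algebraMap B₁ (PF.B B₁ (P0 A) σ)) y} :
        Set (PrimeSpectrum B₁)) := (PF.isClosed_singleton_iff B₁ (P0 A) σ y).mp hy
    obtain ⟨y', hy'c, hy'A, -, hy'σ⟩ := hσ (PF.tau B₁ (P0 A) σ y)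
    have h1 := PF.mk_comap_eq B₁ (P0 A) σ y
    rw [hy'σ] at h1
    have heq : PrimeSpectrum.comap (algebraMap B₁ (PF.B B₁ (P0 A) σ)) y = y' := by
      by_contra hne
      exact H9FE.WLoc.mk_ne_mk_of_isWLocal hB _ _ hy1 hy'c hne h1
    rw [hcomap, heq]
    exact hy'A
  have hbij0 : Function.Bijective (PrimeSpectrum.continuous_comap
      (algebraMap A (PF.B B₁ (P0 A) σ))).connectedComponentsMap := by
    have hfun : ∀ c, (PrimeSpectrum.continuous_comap
        (algebraMap A (PF.B B₁ (P0 A) σ))).connectedComponentsMap c =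
        PF.eHomeo B₁ (P0 A) σ c := by
      intro c
      obtain ⟨y, rfl⟩ := _root_.ConnectedComponents.surjective_coe c
      rw [Continuous.connectedComponentsMap_mk, PF.eHomeo_mk]
      exact hkey y
    rw [show (PrimeSpectrum.continuous_comap
        (algebraMap A (PF.B B₁ (P0 A) σ))).connectedComponentsMap =
        ⇑(PF.eHomeo B₁ (P0 A) σ) from funext hfun]
    exact (PF.eHomeo B₁ (P0 A) σ).bijective
  have hbij := H9FE.WLoc.bijective_of_identifiesLocalRings A _ hILRC hA hWC hwl hbij0
  let e : A ≃ₐ[A] PF.B B₁ (P0 A) σ := AlgEquiv.ofBijective (Algebra.ofId A _) hbij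
  exact ⟨(e.symm : PF.B B₁ (P0 A) σ →ₐ[A] A).comp (IsScalarTower.toAlgHom A B₁ _)⟩

end Retr

theorem hasRetractions_of_wLocal (A : Type u) [CommRing A]
    (hA : ProEtW.IsWLocal (PrimeSpectrum A)) (hED : ExtremallyDisconnected (P0 A)) :
    ProEtW.HasIndZariskiRetractions A := by
  intro B _ _ hff hIZ
  letI alg : Algebra A (WLz.Aw B) := ((algebraMap B (WLz.Aw B)).comp (algebraMap A B)).toAlgebra
  haveI tower : @IsScalarTower A B (WLz.Aw B) _ Algebra.toSMul alg.toSMul :=
    @IsScalarTower.of_algebraMap_eq A B (WLz.Aw B) _ _ _ _ _ alg (fun _ => rfl)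
  have hILR : EtPBC.IdentifiesLocalRings A (WLz.Aw B) :=
    identifiesLocalRings_comp (identifiesLocalRings_of_isIndZariski A B hIZ)
      (identifiesLocalRings_of_isIndZariski B _ (WLz.isIndZariski_Aw B))
  have hsurj : Function.Surjective (PrimeSpectrum.comap (algebraMap A (WLz.Aw B))) := by
    intro p
    obtain ⟨q, hq⟩ := PrimeSpectrum.comap_surjective_of_faithfullyFlat (A := A) (B := B) p
    obtain ⟨q', hq'⟩ := WLz.comap_surjective B q
    refine ⟨q', ?_⟩
    rw [IsScalarTower.algebraMap_eq A B (WLz.Aw B), PrimeSpectrum.comap_comp_apply, hq', hq]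
  obtain ⟨r⟩ := retraction_of_wLocal A (WLz.Aw B) hA (WLz.isWLocal B) hED hILR hsurj
  exact ⟨r.comp (IsScalarTower.toAlgHom A B (WLz.Aw B))⟩

/-- the statement of S0678 -/
theorem main (A : Type u) [CommRing A] :
    ProEtW.HasIndZariskiRetractions A ↔
      (ProEtW.IsWLocal (PrimeSpectrum A) ∧
        ExtremallyDisconnected (_root_.ConnectedComponents (PrimeSpectrum A))) :=
  ⟨fun h => ⟨wLocal_of_retractions A h, extrDisc_of_retractions A h⟩,
    fun h => hasRetractions_of_wLocal A h.1 h.2⟩

end H9FE.WLz3
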