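import Mathlib
import Groth.Prelude.Def_PBC
import Groth.Prelude.Def_ProEtW
import Groth.Prelude.Def_EtBase
import Groth.Agent.Lib.Helper9.FE.WStr5
import Groth.Agent.Lib.Helper9.FE.WLz3
import Groth.Agent.Lib.Helper9.FE.PF2

/-! helper9: characterization of w-contractible rings (S0677) and existence of w-contractible
covers (S0177). -/

set_option autoImplicit false
universe u
open CategoryTheory Limits TensorProduct

namespace H9FE.WStr

open H9FE.IZ Groth.Agent.Lib.Helper6

set_option linter.unusedSectionVars false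
set_option linter.style.haveILetI false

theorem extremallyDisconnected_of_homeomorph {X Y : Type u} [TopologicalSpace X]
    [TopologicalSpace Y] (e : X ≃ₜ Y) [ExtremallyDisconnected Y] : ExtremallyDisconnected X := by
  refine ⟨fun U hU => ?_⟩
  have h1 : IsOpen (closure (e '' U)) :=
    ExtremallyDisconnected.open_closure _ (e.isOpenMap _ hU)
  rw [← e.image_closure] at h1
  have h2 : closure U = e ⁻¹' (e '' closure U) := (Set.preimage_image_eq _ e.injective).symm
  rw [h2]
  exact h1.preimage e.continuous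

theorem wContractible_of_conditions (A : Type u) [CommRing A]
    (hW : ProEtW.IsWLocal (PrimeSpectrum A))
    (hED : ExtremallyDisconnected (_root_.ConnectedComponents (PrimeSpectrum A)))
    (hSH : ∀ (m : Ideal A) [m.IsMaximal],
      EtCoh.IsStrictlyHenselianLocalRing (Localization.AtPrime m)) :
    EtPBC.IsWContractible A := by
  intro B _ _ hff hWE
  haveI := hff
  haveI := hWE
  obtain ⟨hI, hI0⟩ := ideal_of_closedPoints A hW
  have hARE := algebraicResidueExtensions_of_weaklyEtale A B
  obtain ⟨hcl, C, _, algBC, algAC, tower, hIZ, hbij, hWC, hWmap, hclC⟩ :=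
    H9FE.WLz5.main737 (A := A) (B := B) hW _ hI hI0 hARE
  haveI : Algebra.WeaklyEtale B C :=
    IndEt.weaklyEtale_of_isIndEtale B C (isIndEtale_of_isIndZariski _ _ hIZ)
  haveI : Algebra.WeaklyEtale A C := Algebra.WeaklyEtale.trans A B C
  have hILR : EtPBC.IdentifiesLocalRings A C :=
    identifiesLocalRings_of_weaklyEtale A C
      (fun M _ => isMaximal_comap_of_isWLocalMap A C hWmap M) hSH
  have hcp : ∀ y : PrimeSpectrum A, y ∈ ProEtW.closedPoints (PrimeSpectrum A) →
      ∃ w : PrimeSpectrum C, PrimeSpectrum.comap (algebraMap A C) w = y := by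
    intro y hy
    have hyI : PrimeSpectrum.vanishingIdeal (ProEtW.closedPoints (PrimeSpectrum A)) ≤
        y.asIdeal := by
      rw [← hI0, PrimeSpectrum.mem_zeroLocus, SetLike.coe_subset_coe] at hy
      exact hy
    obtain ⟨z, hz⟩ := PrimeSpectrum.comap_surjective_of_faithfullyFlat (A := A) (B := B) y
    have hzI : (PrimeSpectrum.vanishingIdeal (ProEtW.closedPoints (PrimeSpectrum A))).map
        (algebraMap A B) ≤ z.asIdeal := by
      rw [Ideal.map_le_iff_le_comap]
      have h2 := congrArg PrimeSpectrum.asIdeal hz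
      exact hyI.trans h2.symm.le
    obtain ⟨w, hw⟩ := exists_comap_eq_of_quotient_bijective _ hbij z hzI
    exact ⟨w, by rw [← hz, ← hw, ← PrimeSpectrum.comap_comp_apply,
      ← IsScalarTower.algebraMap_eq]⟩
  haveI hffC : Module.FaithfullyFlat A C := by
    refine ⟨fun m hm htop => ?_⟩
    rw [Ideal.smul_top_eq_map, Submodule.restrictScalars_eq_top_iff] at htop
    obtain ⟨w, hw⟩ := hcp ⟨m, hm.isPrime⟩
      ((PrimeSpectrum.isClosed_singleton_iff_isMaximal _).mpr hm)
    have h1 : Ideal.map (algebraMap A C) m ≤ w.asIdeal := by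
      rw [Ideal.map_le_iff_le_comap]
      exact (congrArg PrimeSpectrum.asIdeal hw).symm.le
    rw [htop] at h1
    exact w.2.ne_top (top_le_iff.mp h1)
  have hsurj := PrimeSpectrum.comap_surjective_of_faithfullyFlat (A := A) (B := C)
  obtain ⟨r⟩ := H9FE.WLz3.retraction_of_wLocal A C hW hWC hED hILR hsurj
  exact ⟨r.comp (IsScalarTower.toAlgHom A B C)⟩

/-- the statement of S0677 -/
theorem main677 (A : Type u) [CommRing A] :
    EtPBC.IsWContractible A ↔
      (ProEtW.IsWLocal (PrimeSpectrum A) ∧
        ExtremallyDisconnected (_root_.ConnectedComponents (PrimeSpectrum A)) ∧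
        ∀ (m : Ideal A) [m.IsMaximal],
          EtCoh.IsStrictlyHenselianLocalRing (Localization.AtPrime m)) := by
  constructor
  · intro h
    have hIZR : ProEtW.HasIndZariskiRetractions A := fun B _ _ hff hIZ =>
      h B hff (IndEt.weaklyEtale_of_isIndEtale A B (isIndEtale_of_isIndZariski A B hIZ))
    have hER : ProEtW.HasEtaleRetractions A := fun B _ _ hff het => by
      haveI := het
      exact h B hff inferInstance
    obtain ⟨h1, h2⟩ := (H9FE.WLz3.main A).mp hIZR
    exact ⟨h1, h2, fun m _ => Groth.Agent.Helper7.EtRetr.main A hER m⟩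
  · rintro ⟨h1, h2, h3⟩
    exact wContractible_of_conditions A h1 h2 h3

theorem exists_wContractible_indZariski (C : Type u) [CommRing C]
    (hWC : ProEtW.IsWLocal (PrimeSpectrum C))
    (hSHC : ∀ (m : Ideal C) [m.IsMaximal],
      EtCoh.IsStrictlyHenselianLocalRing (Localization.AtPrime m)) :
    ∃ (D : Type u) (_ : CommRing D) (_ : Algebra C D),
      Module.FaithfullyFlat C D ∧ EtPBC.IsIndZariski C D ∧ EtPBC.IsWContractible D := by
  have hffD : Module.FaithfullyFlat C (PF.B C (WLz3.Tsc C) (WLz3.qMap C)) :=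
    PF.faithfullyFlat_B C _ _ (WLz3.qMap_surjective C)
  have hIZD : EtPBC.IsIndZariski C (PF.B C (WLz3.Tsc C) (WLz3.qMap C)) := PF.isIndZariski_B C _ _
  have hWD : ProEtW.IsWLocal (PrimeSpectrum (PF.B C (WLz3.Tsc C) (WLz3.qMap C))) :=
    PF.isWLocal_B C _ _ hWC
  have hWmap := PF.isWLocalMap_comap C (WLz3.Tsc C) (WLz3.qMap C)
  haveI hED : ExtremallyDisconnected
      (_root_.ConnectedComponents (PrimeSpectrum (PF.B C (WLz3.Tsc C) (WLz3.qMap C)))) :=
    extremallyDisconnected_of_homeomorph (PF.eHomeo C _ _)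
  have hSHD : ∀ (M : Ideal (PF.B C (WLz3.Tsc C) (WLz3.qMap C))) [M.IsMaximal],
      EtCoh.IsStrictlyHenselianLocalRing (Localization.AtPrime M) := by
    intro M hM
    haveI hm := isMaximal_comap_of_isWLocalMap C _ hWmap M
    have hILR := identifiesLocalRings_of_isIndZariski C _ hIZD ⟨M, hM.isPrime⟩
    exact Groth.Agent.Helper2.StrictHensTransfer.isStrictlyHenselian_of_ringEquiv
      (RingEquiv.ofBijective _ hILR) (hSHC (M.comap (algebraMap C _)))
  exact ⟨PF.B C (WLz3.Tsc C) (WLz3.qMap C), inferInstance, inferInstance, hffD, hIZD,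
    wContractible_of_conditions _ hWD hED hSHD⟩

/-- the statement of S0177 -/
theorem main177 (A : Type u) [CommRing A] :
    ∃ (D : Type u) (_ : CommRing D) (_ : Algebra A D),
      Module.FaithfullyFlat A D ∧ EtPBC.IsIndEtale A D ∧ EtPBC.IsWContractible D := by
  obtain ⟨C, _, _, hffC, hIEC, hWC, hsurjC, hSHC⟩ := goalW A
  obtain ⟨D, _, _, hffD, hIZD, hWCon⟩ := exists_wContractible_indZariski C hWC hSHC
  letI algAD : Algebra A D := ((algebraMap C D).comp (algebraMap A C)).toAlgebra
  haveI tower : @IsScalarTower A C D Algebra.toSMul Algebra.toSMul Algebra.toSMul :=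
    IsScalarTower.of_algebraMap_eq (fun _ => rfl)
  refine ⟨D, inferInstance, algAD, ?_, ?_, hWCon⟩
  · haveI := hffC
    haveI := hffD
    exact Module.FaithfullyFlat.trans A C D
  · exact IndEtComp.comp A C D hIEC (isIndEtale_of_isIndZariski _ _ hIZD)

end H9FE.WStr
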