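import Mathlib
import Groth.Prelude.Def_ProEtS
import Groth.Prelude.Def_PBC
import Groth.Agent.Lib.Helper9.FE.ProEtQc
import Groth.Agent.Lib.Helper9.FE.WStr6
import Groth.Agent.Lib.Helper5.WEt.Scheme

/-! helper9: the small pro-étale site: affine objects built from weakly étale algebras over the
ring of an affine open, a covering criterion, and the existence of coverings by affine objects
with w-contractible rings of functions. -/

set_option autoImplicit false
set_option linter.unusedSectionVars false
set_option linter.style.haveILetI false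
set_option backward.isDefEq.respectTransparency false
universe u
open CategoryTheory Limits Opposite AlgebraicGeometry

namespace H9FE.ProEtW

open H9FE.ProEtQc

variable {X : Scheme.{u}}

/-! ### transport of w-contractibility -/

theorem isWContractible_of_ringEquiv {R S : Type u} [CommRing R] [CommRing S] (e : R ≃+* S)
    (h : EtPBC.IsWContractible R) : EtPBC.IsWContractible S := by
  intro B _ _ hff hWE
  letI algRS : Algebra R S := e.toRingHom.toAlgebra
  letI algRB : Algebra R B := ((algebraMap S B).comp e.toRingHom).toAlgebra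
  haveI tower : IsScalarTower R S B := IsScalarTower.of_algebraMap_eq (fun _ => rfl)
  have hbij : Function.Bijective (algebraMap R S) := e.bijective
  haveI : Algebra.IsStandardOpenImmersion R S := Algebra.IsStandardOpenImmersion.of_bijective hbij
  haveI : Algebra.Etale R S := H9FE.WStr.etale_of_isLocalIso R S
  haveI : Algebra.WeaklyEtale R S := inferInstance
  haveI : Module.FaithfullyFlat R S :=
    RingHom.faithfullyFlat_algebraMap_iff.mp (RingHom.FaithfullyFlat.of_bijective hbij)
  haveI := hff
  haveI := hWE
  haveI : Module.FaithfullyFlat R B := Module.FaithfullyFlat.trans R S B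
  haveI : Algebra.WeaklyEtale R B := Algebra.WeaklyEtale.trans R S B
  obtain ⟨r⟩ := h B inferInstance inferInstance
  refine ⟨{ toRingHom := e.toRingHom.comp r.toRingHom, commutes' := fun s => ?_ }⟩
  have h1 : algebraMap S B s = algebraMap R B (e.symm s) := by
    show algebraMap S B s = algebraMap S B (e (e.symm s))
    rw [e.apply_symm_apply]
  show e (r (algebraMap S B s)) = s
  rw [h1, r.commutes]
  exact e.apply_symm_apply s

/-! ### a covering criterion -/

lemma ofArrows_mem_of_forall_affine {U : X.ProEt} {ι : Type u} (V : ι → X.ProEt)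
    (g : ∀ i, V i ⟶ U) (hV : ∀ i, CompactSpace (V i).left)
    (h : ∀ (W : U.left.Opens), IsAffineOpen W →
      ∃ i, Set.range (g i).left = (W : Set U.left)) :
    Sieve.generate (Presieve.ofArrows V g) ∈ Scheme.ProEt.topology X U := by
  refine Precoverage.generate_mem_toGrothendieck ?_
  change (Presieve.ofArrows V g).map (toSch X) ∈ Scheme.propQCPrecoverage @WeaklyEtale U.left
  rw [Presieve.map_ofArrows]
  have hsurj : ∀ x : U.left, ∃ i, x ∈ Set.range (g i).left := by
    intro x
    obtain ⟨W, hW, hxW, -⟩ := exists_isAffineOpen_mem_and_subset (x := x) (U := ⊤) trivial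
    obtain ⟨i, hi⟩ := h W hW
    exact ⟨i, hi ▸ hxW⟩
  have hmem : Presieve.ofArrows (fun i => (toSch X).obj (V i)) (fun i => (toSch X).map (g i)) ∈
      Scheme.precoverage @WeaklyEtale U.left := by
    rw [Scheme.ofArrows_mem_precoverage_iff]
    exact ⟨hsurj, fun i => (inferInstance : WeaklyEtale (g i).left)⟩
  let 𝒰 : Scheme.Cover (Scheme.precoverage @WeaklyEtale) U.left :=
    { I₀ := ι
      X := fun i => (toSch X).obj (V i)
      f := fun i => (toSch X).map (g i)
      mem₀ := hmem }
  have hqc : QuasiCompactCover 𝒰.toPreZeroHypercover := by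
    refine ⟨fun {W} hW => ?_⟩
    obtain ⟨i, hi⟩ := h W hW
    haveI : CompactSpace ↥((toSch X).obj (V i)) := hV i
    have h1 := IsCompactOpenCovered.image (f := fun i => ((𝒰.f i) : 𝒰.X i → U.left)) (i := i) ⊤
      (by simpa using isCompact_univ)
    have h2 : ((𝒰.f i) : 𝒰.X i → U.left) '' ((⊤ : TopologicalSpace.Opens (𝒰.X i)) : Set _) =
        (W : Set U.left) := by
      rw [TopologicalSpace.Opens.coe_top, Set.image_univ]
      exact hi
    rw [h2] at h1
    exact h1
  exact ⟨Scheme.presieve₀_mem_qcPrecoverage_iff.2 hqc, hmem⟩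

/-! ### affine objects over an affine open -/

section SpecObj

variable (U : X.ProEt) {W : U.left.Opens} (hW : IsAffineOpen W) (D : Type u) [CommRing D]
  [Algebra Γ(U.left, W) D]

/-- the morphism `Spec D ⟶ W ⊆ U` -/
noncomputable def specMor : Spec (CommRingCat.of D) ⟶ U.left :=
  Spec.map (CommRingCat.ofHom (algebraMap Γ(U.left, W) D)) ≫ hW.fromSpec

instance [Algebra.WeaklyEtale Γ(U.left, W) D] : WeaklyEtale (specMor U hW D) := by
  haveI : WeaklyEtale (Spec.map (CommRingCat.ofHom (algebraMap Γ(U.left, W) D))) :=
    (Helper5.WEt.weaklyEtale_Spec_iff _ _).mpr inferInstance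
  unfold specMor
  infer_instance

/-- `Spec D` as an object of the small pro-étale site -/
noncomputable def specObj [Algebra.WeaklyEtale Γ(U.left, W) D] : X.ProEt :=
  Scheme.ProEt.mk (specMor U hW D ≫ U.hom)

/-- the structure morphism `Spec D ⟶ U` in the small pro-étale site -/
noncomputable def specHom [Algebra.WeaklyEtale Γ(U.left, W) D] : specObj U hW D ⟶ U :=
  MorphismProperty.Over.homMk (specMor U hW D) rfl trivial

lemma range_specMor [Module.FaithfullyFlat Γ(U.left, W) D] :
    Set.range (specMor U hW D) = (W : Set U.left) := by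
  unfold specMor
  rw [Scheme.Hom.comp_base, TopCat.coe_comp, Set.range_comp, Set.range_eq_univ.mpr,
    Set.image_univ]
  · exact hW.range_fromSpec
  · intro p
    exact PrimeSpectrum.comap_surjective_of_faithfullyFlat p

lemma range_specHom [Algebra.WeaklyEtale Γ(U.left, W) D] [Module.FaithfullyFlat Γ(U.left, W) D] :
    Set.range (specHom U hW D).left = (W : Set U.left) :=
  range_specMor U hW D

end SpecObj

/-! ### w-contractible covers -/

/-- a chosen w-contractible faithfully flat ind-étale cover of a ring -/
noncomputable def coverRing (A : Type u) [CommRing A] : Type u := (H9FE.WStr.main177 A).choose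

noncomputable instance (A : Type u) [CommRing A] : CommRing (coverRing A) :=
  (H9FE.WStr.main177 A).choose_spec.choose

noncomputable instance (A : Type u) [CommRing A] : Algebra A (coverRing A) :=
  (H9FE.WStr.main177 A).choose_spec.choose_spec.choose

instance (A : Type u) [CommRing A] : Module.FaithfullyFlat A (coverRing A) :=
  (H9FE.WStr.main177 A).choose_spec.choose_spec.choose_spec.1

lemma coverRing_isIndEtale (A : Type u) [CommRing A] : EtPBC.IsIndEtale A (coverRing A) :=
  (H9FE.WStr.main177 A).choose_spec.choose_spec.choose_spec.2.1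

instance (A : Type u) [CommRing A] : Algebra.WeaklyEtale A (coverRing A) :=
  Groth.Agent.Lib.Helper6.IndEt.weaklyEtale_of_isIndEtale A _ (coverRing_isIndEtale A)

lemma coverRing_isWContractible (A : Type u) [CommRing A] :
    EtPBC.IsWContractible (coverRing A) :=
  (H9FE.WStr.main177 A).choose_spec.choose_spec.choose_spec.2.2

lemma isWContractible_Γ_Spec (D : Type u) [CommRing D] (h : EtPBC.IsWContractible D) :
    EtPBC.IsWContractible ↥(Γ(Spec (CommRingCat.of D), ⊤)) :=
  isWContractible_of_ringEquiv
    (Scheme.ΓSpecIso (CommRingCat.of D)).symm.commRingCatIsoToRingEquiv h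

/-- the statement of S7286 -/
theorem main7286 (U : X.ProEt) :
    ∃ (ι : Type u) (V : ι → X.ProEt) (g : ∀ i, V i ⟶ U),
      Sieve.generate (Presieve.ofArrows V g) ∈ Scheme.ProEt.topology X U ∧
        ∀ i, IsAffine (V i).left ∧ EtPBC.IsWContractible ↥(Γ((V i).left, ⊤)) := by
  refine ⟨U.left.affineOpens, fun W => specObj U W.2 (coverRing Γ(U.left, W.1)),
    fun W => specHom U W.2 (coverRing Γ(U.left, W.1)), ?_, fun W => ⟨?_, ?_⟩⟩
  · refine ofArrows_mem_of_forall_affine _ _ (fun W => ?_) (fun W hW => ⟨⟨W, hW⟩, ?_⟩)
    · show CompactSpace ↥(Spec (CommRingCat.of (coverRing Γ(U.left, W.1))))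
      infer_instance
    · exact range_specHom U hW (coverRing Γ(U.left, W))
  · show IsAffine (Spec (CommRingCat.of (coverRing Γ(U.left, W.1))))
    infer_instance
  · exact isWContractible_Γ_Spec _ (coverRing_isWContractible _)

end H9FE.ProEtW
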