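import Mathlib

/-! helper9: gluing sections of sheaves of types along a covering by pairwise disjoint
subobjects, and: an object covered by pairwise disjoint weakly contractible subobjects is weakly
contractible. -/

set_option autoImplicit false
set_option linter.style.haveILetI false
universe w v u
open CategoryTheory Limits Opposite

namespace H9FE.ProEtW

section General

variable {C : Type u} [Category.{v} C] (J : GrothendieckTopology C)

/-- a covering family of pairwise disjoint subobjects -/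
structure IsDisjointCover {B : C} {I : Type*} (Xs : I → C) (π : ∀ i, Xs i ⟶ B) : Prop where
  mem : Sieve.generate (Presieve.ofArrows Xs π) ∈ J B
  mono : ∀ i, Mono (π i)
  empty : ∀ i j, i ≠ j → ∀ (Z : C) (gi : Z ⟶ Xs i) (gj : Z ⟶ Xs j),
    gi ≫ π i = gj ≫ π j → ⊥ ∈ J Z

variable {J}

theorem subsingleton_of_bot_mem {P : Cᵒᵖ ⥤ Type w} (hP : Presieve.IsSheaf J P) {Z : C}
    (hZ : ⊥ ∈ J Z) : Subsingleton (P.obj (op Z)) := by
  refine ⟨fun a b => ?_⟩
  have h1 := (hP (⊥ : Sieve Z) hZ).isSeparatedFor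
  exact h1.ext (fun Y f hf => hf.elim)

theorem existsUnique_glue {B : C} {I : Type*} {Xs : I → C} {π : ∀ i, Xs i ⟶ B}
    (h : IsDisjointCover J Xs π) {P : Cᵒᵖ ⥤ Type w} (hP : Presieve.IsSheaf J P)
    (x : ∀ i, P.obj (op (Xs i))) : ∃! t, ∀ i, P.map (π i).op t = x i := by
  refine (Presieve.isSheafFor_arrows_iff _ _).1 (hP.isSheafFor _ h.mem) x ?_
  intro i j Z gi gj hcomm
  by_cases hij : i = j
  · subst hij
    haveI := h.mono i
    rw [(cancel_mono (π i)).mp hcomm]
  · haveI := subsingleton_of_bot_mem hP (h.empty i j hij Z gi gj hcomm)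
    exact Subsingleton.elim _ _

theorem surj_of_disjointCover {B : C} {I : Type*} {Xs : I → C} {π : ∀ i, Xs i ⟶ B}
    (h : IsDisjointCover J Xs π) (F G : Sheaf J (Type w)) (φ : F ⟶ G) (s : G.obj.obj (op B))
    (hs : ∀ i, ∃ t : F.obj.obj (op (Xs i)),
      φ.hom.app (op (Xs i)) t = G.obj.map (π i).op s) :
    ∃ T : F.obj.obj (op B), φ.hom.app (op B) T = s := by
  have hF : Presieve.IsSheaf J F.obj := (isSheaf_iff_isSheaf_of_type _ _).mp F.property
  have hG : Presieve.IsSheaf J G.obj := (isSheaf_iff_isSheaf_of_type _ _).mp G.property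
  choose t ht using hs
  obtain ⟨T, hT, -⟩ := existsUnique_glue h hF t
  refine ⟨T, ?_⟩
  obtain ⟨S, -, hS⟩ := existsUnique_glue h hG (fun i => G.obj.map (π i).op s)
  have h1 : φ.hom.app (op B) T = S := hS _ (fun i => by
    have hn := NatTrans.naturality_apply φ.hom (π i).op T
    rw [← hn, hT i, ht i])
  have h2 : s = S := hS _ (fun i => rfl)
  rw [h1, h2]

theorem isWC_of_disjointCover {B : C} {I : Type*} {Xs : I → C} {π : ∀ i, Xs i ⟶ B}
    (h : IsDisjointCover J Xs π)
    (hX : ∀ i, ∀ (F G : Sheaf J (Type w)) (φ : F ⟶ G), Epi φ →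
      Function.Surjective (φ.hom.app (op (Xs i)))) :
    ∀ (F G : Sheaf J (Type w)) (φ : F ⟶ G), Epi φ → Function.Surjective (φ.hom.app (op B)) :=
  fun F G φ hφ s => surj_of_disjointCover h F G φ s (fun i => hX i F G φ hφ _)

end General

end H9FE.ProEtW
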