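import Mathlib
import Groth.Prelude.Def_ProEtS
import Groth.Prelude.Def_PBC
import Groth.Agent.Lib.Helper9.FE.ProEtW1
import Groth.Agent.Lib.Helper9.FE.ProEtW2

/-! helper9: affine objects of the small pro-étale site: sections of coverings versus
retractions of rings of functions, and: if the ring of functions of an affine object is
w-contractible, every covering sieve contains a finite decomposition into open and closed
pieces. -/

set_option autoImplicit false
set_option linter.unusedSectionVars false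
set_option linter.style.haveILetI false
set_option backward.isDefEq.respectTransparency false
universe u
open CategoryTheory Limits Opposite AlgebraicGeometry

namespace H9FE.ProEtW

open H9FE.ProEtQc

variable {X : Scheme.{u}}

theorem exists_section_of_retraction {V Y : Scheme.{u}} [IsAffine V] [IsAffine Y] (d : V ⟶ Y)
    (r : Γ(V, ⊤) ⟶ Γ(Y, ⊤)) (hr : d.appTop ≫ r = 𝟙 _) : ∃ σ : Y ⟶ V, σ ≫ d = 𝟙 Y := by
  refine ⟨Y.isoSpec.hom ≫ Spec.map r ≫ V.isoSpec.inv, ?_⟩
  rw [Category.assoc, Category.assoc, ← Scheme.isoSpec_inv_naturality d, ← Spec.map_comp_assoc,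
    hr, Spec.map_id, Category.id_comp, Iso.hom_inv_id]

theorem faithfullyFlat_weaklyEtale_appTop {V Y : Scheme.{u}} [IsAffine V] [IsAffine Y]
    (d : V ⟶ Y) [WeaklyEtale d] [Surjective d] :
    letI := d.appTop.hom.toAlgebra
    Module.FaithfullyFlat Γ(Y, ⊤) Γ(V, ⊤) ∧ Algebra.WeaklyEtale Γ(Y, ⊤) Γ(V, ⊤) := by
  letI := d.appTop.hom.toAlgebra
  constructor
  · have h1 : d.appTop.hom.FaithfullyFlat :=
      (Flat.flat_and_surjective_iff_faithfullyFlat_of_isAffine d).mp ⟨inferInstance, inferInstance⟩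
    exact RingHom.faithfullyFlat_algebraMap_iff.mp h1
  · have h2 : WeaklyEtale (Spec.map d.appTop) :=
      (MorphismProperty.arrow_mk_iso_iff @WeaklyEtale (arrowIsoSpecΓOfIsAffine d)).mp
        inferInstance
    exact (Helper5.WEt.weaklyEtale_Spec_iff' d.appTop).mp h2

theorem retraction_of_section (U : X.ProEt) [IsAffine U.left] (B : Type u) [CommRing B]
    [Algebra Γ(U.left, ⊤) B] (σ : U.left ⟶ Spec (CommRingCat.of B))
    (hσ : σ ≫ specMor U (isAffineOpen_top U.left) B = 𝟙 _) :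
    Nonempty (B →ₐ[Γ(U.left, ⊤)] Γ(U.left, ⊤)) := by
  have h1 : σ ≫ Spec.map (CommRingCat.ofHom (algebraMap Γ(U.left, ⊤) B)) =
      U.left.isoSpec.hom := by
    have h2 := hσ
    unfold specMor at h2
    rw [IsAffineOpen.fromSpec_top, ← Category.assoc, Iso.comp_inv_eq, Category.id_comp] at h2
    exact h2
  have h3 := congrArg Scheme.Hom.appTop h1
  rw [Scheme.Hom.comp_appTop, Scheme.isoSpec_hom, Scheme.toSpecΓ_appTop] at h3
  have h4 : CommRingCat.ofHom (algebraMap Γ(U.left, ⊤) B) ≫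
      ((Scheme.ΓSpecIso (CommRingCat.of B)).inv ≫ σ.appTop) = 𝟙 _ := by
    rw [← Category.assoc, Scheme.ΓSpecIso_inv_naturality, Category.assoc, h3]
    exact Iso.inv_hom_id (Scheme.ΓSpecIso Γ(U.left, ⊤))
  exact ⟨{ toRingHom := ((Scheme.ΓSpecIso (CommRingCat.of B)).inv ≫ σ.appTop).hom
           commutes' := fun a => congr($(h4).hom a) }⟩

theorem exists_clopen_decomposition (U : X.ProEt) [IsAffine U.left]
    (hU : EtPBC.IsWContractible Γ(U.left, ⊤)) (R : Sieve U)
    (hR : R ∈ Scheme.ProEt.topology X U) :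
    ∃ (n : ℕ) (W : Fin n → U.left.Opens),
      (∀ k, IsClopen ((W k : Set ↥U.left))) ∧
      Pairwise (fun k l => Disjoint (W k : Set ↥U.left) (W l)) ∧
      (⋃ k, (W k : Set ↥U.left)) = Set.univ ∧
      ∀ k, R.arrows (MorphismProperty.Over.homMk (W k).ι :
        Scheme.ProEt.mk ((W k).ι ≫ U.hom) ⟶ U) := by
  obtain ⟨n, Ws, g, haff, hRg, hcov⟩ := exists_finite_affine_refinement U R hR
  haveI := haff
  haveI : WeaklyEtale (Sigma.desc fun i => (g i).left) :=
    IsZariskiLocalAtSource.sigmaDesc (P := @WeaklyEtale) (fun i => inferInstance)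
  haveI : Surjective (Sigma.desc fun i => (g i).left) := ⟨fun x => by
    obtain ⟨i, y, hy⟩ := hcov x
    refine ⟨(Sigma.ι (fun i : Fin n => (Ws i).left) i) y, ?_⟩
    rw [← Scheme.Hom.comp_apply, Sigma.ι_desc]
    exact hy⟩
  letI := (Sigma.desc fun i => (g i).left).appTop.hom.toAlgebra
  obtain ⟨hff, hwe⟩ := faithfullyFlat_weaklyEtale_appTop (Sigma.desc fun i => (g i).left)
  obtain ⟨r⟩ := hU Γ(∐ fun i : Fin n => (Ws i).left, ⊤) hff hwe
  obtain ⟨σ, hσ⟩ := exists_section_of_retraction (Sigma.desc fun i => (g i).left)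
    (CommRingCat.ofHom r.toRingHom) (by ext a; exact r.commutes a)
  have hdisj : ∀ k l : Fin n, k ≠ l →
      Disjoint ((σ ⁻¹ᵁ (Sigma.ι (fun i : Fin n => (Ws i).left) k).opensRange : U.left.Opens) :
        Set ↥U.left)
      (σ ⁻¹ᵁ (Sigma.ι (fun i : Fin n => (Ws i).left) l).opensRange : U.left.Opens) := by
    intro k l hkl
    rw [Set.disjoint_left]
    intro x hxk hxl
    have h1 := disjoint_opensRange_sigmaι (fun i : Fin n => (Ws i).left) k l hkl
    exact (h1.le_bot ⟨hxk, hxl⟩ : σ x ∈ (⊥ : TopologicalSpace.Opens _))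
  have hcover : ∀ x : U.left, ∃ k, x ∈
      (σ ⁻¹ᵁ (Sigma.ι (fun i : Fin n => (Ws i).left) k).opensRange : U.left.Opens) := by
    intro x
    obtain ⟨k, y, hy⟩ := (sigmaOpenCover (fun i : Fin n => (Ws i).left)).exists_eq (σ x)
    exact ⟨k, ⟨y, hy⟩⟩
  refine ⟨n, fun k => σ ⁻¹ᵁ (Sigma.ι (fun i : Fin n => (Ws i).left) k).opensRange,
    fun k => ⟨?_, (σ ⁻¹ᵁ _).isOpen⟩, fun k l hkl => hdisj k l hkl, ?_, fun k => ?_⟩
  · rw [← isOpen_compl_iff]
    have hc : ((σ ⁻¹ᵁ (Sigma.ι (fun i : Fin n => (Ws i).left) k).opensRange : U.left.Opens) :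
        Set ↥U.left)ᶜ = ⋃ l ∈ {l : Fin n | l ≠ k},
        ((σ ⁻¹ᵁ (Sigma.ι (fun i : Fin n => (Ws i).left) l).opensRange : U.left.Opens) :
          Set ↥U.left) := by
      ext x
      simp only [Set.mem_compl_iff, Set.mem_iUnion, Set.mem_ofPred_eq, exists_prop]
      constructor
      · intro hx
        obtain ⟨l, hl⟩ := hcover x
        exact ⟨l, fun e => hx (e ▸ hl), hl⟩
      · rintro ⟨l, hlk, hl⟩ hx
        exact Set.disjoint_left.mp (hdisj l k hlk) hl hx
    rw [hc]
    exact isOpen_biUnion (fun l _ => (σ ⁻¹ᵁ _).isOpen)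
  · rw [Set.eq_univ_iff_forall]
    intro x
    obtain ⟨k, hk⟩ := hcover x
    exact Set.mem_iUnion.mpr ⟨k, hk⟩
  · have hrange : Set.range ((σ ⁻¹ᵁ (Sigma.ι (fun i : Fin n => (Ws i).left) k).opensRange).ι ≫ σ) ⊆
        Set.range (Sigma.ι (fun i : Fin n => (Ws i).left) k) := by
      rintro _ ⟨x, rfl⟩
      exact x.2
    have hfac : IsOpenImmersion.lift (Sigma.ι (fun i : Fin n => (Ws i).left) k)
        ((σ ⁻¹ᵁ (Sigma.ι (fun i : Fin n => (Ws i).left) k).opensRange).ι ≫ σ) hrange ≫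
        (g k).left = (σ ⁻¹ᵁ (Sigma.ι (fun i : Fin n => (Ws i).left) k).opensRange).ι := by
      have h1 : (g k).left = Sigma.ι (fun i : Fin n => (Ws i).left) k ≫
          Sigma.desc fun i => (g i).left :=
        (Sigma.ι_desc (f := fun i : Fin n => (Ws i).left) (fun i => (g i).left) k).symm
      rw [h1, IsOpenImmersion.lift_fac_assoc, Category.assoc, hσ, Category.comp_id]
    let Hk : Scheme.ProEt.mk
        ((σ ⁻¹ᵁ (Sigma.ι (fun i : Fin n => (Ws i).left) k).opensRange).ι ≫ U.hom) ⟶ Ws k :=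
      MorphismProperty.Over.homMk (IsOpenImmersion.lift (Sigma.ι (fun i : Fin n => (Ws i).left) k)
        ((σ ⁻¹ᵁ (Sigma.ι (fun i : Fin n => (Ws i).left) k).opensRange).ι ≫ σ) hrange)
        (by
          have hw : (Ws k).hom = (g k).left ≫ U.hom := (MorphismProperty.Over.w (g k)).symm
          rw [hw, ← Category.assoc, hfac]
          rfl) trivial
    have heq : (MorphismProperty.Over.homMk
        (σ ⁻¹ᵁ (Sigma.ι (fun i : Fin n => (Ws i).left) k).opensRange).ι :
        Scheme.ProEt.mk ((σ ⁻¹ᵁ (Sigma.ι (fun i : Fin n => (Ws i).left) k).opensRange).ι ≫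
          U.hom) ⟶ U) = Hk ≫ g k := by
      apply MorphismProperty.Over.Hom.ext
      exact hfac.symm
    rw [heq]
    exact R.downward_closed (hRg k) Hk

end H9FE.ProEtW
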