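import Mathlib
import Groth.Prelude.Def_ProEtS
import Groth.Prelude.Def_PBC
import Groth.Agent.Lib.Helper9.FE.ProEtW3

/-! helper9: for an affine object of the small pro-étale site, the ring of functions is
w-contractible iff every covering sieve contains a finite decomposition into open and closed
pieces (S0757) iff the object is weakly contractible (S0715). -/

set_option autoImplicit false
set_option linter.unusedSectionVars false
set_option linter.style.haveILetI false
set_option backward.isDefEq.respectTransparency false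
universe u
open CategoryTheory Limits Opposite AlgebraicGeometry

namespace H9FE.ProEtW

open H9FE.ProEtQc

variable {X : Scheme.{u}}

/-- the one-morphism covering attached to a faithfully flat weakly étale algebra -/
lemma specHom_cover (U : X.ProEt) [IsAffine U.left] (B : Type u) [CommRing B]
    [Algebra Γ(U.left, ⊤) B] [Algebra.WeaklyEtale Γ(U.left, ⊤) B]
    [Module.FaithfullyFlat Γ(U.left, ⊤) B] :
    Sieve.ofArrows (fun _ : Fin 1 => specObj U (isAffineOpen_top U.left) B)
      (fun _ => specHom U (isAffineOpen_top U.left) B) ∈ Scheme.ProEt.topology X U := by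
  refine ofArrows_mem _ _ (fun _ => ?_) (fun v => ⟨0, ?_⟩)
  · show CompactSpace ↥(Spec (CommRingCat.of B))
    infer_instance
  · rw [range_specHom]
    trivial

theorem wContractible_of_clopen (U : X.ProEt) [IsAffine U.left]
    (h : ∀ R ∈ Scheme.ProEt.topology X U, ∃ (n : ℕ) (W : Fin n → U.left.Opens),
        (∀ k, IsClopen ((W k : Set ↥U.left))) ∧
        Pairwise (fun k l => Disjoint (W k : Set ↥U.left) (W l)) ∧
        (⋃ k, (W k : Set ↥U.left)) = Set.univ ∧
        ∀ k, R.arrows (MorphismProperty.Over.homMk (W k).ι :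
          Scheme.ProEt.mk ((W k).ι ≫ U.hom) ⟶ U)) :
    EtPBC.IsWContractible ↥(Γ(U.left, ⊤)) := by
  intro B _ _ hff hWE
  haveI := hff
  haveI := hWE
  obtain ⟨n, W, hclopen, hdisj, hcover, hR⟩ := h _ (specHom_cover U B)
  have hfac : ∀ k, ∃ hk : (W k).toScheme ⟶ Spec (CommRingCat.of B),
      hk ≫ specMor U (isAffineOpen_top U.left) B = (W k).ι := by
    intro k
    obtain ⟨Y, a, b, ⟨i⟩, hab⟩ := hR k
    exact ⟨a.left, congrArg (fun f => f.left) hab⟩
  choose hk hhk using hfac
  let 𝒰 : U.left.OpenCover :=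
    { I₀ := Fin n
      X := fun k => (W k)
      f := fun k => (W k).ι
      mem₀ := by
        rw [Scheme.presieve₀_mem_precoverage_iff]
        refine ⟨fun x => ?_, inferInstance⟩
        have hx : x ∈ ⋃ k, (W k : Set ↥U.left) := by
          rw [hcover]
          trivial
        obtain ⟨k, hk'⟩ := Set.mem_iUnion.mp hx
        exact ⟨k, by rw [Scheme.Opens.range_ι]; exact hk'⟩ }
  have hcompat : ∀ k l, pullback.fst (𝒰.f k) (𝒰.f l) ≫ hk k = pullback.snd _ _ ≫ hk l := by
    intro k l
    by_cases hkl : k = l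
    · subst hkl
      have h1 : pullback.fst (𝒰.f k) (𝒰.f k) = pullback.snd _ _ :=
        (cancel_mono (W k).ι).mp pullback.condition
      rw [h1]
    · haveI : IsEmpty ↥(pullback (𝒰.f k) (𝒰.f l)) := ⟨fun z => by
        have h1 : (pullback.fst (𝒰.f k) (𝒰.f l) ≫ (W k).ι) z ∈ Set.range (W k).ι :=
          ⟨(pullback.fst (𝒰.f k) (𝒰.f l)) z, (Scheme.Hom.comp_apply _ _ _).symm⟩
        have h2 : (pullback.fst (𝒰.f k) (𝒰.f l) ≫ (W k).ι) z ∈ Set.range (W l).ι := by
          have hc : pullback.fst (𝒰.f k) (𝒰.f l) ≫ (W k).ι = pullback.snd _ _ ≫ (W l).ι :=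
            pullback.condition
          rw [hc]
          exact ⟨(pullback.snd (𝒰.f k) (𝒰.f l)) z, (Scheme.Hom.comp_apply _ _ _).symm⟩
        rw [Scheme.Opens.range_ι] at h1 h2
        exact Set.disjoint_left.mp (hdisj hkl) h1 h2⟩
      exact isInitialOfIsEmpty.hom_ext _ _
  have hσ : 𝒰.glueMorphisms hk hcompat ≫ specMor U (isAffineOpen_top U.left) B = 𝟙 _ :=
    𝒰.hom_ext _ _ (fun k => by
      rw [← Category.assoc, 𝒰.ι_glueMorphisms, hhk k, Category.comp_id])
  exact retraction_of_section U B _ hσ

/-- the statement of S0757 -/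
theorem main757 (U : X.ProEt) [IsAffine U.left] :
    EtPBC.IsWContractible ↥(Γ(U.left, ⊤)) ↔
      ∀ R ∈ Scheme.ProEt.topology X U, ∃ (n : ℕ) (W : Fin n → U.left.Opens),
        (∀ k, IsClopen ((W k : Set ↥U.left))) ∧
        Pairwise (fun k l => Disjoint (W k : Set ↥U.left) (W l)) ∧
        (⋃ k, (W k : Set ↥U.left)) = Set.univ ∧
        ∀ k, R.arrows (MorphismProperty.Over.homMk (W k).ι :
          Scheme.ProEt.mk ((W k).ι ≫ U.hom) ⟶ U) :=
  ⟨fun h R hR => exists_clopen_decomposition U h R hR, wContractible_of_clopen U⟩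

end H9FE.ProEtW
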