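import Mathlib
import Groth.Prelude.Def_ProEtS
import Groth.Prelude.Def_PBC
import Groth.Agent.Lib.Helper9.FE.ProEtW4

/-! helper9: an affine object of the small pro-étale site is weakly contractible iff its ring
of functions is w-contractible (S0715). -/

set_option autoImplicit false
set_option linter.unusedSectionVars false
set_option linter.style.haveILetI false
set_option backward.isDefEq.respectTransparency false
universe u
open CategoryTheory Limits Opposite AlgebraicGeometry

namespace H9FE.ProEtW

open H9FE.ProEtQc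

variable {X : Scheme.{u}}

/-- a finite decomposition into open and closed pieces is a covering by disjoint subobjects -/
lemma isDisjointCover_of_clopen (U : X.ProEt) [IsAffine U.left] {n : ℕ}
    (W : Fin n → U.left.Opens) (hclopen : ∀ k, IsClopen ((W k : Set ↥U.left)))
    (hdisj : Pairwise (fun k l => Disjoint (W k : Set ↥U.left) (W l)))
    (hcover : (⋃ k, (W k : Set ↥U.left)) = Set.univ) :
    IsDisjointCover (Scheme.ProEt.topology X)
      (fun k => Scheme.ProEt.mk ((W k).ι ≫ U.hom))
      (fun k => (MorphismProperty.Over.homMk (W k).ι :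
        Scheme.ProEt.mk ((W k).ι ≫ U.hom) ⟶ U)) := by
  refine ⟨?_, ?_, ?_⟩
  · refine ofArrows_mem _ _ (fun k => ?_) (fun v => ?_)
    · show CompactSpace ↥(W k).toScheme
      exact isCompact_iff_compactSpace.mp (hclopen k).1.isCompact
    · have hv : v ∈ ⋃ k, (W k : Set ↥U.left) := by
        rw [hcover]
        trivial
      obtain ⟨k, hk⟩ := Set.mem_iUnion.mp hv
      refine ⟨k, ?_⟩
      show v ∈ Set.range (W k).ι
      rw [Scheme.Opens.range_ι]
      exact hk
  · intro k
    have h1 : Mono ((toSch X).map (MorphismProperty.Over.homMk (W k).ι :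
        Scheme.ProEt.mk ((W k).ι ≫ U.hom) ⟶ U)) := (inferInstance : Mono (W k).ι)
    exact (toSch X).mono_of_mono_map h1
  · intro k l hkl Z gk gl hcomm
    haveI : IsEmpty ↥Z.left := ⟨fun z => by
      have h1 : (gk.left ≫ (W k).ι) z ∈ Set.range (W k).ι :=
        ⟨gk.left z, (Scheme.Hom.comp_apply _ _ _).symm⟩
      have hc : gk.left ≫ (W k).ι = gl.left ≫ (W l).ι := congrArg (fun f => f.left) hcomm
      have h2 : (gk.left ≫ (W k).ι) z ∈ Set.range (W l).ι := by
        rw [hc]
        exact ⟨gl.left z, (Scheme.Hom.comp_apply _ _ _).symm⟩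
      rw [Scheme.Opens.range_ι] at h1 h2
      exact Set.disjoint_left.mp (hdisj hkl) h1 h2⟩
    exact Scheme.ProEt.bot_mem_topology Z

theorem isWC_of_wContractible (U : X.ProEt) [IsAffine U.left]
    (hU : EtPBC.IsWContractible ↥(Γ(U.left, ⊤))) : ProEtS.IsWC U := by
  intro F G φ hφ s
  haveI := hφ
  haveI hls : Sheaf.IsLocallySurjective φ := (Sheaf.isLocallySurjective_iff_epi φ).mpr hφ
  have hR : Presheaf.imageSieve φ.hom s ∈ Scheme.ProEt.topology X U :=
    Presheaf.imageSieve_mem (Scheme.ProEt.topology X) φ.hom (U := op U) s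
  obtain ⟨n, W, hclopen, hdisj, hcover, hRW⟩ := exists_clopen_decomposition U hU _ hR
  exact surj_of_disjointCover (isDisjointCover_of_clopen U W hclopen hdisj hcover) F G φ s
    (fun k => hRW k)

theorem wContractible_of_isWC (U : X.ProEt) [IsAffine U.left] (hU : ProEtS.IsWC U) :
    EtPBC.IsWContractible ↥(Γ(U.left, ⊤)) := by
  intro B _ _ hff hWE
  haveI := hff
  haveI := hWE
  have hcov := specHom_cover U B
  have hφ : Epi ((Scheme.ProEt.topology X).uliftYoneda.{u + 1}.map
      (specHom U (isAffineOpen_top U.left) B)) := by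
    rw [← Sheaf.isLocallySurjective_iff_epi]
    refine ⟨fun {W} x => ?_⟩
    refine (Scheme.ProEt.topology X).superset_covering ?_
      ((Scheme.ProEt.topology X).pullback_stable x.down hcov)
    rintro W' f ⟨Y, a, b, ⟨i⟩, hab⟩
    refine ⟨⟨a⟩, ?_⟩
    apply ULift.ext
    exact hab
  obtain ⟨⟨σ⟩, hσ⟩ := hU _ _ _ hφ ⟨𝟙 U⟩
  have hσ' : σ ≫ specHom U (isAffineOpen_top U.left) B = 𝟙 U := congrArg ULift.down hσ
  exact retraction_of_section U B σ.left (congrArg (fun f => f.left) hσ')

/-- the statement of S0715 -/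
theorem main715 (U : X.ProEt) [IsAffine U.left] :
    EtPBC.IsWContractible ↥(Γ(U.left, ⊤)) ↔ ProEtS.IsWC U :=
  ⟨isWC_of_wContractible U, wContractible_of_isWC U⟩

end H9FE.ProEtW
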