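import Mathlib
import Groth.Prelude.Def_ProEtS
import Groth.Prelude.Def_PBC
import Groth.Agent.Lib.Helper9.FE.ProEtW5

/-! helper9: coproducts in the small pro-étale site, and coverings of an arbitrary object by a
single weakly contractible object (affine if the object is quasi-compact) (S0713, S0714). -/

set_option autoImplicit false
set_option linter.unusedSectionVars false
set_option linter.style.haveILetI false
set_option backward.isDefEq.respectTransparency false
universe u
open CategoryTheory Limits Opposite AlgebraicGeometry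

namespace H9FE.ProEtW

open H9FE.ProEtQc

variable {X : Scheme.{u}}

/-! ### a general covering criterion -/

lemma ofArrows_mem_of_isCompactOpenCovered {U : X.ProEt} {ι : Type u} (V : ι → X.ProEt)
    (g : ∀ i, V i ⟶ U)
    (h : ∀ (W : U.left.Opens), IsAffineOpen W →
      IsCompactOpenCovered (fun i => ((g i).left : (V i).left → U.left)) (W : Set U.left)) :
    Sieve.generate (Presieve.ofArrows V g) ∈ Scheme.ProEt.topology X U := by
  refine Precoverage.generate_mem_toGrothendieck ?_
  change (Presieve.ofArrows V g).map (toSch X) ∈ Scheme.propQCPrecoverage @WeaklyEtale U.left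
  rw [Presieve.map_ofArrows]
  have hsurj : ∀ x : U.left, ∃ i, x ∈ Set.range (g i).left := by
    intro x
    obtain ⟨W, hW, hxW, -⟩ := exists_isAffineOpen_mem_and_subset (x := x) (U := ⊤) trivial
    obtain ⟨s, hs, Vv, hc, hcov⟩ := h W hW
    have hx : x ∈ ⋃ (i : ι) (hi : i ∈ s), (g i).left '' (Vv i hi) := by
      rw [hcov]
      exact hxW
    simp only [Set.mem_iUnion] at hx
    obtain ⟨i, hi, y, hy, rfl⟩ := hx
    exact ⟨i, y, rfl⟩
  have hmem : Presieve.ofArrows (fun i => (toSch X).obj (V i)) (fun i => (toSch X).map (g i)) ∈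
      Scheme.precoverage @WeaklyEtale U.left := by
    rw [Scheme.ofArrows_mem_precoverage_iff]
    exact ⟨hsurj, fun i => (inferInstance : WeaklyEtale (g i).left)⟩
  let 𝒰 : Scheme.Cover (Scheme.precoverage @WeaklyEtale) U.left :=
    { I₀ := ι
      X := fun i => (toSch X).obj (V i)
      f := fun i => (toSch X).map (g i)
      mem₀ := hmem }
  have hqc : QuasiCompactCover 𝒰.toPreZeroHypercover := ⟨fun {W} hW => h W hW⟩
  exact ⟨Scheme.presieve₀_mem_qcPrecoverage_iff.2 hqc, hmem⟩

/-! ### compact opens under `specMor` -/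

section SpecObj

variable (U : X.ProEt) {W : U.left.Opens} (hW : IsAffineOpen W) (D : Type u) [CommRing D]
  [Algebra Γ(U.left, W) D]

lemma isCompact_preimage_specMor (t : U.left.Opens) (ht : t ≤ W)
    (hc : IsCompact (t : Set U.left)) :
    IsCompact ((specMor U hW D) ⁻¹' (t : Set U.left)) := by
  have h1 : IsCompact (hW.fromSpec ⁻¹' (t : Set U.left)) := by
    rw [hW.fromSpec.isOpenEmbedding.isInducing.isCompact_preimage_iff]
    · exact hc
    · rw [hW.range_fromSpec]
      exact ht
  have h2 : IsOpen (hW.fromSpec ⁻¹' (t : Set U.left)) := t.2.preimage hW.fromSpec.continuous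
  have h3 := QuasiCompact.isCompact_preimage
    (f := Spec.map (CommRingCat.ofHom (algebraMap Γ(U.left, W) D))) _ h2 h1
  have h4 : (specMor U hW D) ⁻¹' (t : Set U.left) =
      (Spec.map (CommRingCat.ofHom (algebraMap Γ(U.left, W) D))) ⁻¹'
        (hW.fromSpec ⁻¹' (t : Set U.left)) := by
    rfl
  rw [h4]
  exact h3

lemma image_preimage_specMor [Module.FaithfullyFlat Γ(U.left, W) D] (t : Set U.left)
    (ht : t ⊆ (W : Set U.left)) :
    (specMor U hW D) '' ((specMor U hW D) ⁻¹' t) = t := by
  rw [Set.image_preimage_eq_inter_range, range_specMor]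
  exact Set.inter_eq_left.mpr ht

end SpecObj

lemma specFamily_isCompactOpenCovered (U : X.ProEt) {ι : Type u} (W : ι → U.left.Opens)
    (hW : ∀ i, IsAffineOpen (W i)) (hcov : ∀ x : U.left, ∃ i, x ∈ W i)
    (W' : U.left.Opens) (hW' : IsAffineOpen W') :
    IsCompactOpenCovered
      (fun i => ((specHom U (hW i) (coverRing Γ(U.left, W i))).left :
        (specObj U (hW i) (coverRing Γ(U.left, W i))).left → U.left)) (W' : Set U.left) := by
  refine IsCompactOpenCovered.of_isCompact_of_forall_exists_isCompactOpenCovered hW'.isCompact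
    (fun x hx => ?_)
  obtain ⟨i, hi⟩ := hcov x
  obtain ⟨t, htaff, hxt, hle⟩ := TopologicalSpace.Opens.isBasis_iff_nbhd.mp
    U.left.isBasis_affineOpens (show x ∈ W' ⊓ W i from ⟨hx, hi⟩)
  refine ⟨t, fun y hy => (hle hy).1, hxt, t.2, ?_⟩
  have htW : t ≤ W i := fun y hy => (hle hy).2
  have h1 := IsCompactOpenCovered.image
    (f := fun i => ((specHom U (hW i) (coverRing Γ(U.left, W i))).left :
        (specObj U (hW i) (coverRing Γ(U.left, W i))).left → U.left)) (i := i)
    ((specHom U (hW i) (coverRing Γ(U.left, W i))).left ⁻¹ᵁ t)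
    (isCompact_preimage_specMor U (hW i) _ t htW (IsAffineOpen.isCompact htaff))
  have h2 : ((specHom U (hW i) (coverRing Γ(U.left, W i))).left :
        (specObj U (hW i) (coverRing Γ(U.left, W i))).left → U.left) ''
      (((specHom U (hW i) (coverRing Γ(U.left, W i))).left ⁻¹ᵁ t :
        (specObj U (hW i) (coverRing Γ(U.left, W i))).left.Opens) : Set _) = (t : Set U.left) :=
    image_preimage_specMor U (hW i) _ (t : Set U.left) htW
  rw [h2] at h1
  exact h1

/-! ### coproducts in the small pro-étale site -/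

section Coprod

variable {ι : Type u} (Vs : ι → X.ProEt)

instance sigmaDesc_weaklyEtale : WeaklyEtale (Sigma.desc (fun i => (Vs i).hom)) :=
  IsZariskiLocalAtSource.sigmaDesc (fun i => (inferInstance : WeaklyEtale (Vs i).hom))

/-- the coproduct of a family of objects of the small pro-étale site -/
noncomputable def sigmaObj : X.ProEt :=
  Scheme.ProEt.mk (Sigma.desc (fun i => (Vs i).hom))

/-- the coprojections -/
noncomputable def sigmaι (i : ι) : Vs i ⟶ sigmaObj Vs :=
  MorphismProperty.Over.homMk (Sigma.ι (fun i => (Vs i).left) i)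
    (Sigma.ι_desc (fun i => (Vs i).hom) i) trivial

/-- the morphism out of the coproduct -/
noncomputable def sigmaDesc {U : X.ProEt} (g : ∀ i, Vs i ⟶ U) : sigmaObj Vs ⟶ U :=
  MorphismProperty.Over.homMk (Sigma.desc (fun i => (g i).left)) (by
    show Sigma.desc (fun i => (g i).left) ≫ U.hom = Sigma.desc (fun i => (Vs i).hom)
    refine Sigma.hom_ext _ _ (fun i => ?_)
    rw [Sigma.ι_desc_assoc, Sigma.ι_desc]
    exact MorphismProperty.Over.w (g i)) trivial

lemma sigmaι_desc {U : X.ProEt} (g : ∀ i, Vs i ⟶ U) (i : ι) :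
    sigmaι Vs i ≫ sigmaDesc Vs g = g i := by
  apply MorphismProperty.Over.Hom.ext
  show Sigma.ι (fun i => (Vs i).left) i ≫ Sigma.desc (fun i => (g i).left) = (g i).left
  exact Sigma.ι_desc _ _

lemma sigmaι_isDisjointCover :
    IsDisjointCover (Scheme.ProEt.topology X) Vs (sigmaι Vs) := by
  refine ⟨?_, ?_, ?_⟩
  · refine ofArrows_mem_of_isCompactOpenCovered _ _ (fun W hW => ?_)
    refine IsCompactOpenCovered.of_isOpenMap (fun i => (sigmaι Vs i).left.continuous)
      (fun i => ?_) (fun x _ => ?_) W.2 hW.isCompact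
    · exact (Sigma.ι (fun i => (Vs i).left) i).isOpenEmbedding.isOpenMap
    · obtain ⟨i, y, hy⟩ := (sigmaOpenCover (fun i => (Vs i).left)).exists_eq x
      exact ⟨i, y, hy⟩
  · intro i
    have h1 : Mono ((toSch X).map (sigmaι Vs i)) :=
      (inferInstance : Mono (Sigma.ι (fun i => (Vs i).left) i))
    exact (toSch X).mono_of_mono_map h1
  · intro i j hij Z gi gj hcomm
    have hc : gi.left ≫ Sigma.ι (fun i => (Vs i).left) i =
        gj.left ≫ Sigma.ι (fun i => (Vs i).left) j := congrArg (fun f => f.left) hcomm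
    haveI : IsEmpty ↥Z.left := isEmpty_of_commSq_sigmaι_of_ne ⟨hc⟩ hij
    exact Scheme.ProEt.bot_mem_topology Z

end Coprod

/-! ### coverings by one weakly contractible object -/

theorem exists_wc_cover (U : X.ProEt) {ι : Type u} (W : ι → U.left.Opens)
    (hW : ∀ i, IsAffineOpen (W i)) (hcov : ∀ x : U.left, ∃ i, x ∈ W i) :
    ∃ (V : X.ProEt) (g : V ⟶ U),
      Sieve.generate (Presieve.singleton g) ∈ Scheme.ProEt.topology X U ∧ ProEtS.IsWC V ∧
        (Finite ι → IsAffine V.left) := by
  let Vs : ι → X.ProEt := fun i => specObj U (hW i) (coverRing Γ(U.left, W i))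
  let gs : ∀ i, Vs i ⟶ U := fun i => specHom U (hW i) (coverRing Γ(U.left, W i))
  have haff : ∀ i, IsAffine (Vs i).left := fun i =>
    (inferInstance : IsAffine (Spec (CommRingCat.of (coverRing Γ(U.left, W i)))))
  refine ⟨sigmaObj Vs, sigmaDesc Vs gs, ?_, ?_, ?_⟩
  · have h1 : Sieve.generate (Presieve.ofArrows Vs gs) ∈ Scheme.ProEt.topology X U :=
      ofArrows_mem_of_isCompactOpenCovered Vs gs
        (fun W' hW' => specFamily_isCompactOpenCovered U W hW hcov W' hW')
    refine (Scheme.ProEt.topology X).superset_covering ?_ h1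
    rw [Sieve.generate_le_iff]
    rintro Y f ⟨i⟩
    exact ⟨_, sigmaι Vs i, sigmaDesc Vs gs, Presieve.singleton.mk, sigmaι_desc Vs gs i⟩
  · refine isWC_of_disjointCover (sigmaι_isDisjointCover Vs) (fun i => ?_)
    haveI := haff i
    exact isWC_of_wContractible (Vs i) (isWContractible_Γ_Spec _ (coverRing_isWContractible _))
  · intro hfin
    haveI := hfin
    show IsAffine (∐ fun i => (Vs i).left)
    infer_instance

/-- the statement of S0713 -/
theorem main713 (U : X.ProEt) :
    ∃ (V : X.ProEt) (g : V ⟶ U),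
      Sieve.generate (Presieve.singleton g) ∈ Scheme.ProEt.topology X U ∧ ProEtS.IsWC V := by
  obtain ⟨V, g, h1, h2, -⟩ := exists_wc_cover U (ι := U.left.affineOpens) (fun W => W.1)
    (fun W => W.2) (fun x => by
      obtain ⟨W, hW, hxW, -⟩ := exists_isAffineOpen_mem_and_subset (x := x) (U := ⊤) trivial
      exact ⟨⟨W, hW⟩, hxW⟩)
  exact ⟨V, g, h1, h2⟩

/-- the statement of S0714 -/
theorem main714 (U : X.ProEt) [CompactSpace ↥U.left] :
    ∃ (V : X.ProEt) (g : V ⟶ U),
      Sieve.generate (Presieve.singleton g) ∈ Scheme.ProEt.topology X U ∧ IsAffine V.left ∧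
        ProEtS.IsWC V := by
  obtain ⟨t, ht⟩ := isCompact_univ.elim_finite_subcover
    (fun W : U.left.affineOpens => ((W.1 : U.left.Opens) : Set U.left)) (fun W => W.1.2)
    (fun x _ => by
      obtain ⟨W, hW, hxW, -⟩ := exists_isAffineOpen_mem_and_subset (x := x) (U := ⊤) trivial
      exact Set.mem_iUnion.mpr ⟨⟨W, hW⟩, hxW⟩)
  obtain ⟨V, g, h1, h2, h3⟩ := exists_wc_cover U (ι := {W // W ∈ t}) (fun W => W.1.1)
    (fun W => W.1.2) (fun x => by
      have hx := ht (Set.mem_univ x)
      simp only [Set.mem_iUnion] at hx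
      obtain ⟨W, hWt, hxW⟩ := hx
      exact ⟨⟨W, hWt⟩, hxW⟩)
  exact ⟨V, g, h1, h3 inferInstance, h2⟩

end H9FE.ProEtW
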