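import Mathlib

/-! helper9: elements of left Kan extensions of presheaves of abelian groups along a flat
functor; a specialization lemma for closures of images of closed sets. -/

set_option autoImplicit false
set_option linter.unusedSectionVars false
set_option linter.style.haveILetI false
universe u
open CategoryTheory Limits Opposite AlgebraicGeometry

namespace H9FE.ProEtE

section Lan

variable {C : Type (u + 1)} [Category.{u} C] {D : Type (u + 1)} [Category.{u} D] (B : C ⥤ D)
  (F : Cᵒᵖ ⥤ AddCommGrpCat.{u + 1})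

/-- the class in the left Kan extension of a section `r` over `W`, pulled back along
`b : V ⟶ B W` -/
noncomputable def elt {V : D} {W : C} (b : V ⟶ B.obj W) (r : F.obj (op W)) :
    (B.op.lan.obj F).obj (op V) :=
  (B.op.lan.obj F).map b.op ((B.op.lanUnit.app F).app (op W) r)

lemma elt_id {W : C} (r : F.obj (op W)) :
    elt B F (𝟙 (B.obj W)) r = (B.op.lanUnit.app F).app (op W) r := by
  simp [elt]

lemma map_elt {V V' : D} {W : C} (c : V' ⟶ V) (b : V ⟶ B.obj W) (r : F.obj (op W)) :
    (B.op.lan.obj F).map c.op (elt B F b r) = elt B F (c ≫ b) r := by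
  simp only [elt, op_comp, Functor.map_comp, ConcreteCategory.comp_apply]

lemma elt_comp {V : D} {W W' : C} (b : V ⟶ B.obj W') (a : W' ⟶ W) (r : F.obj (op W)) :
    elt B F (b ≫ B.map a) r = elt B F b (F.map a.op r) := by
  have h := NatTrans.naturality_apply (B.op.lanUnit.app F) a.op r
  simp only [elt, op_comp, Functor.map_comp, ConcreteCategory.comp_apply]
  exact congrArg (fun z => (ConcreteCategory.hom ((B.op.lan.obj F).map b.op)) z) h.symm

lemma isFiltered_costructuredArrow_op [RepresentablyFlat B] (V : D) :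
    IsFiltered (CostructuredArrow B.op (op V)) :=
  IsFiltered.of_equivalence (structuredArrowOpEquivalence B V)

instance preservesFilteredColimits_forget_ab :
    PreservesFilteredColimitsOfSize.{u, u + 1} (forget AddCommGrpCat.{u + 1}) :=
  preservesFilteredColimitsOfSize_shrink.{u + 1, u + 1, u, u + 1} _

lemma exists_min [RepresentablyFlat B] {V : D} {W W' : C} (b : V ⟶ B.obj W)
    (b' : V ⟶ B.obj W') :
    ∃ (W'' : C) (b'' : V ⟶ B.obj W'') (a : W'' ⟶ W) (a' : W'' ⟶ W'),
      b'' ≫ B.map a = b ∧ b'' ≫ B.map a' = b' := by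
  let x : StructuredArrow V B := StructuredArrow.mk b
  let y : StructuredArrow V B := StructuredArrow.mk b'
  exact ⟨(IsCofiltered.min x y).right, (IsCofiltered.min x y).hom,
    (IsCofiltered.minToLeft x y).right, (IsCofiltered.minToRight x y).right,
    StructuredArrow.w (IsCofiltered.minToLeft x y), StructuredArrow.w (IsCofiltered.minToRight x y)⟩

variable [∀ P : Cᵒᵖ ⥤ AddCommGrpCat.{u + 1}, B.op.HasPointwiseLeftKanExtension P]

lemma exists_rep [RepresentablyFlat B] (V : D) (ρ : (B.op.lan.obj F).obj (op V)) :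
    ∃ (W : C) (b : V ⟶ B.obj W) (r : F.obj (op W)), elt B F b r = ρ := by
  haveI := isFiltered_costructuredArrow_op B V
  have hl := Functor.isPointwiseLeftKanExtensionOfIsLeftKanExtension (F := F) (B.op.lan.obj F)
    (B.op.lanUnit.app F) (op V)
  have hl' : IsColimit ((Functor.LeftExtension.mk (B.op.lan.obj F)
      (B.op.lanUnit.app F)).coconeAt (op V)) := hl
  obtain ⟨g, r, hr⟩ := Concrete.isColimit_exists_rep _ hl' ρ
  exact ⟨g.left.unop, g.hom.unop, r, hr⟩

lemma exists_refinement_same [RepresentablyFlat B] {V : D} {W : C} (b : V ⟶ B.obj W)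
    (r r' : F.obj (op W)) (h : elt B F b r = elt B F b r') :
    ∃ (W' : C) (b' : V ⟶ B.obj W') (c : W' ⟶ W),
      b' ≫ B.map c = b ∧ F.map c.op r = F.map c.op r' := by
  haveI := isFiltered_costructuredArrow_op B V
  have hl := Functor.isPointwiseLeftKanExtensionOfIsLeftKanExtension (F := F) (B.op.lan.obj F)
    (B.op.lanUnit.app F) (op V)
  have hl' : IsColimit ((Functor.LeftExtension.mk (B.op.lan.obj F)
      (B.op.lanUnit.app F)).coconeAt (op V)) := hl
  obtain ⟨k, f, g, hfg⟩ := Concrete.isColimit_exists_of_rep_eq _ hl'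
    (i := CostructuredArrow.mk (S := B.op) (Y := op W) b.op)
    (j := CostructuredArrow.mk (S := B.op) (Y := op W) b.op) r r' h
  let e := IsFiltered.coeqHom f g
  have he : f ≫ e = g ≫ e := IsFiltered.coeq_condition f g
  refine ⟨(IsFiltered.coeq f g).left.unop, (IsFiltered.coeq f g).hom.unop, (f ≫ e).left.unop,
    congrArg Quiver.Hom.unop (CostructuredArrow.w (f ≫ e)), ?_⟩
  have hf : F.map f.left r = F.map g.left r' := hfg
  have hl1 : (f ≫ e).left = f.left ≫ e.left := rfl
  have hr1 : (f ≫ e).left = g.left ≫ e.left := by rw [he]; rfl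
  have h1 : F.map (f ≫ e).left r = F.map e.left (F.map f.left r) := by
    rw [hl1, Functor.map_comp]; rfl
  have h2 : F.map (f ≫ e).left r' = F.map e.left (F.map g.left r') := by
    rw [hr1, Functor.map_comp]; rfl
  exact h1.trans ((congrArg _ hf).trans h2.symm)

end Lan

/-! ### specialization and closures of images -/

lemma ps_exists_specializes {R S : Type*} [CommRing R] [CommRing S] (f : R →+* S)
    (C' : Set (PrimeSpectrum S)) (hC : IsClosed C') (x : PrimeSpectrum R)
    (hx : x ∈ closure (PrimeSpectrum.comap f '' C')) :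
    ∃ c ∈ C', PrimeSpectrum.comap f c ⤳ x := by
  obtain ⟨I, rfl⟩ := (PrimeSpectrum.isClosed_iff_zeroLocus_ideal C').1 hC
  rw [PrimeSpectrum.closure_image_comap_zeroLocus] at hx
  have hx' : I.comap f ≤ x.asIdeal := hx
  obtain ⟨q, hq₁, hq₂⟩ := Ideal.exists_minimalPrimes_le hx'
  obtain ⟨p', hp', hp'', rfl⟩ := Ideal.exists_comap_eq_of_mem_minimalPrimes f _ hq₁
  exact ⟨⟨p', hp'⟩, hp'',
    (PrimeSpectrum.le_iff_specializes (PrimeSpectrum.comap f ⟨p', hp'⟩) x).mp hq₂⟩

/-- a point in the closure of the image of a closed subset of a quasi-compact scheme is a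
specialization of a point of the image -/
lemma exists_specializes_of_mem_closure {M W : Scheme.{u}} [CompactSpace M] [IsAffine W]
    (h : M ⟶ W) (C' : Set M) (hC : IsClosed C') (y : W) (hy : y ∈ closure (h '' C')) :
    ∃ c ∈ C', h c ⤳ y := by
  obtain ⟨R, g, hg⟩ := (compactSpace_iff_exists (X := M)).1 inferInstance
  let k : Spec R ⟶ Spec Γ(W, ⊤) := g ≫ h ≫ W.isoSpec.hom
  obtain ⟨ψ, hψ⟩ : ∃ ψ, Spec.map ψ = k := ⟨Spec.preimage k, Spec.map_preimage k⟩
  have hk : ∀ c, k c = W.isoSpec.hom (h (g c)) := fun c => rfl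
  let C'' : Set (Spec R) := g ⁻¹' C'
  have hC'' : IsClosed C'' := hC.preimage g.continuous
  have hy' : W.isoSpec.hom y ∈ closure (PrimeSpectrum.comap ψ.hom '' C'') := by
    have h1 : (PrimeSpectrum.comap ψ.hom '' C'' : Set (PrimeSpectrum Γ(W, ⊤))) =
        W.isoSpec.hom '' (h '' C') := by
      ext z
      constructor
      · rintro ⟨c, hc, rfl⟩
        refine ⟨h (g c), ⟨g c, hc, rfl⟩, ?_⟩
        rw [← hk c, ← hψ]
        rfl
      · rintro ⟨_, ⟨c, hc, rfl⟩, rfl⟩
        obtain ⟨c', rfl⟩ := hg c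
        refine ⟨c', hc, ?_⟩
        rw [← hk c', ← hψ]
        rfl
    rw [h1]
    exact image_closure_subset_closure_image W.isoSpec.hom.continuous ⟨y, hy, rfl⟩
  obtain ⟨c, hc, hsp⟩ := ps_exists_specializes ψ.hom C'' hC'' (W.isoSpec.hom y) hy'
  refine ⟨g c, hc, ?_⟩
  have h2 := hsp.map W.isoSpec.inv.continuous
  have h3 : W.isoSpec.inv (PrimeSpectrum.comap ψ.hom c) = h (g c) := by
    have : PrimeSpectrum.comap ψ.hom c = k c := by rw [← hψ]; rfl
    rw [this, hk c, ← Scheme.Hom.comp_apply, Iso.hom_inv_id]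
    rfl
  have h4 : W.isoSpec.inv (W.isoSpec.hom y) = y := by
    rw [← Scheme.Hom.comp_apply, Iso.hom_inv_id]
    rfl
  rw [h3, h4] at h2
  exact h2

end H9FE.ProEtE
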