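import Mathlib
import Groth.Prelude.Def_ProEtS
import Groth.Prelude.Def_PBC
import Groth.Agent.Lib.Helper9.FE.ProEtQc

/-! helper9: sections of an extension by zero `j_! F` on the small pro-étale site vanish over an
affine object all of whose points specialize into a closed subscheme disjoint from the image of
`j` (S0732). -/

set_option autoImplicit false
set_option linter.unusedSectionVars false
set_option linter.style.haveILetI false
set_option backward.isDefEq.respectTransparency false
universe u
open CategoryTheory Limits Opposite AlgebraicGeometry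

namespace H9FE.ProEtW

open H9FE.ProEtQc

section ExtZero

variable {U X : Scheme.{u}} (j : U ⟶ X) [WeaklyEtale j]

/-- an object with a point outside the image of `j` admits no morphism to an object coming from
`U` -/
lemma isEmpty_costructuredArrow_compP (W' : X.ProEt)
    (h : ∃ y : W'.left, W'.hom.base y ∉ Set.range j.base) :
    IsEmpty (CostructuredArrow (ProEtS.compP j).op (op W')) := by
  refine ⟨fun g => ?_⟩
  obtain ⟨y, hy⟩ := h
  apply hy
  have hw : g.hom.unop.left ≫ ((ProEtS.compP j).obj g.left.unop).hom = W'.hom :=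
    MorphismProperty.Over.w g.hom.unop
  have hc : ((ProEtS.compP j).obj g.left.unop).hom = g.left.unop.hom ≫ j := rfl
  rw [hc] at hw
  refine ⟨(g.hom.unop.left ≫ g.left.unop.hom).base y, ?_⟩
  rw [← hw]
  rfl

/-- the left Kan extension presheaf has no nonzero sections over such an object -/
lemma subsingleton_lan_of_isEmpty (F : U.ProEtᵒᵖ ⥤ AddCommGrpCat.{u + 1}) (W' : X.ProEt)
    [IsEmpty (CostructuredArrow (ProEtS.compP j).op (op W'))] :
    Subsingleton (((ProEtS.compP j).op.lan.obj F).obj (op W')) := by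
  have hl := Functor.isPointwiseLeftKanExtensionOfIsLeftKanExtension (F := F)
    ((ProEtS.compP j).op.lan.obj F) ((ProEtS.compP j).op.lanUnit.app F) (op W')
  have hl' : IsColimit ((Functor.LeftExtension.mk ((ProEtS.compP j).op.lan.obj F)
      ((ProEtS.compP j).op.lanUnit.app F)).coconeAt (op W')) := hl
  have hinit := (isColimitEquivIsInitialOfIsEmpty _ _) hl'
  refine ⟨fun a b => ?_⟩
  have h0 : (𝟙 (((ProEtS.compP j).op.lan.obj F).obj (op W'))) = 0 := hinit.hom_ext _ _
  have ha : a = (0 : ((ProEtS.compP j).op.lan.obj F).obj (op W')) := by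
    have := ConcreteCategory.congr_hom h0 a
    simpa using this
  have hb : b = (0 : ((ProEtS.compP j).op.lan.obj F).obj (op W')) := by
    have := ConcreteCategory.congr_hom h0 b
    simpa using this
  rw [ha, hb]

variable [ProEtS.JPCont j]

theorem main732 {Z : Scheme.{u}} (i : Z ⟶ X)
    (hUZ : Disjoint (Set.range j.base) (Set.range i.base))
    (V : X.ProEt) [IsAffine V.left]
    (hV : ∀ v : ↥V.left, ∃ z : ↥V.left, V.hom.base z ∈ Set.range i.base ∧ v ⤳ z)
    (F : ProEtS.AbP U) :
    Subsingleton (ProEtS.sectP ((ProEtS.extZeroP j).obj F) V) := by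
  let J := Scheme.ProEt.topology X
  let Q : X.ProEtᵒᵖ ⥤ AddCommGrpCat.{u + 1} := (ProEtS.compP j).op.lan.obj F.obj
  -- reduce to the sheafification of the left Kan extension
  have e : (ProEtS.extZeroP j).obj F ≅ (presheafToSheaf J AddCommGrpCat.{u + 1}).obj Q :=
    (Functor.sheafPullbackConstruction.sheafPullbackIso (ProEtS.compP j) AddCommGrpCat.{u + 1}
      (Scheme.ProEt.topology U) (Scheme.ProEt.topology X)).app F
  have e' : ((ProEtS.extZeroP j).obj F).obj.obj (op V) ≅ (sheafify J Q).obj (op V) :=
    ((sheafToPresheaf J AddCommGrpCat.{u + 1}).mapIso e).app (op V)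
  suffices hs : Subsingleton ((sheafify J Q).obj (op V)) from
    (((forget AddCommGrpCat.{u + 1}).mapIso e').toEquiv).subsingleton
  -- the sheaf property, on underlying sets
  have hsh : Presieve.IsSheaf J (sheafify J Q ⋙ forget AddCommGrpCat.{u + 1}) :=
    (isSheaf_iff_isSheaf_of_type _ _).mp
      ((Presheaf.isSheaf_iff_isSheaf_forget _ _ (forget AddCommGrpCat.{u + 1})).mp
        ((presheafToSheaf J AddCommGrpCat.{u + 1}).obj Q).property)
  refine ⟨fun s s' => ?_⟩
  -- every section is zero
  suffices h0 : ∀ s : (sheafify J Q).obj (op V), s = 0 by rw [h0 s, h0 s']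
  intro s
  have hR : Presheaf.imageSieve (toSheafify J Q) s ∈ J V :=
    Presheaf.imageSieve_mem J (toSheafify J Q) (U := op V) s
  obtain ⟨n, Wf, g, haff, hRg, hcov⟩ := exists_finite_affine_refinement V _ hR
  let good : Fin n → Prop := fun k => ∃ y : (Wf k).left, (Wf k).hom.base y ∈ Set.range i.base
  -- restriction to a good piece vanishes
  have hgood : ∀ k, good k → (sheafify J Q).map (g k).op s = 0 := by
    intro k hk
    obtain ⟨y, hy⟩ := hk
    haveI : IsEmpty (CostructuredArrow (ProEtS.compP j).op (op (Wf k))) :=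
      isEmpty_costructuredArrow_compP j (Wf k)
        ⟨y, fun hyj => Set.disjoint_left.mp hUZ hyj hy⟩
    haveI := subsingleton_lan_of_isEmpty j F.obj (Wf k)
    obtain ⟨t, ht⟩ := hRg k
    have ht0 : t = 0 := Subsingleton.elim _ _
    rw [← ht, ht0]
    exact map_zero _
  -- the good pieces cover
  have hcovgood : ∀ v : V.left, ∃ k, good k ∧ v ∈ Set.range (g k).left := by
    intro v
    obtain ⟨z, hz, hvz⟩ := hV v
    obtain ⟨k, y, hy⟩ := hcov z
    have hw : (g k).left ≫ V.hom = (Wf k).hom := MorphismProperty.Over.w (g k)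
    refine ⟨k, ⟨y, ?_⟩, ?_⟩
    · rw [← hw]
      show V.hom.base ((g k).left.base y) ∈ _
      have hy' : (g k).left.base y = z := hy
      rw [hy']
      exact hz
    · have hvz' : v ⤳ (g k).left y := by
        rw [hy]
        exact hvz
      obtain ⟨y', -, hy'⟩ := Flat.generalizingMap (g k).left hvz'
      exact ⟨y', hy'⟩
  classical
  let t : Finset (Fin n) := Finset.univ.filter good
  let e₀ : Fin t.card → {k // k ∈ t} := t.equivFin.symm
  have hmem : Sieve.ofArrows (fun m : Fin t.card => Wf (e₀ m).1) (fun m => g (e₀ m).1) ∈ J V := by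
    refine ofArrows_mem _ _ (fun m => ?_) (fun v => ?_)
    · haveI := haff (e₀ m).1
      infer_instance
    · obtain ⟨k, hk, hvk⟩ := hcovgood v
      have hkt : k ∈ t := Finset.mem_filter.mpr ⟨Finset.mem_univ _, hk⟩
      refine ⟨t.equivFin ⟨k, hkt⟩, ?_⟩
      have he : e₀ (t.equivFin ⟨k, hkt⟩) = ⟨k, hkt⟩ := t.equivFin.symm_apply_apply _
      rw [he]
      exact hvk
  refine (hsh _ hmem).isSeparatedFor.ext (fun Y f hf => ?_)
  obtain ⟨Y', h, g', ⟨m⟩, rfl⟩ := hf
  have hm : good (e₀ m).1 := (Finset.mem_filter.mp (e₀ m).2).2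
  show (sheafify J Q).map (h ≫ g (e₀ m).1).op s = (sheafify J Q).map (h ≫ g (e₀ m).1).op 0
  rw [op_comp, CategoryTheory.Functor.map_comp_apply, hgood _ hm, map_zero, map_zero]

end ExtZero

end H9FE.ProEtW
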