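import Mathlib
import Groth.Prelude.Def_ProEtS
import Groth.Prelude.Def_PBC
import Groth.Agent.Lib.Helper9.FE.ProEtW10

/-! helper9: the functor `compP j : U.ProEt ⥤ X.ProEt` of a weakly étale morphism is cocontinuous;
for a monomorphism `j` it is fully faithful and the unit `𝟭 ⟶ j_! ⋙ j⁻¹` on abelian pro-étale
sheaves is an isomorphism. Also a variant of the vanishing statement S0732. -/

set_option autoImplicit false
set_option linter.unusedSectionVars false
set_option linter.style.haveILetI false
set_option backward.isDefEq.respectTransparency false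
universe u
open CategoryTheory Limits Opposite AlgebraicGeometry

namespace H9FE.ProEtW

open H9FE.ProEtQc

section Cocont

variable {U X : Scheme.{u}} (j : U ⟶ X) [hj : WeaklyEtale j]

section lift
variable {V' : U.ProEt} {Z : X.ProEt} (g : Z ⟶ (ProEtS.compP j).obj V')

/-- the source of a morphism to `compP j V'`, as an object over `U` -/
noncomputable def liftObj : U.ProEt :=
  haveI : WeaklyEtale (g.left ≫ V'.hom) := by
    haveI : WeaklyEtale g.left := inferInstance
    infer_instance
  Scheme.ProEt.mk (g.left ≫ V'.hom)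

noncomputable def liftHom : liftObj j g ⟶ V' :=
  MorphismProperty.Over.homMk g.left rfl trivial

lemma toSch_map_liftHom : (toSch U).map (liftHom j g) = (toSch X).map g := rfl

end lift

lemma functorPullback_map_eq {V' : U.ProEt} (R : Presieve ((ProEtS.compP j).obj V')) :
    (Presieve.functorPullback (toSch U)
      (show Presieve ((toSch U).obj V') from R.map (toSch X))).map (toSch U) =
      (show Presieve ((toSch U).obj V') from R.map (toSch X)) := by
  refine le_antisymm ?_ ?_
  · rintro Y k ⟨hu⟩
    exact hu
  · intro Y k hk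
    obtain ⟨Z, h, g, hRg, hg⟩ := Presieve.map_iff.1 hk
    subst h
    rw [eqToHom_refl, Category.id_comp] at hg
    subst hg
    rw [← toSch_map_liftHom j g]
    refine Presieve.map_map ?_
    show (R.map (toSch X)) ((toSch U).map (liftHom j g))
    rw [toSch_map_liftHom j g]
    exact Presieve.map_map hRg

instance isCocontinuous_compP :
    (ProEtS.compP j).IsCocontinuous (Scheme.ProEt.topology U) (Scheme.ProEt.topology X) where
  cover_lift {V'} {S} hS := by
    rw [Precoverage.mem_toGrothendieck_iff_of_isStableUnderComposition] at hS ⊢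
    obtain ⟨R, hR, hle⟩ := hS
    refine ⟨Presieve.functorPullback (toSch U)
      (show Presieve ((toSch U).obj V') from R.map (toSch X)), ?_, ?_⟩
    · change (Presieve.functorPullback (toSch U)
        (show Presieve ((toSch U).obj V') from R.map (toSch X))).map (toSch U) ∈
          Scheme.proetalePrecoverage V'.left
      rw [functorPullback_map_eq]
      exact hR
    · intro Z' f hf
      obtain ⟨Z, h, g, hRg, hg⟩ := Presieve.map_iff.1 hf
      have hg' : g.left = eqToHom h ≫ f.left := hg
      have hw : eqToHom h.symm ≫ Z.hom = ((ProEtS.compP j).obj Z').hom := by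
        have hwg : g.left ≫ V'.hom ≫ j = Z.hom := MorphismProperty.Over.w g
        have hwf : f.left ≫ V'.hom = Z'.hom := MorphismProperty.Over.w f
        show eqToHom h.symm ≫ Z.hom = Z'.hom ≫ j
        rw [← hwg, hg', ← hwf]
        simp
      let e : (ProEtS.compP j).obj Z' ⟶ Z :=
        MorphismProperty.Over.homMk (eqToHom h.symm) hw trivial
      have he : (ProEtS.compP j).map f = e ≫ g := by
        apply MorphismProperty.Over.Hom.ext
        show f.left = eqToHom h.symm ≫ g.left
        rw [hg']
        simp
      show S ((ProEtS.compP j).map f)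
      rw [he]
      exact S.downward_closed (hle _ _ hRg) e

instance full_compP [Mono j] : (ProEtS.compP j).Full where
  map_surjective {V W} g := by
    have e : ((g.left : V.left ⟶ W.left) ≫ W.hom) ≫ j = V.hom ≫ j := by
      rw [Category.assoc]; exact MorphismProperty.Over.w g
    exact ⟨MorphismProperty.Over.homMk g.left ((cancel_mono j).1 e) trivial,
      MorphismProperty.Over.Hom.ext rfl⟩

instance faithful_compP : (ProEtS.compP j).Faithful where
  map_injective {_ _} _ _ h :=
    MorphismProperty.Over.Hom.ext (congrArg (fun k => k.left) h :)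

variable [ProEtS.JPCont j]

/-- the adjunction `j⁻¹ ⊣ j_*`, with `j_*` defined as a right Kan extension -/
noncomputable abbrev restrRanAdj :=
  (ProEtS.compP j).sheafAdjunctionCocontinuous AddCommGrpCat.{u + 1}
    (Scheme.ProEt.topology U) (Scheme.ProEt.topology X)

theorem isIso_counit_restrRan [Mono j] : IsIso (restrRanAdj j).counit := by
  refine @NatIso.isIso_of_isIso_app _ _ _ _ _ _ _ (fun F => ?_)
  have h := Functor.sheafAdjunctionCocontinuous_counit_app_hom (ProEtS.compP j)
    AddCommGrpCat.{u + 1} (Scheme.ProEt.topology U) (Scheme.ProEt.topology X) F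
  haveI : IsIso (((restrRanAdj j).counit.app F).hom) := by
    rw [h]; infer_instance
  haveI : IsIso ((sheafToPresheaf _ _).map ((restrRanAdj j).counit.app F)) :=
    (inferInstance : IsIso (((restrRanAdj j).counit.app F).hom))
  exact isIso_of_reflects_iso _ (sheafToPresheaf _ _)

theorem isIso_unit_extZeroP [Mono j] : IsIso (ProEtS.extZeroPAdj j).unit :=
  (Adjunction.Triple.mk (ProEtS.extZeroPAdj j) (restrRanAdj j)).isIso_unit_iff_isIso_counit.2
    (isIso_counit_restrRan j)

/-- variant of S0732: the sections of `j_! F` vanish over an affine object all of whose points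
specialize to a point outside the image of `j` -/
theorem main732' (V : X.ProEt) [IsAffine V.left]
    (hV : ∀ v : ↥V.left, ∃ z : ↥V.left, V.hom.base z ∉ Set.range j.base ∧ v ⤳ z)
    (F : ProEtS.AbP U) :
    Subsingleton (ProEtS.sectP ((ProEtS.extZeroP j).obj F) V) := by
  let J := Scheme.ProEt.topology X
  let Q : X.ProEtᵒᵖ ⥤ AddCommGrpCat.{u + 1} := (ProEtS.compP j).op.lan.obj F.obj
  -- reduce to the sheafification of the left Kan extension
  have e : (ProEtS.extZeroP j).obj F ≅ (presheafToSheaf J AddCommGrpCat.{u + 1}).obj Q :=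
    (Functor.sheafPullbackConstruction.sheafPullbackIso (ProEtS.compP j) AddCommGrpCat.{u + 1}
      (Scheme.ProEt.topology U) (Scheme.ProEt.topology X)).app F
  have e' : ((ProEtS.extZeroP j).obj F).obj.obj (op V) ≅ (sheafify J Q).obj (op V) :=
    ((sheafToPresheaf J AddCommGrpCat.{u + 1}).mapIso e).app (op V)
  suffices hs : Subsingleton ((sheafify J Q).obj (op V)) from
    (((forget AddCommGrpCat.{u + 1}).mapIso e').toEquiv).subsingleton
  -- the sheaf property, on underlying sets
  have hsh : Presieve.IsSheaf J (sheafify J Q ⋙ forget AddCommGrpCat.{u + 1}) :=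
    (isSheaf_iff_isSheaf_of_type _ _).mp
      ((Presheaf.isSheaf_iff_isSheaf_forget _ _ (forget AddCommGrpCat.{u + 1})).mp
        ((presheafToSheaf J AddCommGrpCat.{u + 1}).obj Q).property)
  refine ⟨fun s s' => ?_⟩
  -- every section is zero
  suffices h0 : ∀ s : (sheafify J Q).obj (op V), s = 0 by rw [h0 s, h0 s']
  intro s
  have hR : Presheaf.imageSieve (toSheafify J Q) s ∈ J V :=
    Presheaf.imageSieve_mem J (toSheafify J Q) (U := op V) s
  obtain ⟨n, Wf, g, haff, hRg, hcov⟩ := exists_finite_affine_refinement V _ hR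
  let good : Fin n → Prop := fun k => ∃ y : (Wf k).left, (Wf k).hom.base y ∉ Set.range j.base
  -- restriction to a good piece vanishes
  have hgood : ∀ k, good k → (sheafify J Q).map (g k).op s = 0 := by
    intro k hk
    obtain ⟨y, hy⟩ := hk
    haveI : IsEmpty (CostructuredArrow (ProEtS.compP j).op (op (Wf k))) :=
      isEmpty_costructuredArrow_compP j (Wf k)
        ⟨y, hy⟩
    haveI := subsingleton_lan_of_isEmpty j F.obj (Wf k)
    obtain ⟨t, ht⟩ := hRg k
    have ht0 : t = 0 := Subsingleton.elim _ _
    rw [← ht, ht0]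
    exact map_zero _
  -- the good pieces cover
  have hcovgood : ∀ v : V.left, ∃ k, good k ∧ v ∈ Set.range (g k).left := by
    intro v
    obtain ⟨z, hz, hvz⟩ := hV v
    obtain ⟨k, y, hy⟩ := hcov z
    have hw : (g k).left ≫ V.hom = (Wf k).hom := MorphismProperty.Over.w (g k)
    refine ⟨k, ⟨y, ?_⟩, ?_⟩
    · rw [← hw]
      show V.hom.base ((g k).left.base y) ∉ Set.range j.base
      have hy' : (g k).left.base y = z := hy
      rw [hy']
      exact hz
    · have hvz' : v ⤳ (g k).left y := by
        rw [hy]
        exact hvz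
      obtain ⟨y', -, hy'⟩ := Flat.generalizingMap (g k).left hvz'
      exact ⟨y', hy'⟩
  classical
  let t : Finset (Fin n) := Finset.univ.filter good
  let e₀ : Fin t.card → {k // k ∈ t} := t.equivFin.symm
  have hmem : Sieve.ofArrows (fun m : Fin t.card => Wf (e₀ m).1) (fun m => g (e₀ m).1) ∈ J V := by
    refine ofArrows_mem _ _ (fun m => ?_) (fun v => ?_)
    · haveI := haff (e₀ m).1
      infer_instance
    · obtain ⟨k, hk, hvk⟩ := hcovgood v
      have hkt : k ∈ t := Finset.mem_filter.mpr ⟨Finset.mem_univ _, hk⟩
      refine ⟨t.equivFin ⟨k, hkt⟩, ?_⟩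
      have he : e₀ (t.equivFin ⟨k, hkt⟩) = ⟨k, hkt⟩ := t.equivFin.symm_apply_apply _
      rw [he]
      exact hvk
  refine (hsh _ hmem).isSeparatedFor.ext (fun Y f hf => ?_)
  obtain ⟨Y', h, g', ⟨m⟩, rfl⟩ := hf
  have hm : good (e₀ m).1 := (Finset.mem_filter.mp (e₀ m).2).2
  show (sheafify J Q).map (h ≫ g (e₀ m).1).op s = (sheafify J Q).map (h ≫ g (e₀ m).1).op 0
  rw [op_comp, CategoryTheory.Functor.map_comp_apply, hgood _ hm, map_zero, map_zero]


end Cocont

end H9FE.ProEtW
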