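import Mathlib
import Groth.Prelude.Def_Hensel
import Groth.Agent.Lib.Helper7.SHens.Main
import Groth.Agent.Lib.Helper7.SHens.Abstract
import Groth.Agent.Lib.Helper7.Hensel.EtaleLift
import Groth.Agent.Lib.Helper7.Hensel.Local

/-! helper9: henselian lifting for local rings of étale algebras (existence and uniqueness of a
ring map from the localization of an étale algebra at a prime into a henselian local ring with
prescribed map on residue fields), and transitivity of strict henselization along such local
étale algebras: a strict henselization of the local ring of an étale algebra is a strict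
henselization of the local ring of the base. -/

set_option autoImplicit false
universe u
open IsLocalRing TensorProduct

namespace H9FE.SHTrans

set_option linter.style.haveILetI false
set_option linter.unusedSectionVars false

open Groth.Agent.Helper7 Groth.Agent.Helper7.Hensel

section LU

variable {A' E' : Type u} [CommRing A'] [CommRing E'] [Algebra A' E'] [Algebra.Etale A' E']
  {B : Type u} [CommRing B] [IsLocalRing B] [Algebra E' B]
  (q : Ideal E') [q.IsPrime] [IsLocalization.AtPrime B q]
  {T : Type u} [CommRing T] [HenselianLocalRing T] [Algebra A' T]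
  (σ : ResidueField B →+* ResidueField T)
  (hσ : ∀ a : A', σ (residue B (algebraMap E' B (algebraMap A' E' a))) =
    residue T (algebraMap A' T a))

/-- the map from the étale algebra to the residue field of `T` -/
noncomputable def sE : E' →ₐ[A'] ResidueField T :=
  { σ.comp ((residue B).comp (algebraMap E' B)) with
    commutes' := fun a => by
      show σ (residue B (algebraMap E' B (algebraMap A' E' a))) = _
      rw [hσ]
      rfl }

lemma sE_apply (x : E') : sE σ hσ x = σ (residue B (algebraMap E' B x)) := rfl

include q in
lemma sE_ne_zero (y : q.primeCompl) : sE σ hσ (y : E') ≠ 0 := by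
  have h1 : IsUnit (algebraMap E' B y) := IsLocalization.map_units B y
  have h2 : residue B (algebraMap E' B y) ≠ 0 := by
    intro h0
    exact ((mem_maximalIdeal _).1 ((residue_eq_zero_iff _).1 h0)) h1
  rw [sE_apply]
  exact (map_ne_zero σ).2 h2

theorem exists_stage : ∃ ψ : E' →ₐ[A'] T, ∀ x, residue T (ψ x) = sE σ hσ x := by
  have hG : Gabber T (maximalIdeal T) := Gabber.of_henselianLocalRing T
  let s : T ⊗[A'] E' →ₐ[T] ResidueField T :=
    Algebra.TensorProduct.lift (Algebra.ofId T (ResidueField T))
      (sE σ hσ) (fun _ _ => Commute.all _ _)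
  obtain ⟨t, ht⟩ := hG.exists_lift_of_etale (T ⊗[A'] E') s
  refine ⟨(t.restrictScalars A').comp Algebra.TensorProduct.includeRight, fun x => ?_⟩
  have h1 := AlgHom.congr_fun ht (1 ⊗ₜ x)
  have h2 : s (1 ⊗ₜ x) = sE σ hσ x := by
    show Algebra.TensorProduct.lift (Algebra.ofId T (ResidueField T))
      (sE σ hσ) (fun _ _ => Commute.all _ _) (1 ⊗ₜ x) = _
    rw [Algebra.TensorProduct.lift_tmul, map_one, one_mul]
  exact h1.trans h2

include q in
lemma isUnit_stage (ψ : E' →ₐ[A'] T) (hψ : ∀ x, residue T (ψ x) = sE σ hσ x)
    (y : q.primeCompl) : IsUnit (ψ y) := by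
  by_contra hnu
  have h0 : residue T (ψ y) = 0 := (residue_eq_zero_iff _).2 ((mem_maximalIdeal _).2 hnu)
  rw [hψ] at h0
  exact sE_ne_zero q σ hσ y h0

/-- the extension to the localization -/
noncomputable def lift (ψ : E' →ₐ[A'] T) (hψ : ∀ x, residue T (ψ x) = sE σ hσ x) : B →+* T :=
  IsLocalization.lift (M := q.primeCompl) (g := (ψ : E' →+* T))
    (fun y => isUnit_stage q σ hσ ψ hψ y)

lemma lift_algebraMap (ψ : E' →ₐ[A'] T) (hψ : ∀ x, residue T (ψ x) = sE σ hσ x) (x : E') :
    lift q σ hσ ψ hψ (algebraMap E' B x) = ψ x :=
  IsLocalization.lift_eq _ x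

lemma residue_lift (ψ : E' →ₐ[A'] T) (hψ : ∀ x, residue T (ψ x) = sE σ hσ x) (b : B) :
    residue T (lift q σ hσ ψ hψ b) = σ (residue B b) := by
  obtain ⟨⟨x, y⟩, hxy⟩ := IsLocalization.surj q.primeCompl b
  have hxy' : b * algebraMap E' B (y : E') = algebraMap E' B x := hxy
  have h1 : lift q σ hσ ψ hψ b * ψ (y : E') = ψ x := by
    rw [← lift_algebraMap q σ hσ ψ hψ (y : E'), ← map_mul, hxy', lift_algebraMap]
  have h2 := congrArg (residue T) h1
  rw [map_mul, hψ, hψ] at h2
  have h3 : sE σ hσ x = σ (residue B b) * sE σ hσ (y : E') := by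
    rw [sE_apply, sE_apply, ← map_mul, ← map_mul, hxy']
  exact mul_right_cancel₀ (sE_ne_zero q σ hσ y) (h2.trans h3)

include q hσ in
/-- **Henselian lifting** for the local ring of an étale algebra. -/
theorem existsUnique_lift :
    ∃! φ : B →+* T, (∀ a : A', φ (algebraMap E' B (algebraMap A' E' a)) = algebraMap A' T a) ∧
      ∀ b : B, residue T (φ b) = σ (residue B b) := by
  obtain ⟨ψ, hψ⟩ := exists_stage σ hσ
  refine ⟨lift q σ hσ ψ hψ, ⟨fun a => ?_, residue_lift q σ hσ ψ hψ⟩, ?_⟩
  · rw [lift_algebraMap]
    exact ψ.commutes a
  · rintro φ' ⟨h1, h2⟩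
    let ψ' : E' →ₐ[A'] T :=
      { φ'.comp (algebraMap E' B) with
        commutes' := fun a => h1 a }
    have hψ' : ψ' = ψ := by
      apply algHom_eq_of_formallyUnramified (maximalIdeal T)
        (IsLocalRing.jacobson_eq_maximalIdeal ⊥ bot_ne_top).ge
      intro x
      rw [← residue_eq_zero_iff, map_sub, sub_eq_zero, hψ]
      exact h2 _
    apply IsLocalization.ringHom_ext q.primeCompl
    ext x
    show φ' (algebraMap E' B x) = lift q σ hσ ψ hψ (algebraMap E' B x)
    rw [lift_algebraMap]
    exact AlgHom.congr_fun hψ' x

end LU

section Trans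

variable {A' E' : Type u} [CommRing A'] [CommRing E'] [Algebra A' E'] [Algebra.Etale A' E']
  {A : Type u} [CommRing A] [IsLocalRing A] [Algebra A' A] (M : Submonoid A') [IsLocalization M A]
  {B : Type u} [CommRing B] [IsLocalRing B] [Algebra E' B]
  (q : Ideal E') [q.IsPrime] [IsLocalization.AtPrime B q]
  [Algebra A B] [IsLocalHom (algebraMap A B)]
  (hcomm : ∀ a : A', algebraMap A B (algebraMap A' A a) = algebraMap E' B (algebraMap A' E' a))
  (S : Type u) [CommRing S] [IsLocalRing S] [Algebra B S] [IsLocalHom (algebraMap B S)]
  [hS : Hensel.IsStrictHenselization B S]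
  [Algebra A S] [IsScalarTower A B S] [IsLocalHom (algebraMap A S)]

include M q hcomm in
theorem isSeparable_residue : Algebra.IsSeparable (ResidueField A) (ResidueField B) := by
  letI : Algebra A' B := ((algebraMap E' B).comp (algebraMap A' E')).toAlgebra
  haveI : IsScalarTower A' E' B := IsScalarTower.of_algebraMap_eq' rfl
  haveI : IsScalarTower A' A B := IsScalarTower.of_algebraMap_eq' (by
    ext a
    exact (hcomm a).symm)
  haveI : Algebra.FormallyUnramified E' B :=
    Algebra.FormallyUnramified.of_isLocalization q.primeCompl
  haveI : Algebra.FormallyUnramified A' B := Algebra.FormallyUnramified.comp A' E' B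
  haveI : Algebra.FormallyUnramified A B := Algebra.FormallyUnramified.of_restrictScalars A' A B
  haveI : Algebra.EssFiniteType E' B := Algebra.EssFiniteType.of_isLocalization B q.primeCompl
  haveI : Algebra.EssFiniteType A' B := Algebra.EssFiniteType.comp A' E' B
  haveI : Algebra.EssFiniteType A B := Algebra.EssFiniteType.of_comp A' A B
  infer_instance

include M q hcomm in
theorem isSepClosure_residue : IsSepClosure (ResidueField A) (ResidueField S) := by
  haveI := hS.isSepClosure
  haveI : IsSepClosed (ResidueField S) := IsSepClosure.sep_closed (ResidueField B)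
  haveI : Algebra.IsSeparable (ResidueField B) (ResidueField S) := IsSepClosure.separable
  haveI := isSeparable_residue M q hcomm
  haveI : IsScalarTower (ResidueField A) (ResidueField B) (ResidueField S) :=
    IsScalarTower.of_algebraMap_eq' (by
      ext x
      obtain ⟨a, rfl⟩ := residue_surjective x
      show residue S (algebraMap A S a) = residue S (algebraMap B S (algebraMap A B a))
      rw [IsScalarTower.algebraMap_apply A B S])
  haveI : Algebra.IsSeparable (ResidueField A) (ResidueField S) :=
    Algebra.IsSeparable.trans (ResidueField A) (ResidueField B) (ResidueField S)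
  exact ⟨inferInstance, inferInstance⟩

lemma isLocalHom_of_residue {B T : Type u} [CommRing B] [IsLocalRing B] [CommRing T]
    [IsLocalRing T] (φ : B →+* T) (σ : ResidueField B →+* ResidueField T)
    (h : ∀ b : B, residue T (φ b) = σ (residue B b)) : IsLocalHom φ := by
  refine ⟨fun b hb => ?_⟩
  by_contra hb'
  have h1 : residue B b = 0 := (residue_eq_zero_iff b).2 ((mem_maximalIdeal b).2 hb')
  have h2 : residue T (φ b) = 0 := by rw [h, h1, map_zero]
  exact ((mem_maximalIdeal (φ b)).1 ((residue_eq_zero_iff (φ b)).1 h2)) hb

include M q hcomm in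
theorem universal_trans (T : Type u) [CommRing T] [HenselianLocalRing T] (f : A →+* T)
    [IsLocalHom f] (τ : ResidueField S →+* ResidueField T)
    (hτ : τ.comp (ResidueField.map (algebraMap A S)) = ResidueField.map f) :
    ∃! g : S →+* T, g.comp (algebraMap A S) = f ∧
      ∀ x : S, residue T (g x) = τ (residue S x) := by
  letI : Algebra A' T := (f.comp (algebraMap A' A)).toAlgebra
  let σ : ResidueField B →+* ResidueField T := τ.comp (ResidueField.map (algebraMap B S))
  have hσ : ∀ a : A', σ (residue B (algebraMap E' B (algebraMap A' E' a))) =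
      residue T (algebraMap A' T a) := by
    intro a
    rw [← hcomm a]
    show τ (ResidueField.map (algebraMap B S) (residue B (algebraMap A B (algebraMap A' A a)))) =
      residue T (f (algebraMap A' A a))
    rw [ResidueField.map_residue, ← IsScalarTower.algebraMap_apply A B S]
    have h := RingHom.congr_fun hτ (residue A (algebraMap A' A a))
    rw [RingHom.comp_apply, ResidueField.map_residue, ResidueField.map_residue] at h
    exact h
  obtain ⟨φ, ⟨hφ1, hφ2⟩, hφu⟩ := existsUnique_lift q σ hσ
  have hφA : φ.comp (algebraMap A B) = f := by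
    apply IsLocalization.ringHom_ext M
    ext a
    show φ (algebraMap A B (algebraMap A' A a)) = f (algebraMap A' A a)
    rw [hcomm]
    exact hφ1 a
  haveI : IsLocalHom φ := isLocalHom_of_residue φ σ hφ2
  have hτφ : τ.comp (ResidueField.map (algebraMap B S)) = ResidueField.map φ := by
    ext x
    obtain ⟨b, rfl⟩ := residue_surjective x
    rw [ResidueField.map_residue]
    exact (hφ2 b).symm
  obtain ⟨g, ⟨hg1, hg2⟩, hgu⟩ := hS.universal T φ τ hτφ
  refine ⟨g, ⟨?_, hg2⟩, ?_⟩
  · rw [IsScalarTower.algebraMap_eq A B S, ← RingHom.comp_assoc, hg1, hφA]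
  · rintro g' ⟨hg'1, hg'2⟩
    apply hgu
    refine ⟨?_, hg'2⟩
    apply hφu
    refine ⟨?_, ?_⟩
    · intro a
      show g' (algebraMap B S (algebraMap E' B (algebraMap A' E' a))) = f (algebraMap A' A a)
      rw [← hcomm, ← IsScalarTower.algebraMap_apply A B S]
      exact RingHom.congr_fun hg'1 _
    · intro b
      show residue T (g' (algebraMap B S b)) =
        τ (ResidueField.map (algebraMap B S) (residue B b))
      rw [hg'2, ResidueField.map_residue]

include M q hcomm in
/-- **Transitivity**: a strict henselization of the local ring `B` of an étale algebra at a prime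
is a strict henselization of the local ring `A` of the base. -/
theorem isStrictHenselization_trans : Hensel.IsStrictHenselization A S where
  henselian := hS.henselian
  isSepClosure := isSepClosure_residue M q hcomm S
  universal T _ _ f _ τ hτ := universal_trans M q hcomm S T f τ hτ

end Trans

/-- the spectrum of a local ring is irreducible as soon as that of a strict henselization is -/
theorem irreducibleSpace_of_isStrictHenselization (B S : Type u) [CommRing B] [IsLocalRing B]
    [CommRing S] [IsLocalRing S] [Algebra B S] [IsLocalHom (algebraMap B S)]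
    [Hensel.IsStrictHenselization B S] [IrreducibleSpace (PrimeSpectrum S)] :
    IrreducibleSpace (PrimeSpectrum B) := by
  haveI : Module.FaithfullyFlat B S := SHens.faithfullyFlat_of_isStrictHenselization B S
  have hsurj : Function.Surjective (PrimeSpectrum.comap (algebraMap B S)) :=
    PrimeSpectrum.comap_surjective_of_faithfullyFlat
  rw [irreducibleSpace_def]
  have h := (IrreducibleSpace.isIrreducible_univ (PrimeSpectrum S)).image
    (PrimeSpectrum.comap (algebraMap B S)) (PrimeSpectrum.continuous_comap _).continuousOn
  rwa [Set.image_univ_of_surjective hsurj] at h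

end H9FE.SHTrans
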