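import Mathlib
import Groth.Prelude.Def_Hensel
import Groth.Agent.Lib.Helper9.FE.OlivC3
import Groth.Agent.Lib.Helper9.FE.SHTrans
import Groth.Agent.Lib.Helper7.SHens.Main
import Groth.Agent.Lib.Helper7.SHens.Abstract
import Groth.Agent.Lib.Helper8.HensWE1
import Groth.Agent.Lib.Helper5.WEt.Basic
import Groth.Agent.Lib.Helper5.FlatDesc.Basic

/-! helper9: strict henselizations and weakly étale local homomorphisms.
* `isStrictHenselization_of_algEquiv`: transport of a strict henselization along an isomorphism
  of the top ring;
* `isStrictHenselization_of_weaklyEtale`: if `A → B` is a weakly étale local homomorphism, a strict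
  henselization of `B` is a strict henselization of `A` (via Olivier's theorem);
* `weaklyEtale_of_faithfullyFlat_comp`: weak étaleness descends along a faithfully flat map;
* `weaklyEtale_of_isStrictHenselization`: if a strict henselization of `B` is also one of `A`,
  then `A → B` is weakly étale. -/

set_option autoImplicit false
universe u
open IsLocalRing TensorProduct

namespace H9FE.OlivE

set_option linter.style.haveILetI false
set_option linter.unusedSectionVars false

/-- transport of a strict henselization along an isomorphism of the top ring -/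
theorem isStrictHenselization_of_algEquiv {A S R : Type u} [CommRing A] [IsLocalRing A]
    [CommRing S] [IsLocalRing S] [CommRing R] [IsLocalRing R] (hR : HenselianLocalRing R)
    [IsSepClosed (ResidueField R)]
    [Algebra A S] [IsLocalHom (algebraMap A S)] [Algebra A R] [IsLocalHom (algebraMap A R)]
    [h : Hensel.IsStrictHenselization A S] (e : S ≃ₐ[A] R) :
    Hensel.IsStrictHenselization A R := by
  let φ : S →+* R := e.toAlgHom.toRingHom
  let ψ : R →+* S := e.symm.toAlgHom.toRingHom
  have hφψ : ∀ r, φ (ψ r) = r := fun r => e.apply_symm_apply r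
  have hψφ : ∀ s, ψ (φ s) = s := fun s => e.symm_apply_apply s
  have hφA : ∀ a, φ (algebraMap A S a) = algebraMap A R a := fun a => e.commutes a
  have hψA : ∀ a, ψ (algebraMap A R a) = algebraMap A S a := fun a => e.symm.commutes a
  haveI hlφ : IsLocalHom φ := ⟨fun s hs => by
    have := hs.map ψ
    rwa [hψφ] at this⟩
  haveI hlψ : IsLocalHom ψ := ⟨fun r hr => by
    have := hr.map φ
    rwa [hφψ] at this⟩
  have hsep : Algebra.IsSeparable (ResidueField A) (ResidueField R) := by
    haveI := h.isSepClosure
    haveI : Algebra.IsSeparable (ResidueField A) (ResidueField S) := IsSepClosure.separable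
    let ē : ResidueField S →ₐ[ResidueField A] ResidueField R :=
      { ResidueField.map φ with
        commutes' := fun x => by
          obtain ⟨a, rfl⟩ := residue_surjective x
          exact congrArg (residue R) (hφA a) }
    let ē' : ResidueField R →ₐ[ResidueField A] ResidueField S :=
      { ResidueField.map ψ with
        commutes' := fun x => by
          obtain ⟨a, rfl⟩ := residue_surjective x
          exact congrArg (residue S) (hψA a) }
    exact Algebra.IsSeparable.of_algHom (ResidueField A) (ResidueField S) ē'
  refine ⟨hR, ⟨inferInstance, hsep⟩, ?_⟩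
  intro T _ _ f _ τ hτ
  let τ' : ResidueField S →+* ResidueField T := τ.comp (ResidueField.map φ)
  have hτ' : τ'.comp (ResidueField.map (algebraMap A S)) = ResidueField.map f := by
    rw [← hτ]
    refine RingHom.ext fun x => ?_
    obtain ⟨a, rfl⟩ := residue_surjective x
    show τ (residue R (φ (algebraMap A S a))) = τ (residue R (algebraMap A R a))
    rw [hφA]
  obtain ⟨g', ⟨hg1, hg2⟩, hgu⟩ := h.universal T f τ' hτ'
  refine ⟨g'.comp ψ, ⟨?_, ?_⟩, ?_⟩
  · refine RingHom.ext fun a => ?_
    show g' (ψ (algebraMap A R a)) = f a
    rw [hψA a]
    exact RingHom.congr_fun hg1 a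
  · intro r
    show residue T (g' (ψ r)) = τ (residue R r)
    rw [hg2 (ψ r)]
    show τ (residue R (φ (ψ r))) = _
    rw [hφψ r]
  · rintro g₂ ⟨h1, h2⟩
    have hcomp : g₂.comp φ = g' := by
      apply hgu
      refine ⟨?_, ?_⟩
      · refine RingHom.ext fun a => ?_
        show g₂ (φ (algebraMap A S a)) = f a
        rw [hφA]
        exact RingHom.congr_fun h1 a
      · intro s
        show residue T (g₂ (φ s)) = τ (residue R (φ s))
        exact h2 (φ s)
    rw [← hcomp]
    refine RingHom.ext fun r => ?_
    show g₂ r = g₂ (φ (ψ r))
    rw [hφψ]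

/-- If `A → B` is a weakly étale local homomorphism of local rings, then a strict henselization
of `B` is a strict henselization of `A`. -/
theorem isStrictHenselization_of_weaklyEtale {A B R : Type u} [CommRing A] [IsLocalRing A]
    [CommRing B] [IsLocalRing B] [CommRing R] [IsLocalRing R] [Algebra A B]
    [IsLocalHom (algebraMap A B)] [Algebra.WeaklyEtale A B] [Algebra B R]
    [IsLocalHom (algebraMap B R)] [hBR : Hensel.IsStrictHenselization B R] [Algebra A R]
    [IsScalarTower A B R] :
    ∃ _ : IsLocalHom (algebraMap A R), Hensel.IsStrictHenselization A R := by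
  haveI hloc : IsLocalHom (algebraMap A R) := by
    rw [IsScalarTower.algebraMap_eq A B R]
    exact RingHom.isLocalHom_comp _ _
  refine ⟨hloc, ?_⟩
  have hR : HenselianLocalRing R := hBR.henselian
  haveI := hBR.isSepClosure
  haveI : IsSepClosed (ResidueField R) := IsSepClosure.sep_closed (ResidueField B)
  obtain ⟨S, _, _, _, _, hS⟩ := Groth.Agent.Helper7.SHens.exists_isStrictHenselization A
  haveI := hS.isSepClosure
  haveI : Algebra.IsSeparable (ResidueField A) (ResidueField S) := IsSepClosure.separable
  let τ : ResidueField S →ₐ[ResidueField A] ResidueField R := IsSepClosed.lift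
  have hτ : (τ : ResidueField S →+* ResidueField R).comp (ResidueField.map (algebraMap A S)) =
      ResidueField.map (algebraMap A R) := by
    refine RingHom.ext fun x => ?_
    obtain ⟨a, rfl⟩ := residue_surjective x
    exact τ.commutes (residue A a)
  haveI := hR
  obtain ⟨g, ⟨hg1, hg2⟩, -⟩ := hS.universal R (algebraMap A R) (τ : _ →+* _) hτ
  haveI hlg : IsLocalHom g := H9FE.SHTrans.isLocalHom_of_residue g _ hg2
  letI : Algebra S R := g.toAlgebra
  haveI : IsScalarTower A S R := IsScalarTower.of_algebraMap_eq' hg1.symm
  haveI : Algebra.WeaklyEtale A S :=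
    Groth.Agent.Helper8.HensWE.weaklyEtale_strictHenselization A S
  haveI : Algebra.WeaklyEtale B R :=
    Groth.Agent.Helper8.HensWE.weaklyEtale_strictHenselization B R
  haveI : Algebra.WeaklyEtale A R := Algebra.WeaklyEtale.trans A B R
  haveI : Algebra.WeaklyEtale S R := Helper5.WEt.weaklyEtale_of_algHom A S R
  haveI : HenselianLocalRing S := hS.henselian
  haveI : IsSepClosed (ResidueField S) := IsSepClosure.sep_closed (ResidueField A)
  haveI : IsLocalHom (algebraMap S R) := hlg
  have hbij : Function.Bijective (algebraMap S R) := H9FE.OlivC.bijective_algebraMap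
  let e : S ≃ₐ[A] R := AlgEquiv.ofBijective (IsScalarTower.toAlgHom A S R) hbij
  exact isStrictHenselization_of_algEquiv hR e

/-- flatness descends along a faithfully flat ring map (ring hom form) -/
lemma ringHom_flat_of_comp_faithfullyFlat {D B C : Type u} [CommRing D] [CommRing B] [CommRing C]
    [Algebra B C] [Module.FaithfullyFlat B C] (φ : D →+* B)
    (hc : ((algebraMap B C).comp φ).Flat) : φ.Flat := by
  letI := φ.toAlgebra
  letI := ((algebraMap B C).comp φ).toAlgebra
  haveI : IsScalarTower D B C := IsScalarTower.of_algebraMap_eq (fun _ => rfl)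
  haveI : Module.Flat D C := hc
  exact Helper5.FlatDesc.flat_of_faithfullyFlat_of_flat D B C

/-- weak étaleness descends: if `A → C` is weakly étale and `B → C` is faithfully flat then
`A → B` is weakly étale. -/
theorem weaklyEtale_of_faithfullyFlat_comp (A B C : Type u) [CommRing A] [CommRing B] [CommRing C]
    [Algebra A B] [Algebra B C] [Algebra A C] [IsScalarTower A B C]
    [Module.FaithfullyFlat B C] [Algebra.WeaklyEtale A C] : Algebra.WeaklyEtale A B := by
  haveI : Module.Flat A B := Helper5.FlatDesc.flat_of_faithfullyFlat_of_flat A B C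
  refine ⟨inferInstance, ?_⟩
  let ι : B →ₐ[A] C := IsScalarTower.toAlgHom A B C
  have hι : ι.Flat := by
    show (algebraMap B C).Flat
    rw [RingHom.flat_algebraMap_iff]
    infer_instance
  have hm : (Algebra.TensorProduct.map ι ι).Flat := RingHom.Flat.tensorProductMap hι hι
  have hC := Algebra.WeaklyEtale.flat_lmul' A C
  have hcomp : ((algebraMap B C).comp (Algebra.TensorProduct.lmul' A (S := B)).toRingHom) =
      (Algebra.TensorProduct.lmul' A (S := C)).toRingHom.comp
        (Algebra.TensorProduct.map ι ι).toRingHom := by
    refine RingHom.ext fun x => ?_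
    induction x using TensorProduct.induction_on with
    | zero => simp
    | add x y hx hy => simp only [map_add, hx, hy]
    | tmul b b' =>
      show algebraMap B C (b * b') = algebraMap B C b * algebraMap B C b'
      exact map_mul _ _ _
  apply ringHom_flat_of_comp_faithfullyFlat (C := C)
  rw [hcomp]
  exact RingHom.Flat.comp hm hC

/-- If a strict henselization of `B` is also a strict henselization of `A` (through `A → B`),
then `A → B` is weakly étale. -/
theorem weaklyEtale_of_isStrictHenselization {A B R : Type u} [CommRing A] [IsLocalRing A]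
    [CommRing B] [IsLocalRing B] [CommRing R] [IsLocalRing R] [Algebra A B] [Algebra B R]
    [IsLocalHom (algebraMap B R)] [Hensel.IsStrictHenselization B R] [Algebra A R]
    [IsScalarTower A B R] [IsLocalHom (algebraMap A R)] [Hensel.IsStrictHenselization A R] :
    Algebra.WeaklyEtale A B := by
  haveI : Algebra.WeaklyEtale A R :=
    Groth.Agent.Helper8.HensWE.weaklyEtale_strictHenselization A R
  haveI : Module.FaithfullyFlat B R :=
    Groth.Agent.Helper7.SHens.faithfullyFlat_of_isStrictHenselization B R
  exact weaklyEtale_of_faithfullyFlat_comp A B R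

end H9FE.OlivE
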