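import Mathlib
import Groth.Prelude.Def_FEt

/-! helper9: basic categorical facts on finite étale covers (`FEt.Cat X`) and affine schemes over `X`. -/

open CategoryTheory CategoryTheory.Limits AlgebraicGeometry MorphismProperty
universe u
set_option linter.style.haveILetI false
set_option backward.isDefEq.respectTransparency false

namespace H9FE

instance fetPostcomp : (FEt.prop.{u}).HasOfPostcompProperty FEt.prop.{u} where
  of_postcomp {X Y Z} f g hg hfg := by
    haveI : IsFinite g := hg.1
    haveI : Etale g := hg.2
    haveI : IsFinite (f ≫ g) := hfg.1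
    haveI : Etale (f ≫ g) := hfg.2
    exact ⟨MorphismProperty.of_postcomp (W := @IsFinite) (W' := @IsSeparated) f g inferInstance
      inferInstance,
      MorphismProperty.of_postcomp (W := @Etale) (W' := @Etale) f g inferInstance inferInstance⟩

instance fetHasFiniteLimits (X : Scheme.{u}) : HasFiniteLimits (FEt.Cat X) := inferInstance

instance fetRestrictPreservesFiniteLimits {X Y : Scheme.{u}} (f : X ⟶ Y) :
    PreservesFiniteLimits (FEt.restrict f) := by
  unfold FEt.restrict; infer_instance

/-- the morphism property of affine morphisms -/
abbrev affProp : MorphismProperty Scheme.{u} := @IsAffineHom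

/-- schemes affine over `X` -/
abbrev AH (X : Scheme.{u}) := affProp.{u}.Over ⊤ X

theorem fet_le_affine : FEt.prop.{u} ≤ affProp.{u} := fun _ _ f hf => by
  haveI : IsFinite f := hf.1
  show IsAffineHom f
  infer_instance

/-- the inclusion of finite étale covers into affine schemes over `X` -/
abbrev toAH (X : Scheme.{u}) : FEt.Cat X ⥤ AH X :=
  MorphismProperty.Over.changeProp X fet_le_affine le_rfl

instance (X : Scheme.{u}) : (toAH X).Full := inferInstance
instance (X : Scheme.{u}) : (toAH X).Faithful := inferInstance
instance affLocal : IsZariskiLocalAtTarget affProp.{u} := inferInstance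
instance fetLocal : IsZariskiLocalAtTarget FEt.prop.{u} := inferInstance

instance (X : Scheme.{u}) (Y : FEt.Cat X) : IsFinite Y.hom := Y.prop.1
instance (X : Scheme.{u}) (Y : FEt.Cat X) : Etale Y.hom := Y.prop.2
instance (X : Scheme.{u}) (Y : AH X) : IsAffineHom Y.hom := Y.prop

end H9FE
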