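import Mathlib
import Groth.Prelude.Def_FEt
import Groth.Agent.Lib.Helper9.FE.Basic

/-! helper9: monomorphisms of finite étale covers are inclusions of direct summands. -/

open CategoryTheory CategoryTheory.Limits AlgebraicGeometry MorphismProperty
universe u
set_option linter.style.haveILetI false
set_option linter.unusedSectionVars false
set_option backward.isDefEq.respectTransparency false
namespace H9FE

variable {X : Scheme.{u}}

/-- a binary cofan of finite étale covers which is a coproduct of schemes is a coproduct -/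
noncomputable def isColimitBinaryCofanOfLeft {Y Z W : FEt.Cat X} (i : Y ⟶ W) (v : Z ⟶ W)
    (h : IsColimit (BinaryCofan.mk i.left v.left)) : IsColimit (BinaryCofan.mk i v) :=
  BinaryCofan.isColimitMk
    (fun s => MorphismProperty.Over.homMk (h.desc (BinaryCofan.mk s.inl.left s.inr.left)) (by
      apply BinaryCofan.IsColimit.hom_ext h
      · rw [← Category.assoc]
        erw [h.fac _ ⟨WalkingPair.left⟩]
        simp
      · rw [← Category.assoc]
        erw [h.fac _ ⟨WalkingPair.right⟩]
        simp) trivial)
    (fun s => by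
      apply MorphismProperty.Over.Hom.ext
      exact h.fac (BinaryCofan.mk s.inl.left s.inr.left) ⟨WalkingPair.left⟩)
    (fun s => by
      apply MorphismProperty.Over.Hom.ext
      exact h.fac (BinaryCofan.mk s.inl.left s.inr.left) ⟨WalkingPair.right⟩)
    (fun s m h1 h2 => by
      apply MorphismProperty.Over.Hom.ext
      apply BinaryCofan.IsColimit.hom_ext h
      · have := congrArg (fun k => k.left) h1
        refine Eq.trans this ?_
        exact (h.fac (BinaryCofan.mk s.inl.left s.inr.left) ⟨WalkingPair.left⟩).symm
      · have := congrArg (fun k => k.left) h2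
        refine Eq.trans this ?_
        exact (h.fac (BinaryCofan.mk s.inl.left s.inr.left) ⟨WalkingPair.right⟩).symm)

variable {X : Scheme.{u}}

/-- morphisms between finite étale covers are finite étale -/
theorem fetProp_left {Y Z : FEt.Cat X} (f : Y ⟶ Z) : FEt.prop f.left :=
  MorphismProperty.of_postcomp (W := FEt.prop.{u}) (W' := FEt.prop.{u}) f.left Z.hom Z.prop
    (by rw [MorphismProperty.Over.w f]; exact Y.prop)

instance fetHomFinite {Y Z : FEt.Cat X} (f : Y ⟶ Z) : IsFinite f.left := (fetProp_left f).1
instance fetHomEtale {Y Z : FEt.Cat X} (f : Y ⟶ Z) : Etale f.left := (fetProp_left f).2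

theorem mono_left {Y Z : FEt.Cat X} (i : Y ⟶ Z) [Mono i] : Mono i.left := by
  haveI : Mono ((MorphismProperty.Over.forget FEt.prop.{u} ⊤ X).map i) := inferInstance
  exact inferInstanceAs (Mono ((Over.forget X).map ((MorphismProperty.Over.forget FEt.prop.{u} ⊤ X).map i)))

theorem isOpenImmersion_left {Y Z : FEt.Cat X} (i : Y ⟶ Z) [Mono i] : IsOpenImmersion i.left := by
  haveI := mono_left i
  exact IsOpenImmersion.of_flat_of_mono i.left

variable {X : Scheme.{u}}

/-- an open subscheme with closed underlying set, as a finite étale cover -/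
theorem fetProp_clopen_ι {Z : Scheme.{u}} (U : Z.Opens) (hU : IsClosed (U : Set Z)) :
    FEt.prop U.ι := by
  haveI : IsClosedImmersion U.ι := IsClosedImmersion.of_isPreimmersion _ (by
    rw [Scheme.Opens.range_ι]; exact hU)
  exact ⟨inferInstance, inferInstance⟩

theorem mono_summand {Y Z : FEt.Cat X} (i : Y ⟶ Z) [Mono i] :
    ∃ (Z' : FEt.Cat X) (v : Z' ⟶ Z), Nonempty (IsColimit (BinaryCofan.mk i v)) := by
  haveI := isOpenImmersion_left i
  have hcl : IsClosed (Set.range i.left) := i.left.isClosedMap.isClosed_range
  have hop : IsOpen (Set.range i.left) := i.left.isOpenEmbedding.isOpen_range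
  let U' : Z.left.Opens := ⟨(Set.range i.left)ᶜ, hcl.isOpen_compl⟩
  have hU' : FEt.prop U'.ι := fetProp_clopen_ι U' (by
    show IsClosed ((Set.range i.left)ᶜ)
    exact hop.isClosed_compl)
  let Z' : FEt.Cat X := MorphismProperty.Over.mk ⊤ (U'.ι ≫ Z.hom)
    (FEt.prop.comp_mem _ _ hU' Z.prop)
  let v : Z' ⟶ Z := MorphismProperty.Over.homMk U'.ι rfl trivial
  have hcompl : IsCompl i.left.opensRange U'.ι.opensRange := by
    rw [Scheme.Opens.opensRange_ι]
    constructor
    · rw [disjoint_iff]
      ext x
      simp only [TopologicalSpace.Opens.coe_inf, Scheme.Hom.coe_opensRange,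
        TopologicalSpace.Opens.coe_bot, Set.mem_inter_iff, Set.mem_empty_iff_false, iff_false]
      rintro ⟨h1, h2⟩
      exact h2 h1
    · rw [codisjoint_iff]
      ext x
      simp only [TopologicalSpace.Opens.coe_sup, Scheme.Hom.coe_opensRange,
        TopologicalSpace.Opens.coe_top, Set.mem_union, Set.mem_univ, iff_true]
      exact Classical.em _
  obtain ⟨h⟩ := nonempty_isColimit_binaryCofanMk_of_isCompl i.left U'.ι hcompl
  exact ⟨Z', v, ⟨isColimitBinaryCofanOfLeft i v h⟩⟩

end H9FE
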