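import Mathlib
import Groth.Prelude.Def_FEt
import Groth.Agent.Lib.Helper9.FE.Basic

/-! helper9: finite coproducts of finite étale covers. -/

open CategoryTheory CategoryTheory.Limits AlgebraicGeometry MorphismProperty
universe u
set_option linter.style.haveILetI false
set_option linter.unusedSectionVars false
set_option backward.isDefEq.respectTransparency false
namespace H9FE



theorem etale_coprodDesc {U V X : Scheme.{u}} (f : U ⟶ X) (g : V ⟶ X) [Etale f] [Etale g] :
    Etale (coprod.desc f g) := by
  rw [IsZariskiLocalAtSource.iff_of_openCover (P := @Etale) (coprodOpenCover.{_, 0} U V)]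
  rintro (⟨⟩ | ⟨⟩)
  · simpa [coprodOpenCover] using ‹Etale f›
  · simpa [coprodOpenCover] using ‹Etale g›

variable {X : Scheme.{u}}

/-- the coproduct of two finite étale covers -/
noncomputable def coprodObj (Y Z : FEt.Cat X) : FEt.Cat X :=
  MorphismProperty.Over.mk ⊤ (coprod.desc Y.hom Z.hom)
    ⟨inferInstance, etale_coprodDesc Y.hom Z.hom⟩

noncomputable def coprodInl (Y Z : FEt.Cat X) : Y ⟶ coprodObj Y Z :=
  MorphismProperty.Over.homMk coprod.inl (by simp [coprodObj]) trivial

noncomputable def coprodInr (Y Z : FEt.Cat X) : Z ⟶ coprodObj Y Z :=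
  MorphismProperty.Over.homMk coprod.inr (by simp [coprodObj]) trivial

noncomputable def coprodIsColimit (Y Z : FEt.Cat X) :
    IsColimit (BinaryCofan.mk (coprodInl Y Z) (coprodInr Y Z)) :=
  BinaryCofan.isColimitMk
    (fun s => MorphismProperty.Over.homMk (coprod.desc s.inl.left s.inr.left) (by
      apply coprod.hom_ext
      · simp [coprodObj]
      · simp [coprodObj]) trivial)
    (fun s => by
      apply MorphismProperty.Over.Hom.ext
      simp [coprodInl])
    (fun s => by
      apply MorphismProperty.Over.Hom.ext
      simp [coprodInr])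
    (fun s m h1 h2 => by
      apply MorphismProperty.Over.Hom.ext
      apply coprod.hom_ext
      · have := congrArg (fun k => k.left) h1
        simpa [coprodInl] using this
      · have := congrArg (fun k => k.left) h2
        simpa [coprodInr] using this)

instance fetHasBinaryCoproducts : HasBinaryCoproducts (FEt.Cat X) :=
  haveI : ∀ {Y Z : FEt.Cat X}, HasColimit (pair Y Z) := fun {Y Z} =>
    ⟨⟨⟨_, coprodIsColimit Y Z⟩⟩⟩
  hasBinaryCoproducts_of_hasColimit_pair _

/-- the empty cover -/
noncomputable def emptyObj (X : Scheme.{u}) : FEt.Cat X :=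
  MorphismProperty.Over.mk ⊤ (initial.to X) ⟨inferInstance, inferInstance⟩

noncomputable def emptyIsInitial (X : Scheme.{u}) : IsInitial (emptyObj X) :=
  IsInitial.ofUniqueHom
    (fun Y => MorphismProperty.Over.homMk (initial.to Y.left) (by
      apply initial.hom_ext) trivial)
    (fun Y m => by
      apply MorphismProperty.Over.Hom.ext
      apply initial.hom_ext)

instance fetHasInitial : HasInitial (FEt.Cat X) := (emptyIsInitial X).hasInitial

instance fetHasFiniteCoproducts : HasFiniteCoproducts (FEt.Cat X) := hasFiniteCoproducts_of_has_binary_and_initial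

end H9FE
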