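import Mathlib
import Groth.Prelude.Def_FEt
import Groth.Agent.Lib.Helper9.FE.Basic

/-! helper9: affine schemes over an affine base are the opposite of algebras under the ring of
global sections. -/

open CategoryTheory CategoryTheory.Limits AlgebraicGeometry MorphismProperty
universe u
set_option linter.style.haveILetI false
set_option backward.isDefEq.respectTransparency false
namespace H9FE

/-- the structure morphism with plain types -/
abbrev sHom {S : Scheme.{u}} (Y : AH S) : Y.left ⟶ S := Y.hom

/-- global sections of affine schemes over `S`, as algebras under `Γ(S)` -/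
noncomputable def ΓUnder (S : Scheme.{u}) : (AH S)ᵒᵖ ⥤ Under Γ(S, ⊤) where
  obj Y := Under.mk (sHom Y.unop).appTop
  map {Y Y'} g := Under.homMk g.unop.left.appTop (by
    show (sHom Y.unop).appTop ≫ g.unop.left.appTop = (sHom Y'.unop).appTop
    rw [← Scheme.Hom.comp_appTop]
    exact congrArg Scheme.Hom.appTop (MorphismProperty.Over.w g.unop))
  map_id Y := by
    ext
    simp
  map_comp f g := by
    ext
    simp

theorem isAffine_left {S : Scheme.{u}} [IsAffine S] (Y : AH S) : IsAffine Y.left :=
  @isAffine_of_isAffineHom Y.left S Y.hom Y.prop ‹_›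

theorem appTop_mk {A B : Scheme.{u}} [IsAffine A] [IsAffine B] (ψ : Γ(A, ⊤) ⟶ Γ(B, ⊤)) :
    (B.toSpecΓ ≫ Spec.map ψ ≫ A.isoSpec.inv).appTop = ψ := by
  simp [Scheme.isoSpec]

instance ΓUnder_faithful (S : Scheme.{u}) [IsAffine S] : (ΓUnder S).Faithful where
  map_injective {Y Y'} g g' h := by
    haveI := isAffine_left Y.unop
    have h1 : g.unop.left.appTop = g'.unop.left.appTop := congrArg (fun k => k.right) h
    have h2 : g.unop.left = g'.unop.left := ext_of_isAffine h1
    apply Quiver.Hom.unop_inj
    exact MorphismProperty.Over.Hom.ext h2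

instance ΓUnder_full (S : Scheme.{u}) [IsAffine S] : (ΓUnder S).Full where
  map_surjective {Y Y'} ψ := by
    let A : Scheme.{u} := Y.unop.left
    let B : Scheme.{u} := Y'.unop.left
    haveI : IsAffine A := isAffine_left Y.unop
    haveI : IsAffine B := isAffine_left Y'.unop
    let ψr : Γ(A, ⊤) ⟶ Γ(B, ⊤) := ψ.right
    let m : B ⟶ A := B.toSpecΓ ≫ Spec.map ψr ≫ A.isoSpec.inv
    have hm : m.appTop = ψr := appTop_mk ψr
    have hw : m ≫ sHom Y.unop = sHom Y'.unop := by
      apply ext_of_isAffine
      rw [Scheme.Hom.comp_appTop, hm]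
      exact Under.w ψ
    refine ⟨(MorphismProperty.Over.homMk m hw trivial : Y'.unop ⟶ Y.unop).op, ?_⟩
    apply Under.UnderMorphism.ext
    exact hm

instance ΓUnder_essSurj (S : Scheme.{u}) [IsAffine S] : (ΓUnder S).EssSurj where
  mem_essImage A := by
    let f : Spec A.right ⟶ S := Spec.map A.hom ≫ S.isoSpec.inv
    have hf : affProp f := by
      show IsAffineHom f
      infer_instance
    let Y : AH S := MorphismProperty.Over.mk ⊤ f hf
    refine ⟨Opposite.op Y, ⟨Under.isoMk (Scheme.ΓSpecIso A.right) ?_⟩⟩
    show f.appTop ≫ (Scheme.ΓSpecIso A.right).hom = A.hom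
    simp [f, Scheme.isoSpec]

instance ΓUnder_isEquivalence (S : Scheme.{u}) [IsAffine S] : (ΓUnder S).IsEquivalence where

end H9FE
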