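import Mathlib
import Groth.Prelude.Def_FEt
import Groth.Agent.Lib.Helper9.FE.Basic
import Groth.Agent.Lib.Helper9.FE.AffDict

/-! helper9: base change of affine schemes over affine bases, in terms of algebras. -/

open CategoryTheory CategoryTheory.Limits AlgebraicGeometry MorphismProperty
universe u
set_option linter.style.haveILetI false
set_option linter.unusedSectionVars false
set_option backward.isDefEq.respectTransparency false
namespace H9FE


variable {S S' : Scheme.{u}} (f : S' ⟶ S)

theorem pullback_map_fst {Y Y' : AH S} (g : Y' ⟶ Y) :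
    ((MorphismProperty.Over.pullback affProp.{u} ⊤ f).map g).left ≫ pullback.fst (sHom Y) f =
      pullback.fst (sHom Y') f ≫ g.left := by
  simp [MorphismProperty.Over.pullback]

theorem pullback_map_snd {Y Y' : AH S} (g : Y' ⟶ Y) :
    ((MorphismProperty.Over.pullback affProp.{u} ⊤ f).map g).left ≫ pullback.snd (sHom Y) f =
      pullback.snd (sHom Y') f := by
  simp [MorphismProperty.Over.pullback]

variable [IsAffine S] [IsAffine S']

/-- the pushout square of global sections attached to a base change of an affine scheme -/
theorem isPushout_bc (Y : AH S) :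
    IsPushout (sHom Y).appTop f.appTop (pullback.fst (sHom Y) f).appTop
      (pullback.snd (sHom Y) f).appTop := by
  haveI : IsAffine Y.left := isAffine_left Y
  exact isPushout_appTop_of_isPullback (IsPullback.of_hasPullback (sHom Y) f)

/-- base change of affine schemes corresponds to pushout of algebras -/
noncomputable def bcIso : (MorphismProperty.Over.pullback affProp.{u} ⊤ f).op ⋙ ΓUnder S' ≅
    ΓUnder S ⋙ Under.pushout f.appTop :=
  NatIso.ofComponents
    (fun Y => Under.isoMk (isPushout_bc f Y.unop).isoPushout (by
      show (pullback.snd (sHom Y.unop) f).appTop ≫ (isPushout_bc f Y.unop).isoPushout.hom =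
        pushout.inr _ _
      exact (isPushout_bc f Y.unop).inr_isoPushout_hom))
    (by
      intro Y Y' g
      apply Under.UnderMorphism.ext
      apply (isPushout_bc f Y.unop).hom_ext
      · show (pullback.fst (sHom Y.unop) f).appTop ≫
          ((MorphismProperty.Over.pullback affProp.{u} ⊤ f).map g.unop).left.appTop ≫
            (isPushout_bc f Y'.unop).isoPushout.hom =
          (pullback.fst (sHom Y.unop) f).appTop ≫ (isPushout_bc f Y.unop).isoPushout.hom ≫
            pushout.desc (g.unop.left.appTop ≫ pushout.inl _ _) (pushout.inr _ _) _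
        rw [← Category.assoc, ← Scheme.Hom.comp_appTop, pullback_map_fst, Scheme.Hom.comp_appTop,
          Category.assoc, (isPushout_bc f Y'.unop).inl_isoPushout_hom,
          ← Category.assoc, (isPushout_bc f Y.unop).inl_isoPushout_hom, pushout.inl_desc]
      · show (pullback.snd (sHom Y.unop) f).appTop ≫
          ((MorphismProperty.Over.pullback affProp.{u} ⊤ f).map g.unop).left.appTop ≫
            (isPushout_bc f Y'.unop).isoPushout.hom =
          (pullback.snd (sHom Y.unop) f).appTop ≫ (isPushout_bc f Y.unop).isoPushout.hom ≫
            pushout.desc (g.unop.left.appTop ≫ pushout.inl _ _) (pushout.inr _ _) _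
        rw [← Category.assoc, ← Scheme.Hom.comp_appTop, pullback_map_snd,
          (isPushout_bc f Y'.unop).inr_isoPushout_hom,
          ← Category.assoc, (isPushout_bc f Y.unop).inr_isoPushout_hom, pushout.inr_desc])

/-- flat base change between affine bases preserves finite colimits of affine schemes -/
theorem preservesColimitsOfShape_pullback_of_flat [Flat f] (J : Type) [SmallCategory J]
    [FinCategory J] :
    PreservesColimitsOfShape J (MorphismProperty.Over.pullback affProp.{u} ⊤ f) := by
  haveI : PreservesFiniteLimits (Under.pushout f.appTop) :=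
    CommRingCat.Under.preservesFiniteLimits_of_flat _ f.flat_appTop
  haveI : PreservesLimitsOfShape Jᵒᵖ (ΓUnder S ⋙ Under.pushout f.appTop) := inferInstance
  haveI : PreservesLimitsOfShape Jᵒᵖ
      ((MorphismProperty.Over.pullback affProp.{u} ⊤ f).op ⋙ ΓUnder S') :=
    preservesLimitsOfShape_of_natIso (bcIso f).symm
  haveI : PreservesLimitsOfShape Jᵒᵖ (MorphismProperty.Over.pullback affProp.{u} ⊤ f).op :=
    preservesLimitsOfShape_of_reflects_of_preserves _ (ΓUnder S')
  exact preservesColimitsOfShape_of_op _ _

theorem hasColimitsOfShape_of_isAffine (S : Scheme.{u}) [IsAffine S] (J : Type) [SmallCategory J] :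
    HasColimitsOfShape J (AH S) := by
  haveI : HasLimitsOfShape Jᵒᵖ (Under Γ(S, ⊤)) := inferInstance
  haveI : HasLimitsOfShape Jᵒᵖ (AH S)ᵒᵖ :=
    Adjunction.hasLimitsOfShape_of_equivalence (ΓUnder S)
  exact hasColimitsOfShape_of_hasLimitsOfShape_op
end H9FE
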