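import Mathlib
import Groth.Prelude.Def_FEt
import Groth.Agent.Lib.Helper9.FE.Basic
import Groth.Agent.Lib.Helper9.FE.AffDict
import Groth.Agent.Lib.Helper9.FE.AffBC

/-! helper9: finite colimits of schemes affine over an arbitrary base, by gluing. -/

open CategoryTheory CategoryTheory.Limits AlgebraicGeometry MorphismProperty
universe u
set_option linter.style.haveILetI false
set_option linter.unusedSectionVars false
set_option backward.isDefEq.respectTransparency false
namespace H9FE


variable (X : Scheme.{u}) {J : Type} [SmallCategory J] [FinCategory J] (D : J ⥤ AH X)

instance (U : X.directedAffineCover.I₀) : IsAffine (X.directedAffineCover.X U) := U.2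

instance {U V : X.directedAffineCover.I₀} (h : U ⟶ V) :
    PreservesColimitsOfShape J
      (MorphismProperty.Over.pullback affProp.{u} ⊤ (X.directedAffineCover.trans h)) :=
  preservesColimitsOfShape_pullback_of_flat _ J

instance (U : X.directedAffineCover.I₀) :
    HasColimit (D ⋙ MorphismProperty.Over.pullback affProp.{u} ⊤ (X.directedAffineCover.f U)) :=
  haveI := hasColimitsOfShape_of_isAffine (X.directedAffineCover.X U) J
  inferInstance

/-- the gluing data for the colimit of `D` -/
noncomputable def glueData : Scheme.Cover.ColimitGluingData D X.directedAffineCover where
  cocone U := colimit.cocone _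
  isColimit U := colimit.isColimit _
  prop_trans {U V} h := by
    show IsAffineHom _
    infer_instance

variable (X : Scheme.{u}) {J : Type} [SmallCategory J] [FinCategory J] (D : J ⥤ AH X)

theorem hasColimitsOfShape_AH : HasColimitsOfShape J (AH X) :=
  ⟨fun D => ⟨⟨⟨_, (glueData X D).isColimitGluedCocone⟩⟩⟩⟩

/-- the restriction of the glued cocone to an affine open is the local colimit cocone -/
noncomputable def restrGluedIso (U : X.directedAffineCover.I₀) :
    (MorphismProperty.Over.pullback affProp.{u} ⊤ (X.directedAffineCover.f U)).mapCocone
      (glueData X D).gluedCocone ≅ (glueData X D).cocone U :=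
  Cocone.ext ((glueData X D).pullbackGluedIso U) (fun a => by
    rw [← Iso.eq_comp_inv]
    apply MorphismProperty.Over.Hom.ext
    apply pullback.hom_ext
    · have h1 : ((glueData X D).pullbackGluedIso U).inv.left ≫
          pullback.fst (glueData X D).gluedCocone.pt.hom (X.directedAffineCover.f U) =
          colimit.ι (glueData X D).relativeGluingData.functor U :=
        (glueData X D).pullbackGluedIso_inv_fst U
      have h2 := (glueData X D).fst_gluedCocone_ι a U
      rw [Functor.mapCocone_ι_app, pullback_map_fst, MorphismProperty.Comma.comp_left,
        Category.assoc, h1]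
      exact h2
    · have h1 : ((glueData X D).pullbackGluedIso U).inv.left ≫
          pullback.snd (glueData X D).gluedCocone.pt.hom (X.directedAffineCover.f U) =
          ((glueData X D).cocone U).pt.hom :=
        (glueData X D).pullbackGluedIso_inv_snd U
      rw [Functor.mapCocone_ι_app, pullback_map_snd, MorphismProperty.Comma.comp_left,
        Category.assoc, h1]
      exact (MorphismProperty.Over.w (((glueData X D).cocone U).ι.app a)).symm)

variable (X : Scheme.{u}) {J : Type} [SmallCategory J] [FinCategory J] (D : J ⥤ AH X)

/-- restriction to an affine open preserves finite colimits of affine schemes -/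
theorem preservesColimitsOfShape_restrict (U : X.affineOpens) :
    PreservesColimitsOfShape J (MorphismProperty.Over.pullback affProp.{u} ⊤ U.1.ι) where
  preservesColimit {D} :=
    preservesColimit_of_preserves_colimit_cocone (glueData X D).isColimitGluedCocone
      (IsColimit.ofIsoColimit ((glueData X D).isColimit U) (restrGluedIso X D U).symm)

end H9FE
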