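import Mathlib
import Groth.Prelude.Def_FEt
import Groth.Agent.Lib.Helper9.FE.Basic
import Groth.Agent.Lib.Helper9.FE.AffDict
import Groth.Agent.Lib.Helper9.FE.AffBC
import Groth.Agent.Lib.Helper9.FE.GlueAH

/-! helper9: finite colimits of finite étale covers, given the ring-level statement that the
corresponding limits of finite étale algebras are finite étale. -/

open CategoryTheory CategoryTheory.Limits AlgebraicGeometry MorphismProperty
universe u
set_option linter.style.haveILetI false
set_option linter.unusedSectionVars false
set_option backward.isDefEq.respectTransparency false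
namespace H9FE


/-- an algebra under `R` is finite étale -/
def IsFE {R : CommRingCat.{u}} (A : Under R) : Prop := A.hom.hom.Finite ∧ A.hom.hom.Etale

theorem IsFE.of_iso {R : CommRingCat.{u}} {A B : Under R} (e : A ≅ B) (h : IsFE A) : IsFE B := by
  have hw : B.hom = A.hom ≫ e.hom.right := (Under.w e.hom).symm
  have hb : Function.Bijective e.hom.right.hom :=
    ConcreteCategory.bijective_of_isIso e.hom.right
  constructor
  · rw [hw, CommRingCat.hom_comp]
    exact RingHom.Finite.comp (RingHom.Finite.of_surjective _ hb.2) h.1
  · rw [hw, CommRingCat.hom_comp]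
    exact RingHom.Etale.respectsIso.1 _ (RingEquiv.ofBijective _ hb) h.2

theorem fetProp_iff_isFE {S : Scheme.{u}} [IsAffine S] (Y : AH S) :
    FEt.prop (sHom Y) ↔ IsFE ((ΓUnder S).obj (Opposite.op Y)) := by
  haveI := isAffine_left Y
  show (IsFinite (sHom Y) ∧ Etale (sHom Y)) ↔
    ((sHom Y).appTop.hom.Finite ∧ (sHom Y).appTop.hom.Etale)
  rw [HasAffineProperty.iff_of_isAffine (P := @IsFinite),
    HasRingHomProperty.iff_of_isAffine (P := @Etale)]
  simp [isAffine_left Y]


/-- shape `I` : limits of finite étale algebras are finite étale -/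
def LimFE (I : Type) [SmallCategory I] : Prop :=
  ∀ (R : CommRingCat.{u}) (K : I ⥤ Under R) (c : Cone K), IsLimit c →
    (∀ i, IsFE (K.obj i)) → IsFE c.pt

variable {X : Scheme.{u}} {J : Type} [SmallCategory J] [FinCategory J]

theorem fetProp_colimit_pt (hJ : LimFE.{u} Jᵒᵖ) (D : J ⥤ FEt.Cat X)
    (c : Cocone (D ⋙ toAH X)) (hc : IsColimit c) : FEt.prop (sHom c.pt) := by
  rw [IsZariskiLocalAtTarget.iff_of_openCover (P := FEt.prop.{u}) X.directedAffineCover]
  intro U
  haveI : IsAffine (X.directedAffineCover.X U) := U.2
  haveI : PreservesColimitsOfShape J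
      (MorphismProperty.Over.pullback affProp.{u} ⊤ (X.directedAffineCover.f U)) :=
    preservesColimitsOfShape_restrict (J := J) X U
  let F := MorphismProperty.Over.pullback affProp.{u} ⊤ (X.directedAffineCover.f U)
  have hcU : IsColimit (F.mapCocone c) := isColimitOfPreserves F hc
  have hlim : IsLimit ((ΓUnder (X.directedAffineCover.X U)).mapCone (F.mapCocone c).op) :=
    isLimitOfPreserves _ hcU.op
  have hfe := hJ _ _ _ hlim (fun j => by
    show IsFE ((ΓUnder (X.directedAffineCover.X U)).obj (Opposite.op (F.obj ((toAH X).obj (D.obj j.unop)))))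
    rw [← fetProp_iff_isFE]
    exact FEt.prop.pullback_snd _ _ (D.obj j.unop).prop)
  exact (fetProp_iff_isFE (F.obj c.pt)).mpr hfe

variable {X : Scheme.{u}} {J : Type} [SmallCategory J] [FinCategory J]

/-- lift a cocone of affine schemes with finite étale point to a cocone of finite étale covers -/
noncomputable def liftCocone (D : J ⥤ FEt.Cat X) (c : Cocone (D ⋙ toAH X))
    (h : FEt.prop (sHom c.pt)) : Cocone D where
  pt := MorphismProperty.Over.mk ⊤ (sHom c.pt) h
  ι :=
    { app := fun j => MorphismProperty.Over.homMk (c.ι.app j).left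
        (MorphismProperty.Over.w (c.ι.app j)) trivial
      naturality := fun j j' f => by
        apply MorphismProperty.Over.Hom.ext
        have := congrArg (fun k => k.left) (c.ι.naturality f)
        simp only [Functor.const_obj_obj, Functor.const_obj_map, Category.comp_id] at this
        simp only [Functor.const_obj_obj, Functor.const_obj_map, Category.comp_id]
        exact this }

/-- the lifted cocone maps to the original one -/
noncomputable def liftCoconeIso (D : J ⥤ FEt.Cat X) (c : Cocone (D ⋙ toAH X))
    (h : FEt.prop (sHom c.pt)) : (toAH X).mapCocone (liftCocone D c h) ≅ c :=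
  Cocone.ext (MorphismProperty.Over.isoMk (Iso.refl _) (by simp [liftCocone])) (fun j => by
    apply MorphismProperty.Over.Hom.ext
    simp only [liftCocone, Functor.mapCocone_ι_app, MorphismProperty.Comma.comp_left]
    exact Category.comp_id _)

theorem hasColimitsOfShape_fet (hJ : LimFE.{u} Jᵒᵖ) : HasColimitsOfShape J (FEt.Cat X) := by
  haveI := hasColimitsOfShape_AH (J := J) X
  refine ⟨fun D => ?_⟩
  let c := colimit.cocone (D ⋙ toAH X)
  have hc : IsColimit c := colimit.isColimit _
  have h := fetProp_colimit_pt hJ D c hc
  exact ⟨⟨⟨liftCocone D c h,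
    isColimitOfReflects (toAH X) (IsColimit.ofIsoColimit hc (liftCoconeIso D c h).symm)⟩⟩⟩

/-- the inclusion into affine schemes preserves these colimits -/
theorem toAH_preservesColimitsOfShape (hJ : LimFE.{u} Jᵒᵖ) :
    PreservesColimitsOfShape J (toAH X) := by
  haveI := hasColimitsOfShape_AH (J := J) X
  refine ⟨fun {D} => ?_⟩
  let c := colimit.cocone (D ⋙ toAH X)
  have hc : IsColimit c := colimit.isColimit _
  have h := fetProp_colimit_pt hJ D c hc
  exact preservesColimit_of_preserves_colimit_cocone
    (isColimitOfReflects (toAH X) (IsColimit.ofIsoColimit hc (liftCoconeIso D c h).symm))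
    (IsColimit.ofIsoColimit hc (liftCoconeIso D c h).symm)

end H9FE
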