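import Mathlib
import Groth.Prelude.Def_FEt
import Groth.Agent.Lib.Helper9.FE.Basic
import Groth.Agent.Lib.Helper1.FEtFiber

/-! helper9: the fibre functor of finite étale covers at a geometric point, with values in finite
sets; it preserves finite limits. -/

open CategoryTheory CategoryTheory.Limits AlgebraicGeometry MorphismProperty
universe u
set_option linter.style.haveILetI false
set_option linter.unusedSectionVars false
set_option backward.isDefEq.respectTransparency false
namespace H9FE

variable {X : Scheme.{u}} {Ω : Type u} [Field Ω] (ξ : Spec (CommRingCat.of Ω) ⟶ X)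

/-- the fibre functor with values in finite sets -/
noncomputable def fiberFin : FEt.Cat X ⥤ FintypeCat.{u} :=
  ObjectProperty.lift _ (FEt.fiber ξ) (fun Y => Groth.Agent.Helper1.FEtFiber.fiber_finite ξ Y)

noncomputable def fiberFinIso : fiberFin ξ ⋙ FintypeCat.incl ≅ FEt.fiber ξ :=
  ObjectProperty.liftCompιIso _ _ _

/-- the point `ξ` as an object over `X` -/
noncomputable abbrev ptOver : Over X := Over.mk ξ

/-- the fibre functor is corepresented by the geometric point -/
noncomputable def fiberCorep : FEt.fiber ξ ≅
    MorphismProperty.Over.forget FEt.prop.{u} ⊤ X ⋙ coyoneda.obj (Opposite.op (ptOver ξ)) :=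
  NatIso.ofComponents (fun Y =>
    { hom := TypeCat.ofHom fun s => Over.homMk s.1 s.2
      inv := TypeCat.ofHom fun m => ⟨m.left, Over.w m⟩
      hom_inv_id := by
        ext s
        rfl
      inv_hom_id := by
        ext m
        rfl })
    (by
      intro Y Z f
      ext s
      rfl)

variable {X : Scheme.{u}} {Ω : Type u} [Field Ω] (ξ : Spec (CommRingCat.of Ω) ⟶ X)

instance fiber_preservesFiniteLimits : PreservesFiniteLimits (FEt.fiber ξ) :=
  preservesFiniteLimits_of_natIso (fiberCorep ξ).symm

instance fiberFin_preservesFiniteLimits : PreservesFiniteLimits (fiberFin ξ) where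
  preservesFiniteLimits J _ _ := by
    haveI : PreservesLimitsOfShape J (fiberFin ξ ⋙ FintypeCat.incl) :=
      preservesLimitsOfShape_of_natIso (fiberFinIso ξ).symm
    exact preservesLimitsOfShape_of_reflects_of_preserves (fiberFin ξ) FintypeCat.incl

end H9FE
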