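import Mathlib
import Groth.Agent.Lib.Helper9.SF.PointsFacts
import Groth.Agent.Lib.Helper9.SF.OrbitPoints

/-! helper9: geometric points extend along injective maps of finite étale algebras. -/

open TensorProduct
universe u
set_option linter.style.haveILetI false
set_option linter.unusedSectionVars false
namespace H9FE
open H9SF


variable {R Ω : Type*} [CommRing R] [Field Ω] [IsAlgClosed Ω] [Algebra R Ω]

/-- points extend along injective maps of finite étale algebras -/
theorem exists_pt_extension {L A : Type*} [CommRing L] [Algebra R L] [CommRing A] [Algebra R A]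
    [Module.Finite R L] [Algebra.Etale R L] [Module.Finite R A] [Algebra.Etale R A]
    (f : L →ₐ[R] A) (hf : Function.Injective f) (ψ : L →ₐ[R] Ω) :
    ∃ ψ' : A →ₐ[R] Ω, ψ'.comp f = ψ := by
  obtain ⟨e, he⟩ := exists_isKerIdem f
  obtain ⟨𝔮, h𝔮⟩ := fibComap_surjective_of_injective (Ω := Ω) f he hf (fibOfPt ψ)
  obtain ⟨ψ', rfl⟩ := fibOfPt_surjective 𝔮
  rw [fibComap_fibOfPt] at h𝔮
  exact ⟨ψ', fibOfPt_injective h𝔮⟩

end H9FE
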