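import Mathlib
import Groth.Agent.Lib.Helper9.SF.FixedDescent

/-! helper9: invariants of finite étale algebras under finite families of endomorphisms are finite
étale (no constant-rank or noetherian hypothesis). -/

open TensorProduct
universe u
set_option linter.style.haveILetI false
set_option linter.unusedSectionVars false
namespace H9FE
open H9SF


variable {R A : Type u} [CommRing R] [CommRing A] [Algebra R A] [Module.Finite R A]
  [Algebra.Etale R A] {Γ : Type*} [Finite Γ] (σ : Γ → (A →ₐ[R] A))

/-- invariants of a finite étale algebra of constant rank are étale -/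
theorem fixedSub_etale_of_rank {n : ℕ} (hn : Module.rankAtStalk (R := R) A = n) :
    Algebra.Etale R (fixedSub σ) := by
  classical
  haveI := Fintype.ofFinite Γ
  obtain ⟨T, _, _, _, _, _, hT⟩ := Algebra.IsFiniteSplit.exists_tensorProduct_of_etale hn
  obtain ⟨m, ⟨e⟩⟩ := hT.nonempty_algEquiv_fun
  exact fixedSub_etale_of_trivialization σ e

omit [Finite Γ] in
theorem exists_rank_const (p : PrimeSpectrum R) : ∃ f : R, f ∉ p.asIdeal ∧
    ∀ q : PrimeSpectrum R, f ∉ q.asIdeal →
      Module.rankAtStalk (R := R) A q = Module.rankAtStalk (R := R) A p := by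
  haveI : Module.FinitePresentation R A := Module.FinitePresentation.of_finite_of_finitePresentation R A
  have hlc : IsLocallyConstant (Module.rankAtStalk (R := R) A) := Module.isLocallyConstant_rankAtStalk
  have hopen : IsOpen {q : PrimeSpectrum R | Module.rankAtStalk (R := R) A q =
      Module.rankAtStalk (R := R) A p} := hlc.isOpen_fiber _
  obtain ⟨f, hpf, hsub⟩ := PrimeSpectrum.isBasis_basic_opens.exists_subset_of_mem_open
    (show p ∈ {q : PrimeSpectrum R | Module.rankAtStalk (R := R) A q =
      Module.rankAtStalk (R := R) A p} from rfl) hopen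
  obtain ⟨U, ⟨g, rfl⟩, rfl⟩ := hpf
  exact ⟨g, hsub.1, fun q hq => hsub.2 hq⟩


variable {R A : Type u} [CommRing R] [CommRing A] [Algebra R A] [Module.Finite R A]
  [Algebra.Etale R A] {Γ : Type*} [Finite Γ] (σ : Γ → (A →ₐ[R] A))

/-- invariants of a finite étale algebra under a finite family of endomorphisms are étale -/
theorem fixedSub_etale_gen : Algebra.Etale R (fixedSub σ) := by
  classical
  rw [← RingHom.etale_algebraMap]
  let s : Set R := {f | ∃ n : ℕ, ∀ q : PrimeSpectrum R, f ∉ q.asIdeal →
    Module.rankAtStalk (R := R) A q = n}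
  have hs : Ideal.span s = ⊤ := by
    by_contra h
    obtain ⟨m, hm, hle⟩ := Ideal.exists_le_maximal _ h
    obtain ⟨f, hf, hq⟩ := exists_rank_const (A := A) ⟨m, hm.isPrime⟩
    exact hf (hle (Ideal.subset_span ⟨_, hq⟩))
  refine RingHom.Etale.ofLocalizationSpan.ofIsLocalization RingHom.Etale.respectsIso _ s hs ?_
  rintro ⟨r, n, hr⟩
  let Rr := Localization.Away r
  let S := fixedSub σ
  have hloc : IsLocalization.Away (algebraMap R S r) (S ⊗[R] Rr) := by
    have := IsLocalization.tensor (S := S) (A := Rr) (Submonoid.powers r)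
    rwa [Algebra.algebraMapSubmonoid_powers] at this
  -- the base-changed algebra has constant rank
  have hrank : Module.rankAtStalk (R := Rr) (Rr ⊗[R] A) = n := by
    funext q
    rw [Module.rankAtStalk_baseChange]
    apply hr
    intro hmem
    have hu : IsUnit (algebraMap R Rr r) := IsLocalization.Away.algebraMap_isUnit r
    exact q.isPrime.ne_top (Ideal.eq_top_of_isUnit_mem _ hmem hu)
  haveI : Algebra.Etale Rr (fixedSub (bcFam (B := Rr) σ)) :=
    fixedSub_etale_of_rank (bcFam (B := Rr) σ) hrank
  haveI : Algebra.Etale Rr (Rr ⊗[R] S) :=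
    Algebra.Etale.of_equiv (AlgEquiv.ofBijective (fixedComparison (B := Rr) σ)
      (fixedComparison_bijective σ)).symm
  have h1 : (algebraMap Rr (Rr ⊗[R] S)).Etale := RingHom.etale_algebraMap.mpr inferInstance
  have h2 := RingHom.Etale.respectsIso.1 _ (Algebra.TensorProduct.comm R Rr S).toRingEquiv h1
  refine ⟨Rr, S ⊗[R] Rr, inferInstance, inferInstance, inferInstance, inferInstance, inferInstance,
    hloc, (Algebra.TensorProduct.includeRight : Rr →ₐ[R] S ⊗[R] Rr).toRingHom, ?_, ?_⟩
  · ext x
    simp [Algebra.TensorProduct.algebraMap_apply]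
    rfl
  · convert h2 using 1
    ext x
    simp


variable {R A : Type u} [CommRing R] [CommRing A] [Algebra R A] [Module.Finite R A]
  [Algebra.Etale R A] {Γ : Type*} [Finite Γ] (σ : Γ → (A →ₐ[R] A))

/-- invariants of a finite étale algebra under a finite family of endomorphisms are finite -/
theorem fixedSub_finite_gen : Module.Finite R (fixedSub σ) := by
  haveI := fixedSub_etale_gen σ
  haveI : Algebra.IsIntegral R A := Algebra.IsIntegral.of_finite R A
  haveI : Algebra.IsIntegral R (fixedSub σ) := ⟨fun x => by
    have h : IsIntegral R (x : A) := Algebra.IsIntegral.isIntegral _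
    exact (isIntegral_algHom_iff (fixedSub σ).val Subtype.val_injective).mp h⟩
  haveI : Algebra.FiniteType R (fixedSub σ) := inferInstance
  exact Algebra.IsIntegral.finite

end H9FE
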