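import Mathlib
import Groth.Prelude.Def_FEt
import Groth.Agent.Lib.Helper9.FE.FetColim
import Groth.Agent.Lib.Helper9.FE.FixedRing

/-! helper9: the limit of a finite group acting on a finite étale algebra is the algebra of
invariants, which is finite étale. -/

open CategoryTheory CategoryTheory.Limits AlgebraicGeometry MorphismProperty
universe u
set_option linter.style.haveILetI false
set_option linter.unusedSectionVars false
set_option backward.isDefEq.respectTransparency false
namespace H9FE
open H9SF


variable {G : Type} [Group G] {R : CommRingCat.{u}} (K : (SingleObj G)ᵒᵖ ⥤ Under R)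

/-- the underlying ring of the diagram -/
abbrev KA : Type u := (K.obj (Opposite.op (SingleObj.star G))).right

noncomputable instance : Algebra R (KA K) := (K.obj (Opposite.op (SingleObj.star G))).hom.hom.toAlgebra

/-- the action maps as algebra endomorphisms -/
noncomputable def Kσ (g : G) : KA K →ₐ[R] KA K :=
  { (K.map (Quiver.Hom.op (show SingleObj.star G ⟶ SingleObj.star G from g))).right.hom with
    commutes' := fun r => by
      have h := Under.w (K.map (Quiver.Hom.op (show SingleObj.star G ⟶ SingleObj.star G from g)))
      exact congrArg (fun k => k.hom r) h }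

variable {G : Type} [Group G] {R : CommRingCat.{u}} (K : (SingleObj G)ᵒᵖ ⥤ Under R)

/-- the cone on the invariants -/
noncomputable def fixCone : Cone K where
  pt := Under.mk (CommRingCat.ofHom (algebraMap R (fixedSub (Kσ K))))
  π :=
    { app := fun _ => Under.homMk (CommRingCat.ofHom (fixedSub (Kσ K)).val.toRingHom) (by
        ext r
        rfl)
      naturality := fun j j' f => by
        apply Under.UnderMorphism.ext
        apply CommRingCat.hom_ext
        apply RingHom.ext
        intro (x : fixedSub (Kσ K))
        show (x : KA K) = Kσ K f.unop x
        exact (x.2 f.unop).symm }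

/-- the cone on the invariants is a limit cone -/
noncomputable def fixConeIsLimit : IsLimit (fixCone K) where
  lift s := Under.homMk (CommRingCat.ofHom
    (RingHom.codRestrict (s.π.app (Opposite.op (SingleObj.star G))).right.hom
      (fixedSub (Kσ K)).toSubring (fun x g => by
        have h := s.π.naturality (Quiver.Hom.op (show SingleObj.star G ⟶ SingleObj.star G from g))
        have h2 := congrArg (fun k => k.right.hom x) h
        exact h2.symm))) (by
      ext r
      apply Subtype.ext
      have h := Under.w (s.π.app (Opposite.op (SingleObj.star G)))
      exact congrArg (fun k => k.hom r) h)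
  fac s j := by
    apply Under.UnderMorphism.ext
    ext x
    rfl
  uniq s m hm := by
    apply Under.UnderMorphism.ext
    ext x
    apply Subtype.ext
    have h := congrArg (fun k => k.right.hom x) (hm (Opposite.op (SingleObj.star G)))
    exact h

variable {G : Type} [Group G]

theorem limFE_singleObj [Finite G] : LimFE.{u} (SingleObj G)ᵒᵖ := by
  intro R K c hc hK
  have e : c.pt ≅ (fixCone K).pt := hc.conePointUniqueUpToIso (fixConeIsLimit K)
  refine IsFE.of_iso e.symm ?_
  have h0 := hK (Opposite.op (SingleObj.star G))
  haveI : Module.Finite R (KA K) := h0.1
  haveI : Algebra.Etale R (KA K) := RingHom.etale_algebraMap.mp h0.2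
  have h1 := fixedSub_finite_gen (Kσ K)
  have h2 := fixedSub_etale_gen (Kσ K)
  exact ⟨RingHom.finite_algebraMap.mpr h1, RingHom.etale_algebraMap.mpr h2⟩

end H9FE
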