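import Mathlib
import Groth.Prelude.Def_FEt
import Groth.Agent.Lib.Helper9.FE.Fiber
import Groth.Agent.Lib.Helper9.FE.FetColim
import Groth.Agent.Lib.Helper9.FE.QuotRing
import Groth.Agent.Lib.Helper9.FE.PointsRing
import Groth.Agent.Lib.Helper9.SF.FibOrbit
/-! helper9: for an affine base the fibre functor preserves quotients by finite groups. -/

open CategoryTheory CategoryTheory.Limits AlgebraicGeometry MorphismProperty
universe u
set_option linter.style.haveILetI false
set_option linter.unusedSectionVars false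
set_option backward.isDefEq.respectTransparency false
namespace H9FE
open H9SF

section Pts
variable {Ω : Type u} [Field Ω]

/-- the morphism from the point attached to a ring map out of the global sections -/
noncomputable def ptOfHom (A : Scheme.{u}) [IsAffine A] (ψ : Γ(A, ⊤) ⟶ CommRingCat.of Ω) :
    Spec (CommRingCat.of Ω) ⟶ A := Spec.map ψ ≫ A.isoSpec.inv

theorem ptOfHom_appTop (A : Scheme.{u}) [IsAffine A] (ψ : Γ(A, ⊤) ⟶ CommRingCat.of Ω) :
    (ptOfHom A ψ).appTop ≫ (Scheme.ΓSpecIso (CommRingCat.of Ω)).hom = ψ := by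
  simp [ptOfHom, Scheme.isoSpec]

/-- the ring map attached to a point -/
noncomputable def homOfPt {A : Scheme.{u}} (s : Spec (CommRingCat.of Ω) ⟶ A) :
    Γ(A, ⊤) ⟶ CommRingCat.of Ω := s.appTop ≫ (Scheme.ΓSpecIso (CommRingCat.of Ω)).hom

theorem homOfPt_comp {A B : Scheme.{u}} (s : Spec (CommRingCat.of Ω) ⟶ A) (g : A ⟶ B) :
    homOfPt (s ≫ g) = g.appTop ≫ homOfPt s := by
  simp [homOfPt]

theorem pt_ext {A : Scheme.{u}} [IsAffine A] (s s' : Spec (CommRingCat.of Ω) ⟶ A)
    (h : homOfPt s = homOfPt s') : s = s' := by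
  apply ext_of_isAffine
  exact (cancel_mono (Scheme.ΓSpecIso (CommRingCat.of Ω)).hom).mp h

theorem homOfPt_ptOfHom (A : Scheme.{u}) [IsAffine A] (ψ : Γ(A, ⊤) ⟶ CommRingCat.of Ω) :
    homOfPt (ptOfHom A ψ) = ψ := ptOfHom_appTop A ψ

end Pts



section AffQuot
variable {S : Scheme.{u}} [IsAffine S] {G : Type} [Group G] [Finite G]
  (D : SingleObj G ⥤ FEt.Cat S) (c : Cocone D) (hc : IsColimit c)

/-- the diagram of algebras -/
noncomputable abbrev KD : (SingleObj G)ᵒᵖ ⥤ Under Γ(S, ⊤) := (D ⋙ toAH S).op ⋙ ΓUnder S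

/-- the limit cone of algebras attached to the colimit cocone -/
noncomputable abbrev ℓc : Cone (KD D) := (ΓUnder S).mapCone ((toAH S).mapCocone c).op

include hc in
theorem ℓc_isLimit : Nonempty (IsLimit (ℓc D c)) := by
  haveI := Fintype.ofFinite G
  haveI := toAH_preservesColimitsOfShape (X := S) (J := SingleObj G) limFE_singleObj
  exact ⟨isLimitOfPreserves (ΓUnder S) (isColimitOfPreserves (toAH S) hc).op⟩

/-- the quotient map on global sections factors through the invariants -/
theorem appTop_eq (h : IsLimit (ℓc D c)) :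
    ((c.ι.app (SingleObj.star G)).left.appTop : Γ(c.pt.left, ⊤) ⟶ Γ((D.obj (SingleObj.star G)).left, ⊤)) =
      (h.conePointUniqueUpToIso (fixConeIsLimit (KD D))).hom.right ≫
        CommRingCat.ofHom (fixedSub (Kσ (KD D))).val.toRingHom := by
  have h1 := h.conePointUniqueUpToIso_hom_comp (fixConeIsLimit (KD D))
    (Opposite.op (SingleObj.star G))
  exact (congrArg (fun k => k.right) h1).symm

end AffQuot



section AffQuot2
variable {S : Scheme.{u}} [IsAffine S] {G : Type} [Group G] [Finite G]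
  (D : SingleObj G ⥤ FEt.Cat S) (c : Cocone D) (hc : IsColimit c)

include hc in
theorem appTop_injective :
    Function.Injective (c.ι.app (SingleObj.star G)).left.appTop.hom := by
  obtain ⟨h⟩ := ℓc_isLimit D c hc
  rw [appTop_eq D c h, CommRingCat.hom_comp]
  intro a b hab
  apply (ConcreteCategory.bijective_of_isIso
      (h.conePointUniqueUpToIso (fixConeIsLimit (KD D))).hom.right).1
  exact Subtype.val_injective hab

include hc in
theorem appTop_mem_fixed (l : Γ(c.pt.left, ⊤)) :
    (c.ι.app (SingleObj.star G)).left.appTop.hom l ∈ fixedSub (Kσ (KD D)) := by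
  obtain ⟨h⟩ := ℓc_isLimit D c hc
  rw [appTop_eq D c h, CommRingCat.hom_comp]
  exact Subtype.property _

include hc in
theorem exists_appTop_eq (a : KA (KD D)) (ha : a ∈ fixedSub (Kσ (KD D))) :
    ∃ l : Γ(c.pt.left, ⊤), (c.ι.app (SingleObj.star G)).left.appTop.hom l = a := by
  obtain ⟨h⟩ := ℓc_isLimit D c hc
  obtain ⟨l, hl⟩ := (ConcreteCategory.bijective_of_isIso
      (h.conePointUniqueUpToIso (fixConeIsLimit (KD D))).hom.right).2 ⟨a, ha⟩
  refine ⟨l, ?_⟩
  rw [appTop_eq D c h, CommRingCat.hom_comp]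
  show ((fixedSub (Kσ (KD D))).val.toRingHom)
    ((h.conePointUniqueUpToIso (fixConeIsLimit (KD D))).hom.right.hom l) = a
  rw [hl]
  rfl

end AffQuot2



section KσFacts
variable {G : Type} [Group G] {R : CommRingCat.{u}} (K : (SingleObj G)ᵒᵖ ⥤ Under R)

theorem Kσ_one : Kσ K 1 = AlgHom.id R (KA K) := by
  apply AlgHom.ext
  intro a
  have h : K.map (Quiver.Hom.op (show SingleObj.star G ⟶ SingleObj.star G from (1 : G))) = 𝟙 _ :=
    K.map_id _
  exact congrArg (fun k => k.right.hom a) h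

theorem Kσ_comp (h g : G) : (Kσ K h).comp (Kσ K g) = Kσ K (g * h) := by
  apply AlgHom.ext
  intro a
  have h1 : K.map (Quiver.Hom.op (show SingleObj.star G ⟶ SingleObj.star G from (g * h))) =
      K.map (Quiver.Hom.op (show SingleObj.star G ⟶ SingleObj.star G from g)) ≫
        K.map (Quiver.Hom.op (show SingleObj.star G ⟶ SingleObj.star G from h)) := by
    rw [← K.map_comp]
    rfl
  exact (congrArg (fun k => k.right.hom a) h1).symm

end KσFacts



section AffFib
variable {S : Scheme.{u}} [IsAffine S] {G : Type} [Group G] [Finite G]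
  {Ω : Type u} [Field Ω] [IsAlgClosed Ω] (ξ : Spec (CommRingCat.of Ω) ⟶ S)
  (D : SingleObj G ⥤ FEt.Cat S) (c : Cocone D) (hc : IsColimit c)

theorem isFE_of_fet (Y : FEt.Cat S) : IsFE ((ΓUnder S).obj (Opposite.op ((toAH S).obj Y))) :=
  (fetProp_iff_isFE ((toAH S).obj Y)).mp Y.prop

include hc in
theorem fib_surj (t : Spec (CommRingCat.of Ω) ⟶ c.pt.left) (ht : t ≫ c.pt.hom = ξ) :
    ∃ s : Spec (CommRingCat.of Ω) ⟶ (D.obj (SingleObj.star G)).left,
      s ≫ (c.ι.app (SingleObj.star G)).left = t := by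
  let R : CommRingCat.{u} := Γ(S, ⊤)
  let Y := D.obj (SingleObj.star G)
  haveI : IsAffine Y.left := isAffine_left ((toAH S).obj Y)
  haveI : IsAffine c.pt.left := isAffine_left ((toAH S).obj c.pt)
  letI : Algebra R Ω := (homOfPt ξ).hom.toAlgebra
  let L : Type u := Γ(c.pt.left, ⊤)
  letI : Algebra R L := c.pt.hom.appTop.hom.toAlgebra
  have hY := isFE_of_fet Y
  have hL := isFE_of_fet c.pt
  haveI : Module.Finite R (KA (KD D)) := hY.1
  haveI : Algebra.Etale R (KA (KD D)) := RingHom.etale_algebraMap.mp hY.2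
  haveI : Module.Finite R L := hL.1
  haveI : Algebra.Etale R L := RingHom.etale_algebraMap.mp hL.2
  let f : L →ₐ[R] KA (KD D) :=
    { (c.ι.app (SingleObj.star G)).left.appTop.hom with
      commutes' := fun r => by
        have h := congrArg Scheme.Hom.appTop (Over.w (c.ι.app (SingleObj.star G)).hom)
        rw [Scheme.Hom.comp_appTop] at h
        exact congrArg (fun k => k.hom r) h }
  have hf : Function.Injective f := appTop_injective D c hc
  let ψ : L →ₐ[R] Ω :=
    { (homOfPt t).hom with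
      commutes' := fun r => by
        have h := homOfPt_comp t c.pt.hom
        rw [ht] at h
        exact (congrArg (fun k => k.hom r) h).symm }
  obtain ⟨ψ', hψ'⟩ := exists_pt_extension f hf ψ
  refine ⟨ptOfHom Y.left (CommRingCat.ofHom ψ'.toRingHom), ?_⟩
  refine pt_ext (A := c.pt.left) _ _ ?_
  rw [homOfPt_comp, homOfPt_ptOfHom]
  apply CommRingCat.hom_ext
  apply RingHom.ext
  intro l
  exact AlgHom.congr_fun hψ' l

end AffFib



section AffFib2
variable {S : Scheme.{u}} [IsAffine S] {G : Type} [Group G] [Finite G]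
  {Ω : Type u} [Field Ω] [IsAlgClosed Ω] (ξ : Spec (CommRingCat.of Ω) ⟶ S)
  (D : SingleObj G ⥤ FEt.Cat S) (c : Cocone D) (hc : IsColimit c)

include hc in
theorem fib_orb (s s' : Spec (CommRingCat.of Ω) ⟶ (D.obj (SingleObj.star G)).left)
    (hs : s ≫ (D.obj (SingleObj.star G)).hom = ξ) (hs' : s' ≫ (D.obj (SingleObj.star G)).hom = ξ)
    (h : s ≫ (c.ι.app (SingleObj.star G)).left = s' ≫ (c.ι.app (SingleObj.star G)).left) :
    ∃ g : G, s ≫ (D.map (show SingleObj.star G ⟶ SingleObj.star G from g)).left = s' := by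
  haveI := Fintype.ofFinite G
  let R : CommRingCat.{u} := Γ(S, ⊤)
  let Y := D.obj (SingleObj.star G)
  haveI : IsAffine Y.left := isAffine_left ((toAH S).obj Y)
  letI : Algebra R Ω := (homOfPt ξ).hom.toAlgebra
  have hY := isFE_of_fet Y
  haveI : Module.Finite R (KA (KD D)) := hY.1
  let φ : KA (KD D) →ₐ[R] Ω :=
    { (homOfPt s).hom with
      commutes' := fun r => by
        have h := homOfPt_comp s Y.hom
        rw [hs] at h
        exact (congrArg (fun k => k.hom r) h).symm }
  let ψ : KA (KD D) →ₐ[R] Ω :=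
    { (homOfPt s').hom with
      commutes' := fun r => by
        have h := homOfPt_comp s' Y.hom
        rw [hs'] at h
        exact (congrArg (fun k => k.hom r) h).symm }
  have hφψ : ∀ a ∈ fixedSub (Kσ (KD D)), φ a = ψ a := by
    intro a ha
    obtain ⟨l, rfl⟩ := exists_appTop_eq D c hc a ha
    have h1 := homOfPt_comp s (c.ι.app (SingleObj.star G)).left
    have h2 := homOfPt_comp s' (c.ι.app (SingleObj.star G)).left
    rw [h] at h1
    have h3 := h1.symm.trans h2
    exact congrArg (fun k => k.hom l) h3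
  obtain ⟨g, hg⟩ := exists_comp_eq_of_eqOn_fixed (Kσ (KD D)) ⟨1, Kσ_one _⟩
    (fun h => ⟨Equiv.mulRight h, fun g => Kσ_comp _ h g⟩) φ ψ hφψ
  refine ⟨g, ?_⟩
  refine pt_ext (A := Y.left) _ _ ?_
  rw [homOfPt_comp]
  apply CommRingCat.hom_ext
  apply RingHom.ext
  intro a
  exact (AlgHom.congr_fun hg a).symm

end AffFib2



section AffFib3
variable {S : Scheme.{u}} [IsAffine S] {G : Type} [Group G] [Finite G]
  {Ω : Type u} [Field Ω] [IsAlgClosed Ω] (ξ : Spec (CommRingCat.of Ω) ⟶ S)

theorem fiberFin_preservesQuot_affine :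
    PreservesColimitsOfShape (SingleObj G) (fiberFin ξ) := by
  refine ⟨fun {D} => ⟨fun {c} hc => ⟨?_⟩⟩⟩
  refine finIsColimitQuot (D ⋙ fiberFin ξ) ((fiberFin ξ).mapCocone c) ?_ ?_
  · intro t
    obtain ⟨s, hs⟩ := fib_surj ξ D c hc t.1 t.2
    refine ⟨⟨s, ?_⟩, Subtype.ext hs⟩
    have h := Over.w (c.ι.app (SingleObj.star G)).hom
    rw [← t.2, ← hs, Category.assoc]
    exact congrArg (s ≫ ·) h.symm
  · intro x y hxy
    obtain ⟨g, hg⟩ := fib_orb ξ D c hc x.1 y.1 x.2 y.2 (congrArg Subtype.val hxy)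
    exact ⟨g, Subtype.ext hg⟩

end AffFib3


end H9FE
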