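import Mathlib
import Groth.Prelude.Def_FEt
import Groth.Agent.Lib.Helper9.FE.FiberQuot
import Groth.Agent.Lib.Helper9.FE.Clopen
import Groth.Agent.Lib.Helper9.FE.Coprod
/-! helper9: the fibre functor preserves epimorphisms and, on a connected base, reflects isomorphisms. -/

open CategoryTheory CategoryTheory.Limits AlgebraicGeometry MorphismProperty
universe u
set_option linter.style.haveILetI false
set_option linter.unusedSectionVars false
set_option backward.isDefEq.respectTransparency false
namespace H9FE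
open H9SF

/-- a nontrivial finite algebra over an algebraically closed field has a rational point -/
theorem exists_algHom_of_finite (Ω : Type*) [Field Ω] [IsAlgClosed Ω] (B : Type*) [CommRing B]
    [Algebra Ω B] [Module.Finite Ω B] [Nontrivial B] : Nonempty (B →ₐ[Ω] Ω) := by
  obtain ⟨m, hm⟩ := Ideal.exists_maximal B
  letI := Ideal.Quotient.field m
  haveI : Module.Finite Ω (B ⧸ m) := Module.Finite.of_surjective
    (Ideal.Quotient.mkₐ Ω m).toLinearMap (Ideal.Quotient.mkₐ_surjective Ω m)
  have hb : Function.Bijective (algebraMap Ω (B ⧸ m)) :=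
    IsAlgClosed.algebraMap_bijective_of_isIntegral
  let e : Ω ≃ₐ[Ω] (B ⧸ m) := AlgEquiv.ofBijective (Algebra.ofId Ω (B ⧸ m)) hb
  exact ⟨(e.symm : (B ⧸ m) →ₐ[Ω] Ω).comp (Ideal.Quotient.mkₐ Ω m)⟩

variable {Ω : Type u} [Field Ω] [IsAlgClosed Ω]

/-- geometric points lift along finite morphisms, over any point of the source -/
theorem exists_pt_lift {W T : Scheme.{u}} (g : W ⟶ T) [IsFinite g]
    (t : Spec (CommRingCat.of Ω) ⟶ T) (w : W)
    (hw : g w = t (default : PrimeSpectrum Ω)) :
    ∃ s : Spec (CommRingCat.of Ω) ⟶ W, s ≫ g = t := by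
  let P := pullback g t
  haveI : IsFinite (pullback.snd g t) := inferInstance
  haveI : IsAffine P := isAffine_of_isAffineHom (pullback.snd g t)
  obtain ⟨p, -, -⟩ := Scheme.Pullback.exists_preimage_pullback (f := g) (g := t) w _ hw
  let B : Type u := Γ(P, ⊤)
  let φ : CommRingCat.of Ω ⟶ Γ(P, ⊤) :=
    (Scheme.ΓSpecIso (CommRingCat.of Ω)).inv ≫ (pullback.snd g t).appTop
  letI : Algebra Ω B := φ.hom.toAlgebra
  haveI : Module.Finite Ω B := by
    show φ.hom.Finite
    rw [CommRingCat.hom_comp]
    refine RingHom.Finite.comp (pullback.snd g t).finite_appTop ?_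
    apply RingHom.Finite.of_surjective
    exact (ConcreteCategory.bijective_of_isIso (Scheme.ΓSpecIso (CommRingCat.of Ω)).inv).2
  haveI : Nontrivial B := by
    haveI : Nonempty (⊤ : P.Opens) := ⟨⟨p, trivial⟩⟩
    exact Scheme.component_nontrivial P ⊤
  obtain ⟨σ⟩ := exists_algHom_of_finite Ω B
  let sec : Spec (CommRingCat.of Ω) ⟶ P := ptOfHom P (CommRingCat.ofHom σ.toRingHom)
  have hsec : sec ≫ pullback.snd g t = 𝟙 _ := by
    apply ext_of_isAffine
    rw [Scheme.Hom.comp_appTop]
    have h1 : φ ≫ CommRingCat.ofHom σ.toRingHom = 𝟙 _ := by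
      apply CommRingCat.hom_ext
      apply RingHom.ext
      intro r
      exact σ.commutes r
    have h2 := ptOfHom_appTop P (CommRingCat.ofHom σ.toRingHom)
    rw [← cancel_epi (Scheme.ΓSpecIso (CommRingCat.of Ω)).inv,
      ← cancel_mono (Scheme.ΓSpecIso (CommRingCat.of Ω)).hom]
    simp only [Category.assoc]
    rw [h2]
    simpa [φ] using h1
  refine ⟨sec ≫ pullback.fst g t, ?_⟩
  rw [Category.assoc, pullback.condition, ← Category.assoc, hsec, Category.id_comp]



theorem isClopen_range {W T : Scheme.{u}} (g : W ⟶ T) [IsFinite g] [Etale g] :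
    IsClopen (Set.range g) :=
  ⟨g.isClosedMap.isClosed_range, g.isOpenMap.isOpen_range⟩



section Conn
variable {X : Scheme.{u}} {Ω : Type u} [Field Ω] [IsAlgClosed Ω]
  (ξ : Spec (CommRingCat.of Ω) ⟶ X)

/-- the clopen part of a finite étale cover, as a finite étale cover -/
noncomputable def clopenObj (Z : FEt.Cat X) (U : Z.left.Opens) (hU : IsClosed (U : Set Z.left)) :
    FEt.Cat X :=
  MorphismProperty.Over.mk ⊤ (U.ι ≫ Z.hom) (FEt.prop.comp_mem _ _ (fetProp_clopen_ι U hU) Z.prop)

/-- on a connected base, a cover with empty geometric fibre is empty -/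
theorem isEmpty_of_fiber_isEmpty [ConnectedSpace X] (W : FEt.Cat X)
    (h : IsEmpty (FEt.fiberObj ξ W)) : IsEmpty W.left := by
  by_contra hne
  rw [not_isEmpty_iff] at hne
  obtain ⟨w0⟩ := hne
  let g : W.left ⟶ X := W.hom
  have hcl : IsClopen (Set.range g) := isClopen_range g
  have huniv : Set.range g = Set.univ := hcl.eq_univ ⟨_, ⟨w0, rfl⟩⟩
  obtain ⟨w, hw⟩ : ξ (default : PrimeSpectrum Ω) ∈ Set.range g := by
    rw [huniv]; trivial
  obtain ⟨s, hs⟩ := exists_pt_lift g ξ w hw
  exact h.false ⟨s, hs⟩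

/-- on a connected base, a morphism of covers which is surjective on a geometric fibre is
surjective -/
theorem surjective_of_fiber_surjective [ConnectedSpace X] {Y Z : FEt.Cat X} (f : Y ⟶ Z)
    (h : Function.Surjective ((FEt.fiber ξ).map f)) : Function.Surjective f.left := by
  have hcl : IsClopen (Set.range f.left) := isClopen_range f.left
  let U : Z.left.Opens := ⟨(Set.range f.left)ᶜ, hcl.1.isOpen_compl⟩
  have hU : IsClosed (U : Set Z.left) := hcl.2.isClosed_compl
  have hemp : IsEmpty (clopenObj Z U hU).left := by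
    apply isEmpty_of_fiber_isEmpty ξ
    refine ⟨fun t => ?_⟩
    obtain ⟨s, hs⟩ := h ⟨t.1 ≫ U.ι, by rw [Category.assoc]; exact t.2⟩
    have h1 : s.1 ≫ f.left = t.1 ≫ U.ι := congrArg Subtype.val hs
    have h2 : (t.1 ≫ U.ι) (default : PrimeSpectrum Ω) ∈ (U : Set Z.left) := by
      rw [Scheme.Hom.comp_apply]
      exact (t.1 (default : PrimeSpectrum Ω)).2
    rw [← h1, Scheme.Hom.comp_apply] at h2
    exact h2 ⟨_, rfl⟩
  intro z
  by_contra hz
  exact hemp.false (⟨z, hz⟩ : U)

/-- a morphism of covers which is surjective is surjective on geometric fibres -/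
theorem fiber_surjective_of_surjective {Y Z : FEt.Cat X} (f : Y ⟶ Z)
    (h : Function.Surjective f.left) : Function.Surjective ((FEt.fiber ξ).map f) := by
  intro t
  obtain ⟨y, hy⟩ := h (t.1 (default : PrimeSpectrum Ω))
  obtain ⟨s, hs⟩ := exists_pt_lift f.left t.1 y hy
  refine ⟨⟨s, ?_⟩, Subtype.ext hs⟩
  rw [← t.2, ← hs, Category.assoc]
  exact congrArg (s ≫ ·) (Over.w f.hom).symm

end Conn



section EpiSurj
variable {X : Scheme.{u}}

/-- the inclusion of a clopen part -/
noncomputable def clopenι (Z : FEt.Cat X) (U : Z.left.Opens) (hU : IsClosed (U : Set Z.left)) :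
    clopenObj Z U hU ⟶ Z :=
  MorphismProperty.Over.homMk U.ι rfl trivial

theorem isCompl_opensRange_compl {T : Scheme.{u}} (I U : T.Opens)
    (h : (U : Set T) = (I : Set T)ᶜ) : IsCompl I.ι.opensRange U.ι.opensRange := by
  rw [Scheme.Opens.opensRange_ι, Scheme.Opens.opensRange_ι]
  constructor
  · rw [disjoint_iff]
    ext x
    simp only [TopologicalSpace.Opens.coe_inf, TopologicalSpace.Opens.coe_bot, Set.mem_inter_iff,
      Set.mem_empty_iff_false, iff_false, h]
    rintro ⟨h1, h2⟩
    exact h2 h1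
  · rw [codisjoint_iff]
    ext x
    simp only [TopologicalSpace.Opens.coe_sup, TopologicalSpace.Opens.coe_top, Set.mem_union,
      Set.mem_univ, iff_true, h]
    exact Classical.em _

/-- epimorphisms of finite étale covers are surjective -/
theorem surjective_of_epi {Y Z : FEt.Cat X} (f : Y ⟶ Z) [Epi f] : Function.Surjective f.left := by
  have hcl : IsClopen (Set.range f.left) := isClopen_range f.left
  let I : Z.left.Opens := ⟨Set.range f.left, hcl.2⟩
  let U : Z.left.Opens := ⟨(Set.range f.left)ᶜ, hcl.1.isOpen_compl⟩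
  have hI : IsClosed (I : Set Z.left) := hcl.1
  have hU : IsClosed (U : Set Z.left) := hcl.2.isClosed_compl
  let i := clopenι Z I hI
  let v := clopenι Z U hU
  obtain ⟨hc0⟩ := nonempty_isColimit_binaryCofanMk_of_isCompl I.ι U.ι
    (isCompl_opensRange_compl I U rfl)
  have hc : IsColimit (BinaryCofan.mk i v) := isColimitBinaryCofanOfLeft i v hc0
  let f'l : Y.left ⟶ I := IsOpenImmersion.lift I.ι f.left (by rw [Scheme.Opens.range_ι]; rfl)
  have hf'l : f'l ≫ I.ι = f.left := IsOpenImmersion.lift_fac _ _ _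
  let f' : Y ⟶ clopenObj Z I hI := MorphismProperty.Over.homMk f'l (by
    show f'l ≫ I.ι ≫ Z.hom = Y.hom
    rw [← Category.assoc, hf'l]
    exact MorphismProperty.Over.w f) trivial
  have hf' : f' ≫ i = f := MorphismProperty.Over.Hom.ext hf'l
  let g₁ : Z ⟶ coprodObj Z Z :=
    hc.desc (BinaryCofan.mk (i ≫ coprodInl Z Z) (v ≫ coprodInl Z Z))
  let g₂ : Z ⟶ coprodObj Z Z :=
    hc.desc (BinaryCofan.mk (i ≫ coprodInl Z Z) (v ≫ coprodInr Z Z))
  have h1 : i ≫ g₁ = i ≫ coprodInl Z Z := hc.fac _ ⟨WalkingPair.left⟩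
  have h2 : i ≫ g₂ = i ≫ coprodInl Z Z := hc.fac _ ⟨WalkingPair.left⟩
  have h3 : v ≫ g₁ = v ≫ coprodInl Z Z := hc.fac _ ⟨WalkingPair.right⟩
  have h4 : v ≫ g₂ = v ≫ coprodInr Z Z := hc.fac _ ⟨WalkingPair.right⟩
  have hg : g₁ = g₂ := by
    rw [← cancel_epi f, ← hf', Category.assoc, Category.assoc, h1, h2]
  have h5 : v ≫ coprodInl Z Z = v ≫ coprodInr Z Z := by rw [← h3, ← h4, hg]
  have h6 : U.ι ≫ (coprod.inl : Z.left ⟶ Z.left ⨿ Z.left) = U.ι ≫ coprod.inr :=
    congrArg (fun k => k.left) h5
  intro z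
  by_contra hz
  have h7 := congrArg (fun k : (U : Scheme.{u}) ⟶ Z.left ⨿ Z.left => k (⟨z, hz⟩ : U)) h6
  simp only [Scheme.Hom.comp_apply] at h7
  exact inl_ne_inr _ _ _ _ h7

end EpiSurj



section Reflects
variable {X : Scheme.{u}}

theorem isIso_of_isIso_left {Y Z : FEt.Cat X} (f : Y ⟶ Z) (h : IsIso f.left) : IsIso f := by
  haveI : IsIso ((Over.forget X).map ((MorphismProperty.Over.forget FEt.prop.{u} ⊤ X).map f)) := h
  haveI : IsIso ((MorphismProperty.Over.forget FEt.prop.{u} ⊤ X).map f) :=
    isIso_of_reflects_iso _ (Over.forget X)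
  exact isIso_of_reflects_iso f (MorphismProperty.Over.forget FEt.prop.{u} ⊤ X)

theorem isIso_of_mono_of_surjective {Y Z : FEt.Cat X} (i : Y ⟶ Z) [Mono i]
    (h : Function.Surjective i.left) : IsIso i := by
  apply isIso_of_isIso_left
  rw [isIso_iff_isOpenImmersion_and_epi_base]
  exact ⟨isOpenImmersion_left i, (TopCat.epi_iff_surjective _).mpr h⟩

variable {Ω : Type u} [Field Ω] [IsAlgClosed Ω] (ξ : Spec (CommRingCat.of Ω) ⟶ X)

theorem fiberFin_preservesEpis : Functor.PreservesEpimorphisms (fiberFin ξ) where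
  preserves {Y Z} f hf := by
    apply ConcreteCategory.epi_of_surjective
    exact fiber_surjective_of_surjective ξ f (surjective_of_epi f)

end Reflects



theorem pullback_ext_of_preserves {C : Type*} [Category C] (F : C ⥤ Type u) {A B D : C}
    (f : A ⟶ D) (g : B ⟶ D) [HasPullback f g] [PreservesLimit (cospan f g) F]
    (x y : F.obj (pullback f g))
    (h1 : F.map (pullback.fst f g) x = F.map (pullback.fst f g) y)
    (h2 : F.map (pullback.snd f g) x = F.map (pullback.snd f g) y) : x = y := by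
  have hl : IsLimit (F.mapCone (limit.cone (cospan f g))) :=
    isLimitOfPreserves F (limit.isLimit _)
  apply (Types.isLimitEquivSections hl).injective
  ext j
  rcases j with _ | _ | _
  · show F.map (limit.π (cospan f g) WalkingCospan.one) x =
      F.map (limit.π (cospan f g) WalkingCospan.one) y
    rw [← limit.w (cospan f g) WalkingCospan.Hom.inl, F.map_comp]
    show F.map ((cospan f g).map WalkingCospan.Hom.inl) (F.map (pullback.fst f g) x) = _
    rw [h1]
    rfl
  · exact h1
  · exact h2

section Reflects2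
variable {X : Scheme.{u}} [ConnectedSpace X] {Ω : Type u} [Field Ω] [IsAlgClosed Ω]
  (ξ : Spec (CommRingCat.of Ω) ⟶ X)

theorem isIso_of_fiber_bijective {Y Z : FEt.Cat X} (f : Y ⟶ Z)
    (h : Function.Bijective ((FEt.fiber ξ).map f)) : IsIso f := by
  have hsurj : Function.Surjective f.left := surjective_of_fiber_surjective ξ f h.2
  let δ : Y ⟶ pullback f f := pullback.diagonal f
  have hδsurj : Function.Surjective ((FEt.fiber ξ).map δ) := by
    intro p
    refine ⟨(FEt.fiber ξ).map (pullback.fst f f) p, ?_⟩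
    have hab : (FEt.fiber ξ).map (pullback.fst f f) p = (FEt.fiber ξ).map (pullback.snd f f) p := by
      apply h.1
      rw [← Functor.map_comp_apply, ← Functor.map_comp_apply, pullback.condition]
    apply pullback_ext_of_preserves (FEt.fiber ξ) f f
    · rw [← Functor.map_comp_apply, pullback.diagonal_fst, Functor.map_id_apply]
    · rw [← Functor.map_comp_apply, pullback.diagonal_snd, Functor.map_id_apply]
      exact hab
  haveI : IsIso δ := isIso_of_mono_of_surjective δ (surjective_of_fiber_surjective ξ δ hδsurj)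
  haveI : IsIso (pullback.fst f f) := by
    have h1 : pullback.fst f f = inv δ := by
      rw [← cancel_epi δ, IsIso.hom_inv_id]
      exact pullback.diagonal_fst f
    rw [h1]
    infer_instance
  haveI : Mono f := (IsKernelPair.of_hasPullback f).mono_of_isIso_fst
  exact isIso_of_mono_of_surjective f hsurj

end Reflects2


end H9FE
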