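import Mathlib
/-! helper9: the automorphism group of an algebraic closure is compact for the Krull topology
(also for imperfect fields). -/

universe u
set_option linter.style.haveILetI false
set_option linter.unusedSectionVars false
namespace H9FE

section Compact
variable (K : Type*) [Field K] (L : Type*) [Field L] [Algebra K L] [IsAlgClosure K L]

/-- automorphisms of an algebraic closure fix the relative perfect closure -/
theorem algEquiv_apply_perfectClosure (σ : L ≃ₐ[K] L) (x : L) (hx : x ∈ perfectClosure K L) :
    σ x = x := by
  obtain ⟨q, hq⟩ := ExpChar.exists K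
  haveI := hq
  haveI : ExpChar L q := expChar_of_injective_algebraMap (algebraMap K L).injective q
  obtain ⟨n, y, hy⟩ := (mem_perfectClosure_iff_pow_mem q).mp hx
  have h1 : (σ x) ^ q ^ n = x ^ q ^ n := by
    rw [← map_pow, ← hy, σ.commutes]
  exact (iterateFrobenius_inj L q n) h1

end Compact



section Compact2
variable (K : Type*) [Field K] (L : Type*) [Field L] [Algebra K L] [IsAlgClosure K L]

/-- the perfect closure of `K` inside an algebraic closure -/
noncomputable abbrev perfK : IntermediateField K L := perfectClosure K L

instance perfK_perfect : PerfectField (perfK K L) := by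
  haveI : IsAlgClosed L := IsAlgClosure.isAlgClosed K
  exact perfectClosure.perfectField K L

instance perfK_isGalois : IsGalois (perfK K L) L := by
  haveI : IsAlgClosed L := IsAlgClosure.isAlgClosed K
  haveI : Algebra.IsAlgebraic K L := IsAlgClosure.isAlgebraic
  haveI : Algebra.IsAlgebraic (perfK K L) L := Algebra.IsAlgebraic.tower_top (K := K) (perfK K L)
  haveI : Normal K L := IsAlgClosure.normal K L
  haveI : Normal (perfK K L) L := Normal.tower_top_of_normal K (perfK K L) L
  haveI : Algebra.IsSeparable (perfK K L) L := Algebra.IsAlgebraic.isSeparable_of_perfectField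
  exact ⟨⟩

/-- restriction of scalars from the perfect closure -/
noncomputable def resHom : (L ≃ₐ[perfK K L] L) →* (L ≃ₐ[K] L) where
  toFun σ := σ.restrictScalars K
  map_one' := rfl
  map_mul' _ _ := rfl

theorem resHom_apply (σ : L ≃ₐ[perfK K L] L) (x : L) : resHom K L σ x = σ x := rfl

theorem resHom_surjective : Function.Surjective (resHom K L) := by
  intro σ
  refine ⟨{ σ with commutes' := fun x => algEquiv_apply_perfectClosure K L σ x x.2 }, ?_⟩
  ext x
  rfl

end Compact2



section Compact3
variable (K : Type*) [Field K] (L : Type*) [Field L] [Algebra K L] [IsAlgClosure K L]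

open scoped Topology in
theorem resHom_continuous : Continuous (resHom K L) := by
  haveI : Algebra.IsAlgebraic K L := IsAlgClosure.isAlgebraic
  haveI : Algebra.IsIntegral (perfK K L) L :=
    Algebra.IsIntegral.tower_top (R := K) (S := perfK K L) (T := L)
  apply continuous_of_continuousAt_one
  rw [ContinuousAt, map_one]
  intro U hU
  obtain ⟨E, hE, hEU⟩ := (krullTopology_mem_nhds_one_iff K L U).mp hU
  rw [Filter.mem_map]
  obtain ⟨t, ht⟩ := (Module.finite_def.mp hE : (⊤ : Submodule K E).FG)
  -- the open set of automorphisms fixing the generators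
  let V : Set (L ≃ₐ[perfK K L] L) := ⋂ x ∈ t, (MulAction.stabilizer (L ≃ₐ[perfK K L] L) (x : L) : Set _)
  have hVopen : IsOpen V :=
    isOpen_biInter_finset (fun x _ => stabilizer_isOpen_of_isIntegral (K := perfK K L) (x : L))
  have h1V : (1 : L ≃ₐ[perfK K L] L) ∈ V := by
    simp only [V, Set.mem_iInter]
    intro x _
    exact one_mem _
  refine Filter.mem_of_superset (hVopen.mem_nhds h1V) ?_
  intro σ hσ
  apply hEU
  show resHom K L σ ∈ E.fixingSubgroup
  rw [IntermediateField.mem_fixingSubgroup_iff]
  intro x hx
  have hx' : (⟨x, hx⟩ : E) ∈ Submodule.span K (t : Set E) := by rw [ht]; trivial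
  have key : ∀ y ∈ Submodule.span K (t : Set E), σ (y : L) = (y : L) := by
    intro y hy
    induction hy using Submodule.span_induction with
    | mem y hy =>
      simp only [V, Set.mem_iInter] at hσ
      exact hσ y hy
    | zero => simp
    | add y z _ _ hy hz => simp [hy, hz]
    | smul a y _ hy =>
      have : ((a • y : E) : L) = algebraMap K L a * (y : L) := by
        rw [Algebra.smul_def]; rfl
      rw [this, map_mul, hy]
      congr 1
      exact (resHom K L σ).commutes a
  exact key ⟨x, hx⟩ hx'

theorem compactSpace_algEquiv_algClosure : CompactSpace (L ≃ₐ[K] L) := by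
  haveI : CompactSpace (L ≃ₐ[perfK K L] L) := inferInstance
  exact (resHom_surjective K L).compactSpace (resHom_continuous K L)

end Compact3


end H9FE
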