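import Mathlib
import Groth.Prelude.Def_FEt
import Groth.Agent.Lib.Helper9.FE.Fiber
import Groth.Agent.Lib.Helper9.FE.Coprod

/-! helper9: the fibre functor of finite étale covers preserves finite coproducts. -/

open CategoryTheory CategoryTheory.Limits AlgebraicGeometry MorphismProperty
universe u
set_option linter.style.haveILetI false
set_option linter.unusedSectionVars false
set_option linter.unusedVariables false
set_option backward.isDefEq.respectTransparency false
namespace H9FE

variable {X : Scheme.{u}} {Ω : Type u} [Field Ω] (ξ : Spec (CommRingCat.of Ω) ⟶ X)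

theorem fiber_empty_isEmpty : IsEmpty (FEt.fiberObj ξ (emptyObj X)) := by
  constructor
  rintro ⟨s, -⟩
  have h : IsEmpty (⊥_ Scheme.{u}) := inferInstance
  exact h.false (s (default : PrimeSpectrum Ω))

instance fiber_preservesInitial : PreservesColimit (Functor.empty.{0} (FEt.Cat X)) (FEt.fiber ξ) := by
  apply preservesColimit_of_preserves_colimit_cocone (emptyIsInitial X)
  have h : IsEmpty ((FEt.fiber ξ).obj (emptyObj X)) := fiber_empty_isEmpty ξ
  exact (isColimitMapCoconeEmptyCoconeEquiv (FEt.fiber ξ) (emptyObj X)).symm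
    ((Types.initial_iff_empty _).mpr h).some

variable {X : Scheme.{u}} {Ω : Type u} [Field Ω] (ξ : Spec (CommRingCat.of Ω) ⟶ X)

theorem specField_subsingleton : Subsingleton ↥(Spec (CommRingCat.of Ω)) :=
  inferInstanceAs (Subsingleton (PrimeSpectrum Ω))

/-- a point of a coproduct factors through one of the summands -/
theorem exists_lift_coprod {Y Z : Scheme.{u}} (w : Spec (CommRingCat.of Ω) ⟶ Y ⨿ Z) :
    (∃ s : Spec (CommRingCat.of Ω) ⟶ Y, s ≫ coprod.inl = w) ∨
      (∃ t : Spec (CommRingCat.of Ω) ⟶ Z, t ≫ coprod.inr = w) := by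
  haveI := specField_subsingleton (Ω := Ω)
  let p : ↥(Spec (CommRingCat.of Ω)) := (default : PrimeSpectrum Ω)
  have hcov := (isCompl_range_inl_inr Y Z).sup_eq_top
  have hp : w p ∈ Set.range (coprod.inl : Y ⟶ Y ⨿ Z) ∪ Set.range (coprod.inr : Z ⟶ Y ⨿ Z) := by
    have : w p ∈ (⊤ : Set ↥(Y ⨿ Z)) := trivial
    rw [← hcov] at this
    exact this
  rcases hp with hp | hp
  · left
    have hr : Set.range w ⊆ Set.range (coprod.inl : Y ⟶ Y ⨿ Z) := by
      rintro _ ⟨q, rfl⟩
      rw [Subsingleton.elim q p]
      exact hp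
    exact ⟨IsOpenImmersion.lift coprod.inl w hr, IsOpenImmersion.lift_fac _ _ _⟩
  · right
    have hr : Set.range w ⊆ Set.range (coprod.inr : Z ⟶ Y ⨿ Z) := by
      rintro _ ⟨q, rfl⟩
      rw [Subsingleton.elim q p]
      exact hp
    exact ⟨IsOpenImmersion.lift coprod.inr w hr, IsOpenImmersion.lift_fac _ _ _⟩

variable {X : Scheme.{u}} {Ω : Type u} [Field Ω] (ξ : Spec (CommRingCat.of Ω) ⟶ X)

theorem fiber_coprod_isColimit (Y Z : FEt.Cat X) :
    Nonempty (IsColimit (BinaryCofan.mk ((FEt.fiber ξ).map (coprodInl Y Z))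
      ((FEt.fiber ξ).map (coprodInr Y Z)))) := by
  rw [Types.binaryCofan_isColimit_iff]
  refine ⟨?_, ?_, ?_⟩
  · intro s s' h
    have h1 : s.1 ≫ (coprod.inl : Y.left ⟶ Y.left ⨿ Z.left) = s'.1 ≫ coprod.inl :=
      congrArg Subtype.val h
    exact Subtype.ext ((cancel_mono _).mp h1)
  · intro s s' h
    have h1 : s.1 ≫ (coprod.inr : Z.left ⟶ Y.left ⨿ Z.left) = s'.1 ≫ coprod.inr :=
      congrArg Subtype.val h
    exact Subtype.ext ((cancel_mono _).mp h1)
  · constructor
    · rw [Set.disjoint_iff_forall_ne]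
      rintro _ ⟨s, rfl⟩ _ ⟨t, rfl⟩ h
      have h1 : s.1 ≫ (coprod.inl : Y.left ⟶ Y.left ⨿ Z.left) = t.1 ≫ coprod.inr :=
        congrArg Subtype.val h
      let p : ↥(Spec (CommRingCat.of Ω)) := (default : PrimeSpectrum Ω)
      have h2 := congrArg (fun k : Spec (CommRingCat.of Ω) ⟶ Y.left ⨿ Z.left => k p) h1
      simp only [Scheme.Hom.comp_apply] at h2
      exact inl_ne_inr _ _ _ _ h2
    · rw [codisjoint_iff, eq_top_iff]
      rintro w -
      rcases exists_lift_coprod w.1 with ⟨s, hs⟩ | ⟨t, ht⟩
      · left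
        refine ⟨⟨s, ?_⟩, Subtype.ext hs⟩
        have := w.2
        rw [← hs] at this
        simpa [coprodObj] using this
      · right
        refine ⟨⟨t, ?_⟩, Subtype.ext ht⟩
        have := w.2
        rw [← ht] at this
        simpa [coprodObj] using this

variable {X : Scheme.{u}} {Ω : Type u} [Field Ω] (ξ : Spec (CommRingCat.of Ω) ⟶ X)

instance fiber_preservesBinaryCoproducts :
    PreservesColimitsOfShape (Discrete WalkingPair) (FEt.fiber ξ) where
  preservesColimit {K} := by
    have hpair : PreservesColimit (pair (K.obj ⟨WalkingPair.left⟩) (K.obj ⟨WalkingPair.right⟩))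
        (FEt.fiber ξ) := by
      apply preservesColimit_of_preserves_colimit_cocone (coprodIsColimit _ _)
      exact (isColimitMapCoconeBinaryCofanEquiv (FEt.fiber ξ) _ _).symm
        (fiber_coprod_isColimit ξ _ _).some
    exact preservesColimit_of_iso_diagram (FEt.fiber ξ) (diagramIsoPair K).symm

instance fiber_preservesInitialShape :
    PreservesColimitsOfShape (Discrete PEmpty.{1}) (FEt.fiber ξ) :=
  preservesColimitsOfShape_pempty_of_preservesInitial _

instance fiber_preservesFiniteCoproducts : PreservesFiniteCoproducts (FEt.fiber ξ) where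
  preserves n := PreservesFiniteCoproducts.of_preserves_binary_and_initial _ _

instance fiberFin_preservesFiniteCoproducts : PreservesFiniteCoproducts (fiberFin ξ) where
  preserves n := by
    haveI : PreservesColimitsOfShape (Discrete (Fin n)) (fiberFin ξ ⋙ FintypeCat.incl) :=
      preservesColimitsOfShape_of_natIso (fiberFinIso ξ).symm
    exact preservesColimitsOfShape_of_reflects_of_preserves (fiberFin ξ) FintypeCat.incl

end H9FE
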