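import Mathlib
import Groth.Prelude.Def_FEt
import Groth.Agent.Lib.Helper9.FE.Fiber
import Groth.Agent.Lib.Helper9.FE.FetColim

/-! helper9: restriction of finite étale covers along a morphism: compatibility with the
affine-scheme picture, with finite colimits over affine opens, and with fibres. -/

open CategoryTheory CategoryTheory.Limits AlgebraicGeometry MorphismProperty
universe u
set_option linter.style.haveILetI false
set_option linter.unusedSectionVars false
set_option backward.isDefEq.respectTransparency false
namespace H9FE


variable {X X' : Scheme.{u}} (f : X' ⟶ X)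

/-- restriction of finite étale covers is compatible with base change of affine schemes -/
noncomputable def restrictToAHIso : FEt.restrict f ⋙ toAH X' ≅
    toAH X ⋙ MorphismProperty.Over.pullback affProp.{u} ⊤ f :=
  NatIso.ofComponents (fun Y => MorphismProperty.Over.isoMk (Iso.refl _) (by
    simp [FEt.restrict, MorphismProperty.Over.pullback])) (by
    intro Y Z g
    apply MorphismProperty.Over.Hom.ext
    simp [FEt.restrict, MorphismProperty.Over.pullback]
    rfl)

variable {X : Scheme.{u}} {J : Type} [SmallCategory J] [FinCategory J]

/-- restriction to an affine open preserves finite colimits of finite étale covers -/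
theorem restrict_preservesColimitsOfShape (hJ : LimFE.{u} Jᵒᵖ) (U : X.affineOpens) :
    PreservesColimitsOfShape J (FEt.restrict U.1.ι) := by
  haveI := toAH_preservesColimitsOfShape (X := X) hJ
  haveI := preservesColimitsOfShape_restrict (J := J) X U
  haveI : PreservesColimitsOfShape J (FEt.restrict U.1.ι ⋙ toAH (U.1 : Scheme.{u})) :=
    preservesColimitsOfShape_of_natIso (restrictToAHIso U.1.ι).symm
  exact preservesColimitsOfShape_of_reflects_of_preserves (FEt.restrict U.1.ι) (toAH (U.1 : Scheme.{u}))

variable {X' : Scheme.{u}} (f : X' ⟶ X) {Ω : Type u} [Field Ω] (ξ' : Spec (CommRingCat.of Ω) ⟶ X')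

/-- fibres of a restricted cover -/
noncomputable def fiberRestrictIso : FEt.restrict f ⋙ FEt.fiber ξ' ≅ FEt.fiber (ξ' ≫ f) :=
  NatIso.ofComponents (fun Y =>
    { hom := TypeCat.ofHom fun s => ⟨s.1 ≫ pullback.fst Y.hom f, by
        rw [Category.assoc, pullback.condition, ← Category.assoc]
        exact congrArg (· ≫ f) s.2⟩
      inv := TypeCat.ofHom fun s => ⟨pullback.lift s.1 ξ' s.2, pullback.lift_snd _ _ _⟩
      hom_inv_id := by
        ext s
        apply Subtype.ext
        apply pullback.hom_ext
        · exact pullback.lift_fst _ _ _
        · exact (pullback.lift_snd _ _ _).trans s.2.symm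
      inv_hom_id := by
        ext s
        apply Subtype.ext
        exact pullback.lift_fst _ _ _ })
    (by
      intro Y Z g
      ext s
      apply Subtype.ext
      show (s.1 ≫ ((FEt.restrict f).map g).left) ≫ pullback.fst Z.hom f =
        (s.1 ≫ pullback.fst Y.hom f) ≫ g.left
      simp [FEt.restrict, MorphismProperty.Over.pullback])

end H9FE
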