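import Mathlib
import Groth.Prelude.Def_FEt
import Groth.Agent.Lib.Helper9.FE.FiberQuot
import Groth.Agent.Lib.Helper9.FE.Restrict
/-! helper9: the fibre functor preserves quotients by finite groups (general base). -/

open CategoryTheory CategoryTheory.Limits AlgebraicGeometry MorphismProperty
universe u
set_option linter.style.haveILetI false
set_option linter.unusedSectionVars false
set_option backward.isDefEq.respectTransparency false
namespace H9FE
open H9SF

variable {X : Scheme.{u}} {Ω : Type u} [Field Ω] (ξ : Spec (CommRingCat.of Ω) ⟶ X)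

/-- a geometric point factors through an affine open -/
theorem exists_affine_factor :
    ∃ (U : X.affineOpens) (ξ' : Spec (CommRingCat.of Ω) ⟶ (U.1 : Scheme.{u})), ξ' ≫ U.1.ι = ξ := by
  let p : Spec (CommRingCat.of Ω) := (default : PrimeSpectrum Ω)
  obtain ⟨U, hU, hx, -⟩ := exists_isAffineOpen_mem_and_subset (x := ξ p) (U := ⊤) trivial
  have hr : Set.range ξ ⊆ Set.range U.ι := by
    rintro _ ⟨q, rfl⟩
    have hq : q = p := Subsingleton.elim (α := PrimeSpectrum Ω) q p
    rw [hq, Scheme.Opens.range_ι]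
    exact hx
  exact ⟨⟨U, hU⟩, IsOpenImmersion.lift U.ι ξ hr, IsOpenImmersion.lift_fac _ _ _⟩



section Gen
variable {X : Scheme.{u}} {Ω : Type u} [Field Ω]

/-- the fibre functor of a point of `X'` composed with `f`, as a composite -/
noncomputable def fiberFinRestrictIso {X' : Scheme.{u}} (f : X' ⟶ X)
    (ξ' : Spec (CommRingCat.of Ω) ⟶ X') :
    FEt.restrict f ⋙ fiberFin ξ' ≅ fiberFin (ξ' ≫ f) :=
  Functor.fullyFaithfulCancelRight FintypeCat.incl
    (Functor.associator _ _ _ ≪≫ Functor.isoWhiskerLeft _ (fiberFinIso ξ') ≪≫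
      fiberRestrictIso f ξ' ≪≫ (fiberFinIso (ξ' ≫ f)).symm)

variable [IsAlgClosed Ω] (ξ : Spec (CommRingCat.of Ω) ⟶ X)

theorem fiberFin_preservesQuot0 (G : Type) [Group G] [Finite G] :
    PreservesColimitsOfShape (SingleObj G) (fiberFin ξ) := by
  haveI := Fintype.ofFinite G
  obtain ⟨U, ξ', rfl⟩ := exists_affine_factor ξ
  haveI : IsAffine (U.1 : Scheme.{u}) := U.2
  haveI := restrict_preservesColimitsOfShape (J := SingleObj G) limFE_singleObj U
  haveI := fiberFin_preservesQuot_affine (G := G) ξ'
  exact preservesColimitsOfShape_of_natIso (fiberFinRestrictIso U.1.ι ξ')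

theorem fiberFin_preservesQuot (G : Type u) [Group G] [Finite G] :
    PreservesColimitsOfShape (SingleObj G) (fiberFin ξ) := by
  obtain ⟨G', hg, hf, ⟨e⟩⟩ := Finite.exists_type_univ_nonempty_mulEquiv G
  haveI := fiberFin_preservesQuot0 ξ G'
  exact preservesColimitsOfShape_of_equiv e.toSingleObjEquiv.symm (fiberFin ξ)

end Gen


end H9FE
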