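import Mathlib
import Groth.Prelude.Def_FEt
import Groth.Agent.Lib.Helper9.FE.QuotRing

/-! helper9: quotients of finite étale covers by finite groups exist. -/

open CategoryTheory CategoryTheory.Limits AlgebraicGeometry MorphismProperty
universe u
set_option linter.style.haveILetI false
set_option linter.unusedSectionVars false
set_option backward.isDefEq.respectTransparency false
namespace H9FE
open H9SF


theorem hasQuotients_fet (X : Scheme.{u}) (G : Type u) [Group G] [Finite G] :
    HasColimitsOfShape (SingleObj G) (FEt.Cat X) := by
  obtain ⟨G', hg, hf, ⟨e⟩⟩ := Finite.exists_type_univ_nonempty_mulEquiv G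
  haveI := Fintype.ofFinite G'
  haveI : HasColimitsOfShape (SingleObj G') (FEt.Cat X) :=
    hasColimitsOfShape_fet (J := SingleObj G') limFE_singleObj
  exact Limits.hasColimitsOfShape_of_equivalence e.toSingleObjEquiv.symm

end H9FE
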