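import Mathlib
import Groth.Prelude.Def_FEt
import Groth.Agent.Lib.Helper9.FE.Clopen
import Groth.Agent.Lib.Helper9.FE.Coprod
import Groth.Agent.Lib.Helper9.FE.Quot
import Groth.Agent.Lib.Helper9.FE.FiberCoprod
import Groth.Agent.Lib.Helper9.FE.FiberQuotGen
import Groth.Agent.Lib.Helper9.FE.FiberIso
/-! helper9: finite étale covers of a connected scheme form a Galois category with the geometric fibre as fibre functor. -/

open CategoryTheory CategoryTheory.Limits AlgebraicGeometry MorphismProperty
universe u
set_option linter.style.haveILetI false
set_option linter.unusedSectionVars false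
set_option backward.isDefEq.respectTransparency false
namespace H9FE


instance preGalois_fet (X : Scheme.{u}) : PreGaloisCategory (FEt.Cat X) where
  hasQuotientsByFiniteGroups G _ _ := hasQuotients_fet X G
  monoInducesIsoOnDirectSummand i _ := mono_summand i

variable {X : Scheme.{u}} [ConnectedSpace X] {Ω : Type u} [Field Ω] [IsAlgClosed Ω]
  (ξ : Spec (CommRingCat.of Ω) ⟶ X)

theorem fiberFin_reflectsIsos : (fiberFin ξ).ReflectsIsomorphisms where
  reflects {Y Z} f hf := by
    apply isIso_of_fiber_bijective ξ f
    exact ConcreteCategory.bijective_of_isIso ((fiberFin ξ).map f)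

instance fiberFunctor_fiberFin : PreGaloisCategory.FiberFunctor (fiberFin ξ) where
  preservesFiniteCoproducts := fiberFin_preservesFiniteCoproducts ξ
  preservesEpis := fiberFin_preservesEpis ξ
  preservesQuotientsByFiniteGroups G _ _ := fiberFin_preservesQuot ξ G
  reflectsIsos := fiberFin_reflectsIsos ξ


end H9FE
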