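import Mathlib
import Groth.Prelude.Def_FEt
import Groth.Agent.Lib.Helper9.FE.Galois
import Groth.Agent.Lib.Helper9.FE.GalKrull
/-! helper9: the Galois action on the geometric fibres of finite étale covers of the spectrum of a field -/

open CategoryTheory CategoryTheory.Limits AlgebraicGeometry MorphismProperty
universe u
set_option linter.style.haveILetI false
set_option linter.unusedSectionVars false
set_option backward.isDefEq.respectTransparency false
namespace H9FE
open H9SF

section Action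
variable (K : Type u) [Field K] (Ω : Type u) [Field Ω] [Algebra K Ω]

/-- the geometric point of `Spec K` attached to an extension field -/
noncomputable abbrev ptK : Spec (CommRingCat.of Ω) ⟶ Spec (CommRingCat.of K) :=
  Spec.map (CommRingCat.ofHom (algebraMap K Ω))

variable {K Ω}

/-- the automorphism of the geometric point attached to a field automorphism -/
noncomputable def galPt (σ : Ω ≃ₐ[K] Ω) : Spec (CommRingCat.of Ω) ⟶ Spec (CommRingCat.of Ω) :=
  Spec.map (CommRingCat.ofHom (σ : Ω →+* Ω))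

theorem galPt_comp_ptK (σ : Ω ≃ₐ[K] Ω) : galPt σ ≫ ptK K Ω = ptK K Ω := by
  rw [galPt, ← Spec.map_comp]
  congr 1
  ext x
  exact σ.commutes x

theorem galPt_one : galPt (1 : Ω ≃ₐ[K] Ω) = 𝟙 _ := by
  rw [galPt]
  exact Spec.map_id _

theorem galPt_mul (σ τ : Ω ≃ₐ[K] Ω) : galPt (σ * τ) = galPt σ ≫ galPt τ := by
  rw [galPt, galPt, galPt, ← Spec.map_comp]
  rfl

noncomputable instance fiberAction (Y : FEt.Cat (Spec (CommRingCat.of K))) :
    MulAction (Ω ≃ₐ[K] Ω) (FEt.fiberObj (ptK K Ω) Y) where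
  smul σ s := ⟨galPt σ ≫ s.1, by rw [Category.assoc, s.2, galPt_comp_ptK]⟩
  one_smul s := Subtype.ext (by
    show galPt (1 : Ω ≃ₐ[K] Ω) ≫ s.1 = s.1
    rw [galPt_one, Category.id_comp])
  mul_smul σ τ s := Subtype.ext (by
    show galPt (σ * τ) ≫ s.1 = galPt σ ≫ galPt τ ≫ s.1
    rw [galPt_mul, Category.assoc])

theorem smul_val (Y : FEt.Cat (Spec (CommRingCat.of K))) (σ : Ω ≃ₐ[K] Ω)
    (s : FEt.fiberObj (ptK K Ω) Y) : (σ • s).1 = galPt σ ≫ s.1 := rfl

noncomputable instance fiberFinAction (Y : FEt.Cat (Spec (CommRingCat.of K))) :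
    MulAction (Ω ≃ₐ[K] Ω) ((fiberFin (ptK K Ω)).obj Y) :=
  inferInstanceAs (MulAction (Ω ≃ₐ[K] Ω) (FEt.fiberObj (ptK K Ω) Y))

instance fiberFin_isNaturalSMul :
    PreGaloisCategory.IsNaturalSMul (fiberFin (ptK K Ω)) (Ω ≃ₐ[K] Ω) where
  naturality σ {Y Z} f s := by
    apply Subtype.ext
    show (galPt σ ≫ s.1) ≫ f.left = galPt σ ≫ (s.1 ≫ f.left)
    rw [Category.assoc]

end Action


end H9FE
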