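import Mathlib
import Groth.Prelude.Def_FEt
import Groth.Agent.Lib.Helper9.FE.Galois
import Groth.Agent.Lib.Helper9.FE.GalKrull
import Groth.Agent.Lib.Helper9.FE.FieldFiber
/-! helper9: the Galois group acts transitively on geometric fibres of connected covers of a field -/

open CategoryTheory CategoryTheory.Limits AlgebraicGeometry MorphismProperty
universe u
set_option linter.style.haveILetI false
set_option linter.unusedSectionVars false
set_option backward.isDefEq.respectTransparency false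
namespace H9FE
open H9SF

theorem exists_algEquiv_comp {K κ Ω : Type*} [Field K] [Field κ] [Field Ω] [Algebra K Ω]
    [IsAlgClosed Ω] [Algebra.IsAlgebraic K Ω]
    (j : K →+* κ) (β β' : κ →+* Ω) (h : β.comp j = algebraMap K Ω)
    (h' : β'.comp j = algebraMap K Ω) :
    ∃ σ : Ω ≃ₐ[K] Ω, ((σ : Ω →ₐ[K] Ω) : Ω →+* Ω).comp β = β' := by
  letI : Algebra K κ := j.toAlgebra
  letI : Algebra κ Ω := β.toAlgebra
  haveI : IsScalarTower K κ Ω :=
    IsScalarTower.of_algebraMap_eq (fun x => (congrArg (fun f => f x) h).symm)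
  haveI : Algebra.IsAlgebraic κ Ω := Algebra.IsAlgebraic.tower_top (K := K) κ
  let f : κ →ₐ[K] Ω := { β' with commutes' := fun x => congrArg (fun f => f x) h' }
  obtain ⟨φ, hφ⟩ := IsAlgClosed.surjective_domRestrict_of_isAlgebraic
    (K := K) (L := κ) (M := Ω) (E := Ω) f
  refine ⟨AlgEquiv.ofBijective φ (Algebra.IsAlgebraic.algHom_bijective φ), ?_⟩
  ext x
  exact congrArg (fun f => f x) hφ

section Trans
variable {K : Type u} [Field K] {Ω : Type u} [Field Ω] [Algebra K Ω]
  [IsAlgClosed Ω] [Algebra.IsAlgebraic K Ω]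

theorem exists_galPt_of_residue {T : Scheme.{u}} (g : T ⟶ Spec (CommRingCat.of K)) (z : T)
    (β β' : T.residueField z ⟶ CommRingCat.of Ω)
    (h : (Spec.map β ≫ T.fromSpecResidueField z) ≫ g = ptK K Ω)
    (h' : (Spec.map β' ≫ T.fromSpecResidueField z) ≫ g = ptK K Ω) :
    ∃ σ : Ω ≃ₐ[K] Ω, galPt σ ≫ (Spec.map β ≫ T.fromSpecResidueField z) =
      Spec.map β' ≫ T.fromSpecResidueField z := by
  let j : CommRingCat.of K ⟶ T.residueField z := Spec.preimage (T.fromSpecResidueField z ≫ g)
  have hj : Spec.map j = T.fromSpecResidueField z ≫ g := Spec.map_preimage _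
  have e1 : j ≫ β = CommRingCat.ofHom (algebraMap K Ω) := by
    apply Spec.map_injective
    rw [Spec.map_comp, hj, ← Category.assoc]
    exact h
  have e2 : j ≫ β' = CommRingCat.ofHom (algebraMap K Ω) := by
    apply Spec.map_injective
    rw [Spec.map_comp, hj, ← Category.assoc]
    exact h'
  obtain ⟨σ, hσ⟩ := exists_algEquiv_comp (K := K) (Ω := Ω) j.hom β.hom β'.hom
    (by rw [← CommRingCat.hom_comp, e1]; rfl) (by rw [← CommRingCat.hom_comp, e2]; rfl)
  refine ⟨σ, ?_⟩
  rw [galPt, ← Category.assoc, ← Spec.map_comp]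
  congr 2
  ext x
  exact congrArg (fun f => f x) hσ

theorem exists_galPt_of_apply_eq {T : Scheme.{u}} (g : T ⟶ Spec (CommRingCat.of K))
    (a a' : Spec (CommRingCat.of Ω) ⟶ T) (h : a ≫ g = ptK K Ω) (h' : a' ≫ g = ptK K Ω)
    (hz : a (IsLocalRing.closedPoint Ω) = a' (IsLocalRing.closedPoint Ω)) :
    ∃ σ : Ω ≃ₐ[K] Ω, galPt σ ≫ a = a' := by
  obtain ⟨⟨z, β⟩, rfl⟩ := (Scheme.SpecToEquivOfField Ω T).symm.surjective a
  obtain ⟨⟨z', β'⟩, rfl⟩ := (Scheme.SpecToEquivOfField Ω T).symm.surjective a'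
  simp only [Scheme.SpecToEquivOfField_symm_apply] at hz h h' ⊢
  have hzz : z = z' := by
    simpa using hz
  subst hzz
  exact exists_galPt_of_residue g z β β' h h'


instance : ConnectedSpace (Spec (CommRingCat.of K)) := inferInstance

instance (A : FEt.Cat (Spec (CommRingCat.of K))) : DiscreteTopology A.left := by
  haveI : IsFinite A.hom := A.prop.1
  haveI : IsLocallyArtinian (Spec (CommRingCat.of K)) := inferInstance
  haveI : IsLocallyArtinian A.left :=
    @IsLocallyArtinian.of_locallyQuasiFinite A.left (Spec (CommRingCat.of K)) A.hom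
      inferInstance ‹_›
  infer_instance

instance mono_clopenι {X : Scheme.{u}} (Z : FEt.Cat X) (U : Z.left.Opens)
    (hU : IsClosed (U : Set Z.left)) : Mono (clopenι Z U hU) := by
  let F : FEt.Cat X ⥤ Scheme.{u} := MorphismProperty.Over.forget FEt.prop.{u} ⊤ X ⋙ Over.forget X
  haveI : F.Faithful := inferInstance
  haveI : Mono (F.map (clopenι Z U hU)) := by
    show Mono U.ι
    infer_instance
  exact F.mono_of_mono_map inferInstance

theorem apply_eq_of_isConnected (A : FEt.Cat (Spec (CommRingCat.of K)))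
    [PreGaloisCategory.IsConnected A] (a a' : FEt.fiberObj (ptK K Ω) A) :
    a.1 (IsLocalRing.closedPoint Ω) = a'.1 (IsLocalRing.closedPoint Ω) := by
  let z : A.left := a.1 (IsLocalRing.closedPoint Ω)
  let U : A.left.Opens := ⟨{z}, isOpen_discrete _⟩
  have hU : IsClosed (U : Set A.left) := isClosed_discrete _
  have hrange : Set.range a.1 ⊆ Set.range U.ι := by
    rintro _ ⟨p, rfl⟩
    rw [Scheme.Opens.range_ι]
    show a.1 p = z
    congr 1
    exact Subsingleton.elim _ _
  let b : Spec (CommRingCat.of Ω) ⟶ U := IsOpenImmersion.lift U.ι a.1 hrange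
  have hb : b ≫ U.ι = a.1 := IsOpenImmersion.lift_fac _ _ _
  have hni : IsInitial (clopenObj A U hU) → False :=
    PreGaloisCategory.not_initial_of_inhabited (fiberFin (ptK K Ω))
      (⟨b, by
        show b ≫ U.ι ≫ A.hom = _
        rw [← Category.assoc, hb]; exact a.2⟩ : FEt.fiberObj (ptK K Ω) (clopenObj A U hU))
  haveI : IsIso (clopenι A U hU) :=
    PreGaloisCategory.IsConnected.noTrivialComponent _ _ hni
  haveI : IsIso U.ι := (inferInstance : IsIso (clopenι A U hU).left)
  obtain ⟨⟨w, hw⟩, hw2⟩ := U.ι.surjective (a'.1 (IsLocalRing.closedPoint Ω))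
  have hw3 : w = z := hw
  rw [← hw2]
  exact hw3.symm

end Trans


end H9FE
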