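import Mathlib
/-! helper9: a left exact functor which reflects isomorphisms among monomorphisms and lifts subobjects is fully faithful -/

open CategoryTheory CategoryTheory.Limits
universe v₁ v₂ u₁ u₂
set_option linter.style.haveILetI false
set_option linter.unusedSectionVars false
namespace H9FE

section Abs
variable {C : Type u₁} [Category.{v₁} C] {D : Type u₂} [Category.{v₂} D]
  [HasFiniteLimits C] [HasFiniteLimits D] (H : C ⥤ D) [PreservesFiniteLimits H]

theorem faithful_of_reflects_mono_iso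
    (hA : ∀ {E Y : C} (e : E ⟶ Y) [Mono e], IsIso (H.map e) → IsIso e) : H.Faithful where
  map_injective {Y Z} a b hab := by
    have h1 : H.map (equalizer.ι a b) =
        (PreservesEqualizer.iso H a b).hom ≫ equalizer.ι (H.map a) (H.map b) := by
      simp
    haveI : IsIso (equalizer.ι (H.map a) (H.map b)) := equalizer.ι_of_eq hab
    haveI : IsIso (H.map (equalizer.ι a b)) := by rw [h1]; infer_instance
    haveI : IsIso (equalizer.ι a b) := hA _ inferInstance
    exact eq_of_epi_equalizer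

theorem reflects_iso_of_reflects_mono_iso
    (hA : ∀ {E Y : C} (e : E ⟶ Y) [Mono e], IsIso (H.map e) → IsIso e)
    {Γ Y : C} (p : Γ ⟶ Y) (hp : IsIso (H.map p)) : IsIso p := by
  haveI := faithful_of_reflects_mono_iso H hA
  haveI : Mono p := ⟨fun a b hab => by
    apply H.map_injective
    have h2 : H.map a ≫ H.map p = H.map b ≫ H.map p := by
      rw [← H.map_comp, ← H.map_comp, hab]
    exact (cancel_mono (H.map p)).mp h2⟩
  exact hA p hp

theorem full_of_reflects_sub
    (hA : ∀ {E Y : C} (e : E ⟶ Y) [Mono e], IsIso (H.map e) → IsIso e)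
    (hB : ∀ (W : C) {M' : D} (m' : M' ⟶ H.obj W) [Mono m'], ∃ (M : C) (m : M ⟶ W) (_ : Mono m)
      (θ : H.obj M ≅ M'), θ.hom ≫ m' = H.map m) : H.Full where
  map_surjective {Y Z} φ' := by
    let ι := PreservesLimitPair.iso H Y Z
    let m' : H.obj Y ⟶ H.obj (Y ⨯ Z) := prod.lift (𝟙 _) φ' ≫ ι.inv
    have hm1 : m' ≫ H.map prod.fst = 𝟙 _ := by
      simp only [m', ι, Category.assoc, PreservesLimitPair.iso_inv_fst]
      exact prod.lift_fst _ _
    have hm2 : m' ≫ H.map prod.snd = φ' := by
      simp only [m', ι, Category.assoc, PreservesLimitPair.iso_inv_snd]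
      exact prod.lift_snd _ _
    haveI : Mono m' := mono_of_mono_fac hm1
    obtain ⟨M, m, _, θ, hθ⟩ := hB (Y ⨯ Z) m'
    let p : M ⟶ Y := m ≫ prod.fst
    have hp : H.map p = θ.hom := by
      rw [H.map_comp, ← hθ, Category.assoc, hm1, Category.comp_id]
    haveI : IsIso p := reflects_iso_of_reflects_mono_iso H hA p (by rw [hp]; infer_instance)
    refine ⟨inv p ≫ m ≫ prod.snd, ?_⟩
    rw [H.map_comp, H.map_comp, ← hθ, Category.assoc, hm2, Functor.map_inv]
    rw [IsIso.inv_comp_eq, hp]

theorem full_faithful_of_reflects_sub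
    (hA : ∀ {E Y : C} (e : E ⟶ Y) [Mono e], IsIso (H.map e) → IsIso e)
    (hB : ∀ (W : C) {M' : D} (m' : M' ⟶ H.obj W) [Mono m'], ∃ (M : C) (m : M ⟶ W) (_ : Mono m)
      (θ : H.obj M ≅ M'), θ.hom ≫ m' = H.map m) : H.Full ∧ H.Faithful :=
  ⟨full_of_reflects_sub H hA hB, faithful_of_reflects_mono_iso H hA⟩

end Abs


end H9FE
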