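import Mathlib
import Groth.Prelude.Def_FEt
import Groth.Agent.Lib.Helper9.FE.FiberIso
import Groth.Agent.Lib.Helper9.FE.FieldFiberTrans
import Groth.Agent.Lib.Helper9.FE.SubCrit
/-! helper9: restriction of finite étale covers is fully faithful when clopen subsets correspond -/

open CategoryTheory CategoryTheory.Limits AlgebraicGeometry MorphismProperty
universe u
set_option linter.style.haveILetI false
set_option linter.unusedSectionVars false
set_option backward.isDefEq.respectTransparency false
namespace H9FE
open H9SF

section Geo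
variable {X X' : Scheme.{u}} (g : X' ⟶ X)

theorem restrict_map_left {Y W : FEt.Cat X} (a : Y ⟶ W) :
    ((FEt.restrict g).map a).left = pullback.lift (pullback.fst Y.hom g ≫ a.left)
      (pullback.snd Y.hom g) (by simp [pullback.condition]) := rfl

theorem isPullback_restrict_map {Y W : FEt.Cat X} (a : Y ⟶ W) :
    IsPullback ((FEt.restrict g).map a).left (pullback.fst Y.hom g) (pullback.fst W.hom g)
      a.left := by
  have hw : a.left ≫ W.hom = Y.hom := MorphismProperty.Over.w a
  have s : IsPullback (((FEt.restrict g).map a).left ≫ pullback.snd W.hom g)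
      (pullback.fst Y.hom g) g (a.left ≫ W.hom) := by
    rw [restrict_map_left, pullback.lift_snd, hw]
    exact (IsPullback.of_hasPullback Y.hom g).flip
  refine IsPullback.of_right s ?_ (IsPullback.of_hasPullback W.hom g).flip
  rw [restrict_map_left, pullback.lift_fst]

theorem range_restrict_map {Y W : FEt.Cat X} (a : Y ⟶ W) :
    Set.range ((FEt.restrict g).map a).left = (pullback.fst W.hom g) ⁻¹' (Set.range a.left) := by
  have h := Scheme.image_preimage_eq_of_isPullback (isPullback_restrict_map g a).flip Set.univ
  rw [Set.preimage_univ, Set.image_univ, Set.image_univ] at h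
  exact h

theorem exists_iso_of_range_eq {Z M₁ M₂ : FEt.Cat X} (m₁ : M₁ ⟶ Z) (m₂ : M₂ ⟶ Z) [Mono m₁] [Mono m₂]
    (h : Set.range m₁.left = Set.range m₂.left) : ∃ θ : M₁ ≅ M₂, θ.hom ≫ m₂ = m₁ := by
  haveI := isOpenImmersion_left m₁
  haveI := isOpenImmersion_left m₂
  let l : M₁.left ⟶ M₂.left := IsOpenImmersion.lift m₂.left m₁.left h.le
  have hl : l ≫ m₂.left = m₁.left := IsOpenImmersion.lift_fac _ _ _
  let t : M₁ ⟶ M₂ := MorphismProperty.Over.homMk l (by
    rw [← MorphismProperty.Over.w m₂, ← Category.assoc, hl]
    exact MorphismProperty.Over.w m₁) trivial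
  have ht : t ≫ m₂ = m₁ := MorphismProperty.Over.Hom.ext hl
  haveI : Mono t := mono_of_mono_fac ht
  have hsurj : Function.Surjective t.left := by
    intro y
    have hy : m₂.left y ∈ Set.range m₁.left := by rw [h]; exact ⟨y, rfl⟩
    obtain ⟨x, hx⟩ := hy
    refine ⟨x, ?_⟩
    apply m₂.left.isOpenEmbedding.injective
    rw [← hx, ← hl]
    rfl
  haveI : IsIso t := isIso_of_mono_of_surjective t hsurj
  exact ⟨asIso t, ht⟩

theorem restrict_full_faithful_of_clopen
    (hinj : ∀ (Y : FEt.Cat X) (T : Set Y.left), IsClopen T →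
      (pullback.fst Y.hom g) ⁻¹' T = Set.univ → T = Set.univ)
    (hsurj : ∀ (W : FEt.Cat X) (T' : Set ↥(pullback W.hom g)), IsClopen T' →
      ∃ T : Set W.left, IsClopen T ∧ (pullback.fst W.hom g) ⁻¹' T = T') :
    (FEt.restrict g).Full ∧ (FEt.restrict g).Faithful := by
  apply full_faithful_of_reflects_sub
  · intro E Y e _ he
    apply isIso_of_mono_of_surjective
    rw [← Set.range_eq_univ]
    apply hinj Y _ (isClopen_range e.left)
    rw [← range_restrict_map, Set.range_eq_univ]
    haveI : IsIso ((FEt.restrict g).map e).left :=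
      inferInstanceAs (IsIso ((MorphismProperty.Over.forget FEt.prop.{u} ⊤ X' ⋙ Over.forget X').map
        ((FEt.restrict g).map e)))
    exact (ConcreteCategory.bijective_of_isIso ((FEt.restrict g).map e).left.base).2
  · intro W M' m' _
    obtain ⟨T, hT, hTT⟩ := hsurj W (Set.range m'.left) (isClopen_range m'.left)
    let U : W.left.Opens := ⟨T, hT.2⟩
    have hU : IsClosed (U : Set W.left) := hT.1
    refine ⟨clopenObj W U hU, clopenι W U hU, inferInstance, ?_⟩
    haveI : Mono ((FEt.restrict g).map (clopenι W U hU)) := inferInstance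
    have hr : Set.range ((FEt.restrict g).map (clopenι W U hU)).left = Set.range m'.left := by
      rw [range_restrict_map, ← hTT]
      congr 1
      exact Scheme.Opens.range_ι U
    exact exists_iso_of_range_eq _ _ hr

end Geo


end H9FE
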