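import Mathlib
import Groth.Prelude.Def_Hensel
import Groth.Agent.Lib.Helper9.FE.SHTrans
import Groth.Agent.Lib.Helper9.FE.NormalIrredFib

/-! helper9: étale schemes over an irreducible geometrically unibranch scheme (all strict
henselizations of local rings have irreducible spectrum) are locally irreducible: the local rings
of an étale scheme have irreducible spectrum, and every point has a preirreducible open
neighbourhood; generic fibres of étale maps from irreducible schemes to irreducible schemes. -/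

universe u
open CategoryTheory CategoryTheory.Limits AlgebraicGeometry Opposite

namespace H9FE.UnibranchEt

set_option backward.isDefEq.respectTransparency false
set_option linter.style.haveILetI false
set_option linter.unusedSectionVars false

open H9FE.NormalIrredSch

/-- all strict henselizations of the local rings have irreducible spectrum -/
def GeomUnibranch (X : Scheme.{u}) : Prop :=
  ∀ (x : X) (R : Type u) [CommRing R] [IsLocalRing R] [Algebra (X.presheaf.stalk x) R]
    [IsLocalHom (algebraMap (X.presheaf.stalk x) R)]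
    [Hensel.IsStrictHenselization (X.presheaf.stalk x) R], IrreducibleSpace (PrimeSpectrum R)

theorem irreducibleSpace_stalk {X V : Scheme.{u}} (hX : GeomUnibranch X) (f : V ⟶ X) [Etale f]
    (v : V) : IrreducibleSpace (PrimeSpectrum (V.presheaf.stalk v)) := by
  obtain ⟨X₀, hX₀, hxX₀, -⟩ := exists_isAffineOpen_mem_and_subset (x := f v) (U := ⊤) trivial
  obtain ⟨V₀, hV₀, hvV₀, hle⟩ := exists_isAffineOpen_mem_and_subset (x := v)
    (U := f ⁻¹ᵁ X₀) hxX₀
  let ψ : Γ(X, X₀) ⟶ Γ(V, V₀) := f.appLE X₀ V₀ hle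
  have hψet : ψ.hom.Etale :=
    HasRingHomProperty.appLE (P := @Etale) f inferInstance ⟨X₀, hX₀⟩ ⟨V₀, hV₀⟩ hle
  algebraize [ψ.hom]
  letI : Algebra Γ(X, X₀) (X.presheaf.stalk (f v)) :=
    X.presheaf.algebra_section_stalk ⟨f v, hxX₀⟩
  haveI locA := hX₀.isLocalization_stalk ⟨f v, hxX₀⟩
  letI : Algebra Γ(V, V₀) (V.presheaf.stalk v) := V.presheaf.algebra_section_stalk ⟨v, hvV₀⟩
  haveI locB := hV₀.isLocalization_stalk ⟨v, hvV₀⟩
  letI : Algebra (X.presheaf.stalk (f v)) (V.presheaf.stalk v) := (f.stalkMap v).hom.toAlgebra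
  haveI : IsLocalHom (algebraMap (X.presheaf.stalk (f v)) (V.presheaf.stalk v)) :=
    inferInstanceAs (IsLocalHom (f.stalkMap v).hom)
  have hcomm : ∀ a : Γ(X, X₀),
      algebraMap (X.presheaf.stalk (f v)) (V.presheaf.stalk v)
        (algebraMap Γ(X, X₀) (X.presheaf.stalk (f v)) a) =
      algebraMap Γ(V, V₀) (V.presheaf.stalk v) (algebraMap Γ(X, X₀) Γ(V, V₀) a) := by
    intro a
    have h1 := Scheme.Hom.germ_stalkMap_apply f X₀ v hxX₀ a
    have h2 : (V.presheaf.germ V₀ v hvV₀).hom ((f.appLE X₀ V₀ hle).hom a) =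
        (V.presheaf.germ (f ⁻¹ᵁ X₀) v hxX₀).hom ((f.app X₀).hom a) := by
      simp only [Scheme.Hom.appLE, CommRingCat.hom_comp, RingHom.coe_comp, Function.comp_apply]
      exact V.presheaf.germ_res_apply (homOfLE hle) v hvV₀ _
    exact h1.trans h2.symm
  obtain ⟨S, _, _, _, _, hS⟩ :=
    Groth.Agent.Helper7.SHens.exists_isStrictHenselization (V.presheaf.stalk v)
  letI : Algebra (X.presheaf.stalk (f v)) S :=
    ((algebraMap (V.presheaf.stalk v) S).comp
      (algebraMap (X.presheaf.stalk (f v)) (V.presheaf.stalk v))).toAlgebra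
  haveI : IsScalarTower (X.presheaf.stalk (f v)) (V.presheaf.stalk v) S :=
    IsScalarTower.of_algebraMap_eq' rfl
  haveI : IsLocalHom (algebraMap (X.presheaf.stalk (f v)) S) := by
    show IsLocalHom ((algebraMap (V.presheaf.stalk v) S).comp
      (algebraMap (X.presheaf.stalk (f v)) (V.presheaf.stalk v)))
    infer_instance
  haveI := SHTrans.isStrictHenselization_trans (A' := Γ(X, X₀)) (E' := Γ(V, V₀))
    (A := X.presheaf.stalk (f v)) (B := V.presheaf.stalk v)
    (hX₀.primeIdealOf ⟨f v, hxX₀⟩).asIdeal.primeCompl (hV₀.primeIdealOf ⟨v, hvV₀⟩).asIdeal hcomm S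
  haveI := hX (f v) S
  exact SHTrans.irreducibleSpace_of_isStrictHenselization (V.presheaf.stalk v) S

/-- the generic fibre of an étale map from an irreducible scheme to an irreducible scheme has at
most one point -/
theorem generic_fibre_subsingleton {W X : Scheme.{u}} [IrreducibleSpace X] [PreirreducibleSpace W]
    (f : W ⟶ X) [Etale f] (w w' : W) (hw : f w = genericPoint X) (hw' : f w' = genericPoint X) :
    w = w' := by
  haveI : IrreducibleSpace W := { toPreirreducibleSpace := inferInstance, toNonempty := ⟨w⟩ }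
  haveI := locallyQuasiFinite_of_etale f
  have hdisc := f.isDiscrete_preimage_singleton (genericPoint X)
  have key : ∀ z : W, f z = genericPoint X → genericPoint W = z := by
    intro z hz
    have h1 : genericPoint W ⤳ z := (genericPoint_spec W).specializes (Set.mem_univ z)
    have h2 : f (genericPoint W) ⤳ genericPoint X := hz ▸ h1.map f.continuous
    have h3 : genericPoint X ⤳ f (genericPoint W) :=
      (genericPoint_spec X).specializes (Set.mem_univ _)
    have h4 : f (genericPoint W) = genericPoint X := (h2.antisymm h3).eq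
    exact hdisc.eq_of_specializes h1 h4 hz
  rw [← key w hw, ← key w' hw']

/-- a nonempty étale scheme over an irreducible scheme has a point over the generic point -/
theorem exists_over_generic {V X : Scheme.{u}} [IrreducibleSpace X] (f : V ⟶ X) [Etale f]
    [Nonempty V] : ∃ v : V, f v = genericPoint X := by
  have ho : IsOpen (Set.range f) := f.isOpenMap.isOpen_range
  have hne : (Set.univ ∩ Set.range f).Nonempty := by
    obtain ⟨v⟩ := (inferInstance : Nonempty V)
    exact ⟨f v, trivial, v, rfl⟩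
  have := ((genericPoint_spec X).mem_open_set_iff ho).2 hne
  exact this

/-- a point of an étale scheme over an irreducible scheme whose local ring has irreducible
spectrum has a preirreducible open neighbourhood -/
theorem exists_preirreducible_nhd {X V : Scheme.{u}} [IrreducibleSpace X] (f : V ⟶ X) [Etale f]
    (v : V) [hv : IrreducibleSpace (PrimeSpectrum (V.presheaf.stalk v))] :
    ∃ W : V.Opens, v ∈ W ∧ IsPreirreducible (W : Set V) := by
  classical
  obtain ⟨X₀, hX₀, hxX₀, -⟩ := exists_isAffineOpen_mem_and_subset (x := f v) (U := ⊤) trivial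
  obtain ⟨V₀, hV₀, hvV₀, hle⟩ := exists_isAffineOpen_mem_and_subset (x := v)
    (U := f ⁻¹ᵁ X₀) hxX₀
  have hηX₀ : genericPoint X ∈ X₀ :=
    ((genericPoint_spec X).mem_open_set_iff X₀.2).2 ⟨f v, trivial, hxX₀⟩
  haveI := locallyQuasiFinite_of_etale f
  have hdisc := f.isDiscrete_preimage_singleton (genericPoint X)
  -- finiteness of the generic fibre of `V₀`
  let G : Set V := {z | z ∈ V₀ ∧ f z = genericPoint X}
  have hGfin : G.Finite := by
    let ψ : Γ(X, X₀) ⟶ Γ(V, V₀) := f.appLE X₀ V₀ hle
    have hψet : ψ.hom.Etale :=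
      HasRingHomProperty.appLE (P := @Etale) f inferInstance ⟨X₀, hX₀⟩ ⟨V₀, hV₀⟩ hle
    algebraize [ψ.hom]
    have hfin := Algebra.QuasiFinite.finite_comap_preimage_singleton (R := Γ(X, X₀))
      (S := Γ(V, V₀)) (hX₀.primeIdealOf ⟨genericPoint X, hηX₀⟩)
    refine (hfin.image hV₀.fromSpec).subset ?_
    rintro z ⟨hzV₀, hfz⟩
    refine ⟨hV₀.primeIdealOf ⟨z, hzV₀⟩, ?_, hV₀.fromSpec_primeIdealOf ⟨z, hzV₀⟩⟩
    have h1 := IsAffineOpen.comap_primeIdealOf_appLE (f := f) X₀ hX₀ V₀ hV₀ hle hzV₀
    show PrimeSpectrum.comap (algebraMap Γ(X, X₀) Γ(V, V₀)) (hV₀.primeIdealOf ⟨z, hzV₀⟩) =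
      hX₀.primeIdealOf ⟨genericPoint X, hηX₀⟩
    refine h1.trans ?_
    congr 1
    exact Subtype.ext hfz
  -- the generic point of the local ring
  haveI : IrreducibleSpace (Spec (V.presheaf.stalk v)) := hv
  let ι : Spec (V.presheaf.stalk v) ⟶ V := V.fromSpecStalk v
  let ξ : Spec (V.presheaf.stalk v) := genericPoint (Spec (V.presheaf.stalk v))
  let z₀ : V := ι ξ
  have hrange : ∀ z : V, z ⤳ v → ∃ y, ι y = z := by
    intro z hz
    have : z ∈ Set.range ι := by
      rw [Scheme.range_fromSpecStalk]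
      exact hz
    exact this
  have hz₀v : z₀ ⤳ v := by
    have : z₀ ∈ Set.range ι := ⟨ξ, rfl⟩
    rwa [Scheme.range_fromSpecStalk] at this
  have hspec : ∀ y : Spec (V.presheaf.stalk v), z₀ ⤳ ι y := by
    intro y
    have h1 : ξ ⤳ y := (genericPoint_spec _).specializes (Set.mem_univ y)
    exact h1.map ι.continuous
  have hfz₀ : f z₀ = genericPoint X := by
    obtain ⟨z', hz'z₀, hfz'⟩ := Flat.generalizingMap (f := f)
      ((genericPoint_spec X).specializes (Set.mem_univ (f z₀)))
    obtain ⟨y, rfl⟩ := hrange z' (hz'z₀.trans hz₀v)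
    have h : z₀ = ι y := ((hspec y).antisymm hz'z₀).eq
    rw [h]
    exact hfz'
  have huniq : ∀ z : V, z ⤳ v → f z = genericPoint X → z = z₀ := by
    intro z hzv hfz
    obtain ⟨y, rfl⟩ := hrange z hzv
    exact (hdisc.eq_of_specializes (hspec y) hfz₀ hfz).symm
  -- the closed set to remove
  let G' : Set V := {z | z ∈ G ∧ ¬ z ⤳ v}
  have hG'fin : G'.Finite := hGfin.subset (fun z hz => hz.1)
  let Z : Set V := ⋃ z ∈ G', closure {z}
  have hZ : IsClosed Z := hG'fin.isClosed_biUnion (fun z _ => isClosed_closure)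
  let W : V.Opens := V₀ ⊓ ⟨Zᶜ, hZ.isOpen_compl⟩
  have hvZ : v ∉ Z := by
    intro hvZ
    obtain ⟨z, hz, hvz⟩ := Set.mem_iUnion₂.1 hvZ
    exact hz.2 (specializes_iff_mem_closure.2 hvz)
  refine ⟨W, ⟨hvV₀, hvZ⟩, ?_⟩
  have hsub : (W : Set V) ⊆ closure {z₀} := by
    rintro w ⟨hwV₀, hwZ⟩
    obtain ⟨z, hzw, hfz⟩ := Flat.generalizingMap (f := f)
      ((genericPoint_spec X).specializes (Set.mem_univ (f w)))
    have hzV₀ : z ∈ V₀ := hzw.mem_open V₀.2 hwV₀
    have hzv : z ⤳ v := by
      by_contra hcon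
      exact hwZ (Set.mem_iUnion₂.2 ⟨z, ⟨⟨hzV₀, hfz⟩, hcon⟩, specializes_iff_mem_closure.1 hzw⟩)
    have h := huniq z hzv hfz
    rw [← h]
    exact specializes_iff_mem_closure.1 hzw
  exact (isIrreducible_singleton.closure.isPreirreducible).open_subset W.2 hsub

end H9FE.UnibranchEt
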