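import Mathlib
/-! helper9: clopen subsets and maps bijective on connected components. -/
open TopologicalSpace
universe u
set_option linter.style.haveILetI false
set_option linter.unusedSectionVars false
namespace H9FE

section Top
variable {A B : Type*} [TopologicalSpace A] [TopologicalSpace B]

theorem isClosed_of_saturated [NoetherianSpace B] (S : Set B)
    (hS : ∀ b ∈ S, connectedComponent b ⊆ S) : IsClosed S := by
  have h1 : S = ⋃ Z ∈ {Z ∈ irreducibleComponents B | Z ⊆ S}, Z := by
    apply Set.Subset.antisymm
    · intro b hb
      simp only [Set.mem_iUnion]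
      refine ⟨irreducibleComponent b, ⟨irreducibleComponent_mem_irreducibleComponents b, ?_⟩,
        mem_irreducibleComponent⟩
      exact (isIrreducible_irreducibleComponent.isPreirreducible.isPreconnected.subset_connectedComponent
        mem_irreducibleComponent).trans (hS b hb)
    · intro b hb
      simp only [Set.mem_iUnion] at hb
      obtain ⟨Z, ⟨_, hZ⟩, hb⟩ := hb
      exact hZ hb
  rw [h1]
  apply Set.Finite.isClosed_biUnion
  · exact (NoetherianSpace.finite_irreducibleComponents (α := B)).subset (fun Z hZ => hZ.1)
  · intro Z hZ
    exact isClosed_of_mem_irreducibleComponents Z hZ.1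

theorem isClopen_of_saturated [NoetherianSpace B] (S : Set B)
    (hS : ∀ b ∈ S, connectedComponent b ⊆ S) : IsClopen S := by
  refine ⟨isClosed_of_saturated S hS, ?_⟩
  rw [← isClosed_compl_iff]
  apply isClosed_of_saturated
  intro b hb c hc hcS
  apply hb
  have h2 : connectedComponent c = connectedComponent b := connectedComponent_eq hc |>.symm
  exact hS c hcS (h2 ▸ mem_connectedComponent)

variable {p : A → B} (hp : Continuous p)

theorem clopen_inj_of_surjective (h : Function.Surjective hp.connectedComponentsMap)
    (T : Set B) (hT : IsClopen T) (hpT : p ⁻¹' T = Set.univ) : T = Set.univ := by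
  rw [Set.eq_univ_iff_forall]
  intro b
  obtain ⟨a', ha'⟩ := h (b : ConnectedComponents B)
  obtain ⟨a, rfl⟩ := ConnectedComponents.surjective_coe a'
  have h1 : ((p a : B) : ConnectedComponents B) = (b : ConnectedComponents B) := ha'
  rw [ConnectedComponents.coe_eq_coe'] at h1
  have h2 : p a ∈ T := by
    have : a ∈ p ⁻¹' T := by rw [hpT]; trivial
    exact this
  have h3 : connectedComponent (p a) = connectedComponent b := connectedComponent_eq h1 |>.symm
  exact hT.connectedComponent_subset h2 (h3 ▸ mem_connectedComponent)

theorem clopen_surj_of_injective [NoetherianSpace B]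
    (h : Function.Injective hp.connectedComponentsMap)
    (T' : Set A) (hT' : IsClopen T') : ∃ T : Set B, IsClopen T ∧ p ⁻¹' T = T' := by
  refine ⟨{b | ∃ a ∈ T', p a ∈ connectedComponent b}, ?_, ?_⟩
  · apply isClopen_of_saturated
    rintro b ⟨a, ha, hab⟩ c hc
    refine ⟨a, ha, ?_⟩
    rw [← connectedComponent_eq hc]
    exact hab
  · ext a₁
    constructor
    · rintro ⟨a, ha, hab⟩
      have h1 : ((p a : B) : ConnectedComponents B) = ((p a₁ : B) : ConnectedComponents B) :=
        ConnectedComponents.coe_eq_coe'.mpr hab
      have h2 : hp.connectedComponentsMap (a : ConnectedComponents A) =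
          hp.connectedComponentsMap (a₁ : ConnectedComponents A) := h1
      have h3 := h h2
      rw [ConnectedComponents.coe_eq_coe'] at h3
      have h4 : connectedComponent a = connectedComponent a₁ := connectedComponent_eq h3 |>.symm
      exact hT'.connectedComponent_subset ha (h4 ▸ mem_connectedComponent)
    · intro ha₁
      exact ⟨a₁, ha₁, mem_connectedComponent⟩

end Top


end H9FE
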