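import Mathlib
/-! helper9: a map of concrete presheaves which is bijective on a basis is bijective (sheaf gluing, abstract form) -/
open TopologicalSpace
universe v w
set_option linter.style.haveILetI false
set_option linter.unusedSectionVars false
namespace H9FE

/-- a concrete presheaf of types on a topological space -/
structure PreSh (T : Type v) [TopologicalSpace T] where
  F : Opens T → Type w
  r : ∀ {U V : Opens T}, V ≤ U → F U → F V
  r_comp : ∀ {U V W : Opens T} (h : V ≤ U) (h' : W ≤ V) (x : F U), r h' (r h x) = r (h'.trans h) x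

namespace PreSh
variable {T : Type v} [TopologicalSpace T]

def IsSep (P : PreSh.{v, w} T) : Prop :=
  ∀ (U : Opens T) (x y : P.F U),
    (∀ p ∈ U, ∃ V : Opens T, ∃ h : V ≤ U, p ∈ V ∧ P.r h x = P.r h y) → x = y

def IsGlue (P : PreSh.{v, w} T) : Prop :=
  ∀ (U : Opens T) (ι : Type v) (V : ι → Opens T) (hV : ∀ i, V i ≤ U),
    (∀ p ∈ U, ∃ i, p ∈ V i) → ∀ (s : ∀ i, P.F (V i)),
    (∀ i j, P.r (inf_le_left : V i ⊓ V j ≤ V i) (s i) = P.r (inf_le_right : V i ⊓ V j ≤ V j) (s j)) →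
    ∃ x : P.F U, ∀ i, P.r (hV i) x = s i

/-- tuples -/
def tuple (n : ℕ) (P : PreSh.{v, w} T) : PreSh.{v, w} T where
  F U := Fin n → P.F U
  r h x := fun i => P.r h (x i)
  r_comp h h' x := funext fun i => P.r_comp h h' (x i)

theorem tuple_isSep (n : ℕ) (P : PreSh.{v, w} T) (hP : P.IsSep) : (tuple n P).IsSep := by
  intro U x y h
  funext i
  apply hP U
  intro p hp
  obtain ⟨V, hV, hpV, e⟩ := h p hp
  exact ⟨V, hV, hpV, congrFun e i⟩

theorem tuple_isGlue (n : ℕ) (P : PreSh.{v, w} T) (hP : P.IsGlue) : (tuple n P).IsGlue := by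
  intro U ι V hV hcov s hs
  have : ∀ k : Fin n, ∃ x : P.F U, ∀ i, P.r (hV i) x = s i k := fun k =>
    hP U ι V hV hcov (fun i => s i k) (fun i j => congrFun (hs i j) k)
  choose x hx using this
  exact ⟨x, fun i => funext fun k => hx k i⟩

section Main
variable (P Q : PreSh.{v, w} T) (U₀ : Opens T)
  (φ : ∀ (U : Opens T), U ≤ U₀ → P.F U → Q.F U)
  (φ_nat : ∀ {U V : Opens T} (h : V ≤ U) (hU : U ≤ U₀) (x : P.F U),
    φ V (h.trans hU) (P.r h x) = Q.r h (φ U hU x))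
  (𝓑 : Set (Opens T))
  (hbasis : ∀ U : Opens T, U ≤ U₀ → ∀ p ∈ U, ∃ V ∈ 𝓑, p ∈ V ∧ V ≤ U)

include φ_nat hbasis in
theorem injective_of_basis (hPs : P.IsSep)
    (hB : ∀ V ∈ 𝓑, ∀ hV : V ≤ U₀, Function.Injective (φ V hV))
    (U : Opens T) (hU : U ≤ U₀) : Function.Injective (φ U hU) := by
  intro x y hxy
  apply hPs U
  intro p hp
  obtain ⟨V, hVB, hpV, hVU⟩ := hbasis U hU p hp
  refine ⟨V, hVU, hpV, ?_⟩
  apply hB V hVB (hVU.trans hU)
  rw [φ_nat hVU hU, φ_nat hVU hU, hxy]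

include φ_nat hbasis in
theorem bijective_of_basis (hPs : P.IsSep) (hPg : P.IsGlue) (hQs : Q.IsSep)
    (hB : ∀ V ∈ 𝓑, ∀ hV : V ≤ U₀, Function.Bijective (φ V hV))
    (U : Opens T) (hU : U ≤ U₀) : Function.Bijective (φ U hU) := by
  have hinj := injective_of_basis P Q U₀ φ φ_nat 𝓑 hbasis hPs (fun V hV hV' => (hB V hV hV').1)
  refine ⟨hinj U hU, ?_⟩
  intro t
  let ι : Type v := {V : Opens T // V ∈ 𝓑 ∧ V ≤ U}
  let V : ι → Opens T := fun i => i.1
  have hV : ∀ i, V i ≤ U := fun i => i.2.2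
  have hcov : ∀ p ∈ U, ∃ i, p ∈ V i := by
    intro p hp
    obtain ⟨V', hVB, hpV, hVU⟩ := hbasis U hU p hp
    exact ⟨⟨V', hVB, hVU⟩, hpV⟩
  have hloc : ∀ i : ι, ∃ s : P.F (V i), φ (V i) ((hV i).trans hU) s = Q.r (hV i) t := fun i =>
    (hB i.1 i.2.1 ((hV i).trans hU)).2 _
  choose s hs using hloc
  have hcompat : ∀ i j, P.r (inf_le_left : V i ⊓ V j ≤ V i) (s i) =
      P.r (inf_le_right : V i ⊓ V j ≤ V j) (s j) := by
    intro i j
    apply hinj (V i ⊓ V j) ((inf_le_left.trans (hV i)).trans hU)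
    rw [φ_nat inf_le_left ((hV i).trans hU), φ_nat inf_le_right ((hV j).trans hU), hs, hs,
      Q.r_comp, Q.r_comp]
  obtain ⟨x, hx⟩ := hPg U ι V hV hcov s hcompat
  refine ⟨x, ?_⟩
  apply hQs U
  intro p hp
  obtain ⟨i, hpi⟩ := hcov p hp
  refine ⟨V i, hV i, hpi, ?_⟩
  rw [← φ_nat (hV i) hU, hx, hs]

end Main

end PreSh

end H9FE
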