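import Mathlib
import Groth.Agent.Lib.Helper9.FE.AbsBasis
/-! helper9: structure sheaf and pushforward of structure sheaf of a scheme as concrete presheaves, with separation and gluing -/
open CategoryTheory CategoryTheory.Limits AlgebraicGeometry TopologicalSpace Opposite
universe u
set_option linter.style.haveILetI false
set_option linter.unusedSectionVars false
set_option backward.isDefEq.respectTransparency false
namespace H9FE

section Sec
variable (Z : Scheme.{u})

theorem sec_sep (O : Z.Opens) (x y : Γ(Z, O))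
    (h : ∀ z ∈ O, ∃ O' : Z.Opens, ∃ hO : O' ≤ O, z ∈ O' ∧
      Z.presheaf.map (homOfLE hO).op x = Z.presheaf.map (homOfLE hO).op y) : x = y := by
  choose O' hO hz he using h
  apply Z.sheaf.eq_of_locally_eq' (fun i : {z // z ∈ O} => O' i.1 i.2) O
    (fun i => homOfLE (hO i.1 i.2))
  · intro z hzO
    exact Opens.mem_iSup.mpr ⟨⟨z, hzO⟩, hz z hzO⟩
  · intro i
    exact he i.1 i.2

theorem sec_glue (O : Z.Opens) (ι : Type u) (O' : ι → Z.Opens) (hO : ∀ i, O' i ≤ O)
    (hcov : ∀ z ∈ O, ∃ i, z ∈ O' i) (s : ∀ i, Γ(Z, O' i))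
    (hs : ∀ i j, Z.presheaf.map (homOfLE (inf_le_left : O' i ⊓ O' j ≤ O' i)).op (s i) =
      Z.presheaf.map (homOfLE (inf_le_right : O' i ⊓ O' j ≤ O' j)).op (s j)) :
    ∃ x : Γ(Z, O), ∀ i, Z.presheaf.map (homOfLE (hO i)).op x = s i := by
  obtain ⟨x, hx, -⟩ := Z.sheaf.existsUnique_gluing' O' O (fun i => homOfLE (hO i))
    (fun z hz => by obtain ⟨i, hi⟩ := hcov z hz; exact Opens.mem_iSup.mpr ⟨i, hi⟩) s
    (fun i j => hs i j)
  exact ⟨x, hx⟩

end Sec

section Push
variable {Z T : Scheme.{u}} (q : Z ⟶ T)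

/-- the pushforward of the structure sheaf, as a concrete presheaf -/
noncomputable def pushSh : PreSh.{u, u} ↥T where
  F U := Γ(Z, q ⁻¹ᵁ U)
  r h x := Z.presheaf.map (homOfLE (q.preimage_mono h)).op x
  r_comp h h' x := by
    rw [← CommRingCat.comp_apply, ← Functor.map_comp]
    rfl

theorem pushSh_isSep : (pushSh q).IsSep := by
  intro U x y h
  apply sec_sep Z (q ⁻¹ᵁ U) x y
  intro z hz
  obtain ⟨V, hV, hpV, e⟩ := h (q z) hz
  exact ⟨q ⁻¹ᵁ V, q.preimage_mono hV, hpV, e⟩

theorem pushSh_isGlue : (pushSh q).IsGlue := by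
  intro U ι V hV hcov s hs
  exact sec_glue Z (q ⁻¹ᵁ U) ι (fun i => q ⁻¹ᵁ V i) (fun i => q.preimage_mono (hV i))
    (fun z hz => hcov (q z) hz) s (fun i j => hs i j)

end Push

/-- the structure sheaf, as a concrete presheaf -/
noncomputable def strSh (T : Scheme.{u}) : PreSh.{u, u} ↥T where
  F U := Γ(T, U)
  r h x := T.presheaf.map (homOfLE h).op x
  r_comp h h' x := by
    rw [← CommRingCat.comp_apply, ← Functor.map_comp]
    rfl

theorem strSh_isSep (T : Scheme.{u}) : (strSh T).IsSep := by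
  intro U x y h
  exact sec_sep T U x y h

theorem strSh_isGlue (T : Scheme.{u}) : (strSh T).IsGlue := by
  intro U ι V hV hcov s hs
  exact sec_glue T U ι V hV hcov s hs

end H9FE
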