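import Mathlib
/-! helper9: a finite coproduct of finite morphisms of schemes is finite. -/

open CategoryTheory CategoryTheory.Limits AlgebraicGeometry
universe u
set_option linter.style.haveILetI false
set_option linter.unusedSectionVars false
set_option backward.isDefEq.respectTransparency false
namespace H9FE

theorem isFinite_of_isEmpty {E X : Scheme.{u}} [IsEmpty E] (f : E ⟶ X) : IsFinite f := by
  haveI : IsClosedImmersion f := by
    apply IsClosedImmersion.of_isPreimmersion
    rw [Set.range_eq_empty]
    exact isClosed_empty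
  infer_instance

/-- a finite coproduct of finite morphisms is finite -/
theorem isFinite_sigmaDesc {ι : Type u} [Finite ι] : ∀ {X : Scheme.{u}} (Y : ι → Scheme.{u})
    (f : ∀ i, Y i ⟶ X), (∀ i, IsFinite (f i)) → IsFinite (Sigma.desc f) := by
  refine Finite.induction_empty_option (P := fun ι : Type u => ∀ {X : Scheme.{u}}
    (Y : ι → Scheme.{u}) (f : ∀ i, Y i ⟶ X), (∀ i, IsFinite (f i)) → IsFinite (Sigma.desc f))
    ?_ ?_ ?_ ι
  · intro α β e h X Y f hf
    have h1 : Sigma.desc f = (Sigma.reindex e Y).inv ≫ Sigma.desc (fun a => f (e a)) := by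
      rw [Iso.eq_inv_comp]
      apply Sigma.hom_ext
      intro a
      rw [Sigma.ι_reindex_hom_assoc, Sigma.ι_desc, Sigma.ι_desc]
    rw [h1]
    haveI := h (Y ∘ e) (fun a => f (e a)) (fun a => hf (e a))
    infer_instance
  · intro X Y f _
    haveI : IsEmpty (∐ Y : Scheme.{u}) := by
      rw [← (sigmaMk Y).isEmpty_congr]
      infer_instance
    exact isFinite_of_isEmpty _
  · intro α _ h X Y f hf
    let ψ : (∐ Y : Scheme.{u}) ⟶ (∐ fun a => Y (some a)) ⨿ Y none :=
      Sigma.desc (fun o => match o with
        | some a => Sigma.ι (fun a => Y (some a)) a ≫ coprod.inl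
        | none => coprod.inr)
    have h1 : Sigma.desc f =
        ψ ≫ coprod.desc (Sigma.desc (fun a => f (some a))) (f none) := by
      apply Sigma.hom_ext
      rintro (_ | a)
      · simp [ψ]
      · simp [ψ]
    let φ : (∐ fun a => Y (some a)) ⨿ Y none ⟶ (∐ Y : Scheme.{u}) :=
      coprod.desc (Sigma.desc (fun a => Sigma.ι Y (some a))) (Sigma.ι Y none)
    haveI : IsIso ψ := by
      refine ⟨φ, ?_, ?_⟩
      · apply Sigma.hom_ext
        rintro (_ | a)
        · simp [ψ, φ]
        · simp [ψ, φ]
      · apply coprod.hom_ext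
        · apply Sigma.hom_ext
          intro a
          simp [ψ, φ]
        · simp [ψ, φ]
    haveI := h (fun a => Y (some a)) (fun a => f (some a)) (fun a => hf (some a))
    haveI := hf none
    rw [h1]
    infer_instance

end H9FE
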