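import Mathlib
import Groth.Prelude.Def_ARSys

/-! helper9: AR-adic systems of modules with an explicit translation constant; the elementwise
consequences used to glue AR-adic systems of sheaves. -/

set_option autoImplicit false
set_option linter.unusedSectionVars false
set_option linter.style.haveILetI false
set_option backward.isDefEq.respectTransparency false
universe w v u
open CategoryTheory CategoryTheory.Limits Opposite

namespace H9FE.ARCore

section Basic

variable {C : Type u} [Category.{v} C]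

lemma map_comp_le (X : ARSys.PS C) {a b c : ℕ} (h₁ : a ≤ b) (h₂ : b ≤ c) :
    X.map (homOfLE h₂).op ≫ X.map (homOfLE h₁).op = X.map (homOfLE (h₁.trans h₂)).op := by
  rw [← X.map_comp]
  rfl

lemma map_le_congr (X : ARSys.PS C) {a b : ℕ} (h₁ h₂ : a ≤ b) :
    X.map (homOfLE h₁).op = X.map (homOfLE h₂).op := rfl

/-- null up to translation, with a given constant -/
def NullBy [HasZeroMorphisms C] (r : ℕ) (X : ARSys.PS C) : Prop :=
  ∀ n : ℕ, ARSys.shiftMap X r n = 0

lemma NullBy.mono [HasZeroMorphisms C] {r r' : ℕ} (h : r ≤ r') {X : ARSys.PS C}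
    (hX : NullBy r X) : NullBy r' X := by
  intro n
  have h1 : ARSys.shiftMap X r' n =
      X.map (homOfLE (Nat.add_le_add_left h n)).op ≫ X.map (homOfLE (Nat.le_add_right n r)).op :=
    (map_comp_le X _ _).symm
  have h2 : X.map (homOfLE (Nat.le_add_right n r)).op = 0 := hX n
  rw [h1, h2, comp_zero]

lemma NullBy.isARNull [HasZeroMorphisms C] {r : ℕ} {X : ARSys.PS C} (hX : NullBy r X) :
    ARSys.IsARNull X := ⟨r, hX⟩

lemma nullBy_of_iso [HasZeroMorphisms C] {r : ℕ} {X X' : ARSys.PS C} (e : X ≅ X')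
    (h : NullBy r X) : NullBy r X' := by
  intro n
  have h1 := e.hom.naturality (homOfLE (Nat.le_add_right n r)).op
  have h2 : X.map (homOfLE (Nat.le_add_right n r)).op = 0 := h n
  rw [h2, zero_comp] at h1
  have h3 : e.hom.app (op (n + r)) ≫ X'.map (homOfLE (Nat.le_add_right n r)).op = 0 := h1.symm
  have h4 : e.hom.app (op (n + r)) ≫ X'.map (homOfLE (Nat.le_add_right n r)).op =
      e.hom.app (op (n + r)) ≫ 0 := by rw [h3, comp_zero]
  exact (cancel_epi (e.hom.app (op (n + r)))).1 h4

lemma nullBy_comp {D : Type*} [Category D] [HasZeroMorphisms C] [HasZeroMorphisms D] (L : C ⥤ D)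
    [L.PreservesZeroMorphisms] {r : ℕ} {K : ARSys.PS C} (h : NullBy r K) :
    NullBy r (K ⋙ L) := by
  intro n
  have h1 : ARSys.shiftMap (K ⋙ L) r n = L.map (ARSys.shiftMap K r n) := rfl
  rw [h1, h n, L.map_zero]

end Basic

section Elt

variable {Λ : Type w} [CommRing Λ]

instance evalPresLim (k : ℕᵒᵖ) :
    PreservesFiniteLimits ((evaluation ℕᵒᵖ (ModuleCat.{w} Λ)).obj k) :=
  ⟨fun J _ _ => inferInstance⟩

instance evalPresColim (k : ℕᵒᵖ) :
    PreservesFiniteColimits ((evaluation ℕᵒᵖ (ModuleCat.{w} Λ)).obj k) :=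
  ⟨fun J _ _ => inferInstance⟩

variable {Y N : ARSys.PS (ModuleCat.{w} Λ)} (v : Y ⟶ N)

lemma ker_elt (r : ℕ) (h : NullBy r (kernel v)) (n : ℕ) (y : Y.obj (op (n + r)))
    (hy : v.app (op (n + r)) y = 0) :
    Y.map (homOfLE (Nat.le_add_right n r)).op y = 0 := by
  let S : ShortComplex (ARSys.PS (ModuleCat.{w} Λ)) :=
    ShortComplex.mk (kernel.ι v) v (kernel.condition v)
  have hS : S.Exact := ShortComplex.exact_of_f_is_kernel _ (kernelIsKernel v)
  have hS' := hS.map ((evaluation ℕᵒᵖ (ModuleCat.{w} Λ)).obj (op (n + r)))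
  obtain ⟨z, hz⟩ := (ShortComplex.moduleCat_exact_iff _).1 hS' y hy
  have hz' : (kernel.ι v).app (op (n + r)) z = y := hz
  have hnat := (kernel.ι v).naturality (homOfLE (Nat.le_add_right n r)).op
  have h0 : (kernel v).map (homOfLE (Nat.le_add_right n r)).op = 0 := h n
  rw [h0, zero_comp] at hnat
  rw [← hz', ← ModuleCat.comp_apply, ← hnat]
  rfl

lemma coker_elt (r : ℕ) (h : NullBy r (cokernel v)) (n : ℕ) (x : N.obj (op (n + r))) :
    ∃ y : Y.obj (op n), v.app (op n) y = N.map (homOfLE (Nat.le_add_right n r)).op x := by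
  let S : ShortComplex (ARSys.PS (ModuleCat.{w} Λ)) :=
    ShortComplex.mk v (cokernel.π v) (cokernel.condition v)
  have hS : S.Exact := ShortComplex.exact_of_g_is_cokernel _ (cokernelIsCokernel v)
  have hS' := hS.map ((evaluation ℕᵒᵖ (ModuleCat.{w} Λ)).obj (op n))
  apply (ShortComplex.moduleCat_exact_iff _).1 hS'
  have hnat := (cokernel.π v).naturality (homOfLE (Nat.le_add_right n r)).op
  have h0 : (cokernel v).map (homOfLE (Nat.le_add_right n r)).op = 0 := h n
  rw [h0, comp_zero] at hnat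
  change (cokernel.π v).app (op n) (N.map (homOfLE (Nat.le_add_right n r)).op x) = 0
  rw [← ModuleCat.comp_apply, hnat]
  rfl

end Elt

end H9FE.ARCore
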