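import Mathlib
import Groth.Prelude.Def_ARSys
import Groth.Agent.Lib.Helper9.FE.ARCore1

/-! helper9: the module-level core of gluing AR-adic systems: elementwise consequences of an
AR-adic datum with explicit translation constant. -/

set_option autoImplicit false
set_option linter.unusedSectionVars false
set_option linter.style.haveILetI false
set_option backward.isDefEq.respectTransparency false
universe w v u
open CategoryTheory CategoryTheory.Limits Opposite

namespace H9FE.ARCore

section GenAdic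

variable {A : Type w} [CommRing A] {C : Type u} [Category.{v} C] [Preadditive C] [Linear A C]

lemma epi_of_isQuot {I : Ideal A} {X Q : C} {p : X ⟶ Q} (hp : ARSys.IsQuot I p) : Epi p := by
  constructor
  intro Z a b hab
  have hk : ARSys.HomKilledBy I (p ≫ a) := by
    intro c hc
    have h1 : c • (p ≫ a) = p ≫ (c • 𝟙 Q) ≫ a := by
      rw [Linear.smul_comp, Linear.comp_smul, Category.id_comp]
    rw [h1, hp.1 c hc, zero_comp, comp_zero]
  obtain ⟨ψ, -, huniq⟩ := hp.2 Z (p ≫ a) hk
  rw [huniq a rfl, huniq b hab.symm]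

end GenAdic

section Mod

variable {Λ : Type w} [CommRing Λ]

lemma isQuot_surj {J : Ideal Λ} {X Q : ModuleCat.{w} Λ} {p : X ⟶ Q} (h : ARSys.IsQuot J p) :
    Function.Surjective p := by
  haveI := epi_of_isQuot h
  exact (ModuleCat.epi_iff_surjective _).1 inferInstance

lemma killed_elt {J : Ideal Λ} {X : ModuleCat.{w} Λ} (h : ARSys.KilledBy J X) (a : Λ) (ha : a ∈ J)
    (y : X) : a • y = 0 := by
  have h1 : (a • 𝟙 X : X ⟶ X).hom y = (0 : X ⟶ X).hom y := by rw [h a ha]
  rw [ModuleCat.hom_smul, ModuleCat.hom_id, LinearMap.smul_apply, LinearMap.id_apply,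
    ModuleCat.hom_zero, LinearMap.zero_apply] at h1
  exact h1

lemma eq_zero_of_mem_smul_top {J : Ideal Λ} {X : ModuleCat.{w} Λ} (h : ARSys.KilledBy J X)
    (s : X) (hs : s ∈ J • (⊤ : Submodule Λ X)) : s = 0 := by
  refine Submodule.smul_induction_on hs (fun a ha y _ => killed_elt h a ha y) ?_
  intro x y hx hy
  rw [hx, hy, add_zero]

lemma map_mem_smul_top {J : Ideal Λ} {X Y : ModuleCat.{w} Λ} (f : X ⟶ Y) (s : X)
    (hs : s ∈ J • (⊤ : Submodule Λ X)) : f s ∈ J • (⊤ : Submodule Λ Y) := by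
  have h1 : f.hom s ∈ (J • (⊤ : Submodule Λ X)).map f.hom := Submodule.mem_map_of_mem hs
  rw [Submodule.map_smul''] at h1
  exact Submodule.smul_mono le_rfl le_top h1

lemma isQuot_ker {J : Ideal Λ} {X Q : ModuleCat.{w} Λ} {p : X ⟶ Q} (h : ARSys.IsQuot J p)
    (x : X) (hx : p x = 0) : x ∈ J • (⊤ : Submodule Λ X) := by
  let q : X ⟶ ModuleCat.of Λ (X ⧸ (J • (⊤ : Submodule Λ X))) :=
    ModuleCat.ofHom (Submodule.mkQ _)
  have hq : ARSys.HomKilledBy J q := by
    intro a ha
    apply ModuleCat.hom_ext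
    apply LinearMap.ext
    intro y
    have h1 : (a • q).hom y = a • (q.hom y) := by simp
    rw [h1]
    have h2 : a • (q.hom y) = Submodule.mkQ (J • (⊤ : Submodule Λ X)) (a • y) := by
      simp [q]
    rw [h2]
    exact (Submodule.Quotient.mk_eq_zero _).2 (Submodule.smul_mem_smul ha Submodule.mem_top)
  obtain ⟨ψ, hψ, -⟩ := h.2 _ q hq
  have h1 : q x = ψ (p x) := by rw [← hψ]; rfl
  rw [hx, map_zero] at h1
  exact (Submodule.Quotient.mk_eq_zero _).1 h1

lemma map_map_apply (N : ARSys.PS (ModuleCat.{w} Λ)) {a b c : ℕ} (h₁ : a ≤ b) (h₂ : b ≤ c)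
    (x : N.obj (op c)) :
    N.map (homOfLE h₁).op (N.map (homOfLE h₂).op x) = N.map (homOfLE (h₁.trans h₂)).op x := by
  rw [← ModuleCat.comp_apply, map_comp_le]

lemma nat_apply {Y N : ARSys.PS (ModuleCat.{w} Λ)} (v : Y ⟶ N) {a b : ℕ} (h : a ≤ b)
    (y : Y.obj (op b)) :
    v.app (op a) (Y.map (homOfLE h).op y) = N.map (homOfLE h).op (v.app (op b) y) := by
  rw [← ModuleCat.comp_apply, ← ModuleCat.comp_apply, v.naturality]

/-- an AR-adic datum with translation constant `r` -/
def HasDatum (I : Ideal Λ) (N : ARSys.PS (ModuleCat.{w} Λ)) (r : ℕ) : Prop :=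
  ∃ (Y : ARSys.PS (ModuleCat.{w} Λ)) (v : Y ⟶ N),
    ARSys.IsAdic I Y ∧ NullBy r (kernel v) ∧ NullBy r (cokernel v)

/-- the elementwise consequences of an AR-adic datum that are used for gluing -/
structure Good (I : Ideal Λ) (N : ARSys.PS (ModuleCat.{w} Λ)) (r : ℕ) : Prop where
  q1 : ∀ (n m : ℕ) (h : n ≤ m) (x : N.obj (op (n + r + r))),
    ∃ z : N.obj (op (m + r + r)),
      N.map (homOfLE (Nat.le_add_right (n + r) r)).op x =
        N.map (homOfLE (Nat.le_add_right (n + r) r)).op
          (N.map (homOfLE (Nat.add_le_add_right (Nat.add_le_add_right h r) r)).op z)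
  q2 : ∀ (n m : ℕ) (h : n ≤ m) (x : N.obj (op (m + r + r))),
    (N.map (homOfLE (Nat.add_le_add_right (Nat.add_le_add_right h r) r)).op).hom x ∈
        LinearMap.ker (N.map (homOfLE (Nat.le_add_right (n + r) r)).op).hom ⊔
          (I ^ (n + 1)) • (⊤ : Submodule Λ (N.obj (op (n + r + r)))) →
      x ∈ LinearMap.ker (N.map (homOfLE (Nat.le_add_right (m + r) r)).op).hom ⊔
          (I ^ (n + 1)) • (⊤ : Submodule Λ (N.obj (op (m + r + r))))
  q4 : ∀ (n : ℕ) (x : N.obj (op (n + r))), ∃ z : N.obj (op (n + r + r)),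
    N.map (homOfLE ((Nat.le_add_right n r).trans (Nat.le_add_right (n + r) r))).op z =
      N.map (homOfLE (Nat.le_add_right n r)).op x

theorem good_of_datum (I : Ideal Λ) (N : ARSys.PS (ModuleCat.{w} Λ)) (r : ℕ)
    (h : HasDatum I N r) : Good I N r := by
  obtain ⟨Y, v, hY, hK, hC⟩ := h
  have F1 : ∀ (n : ℕ) (x : N.obj (op (n + r))), ∃ y : Y.obj (op n),
      v.app (op n) y = N.map (homOfLE (Nat.le_add_right n r)).op x := coker_elt v r hC
  have F3b : ∀ (n m : ℕ) (h : n ≤ m) (y : Y.obj (op n)), ∃ x : N.obj (op m),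
      N.map (homOfLE h).op x = v.app (op n) y := by
    intro n m h y
    obtain ⟨y', hy'⟩ := isQuot_surj (hY.2 n m h) y
    refine ⟨v.app (op m) y', ?_⟩
    rw [← nat_apply]
    exact congrArg _ hy'
  refine ⟨?_, ?_, ?_⟩
  · intro n m h x
    obtain ⟨y, hy⟩ := F1 (n + r) x
    obtain ⟨z, hz⟩ := F3b (n + r) (m + r + r) (by omega) y
    refine ⟨z, ?_⟩
    rw [map_map_apply, ← hy]
    exact hz.symm
  · intro n m h x hx
    -- notation
    have hnm1 : n + r + r ≤ m + r + r := Nat.add_le_add_right (Nat.add_le_add_right h r) r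
    obtain ⟨k, hk, s, hs, hks⟩ := Submodule.mem_sup.1 hx
    have hk' : N.map (homOfLE (Nat.le_add_right (n + r) r)).op k = 0 := LinearMap.mem_ker.1 hk
    -- step 1
    have h1 : N.map (homOfLE (Nat.le_add_right (n + r) r)).op (N.map (homOfLE hnm1).op x) ∈
        (I ^ (n + 1)) • LinearMap.range (N.map (homOfLE (Nat.le_add_right (n + r) r)).op).hom := by
      have e1 : N.map (homOfLE hnm1).op x = k + s := hks.symm
      rw [e1, map_add, hk', zero_add]
      have h1 : (N.map (homOfLE (Nat.le_add_right (n + r) r)).op).hom s ∈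
          ((I ^ (n + 1)) • (⊤ : Submodule Λ (N.obj (op (n + r + r))))).map
            (N.map (homOfLE (Nat.le_add_right (n + r) r)).op).hom := Submodule.mem_map_of_mem hs
      rw [Submodule.map_smul'', Submodule.map_top] at h1
      exact h1
    -- step 2
    have h2 : LinearMap.range (N.map (homOfLE (Nat.le_add_right (n + r) r)).op).hom ≤
        LinearMap.range (v.app (op (n + r))).hom := by
      rintro _ ⟨x', rfl⟩
      obtain ⟨y, hy⟩ := F1 (n + r) x'
      exact ⟨y, hy⟩
    have h2' : N.map (homOfLE (Nat.le_add_right (n + r) r)).op (N.map (homOfLE hnm1).op x) ∈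
        ((I ^ (n + 1)) • (⊤ : Submodule Λ (Y.obj (op (n + r))))).map (v.app (op (n + r))).hom := by
      rw [Submodule.map_smul'', Submodule.map_top]
      exact Submodule.smul_mono le_rfl h2 h1
    obtain ⟨z, hz, hvz⟩ := Submodule.mem_map.1 h2'
    -- step 3
    obtain ⟨y, hy⟩ := F1 (m + r) x
    have h3 : v.app (op (n + r)) (Y.map (homOfLE (Nat.add_le_add_right h r)).op y) =
        N.map (homOfLE (Nat.le_add_right (n + r) r)).op (N.map (homOfLE hnm1).op x) := by
      rw [nat_apply, hy, map_map_apply, map_map_apply]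
    -- step 4
    have h4 : v.app (op (n + r)) (Y.map (homOfLE (Nat.add_le_add_right h r)).op y - z) = 0 := by
      rw [map_sub, h3]
      have : (v.app (op (n + r))) z =
          N.map (homOfLE (Nat.le_add_right (n + r) r)).op (N.map (homOfLE hnm1).op x) := hvz
      rw [this, sub_self]
    have h5 := ker_elt v r hK n _ h4
    have h6 : Y.map (homOfLE (Nat.le_add_right n r)).op z = 0 :=
      eq_zero_of_mem_smul_top (hY.1 n) _ (map_mem_smul_top _ z hz)
    have h7 : Y.map (homOfLE ((Nat.le_add_right n r).trans (Nat.add_le_add_right h r))).op y = 0 := by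
      rw [map_sub, h6, sub_zero, map_map_apply] at h5
      exact h5
    have h8 : y ∈ (I ^ (n + 1)) • (⊤ : Submodule Λ (Y.obj (op (m + r)))) :=
      isQuot_ker (hY.2 n (m + r) ((Nat.le_add_right n r).trans (Nat.add_le_add_right h r))) y h7
    -- step 5
    have h9r : LinearMap.range (v.app (op (m + r))).hom ≤
        LinearMap.range (N.map (homOfLE (Nat.le_add_right (m + r) r)).op).hom := by
      rintro _ ⟨y', rfl⟩
      obtain ⟨x', hx'⟩ := F3b (m + r) (m + r + r) (Nat.le_add_right (m + r) r) y'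
      exact ⟨x', hx'⟩
    have h9 : N.map (homOfLE (Nat.le_add_right (m + r) r)).op x ∈
        ((I ^ (n + 1)) • (⊤ : Submodule Λ (N.obj (op (m + r + r))))).map
          (N.map (homOfLE (Nat.le_add_right (m + r) r)).op).hom := by
      rw [Submodule.map_smul'', Submodule.map_top, ← hy]
      have h10 : (v.app (op (m + r))).hom y ∈
          ((I ^ (n + 1)) • (⊤ : Submodule Λ (Y.obj (op (m + r))))).map (v.app (op (m + r))).hom :=
        Submodule.mem_map_of_mem h8
      rw [Submodule.map_smul'', Submodule.map_top] at h10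
      exact Submodule.smul_mono le_rfl h9r h10
    obtain ⟨s', hs', hτs⟩ := Submodule.mem_map.1 h9
    refine Submodule.mem_sup.2 ⟨x - s', ?_, s', hs', sub_add_cancel x s'⟩
    rw [LinearMap.mem_ker, map_sub, hτs, sub_self]
  · intro n x
    obtain ⟨y, hy⟩ := F1 n x
    obtain ⟨z, hz⟩ := F3b n (n + r + r) ((Nat.le_add_right n r).trans (Nat.le_add_right (n + r) r)) y
    exact ⟨z, hz.trans hy⟩

end Mod

end H9FE.ARCore
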