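import Mathlib
import Groth.Prelude.Def_ARSys
import Groth.Agent.Lib.Helper9.FE.ARCore2

/-! helper9: the canonical `I`-adic system attached to a projective system `F` in a linear abelian
category and a translation constant `r`:
`G_n = Im (F_{n+2r} → F_{n+r}) / I^{n+1}`, constructed as a cokernel, together with `G ⟶ F`. -/

set_option autoImplicit false
set_option linter.unusedSectionVars false
set_option linter.style.haveILetI false
set_option backward.isDefEq.respectTransparency false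
universe w v u
open CategoryTheory CategoryTheory.Limits Opposite
open scoped ZeroObject

namespace H9FE.ARCore

variable {Λ : Type w} [CommRing Λ] {C : Type u} [Category.{v} C] [Abelian C] [Linear Λ C]

section Pow

/-- iterated biproduct of `k` copies of `X` -/
noncomputable def powObj : ℕ → C → C
  | 0, _ => 0
  | (k + 1), X => X ⊞ powObj k X

/-- the map `X^k ⟶ X` given by the elements `g j` -/
noncomputable def sdesc : ∀ (k : ℕ) (_ : Fin k → Λ) (X : C), powObj k X ⟶ X
  | 0, _, _ => 0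
  | (k + 1), g, X => biprod.desc (g 0 • 𝟙 X) (sdesc k (fun j => g j.succ) X)

lemma exists_lift_sum : ∀ (k : ℕ) (g c : Fin k → Λ) (X : C),
    ∃ θ : X ⟶ powObj k X, θ ≫ sdesc k g X = (∑ j, c j * g j) • 𝟙 X
  | 0, g, c, X => ⟨0, by simp⟩
  | (k + 1), g, c, X => by
    obtain ⟨θ', hθ'⟩ := exists_lift_sum k (fun j => g j.succ) (fun j => c j.succ) X
    refine ⟨biprod.lift (c 0 • 𝟙 X) θ', ?_⟩
    show biprod.lift (c 0 • 𝟙 X) θ' ≫ biprod.desc (g 0 • 𝟙 X) (sdesc k (fun j => g j.succ) X) = _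
    rw [biprod.lift_desc, hθ', Fin.sum_univ_succ, add_smul, Linear.smul_comp, Linear.comp_smul,
      Category.id_comp, smul_smul]

lemma exists_lift_smul (k : ℕ) (g : Fin k → Λ) (X : C) (a : Λ)
    (ha : a ∈ Ideal.span (Set.range g)) :
    ∃ θ : X ⟶ powObj k X, θ ≫ sdesc k g X = a • 𝟙 X := by
  obtain ⟨c, hc⟩ := (Submodule.mem_span_range_iff_exists_fun Λ).1 ha
  obtain ⟨θ, hθ⟩ := exists_lift_sum k g c X
  refine ⟨θ, ?_⟩
  rw [hθ, ← hc]
  rfl

lemma sdesc_comp_eq_zero : ∀ (k : ℕ) (g : Fin k → Λ) {X Y : C} (φ : X ⟶ Y),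
    (∀ j, g j • φ = 0) → sdesc k g X ≫ φ = 0
  | 0, g, X, Y, φ, _ => zero_comp
  | (k + 1), g, X, Y, φ, h => by
    show biprod.desc (g 0 • 𝟙 X) (sdesc k (fun j => g j.succ) X) ≫ φ = 0
    apply biprod.hom_ext'
    · rw [biprod.inl_desc_assoc, comp_zero, Linear.smul_comp, Category.id_comp, h 0]
    · rw [biprod.inr_desc_assoc, comp_zero]
      exact sdesc_comp_eq_zero k _ φ (fun j => h j.succ)

lemma powObj_prop (P : ObjectProperty C) [P.IsClosedUnderExtensions] (h0 : P (0 : C)) :
    ∀ (k : ℕ) (X : C), P X → P (powObj k X)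
  | 0, _, _ => h0
  | (k + 1), X, hX => P.prop_biprod hX (powObj_prop P h0 k X hX)

end Pow

section TPow

variable (T : C ⥤ ModuleCat.{w} Λ) [T.Additive] [Functor.Linear Λ T]

lemma map_smul_id_apply {X : C} (a : Λ) (x : T.obj X) :
    (T.map (a • 𝟙 X)).hom x = a • x := by
  rw [T.map_smul, T.map_id, ModuleCat.hom_smul, ModuleCat.hom_id, LinearMap.smul_apply,
    LinearMap.id_apply]

lemma map_sdesc_mem : ∀ (k : ℕ) (g : Fin k → Λ) (X : C) (z : T.obj (powObj k X)),
    (T.map (sdesc k g X)).hom z ∈ Ideal.span (Set.range g) • (⊤ : Submodule Λ (T.obj X))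
  | 0, g, X, z => by
    have h : sdesc 0 g X = 0 := rfl
    rw [h, T.map_zero, ModuleCat.hom_zero, LinearMap.zero_apply]
    exact Submodule.zero_mem _
  | (k + 1), g, X, z => by
    have h : sdesc (k + 1) g X =
        biprod.fst ≫ (g 0 • 𝟙 X) + biprod.snd ≫ sdesc k (fun j => g j.succ) X :=
      biprod.desc_eq
    rw [h, T.map_add, ModuleCat.hom_add, LinearMap.add_apply, T.map_comp, T.map_comp,
      ModuleCat.hom_comp, ModuleCat.hom_comp, LinearMap.comp_apply, LinearMap.comp_apply,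
      map_smul_id_apply]
    refine Submodule.add_mem _ ?_ ?_
    · exact Submodule.smul_mem_smul (Ideal.subset_span ⟨0, rfl⟩) Submodule.mem_top
    · have h1 := map_sdesc_mem k (fun j => g j.succ) X ((T.map biprod.snd).hom z)
      refine Submodule.smul_mono (Ideal.span_mono ?_) le_rfl h1
      rintro _ ⟨j, rfl⟩
      exact ⟨j.succ, rfl⟩

lemma map_kills_smul_top {A B : C} (φ : A ⟶ B) (J : Ideal Λ) (h : ∀ a ∈ J, a • φ = 0)
    (s : T.obj A) (hs : s ∈ J • (⊤ : Submodule Λ (T.obj A))) : (T.map φ).hom s = 0 := by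
  refine Submodule.smul_induction_on hs ?_ ?_
  · intro a ha y _
    have h1 : T.map (a • φ) = 0 := by rw [h a ha, T.map_zero]
    rw [T.map_smul] at h1
    have h2 : (a • T.map φ).hom y = 0 := by rw [h1, ModuleCat.hom_zero, LinearMap.zero_apply]
    rw [ModuleCat.hom_smul, LinearMap.smul_apply] at h2
    rw [map_smul]
    exact h2
  · intro x y hx hy
    rw [map_add, hx, hy, add_zero]

end TPow

end H9FE.ARCore
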