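import Mathlib
import Groth.Prelude.Def_ARSys
import Groth.Agent.Lib.Helper9.FE.ARCore3

/-! helper9: the canonical `I`-adic system attached to a projective system `F` in a linear abelian
category and a translation constant `r` (construction and formal properties). -/

set_option autoImplicit false
set_option linter.unusedSectionVars false
set_option linter.style.haveILetI false
set_option backward.isDefEq.respectTransparency false
universe w v u
open CategoryTheory CategoryTheory.Limits Opposite
open scoped ZeroObject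

namespace H9FE.ARCore

variable {Λ : Type w} [CommRing Λ] {C : Type u} [Category.{v} C] [Abelian C] [Linear Λ C]

section Construction

variable (I : Ideal Λ) (F : ARSys.PS C) (r : ℕ) {kk : ℕ → ℕ} (g : ∀ n, Fin (kk n) → Λ)

/-- `F_{n+2r}` -/
abbrev EE (n : ℕ) : C := F.obj (op (n + r + r))

/-- `F_{n+2r} ⟶ F_{n+r}` -/
abbrev tau (n : ℕ) : EE F r n ⟶ F.obj (op (n + r)) :=
  F.map (homOfLE (Nat.le_add_right (n + r) r)).op

/-- `F_{m+2r} ⟶ F_{n+2r}` -/
abbrev tt {n m : ℕ} (h : n ≤ m) : EE F r m ⟶ EE F r n :=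
  F.map (homOfLE (Nat.add_le_add_right (Nat.add_le_add_right h r) r)).op

/-- `F_{n+2r} ⟶ F_n` -/
abbrev ww (n : ℕ) : EE F r n ⟶ F.obj (op n) :=
  F.map (homOfLE ((Nat.le_add_right n r).trans (Nat.le_add_right (n + r) r))).op

/-- the map whose cokernel is `G_n` -/
noncomputable def phi (n : ℕ) :
    kernel (tau F r n) ⊞ powObj (kk n) (EE F r n) ⟶ EE F r n :=
  biprod.desc (kernel.ι (tau F r n)) (sdesc (kk n) (g n) (EE F r n))

/-- `G_n` -/
noncomputable abbrev GG (n : ℕ) : C := cokernel (phi F r g n)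

/-- `F_{n+2r} ⟶ G_n` -/
noncomputable abbrev pp (n : ℕ) : EE F r n ⟶ GG F r g n := cokernel.π (phi F r g n)

lemma ker_pp (n : ℕ) : kernel.ι (tau F r n) ≫ pp F r g n = 0 := by
  have h := cokernel.condition (phi F r g n)
  have h1 : biprod.inl ≫ phi F r g n = kernel.ι (tau F r n) := biprod.inl_desc _ _
  rw [← h1, Category.assoc, h, comp_zero]

lemma sd_pp (n : ℕ) : sdesc (kk n) (g n) (EE F r n) ≫ pp F r g n = 0 := by
  have h := cokernel.condition (phi F r g n)
  have h1 : biprod.inr ≫ phi F r g n = sdesc (kk n) (g n) (EE F r n) := biprod.inr_desc _ _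
  rw [← h1, Category.assoc, h, comp_zero]

variable (hg : ∀ n, Ideal.span (Set.range (g n)) = I ^ (n + 1))

include hg in
lemma smul_pp (n : ℕ) (a : Λ) (ha : a ∈ I ^ (n + 1)) : a • pp F r g n = 0 := by
  obtain ⟨θ, hθ⟩ := exists_lift_smul (kk n) (g n) (EE F r n) a (by rw [hg n]; exact ha)
  have h1 : a • pp F r g n = (a • 𝟙 _) ≫ pp F r g n := by
    rw [Linear.smul_comp, Category.id_comp]
  rw [h1, ← hθ, Category.assoc, sd_pp, comp_zero]

include hg in
lemma gen_mem (n : ℕ) (j : Fin (kk n)) : g n j ∈ I ^ (n + 1) := by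
  rw [← hg n]
  exact Ideal.subset_span ⟨j, rfl⟩

include hg in
lemma phi_tt_pp {n m : ℕ} (h : n ≤ m) : phi F r g m ≫ tt F r h ≫ pp F r g n = 0 := by
  apply biprod.hom_ext'
  · rw [comp_zero]
    unfold phi
    rw [biprod.inl_desc_assoc]
    have e : tt F r h ≫ tau F r n =
        tau F r m ≫ F.map (homOfLE (Nat.add_le_add_right h r)).op := by
      rw [map_comp_le, map_comp_le]
    have e2 : (kernel.ι (tau F r m) ≫ tt F r h) ≫ tau F r n = 0 := by
      rw [Category.assoc, e, kernel.condition_assoc, zero_comp]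
    have e3 : kernel.ι (tau F r m) ≫ tt F r h =
        kernel.lift (tau F r n) _ e2 ≫ kernel.ι (tau F r n) := (kernel.lift_ι _ _ _).symm
    rw [← Category.assoc, e3, Category.assoc, ker_pp, comp_zero]
  · rw [comp_zero]
    unfold phi
    rw [biprod.inr_desc_assoc]
    apply sdesc_comp_eq_zero
    intro j
    have hj : g m j ∈ I ^ (n + 1) :=
      Ideal.pow_le_pow_right (Nat.succ_le_succ h) (gen_mem I g hg m j)
    rw [← Linear.comp_smul, smul_pp I F r g hg n (g m j) hj, comp_zero]

variable (hk : ARSys.TermKilled I F)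

include hg hk in
lemma phi_ww (n : ℕ) : phi F r g n ≫ ww F r n = 0 := by
  have e : ww F r n = tau F r n ≫ F.map (homOfLE (Nat.le_add_right n r)).op :=
    (map_comp_le F _ _).symm
  apply biprod.hom_ext'
  · rw [comp_zero]
    unfold phi
    rw [biprod.inl_desc_assoc, e, kernel.condition_assoc, zero_comp]
  · rw [comp_zero]
    unfold phi
    rw [biprod.inr_desc_assoc]
    apply sdesc_comp_eq_zero
    intro j
    have h1 : g n j • ww F r n = ww F r n ≫ (g n j • 𝟙 _) := by
      rw [Linear.comp_smul, Category.comp_id]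
    rw [h1, hk n (g n j) (gen_mem I g hg n j), comp_zero]

/-- the canonical system `G` -/
noncomputable def Gsys : ARSys.PS C where
  obj a := GG F r g a.unop
  map {a b} f := cokernel.desc (phi F r g a.unop) (tt F r (leOfHom f.unop) ≫ pp F r g b.unop)
    (phi_tt_pp I F r g hg (leOfHom f.unop))
  map_id a := by
    rw [← cancel_epi (cokernel.π (phi F r g a.unop)), cokernel.π_desc, Category.comp_id]
    have h1 : tt F r (leOfHom (𝟙 a : a ⟶ a).unop) = 𝟙 _ := F.map_id _
    rw [h1, Category.id_comp]
  map_comp {a b c} f f' := by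
    rw [← cancel_epi (cokernel.π (phi F r g a.unop)), cokernel.π_desc, cokernel.π_desc_assoc,
      Category.assoc, cokernel.π_desc, ← Category.assoc]
    congr 1
    exact (map_comp_le F _ _).symm

lemma pp_Gmap {n m : ℕ} (h : n ≤ m) :
    pp F r g m ≫ (Gsys I F r g hg).map (homOfLE h).op = tt F r h ≫ pp F r g n :=
  cokernel.π_desc _ _ _

/-- the canonical morphism `G ⟶ F` -/
noncomputable def vv : Gsys I F r g hg ⟶ F where
  app a := cokernel.desc (phi F r g a.unop) (ww F r a.unop) (phi_ww I F r g hg hk a.unop)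
  naturality a b f := by
    rw [← cancel_epi (cokernel.π (phi F r g a.unop))]
    have h1 : cokernel.π (phi F r g a.unop) ≫ (Gsys I F r g hg).map f =
        tt F r (leOfHom f.unop) ≫ pp F r g b.unop := cokernel.π_desc _ _ _
    rw [← Category.assoc, h1, Category.assoc, cokernel.π_desc, cokernel.π_desc_assoc,
      ← F.map_comp, ← F.map_comp]
    exact congrArg F.map (Quiver.Hom.unop_inj (Subsingleton.elim _ _))

lemma pp_vv (n : ℕ) : pp F r g n ≫ (vv I F r g hg hk).app (op n) = ww F r n :=
  cokernel.π_desc _ _ _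

include hg in
lemma killed_GG (n : ℕ) : ARSys.KilledBy (I ^ (n + 1)) (GG F r g n) := by
  intro a ha
  rw [← cancel_epi (pp F r g n), comp_zero, Linear.comp_smul, Category.comp_id]
  exact smul_pp I F r g hg n a ha

lemma termKilled_Gsys : ARSys.TermKilled I (Gsys I F r g hg) :=
  fun n => killed_GG I F r g hg n

end Construction

end H9FE.ARCore
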