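import Mathlib
import Groth.Prelude.Def_ARSys
import Groth.Agent.Lib.Helper9.FE.ARCore4

/-! helper9: the canonical system `G ⟶ F` is `I`-adic and an isomorphism up to translation as soon
as `F` is AR-adic with constant `r` after applying each member of a jointly faithful family of
exact linear functors to modules. -/

set_option autoImplicit false
set_option linter.unusedSectionVars false
set_option linter.style.haveILetI false
set_option backward.isDefEq.respectTransparency false
universe w v u
open CategoryTheory CategoryTheory.Limits Opposite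
open scoped ZeroObject

namespace H9FE.ARCore

variable {Λ : Type w} [CommRing Λ] {C : Type u} [Category.{v} C] [Abelian C] [Linear Λ C]

section One

variable (T : C ⥤ ModuleCat.{w} Λ) [T.Additive] [Functor.Linear Λ T] [PreservesFiniteLimits T]
  [PreservesFiniteColimits T]

lemma map_exact_elt {A B D : C} (f : A ⟶ B) (g' : B ⟶ D) (w0 : f ≫ g' = 0)
    (hS : (ShortComplex.mk f g' w0).Exact) (x : T.obj B) (hx : (T.map g').hom x = 0) :
    ∃ z : T.obj A, (T.map f).hom z = x := by
  have h := hS.map T
  exact (ShortComplex.moduleCat_exact_iff _).1 h x hx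

lemma map_surj_of_epi {A B : C} (f : A ⟶ B) [Epi f] : Function.Surjective (T.map f).hom := by
  haveI : Epi (T.map f) := inferInstance
  exact (ModuleCat.epi_iff_surjective _).1 inferInstance

lemma comp_hom_apply {A B D : C} (f : A ⟶ B) (g' : B ⟶ D) (x : T.obj A) :
    (T.map (f ≫ g')).hom x = (T.map g').hom ((T.map f).hom x) := by
  rw [T.map_comp, ModuleCat.hom_comp, LinearMap.comp_apply]

variable (I : Ideal Λ) (F : ARSys.PS C) (r : ℕ) {kk : ℕ → ℕ} (g : ∀ n, Fin (kk n) → Λ)
  (hg : ∀ n, Ideal.span (Set.range (g n)) = I ^ (n + 1))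

include hg in
lemma mem_ker_map_pp_iff (n : ℕ) (x : T.obj (EE F r n)) :
    (T.map (pp F r g n)).hom x = 0 ↔
      x ∈ LinearMap.ker (T.map (tau F r n)).hom ⊔
        (I ^ (n + 1)) • (⊤ : Submodule Λ (T.obj (EE F r n))) := by
  constructor
  · intro hx
    obtain ⟨z, hz⟩ := map_exact_elt T (phi F r g n) (pp F r g n) (cokernel.condition _)
      (ShortComplex.exact_of_g_is_cokernel _ (cokernelIsCokernel _)) x hx
    have h1 : phi F r g n = biprod.fst ≫ kernel.ι (tau F r n) +
        biprod.snd ≫ sdesc (kk n) (g n) (EE F r n) := biprod.desc_eq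
    rw [h1, T.map_add, ModuleCat.hom_add, LinearMap.add_apply, comp_hom_apply,
      comp_hom_apply] at hz
    rw [← hz]
    refine Submodule.add_mem_sup ?_ ?_
    · rw [LinearMap.mem_ker, ← comp_hom_apply, kernel.condition, T.map_zero, ModuleCat.hom_zero,
        LinearMap.zero_apply]
    · have h2 := map_sdesc_mem T (kk n) (g n) (EE F r n) ((T.map biprod.snd).hom z)
      rw [hg n] at h2
      exact h2
  · intro hx
    obtain ⟨k, hk, s, hs, rfl⟩ := Submodule.mem_sup.1 hx
    rw [map_add]
    have h1 : (T.map (pp F r g n)).hom k = 0 := by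
      obtain ⟨k', hk'⟩ := map_exact_elt T (kernel.ι (tau F r n)) (tau F r n)
        (kernel.condition _) (ShortComplex.exact_of_f_is_kernel _ (kernelIsKernel _)) k
        (LinearMap.mem_ker.1 hk)
      rw [← hk', ← comp_hom_apply, ker_pp, T.map_zero, ModuleCat.hom_zero, LinearMap.zero_apply]
    have h2 : (T.map (pp F r g n)).hom s = 0 :=
      map_kills_smul_top T (pp F r g n) (I ^ (n + 1)) (fun a ha => smul_pp I F r g hg n a ha) s hs
    rw [h1, h2, add_zero]

end One

section Family

variable (I : Ideal Λ) (F : ARSys.PS C) (r : ℕ) {kk : ℕ → ℕ} (g : ∀ n, Fin (kk n) → Λ)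
  (hg : ∀ n, Ideal.span (Set.range (g n)) = I ^ (n + 1)) (hk : ARSys.TermKilled I F)
  {ι : Type*} (T : ι → C ⥤ ModuleCat.{w} Λ) [∀ i, (T i).Additive] [∀ i, Functor.Linear Λ (T i)]
  [∀ i, PreservesFiniteLimits (T i)] [∀ i, PreservesFiniteColimits (T i)]
  (hT : ∀ {A B : C} (h : A ⟶ B), (∀ i, (T i).map h = 0) → h = 0)
  (hgood : ∀ i, Good I (F ⋙ T i) r)

include hgood in
lemma map_Gmap_surj (i : ι) {n m : ℕ} (h : n ≤ m) :
    Function.Surjective ((T i).map ((Gsys I F r g hg).map (homOfLE h).op)).hom := by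
  intro y
  obtain ⟨x, rfl⟩ := map_surj_of_epi (T i) (pp F r g n) y
  obtain ⟨z, hz⟩ := (hgood i).q1 n m h x
  refine ⟨((T i).map (pp F r g m)).hom z, ?_⟩
  have e1 : ((T i).map ((Gsys I F r g hg).map (homOfLE h).op)).hom
      (((T i).map (pp F r g m)).hom z) =
      ((T i).map (pp F r g n)).hom (((T i).map (tt F r h)).hom z) :=
    calc _ = ((T i).map (pp F r g m ≫ (Gsys I F r g hg).map (homOfLE h).op)).hom z :=
          (comp_hom_apply (T i) (pp F r g m) ((Gsys I F r g hg).map (homOfLE h).op) z).symm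
      _ = ((T i).map (tt F r h ≫ pp F r g n)).hom z :=
          congrArg (fun φ => ((T i).map φ).hom z) (pp_Gmap I F r g hg h)
      _ = _ := comp_hom_apply (T i) _ _ z
  rw [e1]
  have h1 : ((T i).map (pp F r g n)).hom (x - ((T i).map (tt F r h)).hom z) = 0 := by
    rw [mem_ker_map_pp_iff (T i) I F r g hg]
    apply Submodule.mem_sup_left
    rw [LinearMap.mem_ker, map_sub, sub_eq_zero]
    exact hz
  rw [map_sub, sub_eq_zero] at h1
  exact h1.symm

include hT hgood in
lemma epi_Gmap {n m : ℕ} (h : n ≤ m) : Epi ((Gsys I F r g hg).map (homOfLE h).op) := by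
  apply Abelian.epi_of_cokernel_π_eq_zero
  apply hT
  intro i
  apply ModuleCat.hom_ext
  apply LinearMap.ext
  intro y
  rw [ModuleCat.hom_zero, LinearMap.zero_apply]
  obtain ⟨y', rfl⟩ := map_Gmap_surj I F r g hg T hgood i h y
  have e1 := comp_hom_apply (T i) ((Gsys I F r g hg).map (homOfLE h).op)
    (cokernel.π ((Gsys I F r g hg).map (homOfLE h).op)) y'
  rw [cokernel.condition, (T i).map_zero, ModuleCat.hom_zero, LinearMap.zero_apply] at e1
  exact e1.symm

include hT hgood in
lemma isQuot_Gmap {n m : ℕ} (h : n ≤ m) :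
    ARSys.IsQuot (I ^ (n + 1)) (ARSys.tr (Gsys I F r g hg) h) := by
  refine ⟨killed_GG I F r g hg n, ?_⟩
  intro Z ψ hψ
  haveI := epi_Gmap I F r g hg T hT hgood h
  have hz : kernel.ι ((Gsys I F r g hg).map (homOfLE h).op) ≫ ψ = 0 := by
    apply hT
    intro i
    apply ModuleCat.hom_ext
    apply LinearMap.ext
    intro u
    rw [comp_hom_apply, ModuleCat.hom_zero, LinearMap.zero_apply]
    have hz0 : ((T i).map ((Gsys I F r g hg).map (homOfLE h).op)).hom
        (((T i).map (kernel.ι ((Gsys I F r g hg).map (homOfLE h).op))).hom u) = 0 := by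
      rw [← comp_hom_apply, kernel.condition, (T i).map_zero, ModuleCat.hom_zero,
        LinearMap.zero_apply]
    obtain ⟨x, hx⟩ := map_surj_of_epi (T i) (pp F r g m)
      (((T i).map (kernel.ι ((Gsys I F r g hg).map (homOfLE h).op))).hom u)
    rw [← hx] at hz0 ⊢
    have h1 : ((T i).map (pp F r g n)).hom (((T i).map (tt F r h)).hom x) = 0 :=
      calc _ = ((T i).map (tt F r h ≫ pp F r g n)).hom x := (comp_hom_apply (T i) _ _ x).symm
        _ = ((T i).map (pp F r g m ≫ (Gsys I F r g hg).map (homOfLE h).op)).hom x :=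
          congrArg (fun φ => ((T i).map φ).hom x) (pp_Gmap I F r g hg h).symm
        _ = _ := comp_hom_apply (T i) (pp F r g m) ((Gsys I F r g hg).map (homOfLE h).op) x
        _ = 0 := hz0
    have h2 := (mem_ker_map_pp_iff (T i) I F r g hg n _).1 h1
    have h3 := (hgood i).q2 n m h x h2
    obtain ⟨k, hk', s, hs, hks⟩ := Submodule.mem_sup.1 h3
    have h4 : ((T i).map (pp F r g m)).hom k = 0 :=
      (mem_ker_map_pp_iff (T i) I F r g hg m k).2 (Submodule.mem_sup_left hk')
    have h5 : ((T i).map ψ).hom (((T i).map (pp F r g m)).hom s) = 0 :=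
      calc _ = ((T i).map (pp F r g m ≫ ψ)).hom s := (comp_hom_apply (T i) (pp F r g m) ψ s).symm
        _ = 0 := map_kills_smul_top (T i) (pp F r g m ≫ ψ) (I ^ (n + 1))
          (fun a ha => by rw [← Linear.comp_smul, hψ a ha, comp_zero]) s hs
    rw [← hks, map_add, h4, zero_add]
    exact h5
  have hcok := Abelian.epiIsCokernelOfKernel _
    (kernelIsKernel ((Gsys I F r g hg).map (homOfLE h).op))
  obtain ⟨χ, hχ⟩ := CokernelCofork.IsColimit.desc' hcok ψ hz
  have hχ' : (Gsys I F r g hg).map (homOfLE h).op ≫ χ = ψ := hχ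
  refine ⟨χ, hχ', fun χ' h' => ?_⟩
  have h'' : (Gsys I F r g hg).map (homOfLE h).op ≫ χ' = ψ := h'
  rw [← cancel_epi ((Gsys I F r g hg).map (homOfLE h).op), h'', hχ']

include hT hgood in
lemma isAdic_Gsys : ARSys.IsAdic I (Gsys I F r g hg) :=
  ⟨termKilled_Gsys I F r g hg, fun _ _ h => isQuot_Gmap I F r g hg T hT hgood h⟩

include hT in
lemma nullBy_kernel_vv : NullBy r (kernel (vv I F r g hg hk)) := by
  intro n
  haveI : Mono ((kernel.ι (vv I F r g hg hk)).app (op n)) :=
    (NatTrans.mono_iff_mono_app (kernel.ι (vv I F r g hg hk))).1 inferInstance (op n)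
  rw [← cancel_mono ((kernel.ι (vv I F r g hg hk)).app (op n)), zero_comp]
  have hnat := (kernel.ι (vv I F r g hg hk)).naturality (homOfLE (Nat.le_add_right n r)).op
  have hnat' : ARSys.shiftMap (kernel (vv I F r g hg hk)) r n ≫
      (kernel.ι (vv I F r g hg hk)).app (op n) =
      (kernel.ι (vv I F r g hg hk)).app (op (n + r)) ≫
        (Gsys I F r g hg).map (homOfLE (Nat.le_add_right n r)).op := hnat
  rw [hnat']
  have hc : (kernel.ι (vv I F r g hg hk)).app (op (n + r)) ≫
      (vv I F r g hg hk).app (op (n + r)) = 0 := by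
    have h1 := congrArg (fun t => t.app (op (n + r))) (kernel.condition (vv I F r g hg hk))
    exact h1
  apply hT
  intro i
  apply ModuleCat.hom_ext
  apply LinearMap.ext
  intro u
  rw [comp_hom_apply, ModuleCat.hom_zero, LinearMap.zero_apply]
  have hz : ((T i).map ((vv I F r g hg hk).app (op (n + r)))).hom
      (((T i).map ((kernel.ι (vv I F r g hg hk)).app (op (n + r)))).hom u) = 0 := by
    rw [← comp_hom_apply, hc, (T i).map_zero, ModuleCat.hom_zero, LinearMap.zero_apply]
  obtain ⟨x, hx⟩ := map_surj_of_epi (T i) (pp F r g (n + r))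
    (((T i).map ((kernel.ι (vv I F r g hg hk)).app (op (n + r)))).hom u)
  rw [← hx] at hz ⊢
  have h1 : ((T i).map (ww F r (n + r))).hom x = 0 := by
    rw [← pp_vv I F r g hg hk (n + r), comp_hom_apply]
    exact hz
  have e3 : ww F r (n + r) = tt F r (Nat.le_add_right n r) ≫ tau F r n :=
    (map_comp_le F _ _).symm
  rw [e3, comp_hom_apply] at h1
  have h3 : ((T i).map (pp F r g n)).hom (((T i).map (tt F r (Nat.le_add_right n r))).hom x) = 0 :=
    (mem_ker_map_pp_iff (T i) I F r g hg n _).2 (Submodule.mem_sup_left (LinearMap.mem_ker.2 h1))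
  exact
    calc _ = ((T i).map (pp F r g (n + r) ≫
            (Gsys I F r g hg).map (homOfLE (Nat.le_add_right n r)).op)).hom x :=
          (comp_hom_apply (T i) (pp F r g (n + r))
            ((Gsys I F r g hg).map (homOfLE (Nat.le_add_right n r)).op) x).symm
      _ = ((T i).map (tt F r (Nat.le_add_right n r) ≫ pp F r g n)).hom x :=
          congrArg (fun φ => ((T i).map φ).hom x) (pp_Gmap I F r g hg (Nat.le_add_right n r))
      _ = _ := comp_hom_apply (T i) _ _ x
      _ = 0 := h3

include hT hgood in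
lemma nullBy_cokernel_vv : NullBy r (cokernel (vv I F r g hg hk)) := by
  intro n
  haveI : Epi ((cokernel.π (vv I F r g hg hk)).app (op (n + r))) :=
    (NatTrans.epi_iff_epi_app (cokernel.π (vv I F r g hg hk))).1 inferInstance (op (n + r))
  rw [← cancel_epi ((cokernel.π (vv I F r g hg hk)).app (op (n + r))), comp_zero]
  have hnat := (cokernel.π (vv I F r g hg hk)).naturality (homOfLE (Nat.le_add_right n r)).op
  have hnat' : (cokernel.π (vv I F r g hg hk)).app (op (n + r)) ≫
      ARSys.shiftMap (cokernel (vv I F r g hg hk)) r n =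
      F.map (homOfLE (Nat.le_add_right n r)).op ≫
        (cokernel.π (vv I F r g hg hk)).app (op n) := hnat.symm
  rw [hnat']
  have hc : (vv I F r g hg hk).app (op n) ≫ (cokernel.π (vv I F r g hg hk)).app (op n) = 0 := by
    have h1 := congrArg (fun t => t.app (op n)) (cokernel.condition (vv I F r g hg hk))
    exact h1
  apply hT
  intro i
  apply ModuleCat.hom_ext
  apply LinearMap.ext
  intro x
  rw [comp_hom_apply, ModuleCat.hom_zero, LinearMap.zero_apply]
  obtain ⟨z, hz⟩ := (hgood i).q4 n x
  have hz' : ((T i).map (ww F r n)).hom z =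
      ((T i).map (F.map (homOfLE (Nat.le_add_right n r)).op)).hom x := hz
  rw [← hz']
  exact
    calc _ = ((T i).map ((cokernel.π (vv I F r g hg hk)).app (op n))).hom
            (((T i).map (pp F r g n ≫ (vv I F r g hg hk).app (op n))).hom z) :=
          congrArg (fun φ => ((T i).map ((cokernel.π (vv I F r g hg hk)).app (op n))).hom
            (((T i).map φ).hom z)) (pp_vv I F r g hg hk n).symm
      _ = ((T i).map ((cokernel.π (vv I F r g hg hk)).app (op n))).hom
            (((T i).map ((vv I F r g hg hk).app (op n))).hom (((T i).map (pp F r g n)).hom z)) :=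
          congrArg (fun y => ((T i).map ((cokernel.π (vv I F r g hg hk)).app (op n))).hom y)
            (comp_hom_apply (T i) (pp F r g n) ((vv I F r g hg hk).app (op n)) z)
      _ = ((T i).map ((vv I F r g hg hk).app (op n) ≫
            (cokernel.π (vv I F r g hg hk)).app (op n))).hom (((T i).map (pp F r g n)).hom z) :=
          (comp_hom_apply (T i) ((vv I F r g hg hk).app (op n))
            ((cokernel.π (vv I F r g hg hk)).app (op n)) _).symm
      _ = 0 := by rw [hc, (T i).map_zero, ModuleCat.hom_zero, LinearMap.zero_apply]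

include hT hgood in
lemma isARIso_vv : ARSys.IsARIso (vv I F r g hg hk) :=
  ⟨⟨r, nullBy_kernel_vv I F r g hg hk T hT⟩, ⟨r, nullBy_cokernel_vv I F r g hg hk T hT hgood⟩⟩

end Family

lemma exists_gens [IsNoetherianRing Λ] (I : Ideal Λ) :
    ∃ (kk : ℕ → ℕ) (g : ∀ n, Fin (kk n) → Λ),
      ∀ n, Ideal.span (Set.range (g n)) = I ^ (n + 1) := by
  have h : ∀ n : ℕ, ∃ (k : ℕ) (s : Fin k → Λ), Ideal.span (Set.range s) = I ^ (n + 1) :=
    fun n => Submodule.fg_iff_exists_fin_generating_family.1
      ((isNoetherianRing_iff_ideal_fg Λ).1 inferInstance _)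
  choose kk g hg using h
  exact ⟨kk, g, hg⟩

end H9FE.ARCore
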