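import Mathlib
import Groth.Agent.Lib.Helper9.FE.ModConstSiteOver

/-! helper9: (module version of ConstSiteGen) generators of trivialized sheaves of modules on slice sites, a
criterion for a sheaf on a slice to be constant, and local triviality of extensions of finite type
constant sheaves by finite type constant sheaves over a Noetherian ring. -/

universe w v₁ u₁
open CategoryTheory CategoryTheory.Limits Opposite

namespace H9FE
namespace ModConstSite

set_option linter.style.haveILetI false
set_option linter.unusedSectionVars false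

variable {Λ : Type w} [CommRing Λ]
variable {C : Type u₁} [Category.{v₁} C] (J : GrothendieckTopology C)
  [∀ P : C, HasSheafify (J.over P) (ModuleCat.{w} Λ)]
  [∀ P : C, (J.over P).WEqualsLocallyBijective (ModuleCat.{w} Λ)]
  [∀ P : C, (J.over P).HasSheafCompose (forget (ModuleCat.{w} Λ))]

theorem bot_mem_over_iff {P : C} (Y : Over P) :
    (⊥ : Sieve Y) ∈ (J.over P) Y ↔ (⊥ : Sieve Y.left) ∈ J Y.left := by
  rw [GrothendieckTopology.mem_over_iff, OrderIso.map_bot]

section Gen

variable (F : Sheaf J (ModuleCat.{w} Λ)) (P : C) {M : (ModuleCat.{w} Λ)}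
  (α : F.over P ≅ cS (J.over P) M)

/-- the sections of `F` over `P` corresponding to constants under a trivialization -/
noncomputable def gen : M →ₗ[Λ] F.obj.obj (op P) :=
  (α.inv.hom.app (op (Over.mk (𝟙 P)))).hom.comp (ts (J.over P) M (Over.mk (𝟙 P)))

theorem gen_map {Z : C} (z : Z ⟶ P) (m : M) :
    F.obj.map z.op (gen J F P α m) =
      α.inv.hom.app (op (Over.mk z)) (ts (J.over P) M (Over.mk z) m) := by
  let k : Over.mk z ⟶ Over.mk (𝟙 P) := Over.homMk z
  have h1 := NatTrans.naturality_apply α.inv.hom k.op (ts (J.over P) M (Over.mk (𝟙 P)) m)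
  have h2 := ts_map (J.over P) M k m
  rw [← h2]
  exact h1.symm

theorem gen_inj {Z : C} (z : Z ⟶ P) (m m' : M)
    (h : F.obj.map z.op (gen J F P α m) = F.obj.map z.op (gen J F P α m')) :
    m = m' ∨ (⊥ : Sieve Z) ∈ J Z := by
  rw [gen_map, gen_map] at h
  have h2 := congrArg (fun s => α.hom.hom.app (op (Over.mk z)) s) h
  simp only at h2
  have e : ∀ s, α.hom.hom.app (op (Over.mk z)) (α.inv.hom.app (op (Over.mk z)) s) = s := by
    intro s
    have := congrArg (fun η => η.hom.app (op (Over.mk z)) s) α.inv_hom_id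
    exact this
  rw [e, e] at h2
  rcases ts_eq_or_bot (J.over P) M (Over.mk z) m m' h2 with h3 | h3
  · exact Or.inl h3
  · exact Or.inr ((bot_mem_over_iff J (Over.mk z)).1 h3)

theorem gen_surj {Z : C} (z : Z ⟶ P) (f : F.obj.obj (op Z)) :
    ∃ S : Sieve Z, S ∈ J Z ∧ ∀ {Z' : C} (k : Z' ⟶ Z), S k →
      ∃ m : M, F.obj.map k.op f = F.obj.map (k ≫ z).op (gen J F P α m) := by
  let s := α.hom.hom.app (op (Over.mk z)) f
  have hmem := imageSieve_ts_mem (J.over P) M (Over.mk z) s
  rw [GrothendieckTopology.mem_over_iff] at hmem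
  refine ⟨_, hmem, ?_⟩
  intro Z' k hk
  rw [Sieve.overEquiv_iff] at hk
  obtain ⟨m, hm⟩ := hk
  refine ⟨m, ?_⟩
  rw [gen_map]
  let k' : Over.mk (k ≫ z) ⟶ Over.mk z := Over.homMk k
  have hm' : ts (J.over P) M (Over.mk (k ≫ z)) m =
      (cS (J.over P) M).obj.map k'.op s := hm
  rw [hm']
  have h1 := NatTrans.naturality_apply α.inv.hom k'.op s
  rw [h1]
  have e : α.inv.hom.app (op (Over.mk z)) s = f := by
    have := congrArg (fun η => η.hom.app (op (Over.mk z)) f) α.hom_inv_id
    exact this
  rw [e]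
  rfl

end Gen


section Crit

variable (E : Sheaf J (ModuleCat.{w} Λ)) (W : C) {E₁ : (ModuleCat.{w} Λ)}
  (γ : E₁ →ₗ[Λ] E.obj.obj (op W))

/-- the presheaf map from the constant presheaf on `Over W` to the restriction of `E` given
by a group of sections over `W` -/
noncomputable def rho :
    (cP E₁ : (Over W)ᵒᵖ ⥤ (ModuleCat.{w} Λ)) ⟶ (E.over W).obj where
  app Z := ModuleCat.ofHom ((E.obj.map Z.unop.hom.op).hom.comp γ)
  naturality Z Z' k := by
    ext x
    have hw : k.unop.left ≫ Z.unop.hom = Z'.unop.hom := Over.w k.unop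
    have h1 : E.obj.map Z'.unop.hom.op (γ x) =
        E.obj.map k.unop.left.op (E.obj.map Z.unop.hom.op (γ x)) := by
      rw [← hw, op_comp, Functor.map_comp]
      rfl
    exact h1

theorem rho_app (Z : Over W) (x : E₁) :
    (rho J E W γ).app (op Z) x = E.obj.map Z.hom.op (γ x) := rfl

variable (hinj : ∀ (Z : C) (z : Z ⟶ W) (x : E₁), E.obj.map z.op (γ x) = 0 →
    x = 0 ∨ (⊥ : Sieve Z) ∈ J Z)
  (hsurj : ∀ (Z : C) (z : Z ⟶ W) (s : E.obj.obj (op Z)), ∃ S : Sieve Z, S ∈ J Z ∧
    ∀ {Z' : C} (k : Z' ⟶ Z), S k → ∃ x : E₁, E.obj.map k.op s = E.obj.map (k ≫ z).op (γ x))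

include hinj in
theorem rho_locallyInjective : Presheaf.IsLocallyInjective (J.over W) (rho J E W γ) := by
  constructor
  intro Z a b hab
  have h0 : E.obj.map Z.unop.hom.op (γ (a - b)) = 0 := by
    rw [map_sub, map_sub, sub_eq_zero]
    exact hab
  rcases hinj Z.unop.left Z.unop.hom (a - b) h0 with h | h
  · have hab' : a = b := sub_eq_zero.1 h
    subst hab'
    rw [Presheaf.equalizerSieve_self_eq_top]
    exact (J.over W).top_mem _
  · have h2 : (⊥ : Sieve Z.unop) ∈ (J.over W) Z.unop := (bot_mem_over_iff J Z.unop).2 h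
    refine (J.over W).superset_covering ?_ h2
    intro d' g hg
    exact hg.elim

include hsurj in
theorem rho_locallySurjective : Presheaf.IsLocallySurjective (J.over W) (rho J E W γ) := by
  constructor
  intro Z s
  obtain ⟨S, hS, hprop⟩ := hsurj Z.left Z.hom s
  rw [GrothendieckTopology.mem_over_iff]
  refine J.superset_covering ?_ hS
  intro Z' k hk
  rw [Sieve.overEquiv_iff]
  obtain ⟨x, hx⟩ := hprop k hk
  exact ⟨x, hx.symm⟩

/-- the map from the constant sheaf -/
noncomputable def critHom : cS (J.over W) E₁ ⟶ E.over W :=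
  ObjectProperty.homMk (sheafifyLift (J.over W) (rho J E W γ) (E.over W).2)

theorem toSheafify_critHom :
    toSheafify (J.over W) (cP E₁) ≫ (critHom J E W γ).hom = rho J E W γ :=
  toSheafify_sheafifyLift (J.over W) _ _

include hinj hsurj in
theorem isIso_critHom : IsIso (critHom J E W γ) := by
  rw [← (J.over W).W_sheafToPresheaf_map_iff_isIso]
  haveI := rho_locallyInjective J E W γ hinj
  haveI := rho_locallySurjective J E W γ hsurj
  have hW : (J.over W).W (rho J E W γ) := (J.over W).W_of_isLocallyBijective _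
  have h1 : (J.over W).W (toSheafify (J.over W) (cP E₁) ≫ (critHom J E W γ).hom) := by
    rw [toSheafify_critHom]; exact hW
  exact ((J.over W).W).of_precomp _ _ ((J.over W).W_toSheafify (cP E₁)) h1

include hinj hsurj in
/-- criterion: a finite group of sections that locally generates and is locally faithful
trivializes the sheaf -/
theorem nonempty_iso_of_crit : Nonempty (E.over W ≅ cS (J.over W) E₁) := by
  haveI := isIso_critHom J E W γ hinj hsurj
  exact ⟨(asIso (critHom J E W γ)).symm⟩

end Crit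


section Ext

theorem map_map (F : Sheaf J (ModuleCat.{w} Λ)) {Z' Z W : C} (k : Z' ⟶ Z) (z : Z ⟶ W)
    (s : F.obj.obj (op W)) :
    F.obj.map k.op (F.obj.map z.op s) = F.obj.map (k ≫ z).op s := by
  rw [op_comp, Functor.map_comp]
  rfl

theorem nat_app {F G : Sheaf J (ModuleCat.{w} Λ)} (φ : F ⟶ G) {Z W : C} (z : Z ⟶ W)
    (s : F.obj.obj (op W)) :
    φ.hom.app (op Z) (F.obj.map z.op s) = G.obj.map z.op (φ.hom.app (op W) s) :=
  NatTrans.naturality_apply φ.hom z.op s

variable {F E G : Sheaf J (ModuleCat.{w} Λ)} (ι : F ⟶ E) (π : E ⟶ G)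
  (hι : ∀ (Z : C), Function.Injective (ι.hom.app (op Z)))
  (hex : ∀ (Z : C) (e : E.obj.obj (op Z)), π.hom.app (op Z) e = 0 →
    ∃ f, ι.hom.app (op Z) f = e)
  (hzero : ∀ (Z : C) (f : F.obj.obj (op Z)), π.hom.app (op Z) (ι.hom.app (op Z) f) = 0)
  (P : C) {M N : (ModuleCat.{w} Λ)} (α : F.over P ≅ cS (J.over P) M)
  (β : G.over P ≅ cS (J.over P) N)

/-- the linear map from constants of the subsheaf and coefficients of chosen lifts of
generators of the quotient to sections of the extension -/
noncomputable def extMap {W : C} (g : W ⟶ P) {r : ℕ} (e : Fin r → E.obj.obj (op W)) :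
    (M × (Fin r → Λ)) →ₗ[Λ] E.obj.obj (op W) :=
  ((ι.hom.app (op W)).hom ∘ₗ (F.obj.map g.op).hom ∘ₗ gen J F P α).coprod
    (Fintype.linearCombination Λ e)

theorem extMap_apply {W : C} (g : W ⟶ P) {r : ℕ} (e : Fin r → E.obj.obj (op W))
    (m : M) (l : Fin r → Λ) :
    extMap J ι P α g e (m, l) =
      ι.hom.app (op W) (F.obj.map g.op (gen J F P α m)) + Fintype.linearCombination Λ e l := by
  simp [extMap]

theorem pi_linearCombination {W : C} (g : W ⟶ P) {r : ℕ} (n : Fin r → N)
    (e : Fin r → E.obj.obj (op W))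
    (hπe : ∀ i, π.hom.app (op W) (e i) = G.obj.map g.op (gen J G P β (n i)))
    (l : Fin r → Λ) :
    π.hom.app (op W) (Fintype.linearCombination Λ e l) =
      G.obj.map g.op (gen J G P β (Fintype.linearCombination Λ n l)) := by
  rw [Fintype.linearCombination_apply, Fintype.linearCombination_apply, map_sum, map_sum, map_sum]
  refine Finset.sum_congr rfl ?_
  intro i _
  rw [map_smul, map_smul, map_smul, hπe]

include hι hex hzero in
theorem ext_crit [Module.Finite Λ M] {W : C} (g : W ⟶ P) {r : ℕ} (n : Fin r → N)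
    (hn : Function.Surjective (Fintype.linearCombination Λ n))
    (e : Fin r → E.obj.obj (op W))
    (hπe : ∀ i, π.hom.app (op W) (e i) = G.obj.map g.op (gen J G P β (n i)))
    (hrel : ∀ l : Fin r → Λ, Fintype.linearCombination Λ n l = 0 →
      ∃ m : M, Fintype.linearCombination Λ e l =
        ι.hom.app (op W) (F.obj.map g.op (gen J F P α m))) :
    ∃ (E₁ : (ModuleCat.{w} Λ)) (_ : Module.Finite Λ E₁),
      Nonempty (E.over W ≅ cS (J.over W) E₁) := by
  classical
  let ψ := extMap J ι P α g e
  let H : Submodule Λ (E.obj.obj (op W)) := LinearMap.range ψ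
  have hfin : Module.Finite Λ H := Module.Finite.range ψ
  refine ⟨ModuleCat.of Λ H, hfin, ?_⟩
  have hπψ : ∀ (m : M) (l : Fin r → Λ), π.hom.app (op W) (ψ (m, l)) =
      G.obj.map g.op (gen J G P β (Fintype.linearCombination Λ n l)) := by
    intro m l
    rw [extMap_apply, map_add, hzero, zero_add, pi_linearCombination J π P β g n e hπe]
  refine nonempty_iso_of_crit J E W (E₁ := ModuleCat.of Λ H) H.subtype ?_ ?_
  · -- injectivity
    rintro Z z ⟨x, ⟨m, l⟩, rfl⟩ hx
    simp only [Submodule.subtype_apply] at hx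
    have h1 := congrArg (fun s => π.hom.app (op Z) s) hx
    simp only [map_zero] at h1
    rw [nat_app J π z, hπψ, map_map] at h1
    have h2 : G.obj.map (z ≫ g).op (gen J G P β (Fintype.linearCombination Λ n l)) =
        G.obj.map (z ≫ g).op (gen J G P β 0) := by
      rw [h1, map_zero, map_zero]
    rcases gen_inj J G P β (z ≫ g) _ 0 h2 with hn0 | hbot
    · obtain ⟨m', hm'⟩ := hrel l hn0
      have hψ : ψ (m, l) = ι.hom.app (op W) (F.obj.map g.op (gen J F P α (m + m'))) := by
        rw [extMap_apply, hm', map_add, map_add, map_add]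
      rw [hψ, ← nat_app J ι z, map_map] at hx
      have h3 : F.obj.map (z ≫ g).op (gen J F P α (m + m')) =
          F.obj.map (z ≫ g).op (gen J F P α 0) := by
        apply hι Z
        rw [hx, map_zero, map_zero, map_zero]
      rcases gen_inj J F P α (z ≫ g) _ 0 h3 with hm | hbot
      · left
        apply Subtype.ext
        change ψ (m, l) = 0
        rw [hψ, hm, map_zero, map_zero, map_zero]
      · exact Or.inr hbot
    · exact Or.inr hbot
  · -- surjectivity
    intro Z z s
    obtain ⟨SG, hSG, hpG⟩ := gen_surj J G P β (z ≫ g) (π.hom.app (op Z) s)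
    let T : Sieve Z :=
      { arrows := fun Z' k => ∃ x : H, E.obj.map k.op s = E.obj.map (k ≫ z).op (H.subtype x)
        downward_closed := by
          rintro Z₁ Z₂ k ⟨x, hx⟩ l
          refine ⟨x, ?_⟩
          rw [← map_map J E l k, hx, map_map, Category.assoc] }
    have hT : T ∈ J Z := by
      refine J.transitive hSG T ?_
      intro Z' k hk
      obtain ⟨n₀, hn₀⟩ := hpG k hk
      obtain ⟨l, hl⟩ := hn n₀
      let d : E.obj.obj (op Z') := E.obj.map k.op s - E.obj.map (k ≫ z).op (ψ (0, l))
      have hd : π.hom.app (op Z') d = 0 := by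
        simp only [d, map_sub]
        rw [nat_app J π k, nat_app J π (k ≫ z), hπψ, hl, map_map, hn₀, Category.assoc, sub_self]
      obtain ⟨f, hf⟩ := hex Z' d hd
      obtain ⟨SF, hSF, hpF⟩ := gen_surj J F P α (k ≫ z ≫ g) f
      refine J.superset_covering ?_ hSF
      intro Z'' l' hl'
      obtain ⟨m, hm⟩ := hpF l' hl'
      refine ⟨⟨_, ⟨(m, l), rfl⟩⟩, ?_⟩
      simp only [Submodule.subtype_apply]
      have hs : E.obj.map k.op s = ι.hom.app (op Z') f + E.obj.map (k ≫ z).op (ψ (0, l)) := by
        rw [hf]; simp [d]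
      have hsplit : ψ (m, l) = ι.hom.app (op W) (F.obj.map g.op (gen J F P α m)) + ψ (0, l) := by
        rw [extMap_apply, extMap_apply, map_zero, map_zero, map_zero, zero_add]
      rw [← map_map J E l' k, hs, map_add, ← nat_app J ι l', hm, map_map, hsplit, map_add,
        ← nat_app J ι, map_map]
      simp only [Category.assoc]
    exact ⟨T, hT, fun k hk => hk⟩

/-- the sieve of arrows over which `E` becomes constant with finitely generated value -/
def ftConstSieve (E : Sheaf J (ModuleCat.{w} Λ)) (P : C) : Sieve P where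
  arrows W _ := ∃ (E₁ : (ModuleCat.{w} Λ)) (_ : Module.Finite Λ E₁),
    Nonempty (E.over W ≅ cS (J.over W) E₁)
  downward_closed := by
    rintro W W' g ⟨E₁, hfin, ⟨θ⟩⟩ k
    exact ⟨E₁, hfin, ⟨restrictIso J k θ⟩⟩

theorem linearCombination_map (E : Sheaf J (ModuleCat.{w} Λ)) {W W' : C} (k : W' ⟶ W) {r : ℕ}
    (e : Fin r → E.obj.obj (op W)) (l : Fin r → Λ) :
    Fintype.linearCombination Λ (fun i => E.obj.map k.op (e i)) l =
      E.obj.map k.op (Fintype.linearCombination Λ e l) := by
  rw [Fintype.linearCombination_apply, Fintype.linearCombination_apply, map_sum]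
  refine Finset.sum_congr rfl ?_
  intro i _
  rw [map_smul]

include hι hex hzero α β in
theorem ext_step [IsNoetherianRing Λ] [Module.Finite Λ M] {W : C} (g : W ⟶ P) {r : ℕ}
    (n : Fin r → N) (hn : Function.Surjective (Fintype.linearCombination Λ n))
    (e : Fin r → E.obj.obj (op W))
    (hπe : ∀ i, π.hom.app (op W) (e i) = G.obj.map g.op (gen J G P β (n i))) :
    ftConstSieve J E W ∈ J W := by
  classical
  let p := Fintype.linearCombination Λ n
  let R : Submodule Λ (Fin r → Λ) := LinearMap.ker p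
  have hR : R.FG := IsNoetherian.noetherian R
  obtain ⟨s, hs⟩ := hR
  have hc : ∀ ρ : s, ∃ f, ι.hom.app (op W) f = Fintype.linearCombination Λ e ρ.1 := by
    intro ρ
    apply hex
    rw [pi_linearCombination J π P β g n e hπe]
    have h1 : ρ.1 ∈ R := hs ▸ Submodule.subset_span ρ.2
    have h2 : p ρ.1 = 0 := LinearMap.mem_ker.1 h1
    rw [h2, map_zero, map_zero]
  choose f hf using hc
  have hs' := fun (ρ : s) => gen_surj J F P α g (f ρ)
  choose SF hSF hpF using hs'
  have hT : (⨅ ρ, SF ρ) ∈ J W := iInf_mem_of_finite J SF hSF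
  refine J.superset_covering ?_ hT
  intro W' k hk
  have hk' : ∀ ρ, SF ρ k := fun ρ => (iInf_le SF ρ) _ hk
  have hm := fun ρ => hpF ρ k (hk' ρ)
  choose mm hmm using hm
  have hclaim : ∀ l ∈ Submodule.span Λ (s : Set (Fin r → Λ)), ∃ m : M,
      Fintype.linearCombination Λ (fun i => E.obj.map k.op (e i)) l =
        ι.hom.app (op W') (F.obj.map (k ≫ g).op (gen J F P α m)) := by
    intro l hl
    induction hl using Submodule.span_induction with
    | mem x hx =>
      refine ⟨mm ⟨x, hx⟩, ?_⟩
      rw [linearCombination_map, ← hf ⟨x, hx⟩, ← nat_app J ι k, hmm ⟨x, hx⟩]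
    | zero => exact ⟨0, by rw [map_zero, map_zero, map_zero, map_zero]⟩
    | add x y _ _ hx hy =>
      obtain ⟨a, ha⟩ := hx
      obtain ⟨b, hb⟩ := hy
      exact ⟨a + b, by rw [map_add, ha, hb, map_add, map_add, map_add]⟩
    | smul c x _ hx =>
      obtain ⟨a, ha⟩ := hx
      exact ⟨c • a, by rw [map_smul, ha, map_smul, map_smul, map_smul]⟩
  refine ext_crit J ι π hι hex hzero P α β (k ≫ g) n hn (fun i => E.obj.map k.op (e i)) ?_ ?_
  · intro i
    rw [nat_app, hπe, map_map]
  · intro l hl
    apply hclaim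
    rw [hs]
    exact hl

include hι hex hzero α β in
theorem ext_local [IsNoetherianRing Λ] [Module.Finite Λ M] [Module.Finite Λ N]
    (hπ : Presheaf.IsLocallySurjective J π.hom) :
    ftConstSieve J E P ∈ J P := by
  classical
  obtain ⟨r, n, hn⟩ := Module.Finite.exists_fin (R := Λ) (M := N)
  have hn' : Function.Surjective (Fintype.linearCombination Λ n) := by
    rw [← LinearMap.range_eq_top, Fintype.range_linearCombination, hn]
  let S : Fin r → Sieve P := fun i => Presheaf.imageSieve π.hom (gen J G P β (n i))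
  have hS : (⨅ i, S i) ∈ J P :=
    iInf_mem_of_finite J S (fun i => Presheaf.imageSieve_mem J π.hom _)
  refine J.transitive hS _ ?_
  intro W g hg
  have hg' : ∀ i, ∃ e : E.obj.obj (op W),
      π.hom.app (op W) e = G.obj.map g.op (gen J G P β (n i)) := by
    intro i
    have h1 : (S i) g := (iInf_le S i) _ hg
    exact h1
  choose e he using hg'
  have := ext_step J ι π hι hex hzero P α β g n hn' e he
  refine J.superset_covering ?_ this
  intro W' k hk
  exact hk

end Ext

section SES

variable [HasSheafify J (ModuleCat.{w} Λ)] [J.WEqualsLocallyBijective (ModuleCat.{w} Λ)]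
  [J.HasSheafCompose (forget (ModuleCat.{w} Λ))]

theorem injective_of_mono {F E : Sheaf J (ModuleCat.{w} Λ)} (ι : F ⟶ E) [Mono ι] (Z : C) :
    Function.Injective (ι.hom.app (op Z)) := by
  have h1 : Mono ((sheafToPresheaf J (ModuleCat.{w} Λ)).map ι) := inferInstance
  have h2 : Mono ι.hom := h1
  rw [NatTrans.mono_iff_mono_app] at h2
  exact (ModuleCat.mono_iff_injective _).1 (h2 (op Z))

theorem exact_sections (S : ShortComplex (Sheaf J (ModuleCat.{w} Λ))) (hS : S.ShortExact)
    (Z : C) (e : S.X₂.obj.obj (op Z)) (he : S.g.hom.app (op Z) e = 0) :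
    ∃ f, S.f.hom.app (op Z) f = e := by
  let Γ : Sheaf J (ModuleCat.{w} Λ) ⥤ (ModuleCat.{w} Λ) :=
    sheafToPresheaf J (ModuleCat.{w} Λ) ⋙ (evaluation Cᵒᵖ (ModuleCat.{w} Λ)).obj (op Z)
  haveI := hS.mono_f
  have h1 : (S.map Γ).Exact :=
    hS.exact.map_of_mono_of_preservesKernel Γ inferInstance inferInstance
  rw [ShortComplex.moduleCat_exact_iff] at h1
  exact h1 e he

theorem ftConstSieve_mem_of_shortExact [IsNoetherianRing Λ]
    (S : ShortComplex (Sheaf J (ModuleCat.{w} Λ)))
    (hS : S.ShortExact) (P : C) {M N : (ModuleCat.{w} Λ)} [Module.Finite Λ M] [Module.Finite Λ N]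
    (α : S.X₁.over P ≅ cS (J.over P) M) (β : S.X₃.over P ≅ cS (J.over P) N) :
    ftConstSieve J S.X₂ P ∈ J P := by
  haveI := hS.mono_f
  haveI := hS.epi_g
  refine ext_local J S.f S.g (fun Z => injective_of_mono J S.f Z)
    (fun Z e he => exact_sections J S hS Z e he) ?_ P α β ?_
  · intro Z f
    have h := congrArg (fun η => η.hom.app (op Z) f) S.zero
    exact h
  · exact (Sheaf.isLocallySurjective_iff_epi' (φ := S.g)).2 inferInstance

end SES

end ModConstSite
end H9FE
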