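import Mathlib

/-! helper9: constant sheaves of abelian groups on a general site: local constancy of maps, restriction. -/

universe w v₁ u₁ v₂ u₂
open CategoryTheory CategoryTheory.Limits Opposite

namespace H9FE
namespace ConstSite

set_option linter.style.haveILetI false
set_option linter.unusedSectionVars false

variable {C : Type u₁} [Category.{v₁} C] (J : GrothendieckTopology C)
  [HasSheafify J AddCommGrpCat.{w}] [J.WEqualsLocallyBijective AddCommGrpCat.{w}]
  [J.HasSheafCompose (forget AddCommGrpCat.{w})]

/-- constant presheaf -/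
abbrev cP (M : AddCommGrpCat.{w}) : Cᵒᵖ ⥤ AddCommGrpCat.{w} := (Functor.const _).obj M

/-- constant sheaf -/
noncomputable abbrev cS (M : AddCommGrpCat.{w}) : Sheaf J AddCommGrpCat.{w} :=
  (constantSheaf J AddCommGrpCat.{w}).obj M

/-- constant sections -/
noncomputable abbrev ts (M : AddCommGrpCat.{w}) (V : C) : M →+ (cS J M).obj.obj (op V) :=
  ((toSheafify J (cP M)).app (op V)).hom

theorem ts_map (M : AddCommGrpCat.{w}) {V W : C} (i : W ⟶ V) (a : M) :
    (cS J M).obj.map i.op (ts J M V a) = ts J M W a := by
  have h := NatTrans.naturality_apply (toSheafify J (cP M)) i.op a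
  exact h.symm

theorem isSheaf_type (F : Sheaf J AddCommGrpCat.{w}) :
    Presieve.IsSheaf J (F.obj ⋙ forget _) :=
  (isSheaf_iff_isSheaf_of_type _ _).1
    (Presheaf.isSheaf_comp_of_isSheaf _ F.obj (forget _) F.2)

/-- all sections over an object covered by the empty sieve are equal -/
theorem eq_of_bot (F : Sheaf J AddCommGrpCat.{w}) {V : C} (hV : (⊥ : Sieve V) ∈ J V)
    (s t : F.obj.obj (op V)) : s = t := by
  have := ((isSheaf_type J F) ⊥ hV).isSeparatedFor
  exact this (fun _ _ h => h.elim) s t (fun _ _ h => h.elim) (fun _ _ h => h.elim)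

theorem ts_eq_or_bot (M : AddCommGrpCat.{w}) (V : C) (a b : M)
    (hab : ts J M V a = ts J M V b) : a = b ∨ (⊥ : Sieve V) ∈ J V := by
  have hW := J.W_toSheafify (cP M)
  haveI := hW.isLocallyInjective
  have hmem := Presheaf.equalizerSieve_mem J (toSheafify J (cP M)) (X := op V) a b hab
  by_cases h : a = b
  · exact Or.inl h
  · right
    convert hmem using 1
    ext W f
    simp only [Sieve.bot_apply, false_iff]
    intro hf
    exact h hf

theorem imageSieve_ts_mem (M : AddCommGrpCat.{w}) (V : C) (s : (cS J M).obj.obj (op V)) :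
    Presheaf.imageSieve (toSheafify J (cP M)) s ∈ J V := by
  have hW := J.W_toSheafify (cP M)
  haveI := hW.isLocallySurjective
  exact Presheaf.imageSieve_mem J (toSheafify J (cP M)) s

/-- maps out of a constant sheaf are determined by their values on constant sections -/
theorem hom_ext_ts (M : AddCommGrpCat.{w}) (F : Sheaf J AddCommGrpCat.{w}) (f g : cS J M ⟶ F)
    (h : ∀ (V : C) (m : M), f.hom.app (op V) (ts J M V m) = g.hom.app (op V) (ts J M V m)) :
    f = g := by
  apply Sheaf.hom_ext
  apply sheafify_hom_ext J _ _ F.2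
  ext V m
  exact h V.unop m

theorem const_map_ts {M N : AddCommGrpCat.{w}} (k : M ⟶ N) (V : C) (m : M) :
    ((constantSheaf J AddCommGrpCat.{w}).map k).hom.app (op V) (ts J M V m) = ts J N V (k m) := by
  have h := toSheafify_naturality J ((Functor.const Cᵒᵖ).map k)
  have h2 := congrArg (fun η => (η.app (op V)) m) h
  exact h2.symm

theorem iInf_mem_of_finite {V : C} {ι : Type*} [Finite ι] (S : ι → Sieve V)
    (h : ∀ i, S i ∈ J V) : (⨅ i, S i) ∈ J V := by
  classical
  haveI := Fintype.ofFinite ι
  have key : ∀ s : Finset ι, (⨅ i ∈ s, S i) ∈ J V := by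
    intro s
    induction s using Finset.induction with
    | empty => simp
    | insert a s ha ih =>
      rw [Finset.iInf_insert]
      exact J.intersection_covering (h a) ih
  have := key Finset.univ
  simpa using this

section LemmaK

variable {M N : AddCommGrpCat.{w}} (φ : cS J M ⟶ cS J N)

/-- `φ` is given by the group homomorphism `h` on constant sections over `W` -/
def Good (W : C) (h : M →+ N) : Prop :=
  ∀ m : M, φ.hom.app (op W) (ts J M W m) = ts J N W (h m)

theorem good_of_arrow {W W' : C} {h : M →+ N} (hg : Good J φ W h) (g : W' ⟶ W) :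
    Good J φ W' h := by
  intro m
  rw [← ts_map J M g m, ← ts_map J N g (h m), ← hg m]
  exact NatTrans.naturality_apply φ.hom g.op (ts J M W m)

/-- the sieve of arrows over which `φ` comes from a group homomorphism -/
def goodSieve (V : C) : Sieve V where
  arrows W _ := ∃ h : M →+ N, Good J φ W h
  downward_closed := by
    rintro W W' f ⟨h, hg⟩ g
    exact ⟨h, good_of_arrow J φ hg g⟩

theorem goodSieve_mem [Finite M] (V : C) : goodSieve J φ V ∈ J V := by
  classical
  let S : M → Sieve V := fun m =>
    Presheaf.imageSieve (toSheafify J (cP N)) (φ.hom.app (op V) (ts J M V m))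
  have hS : (⨅ m, S m) ∈ J V := iInf_mem_of_finite J S (fun m => imageSieve_ts_mem J N V _)
  refine J.superset_covering ?_ hS
  intro W f hf
  have hf' : ∀ m, ∃ n : N, ts J N W n = φ.hom.app (op W) (ts J M W m) := by
    intro m
    have h1 : (S m) f := by
      have h2 : (⨅ m, S m) ≤ S m := iInf_le S m
      exact h2 _ hf
    obtain ⟨n, hn⟩ := h1
    refine ⟨n, hn.trans ?_⟩
    rw [← ts_map J M f m]
    exact (NatTrans.naturality_apply φ.hom f.op (ts J M V m)).symm
  choose h0 hh0 using hf'
  by_cases hbot : (⊥ : Sieve W) ∈ J W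
  · exact ⟨0, fun m => eq_of_bot J _ hbot _ _⟩
  · have hadd : ∀ m m', h0 (m + m') = h0 m + h0 m' := by
      intro m m'
      have h1 : ts J N W (h0 (m + m')) = ts J N W (h0 m + h0 m') := by
        rw [hh0, map_add, map_add, map_add, hh0, hh0]
      rcases ts_eq_or_bot J N W _ _ h1 with h2 | h2
      · exact h2
      · exact absurd h2 hbot
    exact ⟨AddMonoidHom.mk' h0 hadd, fun m => (hh0 m).symm⟩

end LemmaK

section LemmaP

variable {D : Type u₂} [Category.{v₂} D] (K : GrothendieckTopology D) (G : D ⥤ C)
  [G.IsContinuous K J] [G.IsCocontinuous K J]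
  [HasSheafify K AddCommGrpCat.{w}] [K.WEqualsLocallyBijective AddCommGrpCat.{w}]
  [K.HasSheafCompose (forget AddCommGrpCat.{w})]

/-- restriction of sheaves along `G` -/
noncomputable abbrev res : Sheaf J AddCommGrpCat.{w} ⥤ Sheaf K AddCommGrpCat.{w} :=
  G.sheafPushforwardContinuous AddCommGrpCat.{w} K J

/-- the comparison map from the constant presheaf to the restriction of the constant sheaf -/
noncomputable def psi (M : AddCommGrpCat.{w}) :
    (cP M : Dᵒᵖ ⥤ AddCommGrpCat.{w}) ⟶ ((res J K G).obj (cS J M)).obj where
  app d := (toSheafify J (cP M)).app (op (G.obj d.unop))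
  naturality d d' g := by
    have := (toSheafify J (cP M)).naturality (G.map g.unop).op
    exact this

theorem psi_app (M : AddCommGrpCat.{w}) (d : D) (m : M) :
    (psi J K G M).app (op d) m = ts J M (G.obj d) m := rfl

instance psi_locallyInjective (M : AddCommGrpCat.{w}) :
    Presheaf.IsLocallyInjective K (psi J K G M) := by
  constructor
  intro d a b hab
  rcases ts_eq_or_bot J M (G.obj d.unop) a b hab with h | h
  · subst h
    rw [Presheaf.equalizerSieve_self_eq_top]
    exact K.top_mem _
  · have h2 := G.cover_lift K J h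
    refine K.superset_covering ?_ h2
    intro d' g hg
    exact hg.elim

instance psi_locallySurjective (M : AddCommGrpCat.{w}) :
    Presheaf.IsLocallySurjective K (psi J K G M) := by
  constructor
  intro d s
  have h1 := imageSieve_ts_mem J M (G.obj d) s
  have h2 := G.cover_lift K J h1
  refine K.superset_covering ?_ h2
  intro d' g hg
  obtain ⟨a, ha⟩ := hg
  exact ⟨a, ha⟩

/-- the restriction of a constant sheaf is constant -/
noncomputable def resConstHom (M : AddCommGrpCat.{w}) : cS K M ⟶ (res J K G).obj (cS J M) :=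
  ObjectProperty.homMk (sheafifyLift K (psi J K G M) ((res J K G).obj (cS J M)).2)

theorem toSheafify_resConstHom (M : AddCommGrpCat.{w}) :
    toSheafify K (cP M) ≫ (resConstHom J K G M).hom = psi J K G M :=
  toSheafify_sheafifyLift K _ _

instance isIso_resConstHom (M : AddCommGrpCat.{w}) : IsIso (resConstHom J K G M) := by
  rw [← K.W_sheafToPresheaf_map_iff_isIso]
  have hW : K.W (psi J K G M) := K.W_of_isLocallyBijective _
  have h1 : K.W (toSheafify K (cP M) ≫ (resConstHom J K G M).hom) := by
    rw [toSheafify_resConstHom]; exact hW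
  exact (K.W).of_precomp _ _ (K.W_toSheafify (cP M)) h1

theorem resConstHom_ts (M : AddCommGrpCat.{w}) (d : D) (m : M) :
    (resConstHom J K G M).hom.app (op d) (ts K M d m) = ts J M (G.obj d) m := by
  have h2 := congrArg (fun η => (η.app (op d)) m) (toSheafify_resConstHom J K G M)
  exact h2

/-- the restriction of a constant sheaf is constant -/
noncomputable def resConstIso (M : AddCommGrpCat.{w}) : (res J K G).obj (cS J M) ≅ cS K M :=
  (asIso (resConstHom J K G M)).symm

theorem resConstIso_hom_ts (M : AddCommGrpCat.{w}) (d : D) (m : M) :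
    (resConstIso J K G M).hom.hom.app (op d) (ts J M (G.obj d) m) = ts K M d m := by
  rw [← resConstHom_ts J K G M d m]
  have h : resConstHom J K G M ≫ (resConstIso J K G M).hom = 𝟙 _ := by
    simp [resConstIso]
  have h2 := congrArg (fun η => η.hom.app (op d) (ts K M d m)) h
  exact h2

theorem resConstHom_naturality {M N : AddCommGrpCat.{w}} (k : M ⟶ N) :
    resConstHom J K G M ≫ (res J K G).map ((constantSheaf J AddCommGrpCat.{w}).map k) =
      (constantSheaf K AddCommGrpCat.{w}).map k ≫ resConstHom J K G N := by
  apply hom_ext_ts K M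
  intro d m
  change ((constantSheaf J AddCommGrpCat.{w}).map k).hom.app (op (G.obj d))
      ((resConstHom J K G M).hom.app (op d) (ts K M d m)) =
    (resConstHom J K G N).hom.app (op d)
      (((constantSheaf K AddCommGrpCat.{w}).map k).hom.app (op d) (ts K M d m))
  rw [resConstHom_ts, const_map_ts, const_map_ts, resConstHom_ts]

/-- if `ψ` comes from `h` on all objects in the image of `G`, its restriction is `const h` -/
theorem res_map_eq_const {M N : AddCommGrpCat.{w}} (ψ : cS J M ⟶ cS J N) (h : M →+ N)
    (hgood : ∀ d : D, Good J ψ (G.obj d) h) :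
    resConstHom J K G M ≫ (res J K G).map ψ ≫ (resConstIso J K G N).hom =
      (constantSheaf K AddCommGrpCat.{w}).map (AddCommGrpCat.ofHom h) := by
  apply hom_ext_ts K M
  intro d m
  change (resConstIso J K G N).hom.hom.app (op d) (ψ.hom.app (op (G.obj d))
      ((resConstHom J K G M).hom.app (op d) (ts K M d m))) = _
  rw [resConstHom_ts, hgood d m, resConstIso_hom_ts, const_map_ts]
  rfl

end LemmaP

end ConstSite
end H9FE
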