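import Mathlib
import Groth.Agent.Lib.Helper9.FE.ConstSite

/-! helper9: trivializations of sheaves on slice sites: restriction, maps locally from group homs. -/

universe w v₁ u₁
open CategoryTheory CategoryTheory.Limits Opposite

namespace H9FE
namespace ConstSite

set_option linter.style.haveILetI false
set_option linter.unusedSectionVars false

variable {C : Type u₁} [Category.{v₁} C] (J : GrothendieckTopology C)
  [∀ P : C, HasSheafify (J.over P) AddCommGrpCat.{w}]
  [∀ P : C, (J.over P).WEqualsLocallyBijective AddCommGrpCat.{w}]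
  [∀ P : C, (J.over P).HasSheafCompose (forget AddCommGrpCat.{w})]

/-- restriction of a trivialization along `g : W ⟶ P` -/
noncomputable def restrictIso {F : Sheaf J AddCommGrpCat.{w}} {P W : C} (g : W ⟶ P)
    {M : AddCommGrpCat.{w}} (α : F.over P ≅ cS (J.over P) M) : F.over W ≅ cS (J.over W) M :=
  (F.pushforwardOverMapIso g).symm ≪≫ (J.overMapPullback AddCommGrpCat.{w} g).mapIso α ≪≫
    resConstIso (J.over P) (J.over W) (Over.map g) M

theorem restrictIso_hom_app {F : Sheaf J AddCommGrpCat.{w}} {P W : C} (g : W ⟶ P)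
    {M : AddCommGrpCat.{w}} (α : F.over P ≅ cS (J.over P) M) (Z : Over W)
    (s : F.obj.obj (op Z.left)) :
    (restrictIso J g α).hom.hom.app (op Z) s =
      (resConstIso (J.over P) (J.over W) (Over.map g) M).hom.hom.app (op Z)
        (α.hom.hom.app (op ((Over.map g).obj Z)) s) := by
  simp only [restrictIso, Iso.trans_hom, Iso.symm_hom, Functor.mapIso_hom]
  rfl

theorem overPullback_map_pushforwardOverMapIso_inv {F G : Sheaf J AddCommGrpCat.{w}} (φ : F ⟶ G)
    {P W : C} (g : W ⟶ P) :
    (J.overPullback AddCommGrpCat.{w} W).map φ ≫ (G.pushforwardOverMapIso g).inv =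
      (F.pushforwardOverMapIso g).inv ≫
        (J.overMapPullback AddCommGrpCat.{w} g).map ((J.overPullback AddCommGrpCat.{w} P).map φ) := by
  apply Sheaf.hom_ext
  ext Z
  simp [Sheaf.pushforwardOverMapIso]
  rfl

/-- the sieve of arrows `g : W ⟶ P` over which `φ` becomes a map of constant sheaves induced by a
group homomorphism, with respect to the restrictions of given trivializations over `P` -/
theorem constSieve_mem {F G : Sheaf J AddCommGrpCat.{w}} (φ : F ⟶ G) (P : C)
    {M N : AddCommGrpCat.{w}} [Finite M] (α : F.over P ≅ cS (J.over P) M)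
    (β : G.over P ≅ cS (J.over P) N) :
    ∃ S : Sieve P, S ∈ J P ∧ ∀ {W : C} (g : W ⟶ P), S g → ∃ h : M →+ N,
      (J.overPullback AddCommGrpCat.{w} W).map φ ≫ (restrictIso J g β).hom =
        (restrictIso J g α).hom ≫
          (constantSheaf (J.over W) AddCommGrpCat.{w}).map (AddCommGrpCat.ofHom h) := by
  let ψ : cS (J.over P) M ⟶ cS (J.over P) N :=
    α.inv ≫ (J.overPullback AddCommGrpCat.{w} P).map φ ≫ β.hom
  have hmem := goodSieve_mem (J.over P) ψ (Over.mk (𝟙 P))
  rw [GrothendieckTopology.mem_over_iff] at hmem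
  refine ⟨_, hmem, ?_⟩
  intro W g hg
  rw [Sieve.overEquiv_iff] at hg
  obtain ⟨h, hgood⟩ := hg
  refine ⟨h, ?_⟩
  have hgood' : ∀ Z : Over W, Good (J.over P) ψ ((Over.map g).obj Z) h := by
    intro Z
    exact good_of_arrow (J.over P) ψ hgood (Over.homMk Z.hom (by simp))
  have key := res_map_eq_const (J.over P) (J.over W) (Over.map g) ψ h hgood'
  have hψ : (J.overPullback AddCommGrpCat.{w} P).map φ ≫ β.hom = α.hom ≫ ψ := by
    simp [ψ]
  have hc : (resConstIso (J.over P) (J.over W) (Over.map g) M).hom ≫
      resConstHom (J.over P) (J.over W) (Over.map g) M = 𝟙 _ := by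
    simp [resConstIso]
  simp only [restrictIso, Iso.trans_hom, Iso.symm_hom, Functor.mapIso_hom]
  rw [← Category.assoc, overPullback_map_pushforwardOverMapIso_inv, Category.assoc,
    ← Functor.map_comp_assoc, hψ, Functor.map_comp_assoc, Category.assoc, Category.assoc, ← key]
  congr 2
  rw [← Category.assoc _ (resConstHom _ _ _ _), hc, Category.id_comp]

end ConstSite
end H9FE
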