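import Mathlib
import Groth.Agent.Lib.Helper9.FE.ConstSiteOver

/-! helper9: generators of trivialized sheaves on slice sites, a criterion for a sheaf on a slice to be
constant, and local triviality of extensions of finite constant sheaves by finite constant sheaves. -/

universe w v₁ u₁
open CategoryTheory CategoryTheory.Limits Opposite

namespace H9FE
namespace ConstSite

set_option linter.style.haveILetI false
set_option linter.unusedSectionVars false

variable {C : Type u₁} [Category.{v₁} C] (J : GrothendieckTopology C)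
  [∀ P : C, HasSheafify (J.over P) AddCommGrpCat.{w}]
  [∀ P : C, (J.over P).WEqualsLocallyBijective AddCommGrpCat.{w}]
  [∀ P : C, (J.over P).HasSheafCompose (forget AddCommGrpCat.{w})]

theorem bot_mem_over_iff {P : C} (Y : Over P) :
    (⊥ : Sieve Y) ∈ (J.over P) Y ↔ (⊥ : Sieve Y.left) ∈ J Y.left := by
  rw [GrothendieckTopology.mem_over_iff, OrderIso.map_bot]

section Gen

variable (F : Sheaf J AddCommGrpCat.{w}) (P : C) {M : AddCommGrpCat.{w}}
  (α : F.over P ≅ cS (J.over P) M)

/-- the sections of `F` over `P` corresponding to constants under a trivialization -/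
noncomputable def gen : M →+ F.obj.obj (op P) :=
  (α.inv.hom.app (op (Over.mk (𝟙 P)))).hom.comp (ts (J.over P) M (Over.mk (𝟙 P)))

theorem gen_map {Z : C} (z : Z ⟶ P) (m : M) :
    F.obj.map z.op (gen J F P α m) =
      α.inv.hom.app (op (Over.mk z)) (ts (J.over P) M (Over.mk z) m) := by
  let k : Over.mk z ⟶ Over.mk (𝟙 P) := Over.homMk z
  have h1 := NatTrans.naturality_apply α.inv.hom k.op (ts (J.over P) M (Over.mk (𝟙 P)) m)
  have h2 := ts_map (J.over P) M k m
  rw [← h2]
  exact h1.symm

theorem gen_inj {Z : C} (z : Z ⟶ P) (m m' : M)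
    (h : F.obj.map z.op (gen J F P α m) = F.obj.map z.op (gen J F P α m')) :
    m = m' ∨ (⊥ : Sieve Z) ∈ J Z := by
  rw [gen_map, gen_map] at h
  have h2 := congrArg (fun s => α.hom.hom.app (op (Over.mk z)) s) h
  simp only at h2
  have e : ∀ s, α.hom.hom.app (op (Over.mk z)) (α.inv.hom.app (op (Over.mk z)) s) = s := by
    intro s
    have := congrArg (fun η => η.hom.app (op (Over.mk z)) s) α.inv_hom_id
    exact this
  rw [e, e] at h2
  rcases ts_eq_or_bot (J.over P) M (Over.mk z) m m' h2 with h3 | h3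
  · exact Or.inl h3
  · exact Or.inr ((bot_mem_over_iff J (Over.mk z)).1 h3)

theorem gen_surj {Z : C} (z : Z ⟶ P) (f : F.obj.obj (op Z)) :
    ∃ S : Sieve Z, S ∈ J Z ∧ ∀ {Z' : C} (k : Z' ⟶ Z), S k →
      ∃ m : M, F.obj.map k.op f = F.obj.map (k ≫ z).op (gen J F P α m) := by
  let s := α.hom.hom.app (op (Over.mk z)) f
  have hmem := imageSieve_ts_mem (J.over P) M (Over.mk z) s
  rw [GrothendieckTopology.mem_over_iff] at hmem
  refine ⟨_, hmem, ?_⟩
  intro Z' k hk
  rw [Sieve.overEquiv_iff] at hk
  obtain ⟨m, hm⟩ := hk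
  refine ⟨m, ?_⟩
  rw [gen_map]
  let k' : Over.mk (k ≫ z) ⟶ Over.mk z := Over.homMk k
  have hm' : ts (J.over P) M (Over.mk (k ≫ z)) m =
      (cS (J.over P) M).obj.map k'.op s := hm
  rw [hm']
  have h1 := NatTrans.naturality_apply α.inv.hom k'.op s
  rw [h1]
  have e : α.inv.hom.app (op (Over.mk z)) s = f := by
    have := congrArg (fun η => η.hom.app (op (Over.mk z)) f) α.hom_inv_id
    exact this
  rw [e]
  rfl

end Gen


section Crit

variable (E : Sheaf J AddCommGrpCat.{w}) (W : C) {E₁ : AddCommGrpCat.{w}}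
  (γ : E₁ →+ E.obj.obj (op W))

/-- the presheaf map from the constant presheaf on `Over W` to the restriction of `E` given
by a group of sections over `W` -/
noncomputable def rho :
    (cP E₁ : (Over W)ᵒᵖ ⥤ AddCommGrpCat.{w}) ⟶ (E.over W).obj where
  app Z := AddCommGrpCat.ofHom ((E.obj.map Z.unop.hom.op).hom.comp γ)
  naturality Z Z' k := by
    ext x
    have hw : k.unop.left ≫ Z.unop.hom = Z'.unop.hom := Over.w k.unop
    have h1 : E.obj.map Z'.unop.hom.op (γ x) =
        E.obj.map k.unop.left.op (E.obj.map Z.unop.hom.op (γ x)) := by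
      rw [← hw, op_comp, Functor.map_comp]
      rfl
    exact h1

theorem rho_app (Z : Over W) (x : E₁) :
    (rho J E W γ).app (op Z) x = E.obj.map Z.hom.op (γ x) := rfl

variable (hinj : ∀ (Z : C) (z : Z ⟶ W) (x : E₁), E.obj.map z.op (γ x) = 0 →
    x = 0 ∨ (⊥ : Sieve Z) ∈ J Z)
  (hsurj : ∀ (Z : C) (z : Z ⟶ W) (s : E.obj.obj (op Z)), ∃ S : Sieve Z, S ∈ J Z ∧
    ∀ {Z' : C} (k : Z' ⟶ Z), S k → ∃ x : E₁, E.obj.map k.op s = E.obj.map (k ≫ z).op (γ x))

include hinj in
theorem rho_locallyInjective : Presheaf.IsLocallyInjective (J.over W) (rho J E W γ) := by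
  constructor
  intro Z a b hab
  have h0 : E.obj.map Z.unop.hom.op (γ (a - b)) = 0 := by
    rw [map_sub, map_sub, sub_eq_zero]
    exact hab
  rcases hinj Z.unop.left Z.unop.hom (a - b) h0 with h | h
  · have hab' : a = b := sub_eq_zero.1 h
    subst hab'
    rw [Presheaf.equalizerSieve_self_eq_top]
    exact (J.over W).top_mem _
  · have h2 : (⊥ : Sieve Z.unop) ∈ (J.over W) Z.unop := (bot_mem_over_iff J Z.unop).2 h
    refine (J.over W).superset_covering ?_ h2
    intro d' g hg
    exact hg.elim

include hsurj in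
theorem rho_locallySurjective : Presheaf.IsLocallySurjective (J.over W) (rho J E W γ) := by
  constructor
  intro Z s
  obtain ⟨S, hS, hprop⟩ := hsurj Z.left Z.hom s
  rw [GrothendieckTopology.mem_over_iff]
  refine J.superset_covering ?_ hS
  intro Z' k hk
  rw [Sieve.overEquiv_iff]
  obtain ⟨x, hx⟩ := hprop k hk
  exact ⟨x, hx.symm⟩

/-- the map from the constant sheaf -/
noncomputable def critHom : cS (J.over W) E₁ ⟶ E.over W :=
  ObjectProperty.homMk (sheafifyLift (J.over W) (rho J E W γ) (E.over W).2)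

theorem toSheafify_critHom :
    toSheafify (J.over W) (cP E₁) ≫ (critHom J E W γ).hom = rho J E W γ :=
  toSheafify_sheafifyLift (J.over W) _ _

include hinj hsurj in
theorem isIso_critHom : IsIso (critHom J E W γ) := by
  rw [← (J.over W).W_sheafToPresheaf_map_iff_isIso]
  haveI := rho_locallyInjective J E W γ hinj
  haveI := rho_locallySurjective J E W γ hsurj
  have hW : (J.over W).W (rho J E W γ) := (J.over W).W_of_isLocallyBijective _
  have h1 : (J.over W).W (toSheafify (J.over W) (cP E₁) ≫ (critHom J E W γ).hom) := by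
    rw [toSheafify_critHom]; exact hW
  exact ((J.over W).W).of_precomp _ _ ((J.over W).W_toSheafify (cP E₁)) h1

include hinj hsurj in
/-- criterion: a finite group of sections that locally generates and is locally faithful
trivializes the sheaf -/
theorem nonempty_iso_of_crit : Nonempty (E.over W ≅ cS (J.over W) E₁) := by
  haveI := isIso_critHom J E W γ hinj hsurj
  exact ⟨(asIso (critHom J E W γ)).symm⟩

end Crit


section Ext

theorem map_map (F : Sheaf J AddCommGrpCat.{w}) {Z' Z W : C} (k : Z' ⟶ Z) (z : Z ⟶ W)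
    (s : F.obj.obj (op W)) :
    F.obj.map k.op (F.obj.map z.op s) = F.obj.map (k ≫ z).op s := by
  rw [op_comp, Functor.map_comp]
  rfl

theorem nat_app {F G : Sheaf J AddCommGrpCat.{w}} (φ : F ⟶ G) {Z W : C} (z : Z ⟶ W)
    (s : F.obj.obj (op W)) :
    φ.hom.app (op Z) (F.obj.map z.op s) = G.obj.map z.op (φ.hom.app (op W) s) :=
  NatTrans.naturality_apply φ.hom z.op s

variable {F E G : Sheaf J AddCommGrpCat.{w}} (ι : F ⟶ E) (π : E ⟶ G)
  (hι : ∀ (Z : C), Function.Injective (ι.hom.app (op Z)))
  (hex : ∀ (Z : C) (e : E.obj.obj (op Z)), π.hom.app (op Z) e = 0 →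
    ∃ f, ι.hom.app (op Z) f = e)
  (hzero : ∀ (Z : C) (f : F.obj.obj (op Z)), π.hom.app (op Z) (ι.hom.app (op Z) f) = 0)
  (P : C) {M N : AddCommGrpCat.{w}} (α : F.over P ≅ cS (J.over P) M)
  (β : G.over P ≅ cS (J.over P) N)

/-- the subgroup of sections of the extension generated by the constants of the subsheaf
and chosen lifts of the constants of the quotient -/
def extSubgroup {W : C} (g : W ⟶ P) (e : N → E.obj.obj (op W)) (mm : N → N → M)
    (he0 : e 0 = 0)
    (hadd : ∀ n n', e n + e n' - e (n + n') =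
      ι.hom.app (op W) (F.obj.map g.op (gen J F P α (mm n n')))) :
    AddSubgroup (E.obj.obj (op W)) where
  carrier := Set.range (fun p : M × N =>
    ι.hom.app (op W) (F.obj.map g.op (gen J F P α p.1)) + e p.2)
  zero_mem' := ⟨(0, 0), by simp [he0]⟩
  add_mem' := by
    rintro _ _ ⟨⟨m, n⟩, rfl⟩ ⟨⟨m', n'⟩, rfl⟩
    refine ⟨(m + m' + mm n n', n + n'), ?_⟩
    have h := hadd n n'
    simp only [map_add]
    rw [← h]
    abel
  neg_mem' := by
    rintro _ ⟨⟨m, n⟩, rfl⟩
    refine ⟨(-m - mm n (-n), -n), ?_⟩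
    have h := hadd n (-n)
    rw [add_neg_cancel, he0, sub_zero] at h
    simp only [map_sub, map_neg]
    rw [← h]
    abel

include hι hex hzero in
theorem ext_crit [Finite M] [Finite N] {W : C} (g : W ⟶ P) (e : N → E.obj.obj (op W))
    (mm : N → N → M) (he0 : e 0 = 0)
    (hπe : ∀ n, π.hom.app (op W) (e n) = G.obj.map g.op (gen J G P β n))
    (hadd : ∀ n n', e n + e n' - e (n + n') =
      ι.hom.app (op W) (F.obj.map g.op (gen J F P α (mm n n')))) :
    ∃ (E₁ : AddCommGrpCat.{w}) (_ : Finite E₁), Nonempty (E.over W ≅ cS (J.over W) E₁) := by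
  classical
  let H := extSubgroup J ι P α g e mm he0 hadd
  have hfin : Finite H := by
    have : (H : Set (E.obj.obj (op W))).Finite := Set.finite_range _
    exact this.to_subtype
  refine ⟨AddCommGrpCat.of H, hfin, ?_⟩
  refine nonempty_iso_of_crit J E W (E₁ := AddCommGrpCat.of H) H.subtype ?_ ?_
  · -- injectivity
    rintro Z z ⟨x, ⟨m, n⟩, rfl⟩ hx
    simp only [AddSubgroup.subtype_apply] at hx
    -- apply π
    have h1 := congrArg (fun s => π.hom.app (op Z) s) hx
    simp only [map_zero] at h1
    rw [nat_app J π z, map_add, hzero, zero_add, hπe, map_map] at h1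
    have h2 : G.obj.map (z ≫ g).op (gen J G P β n) = G.obj.map (z ≫ g).op (gen J G P β 0) := by
      rw [h1, map_zero, map_zero]
    rcases gen_inj J G P β (z ≫ g) n 0 h2 with hn | hbot
    · subst hn
      rw [he0, add_zero, ← nat_app J ι z, map_map] at hx
      have h3 : F.obj.map (z ≫ g).op (gen J F P α m) = F.obj.map (z ≫ g).op (gen J F P α 0) := by
        apply hι Z
        rw [hx, map_zero, map_zero, map_zero]
      rcases gen_inj J F P α (z ≫ g) m 0 h3 with hm | hbot
      · subst hm
        left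
        apply Subtype.ext
        simp [he0]
      · exact Or.inr hbot
    · exact Or.inr hbot
  · -- surjectivity
    intro Z z s
    obtain ⟨SG, hSG, hpG⟩ := gen_surj J G P β (z ≫ g) (π.hom.app (op Z) s)
    let T : Sieve Z :=
      { arrows := fun Z' k => ∃ x : H, E.obj.map k.op s = E.obj.map (k ≫ z).op (H.subtype x)
        downward_closed := by
          rintro Z₁ Z₂ k ⟨x, hx⟩ l
          refine ⟨x, ?_⟩
          rw [← map_map J E l k, hx, map_map, Category.assoc] }
    have hT : T ∈ J Z := by
      refine J.transitive hSG T ?_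
      intro Z' k hk
      obtain ⟨n, hn⟩ := hpG k hk
      let d : E.obj.obj (op Z') := E.obj.map k.op s - E.obj.map (k ≫ z).op (e n)
      have hd : π.hom.app (op Z') d = 0 := by
        simp only [d, map_sub]
        rw [nat_app J π k, nat_app J π (k ≫ z), hπe, map_map, hn, Category.assoc, sub_self]
      obtain ⟨f, hf⟩ := hex Z' d hd
      obtain ⟨SF, hSF, hpF⟩ := gen_surj J F P α (k ≫ z ≫ g) f
      refine J.superset_covering ?_ hSF
      intro Z'' l hl
      obtain ⟨m, hm⟩ := hpF l hl
      refine ⟨⟨_, ⟨(m, n), rfl⟩⟩, ?_⟩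
      simp only [AddSubgroup.subtype_apply]
      have hs : E.obj.map k.op s = ι.hom.app (op Z') f + E.obj.map (k ≫ z).op (e n) := by
        rw [hf]; simp [d]
      rw [← map_map J E l k, hs, map_add, ← nat_app J ι l, hm, map_map, map_add,
        ← nat_app J ι, map_map]
      simp only [Category.assoc]
    exact ⟨T, hT, fun k hk => hk⟩

/-- the sieve of arrows over which `E` becomes constant with finite value group -/
def finConstSieve (E : Sheaf J AddCommGrpCat.{w}) (P : C) : Sieve P where
  arrows W _ := ∃ (E₁ : AddCommGrpCat.{w}) (_ : Finite E₁),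
    Nonempty (E.over W ≅ cS (J.over W) E₁)
  downward_closed := by
    rintro W W' g ⟨E₁, hfin, ⟨θ⟩⟩ k
    exact ⟨E₁, hfin, ⟨restrictIso J k θ⟩⟩

include hι hex hzero α β in
theorem ext_step [Finite M] [Finite N] {W : C} (g : W ⟶ P) (e : N → E.obj.obj (op W))
    (he0 : e 0 = 0)
    (hπe : ∀ n, π.hom.app (op W) (e n) = G.obj.map g.op (gen J G P β n)) :
    finConstSieve J E W ∈ J W := by
  classical
  have hc : ∀ n n', ∃ f, ι.hom.app (op W) f = e n + e n' - e (n + n') := by
    intro n n'
    apply hex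
    rw [map_sub, map_add, hπe, hπe, hπe, map_add, map_add, sub_self]
  choose f hf using hc
  have hs := fun (p : N × N) => gen_surj J F P α g (f p.1 p.2)
  choose SF hSF hpF using hs
  have hT : (⨅ p, SF p) ∈ J W := iInf_mem_of_finite J SF hSF
  refine J.superset_covering ?_ hT
  intro W' k hk
  have hk' : ∀ p, SF p k := fun p => (iInf_le SF p) _ hk
  have hm := fun p => hpF p k (hk' p)
  choose mm hmm using hm
  exact ext_crit J ι π hι hex hzero P α β (k ≫ g) (fun n => E.obj.map k.op (e n))
    (fun n n' => mm (n, n')) (by rw [he0, map_zero])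
    (fun n => by rw [nat_app, hπe, map_map])
    (fun n n' => by rw [← map_add, ← map_sub, ← hf, ← nat_app, hmm (n, n')])

include hι hex hzero α β in
theorem ext_local [Finite M] [Finite N] (hπ : Presheaf.IsLocallySurjective J π.hom) :
    finConstSieve J E P ∈ J P := by
  classical
  let S : N → Sieve P := fun n => Presheaf.imageSieve π.hom (gen J G P β n)
  have hS : (⨅ n, S n) ∈ J P :=
    iInf_mem_of_finite J S (fun n => Presheaf.imageSieve_mem J π.hom _)
  refine J.transitive hS _ ?_
  intro W g hg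
  have hg' : ∀ n, ∃ e : E.obj.obj (op W),
      π.hom.app (op W) e = G.obj.map g.op (gen J G P β n) := by
    intro n
    have h1 : (S n) g := (iInf_le S n) _ hg
    exact h1
  choose e he using hg'
  let e' : N → E.obj.obj (op W) := fun n => if n = 0 then 0 else e n
  have h0 : e' 0 = 0 := by simp [e']
  have h1 : ∀ n, π.hom.app (op W) (e' n) = G.obj.map g.op (gen J G P β n) := by
    intro n
    by_cases hn : n = 0
    · subst hn
      simp [e']
    · simp [e', hn, he]
  have := ext_step J ι π hι hex hzero P α β g e' h0 h1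
  refine J.superset_covering ?_ this
  intro W' k hk
  exact hk

end Ext

section SES

variable [HasSheafify J AddCommGrpCat.{w}] [J.WEqualsLocallyBijective AddCommGrpCat.{w}]
  [J.HasSheafCompose (forget AddCommGrpCat.{w})]

theorem injective_of_mono {F E : Sheaf J AddCommGrpCat.{w}} (ι : F ⟶ E) [Mono ι] (Z : C) :
    Function.Injective (ι.hom.app (op Z)) := by
  have h1 : Mono ((sheafToPresheaf J AddCommGrpCat.{w}).map ι) := inferInstance
  have h2 : Mono ι.hom := h1
  rw [NatTrans.mono_iff_mono_app] at h2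
  exact (AddCommGrpCat.mono_iff_injective _).1 (h2 (op Z))

theorem exact_sections (S : ShortComplex (Sheaf J AddCommGrpCat.{w})) (hS : S.ShortExact)
    (Z : C) (e : S.X₂.obj.obj (op Z)) (he : S.g.hom.app (op Z) e = 0) :
    ∃ f, S.f.hom.app (op Z) f = e := by
  let Γ : Sheaf J AddCommGrpCat.{w} ⥤ AddCommGrpCat.{w} :=
    sheafToPresheaf J AddCommGrpCat.{w} ⋙ (evaluation Cᵒᵖ AddCommGrpCat.{w}).obj (op Z)
  haveI := hS.mono_f
  have h1 : (S.map Γ).Exact :=
    hS.exact.map_of_mono_of_preservesKernel Γ inferInstance inferInstance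
  rw [ShortComplex.ab_exact_iff] at h1
  exact h1 e he

theorem finConstSieve_mem_of_shortExact (S : ShortComplex (Sheaf J AddCommGrpCat.{w}))
    (hS : S.ShortExact) (P : C) {M N : AddCommGrpCat.{w}} [Finite M] [Finite N]
    (α : S.X₁.over P ≅ cS (J.over P) M) (β : S.X₃.over P ≅ cS (J.over P) N) :
    finConstSieve J S.X₂ P ∈ J P := by
  haveI := hS.mono_f
  haveI := hS.epi_g
  refine ext_local J S.f S.g (fun Z => injective_of_mono J S.f Z)
    (fun Z e he => exact_sections J S hS Z e he) ?_ P α β ?_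
  · intro Z f
    have h := congrArg (fun η => η.hom.app (op Z) f) S.zero
    exact h
  · exact (Sheaf.isLocallySurjective_iff_epi' (φ := S.g)).2 inferInstance

end SES

end ConstSite
end H9FE
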