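import Mathlib
import Groth.Prelude.Def_EtBase
import Groth.Prelude.Def_EtCore
import Groth.Agent.Lib.Helper9.FE.StalkPullGerm

/-! helper9: local structure of sections of a pulled back abelian étale sheaf `f⁻¹ G` (via geometric
stalks): every section is locally the restriction of the image of a section of `G` under the unit
(`exists_local_unit`), and if such a restriction vanishes then locally the section of `G` itself
vanishes (`exists_local_vanish`). -/

set_option autoImplicit false
set_option linter.unusedSectionVars false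
set_option linter.style.haveILetI false
set_option backward.isDefEq.respectTransparency false
universe u
open CategoryTheory CategoryTheory.Limits AlgebraicGeometry Opposite

namespace H9FE.LimLoc
open Groth.Agent.Lib.Helper5 Groth.Agent.S0072.Aux H9FE.StalkPullGerm

variable {X Y : Scheme.{u}} (f : X ⟶ Y) (G : EtCoh.Ab Y)

/-- a geometric point of an étale `X`-scheme over a given point, as a point of the fibre functor -/
lemma exists_geom_pt (T : X.Etale) (x : T.left) :
    ∃ (Ω : Type u) (_ : Field Ω) (_ : IsSepClosed Ω) (ξ : Spec (CommRingCat.of Ω) ⟶ X)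
      (y : (Scheme.pointSmallEtale ξ).fiber.obj T),
      y.left (default : Spec (CommRingCat.of Ω)) = x := by
  let g := EtStalk.geomPtAt x
  refine ⟨g.Ω, inferInstance, inferInstance, g.ξ ≫ T.hom, Over.homMk g.ξ rfl, ?_⟩
  exact EtStalk.geomPtAt_default x

/-- sections of a pulled back sheaf are locally restrictions of images of sections under the unit -/
theorem exists_local_unit (T : X.Etale) (t : ((EtCoh.pull f).obj G).obj.obj (op T)) (x : T.left) :
    ∃ (T' : X.Etale) (g : T' ⟶ T) (x' : T'.left), g.left x' = x ∧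
      ∃ (V : Y.Etale) (φ : T' ⟶ (EtCoh.bc f).obj V) (s : G.obj.obj (op V)),
        ((EtCoh.pull f).obj G).obj.map g.op t =
          ((EtCoh.pull f).obj G).obj.map φ.op
            (((EtCoh.pullPushAdj f).unit.app G).hom.app (op V) s) := by
  haveI := EtStalk.pfc.{u}
  obtain ⟨Ω, _, _, ξ, y, hy⟩ := exists_geom_pt T x
  let Φ := Scheme.pointSmallEtale ξ
  let Φ' := Scheme.pointSmallEtale (ξ ≫ f)
  let P := ((EtCoh.pull f).obj G).obj
  let γ := Φ.toPresheafFiber T y P t
  obtain ⟨V, v, s, hs⟩ := Φ'.toPresheafFiber_jointly_surjective (P := G.obj)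
    ((EtStalkPull.stalkPullIso f ξ).hom.app G γ)
  -- the germ of `t` is the germ of the image of `s` under the unit
  have h1 : γ = Φ.toPresheafFiber ((EtCoh.bc f).obj V) (liftPt f (ξ ≫ f) ξ rfl V v) P
      (((EtCoh.pullPushAdj f).unit.app G).hom.app (op V) s) := by
    have e1 := ConcreteCategory.congr_hom (stalkPullIso_inv_germ f ξ G V v) s
    simp only [ConcreteCategory.comp_apply] at e1
    have e2 := ConcreteCategory.congr_hom
      ((EtStalkPull.stalkPullIso f ξ).hom_inv_id_app G) γ
    have e3 : (EtStalkPull.stalkPullIso f ξ).inv.app G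
        ((EtStalkPull.stalkPullIso f ξ).hom.app G γ) = γ := e2
    rw [← hs] at e3
    exact e3.symm.trans e1
  -- a common refinement of the two neighbourhoods
  let a : Φ.fiber.Elements := ⟨T, y⟩
  let b : Φ.fiber.Elements := ⟨(EtCoh.bc f).obj V, liftPt f (ξ ≫ f) ξ rfl V v⟩
  let m := IsCofiltered.min a b
  let g₁ : m ⟶ a := IsCofiltered.minToLeft a b
  let g₂ : m ⟶ b := IsCofiltered.minToRight a b
  have e3 : Φ.toPresheafFiber m.1 m.2 P (P.map g₁.1.op t) = γ := by
    have := ConcreteCategory.congr_hom (Φ.toPresheafFiber_w g₁.1 m.2 P) t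
    simp only [ConcreteCategory.comp_apply] at this
    rw [this]
    have h2 : Φ.fiber.map g₁.1 m.2 = y := g₁.2
    rw [h2]
  have e4 : Φ.toPresheafFiber m.1 m.2 P
      (P.map g₂.1.op (((EtCoh.pullPushAdj f).unit.app G).hom.app (op V) s)) = γ := by
    have := ConcreteCategory.congr_hom (Φ.toPresheafFiber_w g₂.1 m.2 P)
      (((EtCoh.pullPushAdj f).unit.app G).hom.app (op V) s)
    simp only [ConcreteCategory.comp_apply] at this
    rw [this, h1]
    have h2 : Φ.fiber.map g₂.1 m.2 = liftPt f (ξ ≫ f) ξ rfl V v := g₂.2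
    rw [h2]
  have e5 := e3.trans e4.symm
  rw [Φ.toPresheafFiber_eq_iff'] at e5
  obtain ⟨T', k, y', hk, hres⟩ := e5
  refine ⟨T', k ≫ g₁.1, y'.left (default : Spec (CommRingCat.of Ω)), ?_, V, k ≫ g₂.1, s, ?_⟩
  · have hyy : y = Φ.fiber.map g₁.1 (Φ.fiber.map k y') := by
      rw [hk]
      exact g₁.2.symm
    have hl : y.left = y'.left ≫ (k ≫ g₁.1).left := by
      rw [hyy]
      rfl
    rw [← hy, hl]
    rfl
  · have e6 : P.map (k ≫ g₁.1).op t = P.map k.op (P.map g₁.1.op t) := by
      rw [op_comp, Functor.map_comp, ConcreteCategory.comp_apply]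
    have e7 : P.map (k ≫ g₂.1).op (((EtCoh.pullPushAdj f).unit.app G).hom.app (op V) s) =
        P.map k.op (P.map g₂.1.op (((EtCoh.pullPushAdj f).unit.app G).hom.app (op V) s)) := by
      rw [op_comp, Functor.map_comp, ConcreteCategory.comp_apply]
    exact e6.trans (hres.trans e7.symm)

/-- if the restriction of the image of a section under the unit vanishes, then locally the
section itself vanishes -/
theorem exists_local_vanish (V : Y.Etale) (s : G.obj.obj (op V)) (T : X.Etale)
    (φ : T ⟶ (EtCoh.bc f).obj V)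
    (h0 : ((EtCoh.pull f).obj G).obj.map φ.op
      (((EtCoh.pullPushAdj f).unit.app G).hom.app (op V) s) = 0) (x : T.left) :
    ∃ (V' : Y.Etale) (h : V' ⟶ V) (z : ((EtCoh.bc f).obj V').left),
      G.obj.map h.op s = 0 ∧ ((EtCoh.bc f).map h).left z = φ.left x := by
  haveI := EtStalk.pfc.{u}
  obtain ⟨Ω, _, _, ξ, y, hy⟩ := exists_geom_pt T x
  let Φ := Scheme.pointSmallEtale ξ
  let Φ' := Scheme.pointSmallEtale (ξ ≫ f)
  let P := ((EtCoh.pull f).obj G).obj
  obtain ⟨y₂, hy₂⟩ : ∃ y₂ : Φ.fiber.obj ((EtCoh.bc f).obj V), y₂ = Φ.fiber.map φ y := ⟨_, rfl⟩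
  obtain ⟨v, hvdef⟩ : ∃ v : Φ'.fiber.obj V, v = (EtStalkPull.fiberIso f ξ).hom.app V y₂ :=
    ⟨_, rfl⟩
  have hv : liftPt f (ξ ≫ f) ξ rfl V v = y₂ := by
    rw [← fiberIso_inv, hvdef]
    exact ConcreteCategory.congr_hom ((EtStalkPull.fiberIso f ξ).hom_inv_id_app V) _
  -- the germ of `s` at `v` vanishes
  have h1 : Φ'.toPresheafFiber V v G.obj s = 0 := by
    have e1 := ConcreteCategory.congr_hom (stalkPullIso_inv_germ f ξ G V v) s
    simp only [ConcreteCategory.comp_apply] at e1
    rw [hv] at e1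
    have e2 := ConcreteCategory.congr_hom (Φ.toPresheafFiber_w φ y P)
      (((EtCoh.pullPushAdj f).unit.app G).hom.app (op V) s)
    simp only [ConcreteCategory.comp_apply] at e2
    rw [← hy₂] at e2
    have e3 : (EtStalkPull.stalkPullIso f ξ).inv.app G (Φ'.toPresheafFiber V v G.obj s) = 0 := by
      refine e1.trans (e2.symm.trans ?_)
      rw [h0, map_zero]
    have e4 := ConcreteCategory.congr_hom
      ((EtStalkPull.stalkPullIso f ξ).inv_hom_id_app G) (Φ'.toPresheafFiber V v G.obj s)
    have e5 : (EtStalkPull.stalkPullIso f ξ).hom.app G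
        ((EtStalkPull.stalkPullIso f ξ).inv.app G (Φ'.toPresheafFiber V v G.obj s)) =
        Φ'.toPresheafFiber V v G.obj s := e4
    rw [e3, map_zero] at e5
    exact e5.symm
  have h2 : Φ'.toPresheafFiber V v G.obj s = Φ'.toPresheafFiber V v G.obj 0 :=
    h1.trans (map_zero _).symm
  rw [Φ'.toPresheafFiber_eq_iff'] at h2
  obtain ⟨V', h, v', hv', hres⟩ := h2
  refine ⟨V', h, (liftPt f (ξ ≫ f) ξ rfl V' v').left (default : Spec (CommRingCat.of Ω)),
    hres.trans (map_zero _), ?_⟩
  have e6 := liftPt_map f (ξ ≫ f) ξ rfl h v'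
  rw [hv', hv] at e6
  have e7 : (liftPt f (ξ ≫ f) ξ rfl V' v').left ≫ ((EtCoh.bc f).map h).left = y₂.left :=
    congrArg (fun w => w.left) e6
  have e8 : y₂.left = y.left ≫ φ.left := by rw [hy₂]; rfl
  rw [← hy]
  have e9 : (liftPt f (ξ ≫ f) ξ rfl V' v').left ≫ ((EtCoh.bc f).map h).left =
      y.left ≫ φ.left := e7.trans e8
  exact congrArg (fun w : Spec (CommRingCat.of Ω) ⟶ ((EtCoh.bc f).obj V).left =>
    w (default : Spec (CommRingCat.of Ω))) e9

end H9FE.LimLoc
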