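import Mathlib
import Groth.Prelude.Def_EtBase
import Groth.Prelude.Def_EtCore
import Groth.Agent.Lib.Helper9.FE.ConstSiteGen
import Groth.Agent.Lib.Helper9.FE.LimLoc
import Groth.Agent.S14453

/-! helper9: finite locally constant abelian étale sheaves are stable under inverse image: a
trivialization of `F` over an étale `Y`-scheme `U` induces a trivialization of `f⁻¹ F` over `U ×_Y X`. -/

set_option autoImplicit false
set_option linter.unusedSectionVars false
set_option linter.style.haveILetI false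
set_option backward.isDefEq.respectTransparency false
universe u
open CategoryTheory CategoryTheory.Limits AlgebraicGeometry Opposite

namespace H9FE.CsPull
open H9FE.ConstSite Groth.Agent.S14453.Aux

variable {X Y : Scheme.{u}} (f : X ⟶ Y) (F : EtCoh.Ab Y)

/-- the unit of `f⁻¹ ⊣ f_*` on sections over `V`. -/
noncomputable abbrev unitSec (V : Y.Etale) :
    F.obj.obj (op V) →+ ((EtCoh.pull f).obj F).obj.obj (op ((EtCoh.bc f).obj V)) :=
  (((EtCoh.pullPushAdj f).unit.app F).hom.app (op V)).hom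

theorem unitSec_map {V₁ V₂ : Y.Etale} (a : V₁ ⟶ V₂) (t : F.obj.obj (op V₂)) :
    unitSec f F V₁ (F.obj.map a.op t) =
      ((EtCoh.pull f).obj F).obj.map ((EtCoh.bc f).map a).op (unitSec f F V₂ t) :=
  NatTrans.naturality_apply ((EtCoh.pullPushAdj f).unit.app F).hom a.op t

theorem over_pull_const (U : Y.Etale) (M : AddCommGrpCat.{u + 1})
    (α : F.over U ≅ cS.{u + 1, u, u + 1} (Y.smallEtaleTopology.over U) M) :
    Nonempty (((EtCoh.pull f).obj F).over ((EtCoh.bc f).obj U) ≅
      cS.{u + 1, u, u + 1} (X.smallEtaleTopology.over ((EtCoh.bc f).obj U)) M) := by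
  let JX := X.smallEtaleTopology
  let JY := Y.smallEtaleTopology
  let E := (EtCoh.pull f).obj F
  let W := (EtCoh.bc f).obj U
  let γ : M →+ E.obj.obj (op W) := (unitSec f F U).comp (gen.{u + 1, u, u + 1} JY F U α)
  apply nonempty_iso_of_crit.{u + 1, u, u + 1} JX E W γ
  · intro Z z x h
    by_cases hZ : IsEmpty Z.left
    · right
      rw [mem_et_iff]
      intro p
      exact (hZ.false p).elim
    · left
      rw [not_isEmpty_iff] at hZ
      obtain ⟨p⟩ := hZ
      obtain ⟨U', h', q, hq0, -⟩ := LimLoc.exists_local_vanish f F U (gen.{u + 1, u, u + 1} JY F U α x) Z z h p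
      have h1 : F.obj.map h'.op (gen.{u + 1, u, u + 1} JY F U α x) = F.obj.map h'.op (gen.{u + 1, u, u + 1} JY F U α 0) := by
        rw [hq0, map_zero, map_zero]
      rcases gen_inj.{u + 1, u, u + 1} JY F U α h' x 0 h1 with h2 | h2
      · exact h2
      · exfalso
        rw [mem_et_iff] at h2
        obtain ⟨_, _, _, hb, -, -⟩ :=
          h2 ((pullback.fst U'.hom f : ((EtCoh.bc f).obj U').left ⟶ U'.left) q)
        exact hb
  · intro Z z s
    let S : Sieve Z :=
      { arrows := fun Z' k => ∃ m : M, E.obj.map k.op s = E.obj.map (k ≫ z).op (γ m)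
        downward_closed := by
          rintro Z₁ Z₂ k ⟨m, hm⟩ l
          refine ⟨m, ?_⟩
          rw [← map_map.{u + 1, u, u + 1} JX E l k s, hm, map_map, Category.assoc] }
    refine ⟨S, ?_, fun k hk => hk⟩
    let R : Sieve Z :=
      { arrows := fun T' g => ∃ (V : Y.Etale) (φ : T' ⟶ (EtCoh.bc f).obj V)
          (s' : F.obj.obj (op V)), E.obj.map g.op s = E.obj.map φ.op (unitSec f F V s')
        downward_closed := by
          rintro T₁ T₂ g ⟨V, φ, s', h⟩ l
          exact ⟨V, l ≫ φ, s', by rw [← map_map.{u + 1, u, u + 1} JX E l g s, h, map_map]⟩ }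
    have hR : R ∈ JX Z := by
      rw [mem_et_iff]
      intro p
      obtain ⟨T', g, p', hp', V, φ, s', h⟩ := LimLoc.exists_local_unit f F Z s p
      exact ⟨T', g, p', ⟨V, φ, s', h⟩, inferInstance, hp'⟩
    refine JX.transitive hR S ?_
    rintro T' g ⟨V, φ, s', hg⟩
    let P : Y.Etale := U ⨯ V
    let π₁ : P ⟶ U := prod.fst
    let π₂ : P ⟶ V := prod.snd
    let ψ : T' ⟶ (EtCoh.bc f).obj P :=
      prod.lift (g ≫ z) φ ≫ inv (prodComparison (EtCoh.bc f) U V)
    have hψ1 : ψ ≫ (EtCoh.bc f).map π₁ = g ≫ z := by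
      show (prod.lift (g ≫ z) φ ≫ inv (prodComparison (EtCoh.bc f) U V)) ≫
        (EtCoh.bc f).map prod.fst = g ≫ z
      rw [← prodComparison_fst, Category.assoc, IsIso.inv_hom_id_assoc, prod.lift_fst]
    have hψ2 : ψ ≫ (EtCoh.bc f).map π₂ = φ := by
      show (prod.lift (g ≫ z) φ ≫ inv (prodComparison (EtCoh.bc f) U V)) ≫
        (EtCoh.bc f).map prod.snd = φ
      rw [← prodComparison_snd, Category.assoc, IsIso.inv_hom_id_assoc, prod.lift_snd]
    obtain ⟨S', hS', hprop⟩ := gen_surj.{u + 1, u, u + 1} JY F U α π₁ (F.obj.map π₂.op s')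
    have hQ : (Sieve.functorPushforward (EtCoh.bc f) S').pullback ψ ∈ JX T' :=
      JX.pullback_stable ψ ((EtCoh.coverPreserving_bc f).cover_preserve hS')
    refine JX.superset_covering ?_ hQ
    rintro T'' k ⟨P', k', l, hk', hkl⟩
    obtain ⟨m, hm⟩ := hprop k' hk'
    refine ⟨m, ?_⟩
    have e1 : k ≫ φ = l ≫ (EtCoh.bc f).map (k' ≫ π₂) := by
      rw [← hψ2, ← Category.assoc, hkl, Category.assoc, ← Functor.map_comp]
    have e2 : (k ≫ g) ≫ z = l ≫ (EtCoh.bc f).map (k' ≫ π₁) := by
      rw [Functor.map_comp, ← Category.assoc l, ← hkl, Category.assoc, Category.assoc, hψ1]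
    calc E.obj.map (k ≫ g).op s = E.obj.map k.op (E.obj.map g.op s) := (map_map.{u + 1, u, u + 1} JX E k g s).symm
      _ = E.obj.map k.op (E.obj.map φ.op (unitSec f F V s')) := by rw [hg]
      _ = E.obj.map (k ≫ φ).op (unitSec f F V s') := map_map.{u + 1, u, u + 1} JX E k φ _
      _ = E.obj.map (l ≫ (EtCoh.bc f).map (k' ≫ π₂)).op (unitSec f F V s') := by rw [e1]
      _ = E.obj.map l.op (unitSec f F P' (F.obj.map (k' ≫ π₂).op s')) := by
            rw [← map_map.{u + 1, u, u + 1} JX E l _ _, ← unitSec_map]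
      _ = E.obj.map l.op (unitSec f F P' (F.obj.map (k' ≫ π₁).op (gen.{u + 1, u, u + 1} JY F U α m))) := by
            rw [← map_map.{u + 1, u, u + 1} JY F k' π₂ s', hm]
      _ = E.obj.map (l ≫ (EtCoh.bc f).map (k' ≫ π₁)).op (unitSec f F U (gen.{u + 1, u, u + 1} JY F U α m)) := by
            rw [unitSec_map, map_map]
      _ = E.obj.map ((k ≫ g) ≫ z).op (γ m) := by rw [e2]; rfl

/-- finite locally constant sheaves are stable under inverse image. -/
theorem flc_pull (hF : EtCoh.IsFiniteLocallyConstant F) :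
    EtCoh.IsFiniteLocallyConstant ((EtCoh.pull f).obj F) := by
  obtain ⟨ι, U, hU, hα⟩ := hF
  refine ⟨ι, fun i => (EtCoh.bc f).obj (U i), ?_, fun i => ?_⟩
  · intro x
    obtain ⟨i, y, hy⟩ := hU (f.base x)
    obtain ⟨z, -, hz2⟩ := Scheme.Pullback.exists_preimage_pullback (f := (U i).hom) (g := f) y x hy
    exact ⟨i, z, hz2⟩
  · obtain ⟨M, iM, fM, ⟨α⟩⟩ := hα i
    exact ⟨M, iM, fM, over_pull_const f F (U i) _ α⟩

end H9FE.CsPull
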