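import Mathlib
import Groth.Agent.Lib.Helper7.StrictSections
import Groth.Agent.Lib.Helper7.Hensel.Integral
import Groth.Agent.Lib.Helper7.Hensel.Iff

/-! helper9: sections of étale algebras near a prime that is both minimal and has separably
closed residue field (spreading out from the local ring); zero-dimensional rings are π-regular. -/

set_option autoImplicit false
universe u

namespace H9FE
set_option linter.style.haveILetI false

open Groth.Agent.Helper7.Hensel

/-- kernel of `Away b → Rp` is killed by elements outside `p` -/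
theorem away_kernel_killed {A : Type u} [CommRing A] (p : Ideal A) [p.IsPrime]
    (Rp : Type u) [CommRing Rp] [Algebra A Rp] [IsLocalization.AtPrime Rp p]
    (b : A) (lam : Localization.Away b →ₐ[A] Rp) (z : Localization.Away b) (hz : lam z = 0) :
    ∃ t ∈ p.primeCompl, algebraMap A (Localization.Away b) t * z = 0 := by
  obtain ⟨c, s, rfl⟩ := IsLocalization.exists_mk'_eq (Submonoid.powers b) z
  have h1 : algebraMap A Rp c = 0 := by
    have h2 : algebraMap A (Localization.Away b) (s : A) *
        IsLocalization.mk' (Localization.Away b) c s = algebraMap A _ c := by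
      rw [mul_comm]; exact IsLocalization.mk'_spec _ _ _
    have h3 := congrArg lam h2
    rw [map_mul, hz, mul_zero, AlgHom.commutes] at h3
    exact h3.symm
  obtain ⟨m, hm⟩ := (IsLocalization.map_eq_zero_iff p.primeCompl Rp c).mp h1
  refine ⟨m, m.2, ?_⟩
  rw [IsLocalization.mul_mk'_eq_mk'_of_mul, hm, IsLocalization.mk'_zero]

/-- spreading out an algebra map into the localization at a prime to a basic open -/
theorem exists_away_algHom {A : Type u} [CommRing A] (p : Ideal A) [p.IsPrime]
    (Rp : Type u) [CommRing Rp] [Algebra A Rp] [IsLocalization.AtPrime Rp p]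
    (B : Type u) [CommRing B] [Algebra A B] [Algebra.FinitePresentation A B]
    (σ : B →ₐ[A] Rp) : ∃ f ∉ p, Nonempty (B →ₐ[A] Localization.Away f) := by
  classical
  obtain ⟨n, π, hπ, hker⟩ := Algebra.FinitePresentation.out (R := A) (A := B)
  let x : Fin n → Rp := fun i => σ (π (MvPolynomial.X i))
  obtain ⟨b, hb⟩ := IsLocalization.exist_integer_multiples_of_finite p.primeCompl x
  choose a ha using hb
  have hbunit : IsUnit (algebraMap A Rp (b : A)) :=
    IsLocalization.map_units Rp b
  let τ0 : MvPolynomial (Fin n) A →ₐ[A] Localization.Away (b : A) :=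
    MvPolynomial.aeval (fun i => IsLocalization.mk' _ (a i)
      (⟨(b : A), Submonoid.mem_powers _⟩ : Submonoid.powers (b : A)))
  have hunits : ∀ y : Submonoid.powers (b : A), IsUnit ((Algebra.ofId A Rp) (y : A)) := by
    rintro ⟨_, k, rfl⟩
    simp only [Algebra.ofId_apply, map_pow]
    exact hbunit.pow k
  let lam : Localization.Away (b : A) →ₐ[A] Rp := IsLocalization.liftAlgHom hunits
  have hlam : lam.comp τ0 = σ.comp π := by
    apply MvPolynomial.algHom_ext
    intro i
    simp only [AlgHom.comp_apply, τ0, MvPolynomial.aeval_X]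
    apply hbunit.mul_left_cancel
    have h1 : algebraMap A Rp (b : A) * lam (IsLocalization.mk' _ (a i)
        (⟨(b : A), Submonoid.mem_powers _⟩ : Submonoid.powers (b : A))) =
        algebraMap A Rp (a i) := by
      rw [← AlgHom.commutes lam, ← map_mul, mul_comm]
      have := IsLocalization.mk'_spec (Localization.Away (b : A)) (a i)
        (⟨(b : A), Submonoid.mem_powers _⟩ : Submonoid.powers (b : A))
      rw [this, AlgHom.commutes]
    rw [h1, ha i, Algebra.smul_def]
  obtain ⟨s, hs⟩ := hker
  have hkill : ∀ g ∈ s, ∃ t ∈ p.primeCompl,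
      algebraMap A (Localization.Away (b : A)) t * τ0 g = 0 := by
    intro g hg
    apply away_kernel_killed p Rp (b : A) lam
    have h1 : lam (τ0 g) = σ (π g) := AlgHom.congr_fun hlam g
    rw [h1]
    have : g ∈ RingHom.ker π.toRingHom := by rw [← hs]; exact Ideal.subset_span hg
    have h2 : π g = 0 := this
    rw [h2, map_zero]
  choose! t ht htz using hkill
  let T : A := ∏ g ∈ s, t g
  have hT : T ∈ p.primeCompl := Submonoid.prod_mem _ fun g hg => ht g hg
  have hTz : ∀ g ∈ s, algebraMap A (Localization.Away (b : A)) T * τ0 g = 0 := by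
    intro g hg
    obtain ⟨c, hc⟩ := Finset.dvd_prod_of_mem t hg
    change algebraMap A (Localization.Away (b : A)) (∏ g ∈ s, t g) * τ0 g = 0
    rw [hc, mul_comm (t g) c, map_mul, mul_assoc, htz g hg, mul_zero]
  let f : A := (b : A) * T
  have hf : f ∉ p := p.primeCompl.mul_mem b.2 hT
  have hfunit : IsUnit (algebraMap A (Localization.Away f) f) :=
    IsLocalization.Away.algebraMap_isUnit f
  have hbu : IsUnit (algebraMap A (Localization.Away f) (b : A)) := by
    rw [show f = (b : A) * T from rfl, map_mul] at hfunit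
    exact isUnit_of_mul_isUnit_left hfunit
  have hTu : IsUnit (algebraMap A (Localization.Away f) T) := by
    rw [show f = (b : A) * T from rfl, map_mul] at hfunit
    exact isUnit_of_mul_isUnit_right hfunit
  have hunits2 : ∀ y : Submonoid.powers (b : A),
      IsUnit ((Algebra.ofId A (Localization.Away f)) (y : A)) := by
    rintro ⟨_, k, rfl⟩
    simp only [Algebra.ofId_apply, map_pow]
    exact hbu.pow k
  let μ : Localization.Away (b : A) →ₐ[A] Localization.Away f := IsLocalization.liftAlgHom hunits2
  let τ1 : MvPolynomial (Fin n) A →ₐ[A] Localization.Away f := μ.comp τ0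
  have hτ1 : ∀ g ∈ RingHom.ker π.toRingHom, τ1 g = 0 := by
    intro g hg
    rw [← hs] at hg
    have hle : Ideal.span (s : Set (MvPolynomial (Fin n) A)) ≤ RingHom.ker τ1.toRingHom := by
      rw [Ideal.span_le]
      intro g hg
      change τ1 g = 0
      apply hTu.mul_left_cancel
      have h1 := congrArg μ (hTz g hg)
      rw [map_mul, AlgHom.commutes, map_zero] at h1
      rw [mul_zero]
      exact h1
    exact hle hg
  let τ2 : (MvPolynomial (Fin n) A ⧸ RingHom.ker π.toRingHom) →ₐ[A] Localization.Away f :=
    Ideal.Quotient.liftₐ _ τ1 hτ1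
  exact ⟨f, hf, ⟨τ2.comp (Ideal.quotientKerAlgEquivOfSurjective hπ).symm.toAlgHom⟩⟩

/-- a local ring whose non-units are nilpotent is henselian -/
theorem henselianLocalRing_of_nil (R : Type u) [CommRing R] [IsLocalRing R]
    (hnil : ∀ x : R, ¬ IsUnit x → IsNilpotent x) : HenselianLocalRing R := by
  have h0 : HenselianRing R ⊥ :=
    { jac := bot_le
      is_henselian := fun f _ a₀ h₁ _ => ⟨a₀, by simpa using h₁, by simp⟩ }
  have hG : Gabber R (IsLocalRing.maximalIdeal R) := by
    refine (Gabber.of_henselianRing h0).of_le_of_nil bot_le fun x hx => ?_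
    obtain ⟨n, hn⟩ := hnil x ((IsLocalRing.mem_maximalIdeal x).mp hx)
    exact ⟨n, by simp [hn]⟩
  have hH := hG.henselianRing
  constructor
  intro f hf a₀ h₁ h₂
  exact hH.is_henselian f hf a₀ h₁ (h₂.map _)

open TensorProduct in
/-- étale algebras have sections over a basic open neighbourhood of a prime `p` whose local ring
is strictly henselian with nil maximal ideal, provided some prime lies over `p` -/
theorem exists_away_section {A : Type u} [CommRing A] (p : Ideal A) [p.IsPrime]
    (Rp : Type u) [CommRing Rp] [Algebra A Rp] [IsLocalization.AtPrime Rp p] [IsLocalRing Rp]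
    (hnil : ∀ x : Rp, ¬ IsUnit x → IsNilpotent x)
    [IsSepClosed (IsLocalRing.ResidueField Rp)]
    (B : Type u) [CommRing B] [Algebra A B] [Algebra.Etale A B] (q : Ideal B) [q.IsPrime]
    (hq : q.comap (algebraMap A B) = p) :
    ∃ f ∉ p, Nonempty (B →ₐ[A] Localization.Away f) := by
  haveI : HenselianLocalRing Rp := henselianLocalRing_of_nil Rp hnil
  let C := Rp ⊗[A] B
  -- C is nontrivial: it maps to the residue field of q
  let κ := q.ResidueField
  have hunits : ∀ y : p.primeCompl, IsUnit ((Algebra.ofId A κ) (y : A)) := by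
    intro y
    rw [Algebra.ofId_apply, IsScalarTower.algebraMap_apply A B κ, isUnit_iff_ne_zero, ne_eq,
      Ideal.algebraMap_residueField_eq_zero]
    intro hy
    have : (y : A) ∈ q.comap (algebraMap A B) := hy
    rw [hq] at this
    exact y.2 this
  let φ1 : Rp →ₐ[A] κ := IsLocalization.liftAlgHom hunits
  let φ2 : B →ₐ[A] κ := IsScalarTower.toAlgHom A B κ
  let φ : C →ₐ[A] κ := Algebra.TensorProduct.lift φ1 φ2 (fun _ _ => mul_comm _ _)
  haveI : Nontrivial C := φ.toRingHom.domain_nontrivial
  obtain ⟨m, hm⟩ := Ideal.exists_maximal C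
  haveI : m.IsPrime := hm.isPrime
  have hcomap : m.comap (algebraMap Rp C) = IsLocalRing.maximalIdeal Rp := by
    apply le_antisymm
    · exact IsLocalRing.le_maximalIdeal (Ideal.comap_ne_top _ hm.ne_top)
    · intro x hx
      obtain ⟨n, hn⟩ := hnil x ((IsLocalRing.mem_maximalIdeal x).mp hx)
      have : x ^ n ∈ m.comap (algebraMap Rp C) := by rw [hn]; exact Ideal.zero_mem _
      exact (Ideal.IsPrime.comap (algebraMap Rp C)).mem_of_pow_mem n this
  obtain ⟨τ', -⟩ := Groth.Agent.Helper7.StrictSections.exists_algHom_comap_eq Rp C m hcomap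
  let σ : B →ₐ[A] Rp := (τ'.restrictScalars A).comp Algebra.TensorProduct.includeRight
  exact exists_away_algHom p Rp B σ

/-- in a ring all of whose primes are maximal, every element is π-regular -/
theorem exists_pow_mul_eq_zero_of_primes_maximal {A : Type u} [CommRing A]
    (hmax : ∀ P : Ideal A, P.IsPrime → P.IsMaximal) (f : A) :
    ∃ (n : ℕ) (a : A), f ^ n * (1 + f * a) = 0 := by
  let N : Submonoid A :=
    { carrier := {x | ∃ a, x = 1 + f * a}
      one_mem' := ⟨0, by simp⟩
      mul_mem' := by
        rintro _ _ ⟨a, rfl⟩ ⟨b, rfl⟩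
        exact ⟨a + b + f * a * b, by ring⟩ }
  let M : Submonoid A := Submonoid.powers f ⊔ N
  by_cases h0 : (0 : A) ∈ M
  · obtain ⟨y, ⟨n, rfl⟩, z, ⟨a, rfl⟩, hyz⟩ := Submonoid.mem_sup.mp h0
    exact ⟨n, a, hyz⟩
  · exfalso
    have hdisj : Disjoint ((⊥ : Ideal A) : Set A) (M : Set A) := by
      rw [Set.disjoint_left]
      intro x hx hxM
      have : x = 0 := hx
      exact h0 (this ▸ hxM)
    obtain ⟨P, hP, -, hPM⟩ := Ideal.exists_le_prime_disjoint ⊥ M hdisj
    haveI := hmax P hP
    have hfP : f ∉ P := fun hf =>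
      Set.disjoint_left.mp hPM hf (Submonoid.mem_sup_left (Submonoid.mem_powers f))
    obtain ⟨y, i, hi, hyi⟩ := Ideal.IsMaximal.exists_inv (hmax P hP) hfP
    have h1 : 1 + f * (-y) ∈ P := by
      have : 1 + f * (-y) = i := by rw [← hyi]; ring
      rw [this]; exact hi
    exact Set.disjoint_left.mp hPM h1 (Submonoid.mem_sup_right ⟨-y, rfl⟩)

end H9FE
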