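import Mathlib
import Groth.Prelude.Def_EtCore
import Groth.Agent.S14453
import Groth.Agent.S0088

/-! helper9: criterion for the unit `const_X A ⟶ g_* g^* const_X A` of étale sheaves to be an iso. -/

universe u
open CategoryTheory CategoryTheory.Limits AlgebraicGeometry Opposite

namespace H9FE
namespace ConstUnit

set_option backward.isDefEq.respectTransparency false
set_option linter.style.haveILetI false
set_option linter.unusedSectionVars false

variable {X Y : Scheme.{u}} (g : Y ⟶ X) (A : AddCommGrpCat.{u+1})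

/-- constant presheaf -/
noncomputable abbrev cP (X : Scheme.{u}) (A : AddCommGrpCat.{u+1}) :
    X.Etaleᵒᵖ ⥤ AddCommGrpCat.{u+1} := (Functor.const _).obj A

/-- constant sheaf -/
noncomputable abbrev cS (X : Scheme.{u}) (A : AddCommGrpCat.{u+1}) : EtCoh.Ab X :=
  (constantSheaf X.smallEtaleTopology AddCommGrpCat.{u+1}).obj A

/-- the comparison map `const_X A ⟶ g_* const_Y A` -/
noncomputable def cmap : cS X A ⟶ (EtCoh.push g).obj (cS Y A) :=
  (EtCoh.pullPushAdj g).unit.app _ ≫ (EtCoh.push g).map ((EtCore.pullConstIso g).hom.app A)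

theorem constAdj_unit (a : A) :
    (EtCore.constAdj X).unit.app A a =
      (toSheafify X.smallEtaleTopology (cP X A)).app (op (EtCoh.top X)) a := by
  simp [EtCore.constAdj, constantSheafAdj, Adjunction.comp_unit_app, constantPresheafAdj]
  rfl

theorem star :
    (EtCore.constAdj X).unit.app A ≫ (EtCore.gsec X).map (cmap g A) ≫
      (EtCore.pushGsecIso g).hom.app (cS Y A) = (EtCore.constAdj Y).unit.app A := by
  have h := Adjunction.unit_leftAdjointUniq_hom_app
    (((EtCore.constAdj X).comp (EtCoh.pullPushAdj g)).ofNatIsoRight (EtCore.pushGsecIso g))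
    (EtCore.constAdj Y) A
  rw [← h]
  simp only [Adjunction.ofNatIsoRight_unit, NatTrans.comp_app, Adjunction.comp_unit_app,
    Functor.whiskerLeft_app, Category.assoc, cmap, Functor.map_comp]
  congr 2
  exact ((EtCore.pushGsecIso g).hom.naturality ((EtCore.pullConstIso g).hom.app A))

/-- the presheaf-level comparison map -/
noncomputable def phi : cP X A ⟶ ((EtCoh.push g).obj (cS Y A)).obj :=
  toSheafify X.smallEtaleTopology (cP X A) ≫ (cmap g A).hom

theorem toSheafify_map {V W : Y.Etale} (i : W ⟶ V) (a : A) :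
    (cS Y A).obj.map i.op ((toSheafify Y.smallEtaleTopology (cP Y A)).app (op V) a) =
      (toSheafify Y.smallEtaleTopology (cP Y A)).app (op W) a := by
  have h := NatTrans.naturality_apply (toSheafify Y.smallEtaleTopology (cP Y A)) i.op a
  exact h.symm

theorem phi_top (a : A) :
    (phi g A).app (op (EtCoh.top X)) a =
      (toSheafify Y.smallEtaleTopology (cP Y A)).app (op ((EtCoh.bc g).obj (EtCoh.top X))) a := by
  have h := congrArg (fun f => f a) (congrArg (fun f => (ConcreteCategory.hom f : A → _)) (star g A))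
  simp only [ConcreteCategory.comp_apply] at h
  rw [constAdj_unit] at h
  replace h := h.trans (constAdj_unit (X := Y) A a)
  have h2 : (phi g A).app (op (EtCoh.top X)) a =
      (cS Y A).obj.map (EtCore.bcTopIso g).hom.op
        ((cS Y A).obj.map (EtCore.bcTopIso g).inv.op ((phi g A).app (op (EtCoh.top X)) a)) := by
    rw [← ConcreteCategory.comp_apply, ← Functor.map_comp, ← op_comp, Iso.hom_inv_id]
    simp
  rw [h2]
  have h3 : (cS Y A).obj.map (EtCore.bcTopIso g).inv.op ((phi g A).app (op (EtCoh.top X)) a) =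
      (toSheafify Y.smallEtaleTopology (cP Y A)).app (op (EtCoh.top Y)) a := h
  rw [h3, toSheafify_map]

theorem phi_app (V : X.Etale) (a : A) :
    (phi g A).app (op V) a =
      (toSheafify Y.smallEtaleTopology (cP Y A)).app (op ((EtCoh.bc g).obj V)) a := by
  let t : V ⟶ EtCoh.top X := (EtCore.topIsTerminal X).from V
  have h := NatTrans.naturality_apply (phi g A) t.op a
  have h1 : (cP X A).map t.op a = a := rfl
  rw [h1] at h
  rw [h, phi_top]
  exact toSheafify_map A ((EtCoh.bc g).map t) a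

theorem isIso_unit_of_W (hW : X.smallEtaleTopology.W (phi g A)) :
    IsIso ((EtCoh.pullPushAdj g).unit.app (cS X A)) := by
  let J := X.smallEtaleTopology
  let adjS := sheafificationAdjunction J AddCommGrpCat.{u+1}
  haveI : IsIso ((presheafToSheaf J AddCommGrpCat.{u+1}).map (phi g A)) := (J.W_iff _).mp hW
  have h0 : phi g A = adjS.homEquiv _ _ (cmap g A) := by
    rw [Adjunction.homEquiv_unit]; rfl
  have h1 : cmap g A = (presheafToSheaf J AddCommGrpCat.{u+1}).map (phi g A) ≫
      adjS.counit.app ((EtCoh.push g).obj (cS Y A)) := by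
    rw [h0]
    exact ((adjS.homEquiv _ _).symm_apply_apply (cmap g A)).symm.trans
      (Adjunction.homEquiv_counit adjS _ _ _)
  haveI : IsIso (cmap g A) := by rw [h1]; infer_instance
  haveI h3 : IsIso ((EtCoh.pullPushAdj g).unit.app (cS X A) ≫
      (EtCoh.push g).map ((EtCore.pullConstIso g).hom.app A)) := this
  exact IsIso.of_isIso_comp_right ((EtCoh.pullPushAdj g).unit.app (cS X A))
    ((EtCoh.push g).map ((EtCore.pullConstIso g).hom.app A))

open Groth.Agent.S14453.Aux Groth.Agent.S0088.Aux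

section Yside
variable (Y : Scheme.{u}) (A : AddCommGrpCat.{u+1})

theorem isSheaf_type : Presieve.IsSheaf Y.smallEtaleTopology ((cS Y A).obj ⋙ forget _) :=
  (isSheaf_iff_isSheaf_of_type _ _).1
    (Presheaf.isSheaf_comp_of_isSheaf _ (cS Y A).obj (forget _) (cS Y A).2)

theorem ts_injective (V : Y.Etale) [Nonempty V.left] (a b : A)
    (hab : (toSheafify Y.smallEtaleTopology (cP Y A)).app (op V) a =
      (toSheafify Y.smallEtaleTopology (cP Y A)).app (op V) b) : a = b := by
  have hW := Y.smallEtaleTopology.W_toSheafify (cP Y A)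
  haveI := hW.isLocallyInjective
  have hmem := Presheaf.equalizerSieve_mem Y.smallEtaleTopology
    (toSheafify Y.smallEtaleTopology (cP Y A)) (X := op V) a b hab
  rw [mem_et_iff] at hmem
  obtain ⟨W, f, y, hf, -, -⟩ := hmem (Classical.arbitrary V.left)
  exact hf

theorem ts_eq_of_isEmpty (V : Y.Etale) [IsEmpty V.left] (s t : (cS Y A).obj.obj (op V)) : s = t := by
  haveI := subsingleton_of_isEmpty ((cS Y A).obj ⋙ forget _) (isSheaf_type Y A) V
  exact Subsingleton.elim (α := ((cS Y A).obj ⋙ forget _).obj (op V)) s t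

/-- the fibre product of two étale objects over a third, as an étale object -/
noncomputable def prodObj {V T₀ T₁ : Y.Etale} (t₀ : T₀ ⟶ V) (t₁ : T₁ ⟶ V) : Y.Etale :=
  Scheme.Etale.mk (pullback.fst t₀.left t₁.left ≫ T₀.hom)

noncomputable def prodFst {V T₀ T₁ : Y.Etale} (t₀ : T₀ ⟶ V) (t₁ : T₁ ⟶ V) :
    prodObj Y t₀ t₁ ⟶ T₀ :=
  MorphismProperty.Over.homMk (pullback.fst t₀.left t₁.left) rfl

noncomputable def prodSnd {V T₀ T₁ : Y.Etale} (t₀ : T₀ ⟶ V) (t₁ : T₁ ⟶ V) :
    prodObj Y t₀ t₁ ⟶ T₁ :=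
  MorphismProperty.Over.homMk (pullback.snd t₀.left t₁.left) (by
    show pullback.snd t₀.left t₁.left ≫ T₁.hom = pullback.fst t₀.left t₁.left ≫ T₀.hom
    have h0 : t₀.left ≫ V.hom = T₀.hom := by simp
    have h1 : t₁.left ≫ V.hom = T₁.hom := by simp
    rw [← h0, ← h1, ← Category.assoc, ← Category.assoc, pullback.condition])

theorem prod_condition {V T₀ T₁ : Y.Etale} (t₀ : T₀ ⟶ V) (t₁ : T₁ ⟶ V) :
    prodFst Y t₀ t₁ ≫ t₀ = prodSnd Y t₀ t₁ ≫ t₁ := by
  apply MorphismProperty.Over.Hom.ext
  exact pullback.condition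

theorem ts_surjective (V : Y.Etale) [PreirreducibleSpace V.left] (s : (cS Y A).obj.obj (op V)) :
    ∃ a : A, (toSheafify Y.smallEtaleTopology (cP Y A)).app (op V) a = s := by
  by_cases hne : Nonempty V.left
  swap
  · rw [not_nonempty_iff] at hne
    exact ⟨0, ts_eq_of_isEmpty Y A V _ _⟩
  have hW := Y.smallEtaleTopology.W_toSheafify (cP Y A)
  haveI := hW.isLocallySurjective
  have hmem := Presheaf.imageSieve_mem Y.smallEtaleTopology
    (toSheafify Y.smallEtaleTopology (cP Y A)) s
  have hmem' := hmem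
  rw [mem_et_iff] at hmem'
  obtain ⟨T₀, t₀, y₀, ⟨a₀, ha₀⟩, -, -⟩ := hmem' (Classical.arbitrary V.left)
  refine ⟨a₀, ?_⟩
  refine ((isSheaf_type Y A) _ hmem).isSeparatedFor.ext ?_
  intro T₁ t₁ ht₁
  obtain ⟨a₁, ha₁⟩ := ht₁
  change (cS Y A).obj.map t₁.op ((toSheafify Y.smallEtaleTopology (cP Y A)).app (op V) a₀) =
    (cS Y A).obj.map t₁.op s
  refine (toSheafify_map A t₁ a₀).trans (Eq.trans ?_ ha₁)
  by_cases hT₁ : Nonempty T₁.left
  swap
  · rw [not_nonempty_iff] at hT₁
    exact ts_eq_of_isEmpty Y A T₁ _ _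
  congr 1
  -- the images of `T₀` and `T₁` meet
  obtain ⟨y₁⟩ := hT₁
  have ho₀ : IsOpen (Set.range t₀.left) := t₀.left.isOpenMap.isOpen_range
  have ho₁ : IsOpen (Set.range t₁.left) := t₁.left.isOpenMap.isOpen_range
  obtain ⟨v, ⟨z₀, hz₀⟩, ⟨z₁, hz₁⟩⟩ := nonempty_preirreducible_inter ho₀ ho₁
    ⟨_, y₀, rfl⟩ ⟨_, y₁, rfl⟩
  obtain ⟨z, hz, -⟩ := Scheme.Pullback.exists_preimage_pullback (f := t₀.left) (g := t₁.left)
    z₀ z₁ (hz₀.trans hz₁.symm)
  haveI : Nonempty (prodObj Y t₀ t₁).left := ⟨z⟩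
  apply ts_injective Y A (prodObj Y t₀ t₁)
  have e₀ := toSheafify_map A (prodFst Y t₀ t₁) a₀
  have e₁ := toSheafify_map A (prodSnd Y t₀ t₁) a₁
  have e₀' : (cS Y A).obj.map (prodFst Y t₀ t₁).op ((cS Y A).obj.map t₀.op s) =
      (toSheafify Y.smallEtaleTopology (cP Y A)).app (op (prodObj Y t₀ t₁)) a₀ := by
    rw [← e₀]; exact congrArg _ ha₀.symm
  have e₁' : (cS Y A).obj.map (prodSnd Y t₀ t₁).op ((cS Y A).obj.map t₁.op s) =
      (toSheafify Y.smallEtaleTopology (cP Y A)).app (op (prodObj Y t₀ t₁)) a₁ := by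
    rw [← e₁]; exact congrArg _ ha₁.symm
  rw [← e₀', ← e₁']
  rw [← ConcreteCategory.comp_apply, ← ConcreteCategory.comp_apply, ← Functor.map_comp,
    ← Functor.map_comp, ← op_comp, ← op_comp, prod_condition]

end Yside

theorem isIso_unit_of_criterion
    (H1 : ∀ V : X.Etale, Nonempty V.left → Nonempty ((EtCoh.bc g).obj V).left)
    (H2 : ∀ (V : X.Etale) (v : V.left), ∃ (W : X.Etale) (i : W ⟶ V), v ∈ Set.range i.left ∧
        PreirreducibleSpace ((EtCoh.bc g).obj W).left) :
    IsIso ((EtCoh.pullPushAdj g).unit.app (cS X A)) := by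
  apply isIso_unit_of_W
  haveI : Presheaf.IsLocallyInjective X.smallEtaleTopology (phi g A) := by
    constructor
    intro V a b hab
    by_cases hV : Nonempty V.unop.left
    · haveI := H1 V.unop hV
      have hab' : (phi g A).app (op V.unop) a = (phi g A).app (op V.unop) b := hab
      rw [phi_app, phi_app] at hab'
      have : a = b := ts_injective Y A _ a b hab'
      subst this
      rw [Presheaf.equalizerSieve_self_eq_top]
      exact X.smallEtaleTopology.top_mem _
    · rw [not_nonempty_iff] at hV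
      rw [mem_et_iff]
      intro x
      exact isEmptyElim x
  haveI : Presheaf.IsLocallySurjective X.smallEtaleTopology (phi g A) := by
    constructor
    intro V s
    rw [mem_et_iff]
    intro v
    obtain ⟨W, i, ⟨w, hw⟩, hirr⟩ := H2 V v
    refine ⟨W, i, w, ?_, inferInstance, hw⟩
    obtain ⟨a, ha⟩ := ts_surjective Y A ((EtCoh.bc g).obj W)
      (((EtCoh.push g).obj (cS Y A)).obj.map i.op s)
    exact ⟨a, (phi_app g A W a).trans ha⟩
  exact X.smallEtaleTopology.W_of_isLocallyBijective _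

end ConstUnit
end H9FE
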