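import Mathlib
import Groth.Prelude.Def_EtBase
import Groth.Prelude.Def_EtCore
import Groth.Prelude.Def_PBC
import Groth.Agent.Lib.Helper9.FE.CsPull
import Groth.Agent.S0101
import Groth.Agent.S6645

/-! helper9: finite stratifications of a subset of a scheme by immersions whose strata satisfy a
property of morphisms (`Strat`), the comparison with `EtPBC.AdaptedStrata`, common refinements, and
the stability of finite local constancy under composition of inverse images. -/

set_option autoImplicit false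
set_option linter.unusedSectionVars false
set_option linter.style.haveILetI false
set_option backward.isDefEq.respectTransparency false
universe u
open CategoryTheory CategoryTheory.Limits AlgebraicGeometry Opposite

namespace H9FE.CsStrata

variable {X : Scheme.{u}}

/-- finite local constancy is invariant under isomorphism -/
theorem flc_of_iso {F G : EtCoh.Ab X} (e : F ≅ G) (hF : EtCoh.IsFiniteLocallyConstant F) :
    EtCoh.IsFiniteLocallyConstant G := by
  obtain ⟨ι, U, hU, h⟩ := hF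
  refine ⟨ι, U, hU, fun i => ?_⟩
  obtain ⟨M, i1, i2, ⟨α⟩⟩ := h i
  exact ⟨M, i1, i2,
    ⟨(X.smallEtaleTopology.overPullback AddCommGrpCat.{u + 1} (U i)).mapIso e.symm ≪≫ α⟩⟩

/-- the property of a morphism `g` into `X` that `g⁻¹ F` is finite locally constant -/
def flcP (F : EtCoh.Ab X) : ∀ ⦃T : Scheme.{u}⦄, (T ⟶ X) → Prop :=
  fun _ g => EtCoh.IsFiniteLocallyConstant ((EtCoh.pull g).obj F)

theorem flcP_comp (F : EtCoh.Ab X) ⦃T' T : Scheme.{u}⦄ (k : T' ⟶ T) (g : T ⟶ X)
    (h : flcP F g) : flcP F (k ≫ g) :=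
  flc_of_iso ((EtCore.pullComp k g).app F).symm (CsPull.flc_pull k _ h)

theorem flcP_pull_iff {Y : Scheme.{u}} (j : Y ⟶ X) (F : EtCoh.Ab X) ⦃T : Scheme.{u}⦄
    (g : T ⟶ Y) : flcP ((EtCoh.pull j).obj F) g ↔ flcP F (g ≫ j) :=
  ⟨flc_of_iso ((EtCore.pullComp g j).app F).symm, flc_of_iso ((EtCore.pullComp g j).app F)⟩

/-- properties of morphisms with target `X` -/
abbrev MorProp (X : Scheme.{u}) : Type (u + 1) := ∀ ⦃T : Scheme.{u}⦄, (T ⟶ X) → Prop

/-- stability under precomposition -/
def MorProp.Stable (P : MorProp X) : Prop :=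
  ∀ ⦃T' T : Scheme.{u}⦄ (k : T' ⟶ T) (g : T ⟶ X), P g → P (k ≫ g)

theorem flcP_stable (F : EtCoh.Ab X) : MorProp.Stable (flcP F) := flcP_comp F

/-- a finite stratification of `S` by immersions whose strata satisfy `P` -/
def Strat (S : Set X) (P : MorProp X) : Prop :=
  ∃ (ι : Type) (_ : Finite ι) (T : ι → Scheme.{u}) (g : ∀ i, T i ⟶ X),
    (∀ i, IsImmersion (g i)) ∧
    (∀ i, Topology.IsConstructible ((Subtype.val : S → X) ⁻¹' Set.range (g i))) ∧
    Pairwise (fun i j => Disjoint (Set.range (g i)) (Set.range (g j))) ∧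
    (⋃ i, Set.range (g i)) = S ∧ ∀ i, P (g i)

theorem adapted_iff (F : EtCoh.Ab X) (S : Set X) :
    EtPBC.AdaptedStrata F S ↔ Strat S (flcP F) := by
  constructor
  · rintro ⟨n, T, g, h1, h2, h3, h4, h5⟩
    exact ⟨Fin n, inferInstance, T, g, h1, h2, h3, h4, fun i => h5 i⟩
  · rintro ⟨ι, hι, T, g, h1, h2, h3, h4, h5⟩
    obtain ⟨n, ⟨e⟩⟩ := Finite.exists_equiv_fin ι
    refine ⟨n, fun k => T (e.symm k), fun k => g (e.symm k), fun k => h1 _, fun k => h2 _,
      ?_, ?_, fun k _ => h5 _⟩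
    · intro k k' hkk'
      exact h3 (fun h => hkk' (e.symm.injective h))
    · rw [← h4]
      exact e.symm.surjective.iUnion_comp (fun i => Set.range (g i))

theorem Strat.mono {S : Set X} {P Q : MorProp X} (h : ∀ ⦃T : Scheme.{u}⦄ (g : T ⟶ X), P g → Q g)
    (hS : Strat S P) : Strat S Q := by
  obtain ⟨ι, hι, T, g, h1, h2, h3, h4, h5⟩ := hS
  exact ⟨ι, hι, T, g, h1, h2, h3, h4, fun i => h _ (h5 i)⟩

theorem range_comp {A B C : Scheme.{u}} (f : A ⟶ B) (g : B ⟶ C) :
    Set.range (f ≫ g) = g '' Set.range f := by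
  ext x
  constructor
  · rintro ⟨y, rfl⟩
    exact ⟨f y, ⟨y, rfl⟩, rfl⟩
  · rintro ⟨_, ⟨y, rfl⟩, rfl⟩
    exact ⟨y, rfl⟩

theorem range_fst_comp {A B C : Scheme.{u}} (f : A ⟶ C) (g : B ⟶ C) :
    Set.range (pullback.fst f g ≫ f) = Set.range f ∩ Set.range g := by
  rw [range_comp, Scheme.Pullback.range_fst, Set.image_preimage_eq_inter_range, Set.inter_comm]

/-- common refinement of two stratifications -/
theorem Strat.inter {S : Set X} {P Q : MorProp X} (hP : P.Stable) (hQ : Q.Stable)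
    (h1 : Strat S P) (h2 : Strat S Q) : Strat S (fun _ g => P g ∧ Q g) := by
  obtain ⟨ι, hι, T, g, a1, a2, a3, a4, a5⟩ := h1
  obtain ⟨ι', hι', T', g', b1, b2, b3, b4, b5⟩ := h2
  have hr : ∀ p : ι × ι', Set.range (pullback.fst (g p.1) (g' p.2) ≫ g p.1) =
      Set.range (g p.1) ∩ Set.range (g' p.2) := fun p => range_fst_comp _ _
  refine ⟨ι × ι', inferInstance, fun p => pullback (g p.1) (g' p.2),
    fun p => pullback.fst (g p.1) (g' p.2) ≫ g p.1, fun p => ?_, fun p => ?_, ?_, ?_, fun p => ?_⟩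
  · haveI := a1 p.1
    haveI := b1 p.2
    infer_instance
  · rw [hr, Set.preimage_inter]
    exact (a2 _).inter (b2 _)
  · intro p q hpq
    show Disjoint (Set.range (pullback.fst (g p.1) (g' p.2) ≫ g p.1))
      (Set.range (pullback.fst (g q.1) (g' q.2) ≫ g q.1))
    rw [hr, hr]
    by_cases h : p.1 = q.1
    · have h' : p.2 ≠ q.2 := fun h' => hpq (Prod.ext h h')
      exact (b3 h').mono Set.inter_subset_right Set.inter_subset_right
    · exact (a3 h).mono Set.inter_subset_left Set.inter_subset_left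
  · ext x
    simp only [hr, Set.mem_iUnion, Set.mem_inter_iff]
    constructor
    · rintro ⟨p, hx, -⟩
      rw [← a4]
      exact Set.mem_iUnion.2 ⟨p.1, hx⟩
    · intro hx
      have hx1 := hx
      rw [← a4] at hx1
      rw [← b4] at hx
      obtain ⟨i, hi⟩ := Set.mem_iUnion.1 hx1
      obtain ⟨j, hj⟩ := Set.mem_iUnion.1 hx
      exact ⟨(i, j), hi, hj⟩
  · refine ⟨hP _ _ (a5 _), ?_⟩
    show Q (pullback.fst (g p.1) (g' p.2) ≫ g p.1)
    rw [pullback.condition]
    exact hQ _ _ (b5 _)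

/-- a closed subset is the range of a closed immersion -/
theorem exists_closedImmersion_of_isClosed (T : Scheme.{u}) (Z : Set T) (hZ : IsClosed Z) :
    ∃ (T' : Scheme.{u}) (k : T' ⟶ T), IsClosedImmersion k ∧ Set.range k = Z :=
  ⟨_, (Scheme.IdealSheafData.vanishingIdeal ⟨Z, hZ⟩).subschemeι, inferInstance, by
    rw [Scheme.IdealSheafData.range_subschemeι, Scheme.IdealSheafData.coe_support_vanishingIdeal]
    rfl⟩

theorem constructible_kernel_cokernel {F G : EtCoh.Ab X} (φ : F ⟶ G)
    (hF : EtPBC.IsConstructible F) (hG : EtPBC.IsConstructible G) :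
    EtPBC.IsConstructible (kernel φ) ∧ EtPBC.IsConstructible (cokernel φ) := by
  have key : ∀ U : X.Opens, IsAffineOpen U →
      Strat (U : Set X) (fun _ g => flcP (kernel φ) g ∧ flcP (cokernel φ) g) := by
    intro U hU
    have h1 := (adapted_iff F _).1 (hF U hU)
    have h2 := (adapted_iff G _).1 (hG U hU)
    refine (Strat.inter (flcP_stable F) (flcP_stable G) h1 h2).mono ?_
    rintro T g ⟨hf, hg⟩
    haveI := Groth.Agent.S0101.result g
    have := (Groth.Agent.S6645.result T).1 _ _ ((EtCoh.pull g).map φ) hf hg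
    exact ⟨flc_of_iso (PreservesKernel.iso (EtCoh.pull g) φ).symm this.1,
      flc_of_iso (PreservesCokernel.iso (EtCoh.pull g) φ).symm this.2⟩
  exact ⟨fun U hU => (adapted_iff _ _).2 ((key U hU).mono fun _ _ h => h.1),
    fun U hU => (adapted_iff _ _).2 ((key U hU).mono fun _ _ h => h.2)⟩

theorem constructible_extension (S : ShortComplex (EtCoh.Ab X)) (hS : S.ShortExact)
    (h1 : EtPBC.IsConstructible S.X₁) (h3 : EtPBC.IsConstructible S.X₃) :
    EtPBC.IsConstructible S.X₂ := by
  intro U hU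
  rw [adapted_iff]
  refine (Strat.inter (flcP_stable S.X₁) (flcP_stable S.X₃) ((adapted_iff _ _).1 (h1 U hU))
    ((adapted_iff _ _).1 (h3 U hU))).mono ?_
  rintro T g ⟨hf, hg⟩
  haveI := Groth.Agent.S0101.result g
  have hSe : (S.map (EtCoh.pull g)).ShortExact := hS.map_of_exact (EtCoh.pull g)
  haveI := (Groth.Agent.S6645.result T).2
  exact ObjectProperty.prop_X₂_of_shortExact _ hSe hf hg

end H9FE.CsStrata
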