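import Mathlib
import Groth.Agent.Lib.Helper9.FE.ProEtE1

/-! helper9: elements of left Kan extensions of presheaves of modules along a flat functor (module version of
`ProEtE1`). -/

set_option autoImplicit false
set_option linter.unusedSectionVars false
set_option linter.style.haveILetI false
universe u
open CategoryTheory Limits Opposite AlgebraicGeometry

namespace H9FE.ProEtM

section Lan

variable {Λ : Type (u + 1)} [CommRing Λ]
variable {C : Type (u + 1)} [Category.{u} C] {D : Type (u + 1)} [Category.{u} D] (B : C ⥤ D)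
  (F : Cᵒᵖ ⥤ ModuleCat.{u + 1} Λ)

/-- the class in the left Kan extension of a section `r` over `W`, pulled back along
`b : V ⟶ B W` -/
noncomputable def elt {V : D} {W : C} (b : V ⟶ B.obj W) (r : F.obj (op W)) :
    (B.op.lan.obj F).obj (op V) :=
  (B.op.lan.obj F).map b.op ((B.op.lanUnit.app F).app (op W) r)

lemma elt_id {W : C} (r : F.obj (op W)) :
    elt B F (𝟙 (B.obj W)) r = (B.op.lanUnit.app F).app (op W) r := by
  simp [elt]

lemma map_elt {V V' : D} {W : C} (c : V' ⟶ V) (b : V ⟶ B.obj W) (r : F.obj (op W)) :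
    (B.op.lan.obj F).map c.op (elt B F b r) = elt B F (c ≫ b) r := by
  simp only [elt, op_comp, Functor.map_comp, ConcreteCategory.comp_apply]

lemma elt_comp {V : D} {W W' : C} (b : V ⟶ B.obj W') (a : W' ⟶ W) (r : F.obj (op W)) :
    elt B F (b ≫ B.map a) r = elt B F b (F.map a.op r) := by
  have h := NatTrans.naturality_apply (B.op.lanUnit.app F) a.op r
  simp only [elt, op_comp, Functor.map_comp, ConcreteCategory.comp_apply]
  exact congrArg (fun z => (ConcreteCategory.hom ((B.op.lan.obj F).map b.op)) z) h.symm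

instance preservesFilteredColimits_forget_mod :
    PreservesFilteredColimitsOfSize.{u, u + 1} (forget (ModuleCat.{u + 1} Λ)) :=
  preservesFilteredColimitsOfSize_shrink.{u + 1, u + 1, u, u + 1} _

variable [∀ P : Cᵒᵖ ⥤ ModuleCat.{u + 1} Λ, B.op.HasPointwiseLeftKanExtension P]

lemma exists_rep [RepresentablyFlat B] (V : D) (ρ : (B.op.lan.obj F).obj (op V)) :
    ∃ (W : C) (b : V ⟶ B.obj W) (r : F.obj (op W)), elt B F b r = ρ := by
  haveI := ProEtE.isFiltered_costructuredArrow_op B V
  have hl := Functor.isPointwiseLeftKanExtensionOfIsLeftKanExtension (F := F) (B.op.lan.obj F)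
    (B.op.lanUnit.app F) (op V)
  have hl' : IsColimit ((Functor.LeftExtension.mk (B.op.lan.obj F)
      (B.op.lanUnit.app F)).coconeAt (op V)) := hl
  obtain ⟨g, r, hr⟩ := Concrete.isColimit_exists_rep _ hl' ρ
  exact ⟨g.left.unop, g.hom.unop, r, hr⟩

lemma exists_refinement_same [RepresentablyFlat B] {V : D} {W : C} (b : V ⟶ B.obj W)
    (r r' : F.obj (op W)) (h : elt B F b r = elt B F b r') :
    ∃ (W' : C) (b' : V ⟶ B.obj W') (c : W' ⟶ W),
      b' ≫ B.map c = b ∧ F.map c.op r = F.map c.op r' := by
  haveI := ProEtE.isFiltered_costructuredArrow_op B V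
  have hl := Functor.isPointwiseLeftKanExtensionOfIsLeftKanExtension (F := F) (B.op.lan.obj F)
    (B.op.lanUnit.app F) (op V)
  have hl' : IsColimit ((Functor.LeftExtension.mk (B.op.lan.obj F)
      (B.op.lanUnit.app F)).coconeAt (op V)) := hl
  obtain ⟨k, f, g, hfg⟩ := Concrete.isColimit_exists_of_rep_eq _ hl'
    (i := CostructuredArrow.mk (S := B.op) (Y := op W) b.op)
    (j := CostructuredArrow.mk (S := B.op) (Y := op W) b.op) r r' h
  let e := IsFiltered.coeqHom f g
  have he : f ≫ e = g ≫ e := IsFiltered.coeq_condition f g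
  refine ⟨(IsFiltered.coeq f g).left.unop, (IsFiltered.coeq f g).hom.unop, (f ≫ e).left.unop,
    congrArg Quiver.Hom.unop (CostructuredArrow.w (f ≫ e)), ?_⟩
  have hf : F.map f.left r = F.map g.left r' := hfg
  have hl1 : (f ≫ e).left = f.left ≫ e.left := rfl
  have hr1 : (f ≫ e).left = g.left ≫ e.left := by rw [he]; rfl
  have h1 : F.map (f ≫ e).left r = F.map e.left (F.map f.left r) := by
    rw [hl1, Functor.map_comp]; rfl
  have h2 : F.map (f ≫ e).left r' = F.map e.left (F.map g.left r') := by
    rw [hr1, Functor.map_comp]; rfl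
  exact h1.trans ((congrArg _ hf).trans h2.symm)

end Lan

end H9FE.ProEtM
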