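import Mathlib
import Groth.Prelude.Def_EtBase

/-! helper9: finiteness of the set of liftings of a geometric point to an étale scheme which
generize a given point. -/

set_option autoImplicit false
set_option linter.unusedSectionVars false
set_option linter.style.haveILetI false
set_option backward.isDefEq.respectTransparency false
universe u
open CategoryTheory CategoryTheory.Limits AlgebraicGeometry Opposite Topology

namespace H9FE.SpFin

/-- sections of an affine étale scheme over the spectrum of a field are finite in number -/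
theorem finite_sections {K : Type u} [Field K] (Q : Scheme.{u}) [IsAffine Q]
    (g : Q ⟶ Spec (CommRingCat.of K)) [Etale g] :
    Finite {s : Spec (CommRingCat.of K) ⟶ Q // s ≫ g = 𝟙 _} := by
  let C : CommRingCat.{u} := Γ(Q, ⊤)
  let e : Q ≅ Spec C := Q.isoSpec
  obtain ⟨α, hα⟩ := Spec.map_surjective (e.inv ≫ g)
  have hαet : α.hom.Etale := by
    have h1 : Etale (Spec.map α) := by rw [hα]; infer_instance
    exact (HasRingHomProperty.Spec_iff (P := @Etale)).1 h1
  algebraize [α.hom]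
  haveI : Module.Finite K C := Algebra.FormallyUnramified.finite_of_free K C
  haveI : Finite (C →ₐ[K] K) := Finite.algHom K C K
  have hsec : ∀ s : {s : Spec (CommRingCat.of K) ⟶ Q // s ≫ g = 𝟙 _},
      α ≫ Spec.preimage (s.1 ≫ e.hom) = 𝟙 _ := by
    intro s
    apply Spec.map_injective
    rw [Spec.map_comp, Spec.map_preimage, hα, Spec.map_id, Category.assoc, e.hom_inv_id_assoc, s.2]
  let Φ : {s : Spec (CommRingCat.of K) ⟶ Q // s ≫ g = 𝟙 _} → (C →ₐ[K] K) := fun s =>
    { toRingHom := (Spec.preimage (s.1 ≫ e.hom)).hom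
      commutes' := fun r => congrArg (fun f : CommRingCat.of K ⟶ CommRingCat.of K => f.hom r)
        (hsec s) }
  apply Finite.of_injective Φ
  intro s s' h
  apply Subtype.ext
  have h1 : Spec.preimage (s.1 ≫ e.hom) = Spec.preimage (s'.1 ≫ e.hom) := by
    apply CommRingCat.hom_ext
    exact congrArg AlgHom.toRingHom h
  have h2 := congrArg Spec.map h1
  rw [Spec.map_preimage, Spec.map_preimage] at h2
  exact (cancel_mono e.hom).1 h2

/-- the liftings of a field-valued point of `Y` to an étale `Y`-scheme `W` which generize a given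
point of `W` are finite in number -/
theorem fin_lifts {Y : Scheme.{u}} (W : Y.Etale) {K : Type u} [Field K]
    (ζ' : Spec (CommRingCat.of K) ⟶ Y) (c : W.left) :
    Finite {l : Spec (CommRingCat.of K) ⟶ W.left // l ≫ W.hom = ζ' ∧ l default ⤳ c} := by
  haveI : Etale W.hom := W.prop
  obtain ⟨Y₀, hY₀, hyY₀, -⟩ :=
    exists_isAffineOpen_mem_and_subset (x := W.hom c) (U := ⊤) trivial
  obtain ⟨W₀, hW₀, hcW₀, hW₀le⟩ :=
    exists_isAffineOpen_mem_and_subset (x := c) (U := W.hom ⁻¹ᵁ Y₀) hyY₀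
  have hlW : ∀ l : {l : Spec (CommRingCat.of K) ⟶ W.left // l ≫ W.hom = ζ' ∧ l default ⤳ c},
      l.1 default ∈ W₀ := fun l => l.2.2.mem_open W₀.isOpen hcW₀
  by_cases hζ : ζ' default ∈ Y₀
  swap
  · haveI : IsEmpty {l : Spec (CommRingCat.of K) ⟶ W.left //
        l ≫ W.hom = ζ' ∧ l default ⤳ c} := ⟨fun l => hζ (by
      have h2 : W.hom (l.1 default) ∈ Y₀ := hW₀le (hlW l)
      rw [← l.2.1, Scheme.Hom.comp_apply]
      exact h2)⟩
    infer_instance
  have hrζ : Set.range ζ' ⊆ Set.range Y₀.ι := by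
    rintro _ ⟨a, rfl⟩
    rw [Subsingleton.elim a default, Scheme.Opens.range_ι]
    exact hζ
  let ζ₀ : Spec (CommRingCat.of K) ⟶ Y₀.toScheme := IsOpenImmersion.lift Y₀.ι ζ' hrζ
  have hζ₀ : ζ₀ ≫ Y₀.ι = ζ' := IsOpenImmersion.lift_fac _ _ _
  let f₀ : W₀.toScheme ⟶ Y₀.toScheme := W.hom.resLE Y₀ W₀ hW₀le
  have hf₀ : f₀ ≫ Y₀.ι = W₀.ι ≫ W.hom := Scheme.Hom.resLE_comp_ι _ _
  haveI : IsAffine W₀.toScheme := hW₀
  haveI : IsAffine Y₀.toScheme := hY₀
  let Q : Scheme.{u} := pullback f₀ ζ₀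
  haveI : Finite {s : Spec (CommRingCat.of K) ⟶ Q // s ≫ pullback.snd f₀ ζ₀ = 𝟙 _} :=
    finite_sections Q (pullback.snd f₀ ζ₀)
  have hl₀ : ∀ l : {l : Spec (CommRingCat.of K) ⟶ W.left // l ≫ W.hom = ζ' ∧ l default ⤳ c},
      Set.range l.1 ⊆ Set.range W₀.ι := by
    rintro l _ ⟨a, rfl⟩
    rw [Subsingleton.elim a default, Scheme.Opens.range_ι]
    exact hlW l
  let Φ : {l : Spec (CommRingCat.of K) ⟶ W.left // l ≫ W.hom = ζ' ∧ l default ⤳ c} →
      {s : Spec (CommRingCat.of K) ⟶ Q // s ≫ pullback.snd f₀ ζ₀ = 𝟙 _} := fun l =>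
    ⟨pullback.lift (IsOpenImmersion.lift W₀.ι l.1 (hl₀ l)) (𝟙 _) (by
      rw [← cancel_mono Y₀.ι, Category.assoc, hf₀, IsOpenImmersion.lift_fac_assoc, l.2.1,
        Category.id_comp, hζ₀]), pullback.lift_snd _ _ _⟩
  apply Finite.of_injective Φ
  intro l l' h
  apply Subtype.ext
  have h1 := congrArg (fun s => s.1 ≫ pullback.fst f₀ ζ₀ ≫ W₀.ι) h
  simp only [Φ, pullback.lift_fst_assoc, IsOpenImmersion.lift_fac] at h1
  exact h1

end H9FE.SpFin
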