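import Mathlib
import Groth.Prelude.Def_EtBase
import Groth.Agent.Lib.Helper9.FE.SpFin
import Groth.Agent.Lib.Helper5.Misc.EtStalkPull
import Groth.Agent.Lib.Helper9.FE.StalkPullGerm

/-! helper9: existence of specialization arrows between geometric points of the small étale site:
if `ζ'` lies over a generization of the point under `ζ`, there is a morphism of points
`pt ζ' ⟶ pt ζ`. -/

set_option autoImplicit false
set_option linter.unusedSectionVars false
set_option linter.style.haveILetI false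
set_option backward.isDefEq.respectTransparency false
universe u
open CategoryTheory CategoryTheory.Limits AlgebraicGeometry Opposite Topology

namespace H9FE.SpArrow

variable {Y : Scheme.{u}} {Ω Ω' : Type u} [Field Ω] [IsSepClosed Ω] [Field Ω'] [IsSepClosed Ω']
  (ζ : Spec (CommRingCat.of Ω) ⟶ Y) (ζ' : Spec (CommRingCat.of Ω') ⟶ Y)

/-- liftings of `ζ'` to an étale neighbourhood of `ζ` generizing the marked point -/
noncomputable def LiftSet (e : (Scheme.pointSmallEtale ζ).fiber.Elements) : Type u :=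
  {l : (Scheme.pointSmallEtale ζ').fiber.obj e.1 // l.left (default : Spec (CommRingCat.of Ω')) ⤳ e.2.left (default : Spec (CommRingCat.of Ω))}

theorem liftSet_map_aux {e e' : (Scheme.pointSmallEtale ζ).fiber.Elements} (g : e ⟶ e')
    (l : LiftSet ζ ζ' e) :
    ((Scheme.pointSmallEtale ζ').fiber.map g.1 l.1).left (default : Spec (CommRingCat.of Ω')) ⤳
      e'.2.left (default : Spec (CommRingCat.of Ω)) := by
  have h1 : ((Scheme.pointSmallEtale ζ').fiber.map g.1 l.1).left
      (default : Spec (CommRingCat.of Ω')) =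
      g.1.left (l.1.left (default : Spec (CommRingCat.of Ω'))) := rfl
  have h2 : e'.2.left (default : Spec (CommRingCat.of Ω)) =
      g.1.left (e.2.left (default : Spec (CommRingCat.of Ω))) :=
    congrArg (fun t : (Scheme.pointSmallEtale ζ).fiber.obj e'.1 =>
      t.left (default : Spec (CommRingCat.of Ω))) g.2.symm
  rw [h1, h2]
  exact l.2.map g.1.left.continuous

/-- the functor of liftings -/
noncomputable def liftFunctor : (Scheme.pointSmallEtale ζ).fiber.Elements ⥤ Type u where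
  obj e := LiftSet ζ ζ' e
  map {e e'} g := ↾(fun l => ⟨(Scheme.pointSmallEtale ζ').fiber.map g.1 l.1,
    liftSet_map_aux ζ ζ' g l⟩)
  map_id e := by
    ext l
    apply Subtype.ext
    show (Scheme.pointSmallEtale ζ').fiber.map (𝟙 e.1) l.1 = l.1
    rw [(Scheme.pointSmallEtale ζ').fiber.map_id]
    rfl
  map_comp {e e' e''} g g' := by
    ext l
    apply Subtype.ext
    show (Scheme.pointSmallEtale ζ').fiber.map (g.1 ≫ g'.1) l.1 =
      (Scheme.pointSmallEtale ζ').fiber.map g'.1 ((Scheme.pointSmallEtale ζ').fiber.map g.1 l.1)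
    rw [(Scheme.pointSmallEtale ζ').fiber.map_comp]
    rfl

instance finite_liftSet (e : (Scheme.pointSmallEtale ζ).fiber.Elements) :
    Finite ((liftFunctor ζ ζ').obj e) := by
  haveI := SpFin.fin_lifts e.1 ζ' (e.2.left (default : Spec (CommRingCat.of Ω)))
  let Φ : LiftSet ζ ζ' e → {l : Spec (CommRingCat.of Ω') ⟶ e.1.left //
      l ≫ e.1.hom = ζ' ∧ l default ⤳ e.2.left (default : Spec (CommRingCat.of Ω))} :=
    fun l => ⟨l.1.left, Over.w l.1, l.2⟩
  apply Finite.of_injective Φ
  intro l l' h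
  apply Subtype.ext
  apply Over.OverMorphism.ext
  exact congrArg Subtype.val h

theorem nonempty_liftSet (hs : ζ' default ⤳ ζ default)
    (e : (Scheme.pointSmallEtale ζ).fiber.Elements) : Nonempty ((liftFunctor ζ ζ').obj e) := by
  haveI : Etale e.1.hom := e.1.prop
  have hgen : GeneralizingMap e.1.hom := Flat.generalizingMap e.1.hom
  have ha : e.1.hom (e.2.left (default : Spec (CommRingCat.of Ω))) = ζ default := by
    have := Over.w e.2
    show (e.2.left ≫ e.1.hom) (default : Spec (CommRingCat.of Ω)) = ζ default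
    exact congrArg (fun f : Spec (CommRingCat.of Ω) ⟶ Y => f default) this
  obtain ⟨z, hz, hfz⟩ := hgen (a := e.2.left (default : Spec (CommRingCat.of Ω)))
    (b := ζ' default) (ha ▸ hs)
  obtain ⟨l, hl, hlz⟩ := Scheme.exists_fac_of_etale_of_isSepClosed e.1.hom ζ' z hfz
  exact ⟨⟨Over.homMk l hl, by
    show l default ⤳ e.2.left (default : Spec (CommRingCat.of Ω))
    rw [hlz]
    exact hz⟩⟩

/-- existence of specialization arrows -/
theorem exists_arrow (hs : ζ' default ⤳ ζ default) :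
    Nonempty (Scheme.pointSmallEtale ζ' ⟶ Scheme.pointSmallEtale ζ) := by
  haveI := nonempty_liftSet ζ ζ' hs
  obtain ⟨s, hs'⟩ := nonempty_sections_of_finite_cofiltered_system (liftFunctor ζ ζ')
  refine ⟨⟨{ app := fun W => ↾(fun w₀ => (s ⟨W, w₀⟩).1), naturality := ?_ }⟩⟩
  intro W W' g
  ext w₀
  let e : (Scheme.pointSmallEtale ζ).fiber.Elements := ⟨W, w₀⟩
  let e' : (Scheme.pointSmallEtale ζ).fiber.Elements :=
    ⟨W', (Scheme.pointSmallEtale ζ).fiber.map g w₀⟩
  let k : e ⟶ e' := ⟨g, rfl⟩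
  have := hs' k
  exact (congrArg Subtype.val this).symm

section Transfer

open Groth.Agent.Lib.Helper5 Groth.Agent.S0072.Aux

variable {X Y : Scheme.{u}} (f : Y ⟶ X) {Ω Ω' : Type u} [Field Ω] [IsSepClosed Ω] [Field Ω']
  [IsSepClosed Ω'] (ζ : Spec (CommRingCat.of Ω) ⟶ Y) (ζ' : Spec (CommRingCat.of Ω') ⟶ Y)

/-- transfer of a specialization arrow along a morphism of schemes -/
noncomputable def transfer (ψ : Scheme.pointSmallEtale ζ' ⟶ Scheme.pointSmallEtale ζ) :
    Scheme.pointSmallEtale (ζ' ≫ f) ⟶ Scheme.pointSmallEtale (ζ ≫ f) :=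
  ⟨(EtStalkPull.fiberIso f ζ).inv ≫ Functor.whiskerLeft (EtCoh.bc f) ψ.hom ≫
    (EtStalkPull.fiberIso f ζ').hom⟩

theorem transfer_app (ψ : Scheme.pointSmallEtale ζ' ⟶ Scheme.pointSmallEtale ζ) (W : X.Etale)
    (w₀ : (Scheme.pointSmallEtale (ζ ≫ f)).fiber.obj W) :
    (transfer f ζ ζ' ψ).hom.app W w₀ = (EtStalkPull.fiberIso f ζ').hom.app W
      (ψ.hom.app ((EtCoh.bc f).obj W) (liftPt f (ζ ≫ f) ζ rfl W w₀)) := by
  rw [← StalkPullGerm.fiberIso_inv]
  rfl

/-- the transferred arrow sends the tautological lifting of `ζ ≫ f` to that of `ζ' ≫ f` -/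
theorem transfer_app_self [Etale f]
    (ψ : Scheme.pointSmallEtale ζ' ⟶ Scheme.pointSmallEtale ζ) :
    (transfer f ζ ζ' ψ).hom.app (Scheme.Etale.mk f)
      (Over.homMk ζ rfl : (Scheme.pointSmallEtale (ζ ≫ f)).fiber.obj (Scheme.Etale.mk f)) =
      (Over.homMk ζ' rfl : (Scheme.pointSmallEtale (ζ' ≫ f)).fiber.obj (Scheme.Etale.mk f)) := by
  let V : X.Etale := Scheme.Etale.mk f
  let v₀ : (Scheme.pointSmallEtale (ζ ≫ f)).fiber.obj V := Over.homMk ζ rfl
  let v₀' : (Scheme.pointSmallEtale (ζ' ≫ f)).fiber.obj V := Over.homMk ζ' rfl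
  let T : Y.Etale := EtCoh.top Y
  let Δ' : T ⟶ (EtCoh.bc f).obj V :=
    MorphismProperty.Over.homMk (pullback.lift (𝟙 Y) (𝟙 Y) rfl) (pullback.lift_snd _ _ _)
  let u₀ : (Scheme.pointSmallEtale ζ).fiber.obj T := Over.homMk ζ (Category.comp_id _)
  have h1 : liftPt f (ζ ≫ f) ζ rfl V v₀ = (Scheme.pointSmallEtale ζ).fiber.map Δ' u₀ := by
    apply Over.OverMorphism.ext
    show pullback.lift ζ ζ _ = ζ ≫ pullback.lift (𝟙 Y) (𝟙 Y) rfl
    apply pullback.hom_ext
    · rw [pullback.lift_fst, Category.assoc, pullback.lift_fst, Category.comp_id]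
    · rw [pullback.lift_snd, Category.assoc, pullback.lift_snd, Category.comp_id]
  have h2 : ψ.hom.app ((EtCoh.bc f).obj V) ((Scheme.pointSmallEtale ζ).fiber.map Δ' u₀) =
      (Scheme.pointSmallEtale ζ').fiber.map Δ' (ψ.hom.app T u₀) :=
    ConcreteCategory.congr_hom (ψ.hom.naturality Δ') u₀
  have h3 : (ψ.hom.app T u₀).left = ζ' := by
    have := Over.w (ψ.hom.app T u₀)
    exact (Category.comp_id _).symm.trans this
  have h4 : (Scheme.pointSmallEtale ζ').fiber.map Δ' (ψ.hom.app T u₀) =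
      liftPt f (ζ' ≫ f) ζ' rfl V v₀' := by
    apply Over.OverMorphism.ext
    show (ψ.hom.app T u₀).left ≫ pullback.lift (𝟙 Y) (𝟙 Y) rfl = pullback.lift ζ' ζ' _
    rw [h3]
    apply pullback.hom_ext
    · rw [pullback.lift_fst, Category.assoc, pullback.lift_fst]
      exact Category.comp_id _
    · rw [pullback.lift_snd, Category.assoc, pullback.lift_snd]
      exact Category.comp_id _
  show (transfer f ζ ζ' ψ).hom.app V v₀ = v₀'
  rw [transfer_app, h1, h2, h4]
  exact StalkPullGerm.fiberIso_hom_liftPt f ζ' V v₀'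

/-- existence of a specialization arrow with prescribed value on a given étale neighbourhood -/
theorem exists_arrow_prescribed [Etale f] (hs : ζ' default ⤳ ζ default) :
    ∃ φ : Scheme.pointSmallEtale (ζ' ≫ f) ⟶ Scheme.pointSmallEtale (ζ ≫ f),
      φ.hom.app (Scheme.Etale.mk f)
        (Over.homMk ζ rfl : (Scheme.pointSmallEtale (ζ ≫ f)).fiber.obj (Scheme.Etale.mk f)) =
      (Over.homMk ζ' rfl : (Scheme.pointSmallEtale (ζ' ≫ f)).fiber.obj (Scheme.Etale.mk f)) := by
  obtain ⟨ψ⟩ := exists_arrow ζ ζ' hs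
  exact ⟨transfer f ζ ζ' ψ, transfer_app_self f ζ ζ' ψ⟩

end Transfer

end H9FE.SpArrow
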