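import Mathlib
import Groth.Agent.Lib.Helper9.FE.CsStrata

/-! helper9: gluing finite stratifications along finite open covers of a quasi-compact
quasi-separated open subset, restriction of stratifications to opens, and transport of
stratifications along immersions; constructibility is local on the scheme. -/

set_option autoImplicit false
set_option linter.unusedSectionVars false
set_option linter.style.haveILetI false
set_option backward.isDefEq.respectTransparency false
universe u
open CategoryTheory CategoryTheory.Limits AlgebraicGeometry Opposite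

namespace H9FE.CsStrata

variable {X : Scheme.{u}}

/-- compact open subsets of a quasi-separated subspace are retrocompact in it -/
theorem retro_sub (S : Set X) [QuasiSeparatedSpace S] (W : Set X) (hWo : IsOpen W)
    (hWc : IsCompact W) (hWS : W ⊆ S) : IsRetrocompact ((Subtype.val : S → X) ⁻¹' W) := by
  refine IsCompact.isRetrocompact ?_ (hWo.preimage continuous_subtype_val)
  rw [Topology.IsInducing.subtypeVal.isCompact_preimage_iff]
  · exact hWc
  · rw [Subtype.range_coe]
    exact hWS

theorem Strat.of_open_cover_fin {S : Set X} {P : MorProp X} (hP : P.Stable) {m : ℕ}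
    (W : Fin m → Set X) (hWo : ∀ j, IsOpen (W j)) (hS : (⋃ j, W j) = S)
    (hret : ∀ j, IsRetrocompact ((Subtype.val : S → X) ⁻¹' W j))
    (h : ∀ j, Strat (W j) P) : Strat S P := by
  classical
  choose ι hι T g h1 h2 h3 h4 h5 using h
  haveI := hι
  let C : Fin m → Set X := fun j => ⋂ j' : {j' : Fin m // j' < j}, (W j'.1)ᶜ
  have hC : ∀ j, IsClosed (C j) := fun j => isClosed_iInter fun j' => (hWo j'.1).isClosed_compl
  have hsub : ∀ j, W j ⊆ S := fun j => hS ▸ Set.subset_iUnion W j
  have hex : ∀ p : Σ j, ι j, ∃ (T' : Scheme.{u}) (k : T' ⟶ T p.1 p.2), IsClosedImmersion k ∧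
      Set.range k = (g p.1 p.2) ⁻¹' (C p.1) := fun p =>
    exists_closedImmersion_of_isClosed _ _ ((hC p.1).preimage (g p.1 p.2).continuous)
  choose T' k hk1 hk2 using hex
  have hr : ∀ p : Σ j, ι j, Set.range (k p ≫ g p.1 p.2) = C p.1 ∩ Set.range (g p.1 p.2) := by
    intro p
    rw [range_comp, hk2, Set.image_preimage_eq_inter_range]
  have hgW : ∀ j i, Set.range (g j i) ⊆ W j := fun j i => by
    rw [← h4 j]
    exact Set.subset_iUnion (fun i => Set.range (g j i)) i
  refine ⟨Σ j, ι j, inferInstance, T', fun p => k p ≫ g p.1 p.2, fun p => ?_, fun p => ?_, ?_, ?_,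
    fun p => hP _ _ (h5 _ _)⟩
  · haveI := hk1 p
    haveI := h1 p.1 p.2
    infer_instance
  · rw [hr, Set.preimage_inter]
    refine .inter ?_ ?_
    · show Topology.IsConstructible
        ((Subtype.val : S → X) ⁻¹' ⋂ j' : {j' : Fin m // j' < p.1}, (W j'.1)ᶜ)
      rw [Set.preimage_iInter]
      refine .iInter fun j' => ?_
      rw [Set.preimage_compl]
      exact ((hret j'.1).isConstructible ((hWo j'.1).preimage continuous_subtype_val)).compl
    · have hoe : Topology.IsOpenEmbedding (Set.inclusion (hsub p.1)) :=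
        Topology.IsOpenEmbedding.inclusion _ ((hWo p.1).preimage continuous_subtype_val)
      have himg : (Subtype.val : S → X) ⁻¹' Set.range (g p.1 p.2) =
          Set.inclusion (hsub p.1) ''
            ((Subtype.val : W p.1 → X) ⁻¹' Set.range (g p.1 p.2)) := by
        ext ⟨x, hx⟩
        simp only [Set.mem_preimage, Set.mem_image]
        constructor
        · intro hxr
          exact ⟨⟨x, hgW _ _ hxr⟩, hxr, rfl⟩
        · rintro ⟨⟨y, hy⟩, hyr, hxy⟩
          have : y = x := congrArg Subtype.val hxy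
          subst this
          exact hyr
      rw [himg]
      refine (h2 p.1 p.2).image_of_isOpenEmbedding hoe ?_
      rw [Set.range_inclusion]
      exact hret p.1
  · have key : ∀ p q : Σ j, ι j, p.1 < q.1 →
        Disjoint (C p.1 ∩ Set.range (g p.1 p.2)) (C q.1 ∩ Set.range (g q.1 q.2)) := by
      intro p q hlt
      rw [Set.disjoint_left]
      rintro x ⟨-, hx1⟩ ⟨hx2, -⟩
      exact Set.mem_iInter.1 hx2 ⟨p.1, hlt⟩ (hgW _ _ hx1)
    intro p q hpq
    show Disjoint (Set.range (k p ≫ g p.1 p.2)) (Set.range (k q ≫ g q.1 q.2))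
    rw [hr, hr]
    rcases lt_trichotomy p.1 q.1 with hlt | heq | hgt
    · exact key p q hlt
    · obtain ⟨j, i⟩ := p
      obtain ⟨j', i'⟩ := q
      dsimp only at heq
      subst heq
      have hii : i ≠ i' := fun h => hpq (by rw [h])
      exact (h3 j hii).mono Set.inter_subset_right Set.inter_subset_right
    · exact (key q p hgt).symm
  · ext x
    simp only [hr, Set.mem_iUnion, Set.mem_inter_iff]
    constructor
    · rintro ⟨p, -, hx⟩
      exact hsub p.1 (hgW _ _ hx)
    · intro hx
      rw [← hS] at hx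
      obtain ⟨j0, hj0⟩ := Set.mem_iUnion.1 hx
      obtain ⟨j, hj, hmin⟩ := (wellFounded_lt (α := Fin m)).has_min {j | x ∈ W j} ⟨j0, hj0⟩
      have hxg : x ∈ ⋃ i, Set.range (g j i) := by
        rw [h4 j]
        exact hj
      obtain ⟨i, hi⟩ := Set.mem_iUnion.1 hxg
      exact ⟨⟨j, i⟩, Set.mem_iInter.2 fun j' hxj' => hmin j'.1 hxj' j'.2, hi⟩

theorem Strat.of_open_cover {S : Set X} {P : MorProp X} (hP : P.Stable) {κ : Type*} [Finite κ]
    (W : κ → Set X) (hWo : ∀ j, IsOpen (W j)) (hS : (⋃ j, W j) = S)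
    (hret : ∀ j, IsRetrocompact ((Subtype.val : S → X) ⁻¹' W j))
    (h : ∀ j, Strat (W j) P) : Strat S P := by
  obtain ⟨m, ⟨e⟩⟩ := Finite.exists_equiv_fin κ
  refine Strat.of_open_cover_fin hP (fun j => W (e.symm j)) (fun j => hWo _) ?_ (fun j => hret _)
    (fun j => h _)
  rw [← hS]
  exact e.symm.surjective.iUnion_comp W

/-- stratifications glue along affine open neighbourhoods on a quasi-compact quasi-separated open -/
theorem Strat.of_local {S : Set X} {P : MorProp X} (hP : P.Stable) (hSo : IsOpen S)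
    (hSc : IsCompact S) (hSq : IsQuasiSeparated S)
    (h : ∀ x ∈ S, ∃ W : X.Opens, IsAffineOpen W ∧ x ∈ W ∧ (W : Set X) ⊆ S ∧
      Strat (W : Set X) P) : Strat S P := by
  haveI : QuasiSeparatedSpace S := (isQuasiSeparated_iff_quasiSeparatedSpace S hSo).1 hSq
  choose W hWa hxW hWS hWP using h
  obtain ⟨t, ht⟩ := hSc.elim_nhds_subcover' (fun x hx => (W x hx : Set X))
    (fun x hx => (W x hx).isOpen.mem_nhds (hxW x hx))
  refine Strat.of_open_cover hP (κ := t) (fun x => (W x.1.1 x.1.2 : Set X))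
    (fun x => (W _ _).isOpen) ?_
    (fun x => retro_sub S _ (W _ _).isOpen (hWa _ _).isCompact (hWS _ _)) (fun x => hWP _ _)
  apply Set.Subset.antisymm
  · exact Set.iUnion_subset fun x => hWS _ _
  · intro x hx
    obtain ⟨y, hy, hxy⟩ := Set.mem_iUnion₂.1 (ht hx)
    exact Set.mem_iUnion.2 ⟨⟨y, hy⟩, hxy⟩

theorem Strat.restrict_open {S : Set X} {P : MorProp X} (hP : P.Stable) (O : X.Opens)
    (h : Strat S P) : Strat (S ∩ (O : Set X)) P := by
  obtain ⟨ι, hι, T, g, h1, h2, h3, h4, h5⟩ := h
  have hr : ∀ i, Set.range (((g i) ⁻¹ᵁ O).ι ≫ g i) = (O : Set X) ∩ Set.range (g i) := by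
    intro i
    rw [range_comp, Scheme.Opens.range_ι]
    exact Set.image_preimage_eq_inter_range
  refine ⟨ι, hι, fun i => ((g i) ⁻¹ᵁ O).toScheme, fun i => ((g i) ⁻¹ᵁ O).ι ≫ g i, fun i => ?_,
    fun i => ?_, ?_, ?_, fun i => hP _ _ (h5 i)⟩
  · haveI := h1 i
    infer_instance
  · rw [hr]
    have hoe : Topology.IsOpenEmbedding
        (Set.inclusion (Set.inter_subset_left : S ∩ (O : Set X) ⊆ S)) :=
      Topology.IsOpenEmbedding.inclusion _ (by
        have : (Subtype.val : S → X) ⁻¹' (S ∩ (O : Set X)) =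
            (Subtype.val : S → X) ⁻¹' (O : Set X) := by
          ext ⟨x, hx⟩
          simp
        rw [this]
        exact O.isOpen.preimage continuous_subtype_val)
    have : (Subtype.val : ↥(S ∩ (O : Set X)) → X) ⁻¹' ((O : Set X) ∩ Set.range (g i)) =
        Set.inclusion (Set.inter_subset_left : S ∩ (O : Set X) ⊆ S) ⁻¹'
          ((Subtype.val : S → X) ⁻¹' Set.range (g i)) := by
      ext ⟨x, hx⟩
      simp only [Set.mem_preimage, Set.mem_inter_iff]
      exact ⟨fun h => h.2, fun h => ⟨hx.2, h⟩⟩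
    rw [this]
    exact (h2 i).preimage_of_isOpenEmbedding hoe
  · intro i j hij
    show Disjoint (Set.range (((g i) ⁻¹ᵁ O).ι ≫ g i)) (Set.range (((g j) ⁻¹ᵁ O).ι ≫ g j))
    rw [hr, hr]
    exact (h3 hij).mono Set.inter_subset_right Set.inter_subset_right
  · simp only [hr]
    rw [← Set.inter_iUnion, h4, Set.inter_comm]

theorem Strat.map {Y : Scheme.{u}} (j : Y ⟶ X) [IsImmersion j] {S' : Set Y} {P : MorProp X}
    (h : Strat S' (fun _ g => P (g ≫ j))) : Strat (j '' S') P := by
  obtain ⟨ι, hι, T, g, h1, h2, h3, h4, h5⟩ := h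
  have hinj : Function.Injective j := j.isEmbedding.injective
  refine ⟨ι, hι, T, fun i => g i ≫ j, fun i => ?_, fun i => ?_, ?_, ?_, h5⟩
  · haveI := h1 i
    infer_instance
  · rw [range_comp]
    let ψ : S' → ↥(j '' S') := Set.MapsTo.restrict j S' (j '' S') (Set.mapsTo_image j S')
    have hψc : Continuous ψ := j.continuous.restrict (Set.mapsTo_image j S')
    have hψe : Topology.IsEmbedding ψ := by
      refine Topology.IsEmbedding.of_comp hψc continuous_subtype_val ?_
      exact j.isEmbedding.comp Topology.IsEmbedding.subtypeVal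
    have hψs : Function.Surjective ψ := by
      rintro ⟨_, x, hx, rfl⟩
      exact ⟨⟨x, hx⟩, rfl⟩
    have hoe : Topology.IsOpenEmbedding ψ := ⟨hψe, by rw [hψs.range_eq]; exact isOpen_univ⟩
    have : (Subtype.val : ↥(j '' S') → X) ⁻¹' (j '' Set.range (g i)) =
        ψ '' ((Subtype.val : S' → Y) ⁻¹' Set.range (g i)) := by
      ext ⟨_, x, hx, rfl⟩
      simp only [Set.mem_preimage, Set.mem_image]
      constructor
      · rintro ⟨y, hy, hyx⟩
        have := hinj hyx
        subst this
        exact ⟨⟨y, hx⟩, hy, rfl⟩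
      · rintro ⟨⟨y, hy⟩, hyr, hyx⟩
        have : j y = j x := congrArg Subtype.val hyx
        exact ⟨y, hyr, this⟩
    rw [this]
    refine (h2 i).image_of_isOpenEmbedding hoe ?_
    rw [hψs.range_eq]
    exact IsRetrocompact.univ
  · intro i i' hii
    show Disjoint (Set.range (g i ≫ j)) (Set.range (g i' ≫ j))
    rw [range_comp, range_comp]
    exact (Set.disjoint_image_iff hinj).2 (h3 hii)
  · simp only [range_comp]
    rw [← Set.image_iUnion, h4]

theorem exists_affine_nhd (O : X.Opens) (x : X) (hx : x ∈ O) :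
    ∃ W : X.Opens, IsAffineOpen W ∧ x ∈ W ∧ W ≤ O := by
  obtain ⟨W, hW, hxW, hWO⟩ := TopologicalSpace.Opens.isBasis_iff_nbhd.1 X.isBasis_affineOpens hx
  exact ⟨W, hW, hxW, hWO⟩

theorem constructible_of_open_cover (F : EtCoh.Ab X) {ι : Type u} (U : ι → X.Opens)
    (hU : ⨆ i, U i = ⊤) (h : ∀ i, EtPBC.IsConstructible ((EtCoh.pull (U i).ι).obj F)) :
    EtPBC.IsConstructible F := by
  intro V hV
  rw [adapted_iff]
  refine Strat.of_local (flcP_stable F) V.isOpen hV.isCompact hV.isQuasiSeparated ?_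
  intro x hxV
  have hx : x ∈ (⨆ i, U i : X.Opens) := by
    rw [hU]
    trivial
  obtain ⟨i, hxi⟩ := TopologicalSpace.Opens.mem_iSup.1 hx
  obtain ⟨W, hWa, hxW, hWle⟩ := exists_affine_nhd (V ⊓ U i) x ⟨hxV, hxi⟩
  refine ⟨W, hWa, hxW, fun y hy => (hWle hy).1, ?_⟩
  have hW' : IsAffineOpen ((U i).ι ⁻¹ᵁ W) := hWa.preimage_of_isOpenImmersion (U i).ι (by
    rw [Scheme.Opens.opensRange_ι]
    exact fun y hy => (hWle hy).2)
  have h1 := (adapted_iff _ _).1 (h i _ hW')
  have h2 : Strat (((U i).ι ⁻¹ᵁ W : (U i).toScheme.Opens) : Set (U i).toScheme)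
      (fun _ g => flcP F (g ≫ (U i).ι)) :=
    h1.mono fun T g hg => (flcP_pull_iff (U i).ι F g).1 hg
  have h3 := Strat.map (U i).ι h2
  have himg : (U i).ι '' (((U i).ι ⁻¹ᵁ W : (U i).toScheme.Opens) : Set (U i).toScheme) =
      (W : Set X) := by
    show (U i).ι '' ((U i).ι ⁻¹' (W : Set X)) = W
    rw [Set.image_preimage_eq_inter_range, Scheme.Opens.range_ι]
    exact Set.inter_eq_left.2 fun y hy => (hWle hy).2
  rw [himg] at h3
  exact h3

theorem constructible_of_strat_univ [QuasiSeparatedSpace X] (F : EtCoh.Ab X)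
    (h : Strat (Set.univ : Set X) (flcP F)) : EtPBC.IsConstructible F := by
  intro U hU
  rw [adapted_iff]
  have := Strat.restrict_open (flcP_stable F) U h
  rwa [Set.univ_inter] at this

theorem strat_univ_of_constructible [CompactSpace X] [QuasiSeparatedSpace X] (F : EtCoh.Ab X)
    (hF : EtPBC.IsConstructible F) : Strat (Set.univ : Set X) (flcP F) := by
  refine Strat.of_local (flcP_stable F) isOpen_univ isCompact_univ isQuasiSeparated_univ ?_
  intro x _
  obtain ⟨W, hWa, hxW, -⟩ := exists_affine_nhd (⊤ : X.Opens) x trivial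
  exact ⟨W, hWa, hxW, Set.subset_univ _, (adapted_iff _ _).1 (hF W hWa)⟩

end H9FE.CsStrata
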