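import Mathlib
import Groth.Agent.Lib.Helper9.FE.CsGlue

/-! helper9: constructible sets in quasi-compact quasi-separated prespectral spaces (openness in the
constructible topology, finite subcovers, compactness, transitivity, decomposition of locally
closed constructible sets), partitions into atoms, and constructibility of a sheaf that is
constructible along a constructible cover by immersions. -/

set_option autoImplicit false
set_option linter.unusedSectionVars false
set_option linter.style.haveILetI false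
set_option backward.isDefEq.respectTransparency false
universe u
open CategoryTheory CategoryTheory.Limits AlgebraicGeometry Opposite Topology

namespace H9FE.CsStrata

section Topo

variable {X : Type*} [TopologicalSpace X]

/-- constructible sets are clopen in the constructible topology of a quasi-compact space -/
theorem isOpen_ct_of_isConstructible [CompactSpace X] {s : Set X}
    (hs : Topology.IsConstructible s) :
    IsOpen[constructibleTopology X] s ∧ IsOpen[constructibleTopology X] sᶜ := by
  induction hs using Topology.IsConstructible.empty_union_induction with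
  | open_retrocompact U hUo hUr =>
    exact ⟨hUr.isCompact.isOpen_constructibleTopology_of_isOpen hUo,
      IsCompact.isOpen_constructibleTopology_of_isClosed
        (by rw [compl_compl]; exact hUr.isCompact) hUo.isClosed_compl⟩
  | union s hs t ht hs' ht' =>
    letI : TopologicalSpace X := constructibleTopology X
    refine ⟨IsOpen.union hs'.1 ht'.1, ?_⟩
    rw [Set.compl_union]
    exact IsOpen.inter hs'.2 ht'.2
  | compl s hs hs' => exact ⟨hs'.2, by rw [compl_compl]; exact hs'.1⟩

theorem exists_finite_subcover_of_isConstructible [CompactSpace X] [QuasiSober X]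
    [PrespectralSpace X] [QuasiSeparatedSpace X] {ι : Type*} (R : ι → Set X)
    (hR : ∀ i, Topology.IsConstructible (R i)) (hcov : (⋃ i, R i) = Set.univ) :
    ∃ t : Finset ι, (⋃ i ∈ t, R i) = Set.univ := by
  obtain ⟨t, ht⟩ := (isCompact_univ (X := WithConstructibleTopology X)).elim_finite_subcover
    (fun i => (WithTopology.ofTopology ⁻¹' R i : Set (WithConstructibleTopology X)))
    (fun i => (WithTopology.isOpen_iff _).2 (isOpen_ct_of_isConstructible (hR i)).1) (by
      intro x _
      have : WithTopology.ofTopology x ∈ ⋃ i, R i := by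
        rw [hcov]
        trivial
      obtain ⟨i, hi⟩ := Set.mem_iUnion.1 this
      exact Set.mem_iUnion.2 ⟨i, hi⟩)
  refine ⟨t, Set.eq_univ_of_forall fun x => ?_⟩
  have := ht (Set.mem_univ (WithTopology.toTopology _ x))
  obtain ⟨i, hi, hx⟩ := Set.mem_iUnion₂.1 this
  exact Set.mem_iUnion₂.2 ⟨i, hi, hx⟩

theorem isCompact_of_isConstructible [CompactSpace X] [QuasiSober X] [PrespectralSpace X]
    [QuasiSeparatedSpace X] {s : Set X} (hs : Topology.IsConstructible s) : IsCompact s := by
  have hcl : IsClosed (WithTopology.ofTopology ⁻¹' s : Set (WithConstructibleTopology X)) := by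
    rw [← isOpen_compl_iff]
    exact (WithTopology.isOpen_iff _).2 (isOpen_ct_of_isConstructible hs).2
  have hcont : Continuous (WithTopology.ofTopology : WithConstructibleTopology X → X) := by
    rw [(PrespectralSpace.isTopologicalBasis (X := X)).continuous_iff]
    rintro U ⟨hUo, hUc⟩
    exact (WithTopology.isOpen_iff _).2 (hUc.isOpen_constructibleTopology_of_isOpen hUo)
  have := hcl.isCompact.image hcont
  rwa [Set.image_preimage_eq _ (WithTopology.ofTopology_surjective _)] at this

/-- constructible subsets of a constructible subspace are constructible -/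
theorem isConstructible_image_val [CompactSpace X] [QuasiSober X] [PrespectralSpace X]
    [QuasiSeparatedSpace X] {R : Set X} (hR : Topology.IsConstructible R) {A : Set R}
    (hA : Topology.IsConstructible A) :
    Topology.IsConstructible ((Subtype.val : R → X) '' A) := by
  haveI : CompactSpace R := isCompact_iff_compactSpace.1 (isCompact_of_isConstructible hR)
  induction hA using Topology.IsConstructible.empty_union_induction with
  | open_retrocompact B hBo hBr =>
    have hBc : IsCompact B := hBr.isCompact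
    obtain ⟨O, hO, rfl⟩ := isOpen_induced_iff.1 hBo
    have hK : IsCompact ((Subtype.val : R → X) '' (Subtype.val ⁻¹' O)) :=
      hBc.image continuous_subtype_val
    obtain ⟨W, hWc, hWo, hKW, hWO⟩ :=
      PrespectralSpace.exists_isCompact_and_isOpen_between hK hO (by
        rintro _ ⟨x, hx, rfl⟩
        exact hx)
    have : (Subtype.val : R → X) '' (Subtype.val ⁻¹' O) = R ∩ W := by
      ext x
      constructor
      · rintro ⟨y, hy, rfl⟩
        exact ⟨y.2, hKW ⟨y, hy, rfl⟩⟩
      · rintro ⟨hxR, hxW⟩
        exact ⟨⟨x, hxR⟩, hWO hxW, rfl⟩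
    rw [this]
    exact hR.inter (hWc.isConstructible hWo)
  | union s hs t ht hs' ht' =>
    rw [Set.image_union]
    exact hs'.union ht'
  | compl s hs hs' =>
    rw [← Set.range_sdiff_image Subtype.val_injective, Subtype.range_coe]
    exact hR.sdiff hs'

/-- a locally closed constructible set is a difference of two quasi-compact opens -/
theorem exists_compact_open_decomp [CompactSpace X] [QuasiSober X] [PrespectralSpace X]
    [QuasiSeparatedSpace X] {A : Set X} (hA : Topology.IsConstructible A)
    (hAl : IsLocallyClosed A) :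
    ∃ O G : Set X, IsOpen O ∧ IsCompact O ∧ IsOpen G ∧ IsCompact G ∧ A = O \ G := by
  obtain ⟨U, Z, hU, hZ, rfl⟩ := hAl
  obtain ⟨O, hOc, hOo, hAO, hOU⟩ := PrespectralSpace.exists_isCompact_and_isOpen_between
    (isCompact_of_isConstructible hA) hU Set.inter_subset_left
  refine ⟨O, O ∩ Zᶜ, hOo, hOc, hOo.inter hZ.isOpen_compl, ?_, ?_⟩
  · have : O ∩ Zᶜ = O \ (U ∩ Z) := by
      ext x
      constructor
      · rintro ⟨hxO, hxZ⟩
        exact ⟨hxO, fun h => hxZ h.2⟩
      · rintro ⟨hxO, hx⟩
        exact ⟨hxO, fun hz => hx ⟨hOU hxO, hz⟩⟩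
    rw [this]
    exact isCompact_of_isConstructible ((hOc.isConstructible hOo).sdiff hA)
  · ext x
    constructor
    · rintro ⟨hxU, hxZ⟩
      exact ⟨hAO ⟨hxU, hxZ⟩, fun h => h.2 hxZ⟩
    · rintro ⟨hxO, hx⟩
      refine ⟨hOU hxO, ?_⟩
      by_contra hz
      exact hx ⟨hxO, hz⟩

theorem isLocallyClosed_iInter {ι : Type*} [Finite ι] {s : ι → Set X}
    (h : ∀ i, IsLocallyClosed (s i)) : IsLocallyClosed (⋂ i, s i) := by
  choose U Z hU hZ hs using h
  refine ⟨⋂ i, U i, ⋂ i, Z i, isOpen_iInter_of_finite hU, isClosed_iInter hZ, ?_⟩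
  rw [← Set.iInter_inter_distrib]
  exact Set.iInter_congr hs

end Topo

variable {X : Scheme.{u}}

theorem exists_immersion_of_isLocallyClosed (T : Scheme.{u}) (Z : Set T) (hZ : IsLocallyClosed Z) :
    ∃ (T' : Scheme.{u}) (j : T' ⟶ T), IsImmersion j ∧ Set.range j = Z := by
  obtain ⟨U, C, hU, hC, rfl⟩ := hZ
  let Uo : T.Opens := ⟨U, hU⟩
  obtain ⟨T', c, hc, hcr⟩ := exists_closedImmersion_of_isClosed Uo.toScheme (Uo.ι ⁻¹' C)
    (hC.preimage Uo.ι.continuous)
  refine ⟨T', c ≫ Uo.ι, inferInstance, ?_⟩
  rw [range_comp, hcr, Set.image_preimage_eq_inter_range, Scheme.Opens.range_ι, Set.inter_comm]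
  rfl

theorem Strat.of_constructible_cover₀ [CompactSpace X] [QuasiSeparatedSpace X] {P : MorProp X}
    (hP : P.Stable) {κ : Type} [Finite κ] (T : κ → Scheme.{u}) (h : ∀ k, T k ⟶ X)
    (hi : ∀ k, IsImmersion (h k)) (hc : ∀ k, Topology.IsConstructible (Set.range (h k)))
    (hcov : (⋃ k, Set.range (h k)) = Set.univ) (hPh : ∀ k, P (h k)) :
    Strat (Set.univ : Set X) P := by
  classical
  have hdec : ∀ k, ∃ O G : Set X, IsOpen O ∧ IsCompact O ∧ IsOpen G ∧ IsCompact G ∧
      Set.range (h k) = O \ G := fun k =>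
    haveI := hi k
    exists_compact_open_decomp (hc k) (h k).isLocallyClosed_range
  choose O G hOo hOc hGo hGc hA using hdec
  let Gen : κ ⊕ κ → Set X := Sum.elim O G
  have hGeno : ∀ l, IsOpen (Gen l) := by
    rintro (k | k)
    exacts [hOo k, hGo k]
  have hGenc : ∀ l, IsCompact (Gen l) := by
    rintro (k | k)
    exacts [hOc k, hGc k]
  let D : (κ ⊕ κ) → Bool → Set X := fun l b => if b = true then Gen l else (Gen l)ᶜ
  let B : (κ ⊕ κ → Bool) → Set X := fun ε => ⋂ l, D l (ε l)
  have hDlc : ∀ l b, IsLocallyClosed (D l b) := by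
    intro l b
    cases b
    · exact (hGeno l).isClosed_compl.isLocallyClosed
    · exact (hGeno l).isLocallyClosed
  have hDc : ∀ l b, Topology.IsConstructible (D l b) := by
    intro l b
    cases b
    · exact ((hGenc l).isConstructible (hGeno l)).compl
    · exact (hGenc l).isConstructible (hGeno l)
  have hBc : ∀ ε, Topology.IsConstructible (B ε) := fun ε => .iInter fun l => hDc l (ε l)
  have hBlc : ∀ ε, IsLocallyClosed (B ε) := fun ε => isLocallyClosed_iInter fun l => hDlc l (ε l)
  let εx : X → (κ ⊕ κ → Bool) := fun x l => decide (x ∈ Gen l)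
  have hmemD : ∀ (x : X) l b, x ∈ D l b ↔ b = decide (x ∈ Gen l) := by
    intro x l b
    cases b <;> simp [D]
  have hmemB : ∀ (x : X) ε, x ∈ B ε ↔ ε = εx x := by
    intro x ε
    simp only [B, Set.mem_iInter, hmemD]
    exact ⟨fun h => funext h, fun h l => congrFun h l⟩
  let I := {ε : κ ⊕ κ → Bool // (B ε).Nonempty}
  have hsub : ∀ ε : I, ∃ k, B ε.1 ⊆ Set.range (h k) := by
    rintro ⟨ε, x, hx⟩
    have hxc : x ∈ ⋃ k, Set.range (h k) := by
      rw [hcov]
      trivial
    obtain ⟨k, hk⟩ := Set.mem_iUnion.1 hxc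
    refine ⟨k, fun y hy => ?_⟩
    have hxy : εx y = εx x := ((hmemB y ε).1 hy).symm.trans ((hmemB x ε).1 hx)
    rw [hA k] at hk ⊢
    have h1 : decide (y ∈ O k) = decide (x ∈ O k) := congrFun hxy (Sum.inl k)
    have h2 : decide (y ∈ G k) = decide (x ∈ G k) := congrFun hxy (Sum.inr k)
    exact ⟨(decide_eq_decide.1 h1).2 hk.1, fun hy' => hk.2 ((decide_eq_decide.1 h2).1 hy')⟩
  choose kk hkk using hsub
  have hex : ∀ ε : I, ∃ (T' : Scheme.{u}) (j : T' ⟶ T (kk ε)), IsImmersion j ∧
      Set.range j = (h (kk ε)) ⁻¹' (B ε.1) := fun ε =>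
    exists_immersion_of_isLocallyClosed _ _ ((hBlc ε.1).preimage (h (kk ε)).continuous)
  choose T' j hj1 hj2 using hex
  have hr : ∀ ε : I, Set.range (j ε ≫ h (kk ε)) = B ε.1 := by
    intro ε
    rw [range_comp, hj2, Set.image_preimage_eq_inter_range]
    exact Set.inter_eq_left.2 (hkk ε)
  refine ⟨I, inferInstance, T', fun ε => j ε ≫ h (kk ε), fun ε => ?_, fun ε => ?_, ?_, ?_,
    fun ε => hP _ _ (hPh _)⟩
  · haveI := hj1 ε
    haveI := hi (kk ε)
    infer_instance
  · rw [hr]
    exact (hBc ε.1).preimage_of_isOpenEmbedding isOpen_univ.isOpenEmbedding_subtypeVal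
  · intro ε ε' hne
    show Disjoint (Set.range (j ε ≫ h (kk ε))) (Set.range (j ε' ≫ h (kk ε')))
    rw [hr, hr, Set.disjoint_left]
    intro x hx hx'
    exact hne (Subtype.ext (((hmemB x _).1 hx).trans ((hmemB x _).1 hx').symm))
  · refine Set.eq_univ_of_forall fun x => ?_
    have hxB : x ∈ B (εx x) := (hmemB x _).2 rfl
    exact Set.mem_iUnion.2 ⟨⟨εx x, x, hxB⟩, by rw [hr]; exact hxB⟩

theorem constructible_of_constructible_strata (X : Scheme.{u}) [CompactSpace X]
    [QuasiSeparatedSpace X] (F : EtCoh.Ab X) {ι : Type u} (T : ι → Scheme.{u})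
    (g : ∀ i, T i ⟶ X) [∀ i, IsImmersion (g i)]
    (hc : ∀ i, Topology.IsConstructible (Set.range (g i)))
    (hcov : (⋃ i, Set.range (g i)) = Set.univ)
    (h : ∀ i, EtPBC.IsConstructible ((EtCoh.pull (g i)).obj F)) :
    EtPBC.IsConstructible F := by
  classical
  obtain ⟨t, ht⟩ := exists_finite_subcover_of_isConstructible (fun i => Set.range (g i)) hc hcov
  have hstr : ∀ i, Strat ((g i) '' Set.univ) (flcP F) := by
    intro i
    haveI : CompactSpace (T i) := by
      rw [← isCompact_univ_iff, (g i).isEmbedding.isCompact_iff, Set.image_univ]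
      exact isCompact_of_isConstructible (hc i)
    haveI : QuasiSeparatedSpace (T i) := quasiSeparatedSpace_of_quasiSeparated (g i)
    have h1 := strat_univ_of_constructible _ (h i)
    exact Strat.map (g i) (h1.mono fun T' g' hg' => (flcP_pull_iff (g i) F g').1 hg')
  choose ι' hι' T' h' a1 a2 a3 a4 a5 using hstr
  haveI := hι'
  obtain ⟨m, ⟨e⟩⟩ := Finite.exists_equiv_fin ↥t
  have hsubr : ∀ i (k : ι' i), Set.range (h' i k) ⊆ (g i) '' Set.univ := fun i k => by
    rw [← a4 i]
    exact Set.subset_iUnion (fun k => Set.range (h' i k)) k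
  refine constructible_of_strat_univ F (Strat.of_constructible_cover₀ (flcP_stable F)
    (κ := Σ j : Fin m, ι' (e.symm j).1)
    (fun p => T' _ p.2) (fun p => h' _ p.2) (fun p => a1 _ _) (fun p => ?_) ?_ (fun p => a5 _ _))
  · have := isConstructible_image_val (R := (g (e.symm p.1).1) '' Set.univ)
      (by rw [Set.image_univ]; exact hc _) (a2 _ p.2)
    rwa [Subtype.image_preimage_coe, Set.inter_eq_right.2 (hsubr _ _)] at this
  · refine Set.eq_univ_of_forall fun x => ?_
    have hx : x ∈ ⋃ i ∈ t, Set.range (g i) := by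
      rw [ht]
      trivial
    obtain ⟨i, hit, hxi⟩ := Set.mem_iUnion₂.1 hx
    have hx' : x ∈ ⋃ k, Set.range (h' i k) := by
      rw [a4 i, Set.image_univ]
      exact hxi
    obtain ⟨k, hk⟩ := Set.mem_iUnion.1 hx'
    have key : ∀ (q : ↥t) (k : ι' q.1), x ∈ Set.range (h' q.1 k) →
        x ∈ ⋃ p : Σ j : Fin m, ι' (e.symm j).1, Set.range (h' _ p.2) := by
      intro q
      obtain ⟨j, rfl⟩ := e.symm.surjective q
      intro k hk
      exact Set.mem_iUnion.2 ⟨⟨j, k⟩, hk⟩
    exact key ⟨i, hit⟩ k hk

end H9FE.CsStrata
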