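import Mathlib
import Groth.Agent.Lib.Helper9.FE.CsGlue

/-! helper9: pulling back a finite stratification of an affine open along a morphism of schemes;
inverse images of constructible abelian étale sheaves are constructible. -/

set_option autoImplicit false
set_option linter.unusedSectionVars false
set_option linter.style.haveILetI false
set_option backward.isDefEq.respectTransparency false
universe u
open CategoryTheory CategoryTheory.Limits AlgebraicGeometry Opposite

namespace H9FE.CsStrata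

theorem Strat.baseChange {X Y : Scheme.{u}} (f : X ⟶ Y) {V : Y.Opens} (hV : IsAffineOpen V)
    {W : X.Opens} (hW : IsAffineOpen W) (hWV : W ≤ f ⁻¹ᵁ V) {P : MorProp Y} (hP : P.Stable)
    (h : Strat (V : Set Y) P) : Strat (W : Set X) (fun _ g => P (g ≫ f)) := by
  obtain ⟨ι, hι, T, g, h1, h2, h3, h4, h5⟩ := h
  let r : W.toScheme ⟶ V.toScheme := f.resLE V W hWV
  have hrι : r ≫ V.ι = W.ι ≫ f := Scheme.Hom.resLE_comp_ι f hWV
  have hrpt : ∀ w : W.toScheme, (r w).1 = f w.1 := by
    intro w
    exact congrArg (fun φ : W.toScheme ⟶ Y => φ w) hrι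
  haveI : IsAffine W.toScheme := hW
  haveI : IsAffine V.toScheme := hV
  have hrange : ∀ i, Set.range (pullback.snd (g i) (W.ι ≫ f) ≫ W.ι) =
      f ⁻¹' Set.range (g i) ∩ (W : Set X) := by
    intro i
    rw [range_comp, Scheme.Pullback.range_snd]
    have : ((W.ι ≫ f : W.toScheme ⟶ Y) : W.toScheme → Y) ⁻¹' Set.range (g i) =
        W.ι ⁻¹' (f ⁻¹' Set.range (g i)) := rfl
    rw [this, Set.image_preimage_eq_inter_range, Scheme.Opens.range_ι]
  refine ⟨ι, hι, fun i => pullback (g i) (W.ι ≫ f), fun i => pullback.snd (g i) (W.ι ≫ f) ≫ W.ι,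
    fun i => ?_, fun i => ?_, ?_, ?_, fun i => ?_⟩
  · haveI := h1 i
    infer_instance
  · rw [hrange]
    haveI : CompactSpace V.toScheme := inferInstance
    haveI : QuasiSeparatedSpace W.toScheme := inferInstance
    have : (Subtype.val : ↥(W : Set X) → X) ⁻¹' (f ⁻¹' Set.range (g i) ∩ (W : Set X)) =
        (r : W.toScheme → V.toScheme) ⁻¹'
          ((Subtype.val : ↥(V : Set Y) → Y) ⁻¹' Set.range (g i)) := by
      ext w
      simp only [Set.mem_preimage, Set.mem_inter_iff]
      rw [hrpt]
      exact ⟨fun h => h.1, fun h => ⟨h, w.2⟩⟩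
    rw [this]
    refine (h2 i).preimage r.continuous ?_
    intro s hso hsr
    have hsc : IsCompact s := hsr.isCompact
    exact (r.isCompact_preimage (U := ⟨s, hso⟩) hsc).isRetrocompact (hso.preimage r.continuous)
  · intro i j hij
    show Disjoint (Set.range (pullback.snd (g i) (W.ι ≫ f) ≫ W.ι))
      (Set.range (pullback.snd (g j) (W.ι ≫ f) ≫ W.ι))
    rw [hrange, hrange]
    refine Disjoint.mono Set.inter_subset_left Set.inter_subset_left ?_
    exact (h3 hij).preimage f
  · simp only [hrange]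
    rw [← Set.iUnion_inter, ← Set.preimage_iUnion, h4]
    exact Set.inter_eq_right.2 hWV
  · show P ((pullback.snd (g i) (W.ι ≫ f) ≫ W.ι) ≫ f)
    rw [Category.assoc, ← pullback.condition]
    exact hP _ _ (h5 i)

theorem pullback_constructible {X Y : Scheme.{u}} (f : X ⟶ Y) (F : EtCoh.Ab Y)
    (hF : EtPBC.IsConstructible F) : EtPBC.IsConstructible ((EtCoh.pull f).obj F) := by
  intro U hU
  rw [adapted_iff]
  refine Strat.of_local (flcP_stable _) U.isOpen hU.isCompact hU.isQuasiSeparated ?_
  intro x hxU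
  obtain ⟨V, hVa, hxV, -⟩ := exists_affine_nhd (⊤ : Y.Opens) (f x) trivial
  obtain ⟨W, hWa, hxW, hWle⟩ := exists_affine_nhd (U ⊓ f ⁻¹ᵁ V) x ⟨hxU, hxV⟩
  refine ⟨W, hWa, hxW, fun y hy => (hWle hy).1, ?_⟩
  have h1 := Strat.baseChange f hVa hWa (fun y hy => (hWle hy).2) (flcP_stable F)
    ((adapted_iff _ _).1 (hF V hVa))
  exact h1.mono fun T g hg => (flcP_pull_iff f F g).2 hg

end H9FE.CsStrata
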