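import Mathlib
import Groth.Agent.Lib.Helper9.FE.CsCons
import Groth.Agent.Lib.Helper9.FE.CsPb
import Groth.Agent.Lib.Helper9.FE.ConstUnit
import Groth.Agent.Lib.Helper9.FE.ConstSiteOver
import Groth.Agent.S6645

/-! helper9: a subsheaf of a sheaf which is constant over an irreducible étale object becomes
constant on a nonempty étale object over it; consequently a subsheaf of a finite locally constant
sheaf on an irreducible locally Noetherian scheme is finite locally constant on a nonempty open. -/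

set_option autoImplicit false
set_option linter.unusedSectionVars false
set_option linter.style.haveILetI false
set_option backward.isDefEq.respectTransparency false
universe u
open CategoryTheory CategoryTheory.Limits AlgebraicGeometry Opposite Topology

namespace H9FE.CsSub
open H9FE.ConstSite H9FE.ConstUnit Groth.Agent.S14453.Aux H9FE.CsStrata

variable {W : Scheme.{u}}

theorem bot_mem_iff (Z : W.Etale) :
    (⊥ : Sieve Z) ∈ W.smallEtaleTopology Z ↔ IsEmpty Z.left := by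
  rw [mem_et_iff]
  constructor
  · intro h
    refine ⟨fun x => ?_⟩
    obtain ⟨_, _, _, hb, -, -⟩ := h x
    exact hb
  · intro h x
    exact (h.false x).elim

theorem exists_const_sub {F G : EtCoh.Ab W} (ι : G ⟶ F) [Mono ι] (U : W.Etale)
    [IrreducibleSpace U.left] (M : AddCommGrpCat.{u + 1}) [Finite M]
    (α : F.over U ≅ ConstSite.cS.{u + 1, u, u + 1} (W.smallEtaleTopology.over U) M) :
    ∃ (V₀ : W.Etale) (_ : V₀ ⟶ U), Nonempty V₀.left ∧ ∃ (H : AddCommGrpCat.{u + 1}) (_ : Finite H),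
      Nonempty (G.over V₀ ≅ ConstSite.cS.{u + 1, u, u + 1} (W.smallEtaleTopology.over V₀) H) := by
  classical
  let J := W.smallEtaleTopology
  have hinj : ∀ Z : W.Etale, Function.Injective (ι.hom.app (op Z)) := fun Z =>
    H9FE.ConstSite.injective_of_mono.{u + 1, u, u + 1} J ι Z
  let Good : M → (V : W.Etale) → (V ⟶ U) → Prop := fun m V g =>
    ∃ s : G.obj.obj (op V), ι.hom.app (op V) s = F.obj.map g.op (gen.{u + 1, u, u + 1} J F U α m)
  have good_res : ∀ (m : M) (V : W.Etale) (g : V ⟶ U) (V' : W.Etale) (k : V' ⟶ V),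
      Good m V g → Good m V' (k ≫ g) := by
    rintro m V g V' k ⟨s, hs⟩
    refine ⟨G.obj.map k.op s, ?_⟩
    rw [nat_app.{u + 1, u, u + 1} J ι k s, hs, map_map.{u + 1, u, u + 1}]
  have hprod : ∀ (V₁ V₂ : W.Etale) (g₁ : V₁ ⟶ U) (g₂ : V₂ ⟶ U), Nonempty V₁.left →
      Nonempty V₂.left → Nonempty (prodObj W g₁ g₂).left := by
    rintro V₁ V₂ g₁ g₂ ⟨y₁⟩ ⟨y₂⟩
    have ho₁ : IsOpen (Set.range g₁.left) := g₁.left.isOpenMap.isOpen_range
    have ho₂ : IsOpen (Set.range g₂.left) := g₂.left.isOpenMap.isOpen_range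
    obtain ⟨v, ⟨z₁, hz₁⟩, ⟨z₂, hz₂⟩⟩ := nonempty_preirreducible_inter ho₁ ho₂
      ⟨_, y₁, rfl⟩ ⟨_, y₂, rfl⟩
    obtain ⟨z, -, -⟩ := Scheme.Pullback.exists_preimage_pullback (f := g₁.left) (g := g₂.left)
      z₁ z₂ (hz₁.trans hz₂.symm)
    exact ⟨z⟩
  let H : AddSubgroup M :=
    { carrier := {m | ∃ (V : W.Etale) (g : V ⟶ U), Nonempty V.left ∧ Good m V g}
      zero_mem' := ⟨U, 𝟙 U, inferInstance, 0, by rw [map_zero, map_zero, map_zero]⟩
      add_mem' := by
        rintro m₁ m₂ ⟨V₁, g₁, hn₁, h₁⟩ ⟨V₂, g₂, hn₂, h₂⟩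
        refine ⟨prodObj W g₁ g₂, prodFst W g₁ g₂ ≫ g₁, hprod _ _ _ _ hn₁ hn₂, ?_⟩
        obtain ⟨s₁, hs₁⟩ := good_res _ _ _ _ (prodFst W g₁ g₂) h₁
        obtain ⟨s₂, hs₂⟩ := good_res _ _ _ _ (prodSnd W g₁ g₂) h₂
        rw [← prod_condition] at hs₂
        exact ⟨s₁ + s₂, by rw [map_add, hs₁, hs₂, map_add, map_add]⟩
      neg_mem' := by
        rintro m ⟨V, g, hn, s, hs⟩
        exact ⟨V, g, hn, -s, by rw [map_neg, hs, map_neg, map_neg]⟩ }
  have hcommon : ∀ t : Finset H, ∃ (V : W.Etale) (g : V ⟶ U), Nonempty V.left ∧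
      ∀ m ∈ t, Good m.1 V g := by
    intro t
    induction t using Finset.induction_on with
    | empty => exact ⟨U, 𝟙 U, inferInstance, fun m hm => (Finset.notMem_empty m hm).elim⟩
    | insert a t _ ih =>
      obtain ⟨V, g, hn, hg⟩ := ih
      obtain ⟨V', g', hn', hg'⟩ := a.2
      refine ⟨prodObj W g g', prodFst W g g' ≫ g, hprod _ _ _ _ hn hn', ?_⟩
      intro m hm
      rcases Finset.mem_insert.1 hm with rfl | hm
      · have := good_res _ _ _ _ (prodSnd W g g') hg'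
        rwa [← prod_condition] at this
      · exact good_res _ _ _ _ (prodFst W g g') (hg m hm)
  haveI : Fintype H := Fintype.ofFinite H
  obtain ⟨V₀, g₀, hV₀, hgood⟩ := hcommon Finset.univ
  choose σ hσ using fun m : H => hgood m (Finset.mem_univ m)
  let γ : H →+ G.obj.obj (op V₀) :=
    { toFun := σ
      map_zero' := hinj V₀ (by
        rw [hσ, map_zero]
        show F.obj.map g₀.op (gen.{u + 1, u, u + 1} J F U α 0) = 0
        rw [map_zero, map_zero])
      map_add' := fun a b => hinj V₀ (by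
        rw [hσ, map_add, hσ, hσ]
        show F.obj.map g₀.op (gen.{u + 1, u, u + 1} J F U α (a.1 + b.1)) = _
        rw [map_add, map_add]) }
  refine ⟨V₀, g₀, hV₀, AddCommGrpCat.of H, inferInstanceAs (Finite H), ?_⟩
  apply nonempty_iso_of_crit.{u + 1, u, u + 1} J G V₀ γ
  · intro Z z x hx
    have h1 : F.obj.map (z ≫ g₀).op (gen.{u + 1, u, u + 1} J F U α x.1) =
        F.obj.map (z ≫ g₀).op (gen.{u + 1, u, u + 1} J F U α 0) := by
      rw [← map_map.{u + 1, u, u + 1} J F z g₀, ← hσ x, ← nat_app.{u + 1, u, u + 1} J ι z]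
      have : G.obj.map z.op (σ x) = 0 := hx
      rw [this, map_zero, map_zero, map_zero]
    rcases gen_inj.{u + 1, u, u + 1} J F U α (z ≫ g₀) x.1 0 h1 with h2 | h2
    · exact Or.inl (Subtype.ext h2)
    · exact Or.inr h2
  · intro Z z s
    obtain ⟨S, hS, hprop⟩ := gen_surj.{u + 1, u, u + 1} J F U α (z ≫ g₀) (ι.hom.app (op Z) s)
    refine ⟨S, hS, ?_⟩
    intro Z' k hk
    obtain ⟨m, hm⟩ := hprop k hk
    by_cases hZ' : IsEmpty Z'.left
    · refine ⟨0, ?_⟩
      exact eq_of_bot.{u + 1, u, u + 1} J G ((bot_mem_iff Z').2 hZ') _ _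
    · rw [not_isEmpty_iff] at hZ'
      have hgm : Good m Z' (k ≫ z ≫ g₀) := ⟨G.obj.map k.op s, by
        rw [nat_app.{u + 1, u, u + 1} J ι k s, hm]⟩
      refine ⟨⟨m, Z', k ≫ z ≫ g₀, hZ', hgm⟩, ?_⟩
      apply hinj Z'
      rw [nat_app.{u + 1, u, u + 1} J ι k s, hm, nat_app.{u + 1, u, u + 1} J ι (k ≫ z)]
      show _ = F.obj.map (k ≫ z).op (ι.hom.app (op V₀) (σ ⟨m, _⟩))
      rw [hσ, map_map.{u + 1, u, u + 1}, Category.assoc]

theorem irreducibleSpace_of_isInducing {A B : Type*} [TopologicalSpace A] [TopologicalSpace B]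
    (f : A → B) (hf : IsInducing f) (h : IsIrreducible (Set.range f)) : IrreducibleSpace A := by
  haveI : Nonempty A := by
    obtain ⟨_, a, rfl⟩ := h.nonempty
    exact ⟨a⟩
  haveI : PreirreducibleSpace A := PreirreducibleSpace.of_forall_nonempty_inter (by
    rintro u v hu hv ⟨a, hau⟩ ⟨b, hbv⟩
    obtain ⟨u', hu', rfl⟩ := hf.isOpen_iff.1 hu
    obtain ⟨v', hv', rfl⟩ := hf.isOpen_iff.1 hv
    obtain ⟨_, ⟨c, rfl⟩, hcu, hcv⟩ := h.2 u' v' hu' hv' ⟨f a, ⟨a, rfl⟩, hau⟩ ⟨f b, ⟨b, rfl⟩, hbv⟩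
    exact ⟨c, hcu, hcv⟩)
  exact { toNonempty := inferInstance }

theorem exists_irreducible_open (Y : Scheme.{u}) [IsLocallyNoetherian Y] (y : Y) :
    ∃ O : Y.Opens, (O : Set Y).Nonempty ∧ IsIrreducible (O : Set Y) := by
  obtain ⟨A, hA, hyA, -⟩ := exists_affine_nhd (⊤ : Y.Opens) y trivial
  haveI : IsNoetherianRing Γ(Y, A) := IsLocallyNoetherian.component_noetherian ⟨A, hA⟩
  let A' : Set Y := (A : Set Y)
  haveI : TopologicalSpace.NoetherianSpace ↥A' := by
    exact noetherianSpace_of_isAffineOpen A hA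
  let C : Set ↥A' := irreducibleComponent (⟨y, hyA⟩ : ↥A')
  have hC : C ∈ irreducibleComponents ↥A' := irreducibleComponent_mem_irreducibleComponents _
  obtain ⟨o, ho, hone, hoC⟩ :=
    TopologicalSpace.NoetherianSpace.exists_isOpen_nonempty_subset_irreducibleComponent C hC
  have hoirr : IsIrreducible o :=
    ⟨hone, isIrreducible_irreducibleComponent.isPreirreducible.open_subset ho hoC⟩
  exact ⟨⟨Subtype.val '' o, A.isOpen.isOpenMap_subtype_val o ho⟩, hone.image _,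
    hoirr.image _ continuous_subtype_val.continuousOn⟩

theorem exists_open_flc_sub [IrreducibleSpace W] [IsLocallyNoetherian W] {F G : EtCoh.Ab W}
    (ι : G ⟶ F) [Mono ι] (hF : EtCoh.IsFiniteLocallyConstant F) :
    ∃ W₀ : W.Opens, (W₀ : Set W).Nonempty ∧
      EtCoh.IsFiniteLocallyConstant ((EtCoh.pull W₀.ι).obj G) := by
  obtain ⟨κ, U, hU, hα⟩ := hF
  obtain ⟨i, y, -⟩ := hU (Classical.arbitrary W)
  obtain ⟨M₀, iM, fM, ⟨α⟩⟩ := hα i
  haveI : Etale (U i).hom := (U i).prop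
  haveI : IsLocallyNoetherian (U i).left := LocallyOfFiniteType.isLocallyNoetherian (Y := W) (U i).hom
  obtain ⟨O, hOne, hOirr⟩ := exists_irreducible_open (U i).left y
  let U' : W.Etale := Scheme.Etale.mk (O.ι ≫ (U i).hom)
  let j : U' ⟶ U i := MorphismProperty.Over.homMk O.ι rfl
  haveI : IrreducibleSpace U'.left := Subtype.irreducibleSpace hOirr
  let M : AddCommGrpCat.{u + 1} := AddCommGrpCat.of (ULift.{u + 1} M₀)
  haveI : Finite M := inferInstanceAs (Finite (ULift.{u + 1} M₀))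
  let α' := restrictIso.{u + 1, u, u + 1} W.smallEtaleTopology j α
  obtain ⟨V₀, g₀, hV₀, H, hH, ⟨β⟩⟩ := exists_const_sub ι U' M α'
  haveI : Etale V₀.hom := V₀.prop
  let W₀ : W.Opens := ⟨Set.range V₀.hom, V₀.hom.isOpenMap.isOpen_range⟩
  refine ⟨W₀, ?_, ?_⟩
  · obtain ⟨v⟩ := hV₀
    exact ⟨_, v, rfl⟩
  · obtain ⟨β'⟩ := CsPull.over_pull_const W₀.ι G V₀ H β
    refine Groth.Agent.S6645.Aux.flc_of_finConst _
      (fun _ : PUnit.{u + 1} => (EtCoh.bc W₀.ι).obj V₀) ?_ (fun _ => ⟨H, hH, ⟨β'⟩⟩)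
    intro x
    obtain ⟨v, hv⟩ := x.2
    obtain ⟨z, -, hz⟩ := Scheme.Pullback.exists_preimage_pullback (f := V₀.hom) (g := W₀.ι) v x hv
    exact ⟨PUnit.unit, z, hz⟩

end H9FE.CsSub
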