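import Mathlib
import Groth.Agent.Lib.Helper9.FE.CsSub
import Groth.Agent.Lib.Helper5.Misc.EtStalk

/-! helper9: chains of subsheaves of a sheaf which is constant (with finite value) over an irreducible
étale object: the chain becomes stationary, locally for the étale topology, over a nonempty étale
object; consequence for geometric stalks. -/

set_option autoImplicit false
set_option linter.unusedSectionVars false
set_option linter.style.haveILetI false
set_option backward.isDefEq.respectTransparency false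
universe u
open CategoryTheory CategoryTheory.Limits AlgebraicGeometry Opposite Topology

namespace H9FE.CsAcc
open H9FE.ConstSite H9FE.ConstUnit Groth.Agent.S14453.Aux H9FE.CsStrata H9FE.CsSub

variable {W : Scheme.{u}}

section GenSub

variable {E : EtCoh.Ab W} (U : W.Etale) [IrreducibleSpace U.left] {M : AddCommGrpCat.{u + 1}}
  (α : E.over U ≅ ConstSite.cS.{u + 1, u, u + 1} (W.smallEtaleTopology.over U) M)

/-- the constant section `m` restricted along `g` comes from the subsheaf -/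
def Good {G : EtCoh.Ab W} (a : G ⟶ E) (m : M) (V : W.Etale) (g : V ⟶ U) : Prop :=
  ∃ s : G.obj.obj (op V), a.hom.app (op V) s =
    E.obj.map g.op (gen.{u + 1, u, u + 1} W.smallEtaleTopology E U α m)

theorem good_res {G : EtCoh.Ab W} (a : G ⟶ E) (m : M) (V : W.Etale) (g : V ⟶ U) (V' : W.Etale)
    (k : V' ⟶ V) (h : Good U α a m V g) : Good U α a m V' (k ≫ g) := by
  obtain ⟨s, hs⟩ := h
  refine ⟨G.obj.map k.op s, ?_⟩
  rw [nat_app.{u + 1, u, u + 1} W.smallEtaleTopology a k s, hs, map_map.{u + 1, u, u + 1}]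

theorem nonempty_prod (V₁ V₂ : W.Etale) (g₁ : V₁ ⟶ U) (g₂ : V₂ ⟶ U) (h₁ : Nonempty V₁.left)
    (h₂ : Nonempty V₂.left) : Nonempty (prodObj W g₁ g₂).left := by
  obtain ⟨y₁⟩ := h₁
  obtain ⟨y₂⟩ := h₂
  have ho₁ : IsOpen (Set.range g₁.left) := g₁.left.isOpenMap.isOpen_range
  have ho₂ : IsOpen (Set.range g₂.left) := g₂.left.isOpenMap.isOpen_range
  obtain ⟨v, ⟨z₁, hz₁⟩, ⟨z₂, hz₂⟩⟩ := nonempty_preirreducible_inter ho₁ ho₂
    ⟨_, y₁, rfl⟩ ⟨_, y₂, rfl⟩
  obtain ⟨z, -, -⟩ := Scheme.Pullback.exists_preimage_pullback (f := g₁.left) (g := g₂.left)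
    z₁ z₂ (hz₁.trans hz₂.symm)
  exact ⟨z⟩

/-- the subgroup of constants which generically lie in the subsheaf -/
def genSub {G : EtCoh.Ab W} (a : G ⟶ E) : AddSubgroup M where
  carrier := {m | ∃ (V : W.Etale) (g : V ⟶ U), Nonempty V.left ∧ Good U α a m V g}
  zero_mem' := ⟨U, 𝟙 U, inferInstance, 0, by rw [map_zero, map_zero, map_zero]⟩
  add_mem' := by
    rintro m₁ m₂ ⟨V₁, g₁, hn₁, h₁⟩ ⟨V₂, g₂, hn₂, h₂⟩
    refine ⟨prodObj W g₁ g₂, prodFst W g₁ g₂ ≫ g₁, nonempty_prod U _ _ _ _ hn₁ hn₂, ?_⟩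
    obtain ⟨s₁, hs₁⟩ := good_res U α a _ _ _ _ (prodFst W g₁ g₂) h₁
    obtain ⟨s₂, hs₂⟩ := good_res U α a _ _ _ _ (prodSnd W g₁ g₂) h₂
    rw [← prod_condition] at hs₂
    exact ⟨s₁ + s₂, by rw [map_add, hs₁, hs₂, map_add, map_add]⟩
  neg_mem' := by
    rintro m ⟨V, g, hn, s, hs⟩
    exact ⟨V, g, hn, -s, by rw [map_neg, hs, map_neg, map_neg]⟩

theorem genSub_mono {G G' : EtCoh.Ab W} (a : G ⟶ E) (a' : G' ⟶ E) (b : G ⟶ G') (hb : b ≫ a' = a) :
    genSub U α a ≤ genSub U α a' := by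
  rintro m ⟨V, g, hn, s, hs⟩
  refine ⟨V, g, hn, b.hom.app (op V) s, ?_⟩
  rw [← hs, ← hb]
  rfl

theorem genSub_common [Finite M] {G : EtCoh.Ab W} (a : G ⟶ E) :
    ∃ (V₀ : W.Etale) (g₀ : V₀ ⟶ U), Nonempty V₀.left ∧
      ∀ m ∈ genSub U α a, Good U α a m V₀ g₀ := by
  classical
  have hcommon : ∀ t : Finset (genSub U α a), ∃ (V : W.Etale) (g : V ⟶ U), Nonempty V.left ∧
      ∀ m ∈ t, Good U α a m.1 V g := by
    intro t
    induction t using Finset.induction_on with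
    | empty => exact ⟨U, 𝟙 U, inferInstance, fun m hm => (Finset.notMem_empty m hm).elim⟩
    | insert x t _ ih =>
      obtain ⟨V, g, hn, hg⟩ := ih
      obtain ⟨V', g', hn', hg'⟩ := x.2
      refine ⟨prodObj W g g', prodFst W g g' ≫ g, nonempty_prod U _ _ _ _ hn hn', ?_⟩
      intro m hm
      rcases Finset.mem_insert.1 hm with rfl | hm
      · have := good_res U α a _ _ _ _ (prodSnd W g g') hg'
        rwa [← prod_condition] at this
      · exact good_res U α a _ _ _ _ (prodFst W g g') (hg m hm)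
  haveI : Fintype (genSub U α a) := Fintype.ofFinite _
  obtain ⟨V₀, g₀, hV₀, hgood⟩ := hcommon Finset.univ
  exact ⟨V₀, g₀, hV₀, fun m hm => hgood ⟨m, hm⟩ (Finset.mem_univ _)⟩

theorem genSub_local {G : EtCoh.Ab W} (a : G ⟶ E) (Z' : W.Etale) (z : Z' ⟶ U)
    (s : G.obj.obj (op Z')) :
    ∃ S : Sieve Z', S ∈ W.smallEtaleTopology Z' ∧ ∀ {Z'' : W.Etale} (k : Z'' ⟶ Z'), S k →
      IsEmpty Z''.left ∨ ∃ m ∈ genSub U α a, a.hom.app (op Z'') (G.obj.map k.op s) =
        E.obj.map (k ≫ z).op (gen.{u + 1, u, u + 1} W.smallEtaleTopology E U α m) := by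
  obtain ⟨S, hS, hprop⟩ := gen_surj.{u + 1, u, u + 1} W.smallEtaleTopology E U α z
    (a.hom.app (op Z') s)
  refine ⟨S, hS, ?_⟩
  intro Z'' k hk
  obtain ⟨m, hm⟩ := hprop k hk
  by_cases hZ : IsEmpty Z''.left
  · exact Or.inl hZ
  · rw [not_isEmpty_iff] at hZ
    have h1 : a.hom.app (op Z'') (G.obj.map k.op s) =
        E.obj.map (k ≫ z).op (gen.{u + 1, u, u + 1} W.smallEtaleTopology E U α m) := by
      rw [nat_app.{u + 1, u, u + 1} W.smallEtaleTopology a k s, hm]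
    exact Or.inr ⟨m, ⟨Z'', k ≫ z, hZ, _, h1⟩, h1⟩

end GenSub

/-- a chain of subsheaves of a sheaf constant over an irreducible étale object is locally
stationary over a nonempty étale object -/
theorem chain_stabilizes_local {E : EtCoh.Ab W} (G : ℕ → EtCoh.Ab W) (a : ∀ n, G n ⟶ E)
    [∀ n, Mono (a n)] (b : ∀ n m, n ≤ m → (G n ⟶ G m))
    (hb : ∀ n m (h : n ≤ m), b n m h ≫ a m = a n) (U : W.Etale) [IrreducibleSpace U.left]
    (M : AddCommGrpCat.{u + 1}) [Finite M]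
    (α : E.over U ≅ ConstSite.cS.{u + 1, u, u + 1} (W.smallEtaleTopology.over U) M) :
    ∃ (N₁ : ℕ) (V₀ : W.Etale) (_ : V₀ ⟶ U), Nonempty V₀.left ∧
      ∀ (m : ℕ) (hm : N₁ ≤ m) (Z' : W.Etale) (_ : Z' ⟶ V₀) (s : (G m).obj.obj (op Z')),
        ∃ S : Sieve Z', S ∈ W.smallEtaleTopology Z' ∧ ∀ {Z'' : W.Etale} (k : Z'' ⟶ Z'), S k →
          ∃ s₁ : (G N₁).obj.obj (op Z''),
            (b N₁ m hm).hom.app (op Z'') s₁ = (G m).obj.map k.op s := by
  let J := W.smallEtaleTopology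
  have hinj : ∀ n (Z : W.Etale), Function.Injective ((a n).hom.app (op Z)) := fun n Z =>
    H9FE.ConstSite.injective_of_mono.{u + 1, u, u + 1} J (a n) Z
  let Hn : ℕ →o AddSubgroup M :=
    { toFun := fun n => genSub U α (a n)
      monotone' := fun n m h => genSub_mono U α (a n) (a m) (b n m h) (hb n m h) }
  haveI : Finite (AddSubgroup M) := Finite.of_injective (fun H : AddSubgroup M => (H : Set M))
    SetLike.coe_injective
  obtain ⟨N₁, hN₁⟩ := (wellFoundedGT_iff_monotone_chain_condition (α := AddSubgroup M)).1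
    inferInstance Hn
  obtain ⟨V₀, g₀, hV₀, hgood⟩ := genSub_common U α (a N₁)
  refine ⟨N₁, V₀, g₀, hV₀, ?_⟩
  intro m hm Z' z s
  obtain ⟨S, hS, hprop⟩ := genSub_local U α (a m) Z' (z ≫ g₀) s
  refine ⟨S, hS, ?_⟩
  intro Z'' k hk
  rcases hprop k hk with hZ | ⟨x, hx, hxs⟩
  · exact ⟨0, eq_of_bot.{u + 1, u, u + 1} J (G m) ((bot_mem_iff Z'').2 hZ) _ _⟩
  · have hx' : x ∈ genSub U α (a N₁) := by
      have : Hn N₁ = Hn m := hN₁ m hm
      exact (this ▸ hx : x ∈ Hn N₁)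
    obtain ⟨σ, hσ⟩ := hgood x hx'
    refine ⟨(G N₁).obj.map (k ≫ z).op σ, ?_⟩
    apply hinj m Z''
    rw [hxs]
    have h1 : (a m).hom.app (op Z'') ((b N₁ m hm).hom.app (op Z'') ((G N₁).obj.map (k ≫ z).op σ)) =
        (a N₁).hom.app (op Z'') ((G N₁).obj.map (k ≫ z).op σ) := by
      rw [← hb N₁ m hm]
      rfl
    rw [h1, nat_app.{u + 1, u, u + 1} J (a N₁) (k ≫ z) σ, hσ, map_map.{u + 1, u, u + 1},
      Category.assoc]

end H9FE.CsAcc
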