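import Mathlib
import Groth.Agent.Lib.Helper9.FE.CsAcc1
import Groth.Agent.Lib.Helper5.Misc.EtStalkPull

/-! helper9: surjectivity on geometric stalks from local surjectivity over an étale neighbourhood,
lifting geometric points along (pre)immersions, and transport of stalk surjectivity along inverse
images. -/

set_option autoImplicit false
set_option linter.unusedSectionVars false
set_option linter.style.haveILetI false
set_option backward.isDefEq.respectTransparency false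
universe u
open CategoryTheory CategoryTheory.Limits AlgebraicGeometry Opposite Topology

namespace H9FE.CsAcc
open H9FE.ConstSite H9FE.CsStrata H9FE.CsSub

attribute [local instance] Groth.Agent.Lib.Helper5.EtStalk.ab5' Groth.Agent.Lib.Helper5.EtStalk.pfc

variable {W : Scheme.{u}}

theorem stalk_surj_of_local {G₁ G₂ : EtCoh.Ab W} (b : G₁ ⟶ G₂) (V₀ : W.Etale)
    (hloc : ∀ (Z' : W.Etale) (_ : Z' ⟶ V₀) (s : G₂.obj.obj (op Z')), ∃ S : Sieve Z',
      S ∈ W.smallEtaleTopology Z' ∧ ∀ {Z'' : W.Etale} (k : Z'' ⟶ Z'), S k →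
        ∃ s₁ : G₁.obj.obj (op Z''), b.hom.app (op Z'') s₁ = G₂.obj.map k.op s)
    {Ω : Type u} [Field Ω] [IsSepClosed Ω] (ζ : Spec (CommRingCat.of Ω) ⟶ W)
    (y₀ : (Scheme.pointSmallEtale ζ).fiber.obj V₀) :
    Function.Surjective ((EtCoh.stalk ζ).map b) := by
  let Φ := Scheme.pointSmallEtale ζ
  intro p
  obtain ⟨X₀, x₀, z, rfl⟩ := Φ.toPresheafFiber_jointly_surjective (P := G₂.obj) p
  let e₁ : Φ.fiber.Elements := ⟨X₀, x₀⟩
  let e₂ : Φ.fiber.Elements := ⟨V₀, y₀⟩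
  let e := IsCofiltered.min e₁ e₂
  let f₁ : e ⟶ e₁ := IsCofiltered.minToLeft e₁ e₂
  let f₂ : e ⟶ e₂ := IsCofiltered.minToRight e₁ e₂
  obtain ⟨S, hS, hprop⟩ := hloc e.1 f₂.1 (G₂.obj.map f₁.1.op z)
  obtain ⟨Y', g, hg, y', hy'⟩ := Φ.jointly_surjective S hS e.2
  obtain ⟨s₁, hs₁⟩ := hprop g hg
  refine ⟨Φ.toPresheafFiber Y' y' G₁.obj s₁, ?_⟩
  have h1 : (EtCoh.stalk ζ).map b (Φ.toPresheafFiber Y' y' G₁.obj s₁) =
      Φ.toPresheafFiber Y' y' G₂.obj (b.hom.app (op Y') s₁) :=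
    Φ.toPresheafFiber_naturality_apply b.hom Y' y' s₁
  rw [h1, hs₁]
  have h2 := Φ.toPresheafFiber_w_apply g y' G₂.obj (G₂.obj.map f₁.1.op z)
  have h3 := Φ.toPresheafFiber_w_apply f₁.1 e.2 G₂.obj z
  rw [h2, hy', h3]
  exact congrArg (fun t => Φ.toPresheafFiber X₀ t G₂.obj z) f₁.2

theorem lift_immersion {T X : Scheme.{u}} (k : T ⟶ X) [IsPreimmersion k] {Ω : Type u} [Field Ω]
    (ξ : Spec (CommRingCat.of Ω) ⟶ X) (h : ξ default ∈ Set.range k) :
    ∃ ξ' : Spec (CommRingCat.of Ω) ⟶ T, ξ' ≫ k = ξ := by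
  obtain ⟨t, ht⟩ := h
  let p := pullback.fst ξ k
  have hsurj : Function.Surjective p := by
    intro x
    obtain ⟨z, hz, -⟩ := Scheme.Pullback.exists_preimage_pullback (f := ξ) (g := k) default t
      ht.symm
    exact ⟨z, Subsingleton.elim _ _⟩
  haveI : Surjective p := ⟨hsurj⟩
  haveI : IsClosedImmersion p := IsClosedImmersion.of_isPreimmersion p (by
    rw [hsurj.range_eq]
    exact isClosed_univ)
  haveI : IsIso p := isIso_of_isClosedImmersion_of_surjective p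
  exact ⟨inv p ≫ pullback.snd ξ k, by
    rw [Category.assoc, ← pullback.condition, IsIso.inv_hom_id_assoc]⟩

theorem stalk_surj_pull {X Y : Scheme.{u}} (f : X ⟶ Y) {G₁ G₂ : EtCoh.Ab Y} (b : G₁ ⟶ G₂)
    {Ω : Type u} [Field Ω] [IsSepClosed Ω] (ξ : Spec (CommRingCat.of Ω) ⟶ X)
    (h : Function.Surjective ((EtCoh.stalk ξ).map ((EtCoh.pull f).map b))) :
    Function.Surjective ((EtCoh.stalk (ξ ≫ f)).map b) := by
  let e := Groth.Agent.Lib.Helper5.EtStalkPull.stalkPullIso f ξ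
  have hnat : (EtCoh.stalk (ξ ≫ f)).map b =
      e.inv.app G₁ ≫ (EtCoh.stalk ξ).map ((EtCoh.pull f).map b) ≫ e.hom.app G₂ := by
    have := e.hom.naturality b
    have h2 : e.inv.app G₁ ≫ ((EtCoh.pull f ⋙ EtCoh.stalk ξ).map b ≫ e.hom.app G₂) =
        (EtCoh.stalk (ξ ≫ f)).map b := by
      rw [this, ← Category.assoc, ← NatTrans.comp_app, e.inv_hom_id, NatTrans.id_app,
        Category.id_comp]
    exact h2.symm
  rw [hnat]
  intro q
  have hs2 : Function.Surjective (e.hom.app G₂) :=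
    (ConcreteCategory.bijective_of_isIso (e.hom.app G₂)).2
  obtain ⟨q₁, rfl⟩ := hs2 q
  obtain ⟨q₂, rfl⟩ := h q₁
  have hs1 : Function.Surjective (e.inv.app G₁) :=
    (ConcreteCategory.bijective_of_isIso (e.inv.app G₁)).2
  obtain ⟨q₃, rfl⟩ := hs1 q₂
  exact ⟨q₃, rfl⟩

end H9FE.CsAcc
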