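import Mathlib
import Groth.Agent.Lib.Helper9.FE.CsAcc2
import Groth.Agent.Lib.Helper9.FE.CsCons

/-! helper9: the locus where the geometric stalks of a constructible abelian étale sheaf vanish is
constructible; the locus where a map of constructible sheaves is surjective on stalks is
constructible. -/

set_option autoImplicit false
set_option linter.unusedSectionVars false
set_option linter.style.haveILetI false
set_option backward.isDefEq.respectTransparency false
universe u
open CategoryTheory CategoryTheory.Limits AlgebraicGeometry Opposite Topology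

namespace H9FE.CsSupp
open H9FE.ConstSite H9FE.CsStrata H9FE.CsSub H9FE.CsAcc

attribute [local instance] Groth.Agent.Lib.Helper5.EtStalk.ab5' Groth.Agent.Lib.Helper5.EtStalk.pfc

variable {W : Scheme.{u}}

theorem stalk_subsingleton_iff {C : EtCoh.Ab W} (U : W.Etale) {Q : AddCommGrpCat.{u + 1}}
    (β : C.over U ≅ ConstSite.cS.{u + 1, u, u + 1} (W.smallEtaleTopology.over U) Q)
    {Ω : Type u} [Field Ω] [IsSepClosed Ω] (ζ : Spec (CommRingCat.of Ω) ⟶ W)
    (y₀ : (Scheme.pointSmallEtale ζ).fiber.obj U) :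
    Subsingleton ((EtCoh.stalk ζ).obj C) ↔ Subsingleton Q := by
  let Φ := Scheme.pointSmallEtale ζ
  let J := W.smallEtaleTopology
  constructor
  · intro hs
    refine ⟨fun q q' => ?_⟩
    have h : Φ.toPresheafFiber U y₀ C.obj (gen.{u + 1, u, u + 1} J C U β q) =
        Φ.toPresheafFiber U y₀ C.obj (gen.{u + 1, u, u + 1} J C U β q') :=
      @Subsingleton.elim _ hs _ _
    rw [Φ.toPresheafFiber_eq_iff'] at h
    obtain ⟨Y, f, y, hy, hf⟩ := h
    rcases gen_inj.{u + 1, u, u + 1} J C U β f q q' hf with h1 | h1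
    · exact h1
    · exfalso
      rw [bot_mem_iff] at h1
      exact h1.false (y.left (default : Spec (CommRingCat.of Ω)))
  · intro hQ
    suffices ∀ p : (EtCoh.stalk ζ).obj C, p = 0 from ⟨fun p p' => by rw [this p, this p']⟩
    intro p
    obtain ⟨X₀, x₀, z, rfl⟩ := Φ.toPresheafFiber_jointly_surjective (P := C.obj) p
    let e₁ : Φ.fiber.Elements := ⟨X₀, x₀⟩
    let e₂ : Φ.fiber.Elements := ⟨U, y₀⟩
    let e := IsCofiltered.min e₁ e₂
    let f₁ : e ⟶ e₁ := IsCofiltered.minToLeft e₁ e₂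
    let f₂ : e ⟶ e₂ := IsCofiltered.minToRight e₁ e₂
    obtain ⟨S, hS, hprop⟩ := gen_surj.{u + 1, u, u + 1} J C U β f₂.1 (C.obj.map f₁.1.op z)
    obtain ⟨Y', g, hg, y', hy'⟩ := Φ.jointly_surjective S hS e.2
    obtain ⟨q, hq⟩ := hprop g hg
    have hq0 : q = 0 := Subsingleton.elim _ _
    have h2 := Φ.toPresheafFiber_w_apply g y' C.obj (C.obj.map f₁.1.op z)
    have h3 := Φ.toPresheafFiber_w_apply f₁.1 e.2 C.obj z
    have h4 : Φ.toPresheafFiber X₀ x₀ C.obj z =
        Φ.toPresheafFiber Y' y' C.obj (C.obj.map g.op (C.obj.map f₁.1.op z)) := by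
      rw [h2, hy', h3]
      exact (congrArg (fun t => Φ.toPresheafFiber X₀ t C.obj z) f₁.2).symm
    rw [h4, hq, hq0, map_zero, map_zero, map_zero]

theorem surj_iff_coker {X : Scheme.{u}} {F G : EtCoh.Ab X} (φ : F ⟶ G) {Ω : Type u} [Field Ω]
    [IsSepClosed Ω] (ξ : Spec (CommRingCat.of Ω) ⟶ X) :
    Function.Surjective ((EtCoh.stalk ξ).map φ) ↔
      Subsingleton ((EtCoh.stalk ξ).obj (cokernel φ)) := by
  let Ψ := EtCoh.stalk ξ
  haveI : PreservesFiniteColimits Ψ := inferInstance
  haveI : Ψ.PreservesZeroMorphisms := inferInstance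
  rw [← AddCommGrpCat.epi_iff_surjective]
  constructor
  · intro h
    have hz : IsZero (cokernel (Ψ.map φ)) := isZero_cokernel_of_epi _
    have hz' : IsZero (Ψ.obj (cokernel φ)) := hz.of_iso (PreservesCokernel.iso Ψ φ)
    exact AddCommGrpCat.subsingleton_of_isZero hz'
  · intro h
    have hz' : IsZero (Ψ.obj (cokernel φ)) := AddCommGrpCat.isZero_of_subsingleton _
    have hz : IsZero (cokernel (Ψ.map φ)) := hz'.of_iso (PreservesCokernel.iso Ψ φ).symm
    exact Preadditive.epi_of_isZero_cokernel _ hz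

theorem isConstructible_image_immersion {X T : Scheme.{u}} [CompactSpace X]
    [QuasiSeparatedSpace X] (h : T ⟶ X) [IsImmersion h]
    (hr : IsConstructible (Set.range h)) {A : Set T} (hA : IsConstructible A) :
    IsConstructible (h '' A) := by
  let ψ := h.isEmbedding.toHomeomorph
  have h1 : IsConstructible (ψ '' A) := hA.image_of_isOpenEmbedding ψ.isOpenEmbedding (by
    rw [ψ.surjective.range_eq]
    exact IsRetrocompact.univ)
  have h2 := isConstructible_image_val hr h1
  have : (Subtype.val : Set.range h → X) '' (ψ '' A) = h '' A := by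
    rw [Set.image_image]
    rfl
  rwa [this] at h2

theorem subsingleton_stalk_pull_iff {X Y : Scheme.{u}} (f : X ⟶ Y) (C : EtCoh.Ab Y)
    {Ω : Type u} [Field Ω] [IsSepClosed Ω] (ξ : Spec (CommRingCat.of Ω) ⟶ X) :
    Subsingleton ((EtCoh.stalk ξ).obj ((EtCoh.pull f).obj C)) ↔
      Subsingleton ((EtCoh.stalk (ξ ≫ f)).obj C) := by
  let e := (Groth.Agent.Lib.Helper5.EtStalkPull.stalkPullIso f ξ).app C
  have hb := ConcreteCategory.bijective_of_isIso e.hom
  constructor
  · intro h
    haveI : Subsingleton ↑((EtCoh.pull f ⋙ EtCoh.stalk ξ).obj C) := h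
    exact hb.2.subsingleton
  · intro h
    haveI : Subsingleton ↑((EtCoh.stalk (ξ ≫ f)).obj C) := h
    exact hb.1.subsingleton

theorem range_eq_singleton {X : Scheme.{u}} {Ω : Type u} [Field Ω]
    (ξ : Spec (CommRingCat.of Ω) ⟶ X) : Set.range ξ = {ξ default} := by
  ext x
  constructor
  · rintro ⟨a, rfl⟩
    rw [Subsingleton.elim a default]
    rfl
  · intro hx
    rw [Set.mem_singleton_iff] at hx
    exact ⟨default, hx.symm⟩

theorem default_eq_of_range {X : Scheme.{u}} {Ω : Type u} [Field Ω]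
    (ξ : Spec (CommRingCat.of Ω) ⟶ X) {x : X} (h : Set.range ξ = {x}) : ξ default = x := by
  have : ξ default ∈ Set.range ξ := ⟨default, rfl⟩
  rw [h] at this
  exact this

theorem flc_van_clopen {T : Scheme.{u}} (D : EtCoh.Ab T)
    (hD : EtCoh.IsFiniteLocallyConstant D) :
    IsClopen {t : T | ∀ (Ω : Type u) [Field Ω] [IsSepClosed Ω]
      (ξ : Spec (CommRingCat.of Ω) ⟶ T), Set.range ξ = {t} →
        Subsingleton ((EtCoh.stalk ξ).obj D)} := by
  obtain ⟨κ, U, hU, hα⟩ := hD
  choose M₀ iM fM hα' using hα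
  have key : ∀ (Ω : Type u) [Field Ω] [IsSepClosed Ω] (ξ : Spec (CommRingCat.of Ω) ⟶ T) (j : κ)
      (y : (U j).left), (U j).hom y = ξ default →
      (Subsingleton ((EtCoh.stalk ξ).obj D) ↔ Subsingleton (M₀ j)) := by
    intro Ω _ _ ξ j y hy
    haveI : Etale (U j).hom := (U j).prop
    obtain ⟨l, hl, -⟩ := Scheme.exists_fac_of_etale_of_isSepClosed (U j).hom ξ y hy
    let y₀ : (Scheme.pointSmallEtale ξ).fiber.obj (U j) := Over.homMk l hl
    obtain ⟨α⟩ := hα' j
    rw [stalk_subsingleton_iff (U j) α ξ y₀]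
    show Subsingleton (ULift.{u + 1} (M₀ j)) ↔ _
    exact Equiv.ulift.subsingleton_congr
  have hopen : ∀ (P : κ → Prop),
      IsOpen {t : T | ∃ (j : κ) (y : (U j).left), (U j).hom y = t ∧ P j} := by
    intro P
    have : {t : T | ∃ (j : κ) (y : (U j).left), (U j).hom y = t ∧ P j} =
        ⋃ (j : {j // P j}), Set.range (U j.1).hom := by
      ext t
      simp only [Set.mem_setOf_eq, Set.mem_iUnion, Set.mem_range]
      constructor
      · rintro ⟨j, y, hy, hP⟩
        exact ⟨⟨j, hP⟩, y, hy⟩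
      · rintro ⟨⟨j, hP⟩, y, hy⟩
        exact ⟨j, y, hy, hP⟩
    rw [this]
    exact isOpen_iUnion (fun j => by
      haveI : Etale (U j.1).hom := (U j.1).prop
      exact (U j.1).hom.isOpenMap.isOpen_range)
  -- the locus and its complement
  have hA : {t : T | ∀ (Ω : Type u) [Field Ω] [IsSepClosed Ω]
      (ξ : Spec (CommRingCat.of Ω) ⟶ T), Set.range ξ = {t} →
        Subsingleton ((EtCoh.stalk ξ).obj D)} =
      {t : T | ∃ (j : κ) (y : (U j).left), (U j).hom y = t ∧ Subsingleton (M₀ j)} := by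
    ext t
    simp only [Set.mem_setOf_eq]
    constructor
    · intro ht
      obtain ⟨j, y, hy⟩ := hU t
      refine ⟨j, y, hy, ?_⟩
      let g := Groth.Agent.Lib.Helper5.EtStalk.geomPtAt t
      have hg : g.ξ default = t := Groth.Agent.Lib.Helper5.EtStalk.geomPtAt_default t
      have h1 : Set.range g.ξ = {t} := by rw [range_eq_singleton, hg]
      exact (key g.Ω g.ξ j y (hy.trans hg.symm)).1 (ht g.Ω g.ξ h1)
    · rintro ⟨j, y, hy, hs⟩ Ω _ _ ξ hξ
      exact (key Ω ξ j y (hy.trans (default_eq_of_range ξ hξ).symm)).2 hs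
  have hB : {t : T | ∀ (Ω : Type u) [Field Ω] [IsSepClosed Ω]
      (ξ : Spec (CommRingCat.of Ω) ⟶ T), Set.range ξ = {t} →
        Subsingleton ((EtCoh.stalk ξ).obj D)}ᶜ =
      {t : T | ∃ (j : κ) (y : (U j).left), (U j).hom y = t ∧ ¬ Subsingleton (M₀ j)} := by
    rw [hA]
    ext t
    simp only [Set.mem_compl_iff, Set.mem_setOf_eq]
    constructor
    · intro ht
      obtain ⟨j, y, hy⟩ := hU t
      exact ⟨j, y, hy, fun hs => ht ⟨j, y, hy, hs⟩⟩
    · rintro ⟨j, y, hy, hns⟩ ⟨j', y', hy', hs'⟩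
      let g := Groth.Agent.Lib.Helper5.EtStalk.geomPtAt t
      have hg : g.ξ default = t := Groth.Agent.Lib.Helper5.EtStalk.geomPtAt_default t
      have h1 := (key g.Ω g.ξ j' y' (hy'.trans hg.symm)).2 hs'
      exact hns ((key g.Ω g.ξ j y (hy.trans hg.symm)).1 h1)
  refine ⟨?_, ?_⟩
  · rw [← isOpen_compl_iff, hB]
    exact hopen _
  · rw [hA]
    exact hopen _

theorem van_constructible {X : Scheme.{u}} [CompactSpace X] [QuasiSeparatedSpace X]
    (C : EtCoh.Ab X) (hC : EtPBC.IsConstructible C) :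
    IsConstructible {x : X | ∀ (Ω : Type u) [Field Ω] [IsSepClosed Ω]
      (ξ : Spec (CommRingCat.of Ω) ⟶ X), Set.range ξ = {x} →
        Subsingleton ((EtCoh.stalk ξ).obj C)} := by
  obtain ⟨ι, hι, T, h, h1, h2, h3, h4, h5⟩ := strat_univ_of_constructible C hC
  haveI := hι
  haveI : ∀ i, IsImmersion (h i) := h1
  let L : ∀ i, Set (T i) := fun i => {t | ∀ (Ω : Type u) [Field Ω] [IsSepClosed Ω]
      (ξ : Spec (CommRingCat.of Ω) ⟶ T i), Set.range ξ = {t} →
        Subsingleton ((EtCoh.stalk ξ).obj ((EtCoh.pull (h i)).obj C))}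
  have hL : ∀ i, IsClopen (L i) := fun i => flc_van_clopen _ (h5 i)
  have hr : ∀ i, IsConstructible (Set.range (h i)) := by
    intro i
    have := (h2 i).image_of_isOpenEmbedding isOpen_univ.isOpenEmbedding_subtypeVal (by
      rw [Subtype.range_coe]
      exact IsRetrocompact.univ)
    rwa [Subtype.image_preimage_coe, Set.univ_inter] at this
  have hcomp : ∀ i, CompactSpace (T i) := by
    intro i
    have hc : IsCompact (Set.range (h i)) := CsStrata.isCompact_of_isConstructible (hr i)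
    rw [← Set.image_univ, ← (h i).isEmbedding.isCompact_iff] at hc
    exact ⟨hc⟩
  have hqs : ∀ i, QuasiSeparatedSpace (T i) := fun i =>
    quasiSeparatedSpace_of_quasiSeparated (h i)
  have hLc : ∀ i, IsConstructible (L i) := by
    intro i
    haveI := hcomp i
    haveI := hqs i
    exact IsCompact.isConstructible (hL i).isClosed.isCompact (hL i).isOpen
  have hset : {x : X | ∀ (Ω : Type u) [Field Ω] [IsSepClosed Ω]
      (ξ : Spec (CommRingCat.of Ω) ⟶ X), Set.range ξ = {x} →
        Subsingleton ((EtCoh.stalk ξ).obj C)} = ⋃ i, h i '' L i := by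
    ext x
    simp only [Set.mem_setOf_eq, Set.mem_iUnion, Set.mem_image]
    constructor
    · intro hx
      have hxm : x ∈ ⋃ i, Set.range (h i) := by
        rw [h4]
        trivial
      obtain ⟨i, t, rfl⟩ := Set.mem_iUnion.1 hxm
      refine ⟨i, t, ?_, rfl⟩
      intro Ω _ _ ξ' hξ'
      rw [subsingleton_stalk_pull_iff]
      refine hx Ω (ξ' ≫ h i) ?_
      rw [range_eq_singleton, Scheme.Hom.comp_apply, default_eq_of_range ξ' hξ']
    · rintro ⟨i, t, ht, rfl⟩ Ω _ _ ξ hξ
      have hd := default_eq_of_range ξ hξ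
      obtain ⟨ξ', rfl⟩ := lift_immersion (h i) ξ ⟨t, hd.symm⟩
      have ht' : ξ' default = t := by
        apply (h i).isEmbedding.injective
        rw [← hd, Scheme.Hom.comp_apply]
      rw [← subsingleton_stalk_pull_iff]
      refine ht Ω ξ' ?_
      rw [range_eq_singleton, ht']
  rw [hset]
  exact IsConstructible.iUnion (fun i => by
    haveI := hcomp i
    haveI := hqs i
    exact isConstructible_image_immersion (h i) (hr i) (hLc i))

theorem surj_locus_constructible (X : Scheme.{u}) [CompactSpace X] [QuasiSeparatedSpace X]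
    {F G : EtCoh.Ab X} (φ : F ⟶ G) (hF : EtPBC.IsConstructible F)
    (hG : EtPBC.IsConstructible G) :
    IsConstructible {x : X | ∀ (Ω : Type u) [Field Ω] [IsSepClosed Ω]
      (ξ : Spec (CommRingCat.of Ω) ⟶ X), Set.range ξ = {x} →
        Function.Surjective ((EtCoh.stalk ξ).map φ)} := by
  have h := van_constructible (cokernel φ) (constructible_kernel_cokernel φ hF hG).2
  have hset : {x : X | ∀ (Ω : Type u) [Field Ω] [IsSepClosed Ω]
      (ξ : Spec (CommRingCat.of Ω) ⟶ X), Set.range ξ = {x} →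
        Function.Surjective ((EtCoh.stalk ξ).map φ)} =
      {x : X | ∀ (Ω : Type u) [Field Ω] [IsSepClosed Ω]
      (ξ : Spec (CommRingCat.of Ω) ⟶ X), Set.range ξ = {x} →
        Subsingleton ((EtCoh.stalk ξ).obj (cokernel φ))} := by
    ext x
    simp only [Set.mem_setOf_eq]
    constructor
    · intro hx Ω _ _ ξ hξ
      exact (surj_iff_coker φ ξ).1 (hx Ω ξ hξ)
    · intro hx Ω _ _ ξ hξ
      exact (surj_iff_coker φ ξ).2 (hx Ω ξ hξ)
  rw [hset]
  exact h

end H9FE.CsSupp
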