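import Mathlib
import Groth.Agent.Lib.Helper9.FE.CsSupp

/-! helper9: geometric stalks of a sheaf which is constant over an étale neighbourhood; the
specialization maps on germs; a criterion, in terms of geometric stalks, for a sheaf to be constant
over an étale object. -/

set_option autoImplicit false
set_option linter.unusedSectionVars false
set_option linter.style.haveILetI false
set_option backward.isDefEq.respectTransparency false
universe u
open CategoryTheory CategoryTheory.Limits AlgebraicGeometry Opposite Topology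

namespace H9FE.SpConst
open H9FE.ConstSite H9FE.CsStrata H9FE.CsSub H9FE.CsAcc

attribute [local instance] Groth.Agent.Lib.Helper5.EtStalk.ab5' Groth.Agent.Lib.Helper5.EtStalk.pfc

variable {W : Scheme.{u}}

/-- the stalk of a sheaf constant over an étale neighbourhood is the value group -/
theorem stalk_gen_bijective {C : EtCoh.Ab W} (U : W.Etale) {Q : AddCommGrpCat.{u + 1}}
    (β : C.over U ≅ ConstSite.cS.{u + 1, u, u + 1} (W.smallEtaleTopology.over U) Q)
    {Ω : Type u} [Field Ω] [IsSepClosed Ω] (ζ : Spec (CommRingCat.of Ω) ⟶ W)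
    (y₀ : (Scheme.pointSmallEtale ζ).fiber.obj U) :
    Function.Bijective (fun q : Q => (Scheme.pointSmallEtale ζ).toPresheafFiber U y₀ C.obj
      (gen.{u + 1, u, u + 1} W.smallEtaleTopology C U β q)) := by
  let Φ := Scheme.pointSmallEtale ζ
  let J := W.smallEtaleTopology
  constructor
  · intro q q' h
    have h' : Φ.toPresheafFiber U y₀ C.obj (gen.{u + 1, u, u + 1} J C U β q) =
        Φ.toPresheafFiber U y₀ C.obj (gen.{u + 1, u, u + 1} J C U β q') := h
    rw [Φ.toPresheafFiber_eq_iff'] at h'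
    obtain ⟨Y, f, y, hy, hf⟩ := h'
    rcases gen_inj.{u + 1, u, u + 1} J C U β f q q' hf with h1 | h1
    · exact h1
    · exfalso
      rw [bot_mem_iff] at h1
      exact h1.false (y.left (default : Spec (CommRingCat.of Ω)))
  · intro p
    obtain ⟨X₀, x₀, z, rfl⟩ := Φ.toPresheafFiber_jointly_surjective (P := C.obj) p
    let e₁ : Φ.fiber.Elements := ⟨X₀, x₀⟩
    let e₂ : Φ.fiber.Elements := ⟨U, y₀⟩
    let e := IsCofiltered.min e₁ e₂
    let f₁ : e ⟶ e₁ := IsCofiltered.minToLeft e₁ e₂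
    let f₂ : e ⟶ e₂ := IsCofiltered.minToRight e₁ e₂
    obtain ⟨S, hS, hprop⟩ := gen_surj.{u + 1, u, u + 1} J C U β f₂.1 (C.obj.map f₁.1.op z)
    obtain ⟨Y', g, hg, y', hy'⟩ := Φ.jointly_surjective S hS e.2
    obtain ⟨q, hq⟩ := hprop g hg
    have h2 := Φ.toPresheafFiber_w_apply g y' C.obj (C.obj.map f₁.1.op z)
    have h3 := Φ.toPresheafFiber_w_apply f₁.1 e.2 C.obj z
    have h4 : Φ.toPresheafFiber X₀ x₀ C.obj z =
        Φ.toPresheafFiber Y' y' C.obj (C.obj.map g.op (C.obj.map f₁.1.op z)) := by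
      rw [h2, hy', h3]
      exact (congrArg (fun t => Φ.toPresheafFiber X₀ t C.obj z) f₁.2).symm
    refine ⟨q, ?_⟩
    show Φ.toPresheafFiber U y₀ C.obj (gen.{u + 1, u, u + 1} J C U β q) =
      Φ.toPresheafFiber X₀ x₀ C.obj z
    rw [h4, hq]
    have h5 := Φ.toPresheafFiber_w_apply (g ≫ f₂.1) y' C.obj (gen.{u + 1, u, u + 1} J C U β q)
    rw [h5]
    have h6 : Φ.fiber.map (g ≫ f₂.1) y' = y₀ := by
      have h7 : Φ.fiber.map (g ≫ f₂.1) y' = Φ.fiber.map f₂.1 (Φ.fiber.map g y') :=
        ConcreteCategory.congr_hom (Φ.fiber.map_comp g f₂.1) y'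
      rw [h7, hy']
      exact f₂.2
    rw [h6]

/-- specialization maps on germs -/
theorem sheafFiber_germ (F : EtCoh.Ab W) {Ω Ω' : Type u} [Field Ω] [IsSepClosed Ω] [Field Ω']
    [IsSepClosed Ω'] {ξ : Spec (CommRingCat.of Ω) ⟶ W} {ξ' : Spec (CommRingCat.of Ω') ⟶ W}
    (φ : Scheme.pointSmallEtale ξ' ⟶ Scheme.pointSmallEtale ξ) (V : W.Etale)
    (v : (Scheme.pointSmallEtale ξ).fiber.obj V) (s : F.obj.obj (op V)) :
    (GrothendieckTopology.Point.Hom.sheafFiber (A := AddCommGrpCat.{u + 1}) φ).app F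
      ((Scheme.pointSmallEtale ξ).toPresheafFiber V v F.obj s) =
      (Scheme.pointSmallEtale ξ').toPresheafFiber V (φ.hom.app V v) F.obj s := by
  have h := (Scheme.pointSmallEtale ξ).toPresheafFiber_presheafFiberDesc (P := F.obj)
    (fun X x => (Scheme.pointSmallEtale ξ').toPresheafFiber X (φ.hom.app X x) F.obj)
  exact ConcreteCategory.congr_hom (h V v) s

/-- a sheaf is constant over an étale object `V` with value `M` as soon as sections `γ m` over `V`
induce bijections of `M` onto all geometric stalks at geometric points with a lifting to `V` -/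
theorem const_of_germ_bijective (F : EtCoh.Ab W) (V : W.Etale) {M : AddCommGrpCat.{u + 1}}
    (γ : M →+ F.obj.obj (op V))
    (hbij : ∀ (Ω : Type u) [Field Ω] [IsSepClosed Ω] (ζ : Spec (CommRingCat.of Ω) ⟶ W)
      (y : (Scheme.pointSmallEtale ζ).fiber.obj V),
      Function.Bijective
        (fun m : M => (Scheme.pointSmallEtale ζ).toPresheafFiber V y F.obj (γ m))) :
    Nonempty (F.over V ≅ ConstSite.cS.{u + 1, u, u + 1} (W.smallEtaleTopology.over V) M) := by
  let J := W.smallEtaleTopology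
  refine nonempty_iso_of_crit.{u + 1, u, u + 1} J F V γ ?_ ?_
  · intro Z z x hx
    by_cases hZ : IsEmpty Z.left
    · exact Or.inr ((bot_mem_iff Z).2 hZ)
    · left
      rw [not_isEmpty_iff] at hZ
      obtain ⟨p⟩ := hZ
      let g := Groth.Agent.Lib.Helper5.EtStalk.geomPtAt p
      let ζ : Spec (CommRingCat.of g.Ω) ⟶ W := g.ξ ≫ Z.hom
      let Φ := Scheme.pointSmallEtale ζ
      let yZ : Φ.fiber.obj Z := Over.homMk g.ξ rfl
      let y : Φ.fiber.obj V := Φ.fiber.map z yZ
      have h1 := Φ.toPresheafFiber_w_apply z yZ F.obj (γ x)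
      have h2 : Φ.toPresheafFiber V y F.obj (γ x) = Φ.toPresheafFiber V y F.obj (γ 0) := by
        rw [← h1, hx, map_zero, map_zero, map_zero]
      exact (hbij g.Ω ζ y).1 h2
  · intro Z z s
    let S : Sieve Z :=
      { arrows := fun Z' k => ∃ x : M, F.obj.map k.op s = F.obj.map (k ≫ z).op (γ x)
        downward_closed := by
          rintro Z' Z'' k ⟨x, hx⟩ h
          refine ⟨x, ?_⟩
          rw [← map_map.{u + 1, u, u + 1} J F h k s, hx, map_map, Category.assoc] }
    refine ⟨S, ?_, fun k hk => hk⟩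
    apply Groth.Agent.Lib.Helper5.EtStalk.detects W Z S
    intro g x
    let Φ := Scheme.pointSmallEtale g.ξ
    change Φ.fiber.obj Z at x
    let y : Φ.fiber.obj V := Φ.fiber.map z x
    obtain ⟨m, hm⟩ := (hbij g.Ω g.ξ y).2 (Φ.toPresheafFiber Z x F.obj s)
    have h1 := Φ.toPresheafFiber_w_apply z x F.obj (γ m)
    have h2 : Φ.toPresheafFiber Z x F.obj (F.obj.map z.op (γ m)) =
        Φ.toPresheafFiber Z x F.obj s := h1.trans hm
    rw [Φ.toPresheafFiber_eq_iff'] at h2
    obtain ⟨Y, f, y', hy', hf⟩ := h2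
    refine ⟨Y, f, y', ⟨m, ?_⟩, hy'⟩
    rw [← hf, map_map.{u + 1, u, u + 1} J F f z (γ m)]

end H9FE.SpConst
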