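import Mathlib
import Groth.Agent.Lib.Helper9.FE.SpConst
import Groth.Agent.Lib.Helper9.FE.SpArrow

/-! helper9: specialization arrows with prescribed value on an étale neighbourhood (general form),
transport of germs along specialization arrows, and local sections representing a finite geometric
stalk additively on an affine étale neighbourhood. -/

set_option autoImplicit false
set_option linter.unusedSectionVars false
set_option linter.style.haveILetI false
set_option backward.isDefEq.respectTransparency false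
universe u
open CategoryTheory CategoryTheory.Limits AlgebraicGeometry Opposite Topology

namespace H9FE.SpLocal
open H9FE.ConstSite H9FE.SpConst

attribute [local instance] Groth.Agent.Lib.Helper5.EtStalk.ab5' Groth.Agent.Lib.Helper5.EtStalk.pfc

variable {X : Scheme.{u}}

/-- a specialization arrow with prescribed value on an étale neighbourhood -/
theorem exists_arrow_of_specializes (V : X.Etale) {Ω Ω' : Type u} [Field Ω] [IsSepClosed Ω]
    [Field Ω'] [IsSepClosed Ω'] {ζ : Spec (CommRingCat.of Ω) ⟶ X}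
    {ζ' : Spec (CommRingCat.of Ω') ⟶ X} (v : (Scheme.pointSmallEtale ζ).fiber.obj V)
    (v' : (Scheme.pointSmallEtale ζ').fiber.obj V)
    (hs : v'.left (default : Spec (CommRingCat.of Ω')) ⤳
      v.left (default : Spec (CommRingCat.of Ω))) :
    ∃ φ : Scheme.pointSmallEtale ζ' ⟶ Scheme.pointSmallEtale ζ, φ.hom.app V v = v' := by
  obtain ⟨l, hl, rfl⟩ : ∃ (l : Spec (CommRingCat.of Ω) ⟶ V.left) (hl : l ≫ V.hom = ζ),
      v = (Over.homMk l hl : (Scheme.pointSmallEtale ζ).fiber.obj V) :=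
    ⟨v.left, Over.w v, Over.OverMorphism.ext rfl⟩
  obtain ⟨l', hl', rfl⟩ : ∃ (l' : Spec (CommRingCat.of Ω') ⟶ V.left) (hl' : l' ≫ V.hom = ζ'),
      v' = (Over.homMk l' hl' : (Scheme.pointSmallEtale ζ').fiber.obj V) :=
    ⟨v'.left, Over.w v', Over.OverMorphism.ext rfl⟩
  subst hl
  subst hl'
  haveI : Etale V.hom := V.prop
  exact SpArrow.exists_arrow_prescribed V.hom l l' hs

/-- germs along a specialization arrow -/
theorem germ_comp_arrow (F : EtCoh.Ab X) (V : X.Etale) {M : Type*} (γ : M → F.obj.obj (op V))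
    {Ω Ω' : Type u} [Field Ω] [IsSepClosed Ω] [Field Ω'] [IsSepClosed Ω']
    {ζ : Spec (CommRingCat.of Ω) ⟶ X} {ζ' : Spec (CommRingCat.of Ω') ⟶ X}
    (v : (Scheme.pointSmallEtale ζ).fiber.obj V) (v' : (Scheme.pointSmallEtale ζ').fiber.obj V)
    (φ : Scheme.pointSmallEtale ζ' ⟶ Scheme.pointSmallEtale ζ) (hφ : φ.hom.app V v = v') :
    (fun m : M => (Scheme.pointSmallEtale ζ').toPresheafFiber V v' F.obj (γ m)) =
      (fun p => (GrothendieckTopology.Point.Hom.sheafFiber (A := AddCommGrpCat.{u + 1}) φ).app F p)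
        ∘ (fun m : M => (Scheme.pointSmallEtale ζ).toPresheafFiber V v F.obj (γ m)) := by
  funext m
  show _ = (GrothendieckTopology.Point.Hom.sheafFiber (A := AddCommGrpCat.{u + 1}) φ).app F
    ((Scheme.pointSmallEtale ζ).toPresheafFiber V v F.obj (γ m))
  rw [sheafFiber_germ, hφ]

section LocalSections

variable (F : EtCoh.Ab X) {Ω : Type u} [Field Ω] [IsSepClosed Ω]
  (ξ : Spec (CommRingCat.of Ω) ⟶ X)

theorem germ_restrict {e' e : (Scheme.pointSmallEtale ξ).fiber.Elements} (k : e' ⟶ e)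
    (s : F.obj.obj (op e.1)) :
    (Scheme.pointSmallEtale ξ).toPresheafFiber e'.1 e'.2 F.obj (F.obj.map k.1.op s) =
      (Scheme.pointSmallEtale ξ).toPresheafFiber e.1 e.2 F.obj s := by
  have h := (Scheme.pointSmallEtale ξ).toPresheafFiber_w_apply k.1 e'.2 F.obj s
  rw [h]
  exact congrArg (fun t => (Scheme.pointSmallEtale ξ).toPresheafFiber e.1 t F.obj s) k.2

/-- a finite geometric stalk is represented additively by sections over an affine étale
neighbourhood -/
theorem exists_local_sections [Finite ((EtCoh.stalk ξ).obj F)] :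
    ∃ (V : X.Etale) (_ : IsAffine V.left) (v : (Scheme.pointSmallEtale ξ).fiber.obj V)
      (γ : ((EtCoh.stalk ξ).obj F) →+ F.obj.obj (op V)),
      ∀ m, (Scheme.pointSmallEtale ξ).toPresheafFiber V v F.obj (γ m) = m := by
  classical
  let Φ := Scheme.pointSmallEtale ξ
  let M := (EtCoh.stalk ξ).obj F
  haveI : Fintype M := Fintype.ofFinite M
  have st1 : ∀ A : Finset M, ∃ (e : Φ.fiber.Elements) (s : M → F.obj.obj (op e.1)),
      ∀ m ∈ A, Φ.toPresheafFiber e.1 e.2 F.obj (s m) = m := by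
    intro A
    induction A using Finset.induction_on with
    | empty =>
      exact ⟨Classical.choice IsCofiltered.nonempty, fun _ => 0, fun m hm => by simp at hm⟩
    | insert m₀ A hm₀ IH =>
      obtain ⟨e, s, hs⟩ := IH
      obtain ⟨X₁, x₁, z, hz⟩ := Φ.toPresheafFiber_jointly_surjective (P := F.obj) m₀
      let e₁ : Φ.fiber.Elements := ⟨X₁, x₁⟩
      let e' := IsCofiltered.min e e₁
      let a : e' ⟶ e := IsCofiltered.minToLeft e e₁
      let b : e' ⟶ e₁ := IsCofiltered.minToRight e e₁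
      refine ⟨e', fun m => if m = m₀ then F.obj.map b.1.op z else F.obj.map a.1.op (s m), ?_⟩
      intro m hm
      by_cases hmm : m = m₀
      · subst hmm
        simp only [if_true]
        exact (germ_restrict F ξ b z).trans hz
      · simp only [if_neg hmm]
        exact (germ_restrict F ξ a (s m)).trans (hs m (Finset.mem_of_mem_insert_of_ne hm hmm))
  obtain ⟨e₀, s', hs'⟩ := st1 Finset.univ
  have hs'' : ∀ m, Φ.toPresheafFiber e₀.1 e₀.2 F.obj (s' m) = m := fun m =>
    hs' m (Finset.mem_univ m)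
  have st2 : ∀ A : Finset (M × M), ∃ (e' : Φ.fiber.Elements) (h : e' ⟶ e₀),
      ∀ p ∈ A, F.obj.map h.1.op (s' p.1 + s' p.2 - s' (p.1 + p.2)) = 0 := by
    intro A
    induction A using Finset.induction_on with
    | empty => exact ⟨e₀, 𝟙 e₀, fun p hp => by simp at hp⟩
    | insert p A hp IH =>
      obtain ⟨e', h, hh⟩ := IH
      have hg : Φ.toPresheafFiber e'.1 e'.2 F.obj
          (F.obj.map h.1.op (s' p.1 + s' p.2 - s' (p.1 + p.2))) =
          Φ.toPresheafFiber e'.1 e'.2 F.obj 0 := by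
        rw [germ_restrict F ξ h, map_zero, map_sub, map_add, hs'', hs'', hs'', sub_self]
      rw [Φ.toPresheafFiber_eq_iff'] at hg
      obtain ⟨Y, f, y, hy, hf⟩ := hg
      let e'' : Φ.fiber.Elements := ⟨Y, y⟩
      let k : e'' ⟶ e' := ⟨f, hy⟩
      refine ⟨e'', k ≫ h, ?_⟩
      intro q hq
      have hcomp : ∀ t : F.obj.obj (op e₀.1), F.obj.map (k ≫ h).1.op t =
          F.obj.map f.op (F.obj.map h.1.op t) := fun t =>
        (map_map.{u + 1, u, u + 1} X.smallEtaleTopology F f h.1 t).symm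
      rw [hcomp]
      rcases Finset.mem_insert.1 hq with rfl | hq
      · rw [hf, map_zero]
      · rw [hh q hq, map_zero]
  obtain ⟨e₁, h, hh⟩ := st2 Finset.univ
  let γ₀ : M → F.obj.obj (op e₁.1) := fun m => F.obj.map h.1.op (s' m)
  have hadd : ∀ m m', γ₀ (m + m') = γ₀ m + γ₀ m' := by
    intro m m'
    have := hh (m, m') (Finset.mem_univ _)
    rw [map_sub, map_add, sub_eq_zero] at this
    exact this.symm
  let γ₁ : M →+ F.obj.obj (op e₁.1) := AddMonoidHom.mk' γ₀ hadd
  have hγ₁ : ∀ m, Φ.toPresheafFiber e₁.1 e₁.2 F.obj (γ₁ m) = m := fun m =>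
    (germ_restrict F ξ h (s' m)).trans (hs'' m)
  -- affine refinement
  obtain ⟨V₀, hV₀, hyV₀, -⟩ := exists_isAffineOpen_mem_and_subset
    (x := e₁.2.left (default : Spec (CommRingCat.of Ω))) (U := ⊤) trivial
  haveI : Etale e₁.1.hom := e₁.1.prop
  let V : X.Etale := Scheme.Etale.mk (V₀.ι ≫ e₁.1.hom)
  let j : V ⟶ e₁.1 := MorphismProperty.Over.homMk V₀.ι rfl
  have hr : Set.range e₁.2.left ⊆ Set.range V₀.ι := by
    rintro _ ⟨a, rfl⟩
    have ha : a = (default : Spec (CommRingCat.of Ω)) :=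
      Subsingleton.elim (α := ↥(Spec (CommRingCat.of Ω))) a default
    rw [ha, Scheme.Opens.range_ι]
    exact hyV₀
  let l : Spec (CommRingCat.of Ω) ⟶ V₀.toScheme := IsOpenImmersion.lift V₀.ι e₁.2.left hr
  have hl : l ≫ V₀.ι = e₁.2.left := IsOpenImmersion.lift_fac _ _ _
  let v : Φ.fiber.obj V := Over.homMk l (by
    show l ≫ V₀.ι ≫ e₁.1.hom = ξ
    rw [← Category.assoc, hl]
    exact Over.w e₁.2)
  have hv : Φ.fiber.map j v = e₁.2 := Over.OverMorphism.ext hl
  refine ⟨V, hV₀, v, (F.obj.map j.op).hom.comp γ₁, fun m => ?_⟩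
  let eV : Φ.fiber.Elements := ⟨V, v⟩
  let kj : eV ⟶ e₁ := ⟨j, hv⟩
  exact (germ_restrict F ξ kj (γ₁ m)).trans (hγ₁ m)

end LocalSections

end H9FE.SpLocal
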