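import Mathlib
import Groth.Agent.Lib.Helper9.FE.SpLocal
import Groth.Agent.S6645

/-! helper9: on a locally Noetherian scheme an abelian étale sheaf with finite geometric stalks is
finite locally constant iff all specialization maps are isomorphisms. -/

set_option autoImplicit false
set_option linter.unusedSectionVars false
set_option linter.style.haveILetI false
set_option backward.isDefEq.respectTransparency false
universe u
open CategoryTheory CategoryTheory.Limits AlgebraicGeometry Opposite Topology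

namespace H9FE.SpFLC
open H9FE.ConstSite H9FE.SpConst H9FE.SpLocal

attribute [local instance] Groth.Agent.Lib.Helper5.EtStalk.ab5' Groth.Agent.Lib.Helper5.EtStalk.pfc

/-- a subset of a Noetherian sober space stable under specialization and generization is closed -/
theorem isClosed_of_stable {T : Type*} [TopologicalSpace T] [TopologicalSpace.NoetherianSpace T]
    [QuasiSober T] (E : Set T) (hgen : ∀ q q' : T, q' ⤳ q → (q ∈ E ↔ q' ∈ E)) : IsClosed E := by
  have hfin := TopologicalSpace.NoetherianSpace.finite_irreducibleComponents (α := T)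
  have hE : E = ⋃ Z ∈ {Z ∈ irreducibleComponents T | Z ⊆ E}, Z := by
    ext x
    simp only [Set.mem_iUnion, Set.mem_setOf_eq, exists_prop]
    constructor
    · intro hx
      have hZ := irreducibleComponent_mem_irreducibleComponents x
      refine ⟨irreducibleComponent x, ⟨hZ, ?_⟩, mem_irreducibleComponent⟩
      have hZirr : IsIrreducible (irreducibleComponent x) := hZ.1
      have hZcl : IsClosed (irreducibleComponent x) := isClosed_of_mem_irreducibleComponents _ hZ
      have hη := hZirr.isGenericPoint_genericPoint hZcl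
      have h1 : hZirr.genericPoint ∈ E :=
        (hgen x _ (hη.specializes mem_irreducibleComponent)).1 hx
      intro z hz
      exact (hgen z _ (hη.specializes hz)).2 h1
    · rintro ⟨Z, ⟨-, hZE⟩, hxZ⟩
      exact hZE hxZ
  rw [hE]
  exact (hfin.subset (fun Z hZ => hZ.1)).isClosed_biUnion
    (fun Z hZ => isClosed_of_mem_irreducibleComponents Z hZ.1)

theorem isClopen_of_stable {T : Type*} [TopologicalSpace T] [TopologicalSpace.NoetherianSpace T]
    [QuasiSober T] (E : Set T) (hgen : ∀ q q' : T, q' ⤳ q → (q ∈ E ↔ q' ∈ E)) : IsClopen E :=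
  ⟨isClosed_of_stable E hgen, isClosed_compl_iff.1
    (isClosed_of_stable Eᶜ (fun q q' h => not_congr (hgen q q' h)))⟩

variable {X : Scheme.{u}}

/-- finite locally constant sheaves have bijective specialization maps -/
theorem isIso_sp_of_flc (F : EtCoh.Ab X) (hF : EtCoh.IsFiniteLocallyConstant F)
    {Ω Ω' : Type u} [Field Ω] [IsSepClosed Ω] [Field Ω'] [IsSepClosed Ω']
    (ξ : Spec (CommRingCat.of Ω) ⟶ X) (ξ' : Spec (CommRingCat.of Ω') ⟶ X)
    (φ : Scheme.pointSmallEtale ξ' ⟶ Scheme.pointSmallEtale ξ) :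
    IsIso ((GrothendieckTopology.Point.Hom.sheafFiber (A := AddCommGrpCat.{u + 1}) φ).app F) := by
  obtain ⟨κ, U, hU, hα⟩ := hF
  obtain ⟨i, a, ha⟩ := hU (ξ default)
  obtain ⟨M₀, iM, fM, ⟨α⟩⟩ := hα i
  haveI : Etale (U i).hom := (U i).prop
  obtain ⟨l, hl, -⟩ := Scheme.exists_fac_of_etale_of_isSepClosed (U i).hom ξ a ha
  let y₀ : (Scheme.pointSmallEtale ξ).fiber.obj (U i) := Over.homMk l hl
  let y₀' : (Scheme.pointSmallEtale ξ').fiber.obj (U i) := φ.hom.app (U i) y₀
  have h1 := stalk_gen_bijective (U i) α ξ y₀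
  have h2 := stalk_gen_bijective (U i) α ξ' y₀'
  have h3 := germ_comp_arrow F (U i)
    (fun q => gen.{u + 1, u, u + 1} X.smallEtaleTopology F (U i) α q) y₀ y₀' φ rfl
  rw [h3] at h2
  have h4 : Function.Bijective (fun p =>
      (GrothendieckTopology.Point.Hom.sheafFiber (A := AddCommGrpCat.{u + 1}) φ).app F p) :=
    (Function.Bijective.of_comp_iff _ h1).1 h2
  exact (ConcreteCategory.isIso_iff_bijective _).2 h4

/-- bijectivity of the germ map attached to sections `γ` over `V` -/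
def GermBij (F : EtCoh.Ab X) (V : X.Etale) {M : Type*} (γ : M → F.obj.obj (op V))
    {Ω : Type u} [Field Ω] [IsSepClosed Ω] (ζ : Spec (CommRingCat.of Ω) ⟶ X)
    (y : (Scheme.pointSmallEtale ζ).fiber.obj V) : Prop :=
  Function.Bijective (fun m : M => (Scheme.pointSmallEtale ζ).toPresheafFiber V y F.obj (γ m))

/-- the locus of points of `V` at which the germ map is bijective -/
def bijLocus (F : EtCoh.Ab X) (V : X.Etale) {M : Type*} (γ : M → F.obj.obj (op V)) :
    Set V.left :=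
  {q | ∃ (Ω : Type u) (_ : Field Ω) (_ : IsSepClosed Ω) (ζ : Spec (CommRingCat.of Ω) ⟶ X)
    (y : (Scheme.pointSmallEtale ζ).fiber.obj V),
    y.left (default : Spec (CommRingCat.of Ω)) = q ∧ GermBij F V γ ζ y}

/-- a geometric point of `V` at a given point -/
theorem exists_geom_at (V : X.Etale) (q : V.left) :
    ∃ (Ω : Type u) (_ : Field Ω) (_ : IsSepClosed Ω) (ζ : Spec (CommRingCat.of Ω) ⟶ X)
      (y : (Scheme.pointSmallEtale ζ).fiber.obj V),
      y.left (default : Spec (CommRingCat.of Ω)) = q := by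
  let g := Groth.Agent.Lib.Helper5.EtStalk.geomPtAt q
  exact ⟨g.Ω, inferInstance, inferInstance, g.ξ ≫ V.hom, Over.homMk g.ξ rfl,
    Groth.Agent.Lib.Helper5.EtStalk.geomPtAt_default q⟩

section Transfer

variable (F : EtCoh.Ab X) (V : X.Etale) {M : Type*} (γ : M → F.obj.obj (op V))

/-- transfer of bijectivity of germ maps along specializations, when specialization maps are
bijective -/
theorem germBij_iff_of_specializes
    (hiso : ∀ (Ω Ω' : Type u) [Field Ω] [IsSepClosed Ω] [Field Ω'] [IsSepClosed Ω']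
      (ξ : Spec (CommRingCat.of Ω) ⟶ X) (ξ' : Spec (CommRingCat.of Ω') ⟶ X)
      (φ : Scheme.pointSmallEtale ξ' ⟶ Scheme.pointSmallEtale ξ),
      IsIso ((GrothendieckTopology.Point.Hom.sheafFiber (A := AddCommGrpCat.{u + 1}) φ).app F))
    {Ω Ω' : Type u} [Field Ω] [IsSepClosed Ω] [Field Ω'] [IsSepClosed Ω']
    {ζ : Spec (CommRingCat.of Ω) ⟶ X} {ζ' : Spec (CommRingCat.of Ω') ⟶ X}
    (y : (Scheme.pointSmallEtale ζ).fiber.obj V) (y' : (Scheme.pointSmallEtale ζ').fiber.obj V)
    (hs : y'.left (default : Spec (CommRingCat.of Ω')) ⤳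
      y.left (default : Spec (CommRingCat.of Ω))) :
    GermBij F V γ ζ y ↔ GermBij F V γ ζ' y' := by
  obtain ⟨φ, hφ⟩ := exists_arrow_of_specializes V y y' hs
  have h3 := germ_comp_arrow F V γ y y' φ hφ
  haveI := hiso Ω Ω' ζ ζ' φ
  have hb : Function.Bijective (fun p =>
      (GrothendieckTopology.Point.Hom.sheafFiber (A := AddCommGrpCat.{u + 1}) φ).app F p) :=
    ConcreteCategory.bijective_of_isIso _
  unfold GermBij
  rw [h3]
  exact (Function.Bijective.of_comp_iff' hb _).symm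

end Transfer

theorem flc_of_specializations_iso [IsLocallyNoetherian X] (F : EtCoh.Ab X)
    (hfin : ∀ (Ω : Type u) [Field Ω] [IsSepClosed Ω] (ξ : Spec (CommRingCat.of Ω) ⟶ X),
      Finite ((EtCoh.stalk ξ).obj F))
    (hiso : ∀ (Ω Ω' : Type u) [Field Ω] [IsSepClosed Ω] [Field Ω'] [IsSepClosed Ω']
      (ξ : Spec (CommRingCat.of Ω) ⟶ X) (ξ' : Spec (CommRingCat.of Ω') ⟶ X)
      (φ : Scheme.pointSmallEtale ξ' ⟶ Scheme.pointSmallEtale ξ),
      IsIso ((GrothendieckTopology.Point.Hom.sheafFiber (A := AddCommGrpCat.{u + 1}) φ).app F)) :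
    EtCoh.IsFiniteLocallyConstant F := by
  have key : ∀ x : X, ∃ V' : X.Etale, x ∈ Set.range V'.hom ∧
      Groth.Agent.S6645.Aux.FinConst F V' := by
    intro x
    obtain ⟨Ω, _, _, ξ, hξ⟩ : ∃ (Ω : Type u) (_ : Field Ω) (_ : IsSepClosed Ω)
        (ξ : Spec (CommRingCat.of Ω) ⟶ X), ξ default = x :=
      ⟨(Groth.Agent.Lib.Helper5.EtStalk.geomPtAt x).Ω, inferInstance, inferInstance,
        (Groth.Agent.Lib.Helper5.EtStalk.geomPtAt x).ξ,
        Groth.Agent.Lib.Helper5.EtStalk.geomPtAt_default x⟩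
    haveI := hfin Ω ξ
    obtain ⟨V, hVaff, v, γ, hγ⟩ := exists_local_sections F ξ
    haveI : Etale V.hom := V.prop
    haveI : IsLocallyNoetherian V.left := LocallyOfFiniteType.isLocallyNoetherian (Y := X) V.hom
    haveI : IsNoetherian V.left := {}
    let E : Set V.left := bijLocus F V γ
    have hB0 : GermBij F V γ ξ v := by
      have : (fun m => (Scheme.pointSmallEtale ξ).toPresheafFiber V v F.obj (γ m)) = id :=
        funext hγ
      unfold GermBij
      rw [this]
      exact Function.bijective_id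
    have hE_all : ∀ q ∈ E, ∀ (Ω₁ : Type u) [Field Ω₁] [IsSepClosed Ω₁]
        (ζ₁ : Spec (CommRingCat.of Ω₁) ⟶ X) (y₁ : (Scheme.pointSmallEtale ζ₁).fiber.obj V),
        y₁.left (default : Spec (CommRingCat.of Ω₁)) = q → GermBij F V γ ζ₁ y₁ := by
      rintro q ⟨Ω₂, _, _, ζ₂, y₂, hy₂, hb₂⟩ Ω₁ _ _ ζ₁ y₁ hy₁
      refine (germBij_iff_of_specializes F V γ hiso y₂ y₁ ?_).1 hb₂
      rw [hy₁, hy₂]
    have hstable : ∀ q q' : V.left, q' ⤳ q → (q ∈ E ↔ q' ∈ E) := by
      intro q q' hs
      constructor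
      · rintro ⟨Ω₂, _, _, ζ₂, y₂, hy₂, hb₂⟩
        obtain ⟨Ω₁, _, _, ζ₁, y₁, hy₁⟩ := exists_geom_at V q'
        exact ⟨Ω₁, _, _, ζ₁, y₁, hy₁,
          (germBij_iff_of_specializes F V γ hiso y₂ y₁ (by rw [hy₁, hy₂]; exact hs)).1 hb₂⟩
      · rintro ⟨Ω₂, _, _, ζ₂, y₂, hy₂, hb₂⟩
        obtain ⟨Ω₁, _, _, ζ₁, y₁, hy₁⟩ := exists_geom_at V q
        exact ⟨Ω₁, _, _, ζ₁, y₁, hy₁,
          (germBij_iff_of_specializes F V γ hiso y₁ y₂ (by rw [hy₁, hy₂]; exact hs)).2 hb₂⟩
    have hclopen : IsClopen E := isClopen_of_stable E hstable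
    have hvE : v.left (default : Spec (CommRingCat.of Ω)) ∈ E :=
      ⟨Ω, _, _, ξ, v, rfl, hB0⟩
    let Eo : V.left.Opens := ⟨E, hclopen.isOpen⟩
    let V' : X.Etale := Scheme.Etale.mk (Eo.ι ≫ V.hom)
    let j : V' ⟶ V := MorphismProperty.Over.homMk Eo.ι rfl
    let γ' : ((EtCoh.stalk ξ).obj F) →+ F.obj.obj (op V') := (F.obj.map j.op).hom.comp γ
    refine ⟨V', ?_, ?_⟩
    · refine ⟨⟨_, hvE⟩, ?_⟩
      show (Eo.ι ≫ V.hom) ⟨_, hvE⟩ = x
      rw [← hξ]
      have h1 : v.left ≫ V.hom = ξ := Over.w v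
      exact congrArg (fun f : Spec (CommRingCat.of Ω) ⟶ X => f default) h1
    · have hbij : ∀ (Ω₁ : Type u) [Field Ω₁] [IsSepClosed Ω₁]
          (ζ₁ : Spec (CommRingCat.of Ω₁) ⟶ X) (y' : (Scheme.pointSmallEtale ζ₁).fiber.obj V'),
          Function.Bijective (fun m => (Scheme.pointSmallEtale ζ₁).toPresheafFiber V' y' F.obj
            (γ' m)) := by
        intro Ω₁ _ _ ζ₁ y'
        let y₁ : (Scheme.pointSmallEtale ζ₁).fiber.obj V :=
          (Scheme.pointSmallEtale ζ₁).fiber.map j y'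
        have hy₁ : y₁.left (default : Spec (CommRingCat.of Ω₁)) ∈ E :=
          (y'.left (default : Spec (CommRingCat.of Ω₁))).2
        have hb := hE_all _ hy₁ Ω₁ ζ₁ y₁ rfl
        have : (fun m => (Scheme.pointSmallEtale ζ₁).toPresheafFiber V' y' F.obj (γ' m)) =
            (fun m => (Scheme.pointSmallEtale ζ₁).toPresheafFiber V y₁ F.obj (γ m)) := by
          funext m
          exact (Scheme.pointSmallEtale ζ₁).toPresheafFiber_w_apply j y' F.obj (γ m)
        rw [this]
        exact hb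
      obtain ⟨θ⟩ := const_of_germ_bijective F V' γ' hbij
      exact ⟨(EtCoh.stalk ξ).obj F, hfin Ω ξ, ⟨θ⟩⟩
  choose V' hx hV' using key
  exact Groth.Agent.S6645.Aux.flc_of_finConst F V'
    (fun x => by
      obtain ⟨y, hy⟩ := hx x
      exact ⟨x, y, hy⟩) hV'

end H9FE.SpFLC
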