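import Mathlib
import Groth.Prelude.Def_ARSys
import Groth.Prelude.Def_EtMod2
import Groth.Agent.Lib.Helper9.FE.ARCore5
import Groth.Agent.Lib.Helper9.FE.ModCsStrata
import Groth.Agent.Lib.Helper9.FE.SpFLC
import Groth.Agent.Lib.Helper9.FE.ModConstSiteGen
import Groth.Agent.Lib.Helper5.Misc.EtStalkPull

/-! helper9: gluing AR-adic systems of constructible sheaves of modules from stalkwise AR-adic
data with a uniform translation constant. -/

set_option autoImplicit false
set_option linter.unusedSectionVars false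
set_option linter.style.haveILetI false
set_option backward.isDefEq.respectTransparency false
universe u
open CategoryTheory CategoryTheory.Limits AlgebraicGeometry Opposite
open scoped ZeroObject

namespace H9FE.ARGlue

open H9FE.ARCore

section Gen

universe w v₁ v₂ u₁ u₂

variable {A : Type w} [CommRing A] {C : Type u₁} [Category.{v₁} C] {D : Type u₂} [Category.{v₂} D]
  [Preadditive C] [Preadditive D] [Linear A C] [Linear A D]
  {L : C ⥤ D} {R : D ⥤ C} (adj : L ⊣ R) [L.Additive] [R.Additive]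
  (hR : ∀ {X Y : D} (a : A) (φ : X ⟶ Y), R.map (a • φ) = a • R.map φ)

include adj hR in
lemma L_map_smul {X Y : C} (a : A) (φ : X ⟶ Y) : L.map (a • φ) = a • L.map φ := by
  apply (adj.homEquiv X (L.obj Y)).injective
  rw [adj.homEquiv_unit, adj.homEquiv_unit, hR, Linear.comp_smul]
  have h1 : adj.unit.app X ≫ R.map (L.map (a • φ)) = (a • φ) ≫ adj.unit.app Y :=
    (adj.unit.naturality (a • φ)).symm
  have h2 : adj.unit.app X ≫ R.map (L.map φ) = φ ≫ adj.unit.app Y :=
    (adj.unit.naturality φ).symm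
  rw [h1, h2, Linear.smul_comp]

include adj hR in
lemma killedBy_map {I : Ideal A} {X : C} (h : ARSys.KilledBy I X) :
    ARSys.KilledBy I (L.obj X) := by
  intro a ha
  have h1 : (a • 𝟙 (L.obj X) : L.obj X ⟶ L.obj X) = L.map (a • 𝟙 X) := by
    rw [L_map_smul adj hR, L.map_id]
  rw [h1, h a ha, L.map_zero]

include adj hR in
lemma isQuot_map {I : Ideal A} {X Q : C} {p : X ⟶ Q} (h : ARSys.IsQuot I p) :
    ARSys.IsQuot I (L.map p) := by
  refine ⟨killedBy_map adj hR h.1, ?_⟩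
  intro Y' φ' hφ'
  have hφ : ARSys.HomKilledBy I (adj.homEquiv X Y' φ') := by
    intro a ha
    rw [adj.homEquiv_unit, ← Linear.comp_smul, ← hR, hφ' a ha, R.map_zero, comp_zero]
  obtain ⟨ψ, hψ, huniq⟩ := h.2 (R.obj Y') _ hφ
  refine ⟨(adj.homEquiv Q Y').symm ψ, ?_, ?_⟩
  · apply (adj.homEquiv X Y').injective
    rw [adj.homEquiv_naturality_left, Equiv.apply_symm_apply]
    exact hψ
  · intro ψ' hψ'
    apply (adj.homEquiv Q Y').injective
    rw [Equiv.apply_symm_apply]
    apply huniq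
    rw [← adj.homEquiv_naturality_left, hψ']

include adj hR in
lemma isAdic_comp {I : Ideal A} {X : ARSys.PS C} (h : ARSys.IsAdic I X) :
    ARSys.IsAdic I (X ⋙ L) :=
  ⟨fun n => killedBy_map adj hR (h.1 n), fun n m hnm => isQuot_map adj hR (h.2 n m hnm)⟩

end Gen

section Whisker

universe v₁ v₂ u₁ u₂

variable {C : Type u₁} [Category.{v₁} C] {D : Type u₂} [Category.{v₂} D]
  [Abelian C] [Abelian D] (L : C ⥤ D) [L.Additive] [PreservesFiniteLimits L]
  [PreservesFiniteColimits L]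

instance : ((Functor.whiskeringRight ℕᵒᵖ C D).obj L).PreservesZeroMorphisms where
  map_zero X Y := by
    ext n
    exact L.map_zero _ _

lemma nullBy_whisker {X Y : ARSys.PS C} {v : X ⟶ Y} {r : ℕ} (hK : NullBy r (kernel v))
    (hC : NullBy r (cokernel v)) :
    NullBy r (kernel (Functor.whiskerRight v L)) ∧
      NullBy r (cokernel (Functor.whiskerRight v L)) := by
  let W := (Functor.whiskeringRight ℕᵒᵖ C D).obj L
  haveI : PreservesFiniteLimits W := ⟨fun J _ _ => inferInstance⟩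
  haveI : PreservesFiniteColimits W := ⟨fun J _ _ => inferInstance⟩
  have e1 : W.obj (kernel v) ≅ kernel (W.map v) := PreservesKernel.iso W v
  have e2 : W.obj (cokernel v) ≅ cokernel (W.map v) := PreservesCokernel.iso W v
  exact ⟨nullBy_of_iso e1 (nullBy_comp L hK), nullBy_of_iso e2 (nullBy_comp L hC)⟩

end Whisker

section Iso

variable {Λ : Type (u + 1)} [CommRing Λ]

lemma hasDatum_of_iso {I : Ideal Λ} {N N' : ARSys.PS (ModuleCat.{u + 1} Λ)} (e : N ≅ N') {r : ℕ}
    (h : HasDatum I N r) : HasDatum I N' r := by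
  obtain ⟨Y, v, hY, hK, hC⟩ := h
  refine ⟨Y, v ≫ e.hom, hY, ?_, ?_⟩
  · exact nullBy_of_iso (kernelCompMono v e.hom).symm hK
  · exact nullBy_of_iso (cokernelCompIsIso v e.hom).symm hC

lemma hasDatum_mono {I : Ideal Λ} {N : ARSys.PS (ModuleCat.{u + 1} Λ)} {r r' : ℕ} (hr : r ≤ r')
    (h : HasDatum I N r) : HasDatum I N r' := by
  obtain ⟨Y, v, hY, hK, hC⟩ := h
  exact ⟨Y, v, hY, hK.mono hr, hC.mono hr⟩

lemma hasDatum_of_isARIso {I : Ideal Λ} {N Y : ARSys.PS (ModuleCat.{u + 1} Λ)} (v : Y ⟶ N)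
    (hY : ARSys.IsAdic I Y) (hv : ARSys.IsARIso v) : ∃ r, HasDatum I N r := by
  obtain ⟨⟨r₁, h₁⟩, ⟨r₂, h₂⟩⟩ := hv
  exact ⟨max r₁ r₂, Y, v, hY, NullBy.mono (le_max_left _ _) h₁, NullBy.mono (le_max_right _ _) h₂⟩

end Iso

section Stalk

variable (Λ : Type (u + 1)) [CommRing Λ]

theorem ab5u : AB5OfSize.{u, u} (ModuleCat.{u + 1} Λ) :=
  AB5OfSize_shrink.{u, u, u + 1, u + 1} (ModuleCat.{u + 1} Λ)

theorem pfcu : PreservesFilteredColimitsOfSize.{u, u} (forget (ModuleCat.{u + 1} Λ)) :=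
  preservesFilteredColimitsOfSize_shrink.{u, u + 1, u, u + 1} _

theorem hasLimU : HasLimitsOfSize.{u, u} (ModuleCat.{u + 1} Λ) :=
  hasLimitsOfSizeShrink.{u, u, u + 1, u + 1} _

attribute [local instance] ab5u pfcu hasLimU

section Sky

universe w' v₁ u₁ v₂ u₂

lemma sky_smul {R : Type*} [CommRing R] {C : Type u₁} [Category.{v₁} C]
    {J : GrothendieckTopology C}
    (Φ : GrothendieckTopology.Point.{w'} J) {A : Type u₂} [Category.{v₂} A] [Preadditive A]
    [Linear R A] [HasProducts.{w'} A] {P Q : A} (a : R) (φ : P ⟶ Q) :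
    (Φ.skyscraperSheafFunctor (A := A)).map (a • φ) =
      a • (Φ.skyscraperSheafFunctor (A := A)).map φ := by
  apply Sheaf.hom_ext
  ext V : 2
  apply Pi.hom_ext
  intro x
  have h1 : ∀ ψ : P ⟶ Q,
      ((Φ.skyscraperSheafFunctor (A := A)).map ψ).hom.app V ≫
        Pi.π (fun _ => Q) x = Pi.π (fun _ => P) x ≫ ψ := by
    intro ψ
    exact Pi.map_π (f := fun _ => P) (g := fun _ => Q) (fun _ => ψ) x
  have h2 : (a • (Φ.skyscraperSheafFunctor (A := A)).map φ).hom.app V =
      a • ((Φ.skyscraperSheafFunctor (A := A)).map φ).hom.app V := rfl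
  rw [h1, h2, Linear.smul_comp, h1, Linear.comp_smul]

end Sky

variable {X : Scheme.{u}}

/-- stalk of a pullback, module version -/
noncomputable def stalkPullModIso {X Y : Scheme.{u}} (f : X ⟶ Y) {Ω : Type u} [Field Ω]
    [IsSepClosed Ω] (ξ : Spec (CommRingCat.of Ω) ⟶ X) :
    EtModW.pull Λ f ⋙ EtModW.stalk Λ ξ ≅ EtModW.stalk Λ (ξ ≫ f) :=
  (GrothendieckTopology.Point.sheafFiberComapIso (Scheme.pointSmallEtale ξ) (EtCoh.bc f)
    (EtCoh.coverPreserving_bc f) (ModuleCat.{u + 1} Λ)).symm ≪≫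
    Groth.Agent.Lib.Helper5.EtStalkPull.sheafFiberIsoOfIso
      (Groth.Agent.Lib.Helper5.EtStalkPull.pointIso f ξ)

instance stalkAdditive {Ω : Type u} [Field Ω] [IsSepClosed Ω] (ξ : Spec (CommRingCat.of Ω) ⟶ X) :
    (EtModW.stalk Λ ξ).Additive :=
  Functor.additive_of_preserves_binary_products _

instance stalkLinear {Ω : Type u} [Field Ω] [IsSepClosed Ω] (ξ : Spec (CommRingCat.of Ω) ⟶ X) :
    Functor.Linear Λ (EtModW.stalk Λ ξ) where
  map_smul {A B} f a := by
    let adj := (Scheme.pointSmallEtale ξ).skyscraperSheafAdjunction (A := ModuleCat.{u + 1} Λ)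
    haveI : ((Scheme.pointSmallEtale ξ).skyscraperSheafFunctor
        (A := ModuleCat.{u + 1} Λ)).Additive := adj.right_adjoint_additive
    exact L_map_smul adj (fun a φ => sky_smul (Scheme.pointSmallEtale ξ) a φ) a f

open Groth.Agent.Lib.Helper5 in
/-- a morphism of sheaves of modules vanishing on all geometric stalks is zero -/
lemma hom_eq_zero_of_stalks {A B : EtModW.Mod Λ X} (h : A ⟶ B)
    (hz : ∀ g : EtStalk.GeomPt X, (EtModW.stalk Λ g.ξ).map h = 0) : h = 0 := by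
  ext U s
  apply PointDetect.eq_of_germs_sheaf (EtStalk.detects X) B
  intro g x
  have h1 : g.point.toPresheafFiber U.unop x B.obj (h.hom.app U s) =
      (g.point.presheafFiber.map h.hom) (g.point.toPresheafFiber U.unop x A.obj s) :=
    (GrothendieckTopology.Point.toPresheafFiber_naturality_apply g.point h.hom U.unop x s).symm
  have h2 : g.point.presheafFiber.map h.hom = 0 := hz g
  rw [h1, h2]
  simp

lemma isAdic_stalk {I : Ideal Λ} {Y : ARSys.PS (EtModW.Mod Λ X)} (hY : ARSys.IsAdic I Y)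
    {Ω : Type u} [Field Ω] [IsSepClosed Ω] (ξ : Spec (CommRingCat.of Ω) ⟶ X) :
    ARSys.IsAdic I (Y ⋙ EtModW.stalk Λ ξ) := by
  let adj := (Scheme.pointSmallEtale ξ).skyscraperSheafAdjunction (A := ModuleCat.{u + 1} Λ)
  haveI : ((Scheme.pointSmallEtale ξ).skyscraperSheafFunctor
      (A := ModuleCat.{u + 1} Λ)).Additive := adj.right_adjoint_additive
  exact isAdic_comp adj (fun a φ => sky_smul (Scheme.pointSmallEtale ξ) a φ) hY

/-- a sheaf-level datum with constant `r` gives a stalk datum with constant `r` -/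
lemma hasDatum_stalk {I : Ideal Λ} {F Y : ARSys.PS (EtModW.Mod Λ X)} (v : Y ⟶ F)
    (hY : ARSys.IsAdic I Y) {r : ℕ} (hK : NullBy r (kernel v)) (hC : NullBy r (cokernel v))
    {Ω : Type u} [Field Ω] [IsSepClosed Ω] (ξ : Spec (CommRingCat.of Ω) ⟶ X) :
    HasDatum I (F ⋙ EtModW.stalk Λ ξ) r := by
  haveI : PreservesFiniteLimits (EtModW.stalk Λ ξ) := inferInstance
  haveI : PreservesFiniteColimits (EtModW.stalk Λ ξ) := inferInstance
  obtain ⟨h1, h2⟩ := nullBy_whisker (EtModW.stalk Λ ξ) hK hC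
  exact ⟨Y ⋙ EtModW.stalk Λ ξ, Functor.whiskerRight v (EtModW.stalk Λ ξ),
    isAdic_stalk Λ hY ξ, h1, h2⟩

variable [IsNoetherianRing Λ]

/-- the gluing theorem -/
theorem glue (I : Ideal Λ) (F : ARSys.PS (EtModW.Mod Λ X))
    (hc : ∀ n : ℕ, EtModW.IsConstructible Λ (F.obj (op n))) (hk : ARSys.TermKilled I F) (r : ℕ)
    (h : ∀ p : Groth.Agent.Lib.Helper5.EtStalk.GeomPt X,
      HasDatum I (F ⋙ EtModW.stalk Λ p.ξ) r) :
    ∃ (Y : ARSys.PS (EtModW.Mod Λ X)) (v : Y ⟶ F), ARSys.IsAdic I Y ∧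
      (∀ n : ℕ, EtModW.IsConstructible Λ (Y.obj (op n))) ∧ ARSys.IsARIso v := by
  obtain ⟨kk, g, hg⟩ := exists_gens I
  let T : Groth.Agent.Lib.Helper5.EtStalk.GeomPt X → EtModW.Mod Λ X ⥤ ModuleCat.{u + 1} Λ :=
    fun p => EtModW.stalk Λ p.ξ
  haveI : ∀ p, (T p).Additive := fun p => stalkAdditive Λ p.ξ
  haveI : ∀ p, Functor.Linear Λ (T p) := fun p => stalkLinear Λ p.ξ
  haveI : ∀ p, PreservesFiniteLimits (T p) := fun p => by
    show PreservesFiniteLimits (EtModW.stalk Λ p.ξ); infer_instance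
  haveI : ∀ p, PreservesFiniteColimits (T p) := fun p => by
    show PreservesFiniteColimits (EtModW.stalk Λ p.ξ); infer_instance
  have hT : ∀ {A B : EtModW.Mod Λ X} (h : A ⟶ B), (∀ p, (T p).map h = 0) → h = 0 :=
    fun h hz => hom_eq_zero_of_stalks Λ h hz
  have hgood : ∀ p, Good I (F ⋙ T p) r := fun p => good_of_datum I _ r (h p)
  refine ⟨Gsys I F r g hg, vv I F r g hg hk, isAdic_Gsys I F r g hg T hT hgood, ?_,
    isARIso_vv I F r g hg hk T hT hgood⟩
  intro n
  let P : ObjectProperty (EtModW.Mod Λ X) := fun G => EtModW.IsConstructible Λ G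
  haveI : P.IsClosedUnderExtensions :=
    ⟨fun hS h1 h3 => H9FE.ModCsStrata.constructible_extension Λ _ hS h1 h3⟩
  have h0 : P (0 : EtModW.Mod Λ X) := H9FE.ModCsStrata.constructible_of_isZero Λ _ (isZero_zero _)
  have h1 : P (kernel (tau F r n)) :=
    (H9FE.ModCsStrata.constructible_kernel_cokernel Λ (tau F r n) (hc _) (hc _)).1
  have h2 : P (powObj (kk n) (EE F r n)) := powObj_prop P h0 (kk n) _ (hc _)
  have h3 : P (kernel (tau F r n) ⊞ powObj (kk n) (EE F r n)) := P.prop_biprod h1 h2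
  exact (H9FE.ModCsStrata.constructible_kernel_cokernel Λ (phi F r g n) h3 (hc _)).2

end Stalk

end H9FE.ARGlue
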