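import Mathlib

/-! helper9: coproducts of abelian groups are direct sums; a criterion for a group to be a direct sum -/

set_option autoImplicit false
open CategoryTheory CategoryTheory.Limits DirectSum

namespace H9FE.AbCoprod

universe w v

section Cat

variable {ι : Type v} [DecidableEq ι] (Z : ι → AddCommGrpCat.{max v w})

/-- the direct sum cofan -/
noncomputable def cofan : Cofan Z :=
  Cofan.mk (AddCommGrpCat.of (⨁ i, Z i))
    fun i => AddCommGrpCat.ofHom (DirectSum.of (fun i => (Z i : Type (max v w))) i)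

/-- the direct sum is a coproduct -/
noncomputable def isColimit : IsColimit (cofan Z) :=
  Cofan.IsColimit.mk _
    (fun s => AddCommGrpCat.ofHom (DirectSum.toAddMonoid fun i => (s.inj i).hom))
    (fun s i => by
      ext x
      exact DirectSum.toAddMonoid_of (fun i => (s.inj i).hom) i x)
    (fun s m hm => by
      ext : 1
      refine DirectSum.addHom_ext fun i x => ?_
      have := ConcreteCategory.congr_hom (hm i) x
      refine this.trans ?_
      exact (DirectSum.toAddMonoid_of (fun i => (s.inj i).hom) i x).symm)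

/-- the coproduct is the direct sum -/
noncomputable def coprodIso [HasCoproduct Z] : ∐ Z ≅ AddCommGrpCat.of (⨁ i, Z i) :=
  colimit.isoColimitCocone ⟨_, isColimit Z⟩

end Cat

section Crit

variable {ι : Type v} {A : Type (max v w)} [AddCommGroup A] (Z : ι → Type (max v w))
  [∀ i, AddCommGroup (Z i)]
  (φ : ∀ i, A →+ Z i)

theorem addEquiv_directSum [DecidableEq ι]
    (hinj : ∀ a, (∀ i, φ i a = 0) → a = 0)
    (hfin : ∀ a, {i | φ i a ≠ 0}.Finite)
    (hsingle : ∀ i (z : Z i), ∃ a, φ i a = z ∧ ∀ j, j ≠ i → φ j a = 0) :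
    Nonempty (A ≃+ ⨁ i, Z i) := by
  classical
  let Ψ₀ : A → ⨁ i, Z i := fun a => DFinsupp.mk (hfin a).toFinset (fun i => φ i.1 a)
  have hΨ₀ : ∀ a i, Ψ₀ a i = φ i a := by
    intro a i
    change (DFinsupp.mk (hfin a).toFinset (fun i => φ i.1 a)) i = _
    rw [DFinsupp.mk_apply]
    split_ifs with h
    · rfl
    · rw [Set.Finite.mem_toFinset] at h
      simp only [Set.mem_ofPred_eq, ne_eq, not_not] at h
      exact h.symm
  let Ψ : A →+ ⨁ i, Z i := AddMonoidHom.mk' Ψ₀ (fun a b => by
    apply DFinsupp.ext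
    intro i
    rw [DirectSum.add_apply, hΨ₀, hΨ₀, hΨ₀, map_add])
  have hΨ : ∀ a i, Ψ a i = φ i a := hΨ₀
  have h1 : Function.Injective Ψ := by
    rw [injective_iff_map_eq_zero]
    intro a ha
    apply hinj
    intro i
    rw [← hΨ, ha]
    rfl
  have h2 : Function.Surjective Ψ := by
    intro x
    induction x using DirectSum.induction_on with
    | zero => exact ⟨0, map_zero _⟩
    | of i z =>
      obtain ⟨a, ha1, ha2⟩ := hsingle i z
      refine ⟨a, ?_⟩
      apply DFinsupp.ext
      intro j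
      rw [hΨ]
      by_cases hj : j = i
      · subst hj
        rw [DirectSum.of_eq_same]
        exact ha1
      · rw [DirectSum.of_eq_of_ne _ _ _ hj]
        exact ha2 j hj
    | add x y hx hy =>
      obtain ⟨a, rfl⟩ := hx
      obtain ⟨b, rfl⟩ := hy
      exact ⟨a + b, map_add _ _ _⟩
  exact ⟨AddEquiv.ofBijective Ψ ⟨h1, h2⟩⟩

end Crit

/-- categorical form of the criterion -/
theorem iso_coprod {ι : Type v} (A : AddCommGrpCat.{max v w}) (Z : ι → AddCommGrpCat.{max v w})
    [HasCoproduct Z] (φ : ∀ i, A ⟶ Z i)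
    (hinj : ∀ a : A, (∀ i, φ i a = 0) → a = 0)
    (hfin : ∀ a : A, {i | φ i a ≠ 0}.Finite)
    (hsingle : ∀ i (z : Z i), ∃ a : A, φ i a = z ∧ ∀ j, j ≠ i → φ j a = 0) :
    Nonempty (A ≅ ∐ Z) := by
  classical
  obtain ⟨e⟩ := addEquiv_directSum.{w, v} (fun i => (Z i : Type (max v w))) (fun i => (φ i).hom) hinj hfin hsingle
  exact ⟨e.toAddCommGrpIso ≪≫ (coprodIso Z).symm⟩

end H9FE.AbCoprod
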