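import Mathlib
import Groth.Agent.Lib.Helper9.FE.AbCoprod

/-! helper9: colimit cofans of abelian groups: generation by the inclusions, and a criterion
(retractions + generation) -/

set_option autoImplicit false
open CategoryTheory CategoryTheory.Limits DirectSum

namespace H9FE.AbCofan

universe w v

section Gen

variable {ι : Type v} {Z : ι → AddCommGrpCat.{w}} (c : Cofan Z)

/-- the subgroup generated by the images of the inclusions -/
def genSubgroup : AddSubgroup c.pt :=
  AddSubgroup.closure (⋃ i, Set.range (c.inj i))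

lemma inj_mem_genSubgroup (i : ι) (z : Z i) : c.inj i z ∈ genSubgroup c :=
  AddSubgroup.subset_closure (Set.mem_iUnion.2 ⟨i, z, rfl⟩)

theorem genSubgroup_eq_top (hc : IsColimit c) : genSubgroup c = ⊤ := by
  let Q : AddCommGrpCat.{w} := AddCommGrpCat.of (c.pt ⧸ genSubgroup c)
  let q : c.pt ⟶ Q := AddCommGrpCat.ofHom (QuotientAddGroup.mk' (genSubgroup c))
  have hq : q = 0 := by
    apply Cofan.IsColimit.hom_ext hc
    intro i
    ext z
    change QuotientAddGroup.mk' (genSubgroup c) (c.inj i z) = 0
    rw [QuotientAddGroup.mk'_apply, QuotientAddGroup.eq_zero_iff]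
    exact inj_mem_genSubgroup c i z
  rw [eq_top_iff]
  intro a _
  have := ConcreteCategory.congr_hom hq a
  change QuotientAddGroup.mk' (genSubgroup c) a = 0 at this
  rwa [QuotientAddGroup.mk'_apply, QuotientAddGroup.eq_zero_iff] at this

end Gen

section Crit

variable {ι : Type v} [DecidableEq ι] {Z : ι → AddCommGrpCat.{max v w}} (c : Cofan Z)

/-- a cofan with retractions which is generated by the inclusions is a coproduct -/
noncomputable def isColimitOfRetractions (r : ∀ k, c.pt ⟶ Z k)
    (hsame : ∀ k (z : Z k), r k (c.inj k z) = z)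
    (hne : ∀ i k, i ≠ k → ∀ z : Z i, r k (c.inj i z) = 0)
    (hgen : genSubgroup c = ⊤) : IsColimit c := by
  let φ : (⨁ i, (Z i : Type (max v w))) →+ c.pt := DirectSum.toAddMonoid (fun i => (c.inj i).hom)
  have hφ : ∀ i z, φ (DirectSum.of (fun i => (Z i : Type (max v w))) i z) = c.inj i z :=
    fun i z => DirectSum.toAddMonoid_of (fun i => (c.inj i).hom) i z
  have hrφ : ∀ k (x : ⨁ i, (Z i : Type (max v w))), r k (φ x) = x k := by
    intro k x
    induction x using DirectSum.induction_on with
    | zero => rw [map_zero, map_zero]; rfl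
    | of i z =>
      rw [hφ]
      by_cases hik : i = k
      · subst hik
        rw [DirectSum.of_eq_same]
        exact hsame i z
      · rw [DirectSum.of_eq_of_ne _ _ _ (fun h => hik h.symm)]
        exact hne i k hik z
    | add x y hx hy => rw [map_add, map_add, hx, hy, DirectSum.add_apply]
  have hinj : Function.Injective φ := by
    rw [injective_iff_map_eq_zero]
    intro x hx
    apply DFinsupp.ext
    intro k
    rw [← hrφ, hx, map_zero]
    rfl
  have hsurj : Function.Surjective φ := by
    intro a
    have ha : a ∈ genSubgroup c := by rw [hgen]; trivial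
    refine AddSubgroup.closure_induction (p := fun a _ => ∃ x, φ x = a) ?_ ?_ ?_ ?_ ha
    · intro a ha
      obtain ⟨i, z, rfl⟩ := Set.mem_iUnion.1 ha
      exact ⟨_, hφ i z⟩
    · exact ⟨0, map_zero _⟩
    · rintro _ _ _ _ ⟨x, rfl⟩ ⟨y, rfl⟩
      exact ⟨x + y, map_add _ _ _⟩
    · rintro _ _ ⟨x, rfl⟩
      exact ⟨-x, map_neg _ _⟩
  let e : (⨁ i, (Z i : Type (max v w))) ≃+ c.pt := AddEquiv.ofBijective φ ⟨hinj, hsurj⟩
  refine IsColimit.ofIsoColimit (AbCoprod.isColimit.{w, v} Z)
    (Cocone.ext e.toAddCommGrpIso ?_)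
  rintro ⟨i⟩
  ext z
  exact hφ i z

end Crit

end H9FE.AbCofan
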