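import Mathlib

/-! helper9: a criterion for a cofan of abelian groups to be a coproduct (hom-bijectivity form) -/

set_option autoImplicit false
open CategoryTheory CategoryTheory.Limits DirectSum

namespace H9FE.AbCoprod2

universe w v

section Crit

variable {ι : Type v} {A : Type (max v w)} [AddCommGroup A] (Z : ι → Type (max v w))
  [∀ i, AddCommGroup (Z i)] (φ : ∀ i, A →+ Z i)

theorem addEquiv_directSum' [DecidableEq ι]
    (hinj : ∀ a, (∀ i, φ i a = 0) → a = 0)
    (hfin : ∀ a, {i | φ i a ≠ 0}.Finite)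
    (hsingle : ∀ i (z : Z i), ∃ a, φ i a = z ∧ ∀ j, j ≠ i → φ j a = 0) :
    ∃ e : A ≃+ ⨁ i, Z i, ∀ a i, e a i = φ i a := by
  classical
  let Ψ₀ : A → ⨁ i, Z i := fun a => DFinsupp.mk (hfin a).toFinset (fun i => φ i.1 a)
  have hΨ₀ : ∀ a i, Ψ₀ a i = φ i a := by
    intro a i
    change (DFinsupp.mk (hfin a).toFinset (fun i => φ i.1 a)) i = _
    rw [DFinsupp.mk_apply]
    split_ifs with h
    · rfl
    · rw [Set.Finite.mem_toFinset] at h
      simp only [Set.mem_ofPred_eq, ne_eq, not_not] at h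
      exact h.symm
  let Ψ : A →+ ⨁ i, Z i := AddMonoidHom.mk' Ψ₀ (fun a b => by
    apply DFinsupp.ext
    intro i
    rw [DirectSum.add_apply, hΨ₀, hΨ₀, hΨ₀, map_add])
  have hΨ : ∀ a i, Ψ a i = φ i a := hΨ₀
  have h1 : Function.Injective Ψ := by
    rw [injective_iff_map_eq_zero]
    intro a ha
    apply hinj
    intro i
    rw [← hΨ, ha]
    rfl
  have h2 : Function.Surjective Ψ := by
    intro x
    induction x using DirectSum.induction_on with
    | zero => exact ⟨0, map_zero _⟩
    | of i z =>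
      obtain ⟨a, ha1, ha2⟩ := hsingle i z
      refine ⟨a, ?_⟩
      apply DFinsupp.ext
      intro j
      rw [hΨ]
      by_cases hj : j = i
      · subst hj
        rw [DirectSum.of_eq_same]
        exact ha1
      · rw [DirectSum.of_eq_of_ne _ _ _ hj]
        exact ha2 j hj
    | add x y hx hy =>
      obtain ⟨a, rfl⟩ := hx
      obtain ⟨b, rfl⟩ := hy
      exact ⟨a + b, map_add _ _ _⟩
  exact ⟨AddEquiv.ofBijective Ψ ⟨h1, h2⟩, hΨ⟩

variable (ψ : ∀ i, Z i →+ A)

/-- hom-bijectivity for a family of sections/retractions with the Kronecker property -/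
theorem bijective_comp (hinj : ∀ a, (∀ i, φ i a = 0) → a = 0)
    (hfin : ∀ a, {i | φ i a ≠ 0}.Finite)
    (hsame : ∀ i z, φ i (ψ i z) = z) (hne : ∀ i j, j ≠ i → ∀ z, φ j (ψ i z) = 0)
    (T : Type (max v w)) [AddCommGroup T] :
    Function.Bijective (fun (g : A →+ T) (i : ι) => g.comp (ψ i)) := by
  classical
  obtain ⟨e, he⟩ := addEquiv_directSum'.{w, v} Z φ hinj hfin
    (fun i z => ⟨ψ i z, hsame i z, fun j hj => hne i j hj z⟩)
  have heψ : ∀ i z, e (ψ i z) = DirectSum.of Z i z := by
    intro i z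
    apply DFinsupp.ext
    intro k
    rw [he]
    by_cases hk : k = i
    · subst hk
      rw [DirectSum.of_eq_same]
      exact hsame _ z
    · rw [DirectSum.of_eq_of_ne _ _ _ hk]
      exact hne i k hk z
  constructor
  · intro g g' h
    have h' : (g.comp e.symm.toAddMonoidHom) = (g'.comp e.symm.toAddMonoidHom) := by
      refine DirectSum.addHom_ext fun i z => ?_
      have e1 : e.symm (DirectSum.of Z i z) = ψ i z := by
        rw [← heψ, AddEquiv.symm_apply_apply]
      change g (e.symm (DirectSum.of Z i z)) = g' (e.symm (DirectSum.of Z i z))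
      rw [e1]
      exact DFunLike.congr_fun (congrFun h i) z
    ext a
    have := DFunLike.congr_fun h' (e a)
    change g (e.symm (e a)) = g' (e.symm (e a)) at this
    rwa [AddEquiv.symm_apply_apply] at this
  · intro h
    refine ⟨(DirectSum.toAddMonoid h).comp e.toAddMonoidHom, ?_⟩
    funext i
    ext z
    change DirectSum.toAddMonoid h (e (ψ i z)) = h i z
    rw [heψ, DirectSum.toAddMonoid_of]

end Crit

/-- categorical form -/
theorem bijective_comp_cat {ι : Type v} (A : AddCommGrpCat.{max v w})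
    (Z : ι → AddCommGrpCat.{max v w}) (φ : ∀ i, A ⟶ Z i) (ψ : ∀ i, Z i ⟶ A)
    (hinj : ∀ a : A, (∀ i, φ i a = 0) → a = 0)
    (hfin : ∀ a : A, {i | φ i a ≠ 0}.Finite)
    (hsame : ∀ i (z : Z i), φ i (ψ i z) = z)
    (hne : ∀ i j, j ≠ i → ∀ z : Z i, φ j (ψ i z) = 0) (T : AddCommGrpCat.{max v w}) :
    Function.Bijective (fun (g : A ⟶ T) (i : ι) => ψ i ≫ g) := by
  have hb := bijective_comp.{w, v} (fun i => (Z i : Type (max v w))) (fun i => (φ i).hom)
    (fun i => (ψ i).hom) hinj hfin hsame hne T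
  constructor
  · intro g g' h
    have := hb.1 (a₁ := g.hom) (a₂ := g'.hom) (by
      funext i
      have := congrArg AddCommGrpCat.Hom.hom (congrFun h i)
      exact this)
    exact AddCommGrpCat.hom_ext this
  · intro h
    obtain ⟨g, hg⟩ := hb.2 (fun i => (h i).hom)
    refine ⟨AddCommGrpCat.ofHom g, ?_⟩
    funext i
    apply AddCommGrpCat.hom_ext
    exact congrFun hg i

end H9FE.AbCoprod2
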