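import Mathlib
import Groth.Prelude.Def_Adeq
import Groth.Agent.Lib.Helper6.Adeq.FlatBC
import Groth.Agent.Lib.Helper6.Adeq.Pointwise

/-! helper9: adequate functors on algebras commute with filtered colimits; tensor products commute
with filtered colimits of commutative algebras (elementwise form). -/

set_option autoImplicit false
set_option linter.unusedSectionVars false
set_option linter.style.haveILetI false
universe u
open CategoryTheory Limits Opposite TensorProduct

namespace H9FE.AdeqColim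

variable {A : Type u} [CommRing A]

attribute [local instance] IsFiltered.isConnected in
instance preservesFiltered_forget {J : Type u} [SmallCategory J] [IsFiltered J] :
    PreservesColimitsOfShape J (forget (CommAlgCat.{u} A)) := by
  let G : CommAlgCat.{u} A ⥤ Type u :=
    (commAlgCatEquivUnder (CommRingCat.of A)).functor ⋙ Under.forget (CommRingCat.of A) ⋙
      forget CommRingCat.{u}
  have hG : PreservesColimitsOfShape J G := inferInstance
  let e : G ≅ forget (CommAlgCat.{u} A) := NatIso.ofComponents (fun B => Iso.refl _)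
  exact preservesColimitsOfShape_of_natIso e

section Algs

variable {J : Type u} [SmallCategory J] [IsFiltered J] (D : J ⥤ Adeq.Alg A) (c : Cocone D)
  (hc : IsColimit c)

include hc in
lemma alg_rep (b : c.pt) : ∃ (j : J) (β : D.obj j), (c.ι.app j).hom β = b :=
  Concrete.isColimit_exists_rep D hc b

include hc in
lemma alg_eq {i j : J} (x : D.obj i) (y : D.obj j)
    (h : (c.ι.app i).hom x = (c.ι.app j).hom y) :
    ∃ (k : J) (f : i ⟶ k) (g : j ⟶ k), (D.map f).hom x = (D.map g).hom y :=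
  Concrete.isColimit_exists_of_rep_eq D hc x y h

lemma ι_map {i j : J} (f : i ⟶ j) (x : D.obj i) :
    (c.ι.app j).hom ((D.map f).hom x) = (c.ι.app i).hom x := by
  rw [← c.w f]
  rfl

end Algs

section Tens

variable (M : ModuleCat.{u + 1} A) {J : Type u} [SmallCategory J] [IsFiltered J]
  (D : J ⥤ Adeq.Alg A) (c : Cocone D) (hc : IsColimit c)

/-- the transition maps `B_i ⊗ M → B_j ⊗ M` -/
noncomputable abbrev Tmap {i j : J} (f : i ⟶ j) : (D.obj i) ⊗[A] M →ₗ[A] (D.obj j) ⊗[A] M :=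
  (D.map f).hom.toLinearMap.rTensor M

/-- the maps `B_j ⊗ M → B ⊗ M` -/
noncomputable abbrev Tι (j : J) : (D.obj j) ⊗[A] M →ₗ[A] c.pt ⊗[A] M :=
  (c.ι.app j).hom.toLinearMap.rTensor M

lemma Tι_Tmap {i j : J} (f : i ⟶ j) (ζ : (D.obj i) ⊗[A] M) :
    Tι M D c j (Tmap M D f ζ) = Tι M D c i ζ := by
  induction ζ using TensorProduct.induction_on with
  | zero => simp
  | tmul b m =>
    simp only [Tι, Tmap, LinearMap.rTensor_tmul, AlgHom.toLinearMap_apply]
    rw [ι_map]
  | add x y hx hy => rw [map_add, map_add, map_add, hx, hy]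

lemma Tmap_comp {i j k : J} (f : i ⟶ j) (g : j ⟶ k) (ζ : (D.obj i) ⊗[A] M) :
    Tmap M D (f ≫ g) ζ = Tmap M D g (Tmap M D f ζ) := by
  induction ζ using TensorProduct.induction_on with
  | zero => simp
  | tmul b m =>
    simp only [Tmap, LinearMap.rTensor_tmul, AlgHom.toLinearMap_apply]
    rw [D.map_comp]
    rfl
  | add x y hx hy => rw [map_add, map_add, map_add, hx, hy]

include hc in
/-- every element of `B ⊗ M` comes from a stage -/
lemma T_surj (z : c.pt ⊗[A] M) : ∃ (j : J) (ζ : (D.obj j) ⊗[A] M), Tι M D c j ζ = z := by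
  induction z using TensorProduct.induction_on with
  | zero =>
    obtain ⟨j⟩ := IsFiltered.nonempty (C := J)
    exact ⟨j, 0, map_zero _⟩
  | tmul b m =>
    obtain ⟨j, β, hβ⟩ := alg_rep D c hc b
    refine ⟨j, β ⊗ₜ[A] m, ?_⟩
    simp only [Tι, LinearMap.rTensor_tmul, AlgHom.toLinearMap_apply]
    rw [hβ]
  | add x y hx hy =>
    obtain ⟨i, ξ, hξ⟩ := hx
    obtain ⟨j, η, hη⟩ := hy
    refine ⟨IsFiltered.max i j, Tmap M D (IsFiltered.leftToMax i j) ξ +
      Tmap M D (IsFiltered.rightToMax i j) η, ?_⟩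
    rw [map_add, Tι_Tmap, Tι_Tmap, hξ, hη]

/-- the diagram of abelian groups `B_j ⊗ M` -/
noncomputable def TD : J ⥤ Ab.{u + 1} where
  obj j := AddCommGrpCat.of ((D.obj j) ⊗[A] M)
  map f := AddCommGrpCat.ofHom (Tmap M D f).toAddMonoidHom
  map_id j := by
    ext ζ
    change Tmap M D (𝟙 j) ζ = ζ
    induction ζ using TensorProduct.induction_on with
    | zero => simp
    | tmul b m =>
      simp only [Tmap, LinearMap.rTensor_tmul, AlgHom.toLinearMap_apply]
      rw [D.map_id]
      rfl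
    | add x y hx hy => rw [map_add, hx, hy]
  map_comp f g := by
    ext ζ
    exact Tmap_comp M D f g ζ

instance : HasColimitsOfShape J Ab.{u + 1} := by
  haveI : HasColimitsOfSize.{u, u} Ab.{u + 1} := hasColimitsOfSizeShrink.{u, u, u + 1, u + 1} _
  infer_instance

instance : PreservesColimitsOfShape J (forget Ab.{u + 1}) := by
  haveI : PreservesFilteredColimitsOfSize.{u, u} (forget Ab.{u + 1}) :=
    preservesFilteredColimitsOfSize_shrink.{u, u + 1, u, u + 1} _
  infer_instance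

/-- the colimit group -/
noncomputable abbrev G : Ab.{u + 1} := colimit (TD M D)

/-- the coprojections -/
noncomputable abbrev gι (j : J) (ζ : (D.obj j) ⊗[A] M) : G M D :=
  (colimit.ι (TD M D) j).hom ζ

lemma gι_Tmap {i j : J} (f : i ⟶ j) (ζ : (D.obj i) ⊗[A] M) :
    gι M D j (Tmap M D f ζ) = gι M D i ζ :=
  ConcreteCategory.congr_hom (colimit.w (TD M D) f) ζ

lemma gι_add (j : J) (ζ ξ : (D.obj j) ⊗[A] M) : gι M D j (ζ + ξ) = gι M D j ζ + gι M D j ξ :=
  map_add _ _ _

lemma gι_eq_zero {i : J} (ζ : (D.obj i) ⊗[A] M) (h : gι M D i ζ = 0) :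
    ∃ (k : J) (f : i ⟶ k), Tmap M D f ζ = 0 := by
  have h0 : gι M D i ζ = gι M D i 0 := by rw [h]; exact (map_zero _).symm
  obtain ⟨k, f, g, hfg⟩ := Concrete.colimit_exists_of_rep_eq (TD M D) ζ (0 : (D.obj i) ⊗[A] M) h0
  refine ⟨k, f, ?_⟩
  have h1 : Tmap M D f ζ = Tmap M D g 0 := hfg
  rw [h1, map_zero]

/-- a chosen representative of an element of the colimit algebra -/
noncomputable def repJ (b : c.pt) : J := (alg_rep D c hc b).choose

noncomputable def repβ (b : c.pt) : D.obj (repJ D c hc b) := (alg_rep D c hc b).choose_spec.choose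

lemma repβ_spec (b : c.pt) : (c.ι.app (repJ D c hc b)).hom (repβ D c hc b) = b :=
  (alg_rep D c hc b).choose_spec.choose_spec

/-- the value of the bilinear map on `(b, m)` -/
noncomputable def fb (b : c.pt) (m : M) : G M D :=
  gι M D (repJ D c hc b) (repβ D c hc b ⊗ₜ[A] m)

lemma fb_eq (b : c.pt) (m : M) (j : J) (β : D.obj j) (hβ : (c.ι.app j).hom β = b) :
    fb M D c hc b m = gι M D j (β ⊗ₜ[A] m) := by
  obtain ⟨k, f, g, hfg⟩ := alg_eq D c hc (repβ D c hc b) β ((repβ_spec D c hc b).trans hβ.symm)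
  rw [fb, ← gι_Tmap M D f, ← gι_Tmap M D g]
  simp only [Tmap, LinearMap.rTensor_tmul, AlgHom.toLinearMap_apply]
  rw [hfg]

/-- the bilinear map, as a bi-additive map -/
noncomputable def fAdd : c.pt →+ M →+ G M D :=
  AddMonoidHom.mk' (fun b => AddMonoidHom.mk' (fun m => fb M D c hc b m) (by
    intro m m'
    rw [fb, TensorProduct.tmul_add, gι_add]
    rfl)) (by
    intro b b'
    ext m
    change fb M D c hc (b + b') m = fb M D c hc b m + fb M D c hc b' m
    obtain ⟨i, β, hβ⟩ := alg_rep D c hc b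
    obtain ⟨j, β', hβ'⟩ := alg_rep D c hc b'
    let k := IsFiltered.max i j
    let f : i ⟶ k := IsFiltered.leftToMax i j
    let g : j ⟶ k := IsFiltered.rightToMax i j
    have h1 : (c.ι.app k).hom ((D.map f).hom β) = b := (ι_map D c f β).trans hβ
    have h2 : (c.ι.app k).hom ((D.map g).hom β') = b' := (ι_map D c g β').trans hβ'
    have h3 : (c.ι.app k).hom ((D.map f).hom β + (D.map g).hom β') = b + b' := by
      rw [map_add, h1, h2]
    rw [fb_eq M D c hc b m k _ h1, fb_eq M D c hc b' m k _ h2, fb_eq M D c hc (b + b') m k _ h3,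
      TensorProduct.add_tmul, gι_add])

lemma fAdd_apply (b : c.pt) (m : M) : fAdd M D c hc b m = fb M D c hc b m := rfl

/-- the inverse comparison map `B ⊗ M → colim (B_j ⊗ M)` -/
noncomputable def ψ : c.pt ⊗[A] M →+ G M D :=
  TensorProduct.liftAddHom (fAdd M D c hc) (by
    intro a b m
    rw [fAdd_apply, fAdd_apply]
    obtain ⟨i, β, hβ⟩ := alg_rep D c hc b
    have h1 : (c.ι.app i).hom (a • β) = a • b := by rw [map_smul, hβ]
    rw [fb_eq M D c hc (a • b) m i _ h1, fb_eq M D c hc b (a • m) i _ hβ,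
      TensorProduct.smul_tmul])

lemma ψ_Tι (j : J) (ζ : (D.obj j) ⊗[A] M) : ψ M D c hc (Tι M D c j ζ) = gι M D j ζ := by
  induction ζ using TensorProduct.induction_on with
  | zero => rw [map_zero, map_zero]; exact (map_zero _).symm
  | tmul β m =>
    simp only [Tι, LinearMap.rTensor_tmul, AlgHom.toLinearMap_apply]
    rw [ψ, TensorProduct.liftAddHom_tmul, fAdd_apply]
    exact fb_eq M D c hc _ m j β rfl
  | add x y hx hy => rw [map_add, map_add, hx, hy, gι_add]

include hc in
/-- an element of `B_i ⊗ M` dying in `B ⊗ M` dies at a later stage -/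
lemma T_inj {i : J} (ζ : (D.obj i) ⊗[A] M) (h : Tι M D c i ζ = 0) :
    ∃ (k : J) (f : i ⟶ k), Tmap M D f ζ = 0 := by
  apply gι_eq_zero
  rw [← ψ_Tι M D c hc, h, map_zero]

end Tens

section Main

variable {J : Type u} [SmallCategory J] [IsFiltered J]

lemma U_map_eq (M : ModuleCat.{u + 1} A) {B B' : Adeq.Alg A} (f : B ⟶ B')
    (ζ : ((Adeq.underline A).obj M).obj (Adeq.pt B)) :
    ((Adeq.underline A).obj M).map (Adeq.ptHom f) ζ = (f.hom.toLinearMap.rTensor M) ζ := rfl

lemma j_nat {F G : Adeq.MVF A} (j : F ⟶ G) {B B' : Adeq.Alg A} (f : B ⟶ B')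
    (x : F.obj (Adeq.pt B)) :
    j.app (Adeq.pt B') (F.map (Adeq.ptHom f) x) = G.map (Adeq.ptHom f) (j.app (Adeq.pt B) x) :=
  PresheafOfModules.naturality_apply j (Adeq.ptHom f) x

theorem main (F : Adeq.MVF A) (hF : Adeq.adequate A F) (D : J ⥤ Adeq.Alg A)
    (c : Cocone D) (hc : IsColimit c) : Nonempty (IsColimit (F.toAb.mapCocone c)) := by
  obtain ⟨M, N, φ, j, hjφ, hinj, hex⟩ := Groth.Agent.Lib.Helper6.Adeq.pointwise_of_adequate F hF
  have : ReflectsColimitsOfShape J (forget Ab.{u + 1}) :=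
    reflectsColimitsOfShape_of_reflectsIsomorphisms
  refine ⟨isColimitOfReflects (forget Ab.{u + 1}) ?_⟩
  have hjφ' : ∀ (B : Adeq.Alg A) (x : F.obj (Adeq.pt B)),
      ((Adeq.underline A).map φ).app (Adeq.pt B) (j.app (Adeq.pt B) x) = 0 := by
    intro B x
    have := congrArg (fun s => s.app (Adeq.pt B) x) hjφ
    exact this
  apply Types.FilteredColimit.isColimitOf'
  · intro (x : F.obj (Adeq.pt c.pt))
    obtain ⟨i, ζ, hζ⟩ := T_surj M D c hc (j.app (Adeq.pt c.pt) x)
    -- the image of `ζ` in `B_i ⊗ N` dies in the colimit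
    have h1 : Tι N D c i (((Adeq.underline A).map φ).app (Adeq.pt (D.obj i)) ζ) = 0 := by
      have e : Tι N D c i (((Adeq.underline A).map φ).app (Adeq.pt (D.obj i)) ζ) =
          ((Adeq.underline A).map φ).app (Adeq.pt c.pt) (Tι M D c i ζ) :=
        (j_nat ((Adeq.underline A).map φ) (c.ι.app i) ζ).symm
      rw [e, hζ]
      exact hjφ' _ x
    obtain ⟨k, f, hk⟩ := T_inj N D c hc _ h1
    have h2 : ((Adeq.underline A).map φ).app (Adeq.pt (D.obj k)) (Tmap M D f ζ) = 0 := by
      have e : ((Adeq.underline A).map φ).app (Adeq.pt (D.obj k)) (Tmap M D f ζ) =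
          Tmap N D f (((Adeq.underline A).map φ).app (Adeq.pt (D.obj i)) ζ) :=
        j_nat ((Adeq.underline A).map φ) (D.map f) ζ
      exact e.trans hk
    obtain ⟨y, hy⟩ := hex (D.obj k) (Tmap M D f ζ) h2
    refine ⟨k, y, ?_⟩
    change x = F.map (Adeq.ptHom (c.ι.app k)) y
    apply hinj c.pt
    have e : j.app (Adeq.pt c.pt) (F.map (Adeq.ptHom (c.ι.app k)) y) =
        Tι M D c k (j.app (Adeq.pt (D.obj k)) y) := j_nat j (c.ι.app k) y
    rw [e, hy, Tι_Tmap, hζ]
  · intro i (y : F.obj (Adeq.pt (D.obj i))) (y' : F.obj (Adeq.pt (D.obj i))) h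
    have h' : F.map (Adeq.ptHom (c.ι.app i)) y = F.map (Adeq.ptHom (c.ι.app i)) y' := h
    obtain ⟨η, hη⟩ : ∃ η : (D.obj i) ⊗[A] M, η = j.app (Adeq.pt (D.obj i)) y := ⟨_, rfl⟩
    obtain ⟨η', hη'⟩ : ∃ η' : (D.obj i) ⊗[A] M, η' = j.app (Adeq.pt (D.obj i)) y' := ⟨_, rfl⟩
    have h1 : Tι M D c i (η - η') = 0 := by
      have e1 : j.app (Adeq.pt c.pt) (F.map (Adeq.ptHom (c.ι.app i)) y) = Tι M D c i η := by
        rw [hη]
        exact j_nat j (c.ι.app i) y
      have e2 : j.app (Adeq.pt c.pt) (F.map (Adeq.ptHom (c.ι.app i)) y') = Tι M D c i η' := by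
        rw [hη']
        exact j_nat j (c.ι.app i) y'
      rw [map_sub, ← e1, ← e2, h']
      exact sub_self _
    obtain ⟨k, f, hk⟩ := T_inj M D c hc _ h1
    refine ⟨k, f, ?_⟩
    change F.map (Adeq.ptHom (D.map f)) y = F.map (Adeq.ptHom (D.map f)) y'
    apply hinj (D.obj k)
    have e1 : j.app (Adeq.pt (D.obj k)) (F.map (Adeq.ptHom (D.map f)) y) = Tmap M D f η := by
      rw [hη]
      exact j_nat j (D.map f) y
    have e2 : j.app (Adeq.pt (D.obj k)) (F.map (Adeq.ptHom (D.map f)) y') = Tmap M D f η' := by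
      rw [hη']
      exact j_nat j (D.map f) y'
    rw [map_sub, sub_eq_zero] at hk
    rw [e1, e2, hk]

end Main

end H9FE.AdeqColim
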