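import Mathlib
/-! helper9: inverse systems of modules `M_0 ← M_1 ← ⋯` (functors `ℕᵒᵖ ⥤ ModuleCat R`) which are adic for a finitely
generated ideal `I` (surjective transition maps, `Ker (M_{m+1} → M_m) = I^{m+1} M_{m+1}`, `I^{m+1} M_m = 0`): the limit
`M` maps onto every `M_n` with kernel `I^{n+1} M`. -/

universe v

set_option autoImplicit false
set_option linter.unusedSectionVars false
set_option linter.style.haveILetI false
set_option backward.isDefEq.respectTransparency false

open CategoryTheory CategoryTheory.Limits Opposite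

namespace H9FE.Adic

section Gens

variable {R : Type*} [CommRing R] {M : Type*} [AddCommGroup M] [Module R M]

lemma mem_span_smul_iff {s : ℕ} (h : Fin s → R) (N : Submodule R M) (x : M) :
    x ∈ (Ideal.span (Set.range h)) • N ↔
      ∃ z : Fin s → M, (∀ j, z j ∈ N) ∧ x = ∑ j, h j • z j := by
  constructor
  · intro hx
    refine Submodule.smul_induction_on hx ?_ ?_
    · intro a ha y hy
      obtain ⟨c, rfl⟩ := Ideal.mem_span_range_iff_exists_fun.mp ha
      refine ⟨fun j => c j • y, fun j => N.smul_mem _ hy, ?_⟩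
      rw [Finset.sum_smul]
      refine Finset.sum_congr rfl fun j _ => ?_
      rw [smul_smul, mul_comm]
    · rintro x y ⟨z, hz, rfl⟩ ⟨z', hz', rfl⟩
      refine ⟨fun j => z j + z' j, fun j => N.add_mem (hz j) (hz' j), ?_⟩
      simp only [smul_add, Finset.sum_add_distrib]
  · rintro ⟨z, hz, rfl⟩
    exact Submodule.sum_mem _ fun j _ =>
      Submodule.smul_mem_smul (Ideal.subset_span ⟨j, rfl⟩) (hz j)

lemma map_eq_zero_of_mem_smul_top {N' : Type*} [AddCommGroup N'] [Module R N'] (φ : M →ₗ[R] N')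
    (J : Ideal R) (hkill : ∀ a ∈ J, ∀ y : N', a • y = 0) (w : M)
    (hw : w ∈ (J • ⊤ : Submodule R M)) : φ w = 0 := by
  refine Submodule.smul_induction_on hw ?_ ?_
  · intro a ha y _
    rw [map_smul]
    exact hkill a ha _
  · intro x y hx hy
    rw [map_add, hx, hy, add_zero]

lemma map_eq_zero_of_mem_smul_top' {N' : Type*} [AddCommGroup N'] [Module R N'] (φ : M →ₗ[R] N')
    (J : Ideal R) (hkill : ∀ a ∈ J, ∀ m : M, a • φ m = 0) (w : M)
    (hw : w ∈ (J • ⊤ : Submodule R M)) : φ w = 0 := by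
  refine Submodule.smul_induction_on hw ?_ ?_
  · intro a ha y _
    rw [map_smul]
    exact hkill a ha _
  · intro x y hx hy
    rw [map_add, hx, hy, add_zero]

end Gens

section Sys

variable {R : Type v} [CommRing R] (G : ℕᵒᵖ ⥤ ModuleCat.{v} R)

/-- transition maps. -/
def trm {a b : ℕ} (h : a ≤ b) : G.obj (op b) →ₗ[R] G.obj (op a) := (G.map (homOfLE h).op).hom

lemma trm_trm {a b c : ℕ} (h : a ≤ b) (h' : b ≤ c) (x : G.obj (op c)) :
    trm G h (trm G h' x) = trm G (h.trans h') x := by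
  have h0 : (homOfLE (h.trans h')).op = (homOfLE h').op ≫ (homOfLE h).op := Subsingleton.elim _ _
  show (G.map (homOfLE h).op).hom ((G.map (homOfLE h').op).hom x) =
    (G.map (homOfLE (h.trans h')).op).hom x
  rw [h0, G.map_comp]
  rfl

lemma trm_refl {a : ℕ} (x : G.obj (op a)) : trm G (le_refl a) x = x := by
  have h0 : (homOfLE (le_refl a)).op = 𝟙 (op a) := Subsingleton.elim _ _
  show (G.map (homOfLE (le_refl a)).op).hom x = x
  rw [h0, G.map_id]
  rfl

/-- an `I`-adic system of modules. -/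
structure AdicMod (I : Ideal R) : Prop where
  surj : ∀ m, Function.Surjective (trm G (Nat.le_succ m))
  ker : ∀ m (x : G.obj (op (m + 1))), trm G (Nat.le_succ m) x = 0 →
    x ∈ (I ^ (m + 1) • ⊤ : Submodule R (G.obj (op (m + 1))))
  kill : ∀ m, ∀ a ∈ I ^ (m + 1), ∀ x : G.obj (op m), a • x = 0

variable {G}
variable (c : Cone G)

/-- projections of a cone. -/
def pr (m : ℕ) : c.pt →ₗ[R] G.obj (op m) := (c.π.app (op m)).hom

lemma trm_pr {a b : ℕ} (h : a ≤ b) (x : c.pt) : trm G h (pr c b x) = pr c a x := by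
  have h1 := c.w (homOfLE h).op
  show (G.map (homOfLE h).op).hom ((c.π.app (op b)).hom x) = (c.π.app (op a)).hom x
  rw [← h1]
  rfl

variable {c} (hc : IsLimit c)

include hc in
lemma ext_of_pr (x y : c.pt) (h : ∀ m, pr c m x = pr c m y) : x = y := by
  apply Concrete.isLimit_ext G hc
  intro j
  exact h j.unop

include hc in
lemma exists_of_compat (z : ∀ m, G.obj (op m))
    (hz : ∀ m, trm G (Nat.le_succ m) (z (m + 1)) = z m) :
    ∃ x : c.pt, ∀ m, pr c m x = z m := by
  have hcompat : ∀ (n m : ℕ) (hnm : n ≤ m), trm G hnm (z m) = z n := by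
    intro n m hnm
    induction m, hnm using Nat.le_induction with
    | base => exact trm_refl G _
    | succ m hnm ih =>
      rw [← trm_trm G hnm (Nat.le_succ m), hz m]
      exact ih
  let hc' := isLimitOfPreserves (forget (ModuleCat.{v} R)) hc
  have hs : (fun j : ℕᵒᵖ => z j.unop) ∈ (G ⋙ forget (ModuleCat.{v} R)).sections := by
    intro j j' g
    have h0 : g = (homOfLE (leOfHom g.unop)).op := Subsingleton.elim _ _
    rw [h0]
    exact hcompat j'.unop j.unop (leOfHom g.unop)
  refine ⟨(Types.isLimitEquivSections hc').symm ⟨_, hs⟩, ?_⟩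
  intro m
  exact Types.isLimitEquivSections_symm_apply hc' ⟨_, hs⟩ (op m)

section Lift

variable (hs : ∀ m, Function.Surjective (trm G (Nat.le_succ m)))

/-- a compatible sequence through a given element. -/
noncomputable def liftSeq (n : ℕ) (y : G.obj (op n)) : ∀ m, G.obj (op m)
  | 0 => trm G (Nat.zero_le n) y
  | m + 1 => if h : m + 1 ≤ n then trm G h y else (hs m (liftSeq n y m)).choose

lemma liftSeq_of_le (n : ℕ) (y : G.obj (op n)) (m : ℕ) (h : m ≤ n) :
    liftSeq hs n y m = trm G h y := by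
  cases m with
  | zero => rfl
  | succ m =>
    show (if h : m + 1 ≤ n then trm G h y else (hs m (liftSeq hs n y m)).choose) = _
    rw [dif_pos h]

lemma liftSeq_compat (n : ℕ) (y : G.obj (op n)) (m : ℕ) :
    trm G (Nat.le_succ m) (liftSeq hs n y (m + 1)) = liftSeq hs n y m := by
  by_cases h : m + 1 ≤ n
  · rw [liftSeq_of_le hs n y (m + 1) h, liftSeq_of_le hs n y m (Nat.le_of_succ_le h), trm_trm]
  · show trm G (Nat.le_succ m)
      (if h : m + 1 ≤ n then trm G h y else (hs m (liftSeq hs n y m)).choose) = _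
    rw [dif_neg h]
    exact (hs m (liftSeq hs n y m)).choose_spec

include hc hs in
theorem pr_surjective (n : ℕ) : Function.Surjective (pr c n) := by
  intro y
  obtain ⟨x, hx⟩ := exists_of_compat hc (liftSeq hs n y) (liftSeq_compat hs n y)
  refine ⟨x, ?_⟩
  rw [hx n, liftSeq_of_le hs n y n (le_refl n), trm_refl]

end Lift

section Ker

variable {I : Ideal R} (hA : AdicMod G I)

include hA in
lemma step (n : ℕ) {s : ℕ} (h : Fin s → R) (hJ : Ideal.span (Set.range h) = I ^ (n + 1))
    (x : c.pt) (k : ℕ) (u : Fin s → G.obj (op (n + 1 + k)))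
    (hu : pr c (n + 1 + k) x = ∑ j, h j • u j) :
    ∃ u' : Fin s → G.obj (op (n + 1 + (k + 1))),
      pr c (n + 1 + (k + 1)) x = ∑ j, h j • u' j ∧
      ∀ j, ∃ w ∈ (I ^ (k + 1) • ⊤ : Submodule R (G.obj (op (n + 1 + k)))),
        trm G (Nat.le_succ (n + 1 + k)) (u' j) = u j + w := by
  choose v hv using fun j => hA.surj (n + 1 + k) (u j)
  have h1 : trm G (Nat.le_succ (n + 1 + k)) (pr c (n + 1 + (k + 1)) x) = pr c (n + 1 + k) x :=
    trm_pr c (Nat.le_succ (n + 1 + k)) x
  have hd : trm G (Nat.le_succ (n + 1 + k))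
      (pr c (n + 1 + (k + 1)) x - ∑ j, h j • v j) = 0 := by
    rw [map_sub, h1, map_sum, hu]
    simp only [map_smul, hv]
    exact sub_self _
  have hd2 := hA.ker (n + 1 + k) _ hd
  have hpow : I ^ (n + 1 + k + 1) = I ^ (n + 1) * I ^ (k + 1) := by
    rw [← pow_add, add_assoc]
  rw [hpow, Submodule.mul_smul, ← hJ] at hd2
  obtain ⟨z, hz, hdz⟩ := (mem_span_smul_iff h _ _).mp hd2
  refine ⟨fun j => v j + z j, ?_, fun j => ⟨trm G (Nat.le_succ (n + 1 + k)) (z j), ?_, ?_⟩⟩
  · simp only [smul_add, Finset.sum_add_distrib]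
    rw [← hdz]
    abel
  · have h1 := Submodule.mem_map_of_mem (f := trm G (Nat.le_succ (n + 1 + k))) (hz j)
    rw [Submodule.map_smul''] at h1
    exact Submodule.smul_mono le_rfl le_top h1
  · rw [map_add, hv]

include hA hc in
theorem mem_smul_top_of_pr_eq_zero (hI : I.FG) (n : ℕ) (x : c.pt) (hx : pr c n x = 0) :
    x ∈ (I ^ (n + 1) • ⊤ : Submodule R c.pt) := by
  obtain ⟨s, h, hJ⟩ := Submodule.fg_iff_exists_fin_generating_family.mp (hI.pow (n := n + 1))
  have hJ' : Ideal.span (Set.range h) = I ^ (n + 1) := hJ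
  have hbase : ∃ u : Fin s → G.obj (op (n + 1 + 0)), pr c (n + 1 + 0) x = ∑ j, h j • u j := by
    have h1 : trm G (Nat.le_succ n) (pr c (n + 1) x) = 0 := by rw [trm_pr, hx]
    have h2 := hA.ker n _ h1
    rw [← hJ'] at h2
    obtain ⟨z, -, hz⟩ := (mem_span_smul_iff h ⊤ _).mp h2
    exact ⟨z, hz⟩
  let U : ∀ k, {u : Fin s → G.obj (op (n + 1 + k)) // pr c (n + 1 + k) x = ∑ j, h j • u j} :=
    fun k => Nat.rec ⟨hbase.choose, hbase.choose_spec⟩
      (fun k uk => ⟨(step hA n h hJ' x k uk.1 uk.2).choose,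
        (step hA n h hJ' x k uk.1 uk.2).choose_spec.1⟩) k
  have hU : ∀ k j, ∃ w ∈ (I ^ (k + 1) • ⊤ : Submodule R (G.obj (op (n + 1 + k)))),
      trm G (Nat.le_succ (n + 1 + k)) ((U (k + 1)).1 j) = (U k).1 j + w :=
    fun k => (step hA n h hJ' x k (U k).1 (U k).2).choose_spec.2
  let yt : Fin s → ∀ k, G.obj (op k) :=
    fun j k => trm G (Nat.le_add_left k (n + 1)) ((U k).1 j)
  have hyt : ∀ j k, trm G (Nat.le_succ k) (yt j (k + 1)) = yt j k := by
    intro j k
    obtain ⟨w, hw, hw'⟩ := hU k j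
    show trm G (Nat.le_succ k) (trm G (Nat.le_add_left (k + 1) (n + 1)) ((U (k + 1)).1 j)) =
      trm G (Nat.le_add_left k (n + 1)) ((U k).1 j)
    have e1 : trm G (Nat.le_succ k) (trm G (Nat.le_add_left (k + 1) (n + 1)) ((U (k + 1)).1 j)) =
        trm G (Nat.le_add_left k (n + 1))
          (trm G (Nat.le_succ (n + 1 + k)) ((U (k + 1)).1 j)) := by
      rw [trm_trm]
      exact (trm_trm G (Nat.le_add_left k (n + 1)) (Nat.le_succ (n + 1 + k)) _).symm
    rw [e1, hw', map_add,
      map_eq_zero_of_mem_smul_top _ (I ^ (k + 1)) (hA.kill k) w hw, add_zero]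
  choose y hy using fun j => exists_of_compat hc (yt j) (hyt j)
  have hxy : x = ∑ j, h j • y j := by
    apply ext_of_pr hc
    intro k
    rw [map_sum]
    simp only [map_smul, hy]
    show pr c k x = ∑ j, h j • trm G (Nat.le_add_left k (n + 1)) ((U k).1 j)
    have e2 := congrArg (trm G (Nat.le_add_left k (n + 1))) (U k).2
    rw [trm_pr, map_sum] at e2
    rw [e2]
    simp only [map_smul]
  rw [hxy]
  refine Submodule.sum_mem _ fun j _ => Submodule.smul_mem_smul ?_ Submodule.mem_top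
  rw [← hJ']
  exact Ideal.subset_span ⟨j, rfl⟩

end Ker

end Sys

end H9FE.Adic
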