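import Mathlib
import Groth.Prelude.Def_ARSys
/-! helper9: quotient maps modulo an ideal (`ARSys.IsQuot`) in linear categories: they are epimorphisms, they are
preserved by left adjoints of linear functors (hence adic systems are), and for a finitely generated ideal they are
cokernels of the morphism `⨁ X ⟶ X` given by generators; consequence for exact linear functors to modules. -/

universe w v u v' u' v''

set_option autoImplicit false
set_option linter.unusedSectionVars false
set_option linter.style.haveILetI false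
set_option backward.isDefEq.respectTransparency false

open CategoryTheory CategoryTheory.Limits Opposite

namespace H9FE.Adic

section Basic

variable {C : Type u} [Category.{v} C] {A : Type w} [CommRing A] [Preadditive C] [Linear A C]

lemma homKilledBy_comp_of_killedBy {I : Ideal A} {X Q Y : C} (p : X ⟶ Q) (f : Q ⟶ Y)
    (hQ : ARSys.KilledBy I Q) : ARSys.HomKilledBy I (p ≫ f) := by
  intro a ha
  have h1 : a • (p ≫ f) = p ≫ (a • 𝟙 Q) ≫ f := by
    rw [Linear.smul_comp, Category.id_comp, Linear.comp_smul]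
  rw [h1, hQ a ha, Limits.zero_comp, Limits.comp_zero]

lemma epi_of_isQuot {I : Ideal A} {X Q : C} {p : X ⟶ Q} (hp : ARSys.IsQuot I p) : Epi p := by
  constructor
  intro Y f g hfg
  obtain ⟨ψ, _, hu⟩ := hp.2 Y (p ≫ f) (homKilledBy_comp_of_killedBy p f hp.1)
  rw [hu f rfl, hu g hfg.symm]

end Basic

section Adj

variable {C : Type u} [Category.{v} C] {D : Type u'} [Category.{v'} D] {A : Type w} [CommRing A]
  [Preadditive C] [Linear A C] [Preadditive D] [Linear A D]
  {L : C ⥤ D} {Rr : D ⥤ C} (adj : L ⊣ Rr)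
  (hR : ∀ {Y Y' : D} (a : A) (φ : Y ⟶ Y'), Rr.map (a • φ) = a • Rr.map φ)

include hR in
lemma map_zero_of_linear {Y Y' : D} : Rr.map (0 : Y ⟶ Y') = 0 := by
  have h := hR (0 : A) (0 : Y ⟶ Y')
  rwa [zero_smul, zero_smul] at h

include adj hR in
lemma homEquiv_smul {X : C} {Y : D} (a : A) (φ : L.obj X ⟶ Y) :
    adj.homEquiv X Y (a • φ) = a • adj.homEquiv X Y φ := by
  rw [Adjunction.homEquiv_unit, Adjunction.homEquiv_unit, hR, Linear.comp_smul]

include adj hR in
lemma homEquiv_zero {X : C} {Y : D} : adj.homEquiv X Y 0 = 0 := by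
  rw [Adjunction.homEquiv_unit, map_zero_of_linear hR, Limits.comp_zero]

include adj hR in
lemma killedBy_map {I : Ideal A} {Q : C} (hQ : ARSys.KilledBy I Q) :
    ARSys.KilledBy I (L.obj Q) := by
  intro a ha
  apply (adj.homEquiv Q (L.obj Q)).injective
  have h0 : adj.homEquiv Q (L.obj Q) (a • 𝟙 (L.obj Q)) = 0 := by
    have h3 : adj.homEquiv Q (L.obj Q) (𝟙 (L.obj Q)) = adj.unit.app Q := adj.homEquiv_id Q
    have h2 : a • adj.unit.app Q = (a • 𝟙 Q) ≫ adj.unit.app Q := by
      rw [Linear.smul_comp, Category.id_comp]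
    rw [homEquiv_smul adj hR, h3, h2, hQ a ha, Limits.zero_comp]
  exact h0.trans (homEquiv_zero adj hR).symm

include adj hR in
theorem isQuot_map {I : Ideal A} {X Q : C} {p : X ⟶ Q} (hp : ARSys.IsQuot I p) :
    ARSys.IsQuot I (L.map p) := by
  refine ⟨killedBy_map adj hR hp.1, ?_⟩
  intro Y φ hφ
  have hk : ARSys.HomKilledBy I (adj.homEquiv X Y φ) := by
    intro a ha
    rw [← homEquiv_smul adj hR, hφ a ha, homEquiv_zero adj hR]
  obtain ⟨ψ', hψ', hu⟩ := hp.2 (Rr.obj Y) _ hk
  refine ⟨(adj.homEquiv Q Y).symm ψ', ?_, ?_⟩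
  · show L.map p ≫ (adj.homEquiv Q Y).symm ψ' = φ
    have hψ'' : p ≫ ψ' = adj.homEquiv X Y φ := hψ'
    rw [← Adjunction.homEquiv_naturality_left_symm, hψ'', Equiv.symm_apply_apply]
  · intro ψ₂ hψ₂
    have hψ₃ : L.map p ≫ ψ₂ = φ := hψ₂
    have h1 := hu (adj.homEquiv Q Y ψ₂) (by
      show p ≫ adj.homEquiv Q Y ψ₂ = adj.homEquiv X Y φ
      rw [← Adjunction.homEquiv_naturality_left, hψ₃])
    rw [← h1, Equiv.symm_apply_apply]

include adj hR in
theorem isAdic_comp {I : Ideal A} {G : ARSys.PS C} (hG : ARSys.IsAdic I G) :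
    ARSys.IsAdic I (G ⋙ L) :=
  ⟨fun n => killedBy_map adj hR (hG.1 n), fun n m h => isQuot_map adj hR (hG.2 n m h)⟩

end Adj

section Gens

variable {D : Type u} [Category.{v} D] [Abelian D] {A : Type w} [CommRing A] [Linear A D]

attribute [local instance] Abelian.hasFiniteBiproducts

/-- the morphism `⨁ X ⟶ X` given by a finite family of scalars. -/
noncomputable def gens {s : ℕ} (h : Fin s → A) (X : D) : (⨁ fun _ : Fin s => X) ⟶ X :=
  biproduct.desc (fun j => h j • 𝟙 X)

lemma homKilledBy_of_gens {s : ℕ} (h : Fin s → A) {X Y : D} (φ : X ⟶ Y)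
    (hφ : gens h X ≫ φ = 0) : ARSys.HomKilledBy (Ideal.span (Set.range h)) φ := by
  intro a ha
  obtain ⟨c, rfl⟩ := Ideal.mem_span_range_iff_exists_fun.mp ha
  rw [Finset.sum_smul]
  refine Finset.sum_eq_zero fun j _ => ?_
  have h1 : h j • φ = biproduct.ι (fun _ : Fin s => X) j ≫ gens h X ≫ φ := by
    rw [← Category.assoc]
    unfold gens
    rw [biproduct.ι_desc, Linear.smul_comp, Category.id_comp]
  rw [mul_smul, h1, hφ, Limits.comp_zero, smul_zero]

lemma gens_comp_of_isQuot {s : ℕ} (h : Fin s → A) {X Q : D} {q : X ⟶ Q}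
    (hq : ARSys.IsQuot (Ideal.span (Set.range h)) q) : gens h X ≫ q = 0 := by
  apply biproduct.hom_ext'
  intro j
  unfold gens
  rw [biproduct.ι_desc_assoc, Limits.comp_zero, Linear.smul_comp, Category.id_comp]
  have h2 : h j • q = q ≫ (h j • 𝟙 Q) := by rw [Linear.comp_smul, Category.comp_id]
  rw [h2, hq.1 (h j) (Ideal.subset_span ⟨j, rfl⟩), Limits.comp_zero]

theorem exact_of_isQuot {s : ℕ} (h : Fin s → A) {X Q : D} {q : X ⟶ Q}
    (hq : ARSys.IsQuot (Ideal.span (Set.range h)) q) :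
    (ShortComplex.mk (gens h X) q (gens_comp_of_isQuot h hq)).Exact := by
  rw [ShortComplex.exact_iff_kernel_ι_comp_cokernel_π_zero]
  show kernel.ι q ≫ cokernel.π (gens h X) = 0
  obtain ⟨ψ, hψ, -⟩ := hq.2 _ (cokernel.π (gens h X))
    (homKilledBy_of_gens h _ (cokernel.condition _))
  have hψ' : q ≫ ψ = cokernel.π (gens h X) := hψ
  rw [← hψ', kernel.condition_assoc, Limits.zero_comp]

variable (Ψ : D ⥤ ModuleCat.{v''} A) [Ψ.Additive]
  (hΨ : ∀ {Y Y' : D} (a : A) (φ : Y ⟶ Y'), Ψ.map (a • φ) = a • Ψ.map φ)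

include hΨ in
lemma map_gens_apply {s : ℕ} (h : Fin s → A) (X : D) (y : Ψ.obj (⨁ fun _ : Fin s => X)) :
    (Ψ.map (gens h X)).hom y =
      ∑ j, h j • (Ψ.map (biproduct.π (fun _ : Fin s => X) j)).hom y := by
  have h1 : gens h X = ∑ j, biproduct.π (fun _ : Fin s => X) j ≫ (h j • 𝟙 X) := by
    unfold gens
    rw [← Category.id_comp (biproduct.desc _), ← biproduct.total, Preadditive.sum_comp]
    refine Finset.sum_congr rfl fun j _ => ?_
    rw [Category.assoc, biproduct.ι_desc]
  rw [h1, Functor.map_sum, ModuleCat.hom_sum, LinearMap.sum_apply]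
  refine Finset.sum_congr rfl fun j _ => ?_
  rw [Linear.comp_smul, Category.comp_id, hΨ]
  rfl

include hΨ in
theorem mem_smul_top_of_map_eq_zero [Ψ.PreservesHomology] {s : ℕ} (h : Fin s → A) {X Q : D}
    {q : X ⟶ Q} (hq : ARSys.IsQuot (Ideal.span (Set.range h)) q) (x : Ψ.obj X)
    (hx : (Ψ.map q).hom x = 0) :
    x ∈ (Ideal.span (Set.range h) • ⊤ : Submodule A (Ψ.obj X)) := by
  have hex := (exact_of_isQuot h hq).map Ψ
  rw [ShortComplex.moduleCat_exact_iff] at hex
  obtain ⟨y, hy⟩ := hex x hx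
  have hy' : (Ψ.map (gens h X)).hom y = x := hy
  rw [← hy', map_gens_apply Ψ hΨ]
  exact Submodule.sum_mem _ fun j _ =>
    Submodule.smul_mem_smul (Ideal.subset_span ⟨j, rfl⟩) Submodule.mem_top

end Gens

end H9FE.Adic
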