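import Mathlib
import Groth.Prelude.Def_ARSys
import Groth.Agent.Lib.Helper9.FE.AdicCat
/-! helper9: more on quotient maps modulo ideals in linear categories: invariance under isomorphisms, towers of quotient
maps have quotient transition maps, reflection along fully faithful linear functors, linearity of left adjoints; the
functor `G ↦ lim (G ⋙ L)` is fully faithful on systems whose limit projections are quotient maps; characterization of
limits of adic systems by towers of quotient maps. -/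

universe w v u v' u'

set_option autoImplicit false
set_option linter.unusedSectionVars false
set_option linter.style.haveILetI false
set_option backward.isDefEq.respectTransparency false

open CategoryTheory CategoryTheory.Limits Opposite

namespace H9FE.Adic

section Iso

variable {C : Type u} [Category.{v} C] {A : Type w} [CommRing A] [Preadditive C] [Linear A C]

lemma homKilledBy_comp_left {I : Ideal A} {X' X Y : C} (i : X' ⟶ X) {φ : X ⟶ Y}
    (hφ : ARSys.HomKilledBy I φ) : ARSys.HomKilledBy I (i ≫ φ) := by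
  intro a ha
  rw [← Linear.comp_smul, hφ a ha, Limits.comp_zero]

lemma homKilledBy_of_killedBy_target {I : Ideal A} {X Y : C} (φ : X ⟶ Y)
    (hY : ARSys.KilledBy I Y) : ARSys.HomKilledBy I φ := by
  have h := homKilledBy_comp_of_killedBy φ (𝟙 Y) hY
  rwa [Category.comp_id] at h

lemma isQuot_iso_comp {I : Ideal A} {X' X Q : C} (i : X' ≅ X) {q : X ⟶ Q}
    (hq : ARSys.IsQuot I q) : ARSys.IsQuot I (i.hom ≫ q) := by
  refine ⟨hq.1, ?_⟩
  intro Y φ hφ
  obtain ⟨ψ, hψ, hu⟩ := hq.2 Y (i.inv ≫ φ) (homKilledBy_comp_left i.inv hφ)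
  have hψ' : q ≫ ψ = i.inv ≫ φ := hψ
  refine ⟨ψ, ?_, ?_⟩
  · show (i.hom ≫ q) ≫ ψ = φ
    rw [Category.assoc, hψ', Iso.hom_inv_id_assoc]
  · intro ψ₂ hψ₂
    have h2 : (i.hom ≫ q) ≫ ψ₂ = φ := hψ₂
    apply hu
    show q ≫ ψ₂ = i.inv ≫ φ
    rw [← h2, Category.assoc, Iso.inv_hom_id_assoc]

lemma killedBy_of_iso {I : Ideal A} {Q Q' : C} (j : Q ≅ Q') (hQ : ARSys.KilledBy I Q) :
    ARSys.KilledBy I Q' := by
  intro a ha
  have h1 : a • 𝟙 Q' = j.inv ≫ (a • 𝟙 Q) ≫ j.hom := by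
    rw [Linear.smul_comp, Category.id_comp, Linear.comp_smul, Iso.inv_hom_id]
  rw [h1, hQ a ha, Limits.zero_comp, Limits.comp_zero]

lemma isQuot_comp_iso {I : Ideal A} {X Q Q' : C} (j : Q ≅ Q') {q : X ⟶ Q}
    (hq : ARSys.IsQuot I q) : ARSys.IsQuot I (q ≫ j.hom) := by
  refine ⟨killedBy_of_iso j hq.1, ?_⟩
  intro Y φ hφ
  obtain ⟨ψ, hψ, hu⟩ := hq.2 Y φ hφ
  have hψ' : q ≫ ψ = φ := hψ
  refine ⟨j.inv ≫ ψ, ?_, ?_⟩
  · show (q ≫ j.hom) ≫ j.inv ≫ ψ = φ
    rw [Category.assoc, Iso.hom_inv_id_assoc, hψ']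
  · intro ψ₂ hψ₂
    have h2 : (q ≫ j.hom) ≫ ψ₂ = φ := hψ₂
    have h3 := hu (j.hom ≫ ψ₂) (by
      show q ≫ j.hom ≫ ψ₂ = φ
      rw [← Category.assoc, h2])
    rw [← h3, Iso.inv_hom_id_assoc]

lemma isQuot_tr_of_tower {Jn : ℕ → Ideal A} {F : C} {Q : ARSys.PS C}
    (p : (Functor.const ℕᵒᵖ).obj F ⟶ Q)
    (hp : ∀ n, ARSys.IsQuot (Jn n) (p.app (op n))) {n m : ℕ} (h : n ≤ m) :
    ARSys.IsQuot (Jn n) (ARSys.tr Q h) := by
  have hnat : p.app (op m) ≫ ARSys.tr Q h = p.app (op n) := by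
    have h0 := p.naturality (homOfLE h).op
    have h1 : ((Functor.const ℕᵒᵖ).obj F).map (homOfLE h).op = 𝟙 F := rfl
    rw [h1] at h0
    exact h0.symm.trans (Category.id_comp _)
  haveI := epi_of_isQuot (hp m)
  refine ⟨(hp n).1, ?_⟩
  intro Y φ hφ
  obtain ⟨ψ, hψ, hu⟩ := (hp n).2 Y (p.app (op m) ≫ φ) (homKilledBy_comp_left _ hφ)
  have hψ' : p.app (op n) ≫ ψ = p.app (op m) ≫ φ := hψ
  refine ⟨ψ, ?_, ?_⟩
  · show ARSys.tr Q h ≫ ψ = φ
    rw [← cancel_epi (p.app (op m)), ← Category.assoc, hnat, hψ']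
  · intro ψ₂ hψ₂
    have h2 : ARSys.tr Q h ≫ ψ₂ = φ := hψ₂
    apply hu
    show p.app (op n) ≫ ψ₂ = p.app (op m) ≫ φ
    rw [← hnat, Category.assoc, h2]

end Iso

section AdjLin

variable {C : Type u} [Category.{v} C] {D : Type u'} [Category.{v'} D] {A : Type w} [CommRing A]
  [Preadditive C] [Linear A C] [Preadditive D] [Linear A D]
  {L : C ⥤ D} {Rr : D ⥤ C} (adj : L ⊣ Rr)
  (hR : ∀ {Y Y' : D} (a : A) (φ : Y ⟶ Y'), Rr.map (a • φ) = a • Rr.map φ)

include adj hR in
lemma map_smul_of_adj {X X' : C} (a : A) (f : X ⟶ X') : L.map (a • f) = a • L.map f := by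
  apply (adj.homEquiv X (L.obj X')).injective
  rw [homEquiv_smul adj hR]
  have e1 : ∀ g : X ⟶ X', adj.homEquiv X (L.obj X') (L.map g) = g ≫ adj.unit.app X' := by
    intro g
    rw [Adjunction.homEquiv_unit]
    exact (adj.unit.naturality g).symm
  rw [e1, e1, Linear.smul_comp]

end AdjLin

section Reflect

variable {C : Type u} [Category.{v} C] {D : Type u'} [Category.{v'} D] {A : Type w} [CommRing A]
  [Preadditive C] [Linear A C] [Preadditive D] [Linear A D]
  (L : C ⥤ D) [L.Full] [L.Faithful]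
  (hL : ∀ {X X' : C} (a : A) (f : X ⟶ X'), L.map (a • f) = a • L.map f)

include hL in
lemma map_zero_of_linear' {X X' : C} : L.map (0 : X ⟶ X') = 0 := by
  have h := hL (0 : A) (0 : X ⟶ X')
  rwa [zero_smul, zero_smul] at h

include hL in
lemma killedBy_of_map {I : Ideal A} {Q : C} (h : ARSys.KilledBy I (L.obj Q)) :
    ARSys.KilledBy I Q := by
  intro a ha
  apply L.map_injective
  rw [hL, L.map_id, h a ha, map_zero_of_linear' L hL]

include hL in
lemma isQuot_of_map {I : Ideal A} {X Q : C} {p : X ⟶ Q} (h : ARSys.IsQuot I (L.map p)) :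
    ARSys.IsQuot I p := by
  refine ⟨killedBy_of_map L hL h.1, ?_⟩
  intro Y φ hφ
  have hk : ARSys.HomKilledBy I (L.map φ) := by
    intro a ha
    rw [← hL, hφ a ha, map_zero_of_linear' L hL]
  obtain ⟨ψ', hψ', hu⟩ := h.2 _ _ hk
  have hψ'' : L.map p ≫ ψ' = L.map φ := hψ'
  refine ⟨L.preimage ψ', ?_, ?_⟩
  · show p ≫ L.preimage ψ' = φ
    apply L.map_injective
    rw [L.map_comp, L.map_preimage, hψ'']
  · intro ψ₂ hψ₂
    have h2 : p ≫ ψ₂ = φ := hψ₂
    apply L.map_injective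
    rw [L.map_preimage]
    apply hu
    show L.map p ≫ L.map ψ₂ = L.map φ
    rw [← L.map_comp, h2]

end Reflect

section FF

variable {C : Type u} [Category.{v} C] {D : Type u'} [Category.{v'} D] {A : Type w} [CommRing A]
  [Preadditive D] [Linear A D] [HasLimitsOfShape ℕᵒᵖ D]
  (L : C ⥤ D) [L.Full] [L.Faithful] (P : ObjectProperty (ARSys.PS C)) (Jn : ℕ → Ideal A)
  (hπ : ∀ G : ARSys.PS C, P G → ∀ n, ARSys.IsQuot (Jn n) (limit.π (G ⋙ L) (op n)))

/-- the functor `G ↦ lim (G ⋙ L)` on the full subcategory of systems with `P`. -/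
noncomputable abbrev limPull : P.FullSubcategory ⥤ D :=
  P.ι ⋙ ((Functor.whiskeringRight ℕᵒᵖ C D).obj L ⋙ lim)

lemma limPull_map_π {G G' : P.FullSubcategory} (f : G ⟶ G') (n : ℕ) :
    (limPull L P).map f ≫ limit.π (G'.obj ⋙ L) (op n) =
      limit.π (G.obj ⋙ L) (op n) ≫ L.map (f.hom.app (op n)) := by
  show limMap (Functor.whiskerRight f.hom L) ≫ _ = _
  rw [limMap_π]
  rfl

include hπ in
theorem faithful_limPull : (limPull L P).Faithful := by
  constructor
  intro G G' f g hfg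
  apply ObjectProperty.hom_ext
  ext j
  apply L.map_injective
  haveI := epi_of_isQuot (hπ G.obj G.property j.unop)
  have h1 := limPull_map_π L P f j.unop
  have h2 := limPull_map_π L P g j.unop
  rw [hfg, h2] at h1
  exact ((cancel_epi (limit.π (G.obj ⋙ L) (op j.unop))).mp h1).symm

include hπ in
theorem full_limPull : (limPull L P).Full := by
  constructor
  intro G G' θ
  have hθ : ∀ n, ∃ θn : L.obj (G.obj.obj (op n)) ⟶ L.obj (G'.obj.obj (op n)),
      limit.π (G.obj ⋙ L) (op n) ≫ θn = θ ≫ limit.π (G'.obj ⋙ L) (op n) := by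
    intro n
    have hk : ARSys.HomKilledBy (Jn n) (θ ≫ limit.π (G'.obj ⋙ L) (op n)) :=
      homKilledBy_of_killedBy_target _ (hπ G'.obj G'.property n).1
    obtain ⟨θn, h1, -⟩ := (hπ G.obj G.property n).2 _ _ hk
    exact ⟨θn, h1⟩
  choose θn hθn using hθ
  have hnat : ∀ (m n : ℕ) (f : (op m : ℕᵒᵖ) ⟶ op n),
      G.obj.map f ≫ L.preimage (θn n) = L.preimage (θn m) ≫ G'.obj.map f := by
    intro m n f
    apply L.map_injective
    rw [L.map_comp, L.map_comp, L.map_preimage, L.map_preimage]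
    haveI := epi_of_isQuot (hπ G.obj G.property m)
    rw [← cancel_epi (limit.π (G.obj ⋙ L) (op m))]
    have w1 : limit.π (G.obj ⋙ L) (op m) ≫ L.map (G.obj.map f) =
        limit.π (G.obj ⋙ L) (op n) := limit.w (G.obj ⋙ L) f
    have w2 : limit.π (G'.obj ⋙ L) (op m) ≫ L.map (G'.obj.map f) =
        limit.π (G'.obj ⋙ L) (op n) := limit.w (G'.obj ⋙ L) f
    rw [← Category.assoc, w1, hθn n, ← Category.assoc, hθn m, Category.assoc, w2]
  let α : G.obj ⟶ G'.obj :=
    { app := fun j => L.preimage (θn j.unop)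
      naturality := fun j j' f => hnat j.unop j'.unop f }
  refine ⟨ObjectProperty.homMk α, ?_⟩
  have key : ∀ n, (limPull L P).map (ObjectProperty.homMk α) ≫ limit.π (G'.obj ⋙ L) (op n) =
      θ ≫ limit.π (G'.obj ⋙ L) (op n) := by
    intro n
    rw [limPull_map_π]
    show limit.π (G.obj ⋙ L) (op n) ≫ L.map (L.preimage (θn n)) = θ ≫ _
    rw [L.map_preimage, hθn n]
  exact limit.hom_ext (fun j => key j.unop)

end FF

section Iff

variable {C : Type u} [Category.{v} C] {D : Type u'} [Category.{v'} D] {A : Type w} [CommRing A]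
  [Preadditive C] [Linear A C] [Preadditive D] [Linear A D] [HasLimitsOfShape ℕᵒᵖ D]
  (L : C ⥤ D) [L.Full] [L.Faithful]
  (hL : ∀ {X X' : C} (a : A) (f : X ⟶ X'), L.map (a • f) = a • L.map f) (I : Ideal A)
  (hπ : ∀ G : ARSys.PS C, ARSys.IsAdic I G → ∀ n,
    ARSys.IsQuot (I ^ (n + 1)) (limit.π (G ⋙ L) (op n)))
  (K : C → Prop)

include hL hπ in
theorem adicP_iff (F : D) :
    (∃ (Q : ℕᵒᵖ ⥤ D) (p : (Functor.const ℕᵒᵖ).obj F ⟶ Q),
        (∀ n : ℕ, ARSys.IsQuot (I ^ (n + 1)) (p.app (op n))) ∧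
        (∀ n : ℕ, ∃ E : C, K E ∧ Nonempty (L.obj E ≅ Q.obj (op n))) ∧
        IsIso (limit.lift Q (Cone.mk F p))) ↔
      ∃ G : ARSys.PS C, ARSys.IsAdic I G ∧ (∀ n : ℕ, K (G.obj (op n))) ∧
        Nonempty (limit (G ⋙ L) ≅ F) := by
  constructor
  · rintro ⟨Q, p, hp, hE, hiso⟩
    choose E hEK hEi using hE
    let ι : ∀ n, L.obj (E n) ≅ Q.obj (op n) := fun n => (hEi n).some
    let t : ∀ n, E (n + 1) ⟶ E n := fun n =>
      L.preimage ((ι (n + 1)).hom ≫ Q.map (homOfLE (Nat.le_add_right n 1)).op ≫ (ι n).inv)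
    have hnat : ∀ n, (Functor.ofOpSequence t ⋙ L).map (homOfLE (Nat.le_add_right n 1)).op ≫
        (ι n).hom = (ι (n + 1)).hom ≫ Q.map (homOfLE (Nat.le_add_right n 1)).op := by
      intro n
      show L.map ((Functor.ofOpSequence t).map (homOfLE (Nat.le_add_right n 1)).op) ≫ _ = _
      rw [Functor.ofOpSequence_map_homOfLE_succ]
      show L.map (L.preimage _) ≫ _ = _
      rw [L.map_preimage, Category.assoc, Category.assoc, Iso.inv_hom_id, Category.comp_id]
    let τ : Functor.ofOpSequence t ⋙ L ⟶ Q := NatTrans.ofOpSequence (fun n => (ι n).hom) hnat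
    haveI : ∀ j, IsIso (τ.app j) := fun j => by
      show IsIso (ι j.unop).hom
      infer_instance
    haveI : IsIso τ := NatIso.isIso_of_isIso_app τ
    have hQtr : ∀ (n m : ℕ) (h : n ≤ m), ARSys.IsQuot (I ^ (n + 1)) (ARSys.tr Q h) :=
      fun n m h => isQuot_tr_of_tower (Jn := fun n => I ^ (n + 1)) p hp h
    have hG : ARSys.IsAdic I (Functor.ofOpSequence t) := by
      refine ⟨fun n => ?_, fun n m h => ?_⟩
      · apply killedBy_of_map L hL
        exact killedBy_of_iso (ι n).symm (hp n).1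
      · apply isQuot_of_map L hL
        have h1 : L.map (ARSys.tr (Functor.ofOpSequence t) h) =
            (ι m).hom ≫ (ARSys.tr Q h ≫ (ι n).inv) := by
          have h0 := τ.naturality (homOfLE h).op
          rw [← Category.assoc, Iso.eq_comp_inv]
          exact h0
        rw [h1]
        exact isQuot_iso_comp (ι m) (isQuot_comp_iso (ι n).symm (hQtr n m h))
    refine ⟨Functor.ofOpSequence t, hG, fun n => hEK n, ⟨?_⟩⟩
    haveI := hiso
    exact HasLimit.isoOfNatIso (asIso τ) ≪≫ (asIso (limit.lift Q (Cone.mk F p))).symm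
  · rintro ⟨G, hG, hK, ⟨e⟩⟩
    let p : (Functor.const ℕᵒᵖ).obj F ⟶ G ⋙ L :=
      { app := fun j => e.inv ≫ limit.π (G ⋙ L) j
        naturality := fun j j' f => by
          show 𝟙 F ≫ e.inv ≫ limit.π (G ⋙ L) j' = (e.inv ≫ limit.π (G ⋙ L) j) ≫ (G ⋙ L).map f
          rw [Category.id_comp, Category.assoc, limit.w] }
    refine ⟨G ⋙ L, p, fun n => ?_, fun n => ⟨G.obj (op n), hK n, ⟨Iso.refl _⟩⟩, ?_⟩
    · exact isQuot_iso_comp e.symm (hπ G hG n)
    · have h1 : limit.lift (G ⋙ L) (Cone.mk F p) = e.inv := by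
        apply limit.hom_ext
        intro j
        rw [limit.lift_π]
      rw [h1]
      infer_instance

end Iff

end H9FE.Adic
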