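import Mathlib

/-! helper9: algebra of derived completeness with respect to one element: the sequence map
`seqT f M : x ↦ (n ↦ f • x (n+1) - x n)`, the predicate `DCf f M` (bijectivity of `seqT`), closure under
cokernels, Nakayama-type vanishing, and the free two-term resolution of `Localization.Away f`. -/

universe v

open Polynomial

namespace H9FE.ProEtDC

section A

variable {R : Type*} [CommRing R]

/-- `x ↦ (n ↦ f • x (n+1) - x n)` on sequences. -/
def seqT (f : R) (M : Type*) [AddCommGroup M] [Module R M] : (ℕ → M) →ₗ[R] (ℕ → M) where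
  toFun x n := f • x (n + 1) - x n
  map_add' x y := by
    funext n
    show f • (x (n + 1) + y (n + 1)) - (x n + y n) = (f • x (n + 1) - x n) + (f • y (n + 1) - y n)
    rw [smul_add]; abel
  map_smul' c x := by
    funext n
    show f • (c • x (n + 1)) - c • x n = c • (f • x (n + 1) - x n)
    rw [smul_sub, smul_comm]

@[simp] lemma seqT_apply (f : R) {M : Type*} [AddCommGroup M] [Module R M] (x : ℕ → M) (n : ℕ) :
    seqT f M x n = f • x (n + 1) - x n := rfl

/-- derived `f`-completeness of a module, phrased with sequences. -/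
def DCf (f : R) (M : Type*) [AddCommGroup M] [Module R M] : Prop :=
  Function.Bijective (seqT f M)

variable {M M' : Type*} [AddCommGroup M] [Module R M] [AddCommGroup M'] [Module R M']

lemma seqT_comp (f : R) (φ : M' →ₗ[R] M) (x : ℕ → M') :
    seqT f M (fun n => φ (x n)) = fun n => φ (seqT f M' x n) := by
  funext n
  simp [seqT_apply]

lemma subsingleton_of_dcf_of_surj (f : R) (h : DCf f M) (hs : ∀ m : M, ∃ m', m = f • m') :
    Subsingleton M := by
  choose g hg using hs
  have key : ∀ m : M, m = 0 := by
    intro m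
    have h1 : seqT f M (fun n => g^[n] m) = seqT f M 0 := by
      rw [map_zero]
      funext n
      rw [seqT_apply, Function.iterate_succ_apply', ← hg]
      exact sub_self _
    have h2 := h.1 h1
    exact congrFun h2 0
  exact ⟨fun m m' => by rw [key m, key m']⟩

lemma dcf_coker (f : R) (φ : M' →ₗ[R] M) (h' : DCf f M') (h : DCf f M) :
    DCf f (M ⧸ LinearMap.range φ) := by
  have hπs : Function.Surjective (LinearMap.range φ).mkQ := Submodule.mkQ_surjective _
  constructor
  · rw [injective_iff_map_eq_zero]
    intro x hx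
    choose x' hx' using fun n => hπs (x n)
    have h1 : ∀ n, seqT f M x' n ∈ LinearMap.range φ := by
      intro n
      have h2 := congrFun (seqT_comp f (LinearMap.range φ).mkQ x') n
      have h3 : (fun n => (LinearMap.range φ).mkQ (x' n)) = x := funext hx'
      rw [h3, hx] at h2
      have h4 : (LinearMap.range φ).mkQ (seqT f M x' n) = 0 := h2.symm
      rwa [Submodule.mkQ_apply, Submodule.Quotient.mk_eq_zero] at h4
    choose z hz using h1
    obtain ⟨w, hw⟩ := h'.2 z
    have h5 : seqT f M x' = seqT f M (fun n => φ (w n)) := by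
      rw [seqT_comp, hw]
      funext n
      exact (hz n).symm
    have h6 := h.1 h5
    funext n
    rw [← hx' n, h6]
    show (LinearMap.range φ).mkQ (φ (w n)) = 0
    rw [Submodule.mkQ_apply, Submodule.Quotient.mk_eq_zero]
    exact ⟨w n, rfl⟩
  · intro y
    choose y' hy' using fun n => hπs (y n)
    obtain ⟨x', hx'⟩ := h.2 y'
    refine ⟨fun n => (LinearMap.range φ).mkQ (x' n), ?_⟩
    rw [seqT_comp, hx']
    funext n
    exact hy' n

theorem subsingleton_of_dc : ∀ (r : ℕ) (a : Fin r → R) (M : Type v) [AddCommGroup M] [Module R M],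
    (∀ k, DCf (a k) M) → (∀ m : M, ∃ c : Fin r → M, m = ∑ k, a k • c k) → Subsingleton M := by
  intro r
  induction r with
  | zero =>
    intro a M _ _ _ h2
    refine ⟨fun m m' => ?_⟩
    obtain ⟨c, hc⟩ := h2 m
    obtain ⟨c', hc'⟩ := h2 m'
    rw [hc, hc']
    simp
  | succ r ih =>
    intro a M _ _ h1 h2
    let φ : M →ₗ[R] M := a 0 • LinearMap.id
    have hQ : Subsingleton (M ⧸ LinearMap.range φ) := by
      apply ih (fun k => a k.succ)
      · intro k
        exact dcf_coker _ φ (h1 k.succ) (h1 k.succ)
      · intro q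
        obtain ⟨m, rfl⟩ := Submodule.mkQ_surjective _ q
        obtain ⟨c, hc⟩ := h2 m
        refine ⟨fun k => (LinearMap.range φ).mkQ (c k.succ), ?_⟩
        rw [hc, Fin.sum_univ_succ, map_add, map_sum]
        have h3 : (LinearMap.range φ).mkQ (a 0 • c 0) = 0 := by
          rw [Submodule.mkQ_apply, Submodule.Quotient.mk_eq_zero]
          exact ⟨c 0, rfl⟩
        rw [h3, zero_add]
        refine Finset.sum_congr rfl fun k _ => ?_
        rw [map_smul]
    apply subsingleton_of_dcf_of_surj (a 0) (h1 0)
    intro m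
    have h4 : (LinearMap.range φ).mkQ m = 0 := Subsingleton.elim _ _
    rw [Submodule.mkQ_apply, Submodule.Quotient.mk_eq_zero] at h4
    obtain ⟨m', hm'⟩ := h4
    exact ⟨m', hm'.symm⟩

end A

section B

variable {R : Type v} [CommRing R] (f : R)

/-- the polynomial `f X - 1`. -/
noncomputable def gpoly : R[X] := C f * X - 1

/-- multiplication by `f X - 1` on `R[X]`. -/
noncomputable def Tmap : R[X] →ₗ[R] R[X] := LinearMap.mulLeft R (gpoly f)

lemma Tmap_apply (p : R[X]) : Tmap f p = gpoly f * p := rfl

/-- the quotient map `R[X] → R[X]/(fX-1) = R_f`. -/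
noncomputable def pimap : R[X] →ₗ[R] Localization.Away f :=
  (Localization.awayEquivAdjoin f).symm.toLinearMap ∘ₗ (AdjoinRoot.mkₐ (C f * X - 1)).toLinearMap

lemma pimap_apply (p : R[X]) :
    pimap f p = (Localization.awayEquivAdjoin f).symm (AdjoinRoot.mk (C f * X - 1) p) := rfl

lemma Tmap_injective : Function.Injective (Tmap f) := by
  rw [injective_iff_map_eq_zero]
  intro p hp
  have h : p = C f * (X * p) := by
    have h1 : (C f * X - 1) * p = 0 := hp
    rw [sub_mul, one_mul, sub_eq_zero, mul_assoc] at h1
    exact h1.symm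
  ext n
  induction n with
  | zero => rw [h, coeff_C_mul, mul_coeff_zero]; simp
  | succ n ih => rw [h, coeff_C_mul, coeff_X_mul, ih]; simp

lemma pimap_surjective : Function.Surjective (pimap f) := by
  intro y
  obtain ⟨p, hp⟩ := AdjoinRoot.mk_surjective (Localization.awayEquivAdjoin f y)
  refine ⟨p, ?_⟩
  rw [pimap_apply, hp]
  exact (Localization.awayEquivAdjoin f).symm_apply_apply y

lemma pimap_eq_zero_iff (p : R[X]) : pimap f p = 0 ↔ ∃ q, Tmap f q = p := by
  rw [pimap_apply, EmbeddingLike.map_eq_zero_iff, AdjoinRoot.mk_eq_zero]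
  constructor
  · rintro ⟨q, hq⟩
    exact ⟨q, hq.symm⟩
  · rintro ⟨q, hq⟩
    exact ⟨q, hq.symm⟩

lemma Tmap_X_pow (n : ℕ) : Tmap f (X ^ n) = f • X ^ (n + 1) - X ^ n := by
  rw [Tmap_apply, gpoly, sub_mul, one_mul, mul_assoc, ← pow_succ', smul_eq_C_mul]

/-- the short complex `0 → R[X] → R[X] → R_f → 0`. -/
noncomputable def S0 : CategoryTheory.ShortComplex (ModuleCat.{v} R) :=
  CategoryTheory.ShortComplex.mk (ModuleCat.ofHom (Tmap f)) (ModuleCat.ofHom (pimap f)) (by
    apply ModuleCat.hom_ext
    apply LinearMap.ext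
    intro p
    exact (pimap_eq_zero_iff f _).mpr ⟨p, rfl⟩)

lemma S0_shortExact : (S0 f).ShortExact := by
  have hex : (S0 f).Exact := by
    rw [CategoryTheory.ShortComplex.moduleCat_exact_iff]
    intro x hx
    exact (pimap_eq_zero_iff f x).mp hx
  have h1 : CategoryTheory.Mono (S0 f).f := (ModuleCat.mono_iff_injective _).mpr (Tmap_injective f)
  have h2 : CategoryTheory.Epi (S0 f).g := (ModuleCat.epi_iff_surjective _).mpr (pimap_surjective f)
  exact CategoryTheory.ShortComplex.ShortExact.mk' hex h1 h2

lemma ev_bijective (M : Type*) [AddCommGroup M] [Module R M] :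
    Function.Bijective (fun (h : R[X] →ₗ[R] M) (n : ℕ) => h (X ^ n)) := by
  constructor
  · intro h h' hh
    apply (Polynomial.basisMonomials R).ext
    intro n
    have h1 := congrFun hh n
    rw [Polynomial.coe_basisMonomials]
    simpa [Polynomial.X_pow_eq_monomial] using h1
  · intro x
    refine ⟨(Polynomial.basisMonomials R).constr R x, ?_⟩
    funext n
    have h1 := (Polynomial.basisMonomials R).constr_basis R x n
    rw [Polynomial.coe_basisMonomials] at h1
    simpa [Polynomial.X_pow_eq_monomial] using h1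

end B

end H9FE.ProEtDC
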