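import Mathlib
import Groth.Prelude.Def_ProEtDC
import Groth.Agent.Lib.Helper9.FE.ProEtDC1

/-! helper9: the functor `M ↦ j_{U!} (constant sheaf M)` on the pro-etale site is a left adjoint of the sections functor
`F ↦ F(U)`; it is identified with "free presheaf on `U` then sheafify", hence preserves monomorphisms. -/

universe u

set_option linter.style.haveILetI false
set_option backward.isDefEq.respectTransparency false

open CategoryTheory CategoryTheory.Limits AlgebraicGeometry Opposite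

namespace H9FE.ProEtDC

variable {X : Scheme.{u}} (Λ : Type (u + 1)) [CommRing Λ] (U : X.ProEt)

/-- `M ↦ j_{U!} M_U`. -/
noncomputable abbrev PhiU : ModuleCat.{u + 1} Λ ⥤ EtModW.ModP Λ X :=
  constantSheaf ((Scheme.ProEt.topology X).over U) (ModuleCat.{u + 1} Λ) ⋙ ProEtDC.extZeroModP Λ U

/-- its right adjoint (sections over `U`, written via the over-site). -/
noncomputable abbrev PsiU : EtModW.ModP Λ X ⥤ ModuleCat.{u + 1} Λ :=
  (Over.forget U).sheafPushforwardContinuous (ModuleCat.{u + 1} Λ)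
    ((Scheme.ProEt.topology X).over U) (Scheme.ProEt.topology X) ⋙
    (sheafSections ((Scheme.ProEt.topology X).over U) (ModuleCat.{u + 1} Λ)).obj (op (Over.mk (𝟙 U)))

noncomputable def adjU : PhiU Λ U ⊣ PsiU Λ U :=
  (constantSheafAdj ((Scheme.ProEt.topology X).over U) (ModuleCat.{u + 1} Λ)
    (Over.mkIdTerminal (X := U))).comp
    ((Over.forget U).sheafAdjunctionContinuous (ModuleCat.{u + 1} Λ)
      ((Scheme.ProEt.topology X).over U) (Scheme.ProEt.topology X))

/-- sections over `U`. -/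
noncomputable abbrev Psi2 : EtModW.ModP Λ X ⥤ ModuleCat.{u + 1} Λ :=
  sheafToPresheaf (Scheme.ProEt.topology X) (ModuleCat.{u + 1} Λ) ⋙ (evaluation _ _).obj (op U)

noncomputable def PsiIso : PsiU Λ U ≅ Psi2 Λ U :=
  NatIso.ofComponents (fun F => Iso.refl _) (by
    intro F G φ
    simp only [Iso.refl_hom, Category.comp_id, Category.id_comp]
    rfl)

noncomputable def adjU2 : PhiU Λ U ⊣ Psi2 Λ U := (adjU Λ U).ofNatIsoRight (PsiIso Λ U)

/-- free presheaf on `U` with value `M`, sheafified. -/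
noncomputable abbrev Phi2 : ModuleCat.{u + 1} Λ ⥤ EtModW.ModP Λ X :=
  evaluationLeftAdjoint (ModuleCat.{u + 1} Λ) (op U) ⋙
    presheafToSheaf (Scheme.ProEt.topology X) (ModuleCat.{u + 1} Λ)

noncomputable def adj2 : Phi2 Λ U ⊣ Psi2 Λ U :=
  (evaluationAdjunctionRight (ModuleCat.{u + 1} Λ) (op U)).comp
    (sheafificationAdjunction (Scheme.ProEt.topology X) (ModuleCat.{u + 1} Λ))

noncomputable def PhiIso : PhiU Λ U ≅ Phi2 Λ U := (adjU2 Λ U).leftAdjointUniq (adj2 Λ U)

lemma mono_Phi2_map {M N : ModuleCat.{u + 1} Λ} (m : M ⟶ N) [Mono m] :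
    Mono ((Phi2 Λ U).map m) := by
  haveI : AB4OfSize.{u} (ModuleCat.{u + 1} Λ) := AB4OfSize_shrink.{u, u + 1} _
  haveI : ∀ V, Mono (((evaluationLeftAdjoint (ModuleCat.{u + 1} Λ) (op U)).map m).app V) := by
    intro V
    have h : ((evaluationLeftAdjoint (ModuleCat.{u + 1} Λ) (op U)).map m).app V =
        Limits.Sigma.map (fun _ : (op U ⟶ V) => m) := by
      apply Sigma.hom_ext
      intro h
      simp [evaluationLeftAdjoint]
    rw [h]
    infer_instance
  haveI : Mono ((evaluationLeftAdjoint (ModuleCat.{u + 1} Λ) (op U)).map m) :=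
    NatTrans.mono_of_mono_app _
  show Mono ((presheafToSheaf _ _).map ((evaluationLeftAdjoint _ (op U)).map m))
  infer_instance

lemma mono_PhiU_map {M N : ModuleCat.{u + 1} Λ} (m : M ⟶ N) [Mono m] :
    Mono ((PhiU Λ U).map m) := by
  have h0 : Mono ((Phi2 Λ U).map m) := mono_Phi2_map Λ U m
  have h : (PhiU Λ U).map m ≫ (PhiIso Λ U).hom.app N =
      (PhiIso Λ U).hom.app M ≫ (Phi2 Λ U).map m := (PhiIso Λ U).hom.naturality m
  have h1 : IsIso ((PhiIso Λ U).hom.app M) := Iso.isIso_hom ((PhiIso Λ U).app M)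
  have h2 : Mono ((PhiIso Λ U).hom.app M) := @IsIso.mono_of_iso _ _ _ _ _ h1
  have h3 : Mono ((PhiU Λ U).map m ≫ (PhiIso Λ U).hom.app N) := by
    rw [h]
    exact mono_comp' h2 h0
  exact @mono_of_mono _ _ _ _ _ _ ((PhiIso Λ U).hom.app N) h3

end H9FE.ProEtDC
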