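import Mathlib
import Groth.Agent.Lib.Helper9.FE.ProEtDC1

/-! helper9: for an adjunction `Φ ⊣ Ψ` between `ModuleCat R` and an abelian category `C` with `Ext`, if `Φ` keeps
`R[X] --(fX-1)--> R[X]` a monomorphism and `Ext^0`, `Ext^1` from `Φ (R_f)` to `F` vanish, then the module `Ψ F`
is derived `f`-complete (in the sequence form `DCf`). -/

universe w v

set_option linter.style.haveILetI false
set_option linter.unusedSectionVars false

open CategoryTheory CategoryTheory.Limits Abelian Polynomial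

namespace H9FE.ProEtDC

variable {R : Type v} [CommRing R] (f : R)
variable {C : Type*} [Category C] [Abelian C] [HasExt.{w} C]
variable {Φ : ModuleCat.{v} R ⥤ C} {Ψ : C ⥤ ModuleCat.{v} R} (adj : Φ ⊣ Ψ) (F : C)

/-- the evaluation map `(Φ R[X] ⟶ F) → (ℕ → Ψ F)`. -/
noncomputable def evE : (Φ.obj (ModuleCat.of R R[X]) ⟶ F) → (ℕ → Ψ.obj F) :=
  fun φ n => (adj.homEquiv (ModuleCat.of R R[X]) F φ).hom (X ^ n)

lemma evE_bijective : Function.Bijective (evE adj F) := by
  have h1 : Function.Bijective (fun (h : R[X] →ₗ[R] Ψ.obj F) (n : ℕ) => h (X ^ n)) :=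
    ev_bijective (R := R) (Ψ.obj F)
  have h2 : Function.Bijective (fun (ψ : ModuleCat.of R R[X] ⟶ Ψ.obj F) => ψ.hom) := by
    constructor
    · intro ψ ψ' h
      exact ModuleCat.hom_ext h
    · intro h
      exact ⟨ModuleCat.ofHom h, rfl⟩
  exact h1.comp (h2.comp (adj.homEquiv _ _).bijective)

lemma evE_comp (φ : Φ.obj (ModuleCat.of R R[X]) ⟶ F) :
    evE adj F (Φ.map (S0 f).f ≫ φ) = seqT f (Ψ.obj F) (evE adj F φ) := by
  funext n
  have h1 : adj.homEquiv (ModuleCat.of R R[X]) F (Φ.map (S0 f).f ≫ φ) =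
      (S0 f).f ≫ adj.homEquiv (ModuleCat.of R R[X]) F φ := adj.homEquiv_naturality_left _ _
  have h2 := congrArg (fun ψ : ModuleCat.of R R[X] ⟶ Ψ.obj F => ψ.hom (X ^ n)) h1
  refine h2.trans ?_
  show (adj.homEquiv (ModuleCat.of R R[X]) F φ).hom (Tmap f (X ^ n)) = _
  rw [Tmap_X_pow, map_sub, map_smul]
  rfl

include adj in
theorem dcf_of_ext_vanish (hmono : Mono (Φ.map (S0 f).f))
    (h0 : Subsingleton (Ext (Φ.obj (ModuleCat.of R (Localization.Away f))) F 0))
    (h1 : Subsingleton (Ext (Φ.obj (ModuleCat.of R (Localization.Away f))) F 1)) :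
    DCf f (Ψ.obj F) := by
  haveI : Φ.IsLeftAdjoint := adj.isLeftAdjoint
  have hS₀ := S0_shortExact f
  haveI := hS₀.epi_g
  have hex : ((S0 f).map Φ).Exact :=
    hS₀.exact.map_of_epi_of_preservesCokernel Φ inferInstance inferInstance
  haveI : Mono ((S0 f).map Φ).f := hmono
  haveI : Epi ((S0 f).map Φ).g := by
    show Epi (Φ.map (S0 f).g)
    infer_instance
  have hS : ((S0 f).map Φ).ShortExact := ShortComplex.ShortExact.mk' hex inferInstance inferInstance
  haveI h0' : Subsingleton (Ext ((S0 f).map Φ).X₃ F 0) := h0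
  haveI h1' : Subsingleton (Ext ((S0 f).map Φ).X₃ F 1) := h1
  have hbij0 : Function.Bijective
      (fun φ : ((S0 f).map Φ).X₂ ⟶ F => ((S0 f).map Φ).f ≫ φ) := by
    constructor
    · intro φ φ' hφ
      have hφ' : ((S0 f).map Φ).f ≫ φ = ((S0 f).map Φ).f ≫ φ' := hφ
      have h2 : ((S0 f).map Φ).f ≫ (φ - φ') = 0 := by
        rw [Preadditive.comp_sub]
        exact sub_eq_zero.mpr hφ'
      have h3 := hS.exact.g_desc (φ - φ') h2
      have h4 : hS.exact.desc (φ - φ') h2 = 0 := by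
        apply (Ext.mk₀_bijective _ _).1
        exact Subsingleton.elim _ _
      rw [h4, Limits.comp_zero] at h3
      exact sub_eq_zero.mp h3.symm
    · intro φ
      obtain ⟨x₂, hx₂⟩ := Ext.contravariant_sequence_exact₁ hS F (Ext.mk₀ φ) (rfl : 1 + 0 = 1)
        (Subsingleton.elim _ _)
      obtain ⟨φ₂, rfl⟩ := (Ext.mk₀_bijective _ _).2 x₂
      refine ⟨φ₂, ?_⟩
      apply (Ext.mk₀_bijective _ _).1
      exact (Ext.mk₀_comp_mk₀ _ _).symm.trans hx₂
  have hbij : Function.Bijective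
      (fun φ : Φ.obj (ModuleCat.of R R[X]) ⟶ F => Φ.map (S0 f).f ≫ φ) := hbij0
  have hE := evE_bijective adj F
  constructor
  · intro x y hxy
    obtain ⟨φ, rfl⟩ := hE.2 x
    obtain ⟨φ', rfl⟩ := hE.2 y
    rw [← evE_comp, ← evE_comp] at hxy
    rw [hbij.1 (hE.1 hxy)]
  · intro y
    obtain ⟨φ, rfl⟩ := hE.2 y
    obtain ⟨φ₂, hφ₂⟩ := hbij.2 φ
    exact ⟨evE adj F φ₂, by rw [← evE_comp]; exact congrArg _ hφ₂⟩

end H9FE.ProEtDC
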