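import Mathlib
import Groth.Agent.Lib.Helper9.FE.ProEtDC2
/-! helper9: (1) closure properties of derived `f`-completeness (`DCf`) of modules: kernels, cokernels,
extensions, products, limits of towers, modules killed by a power of `f`.  (2) abstract converse of
`dcf_of_ext_vanish`: for an adjunction `Φ ⊣ Ψ` between `ModuleCat R` and an abelian category with `Ext`, if
`Φ R[X]` is projective and `Ψ F` is derived `f`-complete then all `Ext^n(Φ R_f, F)` vanish; a syzygy argument then
gives the vanishing of `Ext^n(Z, F)` for every object `Z` on which `f` acts invertibly. -/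

universe w v

set_option autoImplicit false
set_option linter.unusedSectionVars false
set_option linter.style.haveILetI false
set_option backward.isDefEq.respectTransparency false

open CategoryTheory CategoryTheory.Limits Abelian Polynomial Opposite

namespace H9FE.ProEtDC

section ModLemmas

variable {R : Type*} [CommRing R] (f : R)

lemma seqT_zero_fun {M : Type*} [AddCommGroup M] [Module R M] :
    seqT f M (fun _ => (0 : M)) = fun _ => 0 := by
  funext n
  simp [seqT_apply]

lemma dcf_of_ker {K M N : Type*} [AddCommGroup K] [Module R K] [AddCommGroup M] [Module R M]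
    [AddCommGroup N] [Module R N] (i : K →ₗ[R] M) (φ : M →ₗ[R] N) (hi : Function.Injective i)
    (hcomp : ∀ k, φ (i k) = 0)
    (hex : ∀ m, φ m = 0 → ∃ k, i k = m) (hM : DCf f M) (hN : DCf f N) : DCf f K := by
  constructor
  · intro x y hxy
    have h1 : seqT f M (fun n => i (x n)) = seqT f M (fun n => i (y n)) := by
      rw [seqT_comp, seqT_comp, hxy]
    have h2 := hM.1 h1
    funext n
    exact hi (congrFun h2 n)
  · intro y
    obtain ⟨x', hx'⟩ := hM.2 (fun n => i (y n))
    have h1 : seqT f N (fun n => φ (x' n)) = seqT f N (fun _ => 0) := by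
      rw [seqT_comp, hx', seqT_zero_fun]
      funext n
      exact hcomp (y n)
    have h2 := hN.1 h1
    have h3 : ∀ n, ∃ k, i k = x' n := fun n => hex (x' n) (congrFun h2 n)
    choose x hx using h3
    refine ⟨x, ?_⟩
    funext n
    apply hi
    have h4 := congrFun (seqT_comp f i x) n
    have h5 : (fun n => i (x n)) = x' := funext hx
    rw [h5, hx'] at h4
    exact h4.symm

lemma dcf_of_coker {M N C : Type*} [AddCommGroup M] [Module R M] [AddCommGroup N] [Module R N]
    [AddCommGroup C] [Module R C] (φ : M →ₗ[R] N) (q : N →ₗ[R] C) (hq : Function.Surjective q)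
    (hcomp : ∀ m, q (φ m) = 0)
    (hex : ∀ n, q n = 0 → ∃ m, φ m = n) (hM : DCf f M) (hN : DCf f N) : DCf f C := by
  constructor
  · rw [injective_iff_map_eq_zero]
    intro x hx
    choose x' hx' using fun n => hq (x n)
    have h1 : ∀ n, ∃ z, φ z = seqT f N x' n := by
      intro n
      apply hex
      have h2 := congrFun (seqT_comp f q x') n
      have h3 : (fun n => q (x' n)) = x := funext hx'
      rw [h3, hx] at h2
      exact h2.symm
    choose z hz using h1
    obtain ⟨w, hw⟩ := hM.2 z
    have h5 : seqT f N x' = seqT f N (fun n => φ (w n)) := by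
      rw [seqT_comp, hw]
      funext n
      exact (hz n).symm
    have h6 := hN.1 h5
    funext n
    show x n = 0
    rw [← hx' n, h6]
    exact hcomp (w n)
  · intro y
    choose y' hy' using fun n => hq (y n)
    obtain ⟨x', hx'⟩ := hN.2 y'
    refine ⟨fun n => q (x' n), ?_⟩
    rw [seqT_comp, hx']
    funext n
    exact hy' n

lemma dcf_of_ext {A B C : Type*} [AddCommGroup A] [Module R A] [AddCommGroup B] [Module R B]
    [AddCommGroup C] [Module R C] (i : A →ₗ[R] B) (q : B →ₗ[R] C) (hi : Function.Injective i)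
    (hq : Function.Surjective q)
    (hex : ∀ b, q b = 0 → ∃ a, i a = b) (hA : DCf f A) (hC : DCf f C) : DCf f B := by
  constructor
  · rw [injective_iff_map_eq_zero]
    intro x hx
    have h1 : seqT f C (fun n => q (x n)) = seqT f C (fun _ => 0) := by
      rw [seqT_comp, hx, seqT_zero_fun]
      funext n
      exact map_zero q
    have h2 := hC.1 h1
    have h3 : ∀ n, ∃ a, i a = x n := fun n => hex (x n) (congrFun h2 n)
    choose a ha using h3
    have h4 : seqT f A a = seqT f A (fun _ => 0) := by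
      rw [seqT_zero_fun]
      funext n
      apply hi
      have h5 := congrFun (seqT_comp f i a) n
      have h6 : (fun n => i (a n)) = x := funext ha
      rw [h6, hx] at h5
      rw [map_zero]
      exact h5.symm
    have h7 := hA.1 h4
    funext n
    show x n = 0
    rw [← ha n, h7]
    exact map_zero i
  · intro y
    obtain ⟨c, hc⟩ := hC.2 (fun n => q (y n))
    choose b' hb' using fun n => hq (c n)
    have h1 : ∀ n, ∃ a, i a = seqT f B b' n - y n := by
      intro n
      apply hex
      rw [map_sub]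
      have h2 := congrFun (seqT_comp f q b') n
      have h3 : (fun n => q (b' n)) = c := funext hb'
      rw [h3, hc] at h2
      rw [← h2]
      exact sub_self _
    choose a ha using h1
    obtain ⟨a', ha'⟩ := hA.2 a
    refine ⟨fun n => b' n - i (a' n), ?_⟩
    funext n
    have h4 := congrFun (seqT_comp f i a') n
    rw [ha'] at h4
    have h5 := ha n
    simp only [seqT_apply] at h4 h5 ⊢
    rw [smul_sub]
    have h6 : f • b' (n + 1) - f • i (a' (n + 1)) - (b' n - i (a' n)) =
        (f • b' (n + 1) - b' n) - (f • i (a' (n + 1)) - i (a' n)) := by abel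
    rw [h6, h4, h5]
    abel

lemma dcf_pi {J : Type*} (M : J → Type*) [∀ j, AddCommGroup (M j)] [∀ j, Module R (M j)]
    (h : ∀ j, DCf f (M j)) : DCf f (∀ j, M j) := by
  constructor
  · intro x y hxy
    funext n j
    have h1 : seqT f (M j) (fun n => x n j) = seqT f (M j) (fun n => y n j) := by
      funext n
      exact congrFun (congrFun hxy n) j
    exact congrFun ((h j).1 h1) n
  · intro y
    choose x hx using fun j => (h j).2 (fun n => y n j)
    refine ⟨fun n j => x j n, ?_⟩
    funext n j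
    exact congrFun (hx j) n

lemma dcf_of_pow_smul_eq_zero {M : Type*} [AddCommGroup M] [Module R M] (k : ℕ)
    (h : ∀ m : M, f ^ k • m = 0) : DCf f M := by
  constructor
  · rw [injective_iff_map_eq_zero]
    intro x hx
    have h1 : ∀ n, x n = f • x (n + 1) := by
      intro n
      have h0 := congrFun hx n
      simp only [seqT_apply, Pi.zero_apply] at h0
      exact (sub_eq_zero.mp h0).symm
    have h2 : ∀ j n, x n = f ^ j • x (n + j) := by
      intro j
      induction j with
      | zero => intro n; simp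
      | succ j ih =>
        intro n
        rw [ih n, h1 (n + j), smul_smul, pow_succ, add_assoc]
    funext n
    show x n = 0
    rw [h2 k n, h]
  · intro y
    refine ⟨fun n => - ∑ i ∈ Finset.range k, f ^ i • y (n + i), ?_⟩
    funext n
    simp only [seqT_apply]
    rw [smul_neg, Finset.smul_sum, sub_neg_eq_add, neg_add_eq_sub]
    have h1 : ∑ i ∈ Finset.range k, f • f ^ i • y (n + 1 + i) =
        ∑ i ∈ Finset.range k, f ^ (i + 1) • y (n + (i + 1)) := by
      refine Finset.sum_congr rfl fun i _ => ?_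
      rw [smul_smul, ← pow_succ', add_assoc, add_comm 1 i]
    rw [h1]
    have h2 := Finset.sum_range_succ' (fun i => f ^ i • y (n + i)) k
    have h3 := Finset.sum_range_succ (fun i => f ^ i • y (n + i)) k
    have h4 : f ^ k • y (n + k) = 0 := h _
    simp only [pow_zero, one_smul, add_zero] at h2
    rw [h4, add_zero] at h3
    rw [← h3, h2]
    abel

end ModLemmas

section LimLemma

variable {R : Type v} [CommRing R] (f : R)

lemma dcf_of_isLimit (G : ℕᵒᵖ ⥤ ModuleCat.{v} R) (c : Cone G) (hc : IsLimit c)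
    (h : ∀ n : ℕ, DCf f (G.obj (op n))) : DCf f c.pt := by
  let i : c.pt →ₗ[R] (∀ n : ℕ, G.obj (op n)) := LinearMap.pi (fun n => (c.π.app (op n)).hom)
  let t : ∀ n : ℕ, G.obj (op (n + 1)) →ₗ[R] G.obj (op n) :=
    fun n => (G.map (homOfLE (Nat.le_succ n)).op).hom
  let φ : (∀ n : ℕ, G.obj (op n)) →ₗ[R] (∀ n : ℕ, G.obj (op n)) :=
    LinearMap.pi (fun n =>
      (LinearMap.proj n : (∀ n : ℕ, G.obj (op n)) →ₗ[R] G.obj (op n)) -
      (t n).comp (LinearMap.proj (n + 1) : (∀ n : ℕ, G.obj (op n)) →ₗ[R] G.obj (op (n + 1))))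
  have hM : DCf f (∀ n : ℕ, G.obj (op n)) := dcf_pi f (fun n : ℕ => G.obj (op n)) h
  refine dcf_of_ker f i φ ?_ ?_ ?_ hM hM
  · intro x y hxy
    apply Concrete.isLimit_ext G hc
    intro j
    exact congrFun hxy j.unop
  · intro k
    funext n
    show (c.π.app (op n)).hom k - (G.map (homOfLE (Nat.le_succ n)).op).hom
      ((c.π.app (op (n + 1))).hom k) = 0
    have h1 := c.w (homOfLE (Nat.le_succ n)).op
    have h2 : (c.π.app (op n)).hom k = (G.map (homOfLE (Nat.le_succ n)).op).hom
        ((c.π.app (op (n + 1))).hom k) := by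
      rw [← h1]
      rfl
    rw [h2, sub_self]
  · intro x hx
    have hx' : ∀ n, x n = t n (x (n + 1)) := fun n => sub_eq_zero.mp (congrFun hx n)
    have hcompat : ∀ (n m : ℕ) (hnm : n ≤ m), (G.map (homOfLE hnm).op).hom (x m) = x n := by
      intro n m hnm
      induction m, hnm using Nat.le_induction with
      | base =>
        have h0 : (homOfLE (le_refl n)).op = 𝟙 (op n) := Subsingleton.elim _ _
        rw [h0, G.map_id]
        rfl
      | succ m hnm ih =>
        have h0 : (homOfLE (hnm.trans (Nat.le_succ m))).op =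
            (homOfLE (Nat.le_succ m)).op ≫ (homOfLE hnm).op := Subsingleton.elim _ _
        have h1 : (homOfLE (Nat.le_succ_of_le hnm)).op =
            (homOfLE (Nat.le_succ m)).op ≫ (homOfLE hnm).op := Subsingleton.elim _ _
        rw [h1, G.map_comp, ModuleCat.hom_comp, LinearMap.comp_apply]
        have h2 : (G.map (homOfLE (Nat.le_succ m)).op).hom (x (m + 1)) = x m := (hx' m).symm
        rw [h2]
        exact ih
    let hc' := isLimitOfPreserves (forget (ModuleCat.{v} R)) hc
    have hs : (fun j : ℕᵒᵖ => x j.unop) ∈ (G ⋙ forget (ModuleCat.{v} R)).sections := by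
      intro j j' g
      have h0 : g = (homOfLE (leOfHom g.unop)).op := Subsingleton.elim _ _
      rw [h0]
      exact hcompat j'.unop j.unop (leOfHom g.unop)
    refine ⟨(Types.isLimitEquivSections hc').symm ⟨_, hs⟩, ?_⟩
    funext n
    exact Types.isLimitEquivSections_symm_apply hc' ⟨_, hs⟩ (op n)

end LimLemma

section Abs

variable {R : Type v} [CommRing R] (f : R)
variable {C : Type*} [Category C] [Abelian C] [HasExt.{w} C]
variable {Φ : ModuleCat.{v} R ⥤ C} {Ψ : C ⥤ ModuleCat.{v} R} (adj : Φ ⊣ Ψ) (F : C)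

include adj in
theorem ext_vanish_of_dcf (hproj : Projective (Φ.obj (ModuleCat.of R R[X])))
    (hmono : Mono (Φ.map (S0 f).f)) (hdc : DCf f (Ψ.obj F)) (n : ℕ) :
    Subsingleton (Ext.{w} (Φ.obj (ModuleCat.of R (Localization.Away f))) F n) := by
  haveI : Φ.IsLeftAdjoint := adj.isLeftAdjoint
  have hS : ((S0 f).map Φ).ShortExact := by
    have hS₀ := S0_shortExact f
    haveI := hS₀.epi_g
    have hex : ((S0 f).map Φ).Exact :=
      hS₀.exact.map_of_epi_of_preservesCokernel Φ inferInstance inferInstance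
    haveI : Mono ((S0 f).map Φ).f := hmono
    haveI : Epi ((S0 f).map Φ).g := by
      show Epi (Φ.map (S0 f).g)
      infer_instance
    exact ShortComplex.ShortExact.mk' hex inferInstance inferInstance
  haveI : Projective ((S0 f).map Φ).X₁ := hproj
  haveI : Projective ((S0 f).map Φ).X₂ := hproj
  have hE := evE_bijective adj F
  have hbij : Function.Bijective
      (fun φ : Φ.obj (ModuleCat.of R R[X]) ⟶ F => Φ.map (S0 f).f ≫ φ) := by
    constructor
    · intro φ φ' hφ
      have h1 : evE adj F (Φ.map (S0 f).f ≫ φ) = evE adj F (Φ.map (S0 f).f ≫ φ') :=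
        congrArg _ hφ
      rw [evE_comp, evE_comp] at h1
      exact hE.1 (hdc.1 h1)
    · intro φ
      obtain ⟨y, hy⟩ := hdc.2 (evE adj F φ)
      obtain ⟨φ₂, rfl⟩ := hE.2 y
      refine ⟨φ₂, hE.1 ?_⟩
      show evE adj F (Φ.map (S0 f).f ≫ φ₂) = _
      rw [evE_comp]
      exact hy
  suffices h : ∀ x : Ext.{w} ((S0 f).map Φ).X₃ F n, x = 0 from
    ⟨fun a b => (h a).trans (h b).symm⟩
  intro x
  cases n with
  | zero =>
    obtain ⟨ψ, rfl⟩ := (Ext.mk₀_bijective _ _).2 x
    have h1 : Φ.map (S0 f).f ≫ (((S0 f).map Φ).g ≫ ψ) = Φ.map (S0 f).f ≫ 0 := by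
      have h0 := ((S0 f).map Φ).zero
      have h0' : Φ.map (S0 f).f ≫ ((S0 f).map Φ).g = 0 := h0
      rw [← Category.assoc, h0', Limits.zero_comp, Limits.comp_zero]
    have h2 : ((S0 f).map Φ).g ≫ ψ = 0 := hbij.1 h1
    haveI := hS.epi_g
    have h3 : ψ = 0 := by
      rw [← cancel_epi ((S0 f).map Φ).g, h2, Limits.comp_zero]
    rw [h3, Ext.mk₀_zero]
  | succ n =>
    have h0 : (Ext.mk₀ ((S0 f).map Φ).g).comp x (zero_add (n + 1)) = 0 :=
      Ext.eq_zero_of_projective _
    obtain ⟨x₁, hx₁⟩ := Ext.contravariant_sequence_exact₃ hS F x h0 (add_comm 1 n)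
    cases n with
    | zero =>
      obtain ⟨φ₁, rfl⟩ := (Ext.mk₀_bijective _ _).2 x₁
      obtain ⟨φ₂, hφ₂⟩ := hbij.2 φ₁
      have h4 : Ext.mk₀ φ₁ = (Ext.mk₀ ((S0 f).map Φ).f).comp (Ext.mk₀ φ₂) (zero_add 0) := by
        rw [Ext.mk₀_comp_mk₀]
        exact congrArg Ext.mk₀ hφ₂.symm
      rw [← hx₁, h4]
      exact hS.extClass_comp_assoc _
    | succ n =>
      rw [← hx₁, Ext.eq_zero_of_projective x₁, Ext.comp_zero]

include adj in
lemma sigma_Phi (σ : 𝟭 C ⟶ 𝟭 C) (hσ : ∀ G : C, Ψ.map (σ.app G) = f • 𝟙 (Ψ.obj G))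
    (M : ModuleCat.{v} R) : σ.app (Φ.obj M) = Φ.map (f • 𝟙 M) := by
  apply (adj.homEquiv M (Φ.obj M)).injective
  rw [adj.homEquiv_unit, adj.homEquiv_unit, hσ]
  have h1 := adj.unit.naturality (f • 𝟙 M)
  simp only [Functor.id_map, Functor.comp_map] at h1
  rw [← h1, Linear.comp_smul, Linear.smul_comp]
  simp

theorem ext_vanish_of_syzygy (Z : ObjectProperty C)
    (h : ∀ X, Z X → ∃ (R' : C) (p : R' ⟶ X), Epi p ∧ (∀ n, Subsingleton (Ext.{w} R' F n)) ∧
      Z (kernel p)) :
    ∀ (n : ℕ) (X : C), Z X → Subsingleton (Ext.{w} X F n) := by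
  intro n
  induction n with
  | zero =>
    intro X hX
    obtain ⟨R', p, hp, hR, -⟩ := h X hX
    refine ⟨fun a b => ?_⟩
    apply Ext.precomp_mk₀_injective_of_epi F p
    haveI := hR 0
    exact Subsingleton.elim _ _
  | succ n ih =>
    intro X hX
    obtain ⟨R', p, hp, hR, hK⟩ := h X hX
    have hS : (ShortComplex.mk (kernel.ι p) p (kernel.condition p)).ShortExact :=
      { exact := ShortComplex.exact_kernel p }
    suffices hz : ∀ x : Ext.{w} X F (n + 1), x = 0 from
      ⟨fun a b => (hz a).trans (hz b).symm⟩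
    intro x
    haveI := hR (n + 1)
    have h0 : (Ext.mk₀ p).comp x (zero_add (n + 1)) = 0 := Subsingleton.elim _ _
    obtain ⟨x₁, hx₁⟩ := Ext.contravariant_sequence_exact₃ hS F x h0 (add_comm 1 n)
    haveI := ih (kernel p) hK
    rw [← hx₁, Subsingleton.elim x₁ 0, Ext.comp_zero]

lemma smul_id_hom_apply {M : ModuleCat.{v} R} (a : R) (y : M) : (a • 𝟙 M).hom y = a • y := by
  simp [ModuleCat.hom_smul]

lemma isIso_smul_id_away : IsIso (f • 𝟙 (ModuleCat.of R (Localization.Away f))) := by
  rw [ConcreteCategory.isIso_iff_bijective]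
  show Function.Bijective (f • 𝟙 (ModuleCat.of R (Localization.Away f))).hom
  obtain ⟨u, hu'⟩ := IsLocalization.Away.algebraMap_isUnit (S := Localization.Away f) f
  refine Function.bijective_iff_has_inverse.mpr
    ⟨fun y => ((↑u⁻¹ : Localization.Away f) * y : Localization.Away f), fun y => ?_, fun y => ?_⟩
  · show (↑u⁻¹ : Localization.Away f) * (f • 𝟙 (ModuleCat.of R (Localization.Away f))).hom y = y
    rw [smul_id_hom_apply]
    show (↑u⁻¹ : Localization.Away f) * (f • (y : Localization.Away f)) = y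
    rw [Algebra.smul_def, ← hu', ← mul_assoc, Units.inv_mul, one_mul]
  · show (f • 𝟙 (ModuleCat.of R (Localization.Away f))).hom
      ((↑u⁻¹ : Localization.Away f) * y : Localization.Away f) = y
    rw [smul_id_hom_apply]
    show f • ((↑u⁻¹ : Localization.Away f) * y) = y
    rw [Algebra.smul_def, ← hu', ← mul_assoc, Units.mul_inv, one_mul]

theorem ext_vanish_of_invertible (σ : 𝟭 C ⟶ 𝟭 C)
    (hsupply : ∀ Z : C, IsIso (σ.app Z) →
      ∃ (Φ : ModuleCat.{v} R ⥤ C) (Ψ : C ⥤ ModuleCat.{v} R) (_ : Φ ⊣ Ψ),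
        Projective (Φ.obj (ModuleCat.of R R[X])) ∧ Mono (Φ.map (S0 f).f) ∧
        (∀ G : C, Ψ.map (σ.app G) = f • 𝟙 (Ψ.obj G)) ∧ DCf f (Ψ.obj F) ∧
        ∃ m : Ψ.obj Z, ∀ (Y : C) (g : Z ⟶ Y), (Ψ.map g).hom m = 0 → g = 0) :
    ∀ (n : ℕ) (Z : C), IsIso (σ.app Z) → Subsingleton (Ext.{w} Z F n) := by
  apply ext_vanish_of_syzygy F (fun Z => IsIso (σ.app Z))
  intro Z hZ
  obtain ⟨Φ, Ψ, adj, hproj, hmono, hσ, hdc, m, hm⟩ := hsupply Z hZ
  haveI : Ψ.IsRightAdjoint := adj.isRightAdjoint
  haveI : IsIso (σ.app Z) := hZ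
  have hbij : Function.Bijective (fun y : Ψ.obj Z => f • y) := by
    have h1 : IsIso (f • 𝟙 (Ψ.obj Z)) := by
      rw [← hσ]
      infer_instance
    have h2 : Function.Bijective (f • 𝟙 (Ψ.obj Z)).hom :=
      (ConcreteCategory.isIso_iff_bijective _).mp h1
    have h3 : (fun y : Ψ.obj Z => f • y) = ⇑(f • 𝟙 (Ψ.obj Z)).hom :=
      funext fun y => (smul_id_hom_apply f y).symm
    rw [h3]
    exact h2
  have hunit : ∀ x : Submonoid.powers f,
      IsUnit ((algebraMap R (Module.End R (Ψ.obj Z))) x) := by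
    rintro ⟨_, k, rfl⟩
    show IsUnit ((algebraMap R (Module.End R (Ψ.obj Z))) (f ^ k))
    rw [map_pow]
    apply IsUnit.pow
    rw [Module.End.isUnit_iff]
    have h3 : ⇑((algebraMap R (Module.End R (Ψ.obj Z))) f) = fun y : Ψ.obj Z => f • y :=
      funext fun y => Module.algebraMap_end_apply R R (Ψ.obj Z) f y
    rw [h3]
    exact hbij
  let ℓ : Localization.Away f →ₗ[R] Ψ.obj Z :=
    IsLocalizedModule.lift (Submonoid.powers f) (Algebra.linearMap R (Localization.Away f))
      (LinearMap.toSpanSingleton R (Ψ.obj Z) m) hunit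
  have hℓ : ℓ 1 = m := by
    have h0 := IsLocalizedModule.lift_apply (Submonoid.powers f)
      (Algebra.linearMap R (Localization.Away f))
      (LinearMap.toSpanSingleton R (Ψ.obj Z) m) hunit (1 : R)
    simpa using h0
  let p : Φ.obj (ModuleCat.of R (Localization.Away f)) ⟶ Z :=
    (adj.homEquiv _ _).symm (ModuleCat.ofHom ℓ)
  refine ⟨_, p, ?_, ext_vanish_of_dcf f adj F hproj hmono hdc, ?_⟩
  · apply Preadditive.epi_of_cancel_zero
    intro Y g hg
    apply hm Y g
    have h1 : adj.homEquiv _ _ (p ≫ g) = ModuleCat.ofHom ℓ ≫ Ψ.map g := by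
      rw [adj.homEquiv_naturality_right]
      show adj.homEquiv _ _ ((adj.homEquiv _ _).symm (ModuleCat.ofHom ℓ)) ≫ Ψ.map g = _
      rw [Equiv.apply_symm_apply]
    rw [hg] at h1
    have h2 : adj.homEquiv (ModuleCat.of R (Localization.Away f)) Y 0 = 0 := by
      rw [adj.homEquiv_unit, Functor.map_zero, Limits.comp_zero]
    rw [h2] at h1
    have h3 := congrArg (fun ψ : ModuleCat.of R (Localization.Away f) ⟶ Ψ.obj Y =>
      ψ.hom (1 : Localization.Away f)) h1
    have h4 : (Ψ.map g).hom (ℓ 1) = 0 := h3.symm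
    rw [hℓ] at h4
    exact h4
  · show IsIso (σ.app (kernel p))
    haveI hR : IsIso (σ.app (Φ.obj (ModuleCat.of R (Localization.Away f)))) := by
      rw [sigma_Phi f adj σ hσ]
      haveI := isIso_smul_id_away f
      infer_instance
    have hn1 : kernel.ι p ≫ σ.app _ = σ.app (kernel p) ≫ kernel.ι p := σ.naturality (kernel.ι p)
    have hn2 : p ≫ σ.app Z = σ.app _ ≫ p := σ.naturality p
    have hz : (kernel.ι p ≫ inv (σ.app (Φ.obj (ModuleCat.of R (Localization.Away f))))) ≫ p = 0 := by
      rw [← cancel_mono (σ.app Z), Category.assoc, Category.assoc, hn2, IsIso.inv_hom_id_assoc,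
        kernel.condition, Limits.zero_comp]
    refine ⟨⟨kernel.lift p _ hz, ?_, ?_⟩⟩
    · rw [← cancel_mono (kernel.ι p), Category.assoc, kernel.lift_ι, ← Category.assoc, ← hn1,
        Category.assoc, IsIso.hom_inv_id, Category.comp_id, Category.id_comp]
    · rw [← cancel_mono (kernel.ι p), Category.assoc, ← hn1, ← Category.assoc, kernel.lift_ι,
        Category.assoc, IsIso.inv_hom_id, Category.comp_id, Category.id_comp]

end Abs

end H9FE.ProEtDC
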