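import Mathlib
import Groth.Agent.Lib.Helper9.FE.ProEtDC4
/-! helper9: for a family of adjunctions `L j ⊣ Rr j` between `ModuleCat R` and a category `C` with coproducts, the
functor `M ↦ ∐ⱼ L j M` is left adjoint to `G ↦ ∏ⱼ Rr j G` (product of modules as a pi type); projectivity, monomorphisms,
scalar action and derived completeness for these functors. -/

universe w v

set_option autoImplicit false
set_option linter.unusedSectionVars false
set_option linter.style.haveILetI false
set_option backward.isDefEq.respectTransparency false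

open CategoryTheory CategoryTheory.Limits Abelian Polynomial Opposite

namespace H9FE.ProEtDC

variable {R : Type v} [CommRing R] {C : Type*} [Category C] {J : Type v}
variable (L : J → (ModuleCat.{v} R ⥤ C)) (Rr : J → (C ⥤ ModuleCat.{v} R)) (adj : ∀ j, L j ⊣ Rr j)
variable [HasCoproductsOfShape J C]

/-- `M ↦ ∐ⱼ L j M`. -/
noncomputable def PhiJ : ModuleCat.{v} R ⥤ C where
  obj M := ∐ (fun j => (L j).obj M)
  map m := Limits.Sigma.map (fun j => (L j).map m)
  map_id M := by
    apply Sigma.hom_ext
    intro j
    simp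
  map_comp m m' := by
    apply Sigma.hom_ext
    intro j
    simp

/-- `G ↦ ∏ⱼ Rr j G`. -/
noncomputable def PsiJ : C ⥤ ModuleCat.{v} R where
  obj G := ModuleCat.of R (∀ j, (Rr j).obj G)
  map {G G'} g := ModuleCat.ofHom (LinearMap.pi (fun j =>
    ((Rr j).map g).hom.comp (LinearMap.proj j : (∀ j, (Rr j).obj G) →ₗ[R] (Rr j).obj G)))
  map_id G := by
    ext x j
    simp
  map_comp g g' := by
    ext x j
    simp

lemma PsiJ_map_apply {G G' : C} (g : G ⟶ G') (x : ∀ j, (Rr j).obj G) (j : J) :
    ((PsiJ Rr).map g).hom x j = ((Rr j).map g).hom (x j) := rfl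

/-- the adjunction. -/
noncomputable def adjJ : PhiJ L ⊣ PsiJ Rr :=
  Adjunction.mkOfHomEquiv
    { homEquiv := fun M G =>
        { toFun := fun g => ModuleCat.ofHom (LinearMap.pi (fun j =>
            ((adj j).homEquiv M G (Sigma.ι (fun j => (L j).obj M) j ≫ g)).hom))
          invFun := fun h => Sigma.desc (fun j => ((adj j).homEquiv M G).symm
            (h ≫ ModuleCat.ofHom (LinearMap.proj j : (∀ j, (Rr j).obj G) →ₗ[R] (Rr j).obj G)))
          left_inv := fun g => by
            apply Sigma.hom_ext
            intro j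
            rw [colimit.ι_desc]
            show ((adj j).homEquiv M G).symm _ = _
            rw [Equiv.symm_apply_eq]
            rfl
          right_inv := fun h => by
            ext x j
            show ((adj j).homEquiv M G (Sigma.ι (fun j => (L j).obj M) j ≫ Sigma.desc _)).hom x = _
            rw [colimit.ι_desc]
            show ((adj j).homEquiv M G (((adj j).homEquiv M G).symm _)).hom x = _
            rw [Equiv.apply_symm_apply]
            rfl }
      homEquiv_naturality_left_symm := fun {M' M G} m h => by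
        apply Sigma.hom_ext
        intro j
        dsimp only [PhiJ, Equiv.coe_fn_symm_mk]
        simp only [colimit.ι_desc, Cofan.mk_pt, Cofan.mk_ι_app]
        have e1 : Sigma.ι (fun j => (L j).obj M') j ≫ Limits.Sigma.map (fun j => (L j).map m) =
            (L j).map m ≫ Sigma.ι (fun j => (L j).obj M) j := Sigma.ι_map _ _
        rw [reassoc_of% e1, Sigma.ι_desc, ← (adj j).homEquiv_naturality_left_symm, Category.assoc]
      homEquiv_naturality_right := fun {M G G'} g k => by
        ext x
        funext j
        show ((adj j).homEquiv M G' (Sigma.ι (fun j => (L j).obj M) j ≫ g ≫ k)).hom x =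
          ((Rr j).map k).hom (((adj j).homEquiv M G (Sigma.ι (fun j => (L j).obj M) j ≫ g)).hom x)
        rw [← Category.assoc, (adj j).homEquiv_naturality_right]
        rfl }

lemma projective_PhiJ (P : ModuleCat.{v} R) (h : ∀ j, Projective ((L j).obj P)) :
    Projective ((PhiJ L).obj P) := by
  haveI := h
  have key : Projective (∐ (fun j => (L j).obj P)) :=
    ⟨fun {E X} g e _ => ⟨Sigma.desc fun j =>
      Projective.factorThru (Sigma.ι (fun j => (L j).obj P) j ≫ g) e, by
        apply Sigma.hom_ext
        intro j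
        rw [← Category.assoc, Sigma.ι_desc, Projective.factorThru_comp]⟩⟩
  exact key

lemma mono_PhiJ_map [HasExactColimitsOfShape (Discrete J) C] {M N : ModuleCat.{v} R} (m : M ⟶ N)
    (h : ∀ j, Mono ((L j).map m)) : Mono ((PhiJ L).map m) := by
  let α : Discrete.functor (fun j => (L j).obj M) ⟶ Discrete.functor (fun j => (L j).obj N) :=
    Discrete.natTrans (fun j => (L j.as).map m)
  haveI : ∀ j, Mono (α.app j) := fun j => h j.as
  haveI : Mono α := NatTrans.mono_of_mono_app α
  have h1 : (PhiJ L).map m = (colim : (Discrete J ⥤ C) ⥤ C).map α := rfl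
  rw [h1]
  infer_instance

lemma PsiJ_map_sigma (f : R) (σ : 𝟭 C ⟶ 𝟭 C)
    (hσ : ∀ j (G : C), (Rr j).map (σ.app G) = f • 𝟙 ((Rr j).obj G)) (G : C) :
    (PsiJ Rr).map (σ.app G) = f • 𝟙 ((PsiJ Rr).obj G) := by
  apply ModuleCat.hom_ext
  apply LinearMap.ext
  intro x
  funext j
  have h1 : ((PsiJ Rr).map (σ.app G)).hom x j = ((Rr j).map (σ.app G)).hom (x j) := rfl
  have h2 : (f • 𝟙 ((PsiJ Rr).obj G)).hom x = f • x := smul_id_hom_apply f x
  rw [h1, hσ]
  exact (smul_id_hom_apply (M := (Rr j).obj G) f (x j)).trans (congrFun h2 j).symm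

lemma dcf_PsiJ (f : R) (F : C) (h : ∀ j, DCf f ((Rr j).obj F)) : DCf f ((PsiJ Rr).obj F) :=
  dcf_pi f (fun j => (Rr j).obj F) h

end H9FE.ProEtDC
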