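import Mathlib
import Groth.Prelude.Def_ProEtDC
import Groth.Agent.Lib.Helper9.FE.ProEtDC3
import Groth.Agent.Lib.Helper9.FE.ProEtDC5
import Groth.Agent.Lib.Helper9.FE.ProEtW6
/-! helper9: on the pro-etale site a sheaf of `Λ`-modules `F` is derived complete (all `Ext^n(j_{U!}Λ_f, F)` vanish) if and
only if its modules of sections over weakly contractible objects are derived `f`-complete for all `f ∈ I`; closure of
derived complete sheaves under kernels, cokernels, extensions and limits of towers; constant sheaves on modules killed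
by a power of `I`. -/

universe u

set_option autoImplicit false
set_option linter.unusedSectionVars false
set_option linter.style.haveILetI false
set_option backward.isDefEq.respectTransparency false

open CategoryTheory CategoryTheory.Limits AlgebraicGeometry Opposite Abelian Polynomial

namespace H9FE.ProEtDC

variable {X : Scheme.{u}} (Λ : Type (u + 1)) [CommRing Λ]

/-- multiplication by `a` as a natural endomorphism of the identity. -/
noncomputable def smulNat (a : Λ) : 𝟭 (EtModW.ModP Λ X) ⟶ 𝟭 (EtModW.ModP Λ X) where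
  app F := ProEtDC.smulHom Λ F a
  naturality F G φ := by
    apply Sheaf.hom_ext
    ext U x
    show a • (φ.hom.app U).hom x = (φ.hom.app U).hom (a • x)
    rw [map_smul]

lemma Psi2_map_smulNat (a : Λ) (U : X.ProEt) (G : EtModW.ModP Λ X) :
    (Psi2 Λ U).map ((smulNat Λ a).app G) = a • 𝟙 ((Psi2 Λ U).obj G) := by
  apply ModuleCat.hom_ext
  apply LinearMap.ext
  intro x
  exact (smul_id_hom_apply (M := (Psi2 Λ U).obj G) a x).symm

lemma surj_of_epi_of_isWC {G F : EtModW.ModP Λ X} (ψ : G ⟶ F) [Epi ψ] {W : X.ProEt}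
    (hW : ProEtS.IsWC W) : Function.Surjective (ψ.hom.app (op W)) := by
  haveI h1 : Sheaf.IsLocallySurjective ψ :=
    (Sheaf.isLocallySurjective_iff_epi' _ ψ).mpr inferInstance
  haveI h2 : Sheaf.IsLocallySurjective
      ((sheafCompose (Scheme.ProEt.topology X) (forget (ModuleCat.{u + 1} Λ))).map ψ) :=
    inferInstance
  have h3 : Epi ((sheafCompose (Scheme.ProEt.topology X) (forget (ModuleCat.{u + 1} Λ))).map ψ) :=
    inferInstance
  intro m
  obtain ⟨s, hs⟩ := hW _ _ _ h3 m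
  exact ⟨s, hs⟩

lemma preservesEpi_Psi2 {W : X.ProEt} (hW : ProEtS.IsWC W) :
    (Psi2 Λ W).PreservesEpimorphisms :=
  ⟨fun φ _ => (ModuleCat.epi_iff_surjective _).mpr (surj_of_epi_of_isWC Λ φ hW)⟩

lemma hom_eq_zero_of_wc {Z Y : EtModW.ModP Λ X} (g : Z ⟶ Y)
    (h : ∀ (W : X.ProEt), ProEtS.IsWC W → ∀ s : Z.obj.obj (op W), (g.hom.app (op W)).hom s = 0) :
    g = 0 := by
  apply Sheaf.hom_ext
  ext U t
  obtain ⟨V, k, hk, hV⟩ := H9FE.ProEtW.main713 U.unop
  show (g.hom.app U).hom t = 0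
  apply Sheaf.isSeparated Y U.unop _ hk ((g.hom.app U).hom t) 0
  intro W' k' hk'
  obtain ⟨Z', k'', g', hg', rfl⟩ := hk'
  cases hg'
  rw [op_comp, Functor.map_comp]
  show (Y.obj.map k''.op) ((Y.obj.map k.op) ((g.hom.app U).hom t)) =
    (Y.obj.map k''.op) ((Y.obj.map k.op) 0)
  have h1 : (Y.obj.map k.op) ((g.hom.app U).hom t) =
      (g.hom.app (op V)).hom ((Z.obj.map k.op) t) := by
    have h0 := congrArg (fun ψ : Z.obj.obj U ⟶ Y.obj.obj (op V) => ψ.hom t)
      (g.hom.naturality k.op)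
    exact h0.symm
  rw [h1, h V hV]
  simp only [map_zero]

lemma projective_polyMod : Projective (ModuleCat.of Λ Λ[X]) :=
  ModuleCat.projective_of_free (Polynomial.basisMonomials Λ)

theorem ext_vanish_of_wc_dcf (f : Λ) (F : EtModW.ModP Λ X)
    (hF : ∀ W : X.ProEt, ProEtS.IsWC W → DCf f (F.obj.obj (op W))) :
    ∀ (n : ℕ) (Z : EtModW.ModP Λ X), IsIso (ProEtDC.smulHom Λ Z f) →
      Subsingleton (Ext.{u + 1} Z F n) := by
  apply ext_vanish_of_invertible f F (smulNat Λ f)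
  intro Z hZ
  let J := Σ (W : {W : X.ProEt // ProEtS.IsWC W}), Z.obj.obj (op W.1)
  let L : J → (ModuleCat.{u + 1} Λ ⥤ EtModW.ModP Λ X) := fun j => PhiU Λ j.1.1
  let Rr : J → (EtModW.ModP Λ X ⥤ ModuleCat.{u + 1} Λ) := fun j => Psi2 Λ j.1.1
  refine ⟨PhiJ L, PsiJ Rr, adjJ L Rr (fun j => adjU2 Λ j.1.1), ?_, ?_, ?_, ?_, ?_⟩
  · apply projective_PhiJ
    intro j
    haveI := preservesEpi_Psi2 Λ j.1.2
    exact (adjU2 Λ j.1.1).map_projective _ (projective_polyMod Λ)
  · apply mono_PhiJ_map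
    intro j
    haveI : Mono (S0 f).f := (S0_shortExact f).mono_f
    exact mono_PhiU_map Λ j.1.1 _
  · exact PsiJ_map_sigma Rr f (smulNat Λ f) (fun j G => Psi2_map_smulNat Λ f j.1.1 G)
  · exact dcf_PsiJ Rr f F (fun j => hF j.1.1 j.1.2)
  · refine ⟨fun j => j.2, ?_⟩
    intro Y g hg
    apply hom_eq_zero_of_wc
    intro W hW s
    exact congrFun hg ⟨⟨W, hW⟩, s⟩

lemma dcf_sections_of_isDCSheaf (I : Ideal Λ) (F : EtModW.ModP Λ X)
    (h : ProEtDC.IsDCSheaf Λ I F) (U : X.ProEt) (f : Λ) (hf : f ∈ I) :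
    DCf f (F.obj.obj (op U)) := by
  haveI : Mono (S0 f).f := (S0_shortExact f).mono_f
  exact dcf_of_ext_vanish f (adjU2 Λ U) F (mono_PhiU_map Λ U (S0 f).f) (h U f hf 0) (h U f hf 1)

theorem isDCSheaf_of_wc (I : Ideal Λ) (F : EtModW.ModP Λ X)
    (h : ∀ W : X.ProEt, ProEtS.IsWC W → ∀ f ∈ I, DCf f (F.obj.obj (op W))) :
    ProEtDC.IsDCSheaf Λ I F := by
  intro U f hf n
  apply ext_vanish_of_wc_dcf Λ f F (fun W hW => h W hW f hf) n
  show IsIso ((smulNat Λ f).app ((PhiU Λ U).obj (ModuleCat.of Λ (Localization.Away f))))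
  rw [sigma_Phi f (adjU2 Λ U) (smulNat Λ f) (fun G => Psi2_map_smulNat Λ f U G)]
  haveI := isIso_smul_id_away f
  infer_instance

section Closure

variable (I : Ideal Λ)

lemma preservesFiniteLimits_Psi2 (W : X.ProEt) : PreservesFiniteLimits (Psi2 Λ W) := by
  haveI := (adjU2 Λ W).rightAdjoint_preservesLimits
  infer_instance

lemma isDCSheaf_X₁ (S : ShortComplex (EtModW.ModP Λ X)) (hS : S.Exact) [Mono S.f]
    (h2 : ProEtDC.IsDCSheaf Λ I S.X₂) (h3 : ProEtDC.IsDCSheaf Λ I S.X₃) :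
    ProEtDC.IsDCSheaf Λ I S.X₁ := by
  apply isDCSheaf_of_wc
  intro W _ f hf
  haveI := preservesFiniteLimits_Psi2 Λ W
  haveI : (Psi2 Λ W).PreservesZeroMorphisms := inferInstance
  have hex : (S.map (Psi2 Λ W)).Exact := hS.map_of_mono_of_preservesKernel (Psi2 Λ W) inferInstance inferInstance
  haveI : Mono (S.map (Psi2 Λ W)).f := by
    show Mono ((Psi2 Λ W).map S.f)
    infer_instance
  refine dcf_of_ker f (S.map (Psi2 Λ W)).f.hom (S.map (Psi2 Λ W)).g.hom
    ((ModuleCat.mono_iff_injective _).mp inferInstance)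
    (fun k => (S.map (Psi2 Λ W)).moduleCat_zero_apply k)
    ((S.map (Psi2 Λ W)).moduleCat_exact_iff.mp hex)
    (dcf_sections_of_isDCSheaf Λ I S.X₂ h2 W f hf) (dcf_sections_of_isDCSheaf Λ I S.X₃ h3 W f hf)

lemma preservesFiniteColimits_Psi2 {W : X.ProEt} (hW : ProEtS.IsWC W) :
    PreservesFiniteColimits (Psi2 Λ W) := by
  haveI := preservesFiniteLimits_Psi2 Λ W
  haveI := preservesEpi_Psi2 Λ hW
  rw [Functor.preservesFiniteColimits_iff_forall_exact_map_and_epi]
  intro S hS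
  haveI := hS.mono_f
  haveI := hS.epi_g
  exact ⟨hS.exact.map_of_mono_of_preservesKernel (Psi2 Λ W) inferInstance inferInstance,
    inferInstance⟩

lemma isDCSheaf_X₃ (S : ShortComplex (EtModW.ModP Λ X)) (hS : S.Exact) [Epi S.g]
    (h1 : ProEtDC.IsDCSheaf Λ I S.X₁) (h2 : ProEtDC.IsDCSheaf Λ I S.X₂) :
    ProEtDC.IsDCSheaf Λ I S.X₃ := by
  apply isDCSheaf_of_wc
  intro W hW f hf
  haveI := preservesFiniteLimits_Psi2 Λ W
  haveI := preservesFiniteColimits_Psi2 Λ hW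
  haveI := preservesEpi_Psi2 Λ hW
  have hex : (S.map (Psi2 Λ W)).Exact := hS.map (Psi2 Λ W)
  haveI : Epi (S.map (Psi2 Λ W)).g := by
    show Epi ((Psi2 Λ W).map S.g)
    infer_instance
  refine dcf_of_coker f (S.map (Psi2 Λ W)).f.hom (S.map (Psi2 Λ W)).g.hom
    ((ModuleCat.epi_iff_surjective _).mp inferInstance)
    (fun k => (S.map (Psi2 Λ W)).moduleCat_zero_apply k)
    ((S.map (Psi2 Λ W)).moduleCat_exact_iff.mp hex)
    (dcf_sections_of_isDCSheaf Λ I S.X₁ h1 W f hf) (dcf_sections_of_isDCSheaf Λ I S.X₂ h2 W f hf)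

lemma isDCSheaf_X₂ (S : ShortComplex (EtModW.ModP Λ X)) (hS : S.ShortExact)
    (h1 : ProEtDC.IsDCSheaf Λ I S.X₁) (h3 : ProEtDC.IsDCSheaf Λ I S.X₃) :
    ProEtDC.IsDCSheaf Λ I S.X₂ := by
  apply isDCSheaf_of_wc
  intro W hW f hf
  haveI := preservesFiniteLimits_Psi2 Λ W
  haveI := preservesFiniteColimits_Psi2 Λ hW
  haveI := preservesEpi_Psi2 Λ hW
  haveI := hS.mono_f
  haveI := hS.epi_g
  have hex : (S.map (Psi2 Λ W)).Exact := hS.exact.map (Psi2 Λ W)
  haveI : Epi (S.map (Psi2 Λ W)).g := by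
    show Epi ((Psi2 Λ W).map S.g)
    infer_instance
  haveI : Mono (S.map (Psi2 Λ W)).f := by
    show Mono ((Psi2 Λ W).map S.f)
    infer_instance
  refine dcf_of_ext f (S.map (Psi2 Λ W)).f.hom (S.map (Psi2 Λ W)).g.hom
    ((ModuleCat.mono_iff_injective _).mp inferInstance)
    ((ModuleCat.epi_iff_surjective _).mp inferInstance)
    ((S.map (Psi2 Λ W)).moduleCat_exact_iff.mp hex)
    (dcf_sections_of_isDCSheaf Λ I S.X₁ h1 W f hf) (dcf_sections_of_isDCSheaf Λ I S.X₃ h3 W f hf)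

theorem isDCSheaf_limit (D : ℕᵒᵖ ⥤ EtModW.ModP Λ X)
    (hD : ∀ n : ℕ, ProEtDC.IsDCSheaf Λ I (D.obj (op n))) :
    ProEtDC.IsDCSheaf Λ I (limit D) := by
  apply isDCSheaf_of_wc
  intro W _ f hf
  haveI := (adjU2 Λ W).rightAdjoint_preservesLimits
  have hc : IsLimit ((Psi2 Λ W).mapCone (limit.cone D)) :=
    isLimitOfPreserves (Psi2 Λ W) (limit.isLimit D)
  exact dcf_of_isLimit f (D ⋙ Psi2 Λ W) _ hc
    (fun n => dcf_sections_of_isDCSheaf Λ I (D.obj (op n)) (hD n) W f hf)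

end Closure

section Const

lemma smulHom_constantSheaf_eq_zero (M : ModuleCat.{u + 1} Λ) (a : Λ) (ha : ∀ m : M, a • m = 0) :
    ProEtDC.smulHom Λ
      ((constantSheaf (Scheme.ProEt.topology X) (ModuleCat.{u + 1} Λ)).obj M) a = 0 := by
  apply Sheaf.hom_ext
  refine sheafify_hom_ext (Scheme.ProEt.topology X) (P := (Functor.const _).obj M) _ _
    ((constantSheaf (Scheme.ProEt.topology X) (ModuleCat.{u + 1} Λ)).obj M).property ?_
  ext V m
  show a • ((toSheafify (Scheme.ProEt.topology X) ((Functor.const _).obj M)).app V).hom m = 0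
  rw [← map_smul, ha, map_zero]

theorem isDCSheaf_constantSheaf_of_pow (I : Ideal Λ) (M : ModuleCat.{u + 1} Λ) (k : ℕ)
    (hM : ∀ a ∈ I ^ k, ∀ m : M, a • m = 0) :
    ProEtDC.IsDCSheaf Λ I
      ((constantSheaf (Scheme.ProEt.topology X) (ModuleCat.{u + 1} Λ)).obj M) := by
  apply isDCSheaf_of_wc
  intro W _ f hf
  apply dcf_of_pow_smul_eq_zero f k
  intro s
  have h0 := smulHom_constantSheaf_eq_zero (X := X) Λ M (f ^ k) (hM _ (Ideal.pow_mem_pow hf k))
  have h1 := congrArg (fun φ => (φ.hom.app (op W)).hom s) h0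
  exact h1

end Const

end H9FE.ProEtDC
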