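import Mathlib
import Groth.Prelude.Def_EtModW
import Groth.Prelude.Def_ARSys
import Groth.Agent.Lib.Helper9.FE.ProEtDC6
import Groth.Agent.Lib.Helper9.FE.AdicAlg
import Groth.Agent.Lib.Helper9.FE.AdicCat
/-! helper9: adic towers of sheaves of `Λ`-modules on the pro-etale site (`I` finitely generated): the sections over a
weakly contractible object form an adic system of modules, the limit maps onto each term with kernel `I^{n+1}` times the
limit, so each projection from the limit is a quotient map modulo `I^{n+1}` (S14009 after pulling back). -/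

universe u

set_option autoImplicit false
set_option linter.unusedSectionVars false
set_option linter.style.haveILetI false
set_option backward.isDefEq.respectTransparency false

open CategoryTheory CategoryTheory.Limits AlgebraicGeometry Opposite

namespace H9FE.Adic

open H9FE.ProEtDC

variable {X : Scheme.{u}} (Λ : Type (u + 1)) [CommRing Λ]

lemma epi_of_wc_surj {Z Y : EtModW.ModP Λ X} (g : Z ⟶ Y)
    (h : ∀ W : X.ProEt, ProEtS.IsWC W → Function.Surjective (g.hom.app (op W)).hom) : Epi g := by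
  apply Preadditive.epi_of_cancel_zero
  intro T f hf
  apply hom_eq_zero_of_wc
  intro W hW t
  obtain ⟨s, rfl⟩ := h W hW t
  have h1 := congrArg (fun ψ : Z ⟶ T => (ψ.hom.app (op W)).hom s) hf
  exact h1

lemma Psi2_map_smul (W : X.ProEt) {Y Y' : EtModW.ModP Λ X} (a : Λ) (φ : Y ⟶ Y') :
    (Psi2 Λ W).map (a • φ) = a • (Psi2 Λ W).map φ := rfl

instance additive_Psi2 (W : X.ProEt) : (Psi2 Λ W).Additive where
  map_add := rfl

theorem adicMod_sections {I : Ideal Λ} (hI : I.FG) {Fs : ARSys.PS (EtModW.ModP Λ X)}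
    (hF : ARSys.IsAdic I Fs) {W : X.ProEt} (hW : ProEtS.IsWC W) :
    AdicMod (Fs ⋙ Psi2 Λ W) I where
  surj m := by
    haveI : Epi (ARSys.tr Fs (Nat.le_succ m)) := epi_of_isQuot (hF.2 m (m + 1) (Nat.le_succ m))
    exact surj_of_epi_of_isWC Λ (ARSys.tr Fs (Nat.le_succ m)) hW
  ker m x hx := by
    obtain ⟨s, h, hJ⟩ := Submodule.fg_iff_exists_fin_generating_family.mp (hI.pow (n := m + 1))
    have hJ' : Ideal.span (Set.range h) = I ^ (m + 1) := hJ
    have hq := hF.2 m (m + 1) (Nat.le_succ m)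
    rw [← hJ'] at hq ⊢
    haveI := preservesFiniteLimits_Psi2 Λ W
    haveI := preservesFiniteColimits_Psi2 Λ hW
    exact mem_smul_top_of_map_eq_zero (Psi2 Λ W) (Psi2_map_smul Λ W) h hq x hx
  kill m a ha x := by
    have h1 := hF.1 m a ha
    have h2 := congrArg (fun ψ : Fs.obj (op m) ⟶ Fs.obj (op m) => (ψ.hom.app (op W)).hom x) h1
    exact h2

theorem isQuot_limit_π {I : Ideal Λ} (hI : I.FG) {Fs : ARSys.PS (EtModW.ModP Λ X)}
    (hF : ARSys.IsAdic I Fs) (c : Cone Fs) (hc : IsLimit c) (n : ℕ) :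
    ARSys.IsQuot (I ^ (n + 1)) (c.π.app (op n)) := by
  have hlim : ∀ W : X.ProEt, IsLimit ((Psi2 Λ W).mapCone c) := fun W => by
    haveI := (adj2 Λ W).rightAdjoint_preservesLimits
    exact isLimitOfPreserves (Psi2 Λ W) hc
  haveI hepi : Epi (c.π.app (op n)) := by
    apply epi_of_wc_surj
    intro W hW
    exact pr_surjective (hlim W) (adicMod_sections Λ hI hF hW).surj n
  refine ⟨hF.1 n, ?_⟩
  intro Y φ hφ
  have hker : kernel.ι (c.π.app (op n)) ≫ φ = 0 := by
    apply hom_eq_zero_of_wc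
    intro W hW s
    have hx0 : pr ((Psi2 Λ W).mapCone c) n
        (((kernel.ι (c.π.app (op n))).hom.app (op W)).hom s) = 0 := by
      have h1 := congrArg (fun ψ : kernel (c.π.app (op n)) ⟶ Fs.obj (op n) =>
        (ψ.hom.app (op W)).hom s) (kernel.condition (c.π.app (op n)))
      exact h1
    have hx := mem_smul_top_of_pr_eq_zero (hlim W) (adicMod_sections Λ hI hF hW) hI n _ hx0
    show (φ.hom.app (op W)).hom (((kernel.ι (c.π.app (op n))).hom.app (op W)).hom s) = 0
    refine map_eq_zero_of_mem_smul_top' _ _ (fun a ha m => ?_) _ hx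
    have h2 := congrArg (fun ψ : c.pt ⟶ Y => (ψ.hom.app (op W)).hom m) (hφ a ha)
    exact h2
  refine ⟨Abelian.epiDesc _ φ hker, Abelian.comp_epiDesc _ φ hker, ?_⟩
  intro ψ₂ hψ₂
  have hψ₃ : c.π.app (op n) ≫ ψ₂ = φ := hψ₂
  rw [← cancel_epi (c.π.app (op n)), hψ₃, Abelian.comp_epiDesc]

end H9FE.Adic
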