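import Mathlib
import Groth.Prelude.Def_ProEtS
import Groth.Agent.Lib.Helper9.FE.ProEtQc
import Groth.Agent.Lib.Helper9.FE.ProEtE1
import Groth.Agent.S0729
import Groth.Agent.S14453

/-! helper9: the comparison functor from the small étale site to the small pro-étale site:
flatness, points of coverings and fibre products, open subobjects; the unit of the adjunction
between pullback and restriction of abelian sheaves is injective on sections. -/

set_option autoImplicit false
set_option linter.unusedSectionVars false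
set_option linter.style.haveILetI false
set_option backward.isDefEq.respectTransparency false
universe u
open CategoryTheory Limits Opposite AlgebraicGeometry

namespace H9FE.ProEtE

open H9FE.ProEtQc Groth.Agent.S14453.Aux

variable {X : Scheme.{u}}

instance preservesFiniteLimits_eps : PreservesFiniteLimits (ProEtS.eps X) := by
  have h : PreservesFiniteLimits (ProEtS.eps X ⋙ Scheme.ProEt.forget X) := by
    change PreservesFiniteLimits (Scheme.Etale.forget X)
    infer_instance
  exact preservesFiniteLimits_of_reflects_of_preserves (ProEtS.eps X) (Scheme.ProEt.forget X)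

instance flat_eps : RepresentablyFlat (ProEtS.eps X) := flat_of_preservesFiniteLimits _

/-- covering sieves of the small pro-étale site are jointly surjective -/
lemma exists_mem_range_of_mem (V : X.ProEt) (T : Sieve V)
    (hT : T ∈ Scheme.ProEt.topology X V) (v : V.left) :
    ∃ (W : X.ProEt) (g : W ⟶ V), T g ∧ v ∈ Set.range g.left := by
  rw [Precoverage.mem_toGrothendieck_iff_of_isStableUnderComposition] at hT
  obtain ⟨R, hR, hle⟩ := hT
  have h1 : R.map (toSch X) ∈ Scheme.propQCPrecoverage @WeaklyEtale V.left := hR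
  rw [Scheme.mem_propQCPrecoverage_iff_exists_quasiCompactCover] at h1
  obtain ⟨𝒰, h𝒰, hR𝒰⟩ := h1
  obtain ⟨i, y, hy⟩ := 𝒰.exists_eq v
  have h2 : (R.map (toSch X)) (𝒰.f i) := by
    rw [hR𝒰]
    exact Presieve.ofArrows.mk i
  obtain ⟨Z, hZ, g, hRg, hg⟩ := Presieve.map_iff.1 h2
  refine ⟨Z, g, hle _ _ hRg, ?_⟩
  have hv : v ∈ 𝒰.f i '' ((⊤ : (𝒰.X i).Opens) : Set (𝒰.X i)) := ⟨y, trivial, hy⟩
  rw [← image_eqToHom hZ] at hv
  obtain ⟨x, -, hxv⟩ := hv
  rw [← hg] at hxv
  exact ⟨x, hxv⟩

/-- points of fibre products in the small pro-étale site -/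
lemma exists_preimage_pullback {A B C : X.ProEt} (f : A ⟶ C) (g : B ⟶ C) (x : A.left)
    (y : B.left) (h : f.left x = g.left y) :
    ∃ z : (pullback f g).left,
      (pullback.fst f g).left z = x ∧ (pullback.snd f g).left z = y := by
  obtain ⟨z, hz1, hz2⟩ := Scheme.Pullback.exists_preimage_pullback x y h
  refine ⟨(pullbackLeftIso f g).inv z, ?_, ?_⟩
  · have h1 : (pullbackLeftIso f g).inv ≫ (pullback.fst f g).left = pullback.fst f.left g.left :=
      PreservesPullback.iso_inv_fst (toSch X) f g
    rw [← Scheme.Hom.comp_apply, h1]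
    exact hz1
  · have h1 : (pullbackLeftIso f g).inv ≫ (pullback.snd f g).left = pullback.snd f.left g.left :=
      PreservesPullback.iso_inv_snd (toSch X) f g
    rw [← Scheme.Hom.comp_apply, h1]
    exact hz2

/-- lifting through an open subobject -/
lemma exists_lift_opObj {Y : X.ProEt} {T : X.Etale} (O : T.left.Opens)
    (m : Y ⟶ (ProEtS.eps X).obj T) (h : ∀ y : Y.left, (m.left y : T.left) ∈ O) :
    ∃ m' : Y ⟶ (ProEtS.eps X).obj (opObj T O), m' ≫ (ProEtS.eps X).map (opι T O) = m := by
  let l : Y.left ⟶ (O : Scheme.{u}) := IsOpenImmersion.lift O.ι m.left (by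
    rintro _ ⟨y, rfl⟩
    rw [Scheme.Opens.range_ι]
    exact h y)
  have hl : l ≫ O.ι = m.left := IsOpenImmersion.lift_fac _ _ _
  refine ⟨MorphismProperty.Over.homMk l ?_ trivial, ?_⟩
  · show l ≫ (O.ι ≫ T.hom) = Y.hom
    rw [← Category.assoc, hl]
    exact MorphismProperty.Over.w m
  · apply MorphismProperty.Over.Hom.ext
    exact hl

lemma exists_lift_opObj_et {W' T : X.Etale} (O : T.left.Opens) (c : W' ⟶ T)
    (h : ∀ w : W'.left, c.left w ∈ O) : ∃ d : W' ⟶ opObj T O, d ≫ opι T O = c := by
  let l : W'.left ⟶ (O : Scheme.{u}) := IsOpenImmersion.lift O.ι c.left (by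
    rintro _ ⟨y, rfl⟩
    rw [Scheme.Opens.range_ι]
    exact h y)
  have hl : l ≫ O.ι = c.left := IsOpenImmersion.lift_fac _ _ _
  refine ⟨MorphismProperty.Over.homMk l ?_ trivial, ?_⟩
  · show l ≫ (O.ι ≫ T.hom) = W'.hom
    rw [← Category.assoc, hl]
    exact MorphismProperty.Over.w c
  · apply MorphismProperty.Over.Hom.ext
    exact hl

/-! ### the pullback presheaf and its sheafification -/

section Sheaf

variable (F : X.Etaleᵒᵖ ⥤ AddCommGrpCat.{u + 1})

/-- the presheaf pullback -/
noncomputable abbrev lanP : X.ProEtᵒᵖ ⥤ AddCommGrpCat.{u + 1} := (ProEtS.eps X).op.lan.obj F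

/-- its sheafification -/
noncomputable abbrev shP : X.ProEtᵒᵖ ⥤ AddCommGrpCat.{u + 1} :=
  sheafify (Scheme.ProEt.topology X) (lanP F)

noncomputable abbrev toSh : lanP F ⟶ shP F := toSheafify (Scheme.ProEt.topology X) (lanP F)

lemma toSh_map {V V' : X.ProEt} (c : V' ⟶ V) (ρ : (lanP F).obj (op V)) :
    (toSh F).app (op V') ((lanP F).map c.op ρ) = (shP F).map c.op ((toSh F).app (op V) ρ) :=
  NatTrans.naturality_apply (toSh F) c.op ρ

lemma toSh_elt {V V' : X.ProEt} {W : X.Etale} (c : V' ⟶ V) (b : V ⟶ (ProEtS.eps X).obj W)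
    (r : F.obj (op W)) :
    (toSh F).app (op V') (elt (ProEtS.eps X) F (c ≫ b) r) =
      (shP F).map c.op ((toSh F).app (op V) (elt (ProEtS.eps X) F b r)) := by
  rw [← map_elt, toSh_map]

lemma shP_isSheaf : Presieve.IsSheaf (Scheme.ProEt.topology X)
    (shP F ⋙ forget AddCommGrpCat.{u + 1}) :=
  (isSheaf_iff_isSheaf_of_type _ _).mp
    ((Presheaf.isSheaf_iff_isSheaf_forget _ _ (forget AddCommGrpCat.{u + 1})).mp
      ((presheafToSheaf (Scheme.ProEt.topology X) AddCommGrpCat.{u + 1}).obj (lanP F)).property)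

lemma shP_map_comp {V V' V'' : X.ProEt} (c : V'' ⟶ V') (d : V' ⟶ V) (t : (shP F).obj (op V)) :
    (shP F).map (c ≫ d).op t = (shP F).map c.op ((shP F).map d.op t) := by
  rw [op_comp, CategoryTheory.Functor.map_comp_apply]

/-- the unit is injective on sections -/
theorem unit_injective
    (hF : Presieve.IsSheaf X.smallEtaleTopology (F ⋙ forget AddCommGrpCat.{u + 1}))
    (U : X.Etale) (s s' : F.obj (op U))
    (h : (toSh F).app (op ((ProEtS.eps X).obj U)) (elt (ProEtS.eps X) F (𝟙 _) s) =
      (toSh F).app (op ((ProEtS.eps X).obj U)) (elt (ProEtS.eps X) F (𝟙 _) s')) : s = s' := by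
  have hS := Presheaf.equalizerSieve_mem (Scheme.ProEt.topology X) (toSh F)
    (X := op ((ProEtS.eps X).obj U)) _ _ h
  have hR : Presheaf.equalizerSieve (F := F) (X := op U) s s' ∈ X.smallEtaleTopology U := by
    rw [mem_et_iff]
    intro x
    obtain ⟨V, f, hf, v, hv⟩ := exists_mem_range_of_mem ((ProEtS.eps X).obj U) _ hS x
    have h1 : elt (ProEtS.eps X) F f s = elt (ProEtS.eps X) F f s' := by
      have h2 : (lanP F).map f.op (elt (ProEtS.eps X) F (𝟙 _) s) =
          (lanP F).map f.op (elt (ProEtS.eps X) F (𝟙 _) s') := hf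
      rw [map_elt, map_elt, Category.comp_id] at h2
      exact h2
    obtain ⟨W', b', c, hbc, hc⟩ := exists_refinement_same (ProEtS.eps X) F f s s' h1
    refine ⟨W', c, b'.left v, hc, inferInstance, ?_⟩
    have h3 : b'.left ≫ c.left = f.left := congrArg (fun φ => φ.left) hbc
    rw [← hv, ← h3]
    rfl
  exact (hF.isSeparated _ hR).ext (fun W g hg => hg)

end Sheaf

/-! ### identification of the unit -/

section Unit

variable (X) [ProEtS.EpsCont X]

/-- the adjunction constructed from the left Kan extension -/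
noncomputable abbrev adj₂ :=
  Functor.sheafPullbackConstruction.sheafAdjunctionContinuous (ProEtS.eps X)
    AddCommGrpCat.{u + 1} X.smallEtaleTopology (Scheme.ProEt.topology X)

variable {X}

lemma unit_app_apply (F : EtCoh.Ab X) (U : X.Etale) (s : F.obj.obj (op U)) :
    ((adj₂ X).unit.app F).hom.app (op U) s =
      (toSh F.obj).app (op ((ProEtS.eps X).obj U)) (elt (ProEtS.eps X) F.obj (𝟙 _) s) := by
  have h : (sheafToPresheaf _ _).map ((adj₂ X).unit.app F) = _ :=
    Adjunction.map_restrictFullyFaithful_unit_app _ _ _ _ _ F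
  have h' := congrArg (fun φ => φ.app (op U)) h
  simp at h'
  rw [h', ConcreteCategory.comp_apply, elt_id]
  rfl

end Unit

end H9FE.ProEtE
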