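import Mathlib
import Groth.Prelude.Def_ProEtS
import Groth.Prelude.Def_EtModW
import Groth.Agent.Lib.Helper9.FE.ProEtE2
import Groth.Agent.Lib.Helper9.FE.ProEtM1

/-! helper9: module version of `ProEtE2`: the unit of the adjunction between pullback and restriction of sheaves of
modules (étale to pro-étale) is injective on sections. -/

set_option autoImplicit false
set_option linter.unusedSectionVars false
set_option linter.style.haveILetI false
set_option backward.isDefEq.respectTransparency false
universe u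
open CategoryTheory Limits Opposite AlgebraicGeometry

namespace H9FE.ProEtM

open H9FE.ProEtQc Groth.Agent.S14453.Aux

variable {X : Scheme.{u}}

/-! ### the pullback presheaf and its sheafification -/

section Sheaf

variable {Λ : Type (u + 1)} [CommRing Λ] (F : X.Etaleᵒᵖ ⥤ (ModuleCat.{u + 1} Λ))

/-- the presheaf pullback -/
noncomputable abbrev lanP : X.ProEtᵒᵖ ⥤ (ModuleCat.{u + 1} Λ) := (ProEtS.eps X).op.lan.obj F

/-- its sheafification -/
noncomputable abbrev shP : X.ProEtᵒᵖ ⥤ (ModuleCat.{u + 1} Λ) :=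
  sheafify (Scheme.ProEt.topology X) (lanP F)

noncomputable abbrev toSh : lanP F ⟶ shP F := toSheafify (Scheme.ProEt.topology X) (lanP F)

lemma toSh_map {V V' : X.ProEt} (c : V' ⟶ V) (ρ : (lanP F).obj (op V)) :
    (toSh F).app (op V') ((lanP F).map c.op ρ) = (shP F).map c.op ((toSh F).app (op V) ρ) :=
  NatTrans.naturality_apply (toSh F) c.op ρ

lemma toSh_elt {V V' : X.ProEt} {W : X.Etale} (c : V' ⟶ V) (b : V ⟶ (ProEtS.eps X).obj W)
    (r : F.obj (op W)) :
    (toSh F).app (op V') (elt (ProEtS.eps X) F (c ≫ b) r) =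
      (shP F).map c.op ((toSh F).app (op V) (elt (ProEtS.eps X) F b r)) := by
  rw [← map_elt, toSh_map]

lemma shP_isSheaf : Presieve.IsSheaf (Scheme.ProEt.topology X)
    (shP F ⋙ forget (ModuleCat.{u + 1} Λ)) :=
  (isSheaf_iff_isSheaf_of_type _ _).mp
    ((Presheaf.isSheaf_iff_isSheaf_forget _ _ (forget (ModuleCat.{u + 1} Λ))).mp
      ((presheafToSheaf (Scheme.ProEt.topology X) (ModuleCat.{u + 1} Λ)).obj (lanP F)).property)

lemma shP_map_comp {V V' V'' : X.ProEt} (c : V'' ⟶ V') (d : V' ⟶ V) (t : (shP F).obj (op V)) :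
    (shP F).map (c ≫ d).op t = (shP F).map c.op ((shP F).map d.op t) := by
  rw [op_comp, CategoryTheory.Functor.map_comp_apply]

/-- the unit is injective on sections -/
theorem unit_injective
    (hF : Presieve.IsSheaf X.smallEtaleTopology (F ⋙ forget (ModuleCat.{u + 1} Λ)))
    (U : X.Etale) (s s' : F.obj (op U))
    (h : (toSh F).app (op ((ProEtS.eps X).obj U)) (elt (ProEtS.eps X) F (𝟙 _) s) =
      (toSh F).app (op ((ProEtS.eps X).obj U)) (elt (ProEtS.eps X) F (𝟙 _) s')) : s = s' := by
  have hS := Presheaf.equalizerSieve_mem (Scheme.ProEt.topology X) (toSh F)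
    (X := op ((ProEtS.eps X).obj U)) _ _ h
  have hR : Presheaf.equalizerSieve (F := F) (X := op U) s s' ∈ X.smallEtaleTopology U := by
    rw [mem_et_iff]
    intro x
    obtain ⟨V, f, hf, v, hv⟩ := ProEtE.exists_mem_range_of_mem ((ProEtS.eps X).obj U) _ hS x
    have h1 : elt (ProEtS.eps X) F f s = elt (ProEtS.eps X) F f s' := by
      have h2 : (lanP F).map f.op (elt (ProEtS.eps X) F (𝟙 _) s) =
          (lanP F).map f.op (elt (ProEtS.eps X) F (𝟙 _) s') := hf
      rw [map_elt, map_elt, Category.comp_id] at h2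
      exact h2
    obtain ⟨W', b', c, hbc, hc⟩ := exists_refinement_same (ProEtS.eps X) F f s s' h1
    refine ⟨W', c, b'.left v, hc, inferInstance, ?_⟩
    have h3 : b'.left ≫ c.left = f.left := congrArg (fun φ => φ.left) hbc
    rw [← hv, ← h3]
    rfl
  exact (hF.isSeparated _ hR).ext (fun W g hg => hg)

end Sheaf

/-! ### identification of the unit -/

section Unit

variable (Λ : Type (u + 1)) [CommRing Λ] (X) [ProEtS.EpsCont X]

/-- the adjunction constructed from the left Kan extension -/
noncomputable abbrev adj₂ :=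
  Functor.sheafPullbackConstruction.sheafAdjunctionContinuous (ProEtS.eps X)
    (ModuleCat.{u + 1} Λ) X.smallEtaleTopology (Scheme.ProEt.topology X)

variable {X}

lemma unit_app_apply (F : EtModW.Mod Λ X) (U : X.Etale) (s : F.obj.obj (op U)) :
    ((adj₂ X Λ).unit.app F).hom.app (op U) s =
      (toSh F.obj).app (op ((ProEtS.eps X).obj U)) (elt (ProEtS.eps X) F.obj (𝟙 _) s) := by
  have h : (sheafToPresheaf _ _).map ((adj₂ X Λ).unit.app F) = _ :=
    Adjunction.map_restrictFullyFaithful_unit_app _ _ _ _ _ F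
  have h' := congrArg (fun φ => φ.app (op U)) h
  simp at h'
  rw [h', ConcreteCategory.comp_apply, elt_id]
  rfl

end Unit

end H9FE.ProEtM
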