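import Mathlib
import Groth.Prelude.Def_ProEtS
import Groth.Agent.Lib.Helper9.FE.ProEtE3
import Groth.Agent.Lib.Helper9.FE.ProEtM2

/-! helper9: module version of `ProEtE3`: charts for sections of the pullback of an étale sheaf of modules to the
pro-étale site; two charts agree on an open part of the fibre product containing the images. -/

set_option autoImplicit false
set_option linter.unusedSectionVars false
set_option linter.style.haveILetI false
set_option backward.isDefEq.respectTransparency false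
universe u
open CategoryTheory Limits Opposite AlgebraicGeometry

namespace H9FE.ProEtM

open H9FE.ProEtQc Groth.Agent.S14453.Aux

variable {X : Scheme.{u}} {Λ : Type (u + 1)} [CommRing Λ] (F : X.Etaleᵒᵖ ⥤ (ModuleCat.{u + 1} Λ))

/-- a chart for a section `t` of the sheafified pullback over `U`: an affine étale `W` over `U`
through which `g` factors, and a section of `F` over `W` inducing `t` -/
structure Chart (U : X.Etale) (t : (shP F).obj (op ((ProEtS.eps X).obj U))) {V : X.ProEt}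
    (g : V ⟶ (ProEtS.eps X).obj U) where
  W : X.Etale
  aff : IsAffine W.left
  a : W ⟶ U
  b : V ⟶ (ProEtS.eps X).obj W
  r : F.obj (op W)
  fac : b ≫ (ProEtS.eps X).map a = g
  eq : (toSh F).app (op V) (elt (ProEtS.eps X) F b r) = (shP F).map g.op t

variable {F}

/-- the sieve of morphisms admitting a chart -/
def chartSieve (U : X.Etale) (t : (shP F).obj (op ((ProEtS.eps X).obj U))) :
    Sieve ((ProEtS.eps X).obj U) where
  arrows V g := Nonempty (Chart F U t g)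
  downward_closed := by
    rintro V V' g ⟨c⟩ h
    exact ⟨{ W := c.W, aff := c.aff, a := c.a, b := h ≫ c.b, r := c.r,
             fac := by rw [Category.assoc, c.fac],
             eq := by rw [toSh_elt, c.eq, shP_map_comp] }⟩

lemma chartSieve_mem (U : X.Etale) (t : (shP F).obj (op ((ProEtS.eps X).obj U))) :
    chartSieve U t ∈ Scheme.ProEt.topology X ((ProEtS.eps X).obj U) := by
  refine (Scheme.ProEt.topology X).transitive
    (Presheaf.imageSieve_mem (Scheme.ProEt.topology X) (toSh F)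
      (U := op ((ProEtS.eps X).obj U)) t) _ ?_
  intro V g hg
  obtain ⟨ρ, hρ⟩ := hg
  obtain ⟨W₀, b₀, r₀, rfl⟩ := exists_rep (ProEtS.eps X) F V ρ
  obtain ⟨W₁, b₁, a₁₀, a₁, h10, h1⟩ := ProEtE.exists_min (ProEtS.eps X) b₀ g
  have hS' : ((ProEtE.affSieve W₁).functorPushforward (ProEtS.eps X)).pullback b₁ ∈
      Scheme.ProEt.topology X V :=
    (Scheme.ProEt.topology X).pullback_stable b₁
      ((Groth.Agent.S0729.coverPreserving X).cover_preserve (ProEtE.affSieve_mem W₁))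
  refine (Scheme.ProEt.topology X).superset_covering ?_ hS'
  intro V' f hf
  obtain ⟨W', a', b', ⟨W'', c, a'', haff, rfl⟩, hfac⟩ := hf
  have hb : (b' ≫ (ProEtS.eps X).map c) ≫ (ProEtS.eps X).map a'' = f ≫ b₁ := by
    rw [Category.assoc, ← Functor.map_comp]
    exact hfac.symm
  refine ⟨{ W := W'', aff := haff, a := a'' ≫ a₁, b := b' ≫ (ProEtS.eps X).map c,
            r := F.map (a'' ≫ a₁₀).op r₀, fac := ?_, eq := ?_ }⟩
  · rw [Functor.map_comp, ← Category.assoc, hb, Category.assoc, h1]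
  · rw [← elt_comp, Functor.map_comp, ← Category.assoc, hb, Category.assoc, h10, toSh_elt, hρ,
      shP_map_comp]

variable {U : X.Etale} {t : (shP F).obj (op ((ProEtS.eps X).obj U))} {V₁ V₂ : X.ProEt}
  {g₁ : V₁ ⟶ (ProEtS.eps X).obj U} {g₂ : V₂ ⟶ (ProEtS.eps X).obj U}

/-- near a point of the fibre product of two charts lying over the images of both, the two
sections agree -/
lemma pair_lemma (c₁ : Chart F U t g₁) (c₂ : Chart F U t g₂) (p : (pullback c₁.a c₂.a).left)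
    (h₁ : (pullback.fst c₁.a c₂.a).left p ∈ Set.range c₁.b.left)
    (h₂ : (pullback.snd c₁.a c₂.a).left p ∈ Set.range c₂.b.left) :
    ∃ (W' : X.Etale) (c : W' ⟶ pullback c₁.a c₂.a), p ∈ Set.range c.left ∧
      F.map (c ≫ pullback.fst c₁.a c₂.a).op c₁.r =
        F.map (c ≫ pullback.snd c₁.a c₂.a).op c₂.r := by
  obtain ⟨v₁, hv₁⟩ := h₁
  obtain ⟨v₂, hv₂⟩ := h₂
  have hq : pullback.fst c₁.a c₂.a ≫ c₁.a = pullback.snd c₁.a c₂.a ≫ c₂.a := pullback.condition
  obtain ⟨m₁, hm₁a, hm₁b⟩ := ProEtE.exists_preimage_pullback c₁.b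
    ((ProEtS.eps X).map (pullback.fst c₁.a c₂.a)) v₁ p hv₁
  obtain ⟨s₁, hs₁⟩ : ∃ s, s = pullback.snd c₁.b
    ((ProEtS.eps X).map (pullback.fst c₁.a c₂.a)) := ⟨_, rfl⟩
  obtain ⟨f₁, hf₁⟩ : ∃ s, s = pullback.fst c₁.b
    ((ProEtS.eps X).map (pullback.fst c₁.a c₂.a)) := ⟨_, rfl⟩
  have hcond₁ : f₁ ≫ c₁.b = s₁ ≫ (ProEtS.eps X).map (pullback.fst c₁.a c₂.a) := by
    rw [hs₁, hf₁]
    exact pullback.condition
  rw [← hf₁] at hm₁a
  rw [← hs₁] at hm₁b
  obtain ⟨k, hk⟩ : ∃ k', k' = s₁ ≫ (ProEtS.eps X).map (pullback.snd c₁.a c₂.a) := ⟨_, rfl⟩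
  have hkm : k.left m₁ = c₂.b.left v₂ := by
    rw [hk]
    show (pullback.snd c₁.a c₂.a).left (s₁.left m₁) = _
    rw [hm₁b, hv₂]
  obtain ⟨z, hza, hzb⟩ := ProEtE.exists_preimage_pullback k c₂.b m₁ v₂ hkm
  obtain ⟨f₂, hf₂⟩ : ∃ s, s = pullback.fst k c₂.b := ⟨_, rfl⟩
  obtain ⟨pr₂, hpr₂⟩ : ∃ s, s = pullback.snd k c₂.b := ⟨_, rfl⟩
  have hcond₂ : f₂ ≫ k = pr₂ ≫ c₂.b := by
    rw [hf₂, hpr₂]
    exact pullback.condition
  rw [← hf₂] at hza
  obtain ⟨m, hm⟩ : ∃ m' : pullback k c₂.b ⟶ (ProEtS.eps X).obj (pullback c₁.a c₂.a),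
    m' = f₂ ≫ s₁ := ⟨_, rfl⟩
  obtain ⟨pr₁, hpr₁⟩ : ∃ m' : pullback k c₂.b ⟶ V₁, m' = f₂ ≫ f₁ := ⟨_, rfl⟩
  have hmz : m.left z = p := by
    rw [hm]
    show s₁.left (f₂.left z) = p
    rw [hza, hm₁b]
  have e₁ : pr₁ ≫ c₁.b = m ≫ (ProEtS.eps X).map (pullback.fst c₁.a c₂.a) := by
    rw [hpr₁, hm, Category.assoc, Category.assoc, hcond₁]
  have e₂ : pr₂ ≫ c₂.b = m ≫ (ProEtS.eps X).map (pullback.snd c₁.a c₂.a) := by
    rw [← hcond₂, hm, Category.assoc]
    exact congrArg (fun φ => f₂ ≫ φ) hk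
  have e₁₂ : pr₁ ≫ g₁ = pr₂ ≫ g₂ := by
    have h1 : pr₁ ≫ g₁ = (pr₁ ≫ c₁.b) ≫ (ProEtS.eps X).map c₁.a :=
      (congrArg (fun φ => pr₁ ≫ φ) c₁.fac.symm).trans (Category.assoc _ _ _).symm
    have h2 : pr₂ ≫ g₂ = (pr₂ ≫ c₂.b) ≫ (ProEtS.eps X).map c₂.a :=
      (congrArg (fun φ => pr₂ ≫ φ) c₂.fac.symm).trans (Category.assoc _ _ _).symm
    rw [h1, h2, e₁, e₂, Category.assoc, Category.assoc, ← Functor.map_comp, ← Functor.map_comp,
      hq]
  have hts : (toSh F).app (op (pullback k c₂.b))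
        (elt (ProEtS.eps X) F m (F.map (pullback.fst c₁.a c₂.a).op c₁.r)) =
      (toSh F).app (op (pullback k c₂.b))
        (elt (ProEtS.eps X) F m (F.map (pullback.snd c₁.a c₂.a).op c₂.r)) := by
    rw [← elt_comp, ← elt_comp, ← e₁, ← e₂, toSh_elt, toSh_elt, c₁.eq, c₂.eq, ← shP_map_comp,
      ← shP_map_comp, e₁₂]
  have hE := Presheaf.equalizerSieve_mem (Scheme.ProEt.topology X) (toSh F)
    (X := op (pullback k c₂.b)) _ _ hts
  obtain ⟨Z, ζ, hζ, z', hz'⟩ := ProEtE.exists_mem_range_of_mem _ _ hE z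
  have hζ' : elt (ProEtS.eps X) F (ζ ≫ m) (F.map (pullback.fst c₁.a c₂.a).op c₁.r) =
      elt (ProEtS.eps X) F (ζ ≫ m) (F.map (pullback.snd c₁.a c₂.a).op c₂.r) := by
    have h2 : (lanP F).map ζ.op (elt (ProEtS.eps X) F m (F.map (pullback.fst c₁.a c₂.a).op c₁.r)) =
        (lanP F).map ζ.op
          (elt (ProEtS.eps X) F m (F.map (pullback.snd c₁.a c₂.a).op c₂.r)) := hζ
    rw [map_elt, map_elt] at h2
    exact h2
  obtain ⟨W', b', c, hbc, hc⟩ := exists_refinement_same (ProEtS.eps X) F (ζ ≫ m) _ _ hζ'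
  refine ⟨W', c, ⟨b'.left z', ?_⟩, ?_⟩
  · have h3 : b'.left ≫ c.left = ζ.left ≫ m.left := congrArg (fun φ => φ.left) hbc
    have h4 : c.left (b'.left z') = (b'.left ≫ c.left) z' := rfl
    rw [h4, h3]
    show m.left (ζ.left z') = p
    rw [hz', hmz]
  · rw [op_comp, op_comp, Functor.map_comp, Functor.map_comp, ConcreteCategory.comp_apply,
      ConcreteCategory.comp_apply]
    exact hc

/-- the points of the fibre product of two charts near which the two sections agree -/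
def goodSet (c₁ : Chart F U t g₁) (c₂ : Chart F U t g₂) : Set (pullback c₁.a c₂.a).left :=
  {p | ∃ (W' : X.Etale) (c : W' ⟶ pullback c₁.a c₂.a), p ∈ Set.range c.left ∧
    F.map (c ≫ pullback.fst c₁.a c₂.a).op c₁.r = F.map (c ≫ pullback.snd c₁.a c₂.a).op c₂.r}

lemma isOpen_goodSet (c₁ : Chart F U t g₁) (c₂ : Chart F U t g₂) : IsOpen (goodSet c₁ c₂) := by
  rw [isOpen_iff_forall_mem_open]
  rintro p ⟨W', c, hp, hc⟩
  exact ⟨Set.range c.left, fun p' hp' => ⟨W', c, hp', hc⟩, c.left.isOpenMap.isOpen_range, hp⟩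

/-- the open subscheme of good points -/
def goodOpen (c₁ : Chart F U t g₁) (c₂ : Chart F U t g₂) : (pullback c₁.a c₂.a).left.Opens :=
  ⟨goodSet c₁ c₂, isOpen_goodSet c₁ c₂⟩

/-- the image in the second chart of the bad points lying over the image of the first -/
def badSet (c₁ : Chart F U t g₁) (c₂ : Chart F U t g₂) : Set c₂.W.left :=
  (pullback.snd c₁.a c₂.a).left ''
    ((pullback.fst c₁.a c₂.a).left ⁻¹' (Set.range c₁.b.left) ∩ (goodSet c₁ c₂)ᶜ)

lemma not_mem_closure_badSet [IsAffine U.left] [IsAffine V₁.left] (c₁ : Chart F U t g₁)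
    (c₂ : Chart F U t g₂) (y : c₂.W.left) (hy : y ∈ Set.range c₂.b.left) :
    y ∉ closure (badSet c₁ c₂) := by
  intro hcl
  haveI := c₁.aff
  haveI := c₂.aff
  let s₁ := pullback.snd c₁.b ((ProEtS.eps X).map (pullback.fst c₁.a c₂.a))
  have hU : (ProEtS.eps X).obj U ∈ qcB X := by
    haveI : IsAffine ((ProEtS.eps X).obj U).left := ‹IsAffine U.left›
    exact mem_qcB_of_isAffine _
  have hW₁ : (ProEtS.eps X).obj c₁.W ∈ qcB X := by
    haveI : IsAffine ((ProEtS.eps X).obj c₁.W).left := c₁.aff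
    exact mem_qcB_of_isAffine _
  have hW₂ : (ProEtS.eps X).obj c₂.W ∈ qcB X := by
    haveI : IsAffine ((ProEtS.eps X).obj c₂.W).left := c₂.aff
    exact mem_qcB_of_isAffine _
  have hTq : (ProEtS.eps X).obj (pullback c₁.a c₂.a) ∈ qcB X :=
    qcB_iso (PreservesPullback.iso (ProEtS.eps X) c₁.a c₂.a).symm
      (pullback_mem_qcB _ _ hU hW₁ hW₂)
  have hM : pullback c₁.b ((ProEtS.eps X).map (pullback.fst c₁.a c₂.a)) ∈ qcB X :=
    pullback_mem_qcB _ _ hW₁ (mem_qcB_of_isAffine V₁) hTq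
  haveI : CompactSpace (pullback c₁.b ((ProEtS.eps X).map (pullback.fst c₁.a c₂.a))).left := hM.1
  let h : (pullback c₁.b ((ProEtS.eps X).map (pullback.fst c₁.a c₂.a))).left ⟶ c₂.W.left :=
    s₁.left ≫ (pullback.snd c₁.a c₂.a).left
  let C' : Set (pullback c₁.b ((ProEtS.eps X).map (pullback.fst c₁.a c₂.a))).left :=
    s₁.left ⁻¹' (goodSet c₁ c₂)ᶜ
  have hC' : IsClosed C' := (isOpen_goodSet c₁ c₂).isClosed_compl.preimage s₁.left.continuous
  have hsub : badSet c₁ c₂ ⊆ h '' C' := by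
    rintro _ ⟨p, ⟨⟨v₁, hv₁⟩, hpg⟩, rfl⟩
    obtain ⟨m₁, hm₁a, hm₁b⟩ := ProEtE.exists_preimage_pullback c₁.b
      ((ProEtS.eps X).map (pullback.fst c₁.a c₂.a)) v₁ p hv₁
    refine ⟨m₁, ?_, ?_⟩
    · show s₁.left m₁ ∈ (goodSet c₁ c₂)ᶜ
      rw [hm₁b]
      exact hpg
    · show (pullback.snd c₁.a c₂.a).left (s₁.left m₁) = (pullback.snd c₁.a c₂.a).left p
      rw [hm₁b]
  obtain ⟨c, hcC, hsp⟩ := ProEtE.exists_specializes_of_mem_closure h C' hC' y (closure_mono hsub hcl)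
  have hgen : h c ∈ Set.range c₂.b.left :=
    (Flat.generalizingMap c₂.b.left).stableUnderGeneralization_range hsp hy
  have hp₁ : (pullback.fst c₁.a c₂.a).left (s₁.left c) ∈ Set.range c₁.b.left := by
    refine ⟨(pullback.fst c₁.b ((ProEtS.eps X).map (pullback.fst c₁.a c₂.a))).left c, ?_⟩
    have h5 := congrArg (fun φ => φ.left)
      (pullback.condition (f := c₁.b) (g := (ProEtS.eps X).map (pullback.fst c₁.a c₂.a)))
    exact congrArg (fun φ : (pullback c₁.b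
      ((ProEtS.eps X).map (pullback.fst c₁.a c₂.a))).left ⟶ c₁.W.left => φ c) h5
  obtain ⟨W', c', hpc, hc'⟩ := pair_lemma c₁ c₂ (s₁.left c) hp₁ hgen
  exact hcC ⟨W', c', hpc, hc'⟩

/-- on the good open, the two sections agree -/
lemma good_eq (hF : Presieve.IsSheaf X.smallEtaleTopology (F ⋙ forget (ModuleCat.{u + 1} Λ)))
    (c₁ : Chart F U t g₁) (c₂ : Chart F U t g₂) :
    F.map (opι (pullback c₁.a c₂.a) (goodOpen c₁ c₂) ≫ pullback.fst c₁.a c₂.a).op c₁.r =
      F.map (opι (pullback c₁.a c₂.a) (goodOpen c₁ c₂) ≫ pullback.snd c₁.a c₂.a).op c₂.r := by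
  have hR : Presheaf.equalizerSieve (F := F) (X := op (opObj (pullback c₁.a c₂.a) (goodOpen c₁ c₂)))
      (F.map (opι (pullback c₁.a c₂.a) (goodOpen c₁ c₂) ≫ pullback.fst c₁.a c₂.a).op c₁.r)
      (F.map (opι (pullback c₁.a c₂.a) (goodOpen c₁ c₂) ≫ pullback.snd c₁.a c₂.a).op c₂.r) ∈
      X.smallEtaleTopology (opObj (pullback c₁.a c₂.a) (goodOpen c₁ c₂)) := by
    rw [mem_et_iff]
    rintro ⟨p, W', c, ⟨w, hw⟩, hc⟩
    obtain ⟨d, hd⟩ := ProEtE.exists_lift_opObj_et (goodOpen c₁ c₂) c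
      (fun w' => ⟨W', c, ⟨w', rfl⟩, hc⟩)
    refine ⟨W', d, w, ?_, inferInstance, ?_⟩
    · show F.map d.op (F.map (opι (pullback c₁.a c₂.a) (goodOpen c₁ c₂) ≫
          pullback.fst c₁.a c₂.a).op c₁.r) =
        F.map d.op (F.map (opι (pullback c₁.a c₂.a) (goodOpen c₁ c₂) ≫
          pullback.snd c₁.a c₂.a).op c₂.r)
      rw [← Functor.map_comp_apply, ← Functor.map_comp_apply, ← op_comp, ← op_comp,
        ← Category.assoc, ← Category.assoc, hd]
      exact hc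
    · apply Subtype.ext
      have h6 : (d ≫ opι (pullback c₁.a c₂.a) (goodOpen c₁ c₂)).left w = c.left w := by rw [hd]
      exact h6.trans hw
  exact (hF.isSeparated _ hR).ext (fun W g hg => hg)

end H9FE.ProEtM
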