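import Mathlib
import Groth.Prelude.Def_ProEtS
import Groth.Prelude.Def_EtModW
import Groth.Agent.Lib.Helper9.FE.ProEtE4
import Groth.Agent.Lib.Helper9.FE.ProEtM3

/-! helper9: module version of `ProEtE4`: the unit of the adjunction between pullback to the pro-étale site and
restriction to the étale site is an isomorphism on sheaves of `Λ`-modules, so `ε⁻¹` is fully faithful on them. -/

set_option autoImplicit false
set_option linter.unusedSectionVars false
set_option linter.style.haveILetI false
set_option backward.isDefEq.respectTransparency false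
universe u
open CategoryTheory Limits Opposite AlgebraicGeometry

namespace H9FE.ProEtM

open H9FE.ProEtQc Groth.Agent.S14453.Aux

variable {X : Scheme.{u}} {Λ : Type (u + 1)} [CommRing Λ] (F : X.Etaleᵒᵖ ⥤ (ModuleCat.{u + 1} Λ))

/-- every section of the sheafified pullback over an affine étale `U` comes, étale locally on
`U`, from a section of `F` -/
theorem exists_local_preimage
    (hF : Presieve.IsSheaf X.smallEtaleTopology (F ⋙ forget (ModuleCat.{u + 1} Λ)))
    (U : X.Etale) [IsAffine U.left] (t : (shP F).obj (op ((ProEtS.eps X).obj U))) (x : U.left) :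
    ∃ (W : X.Etale) (a : W ⟶ U) (y : W.left) (r : F.obj (op W)), a.left y = x ∧
      (toSh F).app (op ((ProEtS.eps X).obj W)) (elt (ProEtS.eps X) F (𝟙 _) r) =
        (shP F).map ((ProEtS.eps X).map a).op t := by
  classical
  haveI : IsAffine ((ProEtS.eps X).obj U).left := ‹IsAffine U.left›
  obtain ⟨n, V, g, haff, hch, hcov⟩ :=
    exists_finite_affine_refinement ((ProEtS.eps X).obj U) _ (chartSieve_mem (F := F) U t)
  let ch : ∀ i, Chart F U t (g i) := fun i => Classical.choice (hch i)
  obtain ⟨i, v, hv⟩ := hcov x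
  have hNopen : IsOpen ((⋃ j, closure (badSet (ch j) (ch i)))ᶜ : Set (ch i).W.left) :=
    (isClosed_iUnion_of_finite (fun j => isClosed_closure)).isOpen_compl
  obtain ⟨N, hN⟩ : ∃ N : (ch i).W.left.Opens,
      (N : Set (ch i).W.left) = (⋃ j, closure (badSet (ch j) (ch i)))ᶜ := ⟨⟨_, hNopen⟩, rfl⟩
  have hYN : ∀ y ∈ Set.range (ch i).b.left, y ∈ N := by
    intro y hy
    show y ∈ (N : Set (ch i).W.left)
    rw [hN]
    intro hmem
    obtain ⟨j, hj⟩ := Set.mem_iUnion.1 hmem
    haveI := haff j
    exact not_mem_closure_badSet (ch j) (ch i) y hy hj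
  refine ⟨opObj (ch i).W N, opι (ch i).W N ≫ (ch i).a, ⟨(ch i).b.left v, hYN _ ⟨v, rfl⟩⟩,
    F.map (opι (ch i).W N).op (ch i).r, ?_, ?_⟩
  · have h1 : (ch i).b.left ≫ (ch i).a.left = (g i).left := congrArg (fun φ => φ.left) (ch i).fac
    show (ch i).a.left ((ch i).b.left v) = x
    rw [← hv, ← h1]
    rfl
  · have hcover : Sieve.ofArrows V g ∈ Scheme.ProEt.topology X ((ProEtS.eps X).obj U) :=
      ofArrows_mem V g (fun j => by haveI := haff j; infer_instance) hcov
    have hpb := (Scheme.ProEt.topology X).pullback_stable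
      ((ProEtS.eps X).map (opι (ch i).W N ≫ (ch i).a)) hcover
    refine ((shP_isSheaf F).isSeparated _ hpb).ext ?_
    intro Y k hk
    obtain ⟨j, h', hfac'⟩ := (Sieve.mem_ofArrows_iff _ _ _).1 hk
    have hfac : h' ≫ g j = k ≫ (ProEtS.eps X).map (opι (ch i).W N ≫ (ch i).a) := hfac'.symm
    show (shP F).map k.op ((toSh F).app _ (elt (ProEtS.eps X) F (𝟙 _)
        (F.map (opι (ch i).W N).op (ch i).r))) =
      (shP F).map k.op ((shP F).map ((ProEtS.eps X).map (opι (ch i).W N ≫ (ch i).a)).op t)
    rw [← toSh_elt, ← shP_map_comp, ← hfac, shP_map_comp, ← (ch j).eq, ← toSh_elt,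
      Category.comp_id]
    congr 1
    -- the comparison in the presheaf pullback
    have hcomp : (h' ≫ (ch j).b) ≫ (ProEtS.eps X).map (ch j).a =
        (k ≫ (ProEtS.eps X).map (opι (ch i).W N)) ≫ (ProEtS.eps X).map (ch i).a := by
      rw [Category.assoc, (ch j).fac, hfac, Functor.map_comp, Category.assoc]
    have hpbk : IsPullback ((ProEtS.eps X).map (pullback.fst (ch j).a (ch i).a))
        ((ProEtS.eps X).map (pullback.snd (ch j).a (ch i).a))
        ((ProEtS.eps X).map (ch j).a) ((ProEtS.eps X).map (ch i).a) :=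
      (IsPullback.of_hasPullback (ch j).a (ch i).a).map (ProEtS.eps X)
    obtain ⟨mY, hmY₁, hmY₂⟩ : ∃ mY : Y ⟶ (ProEtS.eps X).obj (pullback (ch j).a (ch i).a),
        mY ≫ (ProEtS.eps X).map (pullback.fst (ch j).a (ch i).a) = h' ≫ (ch j).b ∧
        mY ≫ (ProEtS.eps X).map (pullback.snd (ch j).a (ch i).a) =
          k ≫ (ProEtS.eps X).map (opι (ch i).W N) :=
      ⟨hpbk.lift _ _ hcomp, hpbk.lift_fst _ _ _, hpbk.lift_snd _ _ _⟩
    have hgood : ∀ y : Y.left,
        (mY.left y : (pullback (ch j).a (ch i).a).left) ∈ goodOpen (ch j) (ch i) := by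
      intro y
      by_contra hng
      have hbad : (pullback.snd (ch j).a (ch i).a).left (mY.left y) ∈ badSet (ch j) (ch i) := by
        refine ⟨mY.left y, ⟨⟨h'.left y, ?_⟩, hng⟩, rfl⟩
        have h5 := congrArg (fun φ => φ.left) hmY₁
        exact (congrArg (fun φ : Y.left ⟶ (ch j).W.left => φ y) h5).symm
      have hNy : (pullback.snd (ch j).a (ch i).a).left (mY.left y) ∈
          (N : Set (ch i).W.left) := by
        have h5 := congrArg (fun φ => φ.left) hmY₂
        have h6 : (pullback.snd (ch j).a (ch i).a).left (mY.left y) =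
            (opι (ch i).W N).left (k.left y) :=
          congrArg (fun φ : Y.left ⟶ (ch i).W.left => φ y) h5
        rw [h6]
        exact (k.left y).2
      rw [hN] at hNy
      exact hNy (Set.mem_iUnion.2 ⟨j, subset_closure hbad⟩)
    obtain ⟨m', hm'⟩ := ProEtE.exists_lift_opObj (goodOpen (ch j) (ch i)) mY hgood
    have hA1 := good_eq hF (ch j) (ch i)
    calc elt (ProEtS.eps X) F k (F.map (opι (ch i).W N).op (ch i).r)
        = elt (ProEtS.eps X) F (k ≫ (ProEtS.eps X).map (opι (ch i).W N)) (ch i).r := by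
          rw [elt_comp]
      _ = elt (ProEtS.eps X) F
            (mY ≫ (ProEtS.eps X).map (pullback.snd (ch j).a (ch i).a)) (ch i).r := by rw [hmY₂]
      _ = elt (ProEtS.eps X) F (m' ≫ (ProEtS.eps X).map
            (opι (pullback (ch j).a (ch i).a) (goodOpen (ch j) (ch i)) ≫
              pullback.snd (ch j).a (ch i).a)) (ch i).r := by
          rw [← hm', Category.assoc, ← Functor.map_comp]
      _ = elt (ProEtS.eps X) F m' (F.map
            (opι (pullback (ch j).a (ch i).a) (goodOpen (ch j) (ch i)) ≫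
              pullback.snd (ch j).a (ch i).a).op (ch i).r) := elt_comp _ _ _ _ _
      _ = elt (ProEtS.eps X) F m' (F.map
            (opι (pullback (ch j).a (ch i).a) (goodOpen (ch j) (ch i)) ≫
              pullback.fst (ch j).a (ch i).a).op (ch j).r) := by rw [hA1]
      _ = elt (ProEtS.eps X) F (m' ≫ (ProEtS.eps X).map
            (opι (pullback (ch j).a (ch i).a) (goodOpen (ch j) (ch i)) ≫
              pullback.fst (ch j).a (ch i).a)) (ch j).r := (elt_comp _ _ _ _ _).symm
      _ = elt (ProEtS.eps X) F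
            (mY ≫ (ProEtS.eps X).map (pullback.fst (ch j).a (ch i).a)) (ch j).r := by
          rw [Functor.map_comp, ← Category.assoc, hm']
      _ = elt (ProEtS.eps X) F (h' ≫ (ch j).b) (ch j).r := by rw [hmY₁]

/-- the unit of the adjunction `ε⁻¹ ⊣ ε_*` is an isomorphism on sheaves of modules. -/
theorem mainMod (Λ : Type (u + 1)) [CommRing Λ] (X : Scheme.{u}) [ProEtS.EpsCont X]
    (F : EtModW.Mod Λ X) :
    IsIso (((ProEtS.eps X).sheafAdjunctionContinuous (ModuleCat.{u + 1} Λ) X.smallEtaleTopology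
      (Scheme.ProEt.topology X)).unit.app F) := by
  have hF : Presieve.IsSheaf X.smallEtaleTopology (F.obj ⋙ forget (ModuleCat.{u + 1} Λ)) :=
    (isSheaf_iff_isSheaf_of_type _ _).mp
      ((Presheaf.isSheaf_iff_isSheaf_forget _ _ (forget (ModuleCat.{u + 1} Λ))).mp F.property)
  have hcomp : X.smallEtaleTopology.HasSheafCompose (forget (ModuleCat.{u + 1} Λ)) :=
    ⟨fun P hP => (Presheaf.isSheaf_iff_isSheaf_forget _ _ (forget (ModuleCat.{u + 1} Λ))).mp hP⟩
  have hiff := @Sheaf.isLocallyBijective_iff_isIso _ _ X.smallEtaleTopology _ _ _ _ _ _ _ _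
    ((adj₂ X Λ).unit.app F) _ hcomp
  have key : IsIso ((adj₂ X Λ).unit.app F) := by
    refine hiff.1 ⟨?_, ?_⟩
    · refine Presheaf.isLocallyInjective_of_injective _ _ ?_
      intro U s s' h
      induction U using Opposite.rec with
      | _ U =>
        rw [unit_app_apply, unit_app_apply] at h
        exact unit_injective F.obj hF U s s' h
    · constructor
      intro U t
      rw [mem_et_iff]
      intro x
      obtain ⟨O, hO, hxO, -⟩ := exists_isAffineOpen_mem_and_subset (x := x) (U := ⊤) trivial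
      haveI : IsAffine (opObj U O).left := hO
      obtain ⟨W, a, y, r, hay, hr⟩ := exists_local_preimage F.obj hF (opObj U O)
        ((shP F.obj).map ((ProEtS.eps X).map (opι U O)).op t) ⟨x, hxO⟩
      refine ⟨W, a ≫ opι U O, y, ⟨r, ?_⟩, inferInstance, ?_⟩
      · rw [unit_app_apply, hr, ← shP_map_comp, ← Functor.map_comp]
        rfl
      · show (opι U O).left (a.left y) = x
        rw [hay]
        rfl
  let adjM := (ProEtS.eps X).sheafAdjunctionContinuous (ModuleCat.{u + 1} Λ) X.smallEtaleTopology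
      (Scheme.ProEt.topology X)
  let pushM := (ProEtS.eps X).sheafPushforwardContinuous (ModuleCat.{u + 1} Λ)
      X.smallEtaleTopology (Scheme.ProEt.topology X)
  have h := adjM.unit_leftAdjointUniq_hom_app (adj₂ X Λ) F
  haveI : IsIso (adjM.unit.app F ≫ pushM.map
      ((adjM.leftAdjointUniq (adj₂ X Λ)).hom.app F)) := by
    rw [h]
    exact key
  exact IsIso.of_isIso_comp_right _ (pushM.map ((adjM.leftAdjointUniq (adj₂ X Λ)).hom.app F))

end H9FE.ProEtM
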