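import Mathlib
import Groth.Prelude.Def_EtModW
import Groth.Prelude.Def_ARSys
import Groth.Agent.Lib.Helper9.FE.AdicSh
import Groth.Agent.Lib.Helper9.FE.AdicFF
import Groth.Agent.Lib.Helper9.FE.ProEtM4
/-! helper9: the pullback `ε⁻¹` of sheaves of `Λ`-modules from the étale to the pro-étale site is linear and fully faithful;
for an adic system `G` (finitely generated ideal) the projections `lim ε⁻¹G_m ⟶ ε⁻¹G_n` are quotient maps. -/

universe u

set_option autoImplicit false
set_option linter.unusedSectionVars false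
set_option linter.style.haveILetI false
set_option backward.isDefEq.respectTransparency false

open CategoryTheory CategoryTheory.Limits AlgebraicGeometry Opposite

namespace H9FE.Adic

variable (Λ : Type (u + 1)) [CommRing Λ] (X : Scheme.{u}) [ProEtS.EpsCont X]

/-- the adjunction `ε⁻¹ ⊣ ε_*` on sheaves of modules. -/
noncomputable abbrev adjM :
    EtModW.epsPullMod Λ X ⊣ (ProEtS.eps X).sheafPushforwardContinuous (ModuleCat.{u + 1} Λ)
      X.smallEtaleTopology (Scheme.ProEt.topology X) :=
  (ProEtS.eps X).sheafAdjunctionContinuous (ModuleCat.{u + 1} Λ) X.smallEtaleTopology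
    (Scheme.ProEt.topology X)

lemma pushM_map_smul {Y Y' : EtModW.ModP Λ X} (a : Λ) (φ : Y ⟶ Y') :
    ((ProEtS.eps X).sheafPushforwardContinuous (ModuleCat.{u + 1} Λ)
      X.smallEtaleTopology (Scheme.ProEt.topology X)).map (a • φ) =
    a • ((ProEtS.eps X).sheafPushforwardContinuous (ModuleCat.{u + 1} Λ)
      X.smallEtaleTopology (Scheme.ProEt.topology X)).map φ := rfl

lemma epsPullMod_map_smul {G G' : EtModW.Mod Λ X} (a : Λ) (f : G ⟶ G') :
    (EtModW.epsPullMod Λ X).map (a • f) = a • (EtModW.epsPullMod Λ X).map f :=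
  map_smul_of_adj (adjM Λ X) (fun a φ => pushM_map_smul Λ X a φ) a f

instance isIso_unit_adjM : IsIso (adjM Λ X).unit :=
  haveI : ∀ F, IsIso ((adjM Λ X).unit.app F) := fun F => H9FE.ProEtM.mainMod Λ X F
  NatIso.isIso_of_isIso_app _

instance full_epsPullMod : (EtModW.epsPullMod Λ X).Full :=
  ((adjM Λ X).fullyFaithfulLOfIsIsoUnit).full

instance faithful_epsPullMod : (EtModW.epsPullMod Λ X).Faithful :=
  ((adjM Λ X).fullyFaithfulLOfIsIsoUnit).faithful

theorem isQuot_limit_π_eps (I : Ideal Λ) (hI : I.FG) (G : ARSys.PS (EtModW.Mod Λ X))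
    (hG : ARSys.IsAdic I G) (n : ℕ) :
    ARSys.IsQuot (I ^ (n + 1)) (limit.π (G ⋙ EtModW.epsPullMod Λ X) (op n)) :=
  isQuot_limit_π Λ hI (isAdic_comp (adjM Λ X) (fun a φ => pushM_map_smul Λ X a φ) hG)
    (limit.cone _) (limit.isLimit _) n

end H9FE.Adic
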