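import Mathlib
import Groth.Agent.Lib.Helper9.FE.AdicAlg
/-! helper9: surjectivity of `lim B_n ⟶ lim C_n` for a levelwise surjective morphism of inverse systems of modules whose
kernel system contains a subsystem with surjective transition maps absorbing the kernels after a fixed shift
(Mittag-Leffler); the case of a right exact additive functor applied to a short exact sequence of inverse systems whose
first term receives a map with cokernel null up to translation from a system with surjective transition maps. -/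

universe v v₁ u₁

set_option autoImplicit false
set_option linter.unusedSectionVars false
set_option linter.style.haveILetI false
set_option backward.isDefEq.respectTransparency false

open CategoryTheory CategoryTheory.Limits Opposite

namespace H9FE.Adic

section Alg

variable {R : Type v} [CommRing R] {Bs Cs : ℕᵒᵖ ⥤ ModuleCat.{v} R} (g : Bs ⟶ Cs)

/-- components of a morphism of systems. -/
def gap (n : ℕ) : Bs.obj (op n) →ₗ[R] Cs.obj (op n) := (g.app (op n)).hom

lemma gap_trm {a b : ℕ} (h : a ≤ b) (x : Bs.obj (op b)) :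
    gap g a (trm Bs h x) = trm Cs h (gap g b x) := by
  have h0 := g.naturality (homOfLE h).op
  exact congrArg (fun ψ : Bs.obj (op b) ⟶ Cs.obj (op a) => ψ.hom x) h0

theorem surj_of_ML (E : ∀ n, Submodule R (Bs.obj (op n)))
    (hsurj : ∀ n, Function.Surjective (gap g n))
    (hE0 : ∀ n, ∀ e ∈ E n, gap g n e = 0)
    (hEs : ∀ n, ∀ e ∈ E n, ∃ e' ∈ E (n + 1), trm Bs (Nat.le_succ n) e' = e)
    (r : ℕ)
    (hr : ∀ n (k : Bs.obj (op (n + r))), gap g (n + r) k = 0 →
      trm Bs (Nat.le_add_right n r) k ∈ E n)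
    {cB : Cone Bs} (hcB : IsLimit cB) (cC : Cone Cs) (z : cC.pt) :
    ∃ y : cB.pt, ∀ n, gap g n (pr cB n y) = pr cC n z := by
  choose b hb using fun n => hsurj n (pr cC n z)
  let b' : ∀ n, Bs.obj (op n) := fun n => trm Bs (Nat.le_add_right n r) (b (n + r))
  have hb' : ∀ n, gap g n (b' n) = pr cC n z := by
    intro n
    show gap g n (trm Bs (Nat.le_add_right n r) (b (n + r))) = _
    rw [gap_trm, hb, trm_pr]
  have hd : ∀ n, trm Bs (Nat.le_succ n) (b' (n + 1)) - b' n ∈ E n := by
    intro n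
    have hle : n + r ≤ n + 1 + r := by omega
    have e1 : trm Bs (Nat.le_succ n) (b' (n + 1)) =
        trm Bs (Nat.le_add_right n r) (trm Bs hle (b (n + 1 + r))) := by
      show trm Bs (Nat.le_succ n) (trm Bs (Nat.le_add_right (n + 1) r) (b (n + 1 + r))) = _
      rw [trm_trm, trm_trm]
    have e2 : trm Bs (Nat.le_succ n) (b' (n + 1)) - b' n =
        trm Bs (Nat.le_add_right n r) (trm Bs hle (b (n + 1 + r)) - b (n + r)) := by
      rw [e1, map_sub]
    rw [e2]
    apply hr
    rw [map_sub, gap_trm, hb, hb, trm_pr, sub_self]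
  let e : ∀ n, E n := fun n => Nat.rec ⟨0, (E 0).zero_mem⟩
    (fun n en => ⟨(hEs n (en.1 - (trm Bs (Nat.le_succ n) (b' (n + 1)) - b' n))
        ((E n).sub_mem en.2 (hd n))).choose,
      (hEs n (en.1 - (trm Bs (Nat.le_succ n) (b' (n + 1)) - b' n))
        ((E n).sub_mem en.2 (hd n))).choose_spec.1⟩) n
  have he : ∀ n, trm Bs (Nat.le_succ n) (e (n + 1)).1 =
      (e n).1 - (trm Bs (Nat.le_succ n) (b' (n + 1)) - b' n) := fun n =>
    (hEs n ((e n).1 - (trm Bs (Nat.le_succ n) (b' (n + 1)) - b' n))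
        ((E n).sub_mem (e n).2 (hd n))).choose_spec.2
  obtain ⟨y, hy⟩ := exists_of_compat hcB (fun n => b' n + (e n).1) (by
    intro n
    rw [map_add, he n]
    abel)
  refine ⟨y, fun n => ?_⟩
  rw [hy n, map_add, hb' n, hE0 n _ (e n).2, add_zero]

end Alg

section Cat

variable {R : Type v} [CommRing R] {C : Type u₁} [Category.{v₁} C] [Abelian C]
  (T : C ⥤ ModuleCat.{v} R) [T.Additive] [PreservesFiniteColimits T]

theorem surj_of_arAdic (S : ShortComplex (ℕᵒᵖ ⥤ C)) (hS : S.ShortExact) (Y : ℕᵒᵖ ⥤ C)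
    (v : Y ⟶ S.X₁)
    (hYs : ∀ n, Function.Surjective (T.map (Y.map (homOfLE (Nat.le_succ n)).op)).hom)
    (r : ℕ) (hr : ∀ n, (cokernel v).map (homOfLE (Nat.le_add_right n r)).op = 0)
    {cB : Cone (S.X₂ ⋙ T)} (hcB : IsLimit cB) (cC : Cone (S.X₃ ⋙ T)) (z : cC.pt) :
    ∃ y : cB.pt, ∀ n, (T.map (S.g.app (op n))).hom (pr cB n y) = pr cC n z := by
  -- exactness facts
  have hexB : ∀ (m : ℕ) (k : T.obj (S.X₂.obj (op m))), (T.map (S.g.app (op m))).hom k = 0 →
      ∃ a : T.obj (S.X₁.obj (op m)), (T.map (S.f.app (op m))).hom a = k := by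
    intro m k hk
    haveI : PreservesFiniteColimits ((evaluation ℕᵒᵖ C).obj (op m) ⋙ T) :=
      comp_preservesFiniteColimits _ _
    have h1 := (Functor.preservesFiniteColimits_iff_forall_exact_map_and_epi
      ((evaluation ℕᵒᵖ C).obj (op m) ⋙ T)).mp inferInstance S hS
    have h2 := (ShortComplex.moduleCat_exact_iff _).mp h1.1
    exact h2 k hk
  have hexA : ∀ (m : ℕ) (a : T.obj (S.X₁.obj (op m))),
      (T.map ((cokernel.π v).app (op m))).hom a = 0 →
      ∃ y : T.obj (Y.obj (op m)), (T.map (v.app (op m))).hom y = a := by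
    intro m a ha
    haveI : PreservesFiniteColimits ((evaluation ℕᵒᵖ C).obj (op m) ⋙ T) :=
      comp_preservesFiniteColimits _ _
    have h0 : PreservesFiniteColimits ((evaluation ℕᵒᵖ C).obj (op m) ⋙ T) ↔
        ∀ (S' : ShortComplex (ℕᵒᵖ ⥤ C)), S'.Exact ∧ Epi S'.g →
          (S'.map ((evaluation ℕᵒᵖ C).obj (op m) ⋙ T)).Exact ∧
            Epi (((evaluation ℕᵒᵖ C).obj (op m) ⋙ T).map S'.g) :=
      (Functor.preservesFiniteColimits_tfae ((evaluation ℕᵒᵖ C).obj (op m) ⋙ T)).out 3 1
    have h1 := h0.mp inferInstance (ShortComplex.mk v (cokernel.π v) (cokernel.condition v))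
      ⟨ShortComplex.exact_cokernel v, inferInstance⟩
    have h2 := (ShortComplex.moduleCat_exact_iff _).mp h1.1
    exact h2 a ha
  have hsurj : ∀ n, Function.Surjective (T.map (S.g.app (op n))).hom := by
    intro n
    haveI := hS.epi_g
    haveI : Epi (T.map (S.g.app (op n))) := inferInstance
    exact (ModuleCat.epi_iff_surjective _).mp inferInstance
  -- apply the algebraic statement
  refine surj_of_ML (Bs := S.X₂ ⋙ T) (Cs := S.X₃ ⋙ T) (Functor.whiskerRight S.g T)
    (fun n => LinearMap.range (T.map (v.app (op n) ≫ S.f.app (op n))).hom)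
    hsurj ?_ ?_ r ?_ hcB cC z
  · rintro n _ ⟨y, rfl⟩
    show (T.map (S.g.app (op n))).hom ((T.map (v.app (op n) ≫ S.f.app (op n))).hom y) = 0
    have h0 : S.f.app (op n) ≫ S.g.app (op n) = 0 := by
      rw [← NatTrans.comp_app, S.zero]
      rfl
    have h1 : T.map (v.app (op n) ≫ S.f.app (op n)) ≫ T.map (S.g.app (op n)) = 0 := by
      rw [← T.map_comp, Category.assoc, h0, Limits.comp_zero, T.map_zero]
    exact congrArg (fun ψ : T.obj (Y.obj (op n)) ⟶ T.obj (S.X₃.obj (op n)) => ψ.hom y) h1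
  · rintro n _ ⟨y, rfl⟩
    obtain ⟨y', rfl⟩ := hYs n y
    refine ⟨(T.map (v.app (op (n + 1)) ≫ S.f.app (op (n + 1)))).hom y', ⟨y', rfl⟩, ?_⟩
    show (T.map (S.X₂.map (homOfLE (Nat.le_succ n)).op)).hom
        ((T.map (v.app (op (n + 1)) ≫ S.f.app (op (n + 1)))).hom y') =
      (T.map (v.app (op n) ≫ S.f.app (op n))).hom
        ((T.map (Y.map (homOfLE (Nat.le_succ n)).op)).hom y')
    have h1 : T.map (v.app (op (n + 1)) ≫ S.f.app (op (n + 1))) ≫
        T.map (S.X₂.map (homOfLE (Nat.le_succ n)).op) =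
        T.map (Y.map (homOfLE (Nat.le_succ n)).op) ≫ T.map (v.app (op n) ≫ S.f.app (op n)) := by
      rw [← T.map_comp, ← T.map_comp, Category.assoc, ← S.f.naturality, ← Category.assoc,
        ← v.naturality, Category.assoc]
    exact congrArg (fun ψ : T.obj (Y.obj (op (n + 1))) ⟶ T.obj (S.X₂.obj (op n)) => ψ.hom y') h1
  · intro n k hk
    obtain ⟨a, rfl⟩ := hexB (n + r) k hk
    have hz : (T.map ((cokernel.π v).app (op n))).hom
        ((T.map (S.X₁.map (homOfLE (Nat.le_add_right n r)).op)).hom a) = 0 := by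
      have h1 : T.map (S.X₁.map (homOfLE (Nat.le_add_right n r)).op) ≫
          T.map ((cokernel.π v).app (op n)) = 0 := by
        rw [← T.map_comp, (cokernel.π v).naturality, hr n, Limits.comp_zero, T.map_zero]
      exact congrArg (fun ψ : T.obj (S.X₁.obj (op (n + r))) ⟶ T.obj ((cokernel v).obj (op n)) =>
        ψ.hom a) h1
    obtain ⟨y, hy⟩ := hexA n _ hz
    refine ⟨y, ?_⟩
    show (T.map (v.app (op n) ≫ S.f.app (op n))).hom y =
      (T.map (S.X₂.map (homOfLE (Nat.le_add_right n r)).op)).hom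
        ((T.map (S.f.app (op (n + r)))).hom a)
    have h2 : T.map (S.f.app (op (n + r))) ≫ T.map (S.X₂.map (homOfLE (Nat.le_add_right n r)).op) =
        T.map (S.X₁.map (homOfLE (Nat.le_add_right n r)).op) ≫ T.map (S.f.app (op n)) := by
      rw [← T.map_comp, ← T.map_comp, S.f.naturality]
    have h3 := congrArg (fun ψ : T.obj (S.X₁.obj (op (n + r))) ⟶ T.obj (S.X₂.obj (op n)) =>
      ψ.hom a) h2
    rw [T.map_comp]
    show (T.map (S.f.app (op n))).hom ((T.map (v.app (op n))).hom y) = _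
    rw [hy]
    exact h3.symm

end Cat

end H9FE.Adic
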