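import Mathlib
import Groth.Prelude.Def_EtModW
import Groth.Prelude.Def_ARSys
import Groth.Agent.Lib.Helper9.FE.AdicEps
import Groth.Agent.Lib.Helper9.FE.MLSurj
/-! helper9: for a short exact sequence `0 → A → B → C → 0` of inverse systems of étale sheaves of `Λ`-modules with `A`
adic up to translation, `lim ε⁻¹B_n ⟶ lim ε⁻¹C_n` is an epimorphism of pro-étale sheaves (Mittag-Leffler on sections over
weakly contractible objects). -/

universe u

set_option autoImplicit false
set_option linter.unusedSectionVars false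
set_option linter.style.haveILetI false
set_option backward.isDefEq.respectTransparency false

open CategoryTheory CategoryTheory.Limits AlgebraicGeometry Opposite

namespace H9FE.Adic

open H9FE.ProEtDC

variable (Λ : Type (u + 1)) [CommRing Λ] (X : Scheme.{u}) [ProEtS.EpsCont X]

instance additive_pushM : ((ProEtS.eps X).sheafPushforwardContinuous (ModuleCat.{u + 1} Λ)
    X.smallEtaleTopology (Scheme.ProEt.topology X)).Additive where
  map_add := rfl

instance additive_epsPullMod : (EtModW.epsPullMod Λ X).Additive :=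
  (adjM Λ X).left_adjoint_additive

theorem epi_limMap_eps (I : Ideal Λ) (S : ShortComplex (ARSys.PS (EtModW.Mod Λ X)))
    (hS : S.ShortExact)
    (hA : ∃ (Y : ARSys.PS (EtModW.Mod Λ X)) (v : Y ⟶ S.X₁), ARSys.IsAdic I Y ∧ ARSys.IsARIso v) :
    Epi (limMap (Functor.whiskerRight S.g (EtModW.epsPullMod Λ X))) := by
  obtain ⟨Y, v, hY, -, ⟨r, hr⟩⟩ := hA
  apply epi_of_wc_surj
  intro W hW z
  haveI : PreservesFiniteColimits (Psi2 Λ W) := preservesFiniteColimits_Psi2 Λ hW
  haveI : PreservesColimitsOfSize.{0, 0} (EtModW.epsPullMod Λ X) :=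
    (adjM Λ X).leftAdjoint_preservesColimits
  haveI : PreservesFiniteColimits (EtModW.epsPullMod Λ X ⋙ Psi2 Λ W) :=
    comp_preservesFiniteColimits _ _
  haveI := (adj2 Λ W).rightAdjoint_preservesLimits
  haveI : (EtModW.epsPullMod Λ X).PreservesEpimorphisms :=
    Functor.preservesEpimorphisms_of_adjunction (adjM Λ X)
  have hYs : ∀ n, Function.Surjective
      ((EtModW.epsPullMod Λ X ⋙ Psi2 Λ W).map (Y.map (homOfLE (Nat.le_succ n)).op)).hom := by
    intro n
    haveI : Epi (ARSys.tr Y (Nat.le_succ n)) := epi_of_isQuot (hY.2 n (n + 1) (Nat.le_succ n))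
    haveI : Epi ((EtModW.epsPullMod Λ X).map (ARSys.tr Y (Nat.le_succ n))) := inferInstance
    exact surj_of_epi_of_isWC Λ ((EtModW.epsPullMod Λ X).map (ARSys.tr Y (Nat.le_succ n))) hW
  obtain ⟨y, hy⟩ := surj_of_arAdic (EtModW.epsPullMod Λ X ⋙ Psi2 Λ W) S hS Y v hYs r hr
    (cB := (Psi2 Λ W).mapCone (limit.cone (S.X₂ ⋙ EtModW.epsPullMod Λ X)))
    (isLimitOfPreserves (Psi2 Λ W) (limit.isLimit _))
    ((Psi2 Λ W).mapCone (limit.cone (S.X₃ ⋙ EtModW.epsPullMod Λ X))) z
  refine ⟨y, ?_⟩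
  apply ext_of_pr (isLimitOfPreserves (Psi2 Λ W)
    (limit.isLimit (S.X₃ ⋙ EtModW.epsPullMod Λ X)))
  intro n
  refine Eq.trans ?_ (hy n)
  have h1 := limMap_π (Functor.whiskerRight S.g (EtModW.epsPullMod Λ X)) (op n)
  exact congrArg (fun ψ : limit (S.X₂ ⋙ EtModW.epsPullMod Λ X) ⟶
    (S.X₃ ⋙ EtModW.epsPullMod Λ X).obj (op n) => (ψ.hom.app (op W)).hom y) h1

end H9FE.Adic
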