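import Mathlib
import Groth.Prelude.Def_ProEtS
import Groth.Prelude.Def_PBC
import Groth.Prelude.Def_ProEtW
import Groth.Agent.Lib.Helper9.FE.ProEtW11
import Groth.Agent.Lib.Helper9.FE.ProEtW6
import Groth.Agent.Lib.Helper9.FE.ProEtW5
import Groth.Agent.Lib.Helper9.FE.WLz2
import Groth.Agent.Lib.Helper9.FE.WStr6

/-! helper9: extension by zero along a quasi-compact open immersion commutes with limits of abelian
pro-étale sheaves (S0731). Affine objects with w-local spectrum are cover dense; over such an object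
`V` the sections of `j_! F` are the sections of `F` over the largest open and closed piece of `V`
lying over `U`. -/

set_option autoImplicit false
set_option linter.unusedSectionVars false
set_option linter.style.haveILetI false
set_option backward.isDefEq.respectTransparency false
universe w u
open CategoryTheory Limits Opposite AlgebraicGeometry

namespace H9FE.ProEtW

open H9FE.ProEtQc

/-- every quasi-compact open contains an open and closed subset outside of which every point
specializes to a point outside the open -/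
def SplitSpace (Y : Type*) [TopologicalSpace Y] : Prop :=
  ∀ O : Set Y, IsOpen O → IsCompact O →
    ∃ T : Set Y, IsClopen T ∧ T ⊆ O ∧ ∀ v, v ∉ T → ∃ z, z ∉ O ∧ v ⤳ z

theorem splitSpace_of_isWLocal (B : Type u) [CommRing B]
    (hW : ProEtW.IsWLocal (PrimeSpectrum B)) : SplitSpace (PrimeSpectrum B) := by
  intro O hO hOc
  let ρ : PrimeSpectrum B → H9FE.WLz2.Xc B := fun y =>
    (H9FE.WLz2.hcHomeo B hW).symm (_root_.ConnectedComponents.mk y)
  have hρ : Continuous ρ :=
    (H9FE.WLz2.hcHomeo B hW).symm.continuous.comp _root_.ConnectedComponents.continuous_coe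
  have hρv : ∀ y, (ρ y).1 = H9FE.WLz2.rpt B hW y := fun y => by
    show ((H9FE.WLz2.hcHomeo B hW).symm _).1 = _
    rw [H9FE.WLz2.hcHomeo_symm_mk]
  let Oc : Set (H9FE.WLz2.Xc B) := Subtype.val ⁻¹' O
  have hOc_open : IsOpen Oc := hO.preimage continuous_subtype_val
  have hOc_closed : IsClosed Oc := by
    haveI : T2Space (H9FE.WLz2.Xc B) := (H9FE.WLz2.hcHomeo B hW).symm.t2Space
    have hcl : Topology.IsClosedEmbedding (Subtype.val : H9FE.WLz2.Xc B → PrimeSpectrum B) :=
      hW.2.1.isClosedEmbedding_subtypeVal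
    have : IsCompact Oc := hcl.isCompact_preimage hOc
    exact this.isClosed
  refine ⟨ρ ⁻¹' Oc, ⟨hOc_closed.preimage hρ, hOc_open.preimage hρ⟩, ?_, ?_⟩
  · intro v hv
    have h1 : H9FE.WLz2.rpt B hW v ∈ O := by
      rw [← hρv]; exact hv
    exact (H9FE.WLz2.specializes_rpt B hW v).mem_open hO h1
  · intro v hv
    refine ⟨H9FE.WLz2.rpt B hW v, ?_, H9FE.WLz2.specializes_rpt B hW v⟩
    intro h
    apply hv
    show (ρ v).1 ∈ O
    rw [hρv]; exact h

variable {X : Scheme.{u}}

/-- affine objects whose underlying space is split -/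
def wlProp (X : Scheme.{u}) : ObjectProperty X.ProEt :=
  fun V => IsAffine V.left ∧ SplitSpace ↥V.left

lemma wlProp_specObj (U : X.ProEt) (W : U.left.Opens) (hW : IsAffineOpen W) :
    wlProp X (specObj U hW (coverRing Γ(U.left, W))) := by
  refine ⟨(inferInstance : IsAffine (Spec (CommRingCat.of (coverRing Γ(U.left, W))))), ?_⟩
  have hwl : ProEtW.IsWLocal (PrimeSpectrum (coverRing Γ(U.left, W))) :=
    ((H9FE.WStr.main677 _).1 (coverRing_isWContractible _)).1
  exact splitSpace_of_isWLocal _ hwl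

instance isCoverDense_wlProp : (wlProp X).ι.IsCoverDense (Scheme.ProEt.topology X) where
  is_cover U := by
    let Vs : U.left.affineOpens → X.ProEt := fun W => specObj U W.2 (coverRing Γ(U.left, W.1))
    let gs : ∀ W, Vs W ⟶ U := fun W => specHom U W.2 (coverRing Γ(U.left, W.1))
    have hcov : ∀ x : U.left, ∃ W : U.left.affineOpens, x ∈ W.1 := fun x => by
      obtain ⟨W, hW, hxW, -⟩ := exists_isAffineOpen_mem_and_subset (x := x) (U := ⊤) trivial
      exact ⟨⟨W, hW⟩, hxW⟩
    have h1 : Sieve.generate (Presieve.ofArrows Vs gs) ∈ Scheme.ProEt.topology X U :=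
      ofArrows_mem_of_isCompactOpenCovered Vs gs
        (fun W' hW' => specFamily_isCompactOpenCovered U (fun W : U.left.affineOpens => W.1)
          (fun W => W.2) hcov W' hW')
    refine (Scheme.ProEt.topology X).superset_covering ?_ h1
    rw [Sieve.generate_le_iff]
    rintro Y f ⟨W⟩
    exact ⟨⟨⟨Vs W, wlProp_specObj U W.1 W.2⟩, 𝟙 _, gs W, Category.id_comp _⟩⟩

section General

/-- restriction to one piece of a disjoint cover is bijective when the sections over the other
pieces vanish -/
lemma bijective_restrict_of_disjointCover {B : X.ProEt} {I : Type*} [DecidableEq I]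
    {Xs : I → X.ProEt}
    {π : ∀ i, Xs i ⟶ B} (h : IsDisjointCover (Scheme.ProEt.topology X) Xs π)
    (G : ProEtS.AbP X) (i₀ : I)
    (hsub : ∀ i, i ≠ i₀ → Subsingleton (G.obj.obj (op (Xs i)))) :
    Function.Bijective (G.obj.map (π i₀).op) := by
  have hG : Presieve.IsSheaf (Scheme.ProEt.topology X) (G.obj ⋙ forget AddCommGrpCat.{u + 1}) :=
    (isSheaf_iff_isSheaf_of_type _ _).mp
      ((Presheaf.isSheaf_iff_isSheaf_forget _ _ (forget AddCommGrpCat.{u + 1})).mp G.property)
  constructor
  · intro t t' htt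
    obtain ⟨s, -, hs⟩ := existsUnique_glue h hG
      (fun i => (G.obj ⋙ forget AddCommGrpCat.{u + 1}).map (π i).op t')
    have h1 : t = s := hs t (fun i => by
      by_cases hi : i = i₀
      · subst hi; exact htt
      · haveI := hsub i hi; exact Subsingleton.elim (α := G.obj.obj (op (Xs i))) _ _)
    have h2 : t' = s := hs t' (fun i => rfl)
    rw [h1, h2]
  · intro a
    let x : ∀ i, (G.obj ⋙ forget AddCommGrpCat.{u + 1}).obj (op (Xs i)) :=
      Function.update (fun i => (0 : G.obj.obj (op (Xs i)))) i₀ a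
    obtain ⟨t, ht, -⟩ := existsUnique_glue h hG x
    refine ⟨t, ?_⟩
    have h1 := ht i₀
    have h2 : x i₀ = a := Function.update_self _ _ _
    rw [h2] at h1
    exact h1

end General

section Sections

variable {U : Scheme.{u}} (j : U ⟶ X) [IsOpenImmersion j] [QuasiCompact j]

lemma isCompact_preimage_range (V : X.ProEt) [IsAffine V.left] :
    IsCompact (V.hom ⁻¹' Set.range j) := by
  have h1 : Set.range (pullback.snd j V.hom) = V.hom ⁻¹' Set.range j :=
    Scheme.Pullback.range_snd j V.hom
  rw [← h1]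
  haveI : CompactSpace ↥((𝟭 Scheme).obj V.left) := (inferInstance : CompactSpace ↥V.left)
  haveI : CompactSpace ↥(pullback j V.hom) :=
    QuasiCompact.compactSpace_of_compactSpace (pullback.snd j V.hom)
  exact isCompact_range (pullback.snd j V.hom).continuous

lemma isAffineOpen_of_isClopen {Y : Scheme.{u}} [IsAffine Y] (T : Y.Opens)
    (hT : IsClosed (T : Set Y)) : IsAffineOpen T := by
  haveI : IsClosedImmersion T.ι := IsClosedImmersion.of_isPreimmersion T.ι (by
    rw [Scheme.Opens.range_ι]; exact hT)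
  exact isAffine_of_isAffineHom T.ι

/-- sections over an object of the pro-étale site of `X` -/
noncomputable abbrev secF (X : Scheme.{u}) (V : X.ProEt) : ProEtS.AbP X ⥤ AddCommGrpCat.{u + 1} :=
  sheafToPresheaf (Scheme.ProEt.topology X) AddCommGrpCat.{u + 1} ⋙ (evaluation _ _).obj (op V)

variable [ProEtS.JPCont j]

theorem exists_sections_iso (V : X.ProEt) (hV : wlProp X V) :
    ∃ V' : U.ProEt, Nonempty (ProEtS.extZeroP j ⋙ secF X V ≅ secF U V') := by
  obtain ⟨haff, hsplit⟩ := hV
  haveI := haff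
  haveI : Mono j := inferInstance
  let O : Set V.left := V.hom ⁻¹' Set.range j
  have hOo : IsOpen O := j.isOpenEmbedding.isOpen_range.preimage V.hom.continuous
  obtain ⟨T, hTc, hTO, hT⟩ := hsplit O hOo (isCompact_preimage_range j V)
  let T₀ : V.left.Opens := ⟨T, hTc.isOpen⟩
  let T₁ : V.left.Opens := ⟨Tᶜ, hTc.compl.isOpen⟩
  let W : Fin 2 → V.left.Opens := fun k => if k = 0 then T₀ else T₁
  have hW0 : W 0 = T₀ := if_pos rfl
  have hW1 : ∀ k, k ≠ 0 → W k = T₁ := fun k hk => if_neg hk
  have hclopen : ∀ k, IsClopen ((W k : Set V.left)) := by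
    intro k
    by_cases hk : k = 0
    · subst hk; rw [hW0]; exact hTc
    · rw [hW1 k hk]; exact hTc.compl
  have hdisj : Pairwise (fun k l => Disjoint (W k : Set V.left) (W l)) := by
    intro k l hkl
    by_cases hk : k = 0
    · have hl : l ≠ 0 := fun hl => hkl (hk.trans hl.symm)
      rw [hk, hW0, hW1 l hl]
      exact disjoint_compl_right
    · by_cases hl : l = 0
      · rw [hl, hW0, hW1 k hk]
        exact disjoint_compl_left
      · exfalso
        apply hkl
        have h2 : ∀ m : Fin 2, m ≠ 0 → m = 1 := by decide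
        rw [h2 k hk, h2 l hl]
  have hcover : (⋃ k, (W k : Set V.left)) = Set.univ := by
    apply Set.eq_univ_of_forall
    intro x
    by_cases hx : x ∈ T
    · exact Set.mem_iUnion.mpr ⟨0, by rw [hW0]; exact hx⟩
    · exact Set.mem_iUnion.mpr ⟨1, by rw [hW1 1 (by decide)]; exact hx⟩
  have dc := isDisjointCover_of_clopen V W hclopen hdisj hcover
  -- vanishing on the second piece
  have hvan : ∀ (F : ProEtS.AbP U) (k : Fin 2), k ≠ 0 →
      Subsingleton (((ProEtS.extZeroP j).obj F).obj.obj
        (op (Scheme.ProEt.mk ((W k).ι ≫ V.hom)))) := by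
    intro F k hk
    have hWk : W k = T₁ := hW1 k hk
    haveI : IsAffine (Scheme.ProEt.mk ((W k).ι ≫ V.hom)).left :=
      (isAffineOpen_of_isClopen (W k) (hclopen k).isClosed : IsAffine (W k).toScheme)
    refine main732' j (Scheme.ProEt.mk ((W k).ι ≫ V.hom)) (fun v => ?_) F
    have hset : ((W k : V.left.Opens) : Set V.left) = Tᶜ := by rw [hWk]; rfl
    have hv : (W k).ι v ∉ T := by
      have hv2 : (W k).ι v ∈ Set.range (W k).ι := ⟨v, rfl⟩
      rw [Scheme.Opens.range_ι] at hv2
      have hv3 : (W k).ι v ∈ Tᶜ := by rw [← hset]; exact hv2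
      exact hv3
    obtain ⟨z, hzO, hvz⟩ := hT _ hv
    have hzT : z ∈ Set.range (W k).ι := by
      rw [Scheme.Opens.range_ι, hset]; exact fun hz => hzO (hTO hz)
    obtain ⟨z', rfl⟩ := hzT
    refine ⟨z', hzO, ?_⟩
    exact ((W k).ι.isOpenEmbedding.isInducing.specializes_iff).1 hvz
  -- the iso chain
  let V₁ : X.ProEt := Scheme.ProEt.mk ((W 0).ι ≫ V.hom)
  let ι₁ : V₁ ⟶ V := MorphismProperty.Over.homMk (W 0).ι
  let τ : ProEtS.extZeroP j ⋙ secF X V ⟶ ProEtS.extZeroP j ⋙ secF X V₁ :=
    Functor.whiskerLeft (ProEtS.extZeroP j)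
      (Functor.whiskerLeft (sheafToPresheaf _ _) ((evaluation _ _).map ι₁.op))
  haveI : IsIso τ := by
    refine @NatIso.isIso_of_isIso_app _ _ _ _ _ _ _ (fun F => ?_)
    have hb : Function.Bijective (((ProEtS.extZeroP j).obj F).obj.map ι₁.op) :=
      bijective_restrict_of_disjointCover dc ((ProEtS.extZeroP j).obj F) 0
        (fun k hk => hvan F k hk)
    exact (ConcreteCategory.isIso_iff_bijective _).2 hb
  have hrange : Set.range ((W 0).ι ≫ V.hom) ⊆ Set.range j := by
    rintro _ ⟨x, rfl⟩
    have hset0 : ((W 0 : V.left.Opens) : Set V.left) = T := by rw [hW0]; rfl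
    have hx : (W 0).ι x ∈ T := by
      have hx2 : (W 0).ι x ∈ Set.range (W 0).ι := ⟨x, rfl⟩
      rw [Scheme.Opens.range_ι] at hx2
      rw [← hset0]; exact hx2
    exact hTO hx
  let l := IsOpenImmersion.lift j ((W 0).ι ≫ V.hom) hrange
  have hl : l ≫ j = (W 0).ι ≫ V.hom := IsOpenImmersion.lift_fac j _ hrange
  haveI : WeaklyEtale l := by
    haveI : WeaklyEtale (l ≫ j) := by rw [hl]; infer_instance
    exact WeaklyEtale.of_comp l j
  let V₁' : U.ProEt := Scheme.ProEt.mk l
  let e₁ : V₁ ≅ (ProEtS.compP j).obj V₁' :=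
    MorphismProperty.Over.isoMk (Iso.refl _) (by
      show 𝟙 _ ≫ (l ≫ j) = (W 0).ι ≫ V.hom
      rw [Category.id_comp, hl])
  let iso2 : ProEtS.extZeroP j ⋙ secF X V₁ ≅
      ProEtS.extZeroP j ⋙ secF X ((ProEtS.compP j).obj V₁') :=
    Functor.isoWhiskerLeft (ProEtS.extZeroP j)
      (Functor.isoWhiskerLeft (sheafToPresheaf _ _) ((evaluation _ _).mapIso e₁.symm.op))
  let iso3 : ProEtS.extZeroP j ⋙ secF X ((ProEtS.compP j).obj V₁') ≅
      (ProEtS.extZeroP j ⋙ ProEtS.restrP j) ⋙ secF U V₁' := Iso.refl _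
  haveI := isIso_unit_extZeroP j
  let iso4 : (ProEtS.extZeroP j ⋙ ProEtS.restrP j) ⋙ secF U V₁' ≅ 𝟭 _ ⋙ secF U V₁' :=
    Functor.isoWhiskerRight (asIso (ProEtS.extZeroPAdj j).unit).symm (secF U V₁')
  exact ⟨V₁', ⟨asIso τ ≪≫ iso2 ≪≫ iso3 ≪≫ iso4 ≪≫ Functor.leftUnitor _⟩⟩

/-- the statement of S0731 -/
theorem main731 (K : Type u) [SmallCategory K] :
    PreservesLimitsOfShape K (ProEtS.extZeroP j) := by
  refine ⟨fun {D} => ?_⟩
  haveI : IsIso (limit.post D (ProEtS.extZeroP j)) := by
    refine Functor.IsCoverDense.iso_of_restrict_iso (G := (wlProp X).ι) _ ?_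
    refine @NatIso.isIso_of_isIso_app _ _ _ _ _ _ _ (fun V => ?_)
    obtain ⟨V', ⟨e⟩⟩ := exists_sections_iso j V.unop.obj V.unop.property
    haveI : PreservesLimit D (secF U V') := inferInstance
    haveI : PreservesLimit D (ProEtS.extZeroP j ⋙ secF X V.unop.obj) :=
      preservesLimit_of_natIso D e.symm
    have h1 : (secF X V.unop.obj).map (limit.post D (ProEtS.extZeroP j)) ≫
        limit.post (D ⋙ ProEtS.extZeroP j) (secF X V.unop.obj) =
          limit.post D (ProEtS.extZeroP j ⋙ secF X V.unop.obj) := limit.post_post _ _ _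
    haveI : IsIso ((secF X V.unop.obj).map (limit.post D (ProEtS.extZeroP j)) ≫
        limit.post (D ⋙ ProEtS.extZeroP j) (secF X V.unop.obj)) := by
      rw [h1]; infer_instance
    exact IsIso.of_isIso_comp_right ((secF X V.unop.obj).map (limit.post D (ProEtS.extZeroP j)))
      (limit.post (D ⋙ ProEtS.extZeroP j) (secF X V.unop.obj))
  exact preservesLimit_of_isIso_post _ _

end Sections

end H9FE.ProEtW
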