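import Mathlib
import Groth.Prelude.Def_ProEtS
import Groth.Prelude.Def_PBC
import Groth.Prelude.Def_ProEtW
import Groth.Prelude.Def_EtModW
import Groth.Agent.Lib.Helper9.FE.ProEtW12

/-! helper9: module version of `ProEtW10`–`ProEtW12`: extension by zero `j_!` of sheaves of `Λ`-modules on the small
pro-étale site along a weakly étale morphism; for a monomorphism the unit `𝟭 ⟶ j_! ⋙ j⁻¹` is an isomorphism; for a
quasi-compact open immersion `j_!` commutes with limits. -/

set_option autoImplicit false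
set_option linter.unusedSectionVars false
set_option linter.style.haveILetI false
set_option backward.isDefEq.respectTransparency false
universe w u
open CategoryTheory Limits Opposite AlgebraicGeometry

namespace H9FE.ProEtWM

open H9FE.ProEtQc H9FE.ProEtW

variable (Λ : Type (u + 1)) [CommRing Λ]

instance hasLimitsOfSize_mod : HasLimitsOfSize.{u, u} (ModuleCat.{u + 1} Λ) :=
  hasLimitsOfSizeShrink.{u, u, u + 1, u + 1} _

section Defs

variable {U X : Scheme.{u}} (j : U ⟶ X) [WeaklyEtale j] [ProEtS.JPCont j]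

/-- `j_!` on sheaves of modules. -/
noncomputable abbrev extZeroM : EtModW.ModP Λ U ⥤ EtModW.ModP Λ X :=
  (ProEtS.compP j).sheafPullback (ModuleCat.{u + 1} Λ) (Scheme.ProEt.topology U)
    (Scheme.ProEt.topology X)

/-- `j⁻¹` on sheaves of modules. -/
noncomputable abbrev restrM : EtModW.ModP Λ X ⥤ EtModW.ModP Λ U :=
  (ProEtS.compP j).sheafPushforwardContinuous (ModuleCat.{u + 1} Λ) (Scheme.ProEt.topology U)
    (Scheme.ProEt.topology X)

/-- the adjunction `j_! ⊣ j⁻¹`. -/
noncomputable abbrev extZeroMAdj : extZeroM Λ j ⊣ restrM Λ j :=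
  (ProEtS.compP j).sheafAdjunctionContinuous (ModuleCat.{u + 1} Λ) (Scheme.ProEt.topology U)
    (Scheme.ProEt.topology X)

end Defs

section ExtZero

variable {U X : Scheme.{u}} (j : U ⟶ X) [hj : WeaklyEtale j]

/-- the left Kan extension presheaf has no nonzero sections over such an object -/
lemma subsingleton_lan_of_isEmpty (F : U.ProEtᵒᵖ ⥤ (ModuleCat.{u + 1} Λ)) (W' : X.ProEt)
    [IsEmpty (CostructuredArrow (ProEtS.compP j).op (op W'))] :
    Subsingleton (((ProEtS.compP j).op.lan.obj F).obj (op W')) := by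
  have hl := Functor.isPointwiseLeftKanExtensionOfIsLeftKanExtension (F := F)
    ((ProEtS.compP j).op.lan.obj F) ((ProEtS.compP j).op.lanUnit.app F) (op W')
  have hl' : IsColimit ((Functor.LeftExtension.mk ((ProEtS.compP j).op.lan.obj F)
      ((ProEtS.compP j).op.lanUnit.app F)).coconeAt (op W')) := hl
  have hinit := (isColimitEquivIsInitialOfIsEmpty _ _) hl'
  refine ⟨fun a b => ?_⟩
  have h0 : (𝟙 (((ProEtS.compP j).op.lan.obj F).obj (op W'))) = 0 := hinit.hom_ext _ _
  have ha : a = (0 : ((ProEtS.compP j).op.lan.obj F).obj (op W')) := by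
    have := ConcreteCategory.congr_hom h0 a
    simpa using this
  have hb : b = (0 : ((ProEtS.compP j).op.lan.obj F).obj (op W')) := by
    have := ConcreteCategory.congr_hom h0 b
    simpa using this
  rw [ha, hb]

variable [ProEtS.JPCont j]

/-- the adjunction `j⁻¹ ⊣ j_*`, with `j_*` defined as a right Kan extension -/
noncomputable abbrev restrRanAdj :=
  (ProEtS.compP j).sheafAdjunctionCocontinuous (ModuleCat.{u + 1} Λ)
    (Scheme.ProEt.topology U) (Scheme.ProEt.topology X)

theorem isIso_counit_restrRan [Mono j] : IsIso (restrRanAdj Λ j).counit := by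
  refine @NatIso.isIso_of_isIso_app _ _ _ _ _ _ _ (fun F => ?_)
  have h := Functor.sheafAdjunctionCocontinuous_counit_app_hom (ProEtS.compP j)
    (ModuleCat.{u + 1} Λ) (Scheme.ProEt.topology U) (Scheme.ProEt.topology X) F
  haveI : IsIso (((restrRanAdj Λ j).counit.app F).hom) := by
    rw [h]; infer_instance
  haveI : IsIso ((sheafToPresheaf _ _).map ((restrRanAdj Λ j).counit.app F)) :=
    (inferInstance : IsIso (((restrRanAdj Λ j).counit.app F).hom))
  exact isIso_of_reflects_iso _ (sheafToPresheaf _ _)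

theorem isIso_unit_extZeroM [Mono j] : IsIso (extZeroMAdj Λ j).unit :=
  (Adjunction.Triple.mk (extZeroMAdj Λ j) (restrRanAdj Λ j)).isIso_unit_iff_isIso_counit.2
    (isIso_counit_restrRan Λ j)

/-- variant of S0732: the sections of `j_! F` vanish over an affine object all of whose points
specialize to a point outside the image of `j` -/
theorem main732' (V : X.ProEt) [IsAffine V.left]
    (hV : ∀ v : ↥V.left, ∃ z : ↥V.left, V.hom.base z ∉ Set.range j.base ∧ v ⤳ z)
    (F : EtModW.ModP Λ U) :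
    Subsingleton (((extZeroM Λ j).obj F).obj.obj (op V)) := by
  let J := Scheme.ProEt.topology X
  let Q : X.ProEtᵒᵖ ⥤ (ModuleCat.{u + 1} Λ) := (ProEtS.compP j).op.lan.obj F.obj
  -- reduce to the sheafification of the left Kan extension
  have e : (extZeroM Λ j).obj F ≅ (presheafToSheaf J (ModuleCat.{u + 1} Λ)).obj Q :=
    (Functor.sheafPullbackConstruction.sheafPullbackIso (ProEtS.compP j) (ModuleCat.{u + 1} Λ)
      (Scheme.ProEt.topology U) (Scheme.ProEt.topology X)).app F
  have e' : ((extZeroM Λ j).obj F).obj.obj (op V) ≅ (sheafify J Q).obj (op V) :=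
    ((sheafToPresheaf J (ModuleCat.{u + 1} Λ)).mapIso e).app (op V)
  suffices hs : Subsingleton ((sheafify J Q).obj (op V)) from
    (((forget (ModuleCat.{u + 1} Λ)).mapIso e').toEquiv).subsingleton
  -- the sheaf property, on underlying sets
  have hsh : Presieve.IsSheaf J (sheafify J Q ⋙ forget (ModuleCat.{u + 1} Λ)) :=
    (isSheaf_iff_isSheaf_of_type _ _).mp
      ((Presheaf.isSheaf_iff_isSheaf_forget _ _ (forget (ModuleCat.{u + 1} Λ))).mp
        ((presheafToSheaf J (ModuleCat.{u + 1} Λ)).obj Q).property)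
  refine ⟨fun s s' => ?_⟩
  -- every section is zero
  suffices h0 : ∀ s : (sheafify J Q).obj (op V), s = 0 by rw [h0 s, h0 s']
  intro s
  have hR : Presheaf.imageSieve (toSheafify J Q) s ∈ J V :=
    Presheaf.imageSieve_mem J (toSheafify J Q) (U := op V) s
  obtain ⟨n, Wf, g, haff, hRg, hcov⟩ := exists_finite_affine_refinement V _ hR
  let good : Fin n → Prop := fun k => ∃ y : (Wf k).left, (Wf k).hom.base y ∉ Set.range j.base
  -- restriction to a good piece vanishes
  have hgood : ∀ k, good k → (sheafify J Q).map (g k).op s = 0 := by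
    intro k hk
    obtain ⟨y, hy⟩ := hk
    haveI : IsEmpty (CostructuredArrow (ProEtS.compP j).op (op (Wf k))) :=
      isEmpty_costructuredArrow_compP j (Wf k)
        ⟨y, hy⟩
    haveI := subsingleton_lan_of_isEmpty Λ j F.obj (Wf k)
    obtain ⟨t, ht⟩ := hRg k
    have ht0 : t = 0 := Subsingleton.elim _ _
    rw [← ht, ht0]
    exact map_zero _
  -- the good pieces cover
  have hcovgood : ∀ v : V.left, ∃ k, good k ∧ v ∈ Set.range (g k).left := by
    intro v
    obtain ⟨z, hz, hvz⟩ := hV v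
    obtain ⟨k, y, hy⟩ := hcov z
    have hw : (g k).left ≫ V.hom = (Wf k).hom := MorphismProperty.Over.w (g k)
    refine ⟨k, ⟨y, ?_⟩, ?_⟩
    · rw [← hw]
      show V.hom.base ((g k).left.base y) ∉ Set.range j.base
      have hy' : (g k).left.base y = z := hy
      rw [hy']
      exact hz
    · have hvz' : v ⤳ (g k).left y := by
        rw [hy]
        exact hvz
      obtain ⟨y', -, hy'⟩ := Flat.generalizingMap (g k).left hvz'
      exact ⟨y', hy'⟩
  classical
  let t : Finset (Fin n) := Finset.univ.filter good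
  let e₀ : Fin t.card → {k // k ∈ t} := t.equivFin.symm
  have hmem : Sieve.ofArrows (fun m : Fin t.card => Wf (e₀ m).1) (fun m => g (e₀ m).1) ∈ J V := by
    refine ofArrows_mem _ _ (fun m => ?_) (fun v => ?_)
    · haveI := haff (e₀ m).1
      infer_instance
    · obtain ⟨k, hk, hvk⟩ := hcovgood v
      have hkt : k ∈ t := Finset.mem_filter.mpr ⟨Finset.mem_univ _, hk⟩
      refine ⟨t.equivFin ⟨k, hkt⟩, ?_⟩
      have he : e₀ (t.equivFin ⟨k, hkt⟩) = ⟨k, hkt⟩ := t.equivFin.symm_apply_apply _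
      rw [he]
      exact hvk
  refine (hsh _ hmem).isSeparatedFor.ext (fun Y f hf => ?_)
  obtain ⟨Y', h, g', ⟨m⟩, rfl⟩ := hf
  have hm : good (e₀ m).1 := (Finset.mem_filter.mp (e₀ m).2).2
  show (sheafify J Q).map (h ≫ g (e₀ m).1).op s = (sheafify J Q).map (h ≫ g (e₀ m).1).op 0
  rw [op_comp, CategoryTheory.Functor.map_comp_apply, hgood _ hm, map_zero, map_zero]


end ExtZero

variable {X : Scheme.{u}}

section General

/-- restriction to one piece of a disjoint cover is bijective when the sections over the other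
pieces vanish -/
lemma bijective_restrict_of_disjointCover {B : X.ProEt} {I : Type*} [DecidableEq I]
    {Xs : I → X.ProEt}
    {π : ∀ i, Xs i ⟶ B} (h : IsDisjointCover (Scheme.ProEt.topology X) Xs π)
    (G : EtModW.ModP Λ X) (i₀ : I)
    (hsub : ∀ i, i ≠ i₀ → Subsingleton (G.obj.obj (op (Xs i)))) :
    Function.Bijective (G.obj.map (π i₀).op) := by
  have hG : Presieve.IsSheaf (Scheme.ProEt.topology X) (G.obj ⋙ forget (ModuleCat.{u + 1} Λ)) :=
    (isSheaf_iff_isSheaf_of_type _ _).mp
      ((Presheaf.isSheaf_iff_isSheaf_forget _ _ (forget (ModuleCat.{u + 1} Λ))).mp G.property)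
  constructor
  · intro t t' htt
    obtain ⟨s, -, hs⟩ := existsUnique_glue h hG
      (fun i => (G.obj ⋙ forget (ModuleCat.{u + 1} Λ)).map (π i).op t')
    have h1 : t = s := hs t (fun i => by
      by_cases hi : i = i₀
      · subst hi; exact htt
      · haveI := hsub i hi; exact Subsingleton.elim (α := G.obj.obj (op (Xs i))) _ _)
    have h2 : t' = s := hs t' (fun i => rfl)
    rw [h1, h2]
  · intro a
    let x : ∀ i, (G.obj ⋙ forget (ModuleCat.{u + 1} Λ)).obj (op (Xs i)) :=
      Function.update (fun i => (0 : G.obj.obj (op (Xs i)))) i₀ a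
    obtain ⟨t, ht, -⟩ := existsUnique_glue h hG x
    refine ⟨t, ?_⟩
    have h1 := ht i₀
    have h2 : x i₀ = a := Function.update_self _ _ _
    rw [h2] at h1
    exact h1

end General

section Sections

variable {U : Scheme.{u}} (j : U ⟶ X) [IsOpenImmersion j] [QuasiCompact j]

/-- sections over an object of the pro-étale site of `X` -/
noncomputable abbrev secF (X : Scheme.{u}) (V : X.ProEt) : EtModW.ModP Λ X ⥤ (ModuleCat.{u + 1} Λ) :=
  sheafToPresheaf (Scheme.ProEt.topology X) (ModuleCat.{u + 1} Λ) ⋙ (evaluation _ _).obj (op V)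

variable [ProEtS.JPCont j]

theorem exists_sections_iso (V : X.ProEt) (hV : wlProp X V) :
    ∃ V' : U.ProEt, Nonempty (extZeroM Λ j ⋙ secF Λ X V ≅ secF Λ U V') := by
  obtain ⟨haff, hsplit⟩ := hV
  haveI := haff
  haveI : Mono j := inferInstance
  let O : Set V.left := V.hom ⁻¹' Set.range j
  have hOo : IsOpen O := j.isOpenEmbedding.isOpen_range.preimage V.hom.continuous
  obtain ⟨T, hTc, hTO, hT⟩ := hsplit O hOo (isCompact_preimage_range j V)
  let T₀ : V.left.Opens := ⟨T, hTc.isOpen⟩
  let T₁ : V.left.Opens := ⟨Tᶜ, hTc.compl.isOpen⟩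
  let W : Fin 2 → V.left.Opens := fun k => if k = 0 then T₀ else T₁
  have hW0 : W 0 = T₀ := if_pos rfl
  have hW1 : ∀ k, k ≠ 0 → W k = T₁ := fun k hk => if_neg hk
  have hclopen : ∀ k, IsClopen ((W k : Set V.left)) := by
    intro k
    by_cases hk : k = 0
    · subst hk; rw [hW0]; exact hTc
    · rw [hW1 k hk]; exact hTc.compl
  have hdisj : Pairwise (fun k l => Disjoint (W k : Set V.left) (W l)) := by
    intro k l hkl
    by_cases hk : k = 0
    · have hl : l ≠ 0 := fun hl => hkl (hk.trans hl.symm)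
      rw [hk, hW0, hW1 l hl]
      exact disjoint_compl_right
    · by_cases hl : l = 0
      · rw [hl, hW0, hW1 k hk]
        exact disjoint_compl_left
      · exfalso
        apply hkl
        have h2 : ∀ m : Fin 2, m ≠ 0 → m = 1 := by decide
        rw [h2 k hk, h2 l hl]
  have hcover : (⋃ k, (W k : Set V.left)) = Set.univ := by
    apply Set.eq_univ_of_forall
    intro x
    by_cases hx : x ∈ T
    · exact Set.mem_iUnion.mpr ⟨0, by rw [hW0]; exact hx⟩
    · exact Set.mem_iUnion.mpr ⟨1, by rw [hW1 1 (by decide)]; exact hx⟩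
  have dc := isDisjointCover_of_clopen V W hclopen hdisj hcover
  -- vanishing on the second piece
  have hvan : ∀ (F : EtModW.ModP Λ U) (k : Fin 2), k ≠ 0 →
      Subsingleton (((extZeroM Λ j).obj F).obj.obj
        (op (Scheme.ProEt.mk ((W k).ι ≫ V.hom)))) := by
    intro F k hk
    have hWk : W k = T₁ := hW1 k hk
    haveI : IsAffine (Scheme.ProEt.mk ((W k).ι ≫ V.hom)).left :=
      (isAffineOpen_of_isClopen (W k) (hclopen k).isClosed : IsAffine (W k).toScheme)
    refine main732' Λ j (Scheme.ProEt.mk ((W k).ι ≫ V.hom)) (fun v => ?_) F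
    have hset : ((W k : V.left.Opens) : Set V.left) = Tᶜ := by rw [hWk]; rfl
    have hv : (W k).ι v ∉ T := by
      have hv2 : (W k).ι v ∈ Set.range (W k).ι := ⟨v, rfl⟩
      rw [Scheme.Opens.range_ι] at hv2
      have hv3 : (W k).ι v ∈ Tᶜ := by rw [← hset]; exact hv2
      exact hv3
    obtain ⟨z, hzO, hvz⟩ := hT _ hv
    have hzT : z ∈ Set.range (W k).ι := by
      rw [Scheme.Opens.range_ι, hset]; exact fun hz => hzO (hTO hz)
    obtain ⟨z', rfl⟩ := hzT
    refine ⟨z', hzO, ?_⟩
    exact ((W k).ι.isOpenEmbedding.isInducing.specializes_iff).1 hvz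
  -- the iso chain
  let V₁ : X.ProEt := Scheme.ProEt.mk ((W 0).ι ≫ V.hom)
  let ι₁ : V₁ ⟶ V := MorphismProperty.Over.homMk (W 0).ι
  let τ : extZeroM Λ j ⋙ secF Λ X V ⟶ extZeroM Λ j ⋙ secF Λ X V₁ :=
    Functor.whiskerLeft (extZeroM Λ j)
      (Functor.whiskerLeft (sheafToPresheaf _ _) ((evaluation _ _).map ι₁.op))
  haveI : IsIso τ := by
    refine @NatIso.isIso_of_isIso_app _ _ _ _ _ _ _ (fun F => ?_)
    have hb : Function.Bijective (((extZeroM Λ j).obj F).obj.map ι₁.op) :=
      bijective_restrict_of_disjointCover Λ dc ((extZeroM Λ j).obj F) 0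
        (fun k hk => hvan F k hk)
    exact (ConcreteCategory.isIso_iff_bijective _).2 hb
  have hrange : Set.range ((W 0).ι ≫ V.hom) ⊆ Set.range j := by
    rintro _ ⟨x, rfl⟩
    have hset0 : ((W 0 : V.left.Opens) : Set V.left) = T := by rw [hW0]; rfl
    have hx : (W 0).ι x ∈ T := by
      have hx2 : (W 0).ι x ∈ Set.range (W 0).ι := ⟨x, rfl⟩
      rw [Scheme.Opens.range_ι] at hx2
      rw [← hset0]; exact hx2
    exact hTO hx
  let l := IsOpenImmersion.lift j ((W 0).ι ≫ V.hom) hrange
  have hl : l ≫ j = (W 0).ι ≫ V.hom := IsOpenImmersion.lift_fac j _ hrange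
  haveI : WeaklyEtale l := by
    haveI : WeaklyEtale (l ≫ j) := by rw [hl]; infer_instance
    exact WeaklyEtale.of_comp l j
  let V₁' : U.ProEt := Scheme.ProEt.mk l
  let e₁ : V₁ ≅ (ProEtS.compP j).obj V₁' :=
    MorphismProperty.Over.isoMk (Iso.refl _) (by
      show 𝟙 _ ≫ (l ≫ j) = (W 0).ι ≫ V.hom
      rw [Category.id_comp, hl])
  let iso2 : extZeroM Λ j ⋙ secF Λ X V₁ ≅
      extZeroM Λ j ⋙ secF Λ X ((ProEtS.compP j).obj V₁') :=
    Functor.isoWhiskerLeft (extZeroM Λ j)
      (Functor.isoWhiskerLeft (sheafToPresheaf _ _) ((evaluation _ _).mapIso e₁.symm.op))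
  let iso3 : extZeroM Λ j ⋙ secF Λ X ((ProEtS.compP j).obj V₁') ≅
      (extZeroM Λ j ⋙ restrM Λ j) ⋙ secF Λ U V₁' := Iso.refl _
  haveI := isIso_unit_extZeroM Λ j
  let iso4 : (extZeroM Λ j ⋙ restrM Λ j) ⋙ secF Λ U V₁' ≅ 𝟭 _ ⋙ secF Λ U V₁' :=
    Functor.isoWhiskerRight (asIso (extZeroMAdj Λ j).unit).symm (secF Λ U V₁')
  exact ⟨V₁', ⟨asIso τ ≪≫ iso2 ≪≫ iso3 ≪≫ iso4 ≪≫ Functor.leftUnitor _⟩⟩

/-- the statement of S0731 -/
theorem main731 (K : Type u) [SmallCategory K] :
    PreservesLimitsOfShape K (extZeroM Λ j) := by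
  refine ⟨fun {D} => ?_⟩
  haveI : IsIso (limit.post D (extZeroM Λ j)) := by
    refine Functor.IsCoverDense.iso_of_restrict_iso (G := (wlProp X).ι) _ ?_
    refine @NatIso.isIso_of_isIso_app _ _ _ _ _ _ _ (fun V => ?_)
    obtain ⟨V', ⟨e⟩⟩ := exists_sections_iso Λ j V.unop.obj V.unop.property
    haveI : PreservesLimit D (secF Λ U V') := inferInstance
    haveI : PreservesLimit D (extZeroM Λ j ⋙ secF Λ X V.unop.obj) :=
      preservesLimit_of_natIso D e.symm
    have h1 : (secF Λ X V.unop.obj).map (limit.post D (extZeroM Λ j)) ≫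
        limit.post (D ⋙ extZeroM Λ j) (secF Λ X V.unop.obj) =
          limit.post D (extZeroM Λ j ⋙ secF Λ X V.unop.obj) := limit.post_post _ _ _
    haveI : IsIso ((secF Λ X V.unop.obj).map (limit.post D (extZeroM Λ j)) ≫
        limit.post (D ⋙ extZeroM Λ j) (secF Λ X V.unop.obj)) := by
      rw [h1]; infer_instance
    exact IsIso.of_isIso_comp_right ((secF Λ X V.unop.obj).map (limit.post D (extZeroM Λ j)))
      (limit.post (D ⋙ extZeroM Λ j) (secF Λ X V.unop.obj))
  exact preservesLimit_of_isIso_post _ _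

end Sections

end H9FE.ProEtWM
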