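import Mathlib
import Groth.Prelude.Def_EtModW
import Groth.Prelude.Def_ARSys
import Groth.Agent.Lib.Helper9.FE.ProEtWM1
import Groth.Agent.Lib.Helper9.FE.AdicEps
/-! helper9: extension by zero along a quasi-compact open immersion commutes with `ε⁻¹` on sheaves of modules, preserves
quotient maps modulo ideals and commutes with limits; hence `j_!` of an adic pro-étale sheaf is an adic pro-étale sheaf
(S14030). -/

universe u

set_option autoImplicit false
set_option linter.unusedSectionVars false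
set_option linter.style.haveILetI false
set_option backward.isDefEq.respectTransparency false

open CategoryTheory CategoryTheory.Limits AlgebraicGeometry Opposite

namespace H9FE.Adic

open H9FE.ProEtWM

variable (Λ : Type (u + 1)) [CommRing Λ]
variable {U X : Scheme.{u}} (j : U ⟶ X) [IsOpenImmersion j] [QuasiCompact j] [hje : Etale j]
  [WeaklyEtale j] [ProEtS.EpsCont U] [ProEtS.EpsCont X] [ProEtS.JPCont j]
  [(MorphismProperty.Over.map (P := EtCoh.etaleMP.{u}) ⊤ (f := j) hje).IsContinuous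
    U.smallEtaleTopology X.smallEtaleTopology]
  [((MorphismProperty.Over.map (P := EtCoh.etaleMP.{u}) ⊤ (f := j) hje).sheafPushforwardContinuous
    (ModuleCat.{u + 1} Λ) U.smallEtaleTopology X.smallEtaleTopology).IsRightAdjoint]

/-- étale extension by zero on sheaves of modules. -/
noncomputable abbrev extZeroEt : EtModW.Mod Λ U ⥤ EtModW.Mod Λ X :=
  (MorphismProperty.Over.map (P := EtCoh.etaleMP.{u}) ⊤ (f := j) hje).sheafPullback
    (ModuleCat.{u + 1} Λ) U.smallEtaleTopology X.smallEtaleTopology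

/-- `j_! ε⁻¹ ≅ ε⁻¹ j_!`. -/
noncomputable def shriekComm :
    EtModW.epsPullMod Λ U ⋙ extZeroM Λ j ≅ extZeroEt Λ j ⋙ EtModW.epsPullMod Λ X :=
  ((adjM Λ U).comp (extZeroMAdj Λ j)).leftAdjointUniq
    (((MorphismProperty.Over.map (P := EtCoh.etaleMP.{u}) ⊤ (f := j) hje).sheafAdjunctionContinuous
      (ModuleCat.{u + 1} Λ) U.smallEtaleTopology X.smallEtaleTopology).comp (adjM Λ X))

theorem adicP_extZero (I : Ideal Λ)
    (hext : ∀ E : EtModW.Mod Λ U, EtModW.IsConstructible Λ E →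
      EtModW.IsConstructible Λ ((extZeroEt Λ j).obj E))
    (F : EtModW.ModP Λ U)
    (hF : (∃ (Q : ℕᵒᵖ ⥤ EtModW.ModP Λ U) (p : (Functor.const ℕᵒᵖ).obj F ⟶ Q),
        (∀ n : ℕ, ARSys.IsQuot (I ^ (n + 1)) (p.app (op n))) ∧
        (∀ n : ℕ, ∃ E : EtModW.Mod Λ U, EtModW.IsConstructible Λ E ∧
          Nonempty ((EtModW.epsPullMod Λ U).obj E ≅ Q.obj (op n))) ∧
        IsIso (limit.lift Q (Cone.mk F p)))) :
    (∃ (Q : ℕᵒᵖ ⥤ EtModW.ModP Λ X)
      (p : (Functor.const ℕᵒᵖ).obj ((extZeroM Λ j).obj F) ⟶ Q),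
      (∀ n : ℕ, ARSys.IsQuot (I ^ (n + 1)) (p.app (op n))) ∧
      (∀ n : ℕ, ∃ E : EtModW.Mod Λ X, EtModW.IsConstructible Λ E ∧
        Nonempty ((EtModW.epsPullMod Λ X).obj E ≅ Q.obj (op n))) ∧
      IsIso (limit.lift Q (Cone.mk ((extZeroM Λ j).obj F) p))) := by
  obtain ⟨Q, p, hp, hE, hiso⟩ := hF
  let p' : (Functor.const ℕᵒᵖ).obj ((extZeroM Λ j).obj F) ⟶ Q ⋙ extZeroM Λ j :=
    { app := fun n => (extZeroM Λ j).map (p.app n)
      naturality := fun a b f => by
        show 𝟙 _ ≫ (extZeroM Λ j).map (p.app b) =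
          (extZeroM Λ j).map (p.app a) ≫ (extZeroM Λ j).map (Q.map f)
        rw [Category.id_comp, ← (extZeroM Λ j).map_comp]
        congr 1
        exact (Category.id_comp _).symm.trans (p.naturality f) }
  refine ⟨Q ⋙ extZeroM Λ j, p', fun n => ?_, fun n => ?_, ?_⟩
  · exact isQuot_map (extZeroMAdj Λ j) (fun a φ => rfl) (hp n)
  · obtain ⟨E, hEc, ⟨e⟩⟩ := hE n
    exact ⟨(extZeroEt Λ j).obj E, hext E hEc,
      ⟨((shriekComm Λ j).app E).symm ≪≫ (extZeroM Λ j).mapIso e⟩⟩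
  · haveI : IsIso ((limit.isLimit Q).lift (Cone.mk F p)) := hiso
    have hlim : IsLimit (Cone.mk F p) := IsLimit.ofPointIso (limit.isLimit Q)
    haveI := main731 Λ j (ULiftHom.{u} (ULift.{u} ℕᵒᵖ))
    haveI : PreservesLimitsOfShape ℕᵒᵖ (extZeroM Λ j) :=
      preservesLimitsOfShape_of_equiv (ULiftHomULiftCategory.equiv.{u, u} ℕᵒᵖ).symm _
    have hlim' : IsLimit ((extZeroM Λ j).mapCone (Cone.mk F p)) :=
      isLimitOfPreserves (extZeroM Λ j) hlim
    have hlim'' : IsLimit (Cone.mk ((extZeroM Λ j).obj F) p') :=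
      IsLimit.ofIsoLimit hlim' (Cone.ext (Iso.refl _) (fun n => by
        show (extZeroM Λ j).map (p.app n) = 𝟙 _ ≫ (extZeroM Λ j).map (p.app n)
        rw [Category.id_comp]))
    have h1 : limit.lift (Q ⋙ extZeroM Λ j) (Cone.mk ((extZeroM Λ j).obj F) p') =
        (hlim''.conePointUniqueUpToIso (limit.isLimit _)).hom := rfl
    rw [h1]
    infer_instance

end H9FE.Adic
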