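import Mathlib
import Groth.Prelude.Def_EtCore
import Groth.Agent.Lib.Helper9.FE.HpullComp

/-! helper9: pullback on étale cohomology along a composite `a ≫ b` equals the composite of the
pullbacks up to an explicit bijection (pre/post-composition with isomorphisms in degree zero);
no coherence between `pullConst` and `pullComp` is needed. -/

set_option autoImplicit false
universe w v u
open CategoryTheory CategoryTheory.Limits Abelian

namespace H9FE.HpullCompEq

set_option linter.style.haveILetI false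

section Gen

variable {C : Type u} [Category.{v} C] [Abelian C] [HasExt.{w} C]

lemma mk₀_comp_mk₀_comp {A B D Y : C} (f : A ⟶ B) (g : B ⟶ D) {n : ℕ} (x : Ext.{w} D Y n) :
    (Ext.mk₀ f).comp ((Ext.mk₀ g).comp x (zero_add n)) (zero_add n) =
      (Ext.mk₀ (f ≫ g)).comp x (zero_add n) := by
  rw [← Ext.mk₀_comp_mk₀]
  exact (Ext.comp_assoc_of_second_deg_zero (Ext.mk₀ f) (Ext.mk₀ g) x (zero_add n)).symm

lemma comp_mk₀_comp_mk₀ {X A B D : C} (f : A ⟶ B) (g : B ⟶ D) {n : ℕ} (x : Ext.{w} X A n) :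
    (x.comp (Ext.mk₀ f) (add_zero n)).comp (Ext.mk₀ g) (add_zero n) =
      x.comp (Ext.mk₀ (f ≫ g)) (add_zero n) := by
  rw [← Ext.mk₀_comp_mk₀]
  exact Ext.comp_assoc_of_third_deg_zero x (Ext.mk₀ f) (Ext.mk₀ g) (add_zero n)

lemma mk₀_comp_comp_mk₀ {A B Y Y' : C} (f : A ⟶ B) (g : Y ⟶ Y') {n : ℕ} (x : Ext.{w} B Y n) :
    ((Ext.mk₀ f).comp x (zero_add n)).comp (Ext.mk₀ g) (add_zero n) =
      (Ext.mk₀ f).comp (x.comp (Ext.mk₀ g) (add_zero n)) (zero_add n) :=
  Ext.comp_assoc_of_third_deg_zero (Ext.mk₀ f) x (Ext.mk₀ g) (zero_add n)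

lemma precomp_iso_bijective {A B Y : C} (a : A ≅ B) (n : ℕ) :
    Function.Bijective (fun e : Ext.{w} B Y n => (Ext.mk₀ a.hom).comp e (zero_add n)) := by
  refine Function.bijective_iff_has_inverse.2
    ⟨fun e' => (Ext.mk₀ a.inv).comp e' (zero_add n), ?_, ?_⟩
  · intro e
    change (Ext.mk₀ a.inv).comp ((Ext.mk₀ a.hom).comp e (zero_add n)) (zero_add n) = e
    rw [mk₀_comp_mk₀_comp, Iso.inv_hom_id, Ext.mk₀_id_comp]
  · intro e
    change (Ext.mk₀ a.hom).comp ((Ext.mk₀ a.inv).comp e (zero_add n)) (zero_add n) = e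
    rw [mk₀_comp_mk₀_comp, Iso.hom_inv_id, Ext.mk₀_id_comp]

lemma postcomp_iso_bijective {X A B : C} (a : A ≅ B) (n : ℕ) :
    Function.Bijective (fun e : Ext.{w} X A n => e.comp (Ext.mk₀ a.hom) (add_zero n)) := by
  refine Function.bijective_iff_has_inverse.2
    ⟨fun e' => e'.comp (Ext.mk₀ a.inv) (add_zero n), ?_, ?_⟩
  · intro e
    change (e.comp (Ext.mk₀ a.hom) (add_zero n)).comp (Ext.mk₀ a.inv) (add_zero n) = e
    rw [comp_mk₀_comp_mk₀, Iso.hom_inv_id, Ext.comp_mk₀_id]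
  · intro e
    change (e.comp (Ext.mk₀ a.inv) (add_zero n)).comp (Ext.mk₀ a.hom) (add_zero n) = e
    rw [comp_mk₀_comp_mk₀, Iso.inv_hom_id, Ext.comp_mk₀_id]

end Gen

section Et

open AlgebraicGeometry H9FE.HpullComp

variable {X Y Z : Scheme.{u}} (a : X ⟶ Y) (b : Y ⟶ Z)

/-- the automorphism of `ℤ_X` comparing `pullConst (a ≫ b)` with `pullConst a`, `pullConst b`
and `pullComp a b` (it is the identity, but we never need this) -/
noncomputable def eps : EtCoh.const X ℤ ≅ EtCoh.const X ℤ :=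
  (EtCore.pullConst (a ≫ b) ℤ).symm ≪≫ (EtCore.pullComp a b).app (EtCoh.const Z ℤ) ≪≫
    (EtCoh.pull a).mapIso (EtCore.pullConst b ℤ) ≪≫ EtCore.pullConst a ℤ

variable [PreservesFiniteLimits (EtCoh.pull a)] [PreservesFiniteLimits (EtCoh.pull b)]
  [PreservesFiniteLimits (EtCoh.pull (a ≫ b))]

/-- the bijection `H^n(X, a⁻¹b⁻¹G) → H^n(X, (a ≫ b)⁻¹G)` -/
noncomputable def phi (G : EtCoh.Ab Z) (n : ℕ) :
    EtCoh.H X ((EtCoh.pull a).obj ((EtCoh.pull b).obj G)) n →
      EtCoh.H X ((EtCoh.pull (a ≫ b)).obj G) n :=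
  fun β => (Ext.mk₀ (eps a b).hom).comp
    (β.comp (Ext.mk₀ ((EtCore.pullComp a b).inv.app G)) (add_zero n)) (zero_add n)

omit [PreservesFiniteLimits (EtCoh.pull a)] [PreservesFiniteLimits (EtCoh.pull b)]
  [PreservesFiniteLimits (EtCoh.pull (a ≫ b))] in
lemma phi_bijective (G : EtCoh.Ab Z) (n : ℕ) : Function.Bijective (phi a b G n) :=
  (precomp_iso_bijective (eps a b) n).comp
    (postcomp_iso_bijective ((EtCore.pullComp a b).symm.app G) n)

theorem Hpull_comp_eq (G : EtCoh.Ab Z) (n : ℕ) (α : EtCoh.H Z G n) :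
    EtCore.Hpull (a ≫ b) G n α =
      phi a b G n (EtCore.Hpull a _ n (EtCore.Hpull b G n α)) := by
  -- the class `x`
  have hnat := mapExactFunctor_naturality (EtCoh.pull (a ≫ b)) (EtCoh.pull b ⋙ EtCoh.pull a)
    (EtCore.pullComp a b).hom n α
  have hcf := mapExactFunctor_comp_functor (EtCoh.pull b) (EtCoh.pull a) n α
  set x := (α.mapExactFunctor (EtCoh.pull b)).mapExactFunctor (EtCoh.pull a) with hx
  rw [hcf] at hnat
  -- solve for `α.mapExactFunctor (pull (a ≫ b))`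
  have h1 : α.mapExactFunctor (EtCoh.pull (a ≫ b)) =
      ((Ext.mk₀ ((EtCore.pullComp a b).hom.app (EtCoh.const Z ℤ))).comp x (zero_add n)).comp
        (Ext.mk₀ ((EtCore.pullComp a b).inv.app G)) (add_zero n) := by
    rw [← hnat, comp_mk₀_comp_mk₀, Iso.hom_inv_id_app, Ext.comp_mk₀_id]
  -- left side
  have hL : EtCore.Hpull (a ≫ b) G n α =
      (Ext.mk₀ ((EtCore.pullConst (a ≫ b) ℤ).inv ≫
        (EtCore.pullComp a b).hom.app (EtCoh.const Z ℤ))).comp
        (x.comp (Ext.mk₀ ((EtCore.pullComp a b).inv.app G)) (add_zero n)) (zero_add n) := by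
    change (Ext.mk₀ (EtCore.pullConst (a ≫ b) ℤ).inv).comp
      (α.mapExactFunctor (EtCoh.pull (a ≫ b))) (zero_add n) = _
    rw [h1, mk₀_comp_comp_mk₀, mk₀_comp_mk₀_comp]
  -- right side
  have hR0 : EtCore.Hpull a _ n (EtCore.Hpull b G n α) =
      (Ext.mk₀ ((EtCore.pullConst a ℤ).inv ≫
        (EtCoh.pull a).map (EtCore.pullConst b ℤ).inv)).comp x (zero_add n) := by
    change (Ext.mk₀ (EtCore.pullConst a ℤ).inv).comp
      (((Ext.mk₀ (EtCore.pullConst b ℤ).inv).comp (α.mapExactFunctor (EtCoh.pull b))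
        (zero_add n)).mapExactFunctor (EtCoh.pull a)) (zero_add n) = _
    rw [Ext.mapExactFunctor_comp, Ext.mapExactFunctor_mk₀, mk₀_comp_mk₀_comp]
  have hR : phi a b G n (EtCore.Hpull a _ n (EtCore.Hpull b G n α)) =
      (Ext.mk₀ ((eps a b).hom ≫ (EtCore.pullConst a ℤ).inv ≫
        (EtCoh.pull a).map (EtCore.pullConst b ℤ).inv)).comp
        (x.comp (Ext.mk₀ ((EtCore.pullComp a b).inv.app G)) (add_zero n)) (zero_add n) := by
    rw [hR0]
    change (Ext.mk₀ (eps a b).hom).comp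
      (((Ext.mk₀ ((EtCore.pullConst a ℤ).inv ≫
        (EtCoh.pull a).map (EtCore.pullConst b ℤ).inv)).comp x (zero_add n)).comp
        (Ext.mk₀ ((EtCore.pullComp a b).inv.app G)) (add_zero n)) (zero_add n) = _
    rw [mk₀_comp_comp_mk₀, mk₀_comp_mk₀_comp]
  have hε : (eps a b).hom ≫ (EtCore.pullConst a ℤ).inv ≫
      (EtCoh.pull a).map (EtCore.pullConst b ℤ).inv =
      (EtCore.pullConst (a ≫ b) ℤ).inv ≫
        (EtCore.pullComp a b).hom.app (EtCoh.const Z ℤ) := by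
    have e1 : (eps a b).hom = (EtCore.pullConst (a ≫ b) ℤ).inv ≫
        (EtCore.pullComp a b).hom.app (EtCoh.const Z ℤ) ≫
        (EtCoh.pull a).map (EtCore.pullConst b ℤ).hom ≫ (EtCore.pullConst a ℤ).hom := rfl
    rw [e1]
    simp only [Category.assoc]
    rw [Iso.hom_inv_id_assoc, ← Functor.map_comp, Iso.hom_inv_id,
      CategoryTheory.Functor.map_id]
    exact congrArg (fun z => (EtCore.pullConst (a ≫ b) ℤ).inv ≫ z) (Category.comp_id _)
  rw [hL, hR, hε]

/-- version with an arbitrary factorization `a ≫ b = h` -/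
theorem exists_bijective_Hpull_comp {h : X ⟶ Z} (w : a ≫ b = h)
    [PreservesFiniteLimits (EtCoh.pull h)] (G : EtCoh.Ab Z) (n : ℕ) :
    ∃ φ : EtCoh.H X ((EtCoh.pull a).obj ((EtCoh.pull b).obj G)) n →
        EtCoh.H X ((EtCoh.pull h).obj G) n,
      Function.Bijective φ ∧ ∀ α : EtCoh.H Z G n,
        EtCore.Hpull h G n α = φ (EtCore.Hpull a _ n (EtCore.Hpull b G n α)) := by
  subst w
  exact ⟨phi a b G n, phi_bijective a b G n, Hpull_comp_eq a b G n⟩

end Et

end H9FE.HpullCompEq
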