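import Mathlib
import Groth.Agent.Lib.Helper9.FE.ExtFilteredColim
import Groth.Agent.Lib.Helper9.FE.HpullComp
import Groth.Agent.Lib.Helper9.FE.HpullCompEq

/-! helper9: `Ext`-groups and adjunctions `L ⊣ R` between abelian categories with `L` exact:
the map `hp : Ext(Z, G) → Ext(Z', L G)` (apply `L`, precompose with `Z' ≅ L Z`), the map
`htr θ : Ext(Z, A) → Ext(Z', A')` attached to `θ : A ⟶ R A'`, compatibility with connecting
homomorphisms, and compatibility with composition of adjunctions. -/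

set_option autoImplicit false
set_option linter.unusedSectionVars false
set_option linter.style.haveILetI false
universe w w' w'' v v' v'' u u' u''
open CategoryTheory Limits Abelian

namespace H9FE.AdjExt
open H9FE.ExtFilteredColim H9FE.HpullComp H9FE.HpullCompEq

section One

variable {𝒜 : Type u} [Category.{v} 𝒜] [Abelian 𝒜] [HasExt.{w} 𝒜]
  {ℬ : Type u'} [Category.{v'} ℬ] [Abelian ℬ] [HasExt.{w'} ℬ]
  (L : 𝒜 ⥤ ℬ) [L.Additive] [PreservesFiniteLimits L] [PreservesFiniteColimits L]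
  {Z : 𝒜} {Z' : ℬ} (e : L.obj Z ≅ Z')

/-- apply the exact functor `L` to an `Ext`-class out of `Z` and precompose with `Z' ≅ L Z` -/
noncomputable def hp (G : 𝒜) (n : ℕ) : Ext.{w} Z G n →+ Ext.{w'} Z' (L.obj G) n :=
  AddMonoidHom.comp
    (AddMonoidHom.mk' (fun x => (Ext.mk₀ e.inv).comp x (zero_add n))
      (fun _ _ => Ext.comp_add _ _ _ _))
    (L.mapExtAddHom _ _ n)

lemma hp_apply (G : 𝒜) (n : ℕ) (x : Ext.{w} Z G n) :
    hp L e G n x = (Ext.mk₀ e.inv).comp (x.mapExactFunctor L) (zero_add n) := rfl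

lemma hp_push {G G' : 𝒜} (ψ : G ⟶ G') (n : ℕ) (x : Ext.{w} Z G n) :
    hp L e G' n (push ψ x) = push (L.map ψ) (hp L e G n x) := by
  rw [hp_apply, hp_apply]
  unfold push
  rw [Ext.mapExactFunctor_comp, Ext.mapExactFunctor_mk₀]
  exact (Ext.comp_assoc_of_third_deg_zero _ _ _ _).symm

lemma hp_delta {S : ShortComplex 𝒜} (hS : S.ShortExact) {n n' : ℕ} (h : n + 1 = n')
    (z : Ext.{w} Z S.X₃ n) :
    hp L e S.X₁ n' (z.comp hS.extClass h) =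
      (hp L e S.X₃ n z).comp (hS.map_of_exact L).extClass h := by
  rw [hp_apply, hp_apply, Ext.mapExactFunctor_comp, Ext.mapExactFunctor_extClass]
  exact (Ext.comp_assoc (a₁ := 0) (a₂ := n) (a₃ := 1) _ _ _ (zero_add n) h (by omega)).symm

variable {R : ℬ ⥤ 𝒜} (adj : L ⊣ R)

/-- the transpose of `θ : A ⟶ R A'` -/
def tp {A : 𝒜} {A' : ℬ} (θ : A ⟶ R.obj A') : L.obj A ⟶ A' := L.map θ ≫ adj.counit.app A'

lemma tp_eq {A : 𝒜} {A' : ℬ} (θ : A ⟶ R.obj A') : tp L adj θ = (adj.homEquiv A A').symm θ := by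
  rw [Adjunction.homEquiv_counit]; rfl

lemma tp_comp_right {A : 𝒜} {A' A'' : ℬ} (θ : A ⟶ R.obj A') (g : A' ⟶ A'') :
    tp L adj (θ ≫ R.map g) = tp L adj θ ≫ g := by
  unfold tp
  rw [L.map_comp, Category.assoc, Category.assoc]
  exact congrArg (fun z => L.map θ ≫ z) (adj.counit.naturality g)

lemma tp_comp_left {A₀ A : 𝒜} {A' : ℬ} (f : A₀ ⟶ A) (θ : A ⟶ R.obj A') :
    tp L adj (f ≫ θ) = L.map f ≫ tp L adj θ := by
  unfold tp
  rw [L.map_comp, Category.assoc]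

lemma tp_unit (A : 𝒜) : tp L adj (adj.unit.app A) = 𝟙 _ := adj.left_triangle_components A

/-- the map on `Ext`-groups attached to `θ : A ⟶ R A'` -/
noncomputable def htr {A : 𝒜} {A' : ℬ} (θ : A ⟶ R.obj A') (n : ℕ) :
    Ext.{w} Z A n →+ Ext.{w'} Z' A' n :=
  AddMonoidHom.comp
    (AddMonoidHom.mk' (fun x => push (tp L adj θ) x) (fun _ _ => push_add _ _ _))
    (hp L e A n)

lemma htr_apply {A : 𝒜} {A' : ℬ} (θ : A ⟶ R.obj A') (n : ℕ) (x : Ext.{w} Z A n) :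
    htr L e adj θ n x = push (tp L adj θ) (hp L e A n x) := rfl

lemma htr_comp_left {A₀ A : 𝒜} {A' : ℬ} (f : A₀ ⟶ A) (θ : A ⟶ R.obj A') (n : ℕ)
    (x : Ext.{w} Z A₀ n) : htr L e adj (f ≫ θ) n x = htr L e adj θ n (push f x) := by
  rw [htr_apply, htr_apply, tp_comp_left, hp_push, push_comp]

lemma htr_comp_right {A : 𝒜} {A' A'' : ℬ} (θ : A ⟶ R.obj A') (g : A' ⟶ A'') (n : ℕ)
    (x : Ext.{w} Z A n) : htr L e adj (θ ≫ R.map g) n x = push g (htr L e adj θ n x) := by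
  rw [htr_apply, htr_apply, tp_comp_right, push_comp]

/-- compatibility with connecting homomorphisms -/
lemma htr_delta {S : ShortComplex 𝒜} (hS : S.ShortExact) {S' : ShortComplex ℬ}
    (hS' : S'.ShortExact) (θ₁ : S.X₁ ⟶ R.obj S'.X₁) (θ₂ : S.X₂ ⟶ R.obj S'.X₂)
    (θ₃ : S.X₃ ⟶ R.obj S'.X₃) (c₁ : S.f ≫ θ₂ = θ₁ ≫ R.map S'.f)
    (c₂ : S.g ≫ θ₃ = θ₂ ≫ R.map S'.g) {n n' : ℕ} (h : n + 1 = n') (z : Ext.{w} Z S.X₃ n) :
    htr L e adj θ₁ n' (z.comp hS.extClass h) = (htr L e adj θ₃ n z).comp hS'.extClass h := by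
  let φ : S.map L ⟶ S' :=
    { τ₁ := tp L adj θ₁
      τ₂ := tp L adj θ₂
      τ₃ := tp L adj θ₃
      comm₁₂ := by
        change tp L adj θ₁ ≫ S'.f = L.map S.f ≫ tp L adj θ₂
        rw [← tp_comp_left, ← tp_comp_right, c₁]
      comm₂₃ := by
        change tp L adj θ₂ ≫ S'.g = L.map S.g ≫ tp L adj θ₃
        rw [← tp_comp_left, ← tp_comp_right, c₂] }
  rw [htr_apply, htr_apply, hp_delta L e hS h z]
  exact push_delta (hS.map_of_exact L) hS' φ h _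

end One

section Three

variable {𝒜 : Type u} [Category.{v} 𝒜] [Abelian 𝒜] [HasExt.{w} 𝒜] [EnoughInjectives 𝒜]
  {ℬ : Type u'} [Category.{v'} ℬ] [Abelian ℬ] [HasExt.{w'} ℬ]
  {𝒞 : Type u''} [Category.{v''} 𝒞] [Abelian 𝒞] [HasExt.{w''} 𝒞]
  (L₁ : 𝒜 ⥤ ℬ) [L₁.Additive] [PreservesFiniteLimits L₁] [PreservesFiniteColimits L₁]
  (L₂ : ℬ ⥤ 𝒞) [L₂.Additive] [PreservesFiniteLimits L₂] [PreservesFiniteColimits L₂]
  (L₃ : 𝒜 ⥤ 𝒞) [L₃.Additive] [PreservesFiniteLimits L₃] [PreservesFiniteColimits L₃]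
  {Z : 𝒜} {Z' : ℬ} {Z'' : 𝒞} (e₁ : L₁.obj Z ≅ Z') (e₂ : L₂.obj Z' ≅ Z'') (e₃ : L₃.obj Z ≅ Z'')
  (τ : L₃ ≅ L₁ ⋙ L₂)
  (he : e₃.hom = τ.hom.app Z ≫ L₂.map e₁.hom ≫ e₂.hom)

include he in
lemma hp_comp (G : 𝒜) (n : ℕ) (x : Ext.{w} Z G n) :
    hp L₂ e₂ (L₁.obj G) n (hp L₁ e₁ G n x) = push (τ.hom.app G) (hp L₃ e₃ G n x) := by
  have hnat := mapExactFunctor_naturality L₃ (L₁ ⋙ L₂) τ.hom n x
  have hcf := mapExactFunctor_comp_functor L₁ L₂ n x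
  have hinv : e₃.inv ≫ τ.hom.app Z = e₂.inv ≫ L₂.map e₁.inv := by
    rw [Iso.inv_comp_eq, he]
    simp only [Category.assoc, Iso.hom_inv_id_assoc]
    rw [← L₂.map_comp, Iso.hom_inv_id, L₂.map_id]
    exact (Category.comp_id _).symm
  rw [hp_apply, hp_apply, hp_apply]
  unfold push
  rw [Ext.mapExactFunctor_comp, Ext.mapExactFunctor_mk₀, mk₀_comp_mk₀_comp, ← hcf,
    mk₀_comp_comp_mk₀, hnat, mk₀_comp_mk₀_comp, hinv]

variable {R₁ : ℬ ⥤ 𝒜} {R₂ : 𝒞 ⥤ ℬ} {R₃ : 𝒞 ⥤ 𝒜} (adj₁ : L₁ ⊣ R₁) (adj₂ : L₂ ⊣ R₂) (adj₃ : L₃ ⊣ R₃)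
  (ρ : R₂ ⋙ R₁ ≅ R₃)
  (hτ : τ = Adjunction.leftAdjointUniq adj₃ ((adj₁.comp adj₂).ofNatIsoRight ρ))

include hτ in
lemma tp_comp {A : 𝒜} {A' : ℬ} {A'' : 𝒞} (θ : A ⟶ R₁.obj A') (θ' : A' ⟶ R₂.obj A'') :
    τ.hom.app A ≫ L₂.map (tp L₁ adj₁ θ) ≫ tp L₂ adj₂ θ' =
      tp L₃ adj₃ (θ ≫ R₁.map θ' ≫ ρ.hom.app A'') := by
  subst hτ
  set adj' := (adj₁.comp adj₂).ofNatIsoRight ρ with hadj'
  have h1 := Adjunction.leftAdjointUniq_hom_app_counit adj₃ adj' A''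
  have h2 := (Adjunction.leftAdjointUniq adj₃ adj').hom.naturality (θ ≫ R₁.map θ' ≫ ρ.hom.app A'')
  unfold tp
  rw [← h1, ← Category.assoc (L₃.map _), h2]
  have h3 : adj'.counit.app A'' = L₂.map (L₁.map (ρ.inv.app A'')) ≫
      L₂.map (adj₁.counit.app (R₂.obj A'')) ≫ adj₂.counit.app A'' := by
    simp [hadj', Adjunction.ofNatIsoRight_counit, Adjunction.comp_counit_app]
  rw [h3]
  simp only [Functor.comp_map, Category.assoc, Functor.map_comp]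
  congr 1
  simp only [← Functor.map_comp_assoc]
  rw [Iso.hom_inv_id_app]
  congr 2
  have e1 : θ ≫ R₁.map θ' ≫ 𝟙 ((R₂ ⋙ R₁).obj A'') = θ ≫ R₁.map θ' :=
    congrArg (fun z => θ ≫ z) (Category.comp_id (R₁.map θ'))
  rw [e1, L₁.map_comp, Category.assoc]
  exact congrArg (fun z => L₁.map θ ≫ z) (adj₁.counit.naturality θ').symm

include he hτ in
/-- compatibility of `htr` with composition of adjunctions -/
theorem htr_comp {A : 𝒜} {A' : ℬ} {A'' : 𝒞} (θ : A ⟶ R₁.obj A') (θ' : A' ⟶ R₂.obj A'') (n : ℕ)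
    (x : Ext.{w} Z A n) :
    htr L₂ e₂ adj₂ θ' n (htr L₁ e₁ adj₁ θ n x) =
      htr L₃ e₃ adj₃ (θ ≫ R₁.map θ' ≫ ρ.hom.app A'') n x := by
  rw [htr_apply, htr_apply, htr_apply, hp_push, hp_comp L₁ L₂ L₃ e₁ e₂ e₃ τ he A n x,
    ← push_comp, ← push_comp, ← tp_comp L₁ L₂ L₃ τ adj₁ adj₂ adj₃ ρ hτ θ θ']

end Three

end H9FE.AdjExt
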