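import Mathlib
import Groth.Agent.Lib.Helper9.FE.AdjExt

/-! helper9: `htr` in degree zero: explicit formula and bijectivity of `htr (𝟙)`. -/

set_option autoImplicit false
set_option linter.unusedSectionVars false
universe w w' v v' u u'
open CategoryTheory Limits Abelian

namespace H9FE.AdjExt
open H9FE.ExtFilteredColim

variable {𝒜 : Type u} [Category.{v} 𝒜] [Abelian 𝒜] [HasExt.{w} 𝒜]
  {ℬ : Type u'} [Category.{v'} ℬ] [Abelian ℬ] [HasExt.{w'} ℬ]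
  (L : 𝒜 ⥤ ℬ) [L.Additive] [PreservesFiniteLimits L] [PreservesFiniteColimits L]
  {Z : 𝒜} {Z' : ℬ} (e : L.obj Z ≅ Z') {R : ℬ ⥤ 𝒜} (adj : L ⊣ R)

lemma htr_mk₀ {A : 𝒜} {A' : ℬ} (θ : A ⟶ R.obj A') (φ : Z ⟶ A) :
    htr L e adj θ 0 (Ext.mk₀ φ) = Ext.mk₀ (e.inv ≫ L.map φ ≫ tp L adj θ) := by
  rw [htr_apply, hp_apply, Ext.mapExactFunctor_mk₀]
  unfold push
  rw [Ext.mk₀_comp_mk₀, Ext.mk₀_comp_mk₀, Category.assoc]

/-- in degree zero, `htr (𝟙)` is bijective -/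
lemma htr_id_zero_bijective (F : ℬ) :
    Function.Bijective (htr L e adj (𝟙 (R.obj F)) 0 : Ext.{w} Z (R.obj F) 0 → Ext.{w'} Z' F 0) := by
  constructor
  · intro x y hxy
    obtain ⟨φ, rfl⟩ := (Ext.mk₀_bijective Z (R.obj F)).2 x
    obtain ⟨ψ, rfl⟩ := (Ext.mk₀_bijective Z (R.obj F)).2 y
    rw [htr_mk₀, htr_mk₀] at hxy
    have h1 := (Ext.mk₀_bijective Z' F).1 hxy
    rw [Iso.cancel_iso_inv_left] at h1
    have h2 : tp L adj (φ ≫ 𝟙 (R.obj F)) = tp L adj (ψ ≫ 𝟙 (R.obj F)) := by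
      rw [tp_comp_left, tp_comp_left]; exact h1
    rw [Category.comp_id, Category.comp_id, tp_eq, tp_eq] at h2
    rw [(adj.homEquiv Z F).symm.injective h2]
  · intro y
    obtain ⟨ψ, rfl⟩ := (Ext.mk₀_bijective Z' F).2 y
    refine ⟨Ext.mk₀ (adj.homEquiv Z F (e.hom ≫ ψ)), ?_⟩
    rw [htr_mk₀]
    congr 1
    have h2 : L.map (adj.homEquiv Z F (e.hom ≫ ψ)) ≫ tp L adj (𝟙 (R.obj F)) =
        tp L adj (adj.homEquiv Z F (e.hom ≫ ψ) ≫ 𝟙 (R.obj F)) := (tp_comp_left L adj _ _).symm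
    rw [h2, Category.comp_id, tp_eq, Equiv.symm_apply_apply, Iso.inv_hom_id_assoc]

end H9FE.AdjExt
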