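import Mathlib

set_option autoImplicit false
universe u
open CategoryTheory AlgebraicGeometry

namespace H9FE
namespace AlgClosedPt
set_option linter.style.haveILetI false

/-- a ring map from an algebra integral over an algebraically closed field `k` to a field factors
through `k` -/
theorem exists_factor_of_isIntegral {k B Ω : Type u} [Field k] [IsAlgClosed k] [CommRing B] [Field Ω]
    (β : k →+* B) (hβ : β.IsIntegral) (ψ : B →+* Ω) :
    ∃ ψ₀ : B →+* k, (ψ.comp β).comp ψ₀ = ψ ∧ ψ₀.comp β = RingHom.id k := by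
  let ι : k →+* Ω := ψ.comp β
  have hι : Function.Injective ι := ι.injective
  let _ : Algebra k Ω := ι.toAlgebra
  have hex : ∀ b : B, ∃ c : k, ι c = ψ b := by
    intro b
    have hb : IsIntegral k (ψ b) := by
      obtain ⟨P, hP, hPb⟩ := hβ b
      refine ⟨P, hP, ?_⟩
      have : Polynomial.eval₂ (algebraMap k Ω) (ψ b) P = ψ (Polynomial.eval₂ β b P) := by
        rw [Polynomial.hom_eval₂]
        rfl
      rw [this, hPb, map_zero]
    let K' := integralClosure k Ω
    have hs : Function.Surjective (algebraMap k K') :=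
      (IsAlgClosed.algebraMap_bijective_of_isIntegral (k := k) (K := K')).2
    obtain ⟨c, hc⟩ := hs ⟨ψ b, hb⟩
    refine ⟨c, ?_⟩
    have := congrArg (fun z : K' => (z : Ω)) hc
    exact this
  choose g hg using hex
  have hg' : ∀ b c, ι c = ψ b → g b = c := fun b c h => hι ((hg b).trans h.symm)
  let ψ₀ : B →+* k :=
    { toFun := g
      map_one' := hg' 1 1 (by rw [map_one, map_one])
      map_mul' := fun a b => hg' _ _ (by rw [map_mul, map_mul, hg, hg])
      map_zero' := hg' 0 0 (by rw [map_zero, map_zero])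
      map_add' := fun a b => hg' _ _ (by rw [map_add, map_add, hg, hg]) }
  refine ⟨ψ₀, ?_, ?_⟩
  · ext b
    exact hg b
  · ext c
    exact hg' (β c) c rfl


/-- a point with values in a field of a scheme finite over an algebraically closed field `k`
factors through a `k`-point -/
theorem exists_section_through {k Ω : Type u} [Field k] [IsAlgClosed k] [Field Ω]
    {F : Scheme.{u}} (p : F ⟶ Spec (CommRingCat.of k)) [IsFinite p]
    (x : Spec (CommRingCat.of Ω) ⟶ F) :
    ∃ y : Spec (CommRingCat.of k) ⟶ F, y ≫ p = 𝟙 _ ∧ (x ≫ p) ≫ y = x := by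
  haveI : IsAffine F := isAffine_of_isAffineHom p
  let B : CommRingCat.{u} := Γ(F, ⊤)
  let iso : F ≅ Spec B := F.isoSpec
  obtain ⟨β, hβ⟩ := Spec.map_surjective (iso.inv ≫ p)
  obtain ⟨ψ, hψ⟩ := Spec.map_surjective (x ≫ iso.hom)
  have hfin : IsFinite (Spec.map β) := by rw [hβ]; infer_instance
  have hint : β.hom.IsIntegral := by
    rw [IsFinite.SpecMap_iff] at hfin
    exact RingHom.IsIntegral.of_finite hfin
  obtain ⟨ψ₀, h1, h2⟩ := exists_factor_of_isIntegral β.hom hint ψ.hom
  refine ⟨Spec.map (CommRingCat.ofHom ψ₀) ≫ iso.inv, ?_, ?_⟩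
  · rw [Category.assoc, ← hβ, ← Spec.map_comp]
    have : β ≫ CommRingCat.ofHom ψ₀ = 𝟙 _ := by
      ext c
      exact congrArg (fun f => f c) h2
    rw [this, Spec.map_id]
  · have hx : x = Spec.map ψ ≫ iso.inv := by
      rw [hψ, Category.assoc, Iso.hom_inv_id, Category.comp_id]
    have hp : p = iso.hom ≫ Spec.map β := by
      rw [hβ, Iso.hom_inv_id_assoc]
    rw [hx, hp]
    simp only [Category.assoc, Iso.inv_hom_id_assoc]
    rw [← Spec.map_comp_assoc, ← Spec.map_comp_assoc]
    congr 2
    ext b
    exact congrArg (fun f => f b) h1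

end AlgClosedPt
end H9FE
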