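import Mathlib
/-! helper9: a basis of B over R gives a basis of a pushout C over R' (tuple form) -/
open CategoryTheory CategoryTheory.Limits
universe u
set_option linter.style.haveILetI false
set_option linter.unusedSectionVars false
namespace H9FE

theorem tuple_bij_of_isPushout {R R' B C : Type u} [CommRing R] [CommRing R'] [CommRing B]
    [CommRing C] (φ : R →+* R') (β : R →+* B) (γ : R' →+* C) (δ : B →+* C)
    (h : IsPushout (CommRingCat.ofHom φ) (CommRingCat.ofHom β) (CommRingCat.ofHom γ)
      (CommRingCat.ofHom δ)) {n : ℕ} (b : Fin n → B)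
    (hb : Function.Bijective (fun c : Fin n → R => ∑ i, β (c i) * b i)) :
    Function.Bijective (fun c : Fin n → R' => ∑ i, γ (c i) * δ (b i)) := by
  letI : Algebra R R' := φ.toAlgebra
  letI : Algebra R B := β.toAlgebra
  letI : Algebra R' C := γ.toAlgebra
  letI : Algebra B C := δ.toAlgebra
  letI : Algebra R C := (γ.comp φ).toAlgebra
  haveI : IsScalarTower R R' C := .of_algebraMap_eq' rfl
  have hw : γ.comp φ = δ.comp β := by
    have := h.w
    rw [← CommRingCat.ofHom_comp, ← CommRingCat.ofHom_comp] at this
    exact congrArg CommRingCat.Hom.hom this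
  haveI : IsScalarTower R B C := .of_algebraMap_eq' hw
  have hP : Algebra.IsPushout R R' B C := CommRingCat.isPushout_iff_isPushout.mp h
  let L : (Fin n → R) →ₗ[R] B := Fintype.linearCombination R b
  have hL : Function.Bijective L := by
    convert hb using 2 with c
    rw [Fintype.linearCombination_apply]
    refine Finset.sum_congr rfl fun i _ => ?_
    rw [Algebra.smul_def]; rfl
  let bR : Module.Basis (Fin n) R B := Module.Basis.ofEquivFun (LinearEquiv.ofBijective L hL).symm
  have hbR : ∀ i, bR i = b i := by
    intro i
    rw [Module.Basis.coe_ofEquivFun, LinearEquiv.symm_symm]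
    show (LinearEquiv.ofBijective L hL) (Pi.single i 1) = b i
    rw [LinearEquiv.ofBijective_apply, Fintype.linearCombination_apply_single, one_smul]
  let bC : Module.Basis (Fin n) R' C := hP.out.basis bR
  have hbC : ∀ i, bC i = δ (b i) := by
    intro i
    rw [IsBaseChange.basis_apply, hbR]
    rfl
  convert bC.equivFun.symm.bijective using 2 with c
  rw [Module.Basis.equivFun_symm_apply]
  refine Finset.sum_congr rfl fun i _ => ?_
  rw [hbC, Algebra.smul_def]; rfl

end H9FE
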