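import Mathlib
import Groth.Prelude.Def_AlgSpOX
import Groth.Agent.Lib.Helper2.AlgSp.QC
import Groth.Agent.Lib.Helper9.FE.EtQcClass
import Groth.Agent.Lib.Helper9.FE.WTSiteH

/-! helper9: the small étale site of an algebraic space: covering sieves are jointly surjective,
open subschemes of objects are objects, the objects with quasi-compact quasi-separated underlying
scheme form a `QcClass`, stable under binary products when the space is quasi-separated over a
quasi-separated base, and finitely many affine objects cover a quasi-compact space. -/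

set_option autoImplicit false
set_option linter.unusedSectionVars false
set_option linter.style.haveILetI false
set_option backward.isDefEq.respectTransparency false
universe u
open CategoryTheory Limits Opposite AlgebraicGeometry Abelian

namespace H9FE.AlgSpQc

open H9FE.SiteSectColim AlgSp Groth.Agent.Helper2

variable {S : Scheme.{u}} {X : Sp S}

/-- covering sieves of the small étale site are jointly surjective -/
lemma exists_of_mem_etTop {V : EtOver X} (T : Sieve V) (hT : T ∈ etTop X V)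
    (v : ↥V.obj.left.left) :
    ∃ (W : EtOver X) (g : W ⟶ V), T g ∧ v ∈ Set.range g.hom.left.left := by
  unfold etTop at hT
  rw [Precoverage.mem_toGrothendieck_iff_of_isStableUnderComposition] at hT
  obtain ⟨R, hR, hle⟩ := hT
  have h1 : R.map (EtOver.toScheme X) ∈ Scheme.etalePrecoverage _ := hR
  have h2 := h1.1
  rw [Presieve.mem_comap_jointlySurjectivePrecoverage_iff] at h2
  obtain ⟨Y, f, hf, hv⟩ := h2 v
  obtain ⟨hg⟩ := hf
  exact ⟨_, _, hle _ _ hg, hv⟩

/-- an open subscheme of an object of the small étale site, as an object of the site -/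
noncomputable def openSub (U : EtOver X) (W : U.obj.left.left.Opens) : EtOver X :=
  EtOver.mk (U := Over.mk (W.ι ≫ U.obj.left.hom))
    ((yon S).map (Over.homMk W.ι rfl : Over.mk (W.ι ≫ U.obj.left.hom) ⟶ U.obj.left) ≫ U.obj.hom)
    (AlgSpBasic.repWith_comp @Etale ((repWith_yon_map_iff @Etale _).2
      (inferInstanceAs (Etale W.ι))) U.property)

/-- the inclusion of an open subscheme -/
noncomputable def openSubι (U : EtOver X) (W : U.obj.left.left.Opens) : openSub U W ⟶ U :=
  EtOver.homMk (Over.homMk W.ι rfl) rfl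

lemma openSubι_left (U : EtOver X) (W : U.obj.left.left.Opens) :
    (openSubι U W).hom.left.left = W.ι := rfl


/-- objects of the small étale site with quasi-compact quasi-separated underlying scheme -/
def qcB (X : Sp S) : Set (EtOver X) :=
  {V | CompactSpace ↥V.obj.left.left ∧ QuasiSeparatedSpace ↥V.obj.left.left}

lemma mem_qcB_of_isAffine (V : EtOver X) [IsAffine V.obj.left.left] : V ∈ qcB X :=
  ⟨inferInstance, inferInstance⟩

/-- every covering sieve of an object with quasi-compact underlying scheme contains a finite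
jointly surjective family of affine objects -/
lemma exists_finite_affine_refinement (V : EtOver X) [CompactSpace ↥V.obj.left.left]
    (T : Sieve V) (hT : T ∈ etTop X V) :
    ∃ (n : ℕ) (W : Fin n → EtOver X) (g : ∀ i, W i ⟶ V),
      (∀ i, IsAffine (W i).obj.left.left) ∧ (∀ i, T (g i)) ∧
        ∀ v : ↥V.obj.left.left, ∃ i, v ∈ Set.range (g i).hom.left.left := by
  have h0 := exists_of_mem_etTop T hT
  choose W g hTg hw using h0
  choose w hw using hw
  -- affine neighbourhoods
  have haff : ∀ v : ↥V.obj.left.left, ∃ U : (W v).obj.left.left.Opens,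
      IsAffineOpen U ∧ w v ∈ U := by
    intro v
    obtain ⟨_, ⟨U, hU, rfl⟩, hwU, -⟩ :=
      (W v).obj.left.left.isBasis_affineOpens.exists_subset_of_mem_open
        (Set.mem_univ (w v)) isOpen_univ
    exact ⟨U, hU, hwU⟩
  choose U hU hwU using haff
  have hopen : ∀ v : ↥V.obj.left.left,
      IsOpen ((g v).hom.left.left '' (U v : Set ↥(W v).obj.left.left)) := by
    intro v
    haveI : Etale (g v).hom.left.left := EtOver.etale_left (g v)
    exact (g v).hom.left.left.isOpenMap _ (U v).2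
  have hcov : (Set.univ : Set ↥V.obj.left.left) ⊆
      ⋃ v : ↥V.obj.left.left, (g v).hom.left.left '' (U v : Set ↥(W v).obj.left.left) := by
    intro v _
    exact Set.mem_iUnion.2 ⟨v, w v, hwU v, hw v⟩
  obtain ⟨s, hs⟩ := isCompact_univ.elim_finite_subcover _ hopen hcov
  let e := s.equivFin
  let WS : s → EtOver X := fun a => openSub (W a.1) (U a.1)
  let gS : ∀ a : s, WS a ⟶ V := fun a => openSubι (W a.1) (U a.1) ≫ g a.1
  refine ⟨s.card, fun i => WS (e.symm i), fun i => gS (e.symm i), ?_, ?_, ?_⟩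
  · intro i
    exact hU (e.symm i).1
  · intro i
    exact T.downward_closed (hTg _) _
  · intro v
    obtain ⟨x, hx, hvx⟩ := Set.mem_iUnion₂.1 (hs (Set.mem_univ v))
    obtain ⟨y, hy, hyv⟩ := hvx
    refine ⟨e ⟨x, hx⟩, ?_⟩
    change v ∈ Set.range (gS (e.symm (e ⟨x, hx⟩))).hom.left.left
    have hsx : e.symm (e ⟨x, hx⟩) = ⟨x, hx⟩ := e.symm_apply_apply _
    generalize e.symm (e ⟨x, hx⟩) = a at hsx
    subst hsx
    exact ⟨⟨y, hy⟩, hyv⟩

/-- the underlying scheme of a fibre product in the small étale site -/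
noncomputable def pullbackLeftIso {V W₁ W₂ : EtOver X} (g₁ : W₁ ⟶ V) (g₂ : W₂ ⟶ V) :
    (pullback g₁ g₂).obj.left.left ≅ pullback g₁.hom.left.left g₂.hom.left.left :=
  PreservesPullback.iso (EtOver.toScheme X) g₁ g₂

lemma pullback_mem_qcB {V W₁ W₂ : EtOver X} (g₁ : W₁ ⟶ V) (g₂ : W₂ ⟶ V) (hV : V ∈ qcB X)
    (h₁ : W₁ ∈ qcB X) (h₂ : W₂ ∈ qcB X) : pullback g₁ g₂ ∈ qcB X := by
  haveI := hV.1; haveI := hV.2; haveI := h₁.1; haveI := h₁.2; haveI := h₂.1; haveI := h₂.2
  obtain ⟨hc, hq⟩ := H9FE.EtQcClass.qc_pullback g₁.hom.left.left g₂.hom.left.left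
  exact H9FE.EtQcClass.qc_of_iso (pullbackLeftIso g₁ g₂)

theorem qcClass (X : Sp S) : QcClass (etTop X) (qcB X) where
  fin := by
    intro V hV T hT
    haveI := hV.1
    obtain ⟨n, W, g, haff, hTg, hcov⟩ := exists_finite_affine_refinement V T hT
    exact ⟨n, W, g, fun i => by haveI := haff i; exact mem_qcB_of_isAffine (W i), hTg,
      ofArrows_mem_etTop W g hcov⟩
  pb := fun g₁ g₂ hV h₁ h₂ => pullback_mem_qcB g₁ g₂ hV h₁ h₂

lemma qcB_iso {A A' : EtOver X} (e : A ≅ A') (h : A ∈ qcB X) : A' ∈ qcB X := by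
  haveI : CompactSpace ↥((EtOver.toScheme X).obj A) := h.1
  haveI : QuasiSeparatedSpace ↥((EtOver.toScheme X).obj A) := h.2
  exact H9FE.EtQcClass.qc_of_iso ((EtOver.toScheme X).mapIso e.symm)


lemma isQuasiSeparatedSp_yon_of (W : Over S) [QuasiSeparatedSpace ↥W.left] :
    IsQuasiSeparatedSp ((yon S).obj W) := by
  unfold IsQuasiSeparatedSp
  rw [repWith_diag_yon_iff]
  haveI : QuasiSeparated W.hom := inferInstance
  infer_instance

lemma quasiSeparatedSpace_of_isQuasiSeparatedSp_yon [QuasiSeparatedSpace ↥S] (W : Over S)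
    (h : IsQuasiSeparatedSp ((yon S).obj W)) : QuasiSeparatedSpace ↥W.left := by
  unfold IsQuasiSeparatedSp at h
  rw [repWith_diag_yon_iff] at h
  haveI : QuasiSeparated W.hom := ⟨h⟩
  exact quasiSeparatedSpace_of_quasiSeparated W.hom

/-- binary products of quasi-compact quasi-separated objects in the small étale site of a
quasi-separated algebraic space are quasi-compact and quasi-separated -/
lemma prod_mem_qcB [QuasiSeparatedSpace ↥S] (hX : IsAlgSpace X) (hqs : IsQuasiSeparatedSp X)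
    {W₁ W₂ : EtOver X} (h₁ : W₁ ∈ qcB X) (h₂ : W₂ ∈ qcB X) : (W₁ ⨯ W₂) ∈ qcB X := by
  haveI := h₁.1; haveI := h₁.2; haveI := h₂.1; haveI := h₂.2
  let e : W₁ ⨯ W₂ ≅ EtOver.prodObj W₁ W₂ :=
    (limit.isLimit _).conePointUniqueUpToIso (EtOver.prodIsLimit W₁ W₂)
  refine qcB_iso e.symm ?_
  have sq := W₂.property.1.isPullback W₁.obj.hom
  have h := AlgSpBasic.qcqs_of_isPullback_qcqs (IsAlgSpace.yon_obj _) hX (IsAlgSpace.yon_obj _)
    W₂.obj.hom W₁.obj.hom _ _ sq
    ⟨(AlgSpBasic.isQuasiCompactSp_yon_iff _).2 h₂.1, isQuasiSeparatedSp_yon_of _⟩ hqs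
    ⟨(AlgSpBasic.isQuasiCompactSp_yon_iff _).2 h₁.1, isQuasiSeparatedSp_yon_of _⟩
  exact ⟨(AlgSpBasic.isQuasiCompactSp_yon_iff _).1 h.1,
    quasiSeparatedSpace_of_isQuasiSeparatedSp_yon _ h.2⟩


/-- a morphism of the small étale site restricts to open subschemes -/
noncomputable def openSubMap {P E : EtOver X} (g : P ⟶ E) (U : E.obj.left.left.Opens) :
    openSub P (g.hom.left.left ⁻¹ᵁ U) ⟶ openSub E U := by
  let r := g.hom.left.left.resLE U (g.hom.left.left ⁻¹ᵁ U) le_rfl
  have hr : r ≫ U.ι = (g.hom.left.left ⁻¹ᵁ U).ι ≫ g.hom.left.left := Scheme.Hom.resLE_comp_ι _ _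
  have hw : r ≫ U.ι ≫ E.obj.left.hom = (g.hom.left.left ⁻¹ᵁ U).ι ≫ P.obj.left.hom := by
    rw [← Category.assoc, hr, Category.assoc, Over.w g.hom.left]
  let a : (openSub P (g.hom.left.left ⁻¹ᵁ U)).obj.left ⟶ (openSub E U).obj.left := Over.homMk r hw
  let b : (openSub E U).obj.left ⟶ E.obj.left := Over.homMk U.ι rfl
  let c : (openSub P (g.hom.left.left ⁻¹ᵁ U)).obj.left ⟶ P.obj.left :=
    Over.homMk (g.hom.left.left ⁻¹ᵁ U).ι rfl
  have h1 : a ≫ b = c ≫ g.hom.left := Over.OverMorphism.ext hr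
  refine EtOver.homMk a ?_
  change (yon S).map a ≫ ((yon S).map b ≫ E.obj.hom) = (yon S).map c ≫ P.obj.hom
  exact ((Category.assoc _ _ _).symm.trans (congrArg (· ≫ E.obj.hom)
    ((Functor.map_comp _ _ _).symm.trans ((congrArg (yon S).map h1).trans
      (Functor.map_comp _ _ _))))).trans ((Category.assoc _ _ _).trans
        (congrArg ((yon S).map c ≫ ·) (EtOver.w g)))

/-- a quasi-compact algebraic space is covered by finitely many affine objects of its small
étale site -/
lemma exists_coversTop (hqc : IsQuasiCompactSp X) :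
    ∃ (n₀ : ℕ) (U : Fin n₀ → EtOver X), (∀ i, U i ∈ qcB X) ∧ (etTop X).CoversTop U := by
  obtain ⟨A, p, hp, hsurj, hA⟩ := hqc
  haveI : CompactSpace ↥A.left := hA
  let E : EtOver X := EtOver.mk p hp
  -- a finite affine open cover of the atlas
  have haff : ∀ a : ↥A.left, ∃ U : A.left.Opens, IsAffineOpen U ∧ a ∈ U := by
    intro a
    obtain ⟨_, ⟨U, hU, rfl⟩, haU, -⟩ := A.left.isBasis_affineOpens.exists_subset_of_mem_open
      (Set.mem_univ a) isOpen_univ
    exact ⟨U, hU, haU⟩
  choose U hU haU using haff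
  have hcov : (Set.univ : Set ↥A.left) ⊆ ⋃ a : ↥A.left, (U a : Set ↥A.left) :=
    fun a _ => Set.mem_iUnion.2 ⟨a, haU a⟩
  obtain ⟨s, hs⟩ := isCompact_univ.elim_finite_subcover _ (fun a => (U a).2) hcov
  let e := s.equivFin
  refine ⟨s.card, fun i => openSub E (U (e.symm i).1), fun i => ?_, ?_⟩
  · haveI : IsAffine (openSub E (U (e.symm i).1)).obj.left.left := hU (e.symm i).1
    exact mem_qcB_of_isAffine (openSub E (U (e.symm i).1))
  · intro W
    let P : EtOver X := EtOver.prodObj W E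
    let g : P ⟶ E := EtOver.prodSnd W E
    have hsf : Surjective (EtOver.prodFst W E).hom.left.left :=
      hsurj.2 W.obj.hom _ _ (E.property.1.isPullback W.obj.hom)
    let PS : Fin s.card → EtOver X := fun i => openSub P (g.hom.left.left ⁻¹ᵁ U (e.symm i).1)
    let gS : ∀ i, PS i ⟶ W := fun i => openSubι P _ ≫ EtOver.prodFst W E
    have h1 : Sieve.ofArrows PS gS ∈ etTop X W := by
      apply ofArrows_mem_etTop
      intro w
      obtain ⟨x, hx⟩ := hsf.surj w
      obtain ⟨a, ha, hxa⟩ := Set.mem_iUnion₂.1 (hs (Set.mem_univ (g.hom.left.left x)))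
      refine ⟨e ⟨a, ha⟩, ?_⟩
      have hsx : e.symm (e ⟨a, ha⟩) = ⟨a, ha⟩ := e.symm_apply_apply _
      have hmem : x ∈ g.hom.left.left ⁻¹ᵁ U (e.symm (e ⟨a, ha⟩)).1 := by
        rw [hsx]
        exact hxa
      exact ⟨⟨x, hmem⟩, hx⟩
    refine (etTop X).superset_covering ?_ h1
    rintro Z f ⟨Y', k, l, hl, rfl⟩
    obtain ⟨i⟩ := hl
    exact ⟨i, ⟨k ≫ openSubMap g _⟩⟩

end H9FE.AlgSpQc
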