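import Mathlib
import Groth.Prelude.Def_AlgSpOX
import Groth.Agent.Lib.Helper9.FE.AlgSpQc
import Groth.Agent.Lib.Helper9.FE.WTSiteH

/-! helper9: étale cohomology of a quasi-compact algebraic space, quasi-separated over a
quasi-separated base scheme, commutes with filtered colimits of abelian sheaves. -/

set_option autoImplicit false
set_option linter.unusedSectionVars false
set_option linter.style.haveILetI false
set_option backward.isDefEq.respectTransparency false
universe u
open CategoryTheory Limits Opposite AlgebraicGeometry Abelian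

namespace H9FE.AlgSpHColim

open WithTerminal H9FE.WTSite H9FE.WTSiteH H9FE.SiteSectColim H9FE.ExtFilteredColim AlgSp
  H9FE.AlgSpQc

variable {S : Scheme.{u}}

instance (X : Sp S) :
    IsGrothendieckAbelian.{u + 1} (Sheaf (plus (etTop X)) AddCommGrpCat.{u + 1}) := by
  have : EssentiallySmall.{u + 1} (WithTerminal (EtOver X)) := inferInstance
  exact Sheaf.isGrothendieckAbelian_of_essentiallySmall _ _

variable [QuasiSeparatedSpace ↥S] (X : AlgSp.Space S) (hqc : AlgSp.IsQuasiCompactSp X.obj)
  (hqs : AlgSp.IsQuasiSeparatedSp X.obj) {J : Type (u + 1)} [SmallCategory J] [IsFiltered J]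

include hqc hqs in
/-- every class in `H^n(X, colim D)` comes from some stage, and a class at some stage dying in
the colimit dies at a later stage -/
theorem hsurj_hinj (n : ℕ) (D : J ⥤ AbEt X.obj) :
    HSurj.{u + 1} (constZ.{u + 1} (etTop X.obj)) D n ∧
      HInj.{u + 1} (constZ.{u + 1} (etTop X.obj)) D n := by
  obtain ⟨n₀, U, hU, hcov⟩ := exists_coversTop hqc
  exact hsurj_hinj_const.{u + 1, u + 1, u + 1} (etTop X.obj) (qcClass X.obj)
    (fun e h => qcB_iso e h) (fun h₁ h₂ => prod_mem_qcB X.property hqs h₁ h₂) U hU hcov n D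

lemma HEtF_map_apply {A B : AbEt X.obj} (φ : A ⟶ B) (n : ℕ)
    (y : Ext.{u + 1} (constZ.{u + 1} (etTop X.obj)) A n) :
    ((HEtF X.obj n).map φ).hom y = push φ y := rfl

include hqc hqs in
theorem preserves_big (n : ℕ) : PreservesColimitsOfShape J (HEtF X.obj n) := by
  constructor
  intro K
  apply preservesColimit_of_preserves_colimit_cocone (colimit.isColimit K)
  haveI : ReflectsColimitsOfShape J (forget AddCommGrpCat.{u + 1}) :=
    reflectsColimitsOfShape_of_reflectsIsomorphisms
  apply isColimitOfReflects (forget AddCommGrpCat.{u + 1})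
  obtain ⟨hs, hi⟩ := hsurj_hinj X hqc hqs n K
  apply Types.FilteredColimit.isColimitOf'
  · intro x
    obtain ⟨j, y, hy⟩ := hs x
    exact ⟨j, y, hy.symm⟩
  · intro i x y hxy
    have hxy' : push (colimit.ι K i) (x : Ext.{u + 1} (constZ.{u + 1} (etTop X.obj)) (K.obj i) n) =
      push (colimit.ι K i) (y : Ext.{u + 1} (constZ.{u + 1} (etTop X.obj)) (K.obj i) n) := hxy
    have h0 : push (colimit.ι K i)
        ((x : Ext.{u + 1} (constZ.{u + 1} (etTop X.obj)) (K.obj i) n) - y) = 0 := by
      rw [push_sub, hxy', sub_self]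
    obtain ⟨k, f, hf⟩ := hi i _ h0
    refine ⟨k, f, ?_⟩
    rw [push_sub, sub_eq_zero] at hf
    exact hf

end H9FE.AlgSpHColim
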