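import Mathlib
import Groth.Agent.Lib.Helper9.FE.IntDisj

/-! helper9: packaged descent of finitely many standard étale algebras over the ring of an affine
scheme integral over another affine scheme to a finite intermediate scheme. -/

universe u
open CategoryTheory CategoryTheory.Limits AlgebraicGeometry

namespace H9FE
namespace IntDescSetup

set_option linter.style.haveILetI false
set_option linter.unusedSectionVars false
set_option backward.isDefEq.respectTransparency false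

theorem main {X Y : Scheme.{u}} [IsAffine X] [IsAffine Y] (f : X ⟶ Y) [IsIntegralHom f] {r : ℕ}
    (P : Fin r → StandardEtalePair Γ(X, ⊤)) :
    ∃ (Z' : Scheme.{u}) (ζ : X ⟶ Z') (F' : Z' ⟶ Y), IsFinite F' ∧ ζ ≫ F' = f ∧
      Function.Surjective ζ ∧
      ∃ (T' : Fin r → Scheme.{u}) (τ' : ∀ k, T' k ⟶ Z')
        (q : ∀ k, Spec (CommRingCat.of (P k).Ring) ⟶ T' k),
        (∀ k, Etale (τ' k)) ∧
        ∀ k, IsPullback
          (Spec.map (CommRingCat.ofHom (algebraMap Γ(X, ⊤) (P k).Ring)) ≫ X.isoSpec.inv)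
          (q k) ζ (τ' k) := by
  classical
  letI algAB : Algebra Γ(Y, ⊤) Γ(X, ⊤) := f.appTop.hom.toAlgebra
  haveI hint : Algebra.IsIntegral Γ(Y, ⊤) Γ(X, ⊤) :=
    ⟨f.isIntegral_app ⊤ (isAffineOpen_top Y)⟩
  obtain ⟨s₀, hs₀⟩ := StdEtDescent.exists_finset_descent (A := Γ(Y, ⊤)) P
  obtain ⟨P', hP'⟩ := hs₀ (Algebra.adjoin Γ(Y, ⊤) (s₀ : Set Γ(X, ⊤))) Algebra.subset_adjoin
  obtain rfl : P = fun k => (P' k).map (algebraMap _ _) := funext fun k => (hP' k).symm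
  have hfg : (Algebra.adjoin Γ(Y, ⊤) (s₀ : Set Γ(X, ⊤))).toSubmodule.FG :=
    fg_adjoin_of_finite s₀.finite_toSet (fun x _ => Algebra.IsIntegral.isIntegral x)
  haveI hfin : Module.Finite Γ(Y, ⊤) ↥(Algebra.adjoin Γ(Y, ⊤) (s₀ : Set Γ(X, ⊤))) :=
    Module.Finite.iff_fg.mpr hfg
  haveI hint' : Algebra.IsIntegral ↥(Algebra.adjoin Γ(Y, ⊤) (s₀ : Set Γ(X, ⊤))) Γ(X, ⊤) :=
    Algebra.IsIntegral.tower_top (R := Γ(Y, ⊤))
  let ζ : X ⟶ Spec (CommRingCat.of ↥(Algebra.adjoin Γ(Y, ⊤) (s₀ : Set Γ(X, ⊤)))) :=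
    X.isoSpec.hom ≫ Spec.map (CommRingCat.ofHom
      (algebraMap ↥(Algebra.adjoin Γ(Y, ⊤) (s₀ : Set Γ(X, ⊤))) Γ(X, ⊤)))
  let F' : Spec (CommRingCat.of ↥(Algebra.adjoin Γ(Y, ⊤) (s₀ : Set Γ(X, ⊤)))) ⟶ Y :=
    Spec.map (CommRingCat.ofHom
      (algebraMap Γ(Y, ⊤) ↥(Algebra.adjoin Γ(Y, ⊤) (s₀ : Set Γ(X, ⊤))))) ≫ Y.isoSpec.inv
  have hζF : ζ ≫ F' = f := by
    simp only [ζ, F', Category.assoc]
    rw [← Spec.map_comp_assoc]
    have h1 : CommRingCat.ofHom (algebraMap Γ(Y, ⊤) ↥(Algebra.adjoin Γ(Y, ⊤) (s₀ : Set Γ(X, ⊤)))) ≫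
        CommRingCat.ofHom (algebraMap ↥(Algebra.adjoin Γ(Y, ⊤) (s₀ : Set Γ(X, ⊤))) Γ(X, ⊤)) =
        f.appTop := by
      ext a
      rfl
    rw [h1, Scheme.isoSpec_hom_naturality_assoc, Iso.hom_inv_id, Category.comp_id]
  haveI : IsFinite F' := by
    haveI : IsFinite (Spec.map (CommRingCat.ofHom
        (algebraMap Γ(Y, ⊤) ↥(Algebra.adjoin Γ(Y, ⊤) (s₀ : Set Γ(X, ⊤)))))) := by
      rw [IsFinite.SpecMap_iff]
      exact RingHom.finite_algebraMap.mpr hfin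
    infer_instance
  have hζsurj : Function.Surjective ζ := by
    intro z'
    obtain ⟨q, hq⟩ := IntDisj.specMap_surjective_of_integral_injective
      (R := ↥(Algebra.adjoin Γ(Y, ⊤) (s₀ : Set Γ(X, ⊤)))) (S := Γ(X, ⊤))
      Subtype.val_injective z'
    refine ⟨X.isoSpec.inv q, ?_⟩
    simp only [ζ]
    rw [Scheme.Hom.comp_apply, ← Scheme.Hom.comp_apply X.isoSpec.inv, Iso.inv_hom_id]
    exact hq
  let τ' : ∀ k : Fin r, Spec (CommRingCat.of (P' k).Ring) ⟶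
      Spec (CommRingCat.of ↥(Algebra.adjoin Γ(Y, ⊤) (s₀ : Set Γ(X, ⊤)))) := fun k =>
    Spec.map (CommRingCat.ofHom (algebraMap _ (P' k).Ring))
  have hτ' : ∀ k, Etale (τ' k) := by
    intro k
    simp only [τ']
    rw [HasRingHomProperty.Spec_iff (P := @Etale)]
    exact RingHom.etale_algebraMap.mpr inferInstance
  choose m hm using fun k => StdEtDescent.isPullback_SpecMap
    (algebraMap ↥(Algebra.adjoin Γ(Y, ⊤) (s₀ : Set Γ(X, ⊤))) Γ(X, ⊤)) (P' k)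
  refine ⟨_, ζ, F', inferInstance, hζF, hζsurj, fun k => Spec (CommRingCat.of (P' k).Ring), τ',
    fun k => Spec.map (CommRingCat.ofHom (m k)), hτ', fun k => ?_⟩
  refine IsPullback.of_iso (hm k) (Iso.refl _) X.isoSpec.symm (Iso.refl _) (Iso.refl _) ?_ ?_ ?_ ?_
  · simp
  · simp
  · simp only [Iso.refl_hom, Category.comp_id, Iso.symm_hom, ζ, Iso.inv_hom_id_assoc]
  · simp [τ']

end IntDescSetup
end H9FE
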