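import Mathlib
import Groth.Agent.Lib.Helper9.FE.IntDescSetup
import Groth.Agent.Lib.Helper9.FE.EtClopenLift

/-! helper9: condition (C) for integral morphisms which are injective on points. -/

universe u
open CategoryTheory CategoryTheory.Limits AlgebraicGeometry

namespace H9FE
namespace IntPropC

set_option linter.style.haveILetI false
set_option linter.unusedSectionVars false
set_option backward.isDefEq.respectTransparency false

/-- gluing morphisms along a decomposition into pairwise disjoint opens -/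
theorem glue_disjoint {P U : Scheme.{u}} {μ : Type*} (O : μ → P.Opens)
    (hdisj : ∀ a b, a ≠ b → Disjoint (O a) (O b)) (hcov : ∀ z : P, ∃ a, z ∈ O a)
    (k : ∀ a, ((O a : P.Opens) : Scheme.{u}) ⟶ U) :
    ∃ h : P ⟶ U, ∀ a, (O a).ι ≫ h = k a := by
  have hU : TopologicalSpace.IsOpenCover O := by
    apply TopologicalSpace.IsOpenCover.mk
    rw [eq_top_iff]
    intro z _
    obtain ⟨a, ha⟩ := hcov z
    exact TopologicalSpace.Opens.mem_iSup.mpr ⟨a, ha⟩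
  have hcompat : ∀ a b, pullback.fst ((P.openCoverOfIsOpenCover O hU).f a)
      ((P.openCoverOfIsOpenCover O hU).f b) ≫ k a = pullback.snd _ _ ≫ k b := by
    intro a b
    by_cases hab : a = b
    · subst hab
      have : pullback.fst ((P.openCoverOfIsOpenCover O hU).f a)
          ((P.openCoverOfIsOpenCover O hU).f a) = pullback.snd _ _ := by
        rw [← cancel_mono ((P.openCoverOfIsOpenCover O hU).f a)]
        exact pullback.condition
      rw [this]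
    · haveI : IsEmpty ↑(pullback ((P.openCoverOfIsOpenCover O hU).f a)
          ((P.openCoverOfIsOpenCover O hU).f b)) := by
        constructor
        intro z
        have h1 : (O a).ι (pullback.fst (O a).ι (O b).ι z) ∈ O a :=
          (pullback.fst (O a).ι (O b).ι z).2
        have h2 : (O a).ι (pullback.fst (O a).ι (O b).ι z) ∈ O b := by
          rw [← Scheme.Hom.comp_apply, pullback.condition, Scheme.Hom.comp_apply]
          exact (pullback.snd (O a).ι (O b).ι z).2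
        exact (hdisj a b hab).le_bot ⟨h1, h2⟩
      exact (isInitialOfIsEmpty).hom_ext _ _
  exact ⟨(P.openCoverOfIsOpenCover O hU).glueMorphisms k hcompat,
    fun a => (P.openCoverOfIsOpenCover O hU).ι_glueMorphisms k hcompat a⟩

theorem propC_point_affine {X Y : Scheme.{u}} [IsAffine X] [IsAffine Y] (f : X ⟶ Y)
    [IsIntegralHom f] (hinj : Function.Injective f) {U : Scheme.{u}} (g : U ⟶ X) [Etale g]
    (u : U) :
    ∃ (V : Scheme.{u}) (p : V ⟶ Y) (_ : Etale p) (h : pullback f p ⟶ U),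
      h ≫ g = pullback.fst f p ∧ u ∈ Set.range h := by
  classical
  obtain ⟨T, P, e, huT, he⟩ := StdEtRefine.pointwise g u
  obtain ⟨Z', ζ, F', hF', hζF, hζs, T', τ', q, hτ', hsq⟩ :=
    IntDescSetup.main f (fun _ : Fin 1 => P)
  haveI := hτ' 0
  haveI := hF'
  obtain ⟨T'', hT'', hu''⟩ : ∃ T'' : (T' 0).Opens, IsAffineOpen T'' ∧
      q 0 (e.hom ⟨u, huT⟩) ∈ T'' := by
    obtain ⟨_, ⟨T'', hT'', rfl⟩, hu, -⟩ :=
      (T' 0).isBasis_affineOpens.exists_subset_of_mem_open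
        (Set.mem_univ (q 0 (e.hom ⟨u, huT⟩))) isOpen_univ
    exact ⟨T'', hT'', hu⟩
  haveI : IsAffine (T'' : Scheme.{u}) := hT''
  haveI : LocallyQuasiFinite (T''.ι ≫ τ' 0) :=
    EtClopenLift.locallyQuasiFinite_of_etale (T''.ι ≫ τ' 0)
  -- the point `a t₀ = g u`
  have hat₀ : (Spec.map (CommRingCat.ofHom (algebraMap Γ(X, ⊤) P.Ring)) ≫ X.isoSpec.inv)
      (e.hom ⟨u, huT⟩) = g u := by
    rw [← Scheme.Hom.comp_apply, he, Scheme.Hom.comp_apply]
    rfl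
  have hx' : τ' 0 (q 0 (e.hom ⟨u, huT⟩)) = ζ (g u) := by
    have h1 := congrArg (fun φ => φ.base (e.hom ⟨u, huT⟩)) (hsq 0).w
    rw [← hat₀]
    exact h1.symm
  have hF'x : F' (ζ (g u)) = f (g u) := by
    rw [← Scheme.Hom.comp_apply, hζF]
  obtain ⟨V₁, p₁, v₀, hp₁, hpv, M, hM, W', h', hW'c, hW'h, hi, hii⟩ :=
    EtClopenLift.main F' (T''.ι ≫ τ' 0) (f (g u)) (ι := Unit)
      (fun _ => (⟨q 0 (e.hom ⟨u, huT⟩), hu''⟩ : ↥T''))
      (fun _ _ _ => Subsingleton.elim _ _)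
      (fun _ => by
        rw [Scheme.Hom.comp_apply]
        show F' (τ' 0 (q 0 (e.hom ⟨u, huT⟩))) = f (g u)
        rw [hx', hF'x])
      (fun _ => ((T''.ι ≫ τ' 0) ≫ F').quasiFiniteAt _)
  haveI := hM
  haveI := hp₁
  obtain ⟨m₀, w'₀, hw'₀1, hw'₀2⟩ := hi ()
  let π : pullback f p₁ ⟶ pullback F' p₁ :=
    pullback.map f p₁ F' p₁ ζ (𝟙 V₁) (𝟙 Y) (by rw [Category.comp_id, hζF]) (by simp)
  have hπ1 : π ≫ pullback.fst F' p₁ = pullback.fst f p₁ ≫ ζ := pullback.lift_fst _ _ _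
  have hπ2 : π ≫ pullback.snd F' p₁ = pullback.snd f p₁ := by
    simp only [π]
    rw [pullback.lift_snd, Category.comp_id]
  have hcond : ∀ m, ((π ⁻¹ᵁ W' m).ι ≫ pullback.fst f p₁) ≫ ζ =
      ((π ∣_ W' m) ≫ h' m ≫ T''.ι) ≫ τ' 0 := by
    intro m
    rw [Category.assoc, Category.assoc, Category.assoc, hW'h m, morphismRestrict_ι_assoc, hπ1]
  have hl1 : ∀ m, (hsq 0).lift _ _ (hcond m) ≫
      (Spec.map (CommRingCat.ofHom (algebraMap Γ(X, ⊤) P.Ring)) ≫ X.isoSpec.inv) =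
      (π ⁻¹ᵁ W' m).ι ≫ pullback.fst f p₁ := fun m => (hsq 0).lift_fst _ _ (hcond m)
  have hl2 : ∀ m, (hsq 0).lift _ _ (hcond m) ≫ q 0 = (π ∣_ W' m) ≫ h' m ≫ T''.ι :=
    fun m => (hsq 0).lift_snd _ _ (hcond m)
  have hmg : ∀ m, ((hsq 0).lift _ _ (hcond m) ≫ e.inv ≫ T.ι) ≫ g =
      (π ⁻¹ᵁ W' m).ι ≫ pullback.fst f p₁ := by
    intro m
    rw [Category.assoc, Category.assoc, ← he, Iso.inv_hom_id_assoc, hl1]
  -- rank
  let rk : M → ℕ := fun m => if m = m₀ then 0 else (Finite.equivFin M m).val + 1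
  have hrk_inj : Function.Injective rk := by
    intro a b hab
    simp only [rk] at hab
    by_cases ha : a = m₀ <;> by_cases hb : b = m₀
    · rw [ha, hb]
    · rw [if_pos ha, if_neg hb] at hab; omega
    · rw [if_neg ha, if_pos hb] at hab; omega
    · rw [if_neg ha, if_neg hb] at hab
      exact (Finite.equivFin M).injective (Fin.ext (by omega))
  have hrk0 : rk m₀ = 0 := if_pos rfl
  let prev : M → Set ↑(pullback f p₁) := fun m =>
    ⋃ m' ∈ {m' : M | rk m' < rk m}, ((π ⁻¹ᵁ W' m' : (pullback f p₁).Opens) : Set _)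
  have hprev : ∀ m, IsClosed (prev m) := fun m =>
    Set.Finite.isClosed_biUnion (Set.toFinite _) (fun m' _ => (hW'c m').preimage π.continuous)
  let B : M → (pullback f p₁).Opens := fun m =>
    ⟨((π ⁻¹ᵁ W' m : (pullback f p₁).Opens) : Set _) ∩ (prev m)ᶜ,
      IsOpen.inter (π ⁻¹ᵁ W' m).2 (hprev m).isOpen_compl⟩
  have hBW : ∀ m z, z ∈ B m → z ∈ π ⁻¹ᵁ W' m := fun m z hz => hz.1
  have hBprev : ∀ m z, z ∈ B m → ∀ m', rk m' < rk m → z ∉ π ⁻¹ᵁ W' m' := by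
    intro m z hz m' hm' hzm'
    exact hz.2 (Set.mem_biUnion (show m' ∈ {m' : M | rk m' < rk m} from hm') hzm')
  -- shrink
  have hWallopen : IsOpen (⋃ m, ((π ⁻¹ᵁ W' m : (pullback f p₁).Opens) : Set ↑(pullback f p₁))) :=
    isOpen_iUnion (fun m => (π ⁻¹ᵁ W' m).2)
  have himcl : IsClosed (pullback.snd f p₁ ''
      (⋃ m, ((π ⁻¹ᵁ W' m : (pullback f p₁).Opens) : Set ↑(pullback f p₁)))ᶜ) :=
    (pullback.snd f p₁).isClosedMap _ hWallopen.isClosed_compl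
  let V₂ : V₁.Opens := ⟨(pullback.snd f p₁ ''
      (⋃ m, ((π ⁻¹ᵁ W' m : (pullback f p₁).Opens) : Set ↑(pullback f p₁)))ᶜ)ᶜ,
    himcl.isOpen_compl⟩
  have hfib : ∀ z : ↑(pullback f p₁), pullback.snd f p₁ z = v₀ → ∃ m, z ∈ π ⁻¹ᵁ W' m := by
    intro z hz
    have hfz : pullback.fst f p₁ z = g u := by
      apply hinj
      rw [← Scheme.Hom.comp_apply, pullback.condition, Scheme.Hom.comp_apply, hz, hpv]
    obtain ⟨m, hm⟩ := hii (π z) () (by
        rw [← Scheme.Hom.comp_apply, hπ2, hz]) (by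
        rw [← Scheme.Hom.comp_apply, hπ1, Scheme.Hom.comp_apply, hfz, Scheme.Hom.comp_apply]
        exact hx'.symm)
    exact ⟨m, hm⟩
  have hv₀ : v₀ ∈ V₂ := by
    rintro ⟨z, hz, hzv⟩
    obtain ⟨m, hm⟩ := hfib z hzv
    exact hz (Set.mem_iUnion.mpr ⟨m, hm⟩)
  let j : pullback f (V₂.ι ≫ p₁) ⟶ pullback f p₁ :=
    pullback.map f (V₂.ι ≫ p₁) f p₁ (𝟙 X) V₂.ι (𝟙 Y) (by simp) (by simp)
  have hj1 : j ≫ pullback.fst f p₁ = pullback.fst f (V₂.ι ≫ p₁) := by simp [j]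
  have hj2 : j ≫ pullback.snd f p₁ = pullback.snd f (V₂.ι ≫ p₁) ≫ V₂.ι := by simp [j]
  have hjW : ∀ z, j z ∈ ⋃ m, ((π ⁻¹ᵁ W' m : (pullback f p₁).Opens) : Set ↑(pullback f p₁)) := by
    intro z
    by_contra hz
    have h1 : pullback.snd f p₁ (j z) ∈ V₂ := by
      rw [← Scheme.Hom.comp_apply, hj2, Scheme.Hom.comp_apply]
      exact (pullback.snd f (V₂.ι ≫ p₁) z).2
    exact h1 ⟨j z, hz, rfl⟩
  have hdisj : ∀ a b, a ≠ b → Disjoint (j ⁻¹ᵁ B a) (j ⁻¹ᵁ B b) := by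
    intro a b hab
    rw [disjoint_iff]
    ext z
    simp only [TopologicalSpace.Opens.coe_inf, Set.mem_inter_iff, SetLike.mem_coe,
      TopologicalSpace.Opens.coe_bot, Set.mem_empty_iff_false, iff_false, not_and]
    intro hza hzb
    have hza' : j z ∈ B a := hza
    have hzb' : j z ∈ B b := hzb
    apply hab
    apply hrk_inj
    rcases lt_trichotomy (rk a) (rk b) with hlt | heq | hgt
    · exact absurd (hBW a _ hza') (hBprev b _ hzb' a hlt)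
    · exact heq
    · exact absurd (hBW b _ hzb') (hBprev a _ hza' b hgt)
  have hcover : ∀ z : ↑(pullback f (V₂.ι ≫ p₁)), ∃ a, z ∈ j ⁻¹ᵁ B a := by
    intro z
    obtain ⟨m₁, hm₁⟩ := Set.mem_iUnion.mp (hjW z)
    obtain ⟨m, hm, hmin⟩ := Set.exists_min_image {m : M | j z ∈ π ⁻¹ᵁ W' m} rk (Set.toFinite _)
      ⟨m₁, hm₁⟩
    refine ⟨m, ?_⟩
    show j z ∈ B m
    refine ⟨hm, ?_⟩
    intro hz
    obtain ⟨m', hm', hzm'⟩ := Set.mem_iUnion₂.mp hz
    exact absurd (hmin m' hzm') (not_le.mpr hm')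
  have hr : ∀ m, Set.range ((j ⁻¹ᵁ B m).ι ≫ j) ⊆ Set.range (π ⁻¹ᵁ W' m).ι := by
    intro m
    rintro _ ⟨z, rfl⟩
    rw [Scheme.Opens.range_ι, Scheme.Hom.comp_apply]
    exact hBW m _ z.2
  have hlift : ∀ m, IsOpenImmersion.lift (π ⁻¹ᵁ W' m).ι ((j ⁻¹ᵁ B m).ι ≫ j) (hr m) ≫
      (π ⁻¹ᵁ W' m).ι = (j ⁻¹ᵁ B m).ι ≫ j := fun m => IsOpenImmersion.lift_fac _ _ _
  obtain ⟨h, hh⟩ := glue_disjoint (fun m => j ⁻¹ᵁ B m) hdisj hcover
    (fun m => IsOpenImmersion.lift (π ⁻¹ᵁ W' m).ι ((j ⁻¹ᵁ B m).ι ≫ j) (hr m) ≫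
      (hsq 0).lift _ _ (hcond m) ≫ e.inv ≫ T.ι)
  refine ⟨V₂, V₂.ι ≫ p₁, inferInstance, h, ?_, ?_⟩
  · apply Scheme.hom_ext_of_forall
    intro z
    obtain ⟨m, hm⟩ := hcover z
    refine ⟨j ⁻¹ᵁ B m, hm, ?_⟩
    rw [← Category.assoc, hh m, Category.assoc, hmg m, ← Category.assoc, hlift m, Category.assoc,
      hj1]
  · -- the point
    have P1 : IsPullback π (pullback.fst f p₁) (pullback.fst F' p₁) ζ := by
      refine IsPullback.of_right ?_ hπ1 (IsPullback.of_hasPullback F' p₁).flip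
      rw [hπ2, hζF]
      exact (IsPullback.of_hasPullback f p₁).flip
    have P2 : IsPullback (π ⁻¹ᵁ W' m₀).ι (π ∣_ W' m₀) π (W' m₀).ι :=
      (isPullback_morphismRestrict π (W' m₀)).flip
    have P3 : IsPullback ((π ⁻¹ᵁ W' m₀).ι ≫ pullback.fst f p₁) (π ∣_ W' m₀) ζ
        ((W' m₀).ι ≫ pullback.fst F' p₁) := P2.paste_horiz P1.flip
    have L : IsPullback ((hsq 0).lift _ _ (hcond m₀)) (π ∣_ W' m₀) (q 0) (h' m₀ ≫ T''.ι) := by
      refine IsPullback.of_right ?_ (hl2 m₀) (hsq 0)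
      rw [hl1 m₀, Category.assoc, hW'h m₀]
      exact P3
    obtain ⟨w, hw1, hw2⟩ := Scheme.exists_preimage_of_isPullback L
      (e.hom ⟨u, huT⟩) w'₀ (by
        rw [Scheme.Hom.comp_apply, hw'₀1]
        rfl)
    have hπw : π w.1 = w'₀.1 := by
      have h2 := congrArg (fun φ => φ.base w) (morphismRestrict_ι π (W' m₀))
      have h3 : ((π ∣_ W' m₀) w).1 = π w.1 := h2
      rw [← h3]
      exact congrArg Subtype.val hw2
    have hwB : w.1 ∈ B m₀ := by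
      refine ⟨w.2, ?_⟩
      intro hz
      obtain ⟨m', hm', -⟩ := Set.mem_iUnion₂.mp hz
      have : rk m' < rk m₀ := hm'
      omega
    have hwv : pullback.snd f p₁ w.1 = v₀ := by
      rw [← hπ2, Scheme.Hom.comp_apply, hπw, hw'₀2]
    have hwj : w.1 ∈ Set.range j := by
      simp only [j]
      rw [Scheme.Pullback.range_map]
      refine ⟨⟨pullback.fst f p₁ w.1, rfl⟩, ⟨⟨v₀, hv₀⟩, ?_⟩⟩
      exact hwv.symm
    obtain ⟨z₂, hz₂⟩ := hwj
    have hz₂B : z₂ ∈ j ⁻¹ᵁ B m₀ := by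
      show j z₂ ∈ B m₀
      rw [hz₂]
      exact hwB
    refine ⟨z₂, ?_⟩
    have h4 : h z₂ = ((j ⁻¹ᵁ B m₀).ι ≫ h) ⟨z₂, hz₂B⟩ := by
      rw [Scheme.Hom.comp_apply]
      rfl
    rw [h4, hh m₀]
    have h5 : IsOpenImmersion.lift (π ⁻¹ᵁ W' m₀).ι ((j ⁻¹ᵁ B m₀).ι ≫ j) (hr m₀) ⟨z₂, hz₂B⟩ = w := by
      apply Subtype.ext
      have h6 := congrArg (fun φ => φ.base (⟨z₂, hz₂B⟩ : ↥(j ⁻¹ᵁ B m₀))) (hlift m₀)
      exact h6.trans hz₂
    rw [Scheme.Hom.comp_apply, h5, Scheme.Hom.comp_apply, Scheme.Hom.comp_apply, hw1,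
      ← Scheme.Hom.comp_apply e.hom, Iso.hom_inv_id]
    rfl

theorem propC_point {X Y : Scheme.{u}} (f : X ⟶ Y) [IsIntegralHom f]
    (hinj : Function.Injective f) {U : Scheme.{u}} (g : U ⟶ X) [Etale g] (u : U) :
    ∃ (V : Scheme.{u}) (p : V ⟶ Y) (_ : Etale p) (h : pullback f p ⟶ U),
      h ≫ g = pullback.fst f p ∧ u ∈ Set.range h := by
  obtain ⟨Y₀, hY₀, hy⟩ : ∃ Y₀ : Y.Opens, IsAffineOpen Y₀ ∧ f (g u) ∈ Y₀ := by
    obtain ⟨_, ⟨Y₀, hY₀, rfl⟩, hy, -⟩ :=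
      Y.isBasis_affineOpens.exists_subset_of_mem_open (Set.mem_univ (f (g u))) isOpen_univ
    exact ⟨Y₀, hY₀, hy⟩
  haveI : IsAffine (Y₀ : Scheme.{u}) := hY₀
  haveI : IsAffine ((f ⁻¹ᵁ Y₀ : X.Opens) : Scheme.{u}) := hY₀.preimage f
  have huU : u ∈ g ⁻¹ᵁ (f ⁻¹ᵁ Y₀) := hy
  have hinj₀ : Function.Injective (f ∣_ Y₀) := by
    intro a b hab
    apply Subtype.ext
    apply hinj
    have h1 := congrArg (fun φ => φ.base a) (morphismRestrict_ι f Y₀)
    have h2 := congrArg (fun φ => φ.base b) (morphismRestrict_ι f Y₀)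
    have h3 : f a.1 = ((f ∣_ Y₀) a).1 := h1.symm
    have h4 : f b.1 = ((f ∣_ Y₀) b).1 := h2.symm
    rw [h3, h4, hab]
  obtain ⟨V, p₀, hp₀, h₀, hh₀, ⟨z₀, hz₀⟩⟩ :=
    propC_point_affine (f ∣_ Y₀) hinj₀ (g ∣_ (f ⁻¹ᵁ Y₀)) ⟨u, huU⟩
  haveI := hp₀
  have hrange : Set.range (pullback.fst f (p₀ ≫ Y₀.ι)) ⊆ Set.range (f ⁻¹ᵁ Y₀).ι := by
    rintro _ ⟨w, rfl⟩
    rw [Scheme.Opens.range_ι]
    show f (pullback.fst f (p₀ ≫ Y₀.ι) w) ∈ Y₀
    rw [← Scheme.Hom.comp_apply, pullback.condition, Scheme.Hom.comp_apply, Scheme.Hom.comp_apply]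
    exact (p₀ (pullback.snd f (p₀ ≫ Y₀.ι) w)).2
  let l : pullback f (p₀ ≫ Y₀.ι) ⟶ ((f ⁻¹ᵁ Y₀ : X.Opens) : Scheme.{u}) :=
    IsOpenImmersion.lift (f ⁻¹ᵁ Y₀).ι (pullback.fst f (p₀ ≫ Y₀.ι)) hrange
  have hl : l ≫ (f ⁻¹ᵁ Y₀).ι = pullback.fst f (p₀ ≫ Y₀.ι) := IsOpenImmersion.lift_fac _ _ _
  have hcond : l ≫ (f ∣_ Y₀) = pullback.snd f (p₀ ≫ Y₀.ι) ≫ p₀ := by
    rw [← cancel_mono Y₀.ι, Category.assoc, morphismRestrict_ι, ← Category.assoc, hl,
      pullback.condition, Category.assoc]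
  let Θ : pullback f (p₀ ≫ Y₀.ι) ⟶ pullback (f ∣_ Y₀) p₀ :=
    pullback.lift l (pullback.snd f (p₀ ≫ Y₀.ι)) hcond
  have hΘ : Θ ≫ pullback.fst (f ∣_ Y₀) p₀ ≫ (f ⁻¹ᵁ Y₀).ι = pullback.fst f (p₀ ≫ Y₀.ι) := by
    rw [← Category.assoc, pullback.lift_fst, hl]
  have hΘ2 : Θ ≫ pullback.snd (f ∣_ Y₀) p₀ = pullback.snd f (p₀ ≫ Y₀.ι) := pullback.lift_snd _ _ _
  let Θ' : pullback (f ∣_ Y₀) p₀ ⟶ pullback f (p₀ ≫ Y₀.ι) :=
    pullback.lift (pullback.fst (f ∣_ Y₀) p₀ ≫ (f ⁻¹ᵁ Y₀).ι) (pullback.snd (f ∣_ Y₀) p₀) (by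
      rw [Category.assoc, ← morphismRestrict_ι, ← Category.assoc, pullback.condition,
        Category.assoc])
  have hΘ'Θ : Θ' ≫ Θ = 𝟙 _ := by
    apply pullback.hom_ext
    · rw [← cancel_mono (f ⁻¹ᵁ Y₀).ι, Category.assoc, Category.assoc, hΘ, pullback.lift_fst,
        Category.id_comp]
    · rw [Category.assoc, hΘ2, pullback.lift_snd, Category.id_comp]
  refine ⟨V, p₀ ≫ Y₀.ι, inferInstance, Θ ≫ h₀ ≫ (g ⁻¹ᵁ (f ⁻¹ᵁ Y₀)).ι, ?_, ?_⟩
  · rw [Category.assoc, Category.assoc, ← morphismRestrict_ι, ← Category.assoc h₀, hh₀]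
    exact hΘ
  · refine ⟨Θ' z₀, ?_⟩
    have hw : Θ (Θ' z₀) = z₀ := by
      rw [← Scheme.Hom.comp_apply, hΘ'Θ]
      rfl
    rw [Scheme.Hom.comp_apply, Scheme.Hom.comp_apply, hw, hz₀]
    rfl

/-- condition (C) for integral morphisms injective on points -/
theorem propC {X Y : Scheme.{u}} (f : X ⟶ Y) [IsIntegralHom f] (hinj : Function.Injective f) :
    BigSite.PropC f := by
  intro U g _
  choose V p hp h hh hu using fun u : U => propC_point f hinj g u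
  haveI : Etale (Sigma.desc p) := IsZariskiLocalAtSource.sigmaDesc hp
  have hιp : ∀ u, Sigma.ι V u ≫ Sigma.desc p = p u := fun u => Sigma.ι_desc _ _
  let O : U → (pullback f (Sigma.desc p)).Opens := fun u =>
    (pullback.snd f (Sigma.desc p)) ⁻¹ᵁ (Sigma.ι V u).opensRange
  have hdisj : ∀ a b, a ≠ b → Disjoint (O a) (O b) := by
    intro a b hab
    have hd := disjoint_opensRange_sigmaι V a b hab
    rw [disjoint_iff] at hd ⊢
    simp only [O]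
    rw [← Scheme.Hom.preimage_inf, hd]
    rfl
  have hcover : ∀ z : ↑(pullback f (Sigma.desc p)), ∃ a, z ∈ O a := by
    intro z
    obtain ⟨a, y, hy⟩ : ∃ (a : U) (y : ↑(V a)),
        Sigma.ι V a y = pullback.snd f (Sigma.desc p) z :=
      (sigmaOpenCover V).exists_eq (pullback.snd f (Sigma.desc p) z)
    exact ⟨a, y, hy⟩
  have hr : ∀ a, Set.range ((O a).ι ≫ pullback.snd f (Sigma.desc p)) ⊆
      Set.range (Sigma.ι V a) := by
    intro a
    rintro _ ⟨z, rfl⟩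
    rw [Scheme.Hom.comp_apply]
    exact z.2
  have hlift : ∀ a, IsOpenImmersion.lift (Sigma.ι V a)
      ((O a).ι ≫ pullback.snd f (Sigma.desc p)) (hr a) ≫ Sigma.ι V a =
      (O a).ι ≫ pullback.snd f (Sigma.desc p) := fun a => IsOpenImmersion.lift_fac _ _ _
  have hcond : ∀ a, ((O a).ι ≫ pullback.fst f (Sigma.desc p)) ≫ f =
      IsOpenImmersion.lift (Sigma.ι V a) ((O a).ι ≫ pullback.snd f (Sigma.desc p)) (hr a) ≫
        p a := by
    intro a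
    rw [← hιp a, ← Category.assoc, hlift a, Category.assoc, Category.assoc, pullback.condition]
  obtain ⟨k, hk⟩ := glue_disjoint O hdisj hcover
    (fun a => pullback.lift _ _ (hcond a) ≫ h a)
  refine ⟨∐ V, Sigma.desc p, inferInstance, k, ?_, ?_⟩
  · apply Scheme.hom_ext_of_forall
    intro z
    obtain ⟨a, ha⟩ := hcover z
    refine ⟨O a, ha, ?_⟩
    rw [← Category.assoc, hk a, Category.assoc, hh a, pullback.lift_fst]
  · constructor
    intro u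
    obtain ⟨z, hz⟩ := hu u
    let ρ : pullback f (p u) ⟶ pullback f (Sigma.desc p) :=
      pullback.map f (p u) f (Sigma.desc p) (𝟙 X) (Sigma.ι V u) (𝟙 Y) (by simp)
        (by rw [Category.comp_id, hιp u])
    have hρ1 : ρ ≫ pullback.fst f (Sigma.desc p) = pullback.fst f (p u) := by simp [ρ]
    have hρ2 : ρ ≫ pullback.snd f (Sigma.desc p) = pullback.snd f (p u) ≫ Sigma.ι V u := by
      simp [ρ]
    have hρr : Set.range ρ ⊆ Set.range (O u).ι := by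
      rintro _ ⟨w, rfl⟩
      rw [Scheme.Opens.range_ι]
      show pullback.snd f (Sigma.desc p) (ρ w) ∈ (Sigma.ι V u).opensRange
      rw [← Scheme.Hom.comp_apply, hρ2, Scheme.Hom.comp_apply]
      exact ⟨_, rfl⟩
    let σ : pullback f (p u) ⟶ ((O u : (pullback f (Sigma.desc p)).Opens) : Scheme.{u}) :=
      IsOpenImmersion.lift (O u).ι ρ hρr
    have hσ : σ ≫ (O u).ι = ρ := IsOpenImmersion.lift_fac _ _ _
    have hσl : σ ≫ pullback.lift _ _ (hcond u) = 𝟙 _ := by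
      apply pullback.hom_ext
      · rw [Category.assoc, pullback.lift_fst, ← Category.assoc, hσ, hρ1, Category.id_comp]
      · rw [Category.assoc, pullback.lift_snd, Category.id_comp,
          ← cancel_mono (Sigma.ι V u), Category.assoc, hlift u, ← Category.assoc, hσ, hρ2]
    refine ⟨(O u).ι (σ z), ?_⟩
    rw [← Scheme.Hom.comp_apply (O u).ι, hk u, Scheme.Hom.comp_apply,
      ← Scheme.Hom.comp_apply σ, hσl]
    exact hz

end IntPropC
end H9FE
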