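import Mathlib
import Groth.Prelude.Def_EtBase
import Groth.Prelude.Def_BigSite
import Groth.Agent.Lib.Helper5.Misc.EtStalk
import Groth.Agent.Lib.Helper5.Misc.EtSiteBasic
import Groth.Agent.S0728
import Groth.Agent.S0072
import Groth.Agent.S6633

/-! helper9: for an integral universally injective morphism `f`, the comparison map
`(f_* F)_{f ξ} ⟶ F_ξ` is bijective. -/

set_option autoImplicit false
universe u
open CategoryTheory CategoryTheory.Limits AlgebraicGeometry Opposite

namespace H9FE.IntUIStalk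

set_option backward.isDefEq.respectTransparency false
set_option linter.style.haveILetI false
set_option linter.unusedSectionVars false

open Groth.Agent.Lib.Helper5 Groth.Agent.S0728 Groth.Agent.S0072.Aux

variable {X Y : Scheme.{u}} (f : X ⟶ Y) {Ω : Type u} [Field Ω] [IsSepClosed Ω]
  (ξ : Spec (CommRingCat.of Ω) ⟶ X)

lemma isClosedEmbedding_of_integral_univInj [IsIntegralHom f] [UniversallyInjective f] :
    Topology.IsClosedEmbedding f.base :=
  Topology.IsClosedEmbedding.of_continuous_injective_isClosedMap f.continuous f.injective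
    f.isClosedMap

lemma propC_of_integral_univInj [IsIntegralHom f] [UniversallyInjective f] : BigSite.PropC f :=
  Groth.Agent.S6633.result f (isClosedEmbedding_of_integral_univInj f)

/-- a geometric point of `X ×_Y V` over `ξ` is the lift of its image in `V` -/
lemma liftPt_of_fiber (V : Y.Etale) (ζ : (Scheme.pointSmallEtale ξ).fiber.obj ((EtCoh.bc f).obj V)) :
    ∃ v : (Scheme.pointSmallEtale (ξ ≫ f)).fiber.obj V,
      v.left = ζ.left ≫ pullback.fst V.hom f ∧ liftPt f (ξ ≫ f) ξ rfl V v = ζ := by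
  have hζ : ζ.left ≫ pullback.snd V.hom f = ξ := Over.w ζ
  have hv : (ζ.left ≫ pullback.fst V.hom f) ≫ V.hom = ξ ≫ f := by
    rw [Category.assoc, pullback.condition, ← Category.assoc, hζ]
  refine ⟨Over.homMk (ζ.left ≫ pullback.fst V.hom f) hv, rfl, ?_⟩
  apply Over.OverMorphism.ext
  rw [liftPt_left]
  apply pullback.hom_ext
  · rw [pullback.lift_fst]
    rfl
  · rw [pullback.lift_snd, hζ]

theorem phi_surjective [IsIntegralHom f] [UniversallyInjective f] (F : EtCoh.Ab X) :
    Function.Surjective (phi f (ξ ≫ f) F ξ rfl) := by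
  haveI := EtStalk.pfc.{u}
  intro t₀
  obtain ⟨U, u, τ, rfl⟩ := (Scheme.pointSmallEtale ξ).toPresheafFiber_jointly_surjective
    (P := F.obj) t₀
  haveI : Etale U.hom := U.prop
  obtain ⟨V, v, hv, h, hh, hs⟩ := propC_of_integral_univInj f U.left U.hom
  haveI := hv
  let Vo : Y.Etale := EtSiteBasic.ofEtale v
  let k : (EtCoh.bc f).obj Vo ⟶ U := EtSiteBasic.homOfPropC f U v h hh
  have hk : Function.Surjective k.left := by
    have h1 : Function.Surjective ((pullbackSymmetry v f).hom ≫ h) := by
      rw [Scheme.Hom.comp_base, TopCat.coe_comp]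
      exact hs.1.comp (pullbackSymmetry v f).hom.homeomorph.surjective
    exact h1
  obtain ⟨z, hz⟩ := hk (u.left (default : Spec (CommRingCat.of Ω)))
  obtain ⟨ζ, hζ, -⟩ := EtStalk.exists_lift_fiber ξ k u z hz
  obtain ⟨vpt, -, hvpt⟩ := liftPt_of_fiber f ξ Vo ζ
  refine ⟨(Scheme.pointSmallEtale (ξ ≫ f)).toPresheafFiber Vo vpt ((EtCoh.push f).obj F).obj
    (F.obj.map k.op τ), ?_⟩
  rw [phi_germ, hvpt]
  have w := ConcreteCategory.congr_hom
    ((Scheme.pointSmallEtale ξ).toPresheafFiber_w k ζ F.obj) τ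
  simp only [ConcreteCategory.comp_apply] at w
  rw [hζ] at w
  exact w

theorem phi_injective [IsIntegralHom f] [UniversallyInjective f] (F : EtCoh.Ab X) :
    Function.Injective (phi f (ξ ≫ f) F ξ rfl) := by
  haveI := EtStalk.pfc.{u}
  rw [injective_iff_map_eq_zero]
  intro a ha
  obtain ⟨V, v, s, rfl⟩ := (Scheme.pointSmallEtale (ξ ≫ f)).toPresheafFiber_jointly_surjective
    (P := ((EtCoh.push f).obj F).obj) a
  let s' : EtCoh.sect F ((EtCoh.bc f).obj V) := s
  rw [phi_germ] at ha
  have h0' : (Scheme.pointSmallEtale ξ).toPresheafFiber ((EtCoh.bc f).obj V)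
      (liftPt f (ξ ≫ f) ξ rfl V v) F.obj s' =
      (Scheme.pointSmallEtale ξ).toPresheafFiber ((EtCoh.bc f).obj V)
      (liftPt f (ξ ≫ f) ξ rfl V v) F.obj 0 := ha.trans (map_zero _).symm
  rw [(Scheme.pointSmallEtale ξ).toPresheafFiber_eq_iff'] at h0'
  obtain ⟨U, k, uu, hk, hres⟩ := h0'
  haveI : Etale V.hom := V.prop
  haveI : IsIntegralHom (pullback.fst V.hom f) := inferInstance
  haveI : UniversallyInjective (pullback.fst V.hom f) :=
    MorphismProperty.pullback_fst (P := @UniversallyInjective) V.hom f inferInstance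
  obtain ⟨V', v'', hv'', h, hh, hs⟩ :=
    propC_of_integral_univInj (pullback.fst V.hom f) U.left k.left
  haveI := hv''
  let V'o : Y.Etale := EtSiteBasic.ofEtale (v'' ≫ V.hom)
  let π : V'o ⟶ V := MorphismProperty.Over.homMk v'' rfl trivial
  have sq := EtCoh.isPullback_bc_map f π
  let e := sq.isoPullback
  have he1 : e.hom ≫ pullback.fst (pullback.fst V.hom f) v'' = ((EtCoh.bc f).map π).left :=
    sq.isoPullback_hom_fst
  have hk1 : k.left ≫ pullback.snd V.hom f = U.hom := Over.w k.hom
  have hm : (e.hom ≫ h) ≫ U.hom = ((EtCoh.bc f).obj V'o).hom := by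
    rw [← hk1, Category.assoc, ← Category.assoc h, hh, ← Category.assoc, he1, bc_map_snd]
    rfl
  let m : (EtCoh.bc f).obj V'o ⟶ U := MorphismProperty.Over.homMk (e.hom ≫ h) hm trivial
  have hcomp : m ≫ k = (EtCoh.bc f).map π := by
    apply MorphismProperty.Over.Hom.ext
    change (e.hom ≫ h) ≫ k.left = ((EtCoh.bc f).map π).left
    rw [Category.assoc, hh, he1]
  have hmsurj : Function.Surjective m.left := by
    have h1 : Function.Surjective (e.hom ≫ h) := by
      rw [Scheme.Hom.comp_base, TopCat.coe_comp]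
      exact hs.1.comp e.hom.homeomorph.surjective
    exact h1
  obtain ⟨z, hz⟩ := hmsurj (uu.left (default : Spec (CommRingCat.of Ω)))
  obtain ⟨ζ, hζ, -⟩ := EtStalk.exists_lift_fiber ξ m uu z hz
  obtain ⟨vpt', hvl, hvpt'⟩ := liftPt_of_fiber f ξ V'o ζ
  have hπ : (Scheme.pointSmallEtale (ξ ≫ f)).fiber.map π vpt' = v := by
    apply Over.OverMorphism.ext
    change vpt'.left ≫ π.left = v.left
    have e1 : (liftPt f (ξ ≫ f) ξ rfl V v).left ≫ pullback.fst V.hom f = v.left := by
      rw [liftPt_left]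
      exact pullback.lift_fst _ _ _
    have e2 : uu.left ≫ k.left = (liftPt f (ξ ≫ f) ξ rfl V v).left :=
      congrArg (fun a => a.left) hk
    have e3 : ζ.left ≫ m.left = uu.left := congrArg (fun a => a.left) hζ
    have e4 : m.left ≫ k.left = ((EtCoh.bc f).map π).left := congrArg (fun a => a.left) hcomp
    rw [hvl, ← e1, ← e2, ← e3]
    simp only [Category.assoc]
    rw [← Category.assoc m.left, e4, bc_map_fst]
  have w := ConcreteCategory.congr_hom
    ((Scheme.pointSmallEtale (ξ ≫ f)).toPresheafFiber_w π vpt' ((EtCoh.push f).obj F).obj) s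
  simp only [ConcreteCategory.comp_apply] at w
  rw [hπ] at w
  rw [← w]
  have hz0 : ((EtCoh.push f).obj F).obj.map π.op s = 0 := by
    change F.obj.map ((EtCoh.bc f).map π).op s' = 0
    rw [← hcomp, map_comp_apply, hres, map_zero, map_zero]
  rw [hz0, map_zero]

theorem phi_bijective [IsIntegralHom f] [UniversallyInjective f] (F : EtCoh.Ab X) :
    Function.Bijective (phi f (ξ ≫ f) F ξ rfl) :=
  ⟨phi_injective f ξ F, phi_surjective f ξ F⟩

instance phi_isIso [IsIntegralHom f] [UniversallyInjective f] (F : EtCoh.Ab X) :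
    IsIso (phi f (ξ ≫ f) F ξ rfl) :=
  (ConcreteCategory.isIso_iff_bijective _).2 (phi_bijective f ξ F)

end H9FE.IntUIStalk
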