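import Mathlib
import Groth.Prelude.Def_EtBase
import Groth.Agent.Lib.Helper5.Misc.EtStalk
import Groth.Agent.Lib.Helper5.Misc.EtStalkPull
import Groth.Agent.Lib.Helper9.FE.StalkPullGerm
import Groth.Agent.Lib.Helper9.FE.IntUIStalk
import Groth.Agent.S0072

/-! helper9: the degree-zero base change map computed on stalks. -/

set_option autoImplicit false
universe u
open CategoryTheory CategoryTheory.Limits AlgebraicGeometry Opposite

namespace H9FE.BC0Germ

set_option backward.isDefEq.respectTransparency false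
set_option linter.style.haveILetI false
set_option linter.unusedSectionVars false

open Groth.Agent.Lib.Helper5 Groth.Agent.S0072.Aux

variable {X Y X' Y' : Scheme.{u}} (f : X ⟶ Y) (g : Y' ⟶ Y) (f' : X' ⟶ Y') (g' : X' ⟶ X)
  (w : g' ≫ f = f' ≫ g) (F : EtCoh.Ab X)

/-- the comparison isomorphism `X' ×_{Y'} (Y' ×_Y V) ≅ X' ×_X (X ×_Y V)` -/
noncomputable def kV (V : Y.Etale) :
    (EtCoh.bc f').obj ((EtCoh.bc g).obj V) ⟶ (EtCoh.bc g').obj ((EtCoh.bc f).obj V) :=
  (MorphismProperty.Over.pullbackComp (P := EtCoh.etaleMP) (Q := ⊤) f' g).inv.app V ≫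
    (MorphismProperty.Over.pullbackCongr (P := EtCoh.etaleMP) (Q := ⊤) w).inv.app V ≫
    (MorphismProperty.Over.pullbackComp (P := EtCoh.etaleMP) (Q := ⊤) g' f).hom.app V

/-- the adjoint of the base change map -/
noncomputable def gamma : (EtCoh.push f).obj F ⟶
    (EtCoh.push g).obj ((EtCoh.push f').obj ((EtCoh.pull g').obj F)) :=
  (EtCoh.push f).map ((EtCoh.pullPushAdj g').unit.app F) ≫ (EtCoh.pushComp f g').hom.app _ ≫
      (EtCoh.pushCongr w).hom.app _ ≫ (EtCoh.pushComp g f').inv.app _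

lemma unit_baseChange0 :
    (EtCoh.pullPushAdj g).unit.app ((EtCoh.push f).obj F) ≫
      (EtCoh.push g).map (EtCoh.baseChange0 f g f' g' w F) = gamma f g f' g' w F := by
  exact ((EtCoh.pullPushAdj g).homEquiv_unit _ _
    (EtCoh.baseChange0 f g f' g' w F)).symm.trans (Equiv.apply_symm_apply _ _)

lemma gamma_app (V : Y.Etale) :
    (gamma f g f' g' w F).hom.app (op V) =
      ((EtCoh.pullPushAdj g').unit.app F).hom.app (op ((EtCoh.bc f).obj V)) ≫
        ((EtCoh.pull g').obj F).obj.map (kV f g f' g' w V).op := by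
  have h1 : (gamma f g f' g' w F).hom.app (op V) =
      ((EtCoh.pullPushAdj g').unit.app F).hom.app (op ((EtCoh.bc f).obj V)) ≫
        ((EtCoh.pull g').obj F).obj.map
          ((MorphismProperty.Over.pullbackComp (P := EtCoh.etaleMP) (Q := ⊤) g' f).hom.app V).op ≫
        ((EtCoh.pull g').obj F).obj.map
          ((MorphismProperty.Over.pullbackCongr (P := EtCoh.etaleMP) (Q := ⊤) w).inv.app V).op ≫
        ((EtCoh.pull g').obj F).obj.map
          ((MorphismProperty.Over.pullbackComp (P := EtCoh.etaleMP) (Q := ⊤) f' g).inv.app V).op :=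
    rfl
  rw [h1, kV, op_comp, op_comp, Functor.map_comp, Functor.map_comp]
  simp only [Category.assoc]

lemma kV_fst_fst (V : Y.Etale) :
    (kV f g f' g' w V).left ≫ pullback.fst (pullback.snd V.hom f) g' ≫ pullback.fst V.hom f =
      pullback.fst (pullback.snd V.hom g) f' ≫ pullback.fst V.hom g := by
  have hc := MorphismProperty.Over.pullbackComp_left_fst_fst (P := EtCoh.etaleMP) (Q := ⊤) g' f V
  have hb := MorphismProperty.Over.pullbackCongr_hom_app_left_fst (P := EtCoh.etaleMP) (Q := ⊤) w V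
  have ha := MorphismProperty.Over.pullbackComp_left_fst_fst (P := EtCoh.etaleMP) (Q := ⊤) f' g V
  have hb' : ((MorphismProperty.Over.pullbackCongr (P := EtCoh.etaleMP) (Q := ⊤) w).inv.app V).left ≫
      pullback.fst V.hom (g' ≫ f) = pullback.fst V.hom (f' ≫ g) := by
    rw [← hb, ← Category.assoc]
    have : ((MorphismProperty.Over.pullbackCongr (P := EtCoh.etaleMP) (Q := ⊤) w).inv.app V).left ≫
        ((MorphismProperty.Over.pullbackCongr (P := EtCoh.etaleMP) (Q := ⊤) w).hom.app V).left =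
        𝟙 _ := by
      rw [← MorphismProperty.Comma.comp_left, Iso.inv_hom_id_app]
      rfl
    rw [this, Category.id_comp]
  have ha' : ((MorphismProperty.Over.pullbackComp (P := EtCoh.etaleMP) (Q := ⊤) f' g).inv.app V).left ≫
      pullback.fst V.hom (f' ≫ g) =
      pullback.fst (pullback.snd V.hom g) f' ≫ pullback.fst V.hom g := by
    rw [← ha, ← Category.assoc]
    have : ((MorphismProperty.Over.pullbackComp (P := EtCoh.etaleMP) (Q := ⊤) f' g).inv.app V).left ≫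
        ((MorphismProperty.Over.pullbackComp (P := EtCoh.etaleMP) (Q := ⊤) f' g).hom.app V).left =
        𝟙 _ := by
      rw [← MorphismProperty.Comma.comp_left, Iso.inv_hom_id_app]
      rfl
    rw [this, Category.id_comp]
  change (((MorphismProperty.Over.pullbackComp (P := EtCoh.etaleMP) (Q := ⊤) f' g).inv.app V).left ≫
    ((MorphismProperty.Over.pullbackCongr (P := EtCoh.etaleMP) (Q := ⊤) w).inv.app V).left ≫
    ((MorphismProperty.Over.pullbackComp (P := EtCoh.etaleMP) (Q := ⊤) g' f).hom.app V).left) ≫ _ = _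
  simp only [Category.assoc]
  rw [hc, hb', ha']

variable {Ω : Type u} [Field Ω] [IsSepClosed Ω] (ξ' : Spec (CommRingCat.of Ω) ⟶ X')

omit [IsSepClosed Ω] in
lemma liftPt_fst' {X Y : Scheme.{u}} (f : X ⟶ Y) [IsSepClosed Ω] (η : Spec (CommRingCat.of Ω) ⟶ Y)
    (ξ : Spec (CommRingCat.of Ω) ⟶ X) (hξ : ξ ≫ f = η) (V : Y.Etale)
    (v : (Scheme.pointSmallEtale η).fiber.obj V) :
    (liftPt f η ξ hξ V v).left ≫ pullback.fst V.hom f = v.left := by
  rw [liftPt_left]
  exact pullback.lift_fst _ _ _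

omit [IsSepClosed Ω] in
lemma liftPt_snd' {X Y : Scheme.{u}} (f : X ⟶ Y) [IsSepClosed Ω] (η : Spec (CommRingCat.of Ω) ⟶ Y)
    (ξ : Spec (CommRingCat.of Ω) ⟶ X) (hξ : ξ ≫ f = η) (V : Y.Etale)
    (v : (Scheme.pointSmallEtale η).fiber.obj V) :
    (liftPt f η ξ hξ V v).left ≫ pullback.snd V.hom f = ξ := by
  rw [liftPt_left]
  exact pullback.lift_snd _ _ _

include w in
lemma hξ : (ξ' ≫ g') ≫ f = (ξ' ≫ f') ≫ g := by
  rw [Category.assoc, Category.assoc, w]

lemma kV_point (V : Y.Etale)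
    (v : (Scheme.pointSmallEtale ((ξ' ≫ f') ≫ g)).fiber.obj V) :
    (Scheme.pointSmallEtale ξ').fiber.map (kV f g f' g' w V)
      (liftPt f' (ξ' ≫ f') ξ' rfl ((EtCoh.bc g).obj V)
        (liftPt g ((ξ' ≫ f') ≫ g) (ξ' ≫ f') rfl V v)) =
    liftPt g' (ξ' ≫ g') ξ' rfl ((EtCoh.bc f).obj V)
      (liftPt f ((ξ' ≫ f') ≫ g) (ξ' ≫ g') (hξ f g f' g' w ξ') V v) := by
  apply Over.OverMorphism.ext
  change (liftPt f' (ξ' ≫ f') ξ' rfl ((EtCoh.bc g).obj V)
        (liftPt g ((ξ' ≫ f') ≫ g) (ξ' ≫ f') rfl V v)).left ≫ (kV f g f' g' w V).left =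
    (liftPt g' (ξ' ≫ g') ξ' rfl ((EtCoh.bc f).obj V)
      (liftPt f ((ξ' ≫ f') ≫ g) (ξ' ≫ g') (hξ f g f' g' w ξ') V v)).left
  have hk : (kV f g f' g' w V).left ≫ pullback.snd (pullback.snd V.hom f) g' =
      pullback.snd (pullback.snd V.hom g) f' := Over.w (kV f g f' g' w V).hom
  have hp1 : (liftPt f' (ξ' ≫ f') ξ' rfl ((EtCoh.bc g).obj V)
        (liftPt g ((ξ' ≫ f') ≫ g) (ξ' ≫ f') rfl V v)).left ≫
      pullback.snd (pullback.snd V.hom g) f' = ξ' := by
    rw [liftPt_left]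
    exact pullback.lift_snd _ _ _
  have hp2 : (liftPt f' (ξ' ≫ f') ξ' rfl ((EtCoh.bc g).obj V)
        (liftPt g ((ξ' ≫ f') ≫ g) (ξ' ≫ f') rfl V v)).left ≫
      pullback.fst (pullback.snd V.hom g) f' ≫ pullback.fst V.hom g = v.left := by
    rw [← Category.assoc]
    exact (congrArg (fun z => z ≫ pullback.fst V.hom g)
      (liftPt_fst' f' (ξ' ≫ f') ξ' rfl ((EtCoh.bc g).obj V)
        (liftPt g ((ξ' ≫ f') ≫ g) (ξ' ≫ f') rfl V v))).trans
      (liftPt_fst' g ((ξ' ≫ f') ≫ g) (ξ' ≫ f') rfl V v)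
  rw [liftPt_left (f := g')]
  apply pullback.hom_ext
  · rw [pullback.lift_fst, liftPt_left (f := f)]
    apply pullback.hom_ext
    · rw [pullback.lift_fst]
      simp only [Category.assoc]
      exact (congrArg (fun z => (liftPt f' (ξ' ≫ f') ξ' rfl ((EtCoh.bc g).obj V)
        (liftPt g ((ξ' ≫ f') ≫ g) (ξ' ≫ f') rfl V v)).left ≫ z) (kV_fst_fst f g f' g' w V)).trans hp2
    · rw [pullback.lift_snd]
      simp only [Category.assoc]
      have e1 : pullback.fst (pullback.snd V.hom f) g' ≫ pullback.snd V.hom f =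
          pullback.snd (pullback.snd V.hom f) g' ≫ g' := pullback.condition
      have e2 : (kV f g f' g' w V).left ≫ pullback.fst (pullback.snd V.hom f) g' ≫
          pullback.snd V.hom f = pullback.snd (pullback.snd V.hom g) f' ≫ g' := by
        rw [e1, ← Category.assoc, hk]
      refine (congrArg (fun z => (liftPt f' (ξ' ≫ f') ξ' rfl ((EtCoh.bc g).obj V)
        (liftPt g ((ξ' ≫ f') ≫ g) (ξ' ≫ f') rfl V v)).left ≫ z) e2).trans ?_
      rw [← Category.assoc, hp1]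
  · rw [pullback.lift_snd, Category.assoc]
    exact (congrArg (fun z => (liftPt f' (ξ' ≫ f') ξ' rfl ((EtCoh.bc g).obj V)
        (liftPt g ((ξ' ≫ f') ≫ g) (ξ' ≫ f') rfl V v)).left ≫ z) hk).trans hp1

lemma toPF_phi' {X Y : Scheme.{u}} (f : X ⟶ Y) (η : Spec (CommRingCat.of Ω) ⟶ Y)
    (ξ : Spec (CommRingCat.of Ω) ⟶ X) (hξ : ξ ≫ f = η) (F : EtCoh.Ab X) (V : Y.Etale)
    (v : (Scheme.pointSmallEtale η).fiber.obj V) :
    (Scheme.pointSmallEtale η).toPresheafFiber V v ((EtCoh.push f).obj F).obj ≫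
      phi f η F ξ hξ =
    (Scheme.pointSmallEtale ξ).toPresheafFiber ((EtCoh.bc f).obj V)
      (liftPt f η ξ hξ V v) F.obj :=
  (Scheme.pointSmallEtale η).toPresheafFiber_presheafFiberDesc _ _ V v

/-- the base change map on stalks, through the comparison maps `phi` -/
theorem claim :
    (EtStalkPull.stalkPullIso g (ξ' ≫ f')).inv.app ((EtCoh.push f).obj F) ≫
      (EtCoh.stalk (ξ' ≫ f')).map (EtCoh.baseChange0 f g f' g' w F) ≫
      phi f' (ξ' ≫ f') ((EtCoh.pull g').obj F) ξ' rfl ≫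
      (EtStalkPull.stalkPullIso g' ξ').hom.app F =
    phi f ((ξ' ≫ f') ≫ g) F (ξ' ≫ g') (hξ f g f' g' w ξ') := by
  apply (Scheme.pointSmallEtale ((ξ' ≫ f') ≫ g)).presheafFiber_hom_ext
  intro V v
  have A1 := StalkPullGerm.stalkPullIso_inv_germ g (ξ' ≫ f') ((EtCoh.push f).obj F) V v
  have A2 := (Scheme.pointSmallEtale (ξ' ≫ f')).toPresheafFiber_naturality
    (EtCoh.baseChange0 f g f' g' w F).hom ((EtCoh.bc g).obj V)
    (liftPt g ((ξ' ≫ f') ≫ g) (ξ' ≫ f') rfl V v)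
  have A3 := toPF_phi' f' (ξ' ≫ f') ξ' rfl ((EtCoh.pull g').obj F) ((EtCoh.bc g).obj V)
    (liftPt g ((ξ' ≫ f') ≫ g) (ξ' ≫ f') rfl V v)
  have A4 : ((EtCoh.pullPushAdj g).unit.app ((EtCoh.push f).obj F)).hom.app (op V) ≫
      (EtCoh.baseChange0 f g f' g' w F).hom.app (op ((EtCoh.bc g).obj V)) =
      (gamma f g f' g' w F).hom.app (op V) :=
    congrArg (fun z => z.hom.app (op V)) (unit_baseChange0 f g f' g' w F)
  have A5 := gamma_app f g f' g' w F V
  have A6 := (Scheme.pointSmallEtale ξ').toPresheafFiber_w (kV f g f' g' w V)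
    (liftPt f' (ξ' ≫ f') ξ' rfl ((EtCoh.bc g).obj V)
      (liftPt g ((ξ' ≫ f') ≫ g) (ξ' ≫ f') rfl V v)) ((EtCoh.pull g').obj F).obj
  rw [kV_point] at A6
  have A7 := StalkPullGerm.stalkPullIso_inv_germ g' ξ' F ((EtCoh.bc f).obj V)
    (liftPt f ((ξ' ≫ f') ≫ g) (ξ' ≫ g') (hξ f g f' g' w ξ') V v)
  have A9 := toPF_phi' f ((ξ' ≫ f') ≫ g) (ξ' ≫ g') (hξ f g f' g' w ξ') F V v
  change (Scheme.pointSmallEtale ((ξ' ≫ f') ≫ g)).toPresheafFiber V v ((EtCoh.push f).obj F).obj ≫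
      (EtStalkPull.stalkPullIso g (ξ' ≫ f')).inv.app ((EtCoh.push f).obj F) ≫
      (Scheme.pointSmallEtale (ξ' ≫ f')).presheafFiber.map (EtCoh.baseChange0 f g f' g' w F).hom ≫
      phi f' (ξ' ≫ f') ((EtCoh.pull g').obj F) ξ' rfl ≫
      (EtStalkPull.stalkPullIso g' ξ').hom.app F =
    (Scheme.pointSmallEtale ((ξ' ≫ f') ≫ g)).toPresheafFiber V v ((EtCoh.push f).obj F).obj ≫
      phi f ((ξ' ≫ f') ≫ g) F (ξ' ≫ g') (hξ f g f' g' w ξ')
  rw [A9, reassoc_of% A1, reassoc_of% A2, reassoc_of% A3, reassoc_of% A4, A5, Category.assoc,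
    reassoc_of% A6, ← reassoc_of% A7]
  have A8 : (EtStalkPull.stalkPullIso g' ξ').inv.app F ≫ (EtStalkPull.stalkPullIso g' ξ').hom.app F =
      𝟙 _ := by
    rw [← NatTrans.comp_app, Iso.inv_hom_id]
    rfl
  rw [A8]
  exact Category.comp_id _

/-- the base change map on stalks, with a free geometric point of the base -/
theorem claim' (η' : Spec (CommRingCat.of Ω) ⟶ Y') (hf' : ξ' ≫ f' = η') :
    (EtStalkPull.stalkPullIso g η').inv.app ((EtCoh.push f).obj F) ≫
      (EtCoh.stalk η').map (EtCoh.baseChange0 f g f' g' w F) ≫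
      phi f' η' ((EtCoh.pull g').obj F) ξ' hf' ≫
      (EtStalkPull.stalkPullIso g' ξ').hom.app F =
    phi f (η' ≫ g) F (ξ' ≫ g') (by rw [← hf']; exact hξ f g f' g' w ξ') := by
  subst hf'
  exact claim f g f' g' w F ξ'

end H9FE.BC0Germ
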