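import Mathlib
import Groth.Prelude.Def_EtCore
import Groth.Agent.Lib.Helper9.FE.ConstUnit
import Groth.Agent.Lib.Helper9.FE.HpullCompEq

/-! helper9: coherence of `EtCore.pullConstIso` with `EtCore.pullComp` (the automorphism `eps` of
`HpullCompEq` is the identity), hence pullback on étale cohomology along a composite is exactly the
composite of the pullbacks followed by the map induced by `pullComp`. -/

universe u
open CategoryTheory CategoryTheory.Limits AlgebraicGeometry Opposite

namespace H9FE.HpullCompId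
set_option backward.isDefEq.respectTransparency false
set_option linter.style.haveILetI false
set_option linter.unusedSectionVars false

open H9FE.ConstUnit

variable {X Y Z : Scheme.{u}} (a : X ⟶ Y) (b : Y ⟶ Z) (A : AddCommGrpCat.{u+1})

/-- the iterated base change of the terminal object is terminal -/
noncomputable def bcbcTopIsTerminal :
    IsTerminal ((EtCoh.bc a).obj ((EtCoh.bc b).obj (EtCoh.top Z))) :=
  IsTerminal.isTerminalObj (EtCoh.bc a) _ (EtCore.bcTopIsTerminal b)

/-- global sections of iterated pushforwards: coherence of `pushGsecIso` with `pushComp` -/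
theorem pushGsec_comp (G : EtCoh.Ab X) :
    (EtCore.gsec Z).map ((EtCoh.pushComp b a).hom.app G) ≫ (EtCore.pushGsecIso (a ≫ b)).hom.app G =
      (EtCore.pushGsecIso b).hom.app ((EtCoh.push a).obj G) ≫ (EtCore.pushGsecIso a).hom.app G := by
  dsimp [EtCore.pushGsecIso, EtCoh.pushComp]
  rw [Functor.sheafPushforwardContinuousComp'_hom_app_hom_app]
  have h1 : ((EtCoh.push a).obj G).obj.map (EtCore.bcTopIso b).op.inv =
      G.obj.map ((EtCoh.bc a).map (EtCore.bcTopIso b).inv).op := rfl
  rw [h1, ← Functor.map_comp, ← Functor.map_comp]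
  congr 1
  apply Quiver.Hom.unop_inj
  exact (bcbcTopIsTerminal a b).hom_ext _ _

/-- transposes of `pullConstIso` compose -/
theorem cmap_comp :
    cmap (a ≫ b) A =
      cmap b A ≫ (EtCoh.push b).map (cmap a A) ≫ (EtCoh.pushComp b a).hom.app (cS X A) := by
  apply ((EtCore.constAdj Z).homEquiv _ _).injective
  rw [Adjunction.homEquiv_unit, Adjunction.homEquiv_unit]
  haveI : Mono ((EtCore.pushGsecIso (a ≫ b)).hom.app (cS X A)) := inferInstance
  rw [← cancel_mono ((EtCore.pushGsecIso (a ≫ b)).hom.app (cS X A))]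
  simp only [Category.assoc, Functor.map_comp]
  rw [ConstUnit.star (a ≫ b) A, pushGsec_comp a b (cS X A)]
  have hn := (EtCore.pushGsecIso b).hom.naturality (cmap a A)
  simp only [Functor.comp_map] at hn
  rw [reassoc_of% hn]
  have h1 := ConstUnit.star b A
  have h2 := ConstUnit.star a A
  rw [← h2, ← h1]
  simp only [Category.assoc]

/-- coherence: the pullback of the constant sheaf along a composite -/
theorem pullConstIso_comp :
    (EtCore.pullConstIso (a ≫ b)).hom.app A =
      (EtCore.pullComp a b).hom.app (cS Z A) ≫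
        (EtCoh.pull a).map ((EtCore.pullConstIso b).hom.app A) ≫
          (EtCore.pullConstIso a).hom.app A := by
  apply ((EtCoh.pullPushAdj (a ≫ b)).homEquiv _ _).injective
  rw [Adjunction.homEquiv_unit, Adjunction.homEquiv_unit]
  have hL : (EtCoh.pullPushAdj (a ≫ b)).unit.app (cS Z A) ≫
      (EtCoh.push (a ≫ b)).map ((EtCore.pullConstIso (a ≫ b)).hom.app A) = cmap (a ≫ b) A := rfl
  rw [hL, cmap_comp]
  have hu := Adjunction.unit_leftAdjointUniq_hom_app (EtCoh.pullPushAdj (a ≫ b))
    (((EtCoh.pullPushAdj b).comp (EtCoh.pullPushAdj a)).ofNatIsoRight (EtCoh.pushComp b a)) (cS Z A)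
  have hu' : (EtCoh.pullPushAdj (a ≫ b)).unit.app (cS Z A) ≫
      (EtCoh.push (a ≫ b)).map ((EtCore.pullComp a b).hom.app (cS Z A)) =
      (((EtCoh.pullPushAdj b).comp (EtCoh.pullPushAdj a)).ofNatIsoRight
        (EtCoh.pushComp b a)).unit.app (cS Z A) := hu
  rw [Functor.map_comp, reassoc_of% hu']
  have hadj : (((EtCoh.pullPushAdj b).comp (EtCoh.pullPushAdj a)).ofNatIsoRight
      (EtCoh.pushComp b a)).unit.app (cS Z A) =
      (EtCoh.pullPushAdj b).unit.app (cS Z A) ≫
        (EtCoh.push b).map ((EtCoh.pullPushAdj a).unit.app ((EtCoh.pull b).obj (cS Z A))) ≫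
          (EtCoh.pushComp b a).hom.app ((EtCoh.pull a).obj ((EtCoh.pull b).obj (cS Z A))) := by
    simp only [Adjunction.ofNatIsoRight_unit, NatTrans.comp_app, Adjunction.comp_unit_app,
      Functor.whiskerLeft_app, Category.assoc]
    rfl
  rw [hadj]
  have n1 : (EtCoh.push b).map ((EtCoh.push a).map
        ((EtCoh.pull a).map ((EtCore.pullConstIso b).hom.app A) ≫ (EtCore.pullConstIso a).hom.app A)) ≫
      (EtCoh.pushComp b a).hom.app (cS X A) =
      (EtCoh.pushComp b a).hom.app ((EtCoh.pull a).obj ((EtCoh.pull b).obj (cS Z A))) ≫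
        (EtCoh.push (a ≫ b)).map
          ((EtCoh.pull a).map ((EtCore.pullConstIso b).hom.app A) ≫ (EtCore.pullConstIso a).hom.app A) :=
    (EtCoh.pushComp b a).hom.naturality _
  have n3 : (EtCore.pullConstIso b).hom.app A ≫ (EtCoh.pullPushAdj a).unit.app (cS Y A) =
      (EtCoh.pullPushAdj a).unit.app ((EtCoh.pull b).obj (cS Z A)) ≫
        (EtCoh.push a).map ((EtCoh.pull a).map ((EtCore.pullConstIso b).hom.app A)) :=
    (EtCoh.pullPushAdj a).unit.naturality ((EtCore.pullConstIso b).hom.app A)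
  simp only [Category.assoc]
  rw [← n1]
  have hc1 : cmap b A = (EtCoh.pullPushAdj b).unit.app (cS Z A) ≫
      (EtCoh.push b).map ((EtCore.pullConstIso b).hom.app A) := rfl
  have hc2 : cmap a A = (EtCoh.pullPushAdj a).unit.app (cS Y A) ≫
      (EtCoh.push a).map ((EtCore.pullConstIso a).hom.app A) := rfl
  rw [hc1, hc2]
  simp only [Category.assoc, ← Functor.map_comp_assoc]
  congr 3
  rw [← Category.assoc, n3, Category.assoc, ← Functor.map_comp]

open H9FE.HpullCompEq Abelian

theorem eps_eq_refl : eps a b = Iso.refl _ := by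
  ext1
  have h := pullConstIso_comp a b (AddCommGrpCat.of (ULift.{u+1} ℤ))
  change (EtCore.pullConst (a ≫ b) ℤ).inv ≫ (EtCore.pullComp a b).hom.app (EtCoh.const Z ℤ) ≫
    (EtCoh.pull a).map (EtCore.pullConst b ℤ).hom ≫ (EtCore.pullConst a ℤ).hom = 𝟙 _
  have h' : (EtCore.pullConst (a ≫ b) ℤ).hom =
      (EtCore.pullComp a b).hom.app (EtCoh.const Z ℤ) ≫
        (EtCoh.pull a).map (EtCore.pullConst b ℤ).hom ≫ (EtCore.pullConst a ℤ).hom := h
  rw [← h', Iso.inv_hom_id]

variable [PreservesFiniteLimits (EtCoh.pull a)] [PreservesFiniteLimits (EtCoh.pull b)]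
  [PreservesFiniteLimits (EtCoh.pull (a ≫ b))]

/-- pullback on étale cohomology along a composite, exactly -/
theorem Hpull_comp (G : EtCoh.Ab Z) (n : ℕ) (α : EtCoh.H Z G n) :
    EtCore.Hpull (a ≫ b) G n α =
      ((EtCoh.HF X n).map ((EtCore.pullComp a b).inv.app G)).hom
        (EtCore.Hpull a _ n (EtCore.Hpull b G n α)) := by
  rw [Hpull_comp_eq a b G n α]
  unfold HpullCompEq.phi
  rw [eps_eq_refl]
  exact Ext.mk₀_id_comp _

end H9FE.HpullCompId
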