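import Mathlib
import Groth.Prelude.Def_EtCore
import Groth.Prelude.Def_EtLim
import Groth.Agent.Lib.Helper9.FE.AdjExt
import Groth.Agent.Lib.Helper9.FE.HpullCompId

/-! helper9: transition maps on étale cohomology attached to `θ : A ⟶ f_* A'`
(`tr f θ : H^n(Y, A) → H^n(X, A')`), their relation with `EtCore.Hpull`, `EtLim.HofPush`,
`EtLim.HpullThen`, compatibility with connecting homomorphisms and with composition. -/

set_option autoImplicit false
set_option linter.unusedSectionVars false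
set_option linter.style.haveILetI false
set_option backward.isDefEq.respectTransparency false
universe u
open CategoryTheory CategoryTheory.Limits AlgebraicGeometry Opposite Abelian

namespace H9FE.EtTr
open H9FE.AdjExt H9FE.ExtFilteredColim

variable {X Y : Scheme.{u}} (f : X ⟶ Y) [PreservesFiniteLimits (EtCoh.pull f)]

/-- the map `H^n(Y, A) → H^n(X, A')` attached to `θ : A ⟶ f_* A'` -/
noncomputable def tr {A : EtCoh.Ab Y} {A' : EtCoh.Ab X} (θ : A ⟶ (EtCoh.push f).obj A') (n : ℕ) :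
    EtCoh.H Y A n →+ EtCoh.H X A' n :=
  htr (EtCoh.pull f) (EtCore.pullConst f ℤ) (EtCoh.pullPushAdj f) θ n

lemma Hpull_eq (G : EtCoh.Ab Y) (n : ℕ) :
    EtCore.Hpull f G n = hp (EtCoh.pull f) (EtCore.pullConst f ℤ) G n := rfl

lemma HF_map_apply {A B : EtCoh.Ab X} (φ : A ⟶ B) (n : ℕ) (y : EtCoh.H X A n) :
    ((EtCoh.HF X n).map φ).hom y = push φ y := rfl

lemma HofPush_eq (F : EtCoh.Ab X) (n : ℕ) (x : EtCoh.H Y ((EtCoh.push f).obj F) n) :
    EtLim.HofPush f F n x = tr f (𝟙 ((EtCoh.push f).obj F)) n x := by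
  unfold tr
  rw [htr_apply]
  unfold tp
  rw [CategoryTheory.Functor.map_id, Category.id_comp]
  rfl

lemma tr_comp_left {A₀ A : EtCoh.Ab Y} {A' : EtCoh.Ab X} (g : A₀ ⟶ A)
    (θ : A ⟶ (EtCoh.push f).obj A') (n : ℕ) (x : EtCoh.H Y A₀ n) :
    tr f (g ≫ θ) n x = tr f θ n (((EtCoh.HF Y n).map g).hom x) :=
  htr_comp_left _ _ _ g θ n x

lemma tr_comp_right {A : EtCoh.Ab Y} {A' A'' : EtCoh.Ab X} (θ : A ⟶ (EtCoh.push f).obj A')
    (g : A' ⟶ A'') (n : ℕ) (x : EtCoh.H Y A n) :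
    tr f (θ ≫ (EtCoh.push f).map g) n x = ((EtCoh.HF X n).map g).hom (tr f θ n x) :=
  htr_comp_right _ _ _ θ g n x

lemma tr_eq_HofPush {A : EtCoh.Ab Y} {A' : EtCoh.Ab X} (θ : A ⟶ (EtCoh.push f).obj A') (n : ℕ)
    (x : EtCoh.H Y A n) :
    tr f θ n x = EtLim.HofPush f A' n (((EtCoh.HF Y n).map θ).hom x) := by
  rw [HofPush_eq, ← tr_comp_left, Category.comp_id]

lemma Hpull_eq_tr (F : EtCoh.Ab Y) (n : ℕ) (x : EtCoh.H Y F n) :
    EtCore.Hpull f F n x = tr f ((EtCoh.pullPushAdj f).unit.app F) n x := by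
  unfold tr
  rw [htr_apply, tp_unit]
  exact (Ext.comp_mk₀_id _).symm

/-- `HpullThen` is the transition map attached to the transpose -/
lemma HpullThen_eq (F : EtCoh.Ab Y) {M : EtCoh.Ab X} (α : (EtCoh.pull f).obj F ⟶ M) (n : ℕ)
    (x : EtCoh.H Y F n) :
    EtLim.HpullThen f F α n x =
      tr f ((EtCoh.pullPushAdj f).unit.app F ≫ (EtCoh.push f).map α) n x := by
  have h0 : EtLim.HpullThen f F α n x = ((EtCoh.HF X n).map α).hom (EtCore.Hpull f F n x) := rfl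
  rw [h0, Hpull_eq_tr]
  exact (tr_comp_right f ((EtCoh.pullPushAdj f).unit.app F) α n x).symm

/-- compatibility with connecting homomorphisms -/
lemma tr_delta {S : ShortComplex (EtCoh.Ab Y)} (hS : S.ShortExact) {S' : ShortComplex (EtCoh.Ab X)}
    (hS' : S'.ShortExact) (θ₁ : S.X₁ ⟶ (EtCoh.push f).obj S'.X₁)
    (θ₂ : S.X₂ ⟶ (EtCoh.push f).obj S'.X₂) (θ₃ : S.X₃ ⟶ (EtCoh.push f).obj S'.X₃)
    (c₁ : S.f ≫ θ₂ = θ₁ ≫ (EtCoh.push f).map S'.f)
    (c₂ : S.g ≫ θ₃ = θ₂ ≫ (EtCoh.push f).map S'.g) {n n' : ℕ} (h : n + 1 = n')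
    (z : EtCoh.H Y S.X₃ n) :
    tr f θ₁ n' (z.comp hS.extClass h) = (tr f θ₃ n z).comp hS'.extClass h :=
  htr_delta _ _ _ hS hS' θ₁ θ₂ θ₃ c₁ c₂ h z

theorem pushCongr_rfl_app (F : EtCoh.Ab X) :
    (EtCoh.pushCongr (rfl : f = f)).hom.app F = 𝟙 _ := by
  apply Sheaf.hom_ext
  ext U : 2
  have h1 : ((MorphismProperty.Over.pullbackCongr (P := EtCoh.etaleMP) (Q := ⊤)
      (rfl : f = f)).inv.app (unop U)) = 𝟙 _ := by
    apply MorphismProperty.Over.Hom.ext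
    simp [MorphismProperty.Over.pullbackCongr]
    rfl
  change F.obj.map ((MorphismProperty.Over.pullbackCongr (P := EtCoh.etaleMP) (Q := ⊤)
    (rfl : f = f)).inv.app (unop U)).op = _
  rw [h1]
  simp
  rfl

section Comp

variable {Z : Scheme.{u}} (g : Y ⟶ Z) [PreservesFiniteLimits (EtCoh.pull g)]
  [PreservesFiniteLimits (EtCoh.pull (f ≫ g))]

/-- transition maps compose -/
theorem tr_comp {A : EtCoh.Ab Z} {A' : EtCoh.Ab Y} {A'' : EtCoh.Ab X}
    (θ : A ⟶ (EtCoh.push g).obj A') (θ' : A' ⟶ (EtCoh.push f).obj A'') (n : ℕ)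
    (x : EtCoh.H Z A n) :
    tr f θ' n (tr g θ n x) =
      tr (f ≫ g) (θ ≫ (EtCoh.push g).map θ' ≫ (EtCoh.pushComp g f).hom.app A'') n x :=
  htr_comp (EtCoh.pull g) (EtCoh.pull f) (EtCoh.pull (f ≫ g)) (EtCore.pullConst g ℤ)
    (EtCore.pullConst f ℤ) (EtCore.pullConst (f ≫ g) ℤ) (EtCore.pullComp f g)
    (H9FE.HpullCompId.pullConstIso_comp f g _) (EtCoh.pullPushAdj g) (EtCoh.pullPushAdj f)
    (EtCoh.pullPushAdj (f ≫ g)) (EtCoh.pushComp g f) rfl θ θ' n x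

/-- version with an arbitrary factorization `f ≫ g = h` -/
theorem tr_comp' {h : X ⟶ Z} (w : f ≫ g = h) [PreservesFiniteLimits (EtCoh.pull h)]
    {A : EtCoh.Ab Z} {A' : EtCoh.Ab Y} {A'' : EtCoh.Ab X}
    (θ : A ⟶ (EtCoh.push g).obj A') (θ' : A' ⟶ (EtCoh.push f).obj A'') (n : ℕ)
    (x : EtCoh.H Z A n) :
    tr f θ' n (tr g θ n x) =
      tr h (θ ≫ (EtCoh.push g).map θ' ≫ (EtCoh.pushComp g f).hom.app A'' ≫
        (EtCoh.pushCongr w).hom.app A'') n x := by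
  subst w
  rw [tr_comp, pushCongr_rfl_app]
  congr 3

end Comp

end H9FE.EtTr
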