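import Mathlib
import Groth.Prelude.Def_EtCore
import Groth.Prelude.Def_EtLim
import Groth.Agent.Lib.Helper9.FE.EtTr
import Groth.Agent.S0623

/-! helper9: towers of étale sites for an inverse system of schemes: the comparison isomorphisms
`pc : push f ⋙ push g ≅ push h` (for `f ≫ g = h`) with their associativity, systems of sheaves on the
stages with transition maps `A_j ⟶ u_{jk*} A_k` (`Sys`), the induced transition maps on cohomology
(`Sys.T`, functorial, natural, compatible with connecting homomorphisms), cokernel systems, and the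
push tower `RSys c M` of a sheaf `M` on the limit with the maps `hJ` to the cohomology of the limit. -/

set_option autoImplicit false
set_option linter.unusedSectionVars false
set_option linter.style.haveILetI false
set_option backward.isDefEq.respectTransparency false
universe u
open CategoryTheory CategoryTheory.Limits AlgebraicGeometry Opposite Abelian

namespace H9FE.LimTower

section PushIso
variable {X Y Z : Scheme.{u}}

/-- first projection of a base change -/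
noncomputable def p1 (f : X ⟶ Y) (V : Y.Etale) : ((EtCoh.bc f).obj V).left ⟶ V.left :=
  pullback.fst V.hom f

/-- second projection of a base change -/
noncomputable def p2 (f : X ⟶ Y) (V : Y.Etale) : ((EtCoh.bc f).obj V).left ⟶ X :=
  pullback.snd V.hom f

lemma p2_eq (f : X ⟶ Y) (V : Y.Etale) : p2 f V = ((EtCoh.bc f).obj V).hom := rfl

@[reassoc]
lemma p_cond (f : X ⟶ Y) (V : Y.Etale) : p1 f V ≫ V.hom = p2 f V ≫ f := pullback.condition

lemma p_hom_ext (f : X ⟶ Y) (V : Y.Etale) {T : Scheme.{u}} (a b : T ⟶ ((EtCoh.bc f).obj V).left)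
    (h1 : a ≫ p1 f V = b ≫ p1 f V) (h2 : a ≫ p2 f V = b ≫ p2 f V) : a = b :=
  pullback.hom_ext h1 h2

/-- a morphism into the underlying scheme of a base change -/
noncomputable def pLift (f : X ⟶ Y) (V : Y.Etale) {T : Scheme.{u}} (a : T ⟶ V.left) (b : T ⟶ X)
    (h : a ≫ V.hom = b ≫ f) : T ⟶ ((EtCoh.bc f).obj V).left :=
  pullback.lift a b h

@[reassoc (attr := simp)]
lemma pLift_p1 (f : X ⟶ Y) (V : Y.Etale) {T : Scheme.{u}} (a : T ⟶ V.left) (b : T ⟶ X)
    (h : a ≫ V.hom = b ≫ f) : pLift f V a b h ≫ p1 f V = a := pullback.lift_fst _ _ _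

@[reassoc (attr := simp)]
lemma pLift_p2 (f : X ⟶ Y) (V : Y.Etale) {T : Scheme.{u}} (a : T ⟶ V.left) (b : T ⟶ X)
    (h : a ≫ V.hom = b ≫ f) : pLift f V a b h ≫ p2 f V = b := pullback.lift_snd _ _ _

@[reassoc]
lemma bc_map_p1 (f : X ⟶ Y) {U V : Y.Etale} (φ : V ⟶ U) :
    ((EtCoh.bc f).map φ).left ≫ p1 f U = p1 f V ≫ φ.left :=
  (EtCoh.isPullback_bc_map f φ).w

@[reassoc]
lemma bc_map_p2 (f : X ⟶ Y) {U V : Y.Etale} (φ : V ⟶ U) :
    ((EtCoh.bc f).map φ).left ≫ p2 f U = p2 f V := by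
  dsimp [EtCoh.bc, p2]
  exact pullback.lift_snd _ _ _

/-- morphisms into a base change are determined by their first projection -/
lemma bc_hom_ext (f : X ⟶ Y) {V : Y.Etale} {T : X.Etale} (a b : T ⟶ (EtCoh.bc f).obj V)
    (h : a.left ≫ p1 f V = b.left ≫ p1 f V) : a = b := by
  apply MorphismProperty.Over.Hom.ext
  apply p_hom_ext f V _ _ h
  have ha := MorphismProperty.Over.w a
  have hb := MorphismProperty.Over.w b
  rw [p2_eq]
  exact ha.trans hb.symm

/-- the canonical comparison `R_g R_f M ≅ R_h M` for `f ≫ g = h` -/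
noncomputable def pc (f : X ⟶ Y) (g : Y ⟶ Z) (h : X ⟶ Z) (w : f ≫ g = h) :
    EtCoh.push f ⋙ EtCoh.push g ≅ EtCoh.push h :=
  EtCoh.pushComp g f ≪≫ EtCoh.pushCongr w

/-- the morphism of étale `X`-schemes underlying `pc` -/
noncomputable def pcMor (f : X ⟶ Y) (g : Y ⟶ Z) (h : X ⟶ Z) (w : f ≫ g = h) (V : Z.Etale) :
    (EtCoh.bc h).obj V ⟶ (EtCoh.bc f).obj ((EtCoh.bc g).obj V) :=
  MorphismProperty.Over.homMk
    (pLift f ((EtCoh.bc g).obj V) (pLift g V (p1 h V) (p2 h V ≫ f)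
      (by rw [p_cond, Category.assoc, w])) (p2 h V) (pLift_p2 g V _ _ _))
    (pLift_p2 f _ _ _ _)

@[reassoc]
lemma pcMor_p1_p1 (f : X ⟶ Y) (g : Y ⟶ Z) (h : X ⟶ Z) (w : f ≫ g = h) (V : Z.Etale) :
    (pcMor f g h w V).left ≫ p1 f ((EtCoh.bc g).obj V) ≫ p1 g V = p1 h V := by
  simp only [pcMor, MorphismProperty.Over.homMk_hom, Over.homMk_left]
  rw [pLift_p1_assoc, pLift_p1]

@[reassoc]
lemma pcMor_p1_p2 (f : X ⟶ Y) (g : Y ⟶ Z) (h : X ⟶ Z) (w : f ≫ g = h) (V : Z.Etale) :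
    (pcMor f g h w V).left ≫ p1 f ((EtCoh.bc g).obj V) ≫ p2 g V = p2 h V ≫ f := by
  simp only [pcMor, MorphismProperty.Over.homMk_hom, Over.homMk_left]
  rw [pLift_p1_assoc, pLift_p2]

@[reassoc]
lemma pcMor_p2 (f : X ⟶ Y) (g : Y ⟶ Z) (h : X ⟶ Z) (w : f ≫ g = h) (V : Z.Etale) :
    (pcMor f g h w V).left ≫ p2 f ((EtCoh.bc g).obj V) = p2 h V := by
  simp only [pcMor, MorphismProperty.Over.homMk_hom, Over.homMk_left]
  rw [pLift_p2]

lemma pc_hom_app (f : X ⟶ Y) (g : Y ⟶ Z) (h : X ⟶ Z) (w : f ≫ g = h) (M : EtCoh.Ab X)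
    (V : Z.Etale) :
    ((pc f g h w).hom.app M).hom.app (op V) = M.obj.map (pcMor f g h w V).op := by
  subst w
  unfold pc
  rw [Iso.trans_hom, NatTrans.comp_app, H9FE.EtTr.pushCongr_rfl_app, Category.comp_id]
  dsimp [EtCoh.pushComp]
  rw [Functor.sheafPushforwardContinuousComp'_hom_app_hom_app]
  congr 2
  apply bc_hom_ext
  apply p_hom_ext g V
  · rw [Category.assoc, Category.assoc, pcMor_p1_p1]
    simp only [Iso.symm_inv, unop_op, MorphismProperty.Over.pullbackComp_hom_app_left, p1,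
      Category.assoc]
    have h1 : (pullbackLeftPullbackSndIso V.hom g f).inv ≫
        pullback.fst ((EtCoh.bc g).obj V).hom f ≫ pullback.fst V.hom g =
        pullback.fst V.hom (f ≫ g) := pullbackLeftPullbackSndIso_inv_fst V.hom g f
    rw [h1]
    simp
    exact Category.id_comp _
  · rw [Category.assoc, Category.assoc, pcMor_p1_p2]
    simp only [Iso.symm_inv, unop_op, MorphismProperty.Over.pullbackComp_hom_app_left, p1, p2,
      Category.assoc]
    have h1 : (pullbackLeftPullbackSndIso V.hom g f).inv ≫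
        pullback.fst ((EtCoh.bc g).obj V).hom f ≫ pullback.snd V.hom g =
        pullback.snd V.hom (f ≫ g) ≫ f := pullbackLeftPullbackSndIso_inv_fst_snd V.hom g f
    rw [h1]
    simp
    exact Category.id_comp _

variable {W : Scheme.{u}}

theorem pc_assoc (f : X ⟶ Y) (g : Y ⟶ Z) (k : Z ⟶ W) (fg : X ⟶ Z) (gk : Y ⟶ W) (fgk : X ⟶ W)
    (w1 : f ≫ g = fg) (w2 : g ≫ k = gk) (w3 : fg ≫ k = fgk) (w4 : f ≫ gk = fgk) (M : EtCoh.Ab X) :
    (pc g k gk w2).hom.app ((EtCoh.push f).obj M) ≫ (pc f gk fgk w4).hom.app M =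
      (EtCoh.push k).map ((pc f g fg w1).hom.app M) ≫ (pc fg k fgk w3).hom.app M := by
  apply Sheaf.hom_ext
  ext V : 2
  obtain ⟨V⟩ := V
  rw [ObjectProperty.FullSubcategory.comp_hom, ObjectProperty.FullSubcategory.comp_hom,
    NatTrans.comp_app, NatTrans.comp_app, pc_hom_app, pc_hom_app, pc_hom_app]
  have h1 : ((EtCoh.push k).map ((pc f g fg w1).hom.app M)).hom.app (op V) =
      ((pc f g fg w1).hom.app M).hom.app (op ((EtCoh.bc k).obj V)) := rfl
  rw [h1, pc_hom_app]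
  have h2 : ((EtCoh.push f).obj M).obj.map (pcMor g k gk w2 V).op =
      M.obj.map ((EtCoh.bc f).map (pcMor g k gk w2 V)).op := rfl
  rw [h2, ← Functor.map_comp, ← Functor.map_comp, ← op_comp, ← op_comp]
  congr 2
  apply bc_hom_ext
  have e1 : (pcMor f gk fgk w4 V ≫ (EtCoh.bc f).map (pcMor g k gk w2 V)).left =
      (pcMor f gk fgk w4 V).left ≫ ((EtCoh.bc f).map (pcMor g k gk w2 V)).left := rfl
  have e2 : (pcMor fg k fgk w3 V ≫ pcMor f g fg w1 ((EtCoh.bc k).obj V)).left =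
      (pcMor fg k fgk w3 V).left ≫ (pcMor f g fg w1 ((EtCoh.bc k).obj V)).left := rfl
  rw [e1, e2, Category.assoc, Category.assoc, bc_map_p1]
  apply p_hom_ext g ((EtCoh.bc k).obj V)
  · apply p_hom_ext k V
    · simp only [Category.assoc]
      rw [pcMor_p1_p1 g k gk w2 V, pcMor_p1_p1 f gk fgk w4 V,
        pcMor_p1_p1_assoc f g fg w1 ((EtCoh.bc k).obj V), pcMor_p1_p1 fg k fgk w3 V]
    · simp only [Category.assoc]
      rw [pcMor_p1_p2 g k gk w2 V, pcMor_p1_p2_assoc f gk fgk w4 V,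
        pcMor_p1_p1_assoc f g fg w1 ((EtCoh.bc k).obj V), pcMor_p1_p2 fg k fgk w3 V, w1]
  · simp only [Category.assoc]
    rw [pcMor_p2 g k gk w2 V, pcMor_p1_p2 f gk fgk w4 V,
      pcMor_p1_p2 f g fg w1 ((EtCoh.bc k).obj V), pcMor_p2_assoc fg k fgk w3 V]

end PushIso

section Tower

open H9FE.EtTr

variable {ι : Type u} [Preorder ι] (Xs : ιᵒᵖ ⥤ Scheme.{u}) (c : Cone Xs)

/-- the stage `X_j` -/
abbrev XX (j : ι) : Scheme.{u} := Xs.obj (op j)

/-- the transition morphism `X_k ⟶ X_j` -/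
abbrev uu {j k : ι} (h : j ≤ k) : XX Xs k ⟶ XX Xs j := Xs.map (homOfLE h).op

/-- the projection `X ⟶ X_j` -/
abbrev cu (j : ι) : c.pt ⟶ XX Xs j := c.π.app (op j)

lemma uu_comp {j k l : ι} (hjk : j ≤ k) (hkl : k ≤ l) :
    uu Xs hkl ≫ uu Xs hjk = uu Xs (hjk.trans hkl) := by
  rw [← Functor.map_comp]; rfl

lemma cu_comp {j k : ι} (h : j ≤ k) : cu Xs c k ≫ uu Xs h = cu Xs c j := c.w (homOfLE h).op

/-- a system of abelian sheaves on the stages with transition maps `A_j ⟶ u_{jk*} A_k` -/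
structure Sys where
  /-- the sheaf on the stage `X_j` -/
  obj : ∀ j : ι, EtCoh.Ab (XX Xs j)
  /-- the transition maps -/
  θ : ∀ {j k : ι} (h : j ≤ k), obj j ⟶ (EtCoh.push (uu Xs h)).obj (obj k)
  cocycle : ∀ {j k l : ι} (hjk : j ≤ k) (hkl : k ≤ l),
    θ hjk ≫ (EtCoh.push (uu Xs hjk)).map (θ hkl) ≫
      (pc (uu Xs hkl) (uu Xs hjk) (uu Xs (hjk.trans hkl)) (uu_comp Xs hjk hkl)).hom.app (obj l) =
    θ (hjk.trans hkl)

variable {Xs}

/-- the transition map on cohomology -/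
noncomputable def Sys.T (A : Sys Xs) {j k : ι} (h : j ≤ k) (n : ℕ) :
    EtCoh.H (XX Xs j) (A.obj j) n →+ EtCoh.H (XX Xs k) (A.obj k) n :=
  tr (uu Xs h) (A.θ h) n

theorem Sys.T_comp (A : Sys Xs) {j k l : ι} (hjk : j ≤ k) (hkl : k ≤ l) (n : ℕ)
    (x : EtCoh.H (XX Xs j) (A.obj j) n) :
    A.T hkl n (A.T hjk n x) = A.T (hjk.trans hkl) n x := by
  unfold Sys.T
  rw [tr_comp' (uu Xs hkl) (uu Xs hjk) (uu_comp Xs hjk hkl), ← A.cocycle hjk hkl]
  rfl

/-- morphisms of systems -/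
structure Sys.Hom (A B : Sys Xs) where
  /-- the components -/
  app : ∀ j : ι, A.obj j ⟶ B.obj j
  comm : ∀ {j k : ι} (h : j ≤ k),
    A.θ h ≫ (EtCoh.push (uu Xs h)).map (app k) = app j ≫ B.θ h

theorem Sys.T_nat {A B : Sys Xs} (φ : Sys.Hom A B) {j k : ι} (h : j ≤ k) (n : ℕ)
    (x : EtCoh.H (XX Xs j) (A.obj j) n) :
    B.T h n (((EtCoh.HF _ n).map (φ.app j)).hom x) = ((EtCoh.HF _ n).map (φ.app k)).hom (A.T h n x) := by
  unfold Sys.T
  rw [← tr_comp_left, ← tr_comp_right, φ.comm h]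

/-- the cokernel of a morphism of systems -/
noncomputable def Sys.coker {A B : Sys Xs} (φ : Sys.Hom A B) : Sys Xs where
  obj j := cokernel (φ.app j)
  θ {j k} h := cokernel.desc (φ.app j)
    (B.θ h ≫ (EtCoh.push (uu Xs h)).map (cokernel.π (φ.app k))) (by
      rw [← Category.assoc, ← φ.comm h, Category.assoc, ← Functor.map_comp, cokernel.condition,
        Functor.map_zero, comp_zero])
  cocycle {j k l} hjk hkl := by
    rw [← cancel_epi (cokernel.π (φ.app j))]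
    simp only [cokernel.π_desc_assoc, cokernel.π_desc, Category.assoc]
    rw [← Functor.map_comp_assoc, cokernel.π_desc, Functor.map_comp, Category.assoc]
    have hn := (pc (uu Xs hkl) (uu Xs hjk) (uu Xs (hjk.trans hkl)) (uu_comp Xs hjk hkl)).hom.naturality
      (cokernel.π (φ.app l))
    simp only [Functor.comp_map] at hn
    rw [hn, ← B.cocycle hjk hkl]
    simp only [Category.assoc]

/-- the projection to the cokernel system -/
noncomputable def Sys.cokerπ {A B : Sys Xs} (φ : Sys.Hom A B) : Sys.Hom B (Sys.coker φ) where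
  app j := cokernel.π (φ.app j)
  comm {j k} h := by
    simp [Sys.coker]

/-- compatibility of transition maps with connecting homomorphisms -/
theorem Sys.T_delta {A B C : Sys Xs} (f : Sys.Hom A B) (g : Sys.Hom B C)
    (w : ∀ j, f.app j ≫ g.app j = 0)
    (hS : ∀ j, (ShortComplex.mk (f.app j) (g.app j) (w j)).ShortExact) {j k : ι} (h : j ≤ k)
    {n n' : ℕ} (hn : n + 1 = n') (z : EtCoh.H (XX Xs j) (C.obj j) n) :
    A.T h n' (z.comp (hS j).extClass hn) = (C.T h n z).comp (hS k).extClass hn :=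
  tr_delta (uu Xs h) (hS j) (hS k) (A.θ h) (B.θ h) (C.θ h) (f.comm h).symm (g.comm h).symm hn z

/-- the push tower of a sheaf on the limit -/
noncomputable def RSys (M : EtCoh.Ab c.pt) : Sys Xs where
  obj j := (EtCoh.push (cu Xs c j)).obj M
  θ {j k} h := (pc (cu Xs c k) (uu Xs h) (cu Xs c j) (cu_comp Xs c h)).inv.app M
  cocycle {j k l} hjk hkl := by
    have h := pc_assoc (cu Xs c l) (uu Xs hkl) (uu Xs hjk) (cu Xs c k) (uu Xs (hjk.trans hkl))
      (cu Xs c j) (cu_comp Xs c hkl) (uu_comp Xs hjk hkl) (cu_comp Xs c hjk)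
      (cu_comp Xs c (hjk.trans hkl)) M
    rw [← cancel_mono ((pc (cu Xs c l) (uu Xs (hjk.trans hkl)) (cu Xs c j)
      (cu_comp Xs c (hjk.trans hkl))).hom.app M)]
    simp only [Category.assoc]
    rw [h, ← Functor.map_comp_assoc, Iso.inv_hom_id_app, Iso.inv_hom_id_app]
    simp

/-- the push tower is functorial -/
noncomputable def RSys.map {M M' : EtCoh.Ab c.pt} (φ : M ⟶ M') :
    Sys.Hom (RSys c M) (RSys c M') where
  app j := (EtCoh.push (cu Xs c j)).map φ
  comm {j k} h := by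
    have hn := (pc (cu Xs c k) (uu Xs h) (cu Xs c j) (cu_comp Xs c h)).inv.naturality φ
    exact hn.symm

/-- the canonical map `H^n(X_j, u_{j*} M) → H^n(X, M)` -/
noncomputable abbrev hJ (M : EtCoh.Ab c.pt) (j : ι) (n : ℕ) :
    EtCoh.H (XX Xs j) ((RSys c M).obj j) n →+ EtCoh.H c.pt M n :=
  EtLim.HofPush (cu Xs c j) M n

theorem hJ_T (M : EtCoh.Ab c.pt) {j k : ι} (h : j ≤ k) (n : ℕ)
    (x : EtCoh.H (XX Xs j) ((RSys c M).obj j) n) :
    hJ c M k n ((RSys c M).T h n x) = hJ c M j n x := by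
  have e1 : hJ c M k n ((RSys c M).T h n x) =
      tr (cu Xs c k) (𝟙 ((EtCoh.push (cu Xs c k)).obj M)) n
        (tr (uu Xs h) ((pc (cu Xs c k) (uu Xs h) (cu Xs c j) (cu_comp Xs c h)).inv.app M) n x) :=
    HofPush_eq (cu Xs c k) M n _
  have e2 : hJ c M j n x = tr (cu Xs c j) (𝟙 ((EtCoh.push (cu Xs c j)).obj M)) n x :=
    HofPush_eq (cu Xs c j) M n x
  rw [e1, e2, tr_comp' (cu Xs c k) (uu Xs h) (cu_comp Xs c h)]
  congr 2
  have e : (EtCoh.pushComp (uu Xs h) (cu Xs c k)).hom.app M ≫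
      (EtCoh.pushCongr (cu_comp Xs c h)).hom.app M =
      (pc (cu Xs c k) (uu Xs h) (cu Xs c j) (cu_comp Xs c h)).hom.app M := rfl
  rw [CategoryTheory.Functor.map_id, Category.id_comp, e]
  exact Iso.inv_hom_id_app _ _

theorem hJ_nat {M M' : EtCoh.Ab c.pt} (φ : M ⟶ M') (j : ι) (n : ℕ)
    (x : EtCoh.H (XX Xs j) ((RSys c M).obj j) n) :
    hJ c M' j n (((EtCoh.HF _ n).map ((RSys.map c φ).app j)).hom x) =
      ((EtCoh.HF _ n).map φ).hom (hJ c M j n x) := by
  have e1 : hJ c M' j n (((EtCoh.HF _ n).map ((RSys.map c φ).app j)).hom x) =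
      tr (cu Xs c j) (𝟙 ((EtCoh.push (cu Xs c j)).obj M')) n
        (((EtCoh.HF _ n).map ((EtCoh.push (cu Xs c j)).map φ)).hom x) :=
    HofPush_eq (cu Xs c j) M' n _
  have e2 : hJ c M j n x = tr (cu Xs c j) (𝟙 ((EtCoh.push (cu Xs c j)).obj M)) n x :=
    HofPush_eq (cu Xs c j) M n x
  rw [e1, e2, ← tr_comp_left, ← tr_comp_right, Category.comp_id, Category.id_comp]

lemma pushCongr_symm {X Y : Scheme.{u}} {a b : X ⟶ Y} (w : a = b) (F : EtCoh.Ab X) :
    ((EtCoh.pushCongr w.symm).app F).hom = (EtCoh.pushCongr w).inv.app F := by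
  subst w
  have h1 : ((EtCoh.pushCongr (rfl : a = a)).app F).hom = 𝟙 _ := pushCongr_rfl_app a F
  have h2 := Iso.inv_hom_id_app (EtCoh.pushCongr (rfl : a = a)) F
  rw [pushCongr_rfl_app, Category.comp_id] at h2
  exact h1.trans h2.symm

theorem HpushTrans_eq (F : EtCoh.Ab c.pt) {j k : ι} (h : j ≤ k) (n : ℕ)
    (x : EtCoh.H (XX Xs j) ((EtCoh.push (cu Xs c j)).obj F) n) :
    EtLim.HpushTrans (uu Xs h) (cu Xs c k) (cu Xs c j) (cu_comp Xs c h) F n x =
      (RSys c F).T h n x := by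
  unfold Sys.T
  rw [tr_eq_HofPush]
  unfold EtLim.HpushTrans
  rw [pushCongr_symm]
  rfl

end Tower

end H9FE.LimTower
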