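import Mathlib
import Groth.Prelude.Def_EtCore
import Groth.Prelude.Def_EtLim
import Groth.Agent.Lib.Helper9.FE.LimTower

/-! helper9: cohomology of a limit of schemes, pull version part 1: for `f ≫ g = h` the transpose
`psi : g⁻¹ F ⟶ f_* h⁻¹ F` of the canonical isomorphism `f⁻¹ g⁻¹ F ≅ h⁻¹ F`, its compatibility with
the units (`unit_psi`), the cocycle identity (`psi_comp`), the identification of the induced map on
cohomology with `HpullVia` (`tr_psi`), and the resulting system `pullSys` of pullbacks of a sheaf on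
the bottom stage of a tower with its morphism `pullHom` to the push tower of the pullback to the
limit. -/

set_option autoImplicit false
set_option linter.unusedSectionVars false
set_option linter.style.haveILetI false
set_option backward.isDefEq.respectTransparency false
universe u
open CategoryTheory CategoryTheory.Limits AlgebraicGeometry Opposite Abelian

namespace H9FE.LimPull
open H9FE.LimTower H9FE.EtTr

section Psi

variable {X Y Z : Scheme.{u}} (f : X ⟶ Y) (g : Y ⟶ Z) (h : X ⟶ Z) (w : f ≫ g = h)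
  (F : EtCoh.Ab Z)

/-- the canonical isomorphism `f⁻¹ g⁻¹ F ≅ h⁻¹ F` for `f ≫ g = h` -/
noncomputable def kap : (EtCoh.pull f).obj ((EtCoh.pull g).obj F) ≅ (EtCoh.pull h).obj F :=
  ((EtCore.pullComp f g).symm ≪≫ EtCore.pullCongr w).app F

theorem psi_ex : ∃ ψ : (EtCoh.pull g).obj F ⟶ (EtCoh.push f).obj ((EtCoh.pull h).obj F),
    ψ = (EtCoh.pullPushAdj f).unit.app ((EtCoh.pull g).obj F) ≫
      (EtCoh.push f).map (kap f g h w F).hom := ⟨_, rfl⟩

/-- the transpose `g⁻¹ F ⟶ f_* h⁻¹ F` of `kap` (defined through `Exists.choose` so that it is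
opaque to the kernel, which keeps later definitional unfolding cheap) -/
noncomputable def psi : (EtCoh.pull g).obj F ⟶ (EtCoh.push f).obj ((EtCoh.pull h).obj F) :=
  (psi_ex f g h w F).choose

lemma psi_def : psi f g h w F = (EtCoh.pullPushAdj f).unit.app ((EtCoh.pull g).obj F) ≫
    (EtCoh.push f).map (kap f g h w F).hom := (psi_ex f g h w F).choose_spec

lemma pullCongr_rfl_app (F : EtCoh.Ab Z) :
    ((EtCore.pullCongr (rfl : g = g)).app F).hom = 𝟙 _ := by
  simp [EtCore.pullCongr]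

/-- the key compatibility of `psi` with the units, first form -/
theorem unit_psi_hom :
    (EtCoh.pullPushAdj g).unit.app F ≫ (EtCoh.push g).map (psi f g h w F) ≫
      (pc f g h w).hom.app ((EtCoh.pull h).obj F) = (EtCoh.pullPushAdj h).unit.app F := by
  subst w
  have hpc : ∀ G : EtCoh.Ab X, (pc f g (f ≫ g) rfl).hom.app G = (EtCoh.pushComp g f).hom.app G := by
    intro G
    unfold pc
    rw [Iso.trans_hom, NatTrans.comp_app, pushCongr_rfl_app, Category.comp_id]
  rw [hpc]
  have hk : (kap f g (f ≫ g) rfl F).hom = (EtCore.pullComp f g).inv.app F := by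
    unfold kap
    rw [Iso.app_hom, Iso.trans_hom, NatTrans.comp_app]
    have := pullCongr_rfl_app (f ≫ g) F
    rw [Iso.app_hom] at this
    rw [this, Category.comp_id]
    rfl
  rw [psi_def, hk]
  have hu := Adjunction.unit_leftAdjointUniq_hom_app (EtCoh.pullPushAdj (f ≫ g))
    (((EtCoh.pullPushAdj g).comp (EtCoh.pullPushAdj f)).ofNatIsoRight (EtCoh.pushComp g f)) F
  have hu' : (EtCoh.pullPushAdj (f ≫ g)).unit.app F ≫
      (EtCoh.push (f ≫ g)).map ((EtCore.pullComp f g).hom.app F) =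
      (((EtCoh.pullPushAdj g).comp (EtCoh.pullPushAdj f)).ofNatIsoRight
        (EtCoh.pushComp g f)).unit.app F := hu
  have hadj : (((EtCoh.pullPushAdj g).comp (EtCoh.pullPushAdj f)).ofNatIsoRight
      (EtCoh.pushComp g f)).unit.app F =
      (EtCoh.pullPushAdj g).unit.app F ≫
        (EtCoh.push g).map ((EtCoh.pullPushAdj f).unit.app ((EtCoh.pull g).obj F)) ≫
          (EtCoh.pushComp g f).hom.app ((EtCoh.pull f).obj ((EtCoh.pull g).obj F)) := by
    simp only [Adjunction.ofNatIsoRight_unit, NatTrans.comp_app, Adjunction.comp_unit_app,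
      Functor.whiskerLeft_app, Category.assoc]
    rfl
  have n1 : (EtCoh.push g).map ((EtCoh.push f).map ((EtCore.pullComp f g).inv.app F)) ≫
      (EtCoh.pushComp g f).hom.app ((EtCoh.pull (f ≫ g)).obj F) =
      (EtCoh.pushComp g f).hom.app ((EtCoh.pull f).obj ((EtCoh.pull g).obj F)) ≫
        (EtCoh.push (f ≫ g)).map ((EtCore.pullComp f g).inv.app F) :=
    (EtCoh.pushComp g f).hom.naturality ((EtCore.pullComp f g).inv.app F)
  have e1 : (EtCoh.pullPushAdj g).unit.app F ≫
      (EtCoh.push g).map ((EtCoh.pullPushAdj f).unit.app ((EtCoh.pull g).obj F) ≫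
        (EtCoh.push f).map ((EtCore.pullComp f g).inv.app F)) ≫
      (EtCoh.pushComp g f).hom.app ((EtCoh.pull (f ≫ g)).obj F) =
      ((EtCoh.pullPushAdj g).unit.app F ≫
        (EtCoh.push g).map ((EtCoh.pullPushAdj f).unit.app ((EtCoh.pull g).obj F)) ≫
          (EtCoh.pushComp g f).hom.app ((EtCoh.pull f).obj ((EtCoh.pull g).obj F))) ≫
        (EtCoh.push (f ≫ g)).map ((EtCore.pullComp f g).inv.app F) := by
    rw [Functor.map_comp]
    simp only [Category.assoc]
    rw [n1]
  rw [e1, ← hadj, ← hu', Category.assoc, ← Functor.map_comp, Iso.hom_inv_id_app]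
  exact (congrArg (fun t => (EtCoh.pullPushAdj (f ≫ g)).unit.app F ≫ t)
    ((EtCoh.push (f ≫ g)).map_id _)).trans (Category.comp_id _)

/-- the key compatibility of `psi` with the units -/
theorem unit_psi :
    (EtCoh.pullPushAdj g).unit.app F ≫ (EtCoh.push g).map (psi f g h w F) =
      (EtCoh.pullPushAdj h).unit.app F ≫ (pc f g h w).inv.app ((EtCoh.pull h).obj F) := by
  rw [← unit_psi_hom f g h w F]
  simp only [Category.assoc]
  have e0 : (pc f g h w).hom.app ((EtCoh.pull h).obj F) ≫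
      (pc f g h w).inv.app ((EtCoh.pull h).obj F) = 𝟙 _ :=
    Iso.hom_inv_id_app (pc f g h w) ((EtCoh.pull h).obj F)
  rw [e0]
  exact (congrArg (fun t => (EtCoh.pullPushAdj g).unit.app F ≫ t) (Category.comp_id _)).symm

end Psi

section PsiComp

variable {X Y Z W : Scheme.{u}} (f : X ⟶ Y) (g : Y ⟶ Z) (k : Z ⟶ W) (fg : X ⟶ Z) (gk : Y ⟶ W)
  (fgk : X ⟶ W) (w1 : f ≫ g = fg) (w2 : g ≫ k = gk) (w3 : fg ≫ k = fgk) (w4 : f ≫ gk = fgk)
  (F : EtCoh.Ab W)

/-- the cocycle identity for `psi` -/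
theorem psi_comp :
    psi g k gk w2 F ≫ (EtCoh.push g).map (psi f gk fgk w4 F) ≫
      (pc f g fg w1).hom.app ((EtCoh.pull fgk).obj F) = psi fg k fgk w3 F := by
  apply ((EtCoh.pullPushAdj k).homEquiv _ _).injective
  rw [Adjunction.homEquiv_unit, Adjunction.homEquiv_unit, unit_psi fg k fgk w3 F,
    Functor.map_comp, Functor.map_comp, ← Category.assoc, unit_psi g k gk w2 F]
  have n1 : (pc g k gk w2).inv.app ((EtCoh.pull gk).obj F) ≫
      (EtCoh.push k).map ((EtCoh.push g).map (psi f gk fgk w4 F)) =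
      (EtCoh.push gk).map (psi f gk fgk w4 F) ≫
        (pc g k gk w2).inv.app ((EtCoh.push f).obj ((EtCoh.pull fgk).obj F)) :=
    ((pc g k gk w2).inv.naturality (psi f gk fgk w4 F)).symm
  have ha := pc_assoc f g k fg gk fgk w1 w2 w3 w4 ((EtCoh.pull fgk).obj F)
  have e1 : (EtCoh.push k).map ((pc f g fg w1).hom.app ((EtCoh.pull fgk).obj F)) =
      (pc g k gk w2).hom.app ((EtCoh.push f).obj ((EtCoh.pull fgk).obj F)) ≫
        (pc f gk fgk w4).hom.app ((EtCoh.pull fgk).obj F) ≫
          (pc fg k fgk w3).inv.app ((EtCoh.pull fgk).obj F) := by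
    rw [← Category.assoc, ha, Category.assoc]
    have e0 : (pc fg k fgk w3).hom.app ((EtCoh.pull fgk).obj F) ≫
        (pc fg k fgk w3).inv.app ((EtCoh.pull fgk).obj F) = 𝟙 _ :=
      Iso.hom_inv_id_app (pc fg k fgk w3) ((EtCoh.pull fgk).obj F)
    rw [e0]
    exact (Category.comp_id _).symm
  rw [e1]
  simp only [Category.assoc]
  rw [reassoc_of% n1, reassoc_of% (unit_psi f gk fgk w4 F)]
  have e2 : (pc g k gk w2).inv.app ((EtCoh.push f).obj ((EtCoh.pull fgk).obj F)) ≫
      (pc g k gk w2).hom.app ((EtCoh.push f).obj ((EtCoh.pull fgk).obj F)) = 𝟙 _ :=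
    Iso.inv_hom_id_app (pc g k gk w2) _
  have e3 : (pc f gk fgk w4).inv.app ((EtCoh.pull fgk).obj F) ≫
      (pc f gk fgk w4).hom.app ((EtCoh.pull fgk).obj F) = 𝟙 _ :=
    Iso.inv_hom_id_app (pc f gk fgk w4) _
  rw [reassoc_of% e2, reassoc_of% e3]

end PsiComp

section TrPsi

variable {X Y Z : Scheme.{u}} (f : X ⟶ Y) (g : Y ⟶ Z) (h : X ⟶ Z) (w : f ≫ g = h)
  (F : EtCoh.Ab Z) [PreservesFiniteLimits (EtCoh.pull f)]

/-- the transition map attached to `psi` is the relative pullback `HpullVia` -/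
theorem tr_psi (n : ℕ) (x : EtCoh.H Y ((EtCoh.pull g).obj F) n) :
    tr f (psi f g h w F) n x = EtCore.HpullVia f g h w F n x := by
  have h0 : EtCore.HpullVia f g h w F n x =
      EtLim.HpullThen f ((EtCoh.pull g).obj F) (kap f g h w F).hom n x := rfl
  rw [h0, HpullThen_eq, psi_def]
  rfl

/-- the transition map attached to `psi` vanishes iff the pullback vanishes -/
theorem tr_psi_eq_zero_iff (n : ℕ) (x : EtCoh.H Y ((EtCoh.pull g).obj F) n) :
    tr f (psi f g h w F) n x = 0 ↔ EtCore.Hpull f ((EtCoh.pull g).obj F) n x = 0 := by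
  have h0 : tr f (psi f g h w F) n x =
      ((EtCoh.HF X n).map (kap f g h w F).hom).hom (EtCore.Hpull f ((EtCoh.pull g).obj F) n x) := by
    rw [tr_psi]
    rfl
  rw [h0]
  constructor
  · intro hx
    have h1 := congrArg ((EtCoh.HF X n).map (kap f g h w F).inv).hom hx
    rw [map_zero] at h1
    rw [← h1]
    have e : (EtCoh.HF X n).map (kap f g h w F).hom ≫ (EtCoh.HF X n).map (kap f g h w F).inv =
        𝟙 _ := by
      rw [← Functor.map_comp, Iso.hom_inv_id, CategoryTheory.Functor.map_id]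
    exact (ConcreteCategory.congr_hom e _).symm
  · intro hx
    rw [hx, map_zero]

end TrPsi

section PullSys

variable {ι : Type u} [Preorder ι] {Xs : ιᵒᵖ ⥤ Scheme.{u}} (c : Cone Xs) (o : ι)
  (ho : ∀ l, o ≤ l) (F : EtCoh.Ab (XX Xs o))

/-- the system of pullbacks of a sheaf on the bottom stage -/
noncomputable def pullSys : Sys Xs where
  obj l := (EtCoh.pull (uu Xs (ho l))).obj F
  θ {l m} h := psi (uu Xs h) (uu Xs (ho l)) (uu Xs (ho m)) (uu_comp Xs (ho l) h) F
  cocycle {l m n} hlm hmn :=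
    psi_comp (uu Xs hmn) (uu Xs hlm) (uu Xs (ho l)) (uu Xs (hlm.trans hmn)) (uu Xs (ho m))
      (uu Xs (ho n)) (uu_comp Xs hlm hmn) (uu_comp Xs (ho l) hlm)
      (uu_comp Xs (ho l) (hlm.trans hmn)) (uu_comp Xs (ho m) hmn) F

/-- the morphism from the system of pullbacks to the push tower of the pullback to the limit -/
noncomputable def pullHom :
    Sys.Hom (pullSys o ho F) (RSys c ((EtCoh.pull (cu Xs c o)).obj F)) where
  app l := psi (cu Xs c l) (uu Xs (ho l)) (cu Xs c o) (cu_comp Xs c (ho l)) F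
  comm {l m} h := by
    have hp := psi_comp (cu Xs c m) (uu Xs h) (uu Xs (ho l)) (cu Xs c l) (uu Xs (ho m))
      (cu Xs c o) (cu_comp Xs c h) (uu_comp Xs (ho l) h) (cu_comp Xs c (ho l))
      (cu_comp Xs c (ho m)) F
    have e0 : (pc (cu Xs c m) (uu Xs h) (cu Xs c l) (cu_comp Xs c h)).hom.app
        ((EtCoh.pull (cu Xs c o)).obj F) ≫
        (pc (cu Xs c m) (uu Xs h) (cu Xs c l) (cu_comp Xs c h)).inv.app
          ((EtCoh.pull (cu Xs c o)).obj F) = 𝟙 _ :=
      Iso.hom_inv_id_app (pc (cu Xs c m) (uu Xs h) (cu Xs c l) (cu_comp Xs c h)) _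
    change _ = _ ≫ (pc (cu Xs c m) (uu Xs h) (cu Xs c l) (cu_comp Xs c h)).inv.app _
    rw [← hp]
    simp only [Category.assoc]
    rw [e0]
    exact (congrArg (fun t => (pullSys o ho F).θ h ≫ t) (Category.comp_id _)).symm

end PullSys

end H9FE.LimPull
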