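import Mathlib
import Groth.Agent.Lib.Helper9.FE.LimPull1
import Groth.Agent.Lib.Helper9.FE.BC0Germ

/-! helper9: pasting of degree-zero base change maps of abelian étale sheaves along a composite
of base morphisms: for squares `g' ≫ f = f' ≫ g` and `a' ≫ f' = f'' ≫ a` the base change map of the
composite square is, up to the canonical isomorphisms `a⁻¹ g⁻¹ ≅ (a ≫ g)⁻¹`, the composite of the
pulled back base change map of the first square and the base change map of the second
(`bc_paste`); the underlying identity between the adjoint maps (`gam_paste`). -/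

set_option autoImplicit false
set_option linter.unusedSectionVars false
set_option linter.style.haveILetI false
set_option backward.isDefEq.respectTransparency false
universe u
open CategoryTheory CategoryTheory.Limits AlgebraicGeometry Opposite

namespace H9FE.BCPaste
open H9FE.LimTower H9FE.LimPull H9FE.EtTr

section Gam

variable {X S X' S' : Scheme.{u}} (f : X ⟶ S) (g : S' ⟶ S) (f' : X' ⟶ S') (g' : X' ⟶ X)
  (k : X' ⟶ S) (hk1 : g' ≫ f = k) (hk2 : f' ≫ g = k) (F : EtCoh.Ab X)

/-- the adjoint `f_* F ⟶ g_* f'_* g'⁻¹ F` of the base change map, in generic form -/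
noncomputable def gam : (EtCoh.push f).obj F ⟶
    (EtCoh.push g).obj ((EtCoh.push f').obj ((EtCoh.pull g').obj F)) :=
  (EtCoh.push f).map ((EtCoh.pullPushAdj g').unit.app F) ≫
    (pc g' f k hk1).hom.app ((EtCoh.pull g').obj F) ≫
    (pc f' g k hk2).inv.app ((EtCoh.pull g').obj F)

lemma pushCongr_rfl_inv_app {A B : Scheme.{u}} (p : A ⟶ B) (N : EtCoh.Ab A) :
    (EtCoh.pushCongr (rfl : p = p)).inv.app N = 𝟙 _ := by
  have e := Iso.inv_hom_id_app (EtCoh.pushCongr (rfl : p = p)) N
  rw [pushCongr_rfl_app, Category.comp_id] at e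
  exact e

lemma gamma_eq (w : g' ≫ f = f' ≫ g) :
    H9FE.BC0Germ.gamma f g f' g' w F = gam f g f' g' (f' ≫ g) w rfl F := by
  unfold H9FE.BC0Germ.gamma gam pc
  rw [Iso.trans_hom, Iso.trans_inv, NatTrans.comp_app, NatTrans.comp_app,
    pushCongr_rfl_inv_app, Category.id_comp]
  simp only [Category.assoc]

lemma unit_bc (w : g' ≫ f = f' ≫ g) :
    (EtCoh.pullPushAdj g).unit.app ((EtCoh.push f).obj F) ≫
      (EtCoh.push g).map (EtCoh.baseChange0 f g f' g' w F) =
      gam f g f' g' (f' ≫ g) w rfl F :=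
  (H9FE.BC0Germ.unit_baseChange0 f g f' g' w F).trans (gamma_eq f g f' g' F w)

end Gam

section Paste

variable {X X' X'' S S' S'' : Scheme.{u}} (f : X ⟶ S) (f' : X' ⟶ S') (f'' : X'' ⟶ S'')
  (g : S' ⟶ S) (g' : X' ⟶ X) (a : S'' ⟶ S') (a' : X'' ⟶ X') (G : S'' ⟶ S) (G' : X'' ⟶ X)
  (F : EtCoh.Ab X)
  (k1 : X' ⟶ S) (k2 : X'' ⟶ S') (t : X'' ⟶ S)
  (hk1 : g' ≫ f = k1) (hk1' : f' ≫ g = k1) (hk2 : a' ≫ f' = k2) (hk2' : f'' ≫ a = k2)
  (ht1 : G' ≫ f = t) (ht2 : f'' ≫ G = t) (wG : a ≫ g = G) (wG' : a' ≫ g' = G')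

include hk1 hk1' hk2 hk2' ht1 ht2 wG wG' in
/-- the pasting identity for the adjoints of the base change maps -/
theorem gam_paste :
    gam f G f'' G' t ht1 ht2 F ≫
      (pc a g G wG).inv.app ((EtCoh.push f'').obj ((EtCoh.pull G').obj F)) =
    gam f g f' g' k1 hk1 hk1' F ≫
      (EtCoh.push g).map (gam f' a f'' a' k2 hk2 hk2' ((EtCoh.pull g').obj F)) ≫
      (EtCoh.push g).map ((EtCoh.push a).map ((EtCoh.push f'').map (kap a' g' G' wG' F).hom)) := by
  have w3 : k2 ≫ g = t := by rw [← hk2', Category.assoc, wG, ht2]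
  have w4 : a' ≫ k1 = t := by rw [← hk1, ← Category.assoc, wG', ht1]
  -- abbreviations
  let N := (EtCoh.pull g').obj F
  let M := (EtCoh.pull G').obj F
  let P := (EtCoh.pull a').obj N
  let ηg : F ⟶ (EtCoh.push g').obj N := (EtCoh.pullPushAdj g').unit.app F
  let ηa : N ⟶ (EtCoh.push a').obj P := (EtCoh.pullPushAdj a').unit.app N
  let κ : P ⟶ M := (kap a' g' G' wG' F).hom
  let ψ' : N ⟶ (EtCoh.push a').obj M := ηa ≫ (EtCoh.push a').map κ
  let ηG : F ⟶ (EtCoh.push G').obj M := (EtCoh.pullPushAdj G').unit.app F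
  -- the unit identity
  have U : ηg ≫ (EtCoh.push g').map ψ' ≫ (pc a' g' G' wG').hom.app M = ηG := by
    have h := unit_psi_hom a' g' G' wG' F
    rw [psi_def] at h
    exact h
  -- the isomorphism `A`
  have hA : IsIso ((pc a g G wG).hom.app ((EtCoh.push f'').obj M) ≫ (pc f'' G t ht2).hom.app M) :=
    inferInstance
  rw [← cancel_mono ((pc a g G wG).hom.app ((EtCoh.push f'').obj M) ≫
    (pc f'' G t ht2).hom.app M)]
  -- left hand side
  have L : (gam f G f'' G' t ht1 ht2 F ≫
      (pc a g G wG).inv.app ((EtCoh.push f'').obj ((EtCoh.pull G').obj F))) ≫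
      ((pc a g G wG).hom.app ((EtCoh.push f'').obj M) ≫ (pc f'' G t ht2).hom.app M) =
      (EtCoh.push f).map ηG ≫ (pc G' f t ht1).hom.app M := by
    unfold gam
    simp only [Category.assoc]
    have e1 : (pc a g G wG).inv.app ((EtCoh.push f'').obj M) ≫
        (pc a g G wG).hom.app ((EtCoh.push f'').obj M) ≫ (pc f'' G t ht2).hom.app M =
        (pc f'' G t ht2).hom.app M := by
      rw [← Category.assoc, Iso.inv_hom_id_app, Category.id_comp]
    have e2 : (pc f'' G t ht2).inv.app M ≫ (pc f'' G t ht2).hom.app M = 𝟙 _ :=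
      Iso.inv_hom_id_app _ _
    rw [e1, e2, Category.comp_id]
  rw [L]
  -- right hand side
  have S1 : (pc a g G wG).hom.app ((EtCoh.push f'').obj M) ≫ (pc f'' G t ht2).hom.app M =
      (EtCoh.push g).map ((pc f'' a k2 hk2').hom.app M) ≫ (pc k2 g t w3).hom.app M :=
    pc_assoc f'' a g k2 G t hk2' wG w3 ht2 M
  have S2 : (pc f'' a k2 hk2').inv.app P ≫ (EtCoh.push a).map ((EtCoh.push f'').map κ) ≫
      (pc f'' a k2 hk2').hom.app M = (EtCoh.push k2).map κ := by
    have n := (pc f'' a k2 hk2').hom.naturality κ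
    have n' : (EtCoh.push a).map ((EtCoh.push f'').map κ) ≫ (pc f'' a k2 hk2').hom.app M =
        (pc f'' a k2 hk2').hom.app P ≫ (EtCoh.push k2).map κ := n
    rw [n', ← Category.assoc, Iso.inv_hom_id_app, Category.id_comp]
  have S3 : (pc a' f' k2 hk2).hom.app P ≫ (EtCoh.push k2).map κ =
      (EtCoh.push f').map ((EtCoh.push a').map κ) ≫ (pc a' f' k2 hk2).hom.app M :=
    ((pc a' f' k2 hk2).hom.naturality κ).symm
  have S4 : (EtCoh.push g).map ((pc a' f' k2 hk2).hom.app M) ≫ (pc k2 g t w3).hom.app M =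
      (pc f' g k1 hk1').hom.app ((EtCoh.push a').obj M) ≫ (pc a' k1 t w4).hom.app M :=
    (pc_assoc a' f' g k2 k1 t hk2 hk1' w3 w4 M).symm
  have S5 : (pc f' g k1 hk1').inv.app N ≫ (EtCoh.push g).map ((EtCoh.push f').map ψ') ≫
      (pc f' g k1 hk1').hom.app ((EtCoh.push a').obj M) = (EtCoh.push k1).map ψ' := by
    have n := (pc f' g k1 hk1').hom.naturality ψ'
    have n' : (EtCoh.push g).map ((EtCoh.push f').map ψ') ≫
        (pc f' g k1 hk1').hom.app ((EtCoh.push a').obj M) =
        (pc f' g k1 hk1').hom.app N ≫ (EtCoh.push k1).map ψ' := n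
    rw [n', ← Category.assoc, Iso.inv_hom_id_app, Category.id_comp]
  have S6 : (pc g' f k1 hk1).hom.app N ≫ (EtCoh.push k1).map ψ' =
      (EtCoh.push f).map ((EtCoh.push g').map ψ') ≫
        (pc g' f k1 hk1).hom.app ((EtCoh.push a').obj M) :=
    ((pc g' f k1 hk1).hom.naturality ψ').symm
  have S7 : (pc g' f k1 hk1).hom.app ((EtCoh.push a').obj M) ≫ (pc a' k1 t w4).hom.app M =
      (EtCoh.push f).map ((pc a' g' G' wG').hom.app M) ≫ (pc G' f t ht1).hom.app M :=
    pc_assoc a' g' f G' k1 t wG' hk1 ht1 w4 M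
  -- the inner part
  have I1 : gam f' a f'' a' k2 hk2 hk2' N ≫
      (EtCoh.push a).map ((EtCoh.push f'').map κ) ≫ (pc f'' a k2 hk2').hom.app M =
      (EtCoh.push f').map ψ' ≫ (pc a' f' k2 hk2).hom.app M := by
    unfold gam
    simp only [Category.assoc]
    rw [S2, S3, ← Category.assoc, ← Functor.map_comp]
  rw [S1]
  have I2 : (EtCoh.push g).map (gam f' a f'' a' k2 hk2 hk2' N) ≫
      (EtCoh.push g).map ((EtCoh.push a).map ((EtCoh.push f'').map κ)) ≫
      (EtCoh.push g).map ((pc f'' a k2 hk2').hom.app M) ≫ (pc k2 g t w3).hom.app M =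
      (EtCoh.push g).map ((EtCoh.push f').map ψ') ≫
        (pc f' g k1 hk1').hom.app ((EtCoh.push a').obj M) ≫ (pc a' k1 t w4).hom.app M := by
    rw [← S4, ← Category.assoc, ← Category.assoc, ← Category.assoc, ← Functor.map_comp,
      ← Functor.map_comp, Category.assoc, I1, Functor.map_comp, Category.assoc]
  have I3 : gam f g f' g' k1 hk1 hk1' F ≫ (EtCoh.push g).map ((EtCoh.push f').map ψ') ≫
      (pc f' g k1 hk1').hom.app ((EtCoh.push a').obj M) ≫ (pc a' k1 t w4).hom.app M =
      (EtCoh.push f).map ηG ≫ (pc G' f t ht1).hom.app M := by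
    unfold gam
    simp only [Category.assoc]
    have e : (pc f' g k1 hk1').inv.app N ≫ (EtCoh.push g).map ((EtCoh.push f').map ψ') ≫
        (pc f' g k1 hk1').hom.app ((EtCoh.push a').obj M) ≫ (pc a' k1 t w4).hom.app M =
        (EtCoh.push k1).map ψ' ≫ (pc a' k1 t w4).hom.app M := by
      rw [← S5]
      simp only [Category.assoc]
    rw [e, ← Category.assoc ((pc g' f k1 hk1).hom.app N), S6, Category.assoc, S7,
      ← Category.assoc, ← Category.assoc, ← Functor.map_comp, ← Functor.map_comp, Category.assoc, U]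
  simp only [Category.assoc]
  rw [I2, I3]

/-- pasting of base change maps -/
theorem bc_paste (w1 : g' ≫ f = f' ≫ g) (w2 : a' ≫ f' = f'' ≫ a) (w3 : G' ≫ f = f'' ≫ G)
    (wG : a ≫ g = G) (wG' : a' ≫ g' = G') :
    (kap a g G wG ((EtCoh.push f).obj F)).hom ≫ EtCoh.baseChange0 f G f'' G' w3 F =
      (EtCoh.pull a).map (EtCoh.baseChange0 f g f' g' w1 F) ≫
        EtCoh.baseChange0 f' a f'' a' w2 ((EtCoh.pull g').obj F) ≫
        (EtCoh.push f'').map (kap a' g' G' wG' F).hom := by
  apply ((EtCoh.pullPushAdj a).homEquiv _ _).injective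
  apply ((EtCoh.pullPushAdj g).homEquiv _ _).injective
  rw [Adjunction.homEquiv_unit, Adjunction.homEquiv_unit, Adjunction.homEquiv_unit,
    Adjunction.homEquiv_unit]
  -- left hand side
  have hL : (EtCoh.pullPushAdj g).unit.app ((EtCoh.push f).obj F) ≫
      (EtCoh.push g).map ((EtCoh.pullPushAdj a).unit.app
        ((EtCoh.pull g).obj ((EtCoh.push f).obj F)) ≫
        (EtCoh.push a).map ((kap a g G wG ((EtCoh.push f).obj F)).hom ≫
          EtCoh.baseChange0 f G f'' G' w3 F)) =
      gam f G f'' G' (f'' ≫ G) w3 rfl F ≫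
        (pc a g G wG).inv.app ((EtCoh.push f'').obj ((EtCoh.pull G').obj F)) := by
    have e1 : (EtCoh.pullPushAdj a).unit.app ((EtCoh.pull g).obj ((EtCoh.push f).obj F)) ≫
        (EtCoh.push a).map ((kap a g G wG ((EtCoh.push f).obj F)).hom ≫
          EtCoh.baseChange0 f G f'' G' w3 F) =
        psi a g G wG ((EtCoh.push f).obj F) ≫
          (EtCoh.push a).map (EtCoh.baseChange0 f G f'' G' w3 F) := by
      rw [Functor.map_comp, ← Category.assoc, ← psi_def]
    rw [e1, Functor.map_comp, ← Category.assoc, unit_psi a g G wG ((EtCoh.push f).obj F),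
      Category.assoc]
    have n := (pc a g G wG).inv.naturality (EtCoh.baseChange0 f G f'' G' w3 F)
    have n' : (pc a g G wG).inv.app ((EtCoh.pull G).obj ((EtCoh.push f).obj F)) ≫
        (EtCoh.push g).map ((EtCoh.push a).map (EtCoh.baseChange0 f G f'' G' w3 F)) =
        (EtCoh.push G).map (EtCoh.baseChange0 f G f'' G' w3 F) ≫
          (pc a g G wG).inv.app ((EtCoh.push f'').obj ((EtCoh.pull G').obj F)) := n.symm
    rw [n', ← Category.assoc, unit_bc f G f'' G' F w3]
  -- right hand side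
  have hR : (EtCoh.pullPushAdj g).unit.app ((EtCoh.push f).obj F) ≫
      (EtCoh.push g).map ((EtCoh.pullPushAdj a).unit.app
        ((EtCoh.pull g).obj ((EtCoh.push f).obj F)) ≫
        (EtCoh.push a).map ((EtCoh.pull a).map (EtCoh.baseChange0 f g f' g' w1 F) ≫
          EtCoh.baseChange0 f' a f'' a' w2 ((EtCoh.pull g').obj F) ≫
          (EtCoh.push f'').map (kap a' g' G' wG' F).hom)) =
      gam f g f' g' (f' ≫ g) w1 rfl F ≫
        (EtCoh.push g).map (gam f' a f'' a' (f'' ≫ a) w2 rfl ((EtCoh.pull g').obj F)) ≫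
        (EtCoh.push g).map ((EtCoh.push a).map ((EtCoh.push f'').map
          (kap a' g' G' wG' F).hom)) := by
    have n := (EtCoh.pullPushAdj a).unit.naturality (EtCoh.baseChange0 f g f' g' w1 F)
    have n' : (EtCoh.pullPushAdj a).unit.app ((EtCoh.pull g).obj ((EtCoh.push f).obj F)) ≫
        (EtCoh.push a).map ((EtCoh.pull a).map (EtCoh.baseChange0 f g f' g' w1 F)) =
        EtCoh.baseChange0 f g f' g' w1 F ≫
          (EtCoh.pullPushAdj a).unit.app ((EtCoh.push f').obj ((EtCoh.pull g').obj F)) := n.symm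
    have e1 : (EtCoh.pullPushAdj a).unit.app ((EtCoh.pull g).obj ((EtCoh.push f).obj F)) ≫
        (EtCoh.push a).map ((EtCoh.pull a).map (EtCoh.baseChange0 f g f' g' w1 F) ≫
          EtCoh.baseChange0 f' a f'' a' w2 ((EtCoh.pull g').obj F) ≫
          (EtCoh.push f'').map (kap a' g' G' wG' F).hom) =
        EtCoh.baseChange0 f g f' g' w1 F ≫
          gam f' a f'' a' (f'' ≫ a) w2 rfl ((EtCoh.pull g').obj F) ≫
          (EtCoh.push a).map ((EtCoh.push f'').map (kap a' g' G' wG' F).hom) := by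
      rw [Functor.map_comp, Functor.map_comp, ← Category.assoc, n', Category.assoc,
        ← Category.assoc ((EtCoh.pullPushAdj a).unit.app _),
        unit_bc f' a f'' a' ((EtCoh.pull g').obj F) w2]
    rw [e1, Functor.map_comp, Functor.map_comp, ← Category.assoc, unit_bc f g f' g' F w1]
  rw [hL, hR]
  exact gam_paste f f' f'' g g' a a' G G' F (f' ≫ g) (f'' ≫ a) (f'' ≫ G) w1 rfl w2 rfl w3 rfl
    wG wG'

end Paste

end H9FE.BCPaste
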