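import Mathlib
import Groth.Agent.Lib.Helper9.FE.CsSub

/-! helper9: Noetherian induction on closed subsets: on a Noetherian scheme a subsheaf, hence also a
quotient, of a constructible abelian étale sheaf is constructible. -/

set_option autoImplicit false
set_option linter.unusedSectionVars false
set_option linter.style.haveILetI false
set_option backward.isDefEq.respectTransparency false
universe u
open CategoryTheory CategoryTheory.Limits AlgebraicGeometry Opposite Topology

namespace H9FE.CsSub
open H9FE.CsStrata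

/-- in a Noetherian space every locally closed subset is constructible -/
theorem isConstructible_of_isLocallyClosed {Y : Type*} [TopologicalSpace Y]
    [TopologicalSpace.NoetherianSpace Y] {s : Set Y} (hs : IsLocallyClosed s) :
    IsConstructible s := by
  obtain ⟨U, Z, hU, hZ, rfl⟩ := hs
  have hop : ∀ V : Set Y, IsOpen V → IsConstructible V := fun V hV =>
    IsRetrocompact.isConstructible hV (fun _ _ _ => TopologicalSpace.NoetherianSpace.isCompact _)
  exact (hop U hU).inter (hop Zᶜ hZ.isOpen_compl).of_compl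

variable {X : Scheme.{u}}

theorem Strat.insert_open [TopologicalSpace.NoetherianSpace X] {Z : Set X} {P : MorProp X}
    {T : Scheme.{u}} (s : T ⟶ X) [IsImmersion s] (hPs : P s) (O₁ : Set X)
    (hr : Set.range s = Z ∩ O₁) (h : Strat (Z \ O₁) P) : Strat Z P := by
  obtain ⟨κ, hκ, T', g, h1, h2, h3, h4, h5⟩ := h
  have hcons : ∀ {T'' : Scheme.{u}} (g'' : T'' ⟶ X) [IsImmersion g''],
      IsConstructible ((Subtype.val : Z → X) ⁻¹' Set.range g'') := fun g'' _ =>
    isConstructible_of_isLocallyClosed (g''.isLocallyClosed_range.preimage continuous_subtype_val)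
  have hgsub : ∀ i, Set.range (g i) ⊆ Z \ O₁ := fun i => by
    rw [← h4]
    exact Set.subset_iUnion (fun i => Set.range (g i)) i
  refine ⟨Option κ, inferInstance, fun o => Option.rec T T' o,
    fun o => Option.rec (motive := fun o => (Option.rec T T' o : Scheme.{u}) ⟶ X) s g o,
    ?_, ?_, ?_, ?_, ?_⟩
  · rintro (_ | i)
    · exact inferInstanceAs (IsImmersion s)
    · exact h1 i
  · rintro (_ | i)
    · exact hcons s
    · haveI := h1 i
      exact hcons (g i)
  · rintro (_ | i) (_ | i') hne
    · exact (hne rfl).elim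
    · show Disjoint (Set.range s) (Set.range (g i'))
      rw [hr]
      exact Set.disjoint_left.2 fun x hx hx' => (hgsub i' hx').2 hx.2
    · show Disjoint (Set.range (g i)) (Set.range s)
      rw [hr]
      exact Set.disjoint_left.2 fun x hx hx' => (hgsub i hx).2 hx'.2
    · exact h3 (fun h => hne (congrArg some h))
  · rw [Set.iUnion_option]
    show Set.range s ∪ ⋃ i, Set.range (g i) = Z
    rw [hr, h4, Set.inter_union_sdiff]
  · rintro (_ | i)
    · exact hPs
    · exact h5 i

theorem strat_closed_of_sub (X : Scheme.{u}) [IsNoetherian X] {F G : EtCoh.Ab X} (ι : G ⟶ F)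
    [Mono ι] (hF : EtPBC.IsConstructible F) (Z : TopologicalSpace.Closeds X) :
    Strat (Z : Set X) (flcP G) := by
  refine WellFoundedLT.induction (motive := fun Z : TopologicalSpace.Closeds X =>
    Strat (Z : Set X) (flcP G)) Z ?_
  intro Z IH
  by_cases hZ : (Z : Set X) = ∅
  · exact ⟨Empty, inferInstance, fun e => e.elim, fun e => e.elim, fun e => e.elim,
      fun e => e.elim, fun e => e.elim, by rw [hZ]; exact Set.iUnion_of_empty _, fun e => e.elim⟩
  obtain ⟨z₀, hz₀⟩ := Set.nonempty_iff_ne_empty.2 hZ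
  let Z' : Set X := (Z : Set X)
  haveI : TopologicalSpace.NoetherianSpace ↥Z' := inferInstance
  let C : Set ↥Z' := irreducibleComponent (⟨z₀, hz₀⟩ : ↥Z')
  have hC : C ∈ irreducibleComponents ↥Z' := irreducibleComponent_mem_irreducibleComponents _
  obtain ⟨o', ho', ho'ne, ho'C⟩ :=
    TopologicalSpace.NoetherianSpace.exists_isOpen_nonempty_subset_irreducibleComponent C hC
  have ho'irr : IsIrreducible o' :=
    ⟨ho'ne, isIrreducible_irreducibleComponent.isPreirreducible.open_subset ho' ho'C⟩
  obtain ⟨O, hO, hOo'⟩ := isOpen_induced_iff.1 ho'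
  have hoeq : (Subtype.val : ↥Z' → X) '' o' = Z' ∩ O := by
    rw [← hOo', Subtype.image_preimage_coe]
  have hoirr : IsIrreducible (Z' ∩ O) := by
    rw [← hoeq]
    exact ho'irr.image _ continuous_subtype_val.continuousOn
  have holc : IsLocallyClosed (Z' ∩ O) := ⟨O, Z', hO, Z.isClosed, Set.inter_comm _ _⟩
  obtain ⟨T, h, hh, hhr⟩ := exists_immersion_of_isLocallyClosed X (Z' ∩ O) holc
  haveI : IrreducibleSpace T :=
    irreducibleSpace_of_isInducing h h.isEmbedding.isInducing (hhr ▸ hoirr)
  haveI : IsLocallyNoetherian T := LocallyOfFiniteType.isLocallyNoetherian h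
  haveI : CompactSpace T := by
    rw [← isCompact_univ_iff, h.isEmbedding.isCompact_iff]
    exact TopologicalSpace.NoetherianSpace.isCompact _
  have hFT := pullback_constructible h F hF
  obtain ⟨κ, hκ, T', g', a1, a2, a3, a4, a5⟩ := strat_univ_of_constructible _ hFT
  let η := genericPoint T
  obtain ⟨i₀, hi₀⟩ : ∃ i, η ∈ Set.range (g' i) := by
    have : η ∈ ⋃ i, Set.range (g' i) := by
      rw [a4]
      trivial
    exact Set.mem_iUnion.1 this
  haveI := a1 i₀
  have hopen : IsOpen (Set.range (g' i₀)) := by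
    obtain ⟨O', C', hO', hC', hOC⟩ := (g' i₀).isLocallyClosed_range
    have hC'u : C' = Set.univ := by
      have hηC : η ∈ C' := by
        have := hi₀
        rw [hOC] at this
        exact this.2
      exact Set.eq_univ_of_univ_subset (((genericPoint_spec T).mem_closed_set_iff hC').1 hηC)
    rw [hOC, hC'u, Set.inter_univ]
    exact hO'
  let k : T' i₀ ⟶ X := g' i₀ ≫ h
  haveI : IrreducibleSpace (T' i₀) :=
    irreducibleSpace_of_isInducing (g' i₀) (g' i₀).isEmbedding.isInducing
      ⟨⟨η, hi₀⟩, (IrreducibleSpace.isIrreducible_univ T).isPreirreducible.open_subset hopen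
        (Set.subset_univ _)⟩
  haveI : IsLocallyNoetherian (T' i₀) := LocallyOfFiniteType.isLocallyNoetherian (g' i₀)
  have hFk : EtCoh.IsFiniteLocallyConstant ((EtCoh.pull k).obj F) :=
    (flcP_pull_iff h F (g' i₀)).1 (a5 i₀)
  haveI := Groth.Agent.S0101.result k
  haveI : Mono ((EtCoh.pull k).map ι) := inferInstance
  obtain ⟨W₀, hW₀ne, hW₀⟩ := exists_open_flc_sub ((EtCoh.pull k).map ι) hFk
  let s : W₀.toScheme ⟶ X := W₀.ι ≫ k
  have hPs : flcP G s := (flcP_pull_iff k G W₀.ι).1 hW₀
  obtain ⟨O₁, hO₁, hr⟩ : ∃ O₁ : Set X, IsOpen O₁ ∧ Set.range s = Z' ∩ O₁ := by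
    have hoe : IsOpenEmbedding (g' i₀) := ⟨(g' i₀).isEmbedding, hopen⟩
    have hA : IsOpen ((g' i₀) '' (W₀ : Set (T' i₀))) := hoe.isOpenMap _ W₀.isOpen
    obtain ⟨O₂, hO₂, hO₂A⟩ := h.isEmbedding.isInducing.isOpen_iff.1 hA
    refine ⟨O ∩ O₂, hO.inter hO₂, ?_⟩
    have hs : s = (W₀.ι ≫ g' i₀) ≫ h := (Category.assoc _ _ _).symm
    rw [hs, range_comp, range_comp, Scheme.Opens.range_ι, ← hO₂A,
      Set.image_preimage_eq_inter_range, hhr]
    ext x
    simp only [Set.mem_inter_iff]
    tauto
  have hZ₁c : IsClosed (Z' \ O₁) := Z.isClosed.sdiff hO₁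
  have hlt : (⟨Z' \ O₁, hZ₁c⟩ : TopologicalSpace.Closeds X) < Z := by
    refine lt_of_le_of_ne (fun x hx => hx.1) (fun heq => ?_)
    obtain ⟨w, hw⟩ := hW₀ne
    have hx : s ⟨w, hw⟩ ∈ Set.range s := ⟨_, rfl⟩
    rw [hr] at hx
    have : s ⟨w, hw⟩ ∈ ((⟨Z' \ O₁, hZ₁c⟩ : TopologicalSpace.Closeds X) : Set X) := by
      rw [heq]
      exact hx.1
    exact this.2 hx.2
  exact Strat.insert_open s hPs O₁ hr (IH _ hlt)

theorem subsheaf_constructible (X : Scheme.{u}) [IsNoetherian X] {F G : EtCoh.Ab X} (ι : G ⟶ F)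
    [Mono ι] (hF : EtPBC.IsConstructible F) : EtPBC.IsConstructible G := by
  have := strat_closed_of_sub X ι hF ⊤
  exact constructible_of_strat_univ G (by simpa using this)

theorem constructible_of_iso {F G : EtCoh.Ab X} (e : F ≅ G) (hF : EtPBC.IsConstructible F) :
    EtPBC.IsConstructible G := by
  intro U hU
  rw [adapted_iff]
  exact ((adapted_iff _ _).1 (hF U hU)).mono fun T g hg =>
    flc_of_iso ((EtCoh.pull g).mapIso e) hg

theorem quotient_constructible (X : Scheme.{u}) [IsNoetherian X] {F Q : EtCoh.Ab X} (π : F ⟶ Q)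
    [Epi π] (hF : EtPBC.IsConstructible F) : EtPBC.IsConstructible Q := by
  have hK : EtPBC.IsConstructible (kernel π) := subsheaf_constructible X (kernel.ι π) hF
  have h2 := (constructible_kernel_cokernel (kernel.ι π) hK hF).2
  let e : cokernel (kernel.ι π) ≅ Q :=
    (colimit.isColimit (parallelPair (kernel.ι π) 0)).coconePointUniqueUpToIso
      (Abelian.epiIsCokernelOfKernel (limit.cone (parallelPair π 0)) (limit.isLimit _))
  exact constructible_of_iso e h2

end H9FE.CsSub
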