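import Mathlib
import Groth.Agent.Lib.Helper9.FE.CsNoeth
import Groth.Agent.Lib.Helper9.FE.CsGlue

/-! helper9: on a locally Noetherian scheme an abelian étale sheaf is constructible iff every point
has an open neighbourhood in its closure along which the sheaf is finite locally constant. -/

set_option autoImplicit false
set_option linter.unusedSectionVars false
set_option linter.style.haveILetI false
set_option backward.isDefEq.respectTransparency false
universe u
open CategoryTheory CategoryTheory.Limits AlgebraicGeometry Opposite Topology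

namespace H9FE.CsClos
open H9FE.CsStrata H9FE.CsSub

variable {X : Scheme.{u}}

/-- every point has an open of its closure along which `F` is finite locally constant -/
def LocFLC (F : EtCoh.Ab X) : Prop :=
  ∀ x : X, ∃ (V : X.Opens) (T : Scheme.{u}) (g : T ⟶ X), IsImmersion g ∧ x ∈ V ∧
    Set.range g.base = (V : Set X) ∩ closure {x} ∧
    EtCoh.IsFiniteLocallyConstant ((EtCoh.pull g).obj F)

theorem strat_closed_of_locFLC (Y : Scheme.{u}) [IsNoetherian Y] (G : EtCoh.Ab Y) (H : LocFLC G)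
    (Z : TopologicalSpace.Closeds Y) : Strat (Z : Set Y) (flcP G) := by
  refine WellFoundedLT.induction (motive := fun Z : TopologicalSpace.Closeds Y =>
    Strat (Z : Set Y) (flcP G)) Z ?_
  intro Z IH
  by_cases hZ : (Z : Set Y) = ∅
  · exact ⟨Empty, inferInstance, fun e => e.elim, fun e => e.elim, fun e => e.elim,
      fun e => e.elim, fun e => e.elim, by rw [hZ]; exact Set.iUnion_of_empty _, fun e => e.elim⟩
  obtain ⟨z₀, hz₀⟩ := Set.nonempty_iff_ne_empty.2 hZ
  let Z' : Set Y := (Z : Set Y)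
  haveI : TopologicalSpace.NoetherianSpace ↥Z' := inferInstance
  let C : Set ↥Z' := irreducibleComponent (⟨z₀, hz₀⟩ : ↥Z')
  have hC : C ∈ irreducibleComponents ↥Z' := irreducibleComponent_mem_irreducibleComponents _
  obtain ⟨o', ho', ho'ne, ho'C⟩ :=
    TopologicalSpace.NoetherianSpace.exists_isOpen_nonempty_subset_irreducibleComponent C hC
  have ho'irr : IsIrreducible o' :=
    ⟨ho'ne, isIrreducible_irreducibleComponent.isPreirreducible.open_subset ho' ho'C⟩
  obtain ⟨O, hO, hOo'⟩ := isOpen_induced_iff.1 ho'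
  have hoeq : (Subtype.val : ↥Z' → Y) '' o' = Z' ∩ O := by
    rw [← hOo', Subtype.image_preimage_coe]
  have hoirr : IsIrreducible (Z' ∩ O) := by
    rw [← hoeq]
    exact ho'irr.image _ continuous_subtype_val.continuousOn
  let A : Set Y := Z' ∩ O
  let x : Y := hoirr.genericPoint
  have hx : IsGenericPoint x (closure A) := hoirr.isGenericPoint_genericPoint_closure
  have hclZ : closure A ⊆ Z' := closure_minimal Set.inter_subset_left Z.isClosed
  have hxO : x ∈ O := (hx.mem_open_set_iff hO).2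
    (hoirr.nonempty.mono (fun y hy => ⟨subset_closure hy, hy.2⟩))
  have hxA : x ∈ A := ⟨hclZ hx.mem, hxO⟩
  have hclx : closure {x} = closure A := hx
  obtain ⟨V, T, g, hg, hxV, hr, hflc⟩ := H x
  haveI := hg
  let O₁ : Set Y := O ∩ (V : Set Y)
  have hO₁ : IsOpen O₁ := hO.inter V.isOpen
  let Oo : Y.Opens := ⟨O, hO⟩
  let s : (g ⁻¹ᵁ Oo).toScheme ⟶ Y := (g ⁻¹ᵁ Oo).ι ≫ g
  have hPs : flcP G s := flcP_comp G _ g hflc
  have hrs : Set.range s = Z' ∩ O₁ := by
    have hr' : Set.range g = (V : Set Y) ∩ closure A := by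
      rw [← hclx]
      exact hr
    rw [range_comp, Scheme.Opens.range_ι,
      show ((g ⁻¹ᵁ Oo : T.Opens) : Set T) = g ⁻¹' O from rfl,
      Set.image_preimage_eq_inter_range, hr']
    ext y
    simp only [Set.mem_inter_iff]
    constructor
    · rintro ⟨hyO, hyV, hycl⟩
      exact ⟨hclZ hycl, hyO, hyV⟩
    · rintro ⟨hyZ, hyO, hyV⟩
      exact ⟨hyO, hyV, subset_closure ⟨hyZ, hyO⟩⟩
  have hZ₁c : IsClosed (Z' \ O₁) := Z.isClosed.sdiff hO₁
  have hlt : (⟨Z' \ O₁, hZ₁c⟩ : TopologicalSpace.Closeds Y) < Z := by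
    refine lt_of_le_of_ne (fun y hy => hy.1) (fun heq => ?_)
    have : x ∈ ((⟨Z' \ O₁, hZ₁c⟩ : TopologicalSpace.Closeds Y) : Set Y) := by
      rw [heq]
      exact hxA.1
    exact this.2 ⟨hxO, hxV⟩
  exact Strat.insert_open s hPs O₁ hrs (IH _ hlt)

theorem locFLC_restrict (F : EtCoh.Ab X) (H : LocFLC F) (U : X.Opens) :
    LocFLC ((EtCoh.pull U.ι).obj F) := by
  intro y
  obtain ⟨V, T, g, hg, hxV, hr, hflc⟩ := H (U.ι y)
  haveI := hg
  refine ⟨U.ι ⁻¹ᵁ V, pullback g U.ι, pullback.snd g U.ι, inferInstance, hxV, ?_, ?_⟩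
  · show Set.range (pullback.snd g U.ι) = _
    have hr' : Set.range g = (V : Set X) ∩ closure {U.ι y} := hr
    rw [Scheme.Pullback.range_snd, hr', Set.preimage_inter,
      U.ι.isEmbedding.isInducing.closure_eq_preimage_closure_image, Set.image_singleton]
    rfl
  · have h1 : flcP F (pullback.fst g U.ι ≫ g) := flcP_comp F _ g hflc
    rw [pullback.condition] at h1
    exact (flcP_pull_iff U.ι F _).2 h1

theorem constructible_of_locFLC [IsLocallyNoetherian X] (F : EtCoh.Ab X) (H : LocFLC F) :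
    EtPBC.IsConstructible F := by
  refine constructible_of_open_cover F (fun U : X.affineOpens => (U : X.Opens))
    (iSup_affineOpens_eq_top X) ?_
  intro U
  haveI : IsAffine (U : X.Opens).toScheme := U.2
  haveI : IsNoetherian (U : X.Opens).toScheme := {}
  have h := strat_closed_of_locFLC _ _ (locFLC_restrict F H U) ⊤
  exact constructible_of_strat_univ _ (by simpa using h)

theorem locFLC_of_constructible (F : EtCoh.Ab X) (hF : EtPBC.IsConstructible F) : LocFLC F := by
  intro x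
  obtain ⟨W, hWa, hxW, -⟩ := exists_affine_nhd (⊤ : X.Opens) x trivial
  obtain ⟨ι, hι, T, h, h1, h2, h3, h4, h5⟩ := (adapted_iff F W).1 (hF W hWa)
  have hxm : x ∈ ⋃ i, Set.range (h i) := by
    rw [h4]
    exact hxW
  obtain ⟨i, hi⟩ := Set.mem_iUnion.1 hxm
  haveI := h1 i
  obtain ⟨O', C', hO', hC', hOC⟩ := (h i).isLocallyClosed_range
  have hxOC : x ∈ O' ∩ C' := hOC ▸ hi
  have hclC : closure {x} ⊆ C' := closure_minimal (Set.singleton_subset_iff.2 hxOC.2) hC'
  obtain ⟨Zc, c, hc, hcr⟩ := exists_closedImmersion_of_isClosed X (closure {x}) isClosed_closure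
  haveI := hc
  let P : Scheme.{u} := pullback (h i) c
  let g₀ : P ⟶ X := pullback.fst (h i) c ≫ h i
  have hg₀r : Set.range g₀ = Set.range (h i) ∩ closure {x} := by
    rw [range_fst_comp, hcr]
  let V : X.Opens := ⟨O', hO'⟩
  let g : (g₀ ⁻¹ᵁ V).toScheme ⟶ X := (g₀ ⁻¹ᵁ V).ι ≫ g₀
  refine ⟨V, _, g, inferInstance, hxOC.1, ?_, ?_⟩
  · show Set.range g = _
    rw [range_comp, Scheme.Opens.range_ι,
      show ((g₀ ⁻¹ᵁ V : P.Opens) : Set P) = g₀ ⁻¹' O' from rfl,
      Set.image_preimage_eq_inter_range, hg₀r, hOC]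
    ext y
    show y ∈ O' ∩ (O' ∩ C' ∩ closure {x}) ↔ y ∈ O' ∩ closure {x}
    simp only [Set.mem_inter_iff]
    constructor
    · rintro ⟨hyO, -, hycl⟩
      exact ⟨hyO, hycl⟩
    · rintro ⟨hyO, hycl⟩
      exact ⟨hyO, ⟨hyO, hclC hycl⟩, hycl⟩
  · have hgg : g = ((g₀ ⁻¹ᵁ V).ι ≫ pullback.fst (h i) c) ≫ h i := (Category.assoc _ _ _).symm
    rw [hgg]
    exact flcP_comp F _ (h i) (h5 i)

theorem constructible_iff_locFLC [IsLocallyNoetherian X] (F : EtCoh.Ab X) :
    EtPBC.IsConstructible F ↔ LocFLC F :=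
  ⟨locFLC_of_constructible F, constructible_of_locFLC F⟩

end H9FE.CsClos
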