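import Mathlib

/-! helper9: a constructible subset of an affine scheme containing all generizations of a point is a
neighbourhood of that point; étale morphisms are locally quasi-finite; points of a fibre of an étale
morphism do not specialize to each other. -/

set_option autoImplicit false
set_option linter.unusedSectionVars false
set_option linter.style.haveILetI false
set_option backward.isDefEq.respectTransparency false
universe u
open CategoryTheory CategoryTheory.Limits AlgebraicGeometry Opposite Topology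

namespace H9FE.SpNbhd

theorem exists_basicOpen_subset_of_generizations {R : Type u} [CommRing R]
    {E : Set (PrimeSpectrum R)} (hE : IsConstructible E) (p : PrimeSpectrum R)
    (hgen : ∀ q : PrimeSpectrum R, q ⤳ p → q ∈ E) :
    ∃ f : R, p ∈ PrimeSpectrum.basicOpen f ∧ (PrimeSpectrum.basicOpen f : Set _) ⊆ E := by
  obtain ⟨S, _, φ, hφ⟩ := PrimeSpectrum.exists_range_eq_of_isConstructible hE.compl
  let Mon : Submonoid S := Submonoid.map φ p.asIdeal.primeCompl
  have h0 : (0 : S) ∈ Mon := by
    by_contra h0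
    have hdisj : Disjoint ((⊥ : Ideal S) : Set S) (Mon : Set S) := by
      rw [Set.disjoint_left]
      intro a ha haM
      rw [SetLike.mem_coe, Ideal.mem_bot] at ha
      subst ha
      exact h0 haM
    obtain ⟨𝔮, h𝔮prime, -, h𝔮disj⟩ := Ideal.exists_le_prime_disjoint ⊥ Mon hdisj
    let Q : PrimeSpectrum S := ⟨𝔮, h𝔮prime⟩
    let q := PrimeSpectrum.comap φ Q
    have hq : q ∈ Eᶜ := hφ ▸ ⟨Q, rfl⟩
    have hle : q ≤ p := by
      intro r hr
      by_contra hrp
      exact Set.disjoint_left.1 h𝔮disj hr ⟨r, hrp, rfl⟩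
    exact hq (hgen q ((PrimeSpectrum.le_iff_specializes q p).1 hle))
  obtain ⟨f, hf, hf0⟩ := h0
  refine ⟨f, hf, ?_⟩
  intro q hq
  by_contra hqE
  have hqr : q ∈ Set.range (PrimeSpectrum.comap φ) := hφ ▸ hqE
  obtain ⟨Q, rfl⟩ := hqr
  apply hq
  show φ f ∈ Q.asIdeal
  rw [hf0]
  exact Q.asIdeal.zero_mem

/-- a constructible subset of an affine scheme containing all generizations of a point is a
neighbourhood of that point -/
theorem mem_nhds_of_generizations {T : Scheme.{u}} [IsAffine T] {E : Set T}
    (hE : IsConstructible E) (y : T) (hgen : ∀ q : T, q ⤳ y → q ∈ E) : E ∈ 𝓝 y := by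
  let h : T ≃ₜ PrimeSpectrum Γ(T, ⊤) := Scheme.homeoOfIso T.isoSpec
  have hE' : IsConstructible (h '' E) := hE.image_of_isOpenEmbedding h.isOpenEmbedding (by
    rw [h.surjective.range_eq]
    exact IsRetrocompact.univ)
  have hgen' : ∀ q : PrimeSpectrum Γ(T, ⊤), q ⤳ h y → q ∈ h '' E := by
    intro q hq
    refine ⟨h.symm q, hgen _ ?_, h.apply_symm_apply q⟩
    rw [← h.isInducing.specializes_iff, h.apply_symm_apply]
    exact hq
  obtain ⟨f, hf, hfE⟩ := exists_basicOpen_subset_of_generizations hE' (h y) hgen'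
  have hO : IsOpen (h ⁻¹' (PrimeSpectrum.basicOpen f : Set _)) :=
    (PrimeSpectrum.basicOpen f).isOpen.preimage h.continuous
  refine Filter.mem_of_superset (hO.mem_nhds hf) ?_
  intro z hz
  obtain ⟨z', hz', hzz'⟩ := hfE hz
  rwa [← h.injective hzz']

theorem lqf_of_etale {X Y : Scheme.{u}} (f : X ⟶ Y) [Etale f] : LocallyQuasiFinite f := by
  rw [HasRingHomProperty.iff_appLE (P := @LocallyQuasiFinite)]
  intro U V e
  have h := f.etale_appLE U.2 V.2 e
  algebraize [(f.appLE U.1 V.1 e).hom]
  show Algebra.QuasiFinite _ _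
  infer_instance

/-- points of a fibre of an étale morphism do not specialize to each other -/
theorem eq_of_specializes_of_fibre {X Y : Scheme.{u}} (f : X ⟶ Y) [Etale f] {q y : X}
    (hs : q ⤳ y) (hf : f q = f y) : q = y := by
  haveI := lqf_of_etale f
  have hd := f.isDiscrete_preimage_singleton (f y)
  rw [isDiscrete_iff_discreteTopology] at hd
  let q' : f ⁻¹' {f y} := ⟨q, hf⟩
  let y' : f ⁻¹' {f y} := ⟨y, rfl⟩
  have hs' : q' ⤳ y' := by
    rw [← Topology.IsInducing.subtypeVal.specializes_iff]
    exact hs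
  exact congrArg Subtype.val (specializes_iff_eq.1 hs')

end H9FE.SpNbhd
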