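import Mathlib
import Groth.Agent.Lib.Helper9.FE.SpFLC
import Groth.Agent.Lib.Helper9.FE.SpNbhd
import Groth.Agent.Lib.Helper9.FE.CsClos

/-! helper9: on a locally Noetherian scheme an abelian étale sheaf with finite geometric stalks and
injective specialization maps is constructible. -/

set_option autoImplicit false
set_option linter.unusedSectionVars false
set_option linter.style.haveILetI false
set_option backward.isDefEq.respectTransparency false
universe u
open CategoryTheory CategoryTheory.Limits AlgebraicGeometry Opposite Topology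

namespace H9FE.SpCons
open H9FE.ConstSite H9FE.SpConst H9FE.SpLocal H9FE.SpFLC H9FE.CsStrata

attribute [local instance] Groth.Agent.Lib.Helper5.EtStalk.ab5' Groth.Agent.Lib.Helper5.EtStalk.pfc

variable {X : Scheme.{u}}

/-- germ maps on the inverse image along `g`, over the base change of `V`, through the unit -/
theorem germBij_pull {T : Scheme.{u}} (g : T ⟶ X) (F : EtCoh.Ab X) (V : X.Etale) {M : Type*}
    (γ : M → F.obj.obj (op V)) {Ω : Type u} [Field Ω] [IsSepClosed Ω]
    (ζ : Spec (CommRingCat.of Ω) ⟶ T)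
    (yT : (Scheme.pointSmallEtale ζ).fiber.obj ((EtCoh.bc g).obj V))
    (h : GermBij F V γ (ζ ≫ g) ((Groth.Agent.Lib.Helper5.EtStalkPull.fiberIso g ζ).hom.app V yT)) :
    GermBij ((EtCoh.pull g).obj F) ((EtCoh.bc g).obj V)
      (fun m => ((EtCoh.pullPushAdj g).unit.app F).hom.app (op V) (γ m)) ζ yT := by
  let v₁ := (Groth.Agent.Lib.Helper5.EtStalkPull.fiberIso g ζ).hom.app V yT
  have hy : yT = Groth.Agent.S0072.Aux.liftPt g (ζ ≫ g) ζ rfl V v₁ := by
    rw [← StalkPullGerm.fiberIso_inv]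
    exact (ConcreteCategory.congr_hom
      ((Groth.Agent.Lib.Helper5.EtStalkPull.fiberIso g ζ).hom_inv_id_app V) yT).symm
  have hgerm := StalkPullGerm.stalkPullIso_inv_germ g ζ F V v₁
  have hfun : (fun m => (Scheme.pointSmallEtale ζ).toPresheafFiber ((EtCoh.bc g).obj V) yT
      ((EtCoh.pull g).obj F).obj (((EtCoh.pullPushAdj g).unit.app F).hom.app (op V) (γ m))) =
      (fun p => (Groth.Agent.Lib.Helper5.EtStalkPull.stalkPullIso g ζ).inv.app F p) ∘
        (fun m => (Scheme.pointSmallEtale (ζ ≫ g)).toPresheafFiber V v₁ F.obj (γ m)) := by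
    funext m
    rw [hy]
    exact (ConcreteCategory.congr_hom hgerm (γ m)).symm
  unfold GermBij
  rw [hfun]
  exact (ConcreteCategory.bijective_of_isIso _).comp h

theorem constructible_of_sp_mono [IsLocallyNoetherian X] (F : EtCoh.Ab X)
    (hfin : ∀ (Ω : Type u) [Field Ω] [IsSepClosed Ω] (ξ : Spec (CommRingCat.of Ω) ⟶ X),
      Finite ((EtCoh.stalk ξ).obj F))
    (hmono : ∀ (Ω Ω' : Type u) [Field Ω] [IsSepClosed Ω] [Field Ω'] [IsSepClosed Ω']
      (ξ : Spec (CommRingCat.of Ω) ⟶ X) (ξ' : Spec (CommRingCat.of Ω') ⟶ X)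
      (φ : Scheme.pointSmallEtale ξ' ⟶ Scheme.pointSmallEtale ξ),
      Mono ((GrothendieckTopology.Point.Hom.sheafFiber (A := AddCommGrpCat.{u + 1}) φ).app F)) :
    EtPBC.IsConstructible F := by
  apply CsClos.constructible_of_locFLC F
  intro x
  obtain ⟨Ω, _, _, ξ, hξ⟩ : ∃ (Ω : Type u) (_ : Field Ω) (_ : IsSepClosed Ω)
      (ξ : Spec (CommRingCat.of Ω) ⟶ X), ξ default = x :=
    ⟨(Groth.Agent.Lib.Helper5.EtStalk.geomPtAt x).Ω, inferInstance, inferInstance,
      (Groth.Agent.Lib.Helper5.EtStalk.geomPtAt x).ξ,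
      Groth.Agent.Lib.Helper5.EtStalk.geomPtAt_default x⟩
  haveI := hfin Ω ξ
  obtain ⟨V, hVaff, v, γ, hγ⟩ := exists_local_sections F ξ
  haveI : Etale V.hom := V.prop
  haveI : IsLocallyNoetherian V.left := LocallyOfFiniteType.isLocallyNoetherian (Y := X) V.hom
  haveI : IsNoetherian V.left := {}
  let y : V.left := v.left (default : Spec (CommRingCat.of Ω))
  have hVy : V.hom y = x := by
    rw [← hξ]
    exact congrArg (fun f : Spec (CommRingCat.of Ω) ⟶ X => f default) (Over.w v)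
  let Z : Set X := closure {x}
  let ZV : Set V.left := V.hom ⁻¹' Z
  have hZV : IsClosed ZV := isClosed_closure.preimage V.hom.continuous
  let E' : Set V.left := ZVᶜ ∪ closure {y}
  have hE'c : IsConstructible E' :=
    (CsSub.isConstructible_of_isLocallyClosed hZV.isOpen_compl.isLocallyClosed).union
      (CsSub.isConstructible_of_isLocallyClosed isClosed_closure.isLocallyClosed)
  have hgen : ∀ q : V.left, q ⤳ y → q ∈ E' := by
    intro q hq
    by_cases hqZ : q ∈ ZV
    · right
      have h1 : V.hom q ⤳ x := by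
        rw [← hVy]
        exact hq.map V.hom.continuous
      have h2 : x ⤳ V.hom q := specializes_iff_mem_closure.2 hqZ
      have h3 : V.hom q = V.hom y := by
        rw [hVy]
        exact (h1.antisymm h2).eq
      have h4 : q = y := SpNbhd.eq_of_specializes_of_fibre V.hom hq h3
      rw [h4]
      exact subset_closure rfl
    · left
      exact hqZ
  have hnhds := SpNbhd.mem_nhds_of_generizations hE'c y hgen
  obtain ⟨O, hOE', hO, hyO⟩ := mem_nhds_iff.1 hnhds
  let Vo : V.left.Opens := ⟨O, hO⟩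
  let V' : X.Etale := Scheme.Etale.mk (Vo.ι ≫ V.hom)
  let j : V' ⟶ V := MorphismProperty.Over.homMk Vo.ι rfl
  let γ' : ((EtCoh.stalk ξ).obj F) →+ F.obj.obj (op V') := (F.obj.map j.op).hom.comp γ
  have hbijZ : ∀ (Ω₁ : Type u) [Field Ω₁] [IsSepClosed Ω₁] (ζ₁ : Spec (CommRingCat.of Ω₁) ⟶ X)
      (y₁ : (Scheme.pointSmallEtale ζ₁).fiber.obj V'), ζ₁ default ∈ Z →
      GermBij F V' γ' ζ₁ y₁ := by
    intro Ω₁ _ _ ζ₁ y₁ hζZ
    let y₁V : (Scheme.pointSmallEtale ζ₁).fiber.obj V :=
      (Scheme.pointSmallEtale ζ₁).fiber.map j y₁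
    let q₁ : V.left := y₁V.left (default : Spec (CommRingCat.of Ω₁))
    have hq₁O : q₁ ∈ O := (y₁.left (default : Spec (CommRingCat.of Ω₁))).2
    have hq₁Z : q₁ ∈ ZV := by
      show V.hom q₁ ∈ Z
      have h1 : V.hom q₁ = ζ₁ default :=
        congrArg (fun f : Spec (CommRingCat.of Ω₁) ⟶ X => f default) (Over.w y₁V)
      rw [h1]
      exact hζZ
    have hq₁ : q₁ ∈ closure {y} := (hOE' hq₁O).resolve_left (fun h => h hq₁Z)
    have hs : y ⤳ q₁ := specializes_iff_mem_closure.2 hq₁
    obtain ⟨φ, hφ⟩ := exists_arrow_of_specializes V y₁V v hs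
    have h3 := germ_comp_arrow F V γ y₁V v φ hφ
    have hid : (fun m => (Scheme.pointSmallEtale ξ).toPresheafFiber V v F.obj (γ m)) = id :=
      funext hγ
    rw [hid] at h3
    haveI := hmono Ω₁ Ω ζ₁ ξ φ
    have hinj : Function.Injective (fun p =>
        (GrothendieckTopology.Point.Hom.sheafFiber (A := AddCommGrpCat.{u + 1}) φ).app F p) :=
      (AddCommGrpCat.mono_iff_injective _).1 inferInstance
    have hb : Function.Bijective
        (fun m => (Scheme.pointSmallEtale ζ₁).toPresheafFiber V y₁V F.obj (γ m)) := by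
      constructor
      · intro m m' hmm
        have e1 := congrFun h3 m
        have e2 := congrFun h3 m'
        simp only [Function.comp_apply, id_eq] at e1 e2
        rw [e1, e2]
        exact congrArg _ hmm
      · intro p
        refine ⟨(GrothendieckTopology.Point.Hom.sheafFiber (A := AddCommGrpCat.{u + 1}) φ).app F p,
          hinj ?_⟩
        have e1 := congrFun h3
          ((GrothendieckTopology.Point.Hom.sheafFiber (A := AddCommGrpCat.{u + 1}) φ).app F p)
        simp only [Function.comp_apply, id_eq] at e1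
        exact e1.symm
    have hfun : (fun m => (Scheme.pointSmallEtale ζ₁).toPresheafFiber V' y₁ F.obj (γ' m)) =
        (fun m => (Scheme.pointSmallEtale ζ₁).toPresheafFiber V y₁V F.obj (γ m)) := by
      funext m
      exact (Scheme.pointSmallEtale ζ₁).toPresheafFiber_w_apply j y₁ F.obj (γ m)
    unfold GermBij
    rw [hfun]
    exact hb
  obtain ⟨Zc, c, hc, hcr⟩ := exists_closedImmersion_of_isClosed X Z isClosed_closure
  haveI := hc
  haveI : Etale V'.hom := V'.prop
  let VX : X.Opens := ⟨Set.range V'.hom, V'.hom.isOpenMap.isOpen_range⟩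
  let Tc : Zc.Opens := c ⁻¹ᵁ VX
  let g : Tc.toScheme ⟶ X := Tc.ι ≫ c
  have hgr : Set.range g = (VX : Set X) ∩ closure {x} := by
    rw [range_comp, Scheme.Opens.range_ι,
      show ((c ⁻¹ᵁ VX : Zc.Opens) : Set Zc) = c ⁻¹' (VX : Set X) from rfl,
      Set.image_preimage_eq_inter_range, hcr]
  have hxVX : x ∈ VX := ⟨⟨y, hyO⟩, hVy⟩
  refine ⟨VX, Tc.toScheme, g, inferInstance, hxVX, hgr, ?_⟩
  let G' : EtCoh.Ab Tc.toScheme := (EtCoh.pull g).obj F
  let Z' : Tc.toScheme.Etale := (EtCoh.bc g).obj V'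
  let τ : ((EtCoh.stalk ξ).obj F) →+ G'.obj.obj (op Z') :=
    (((EtCoh.pullPushAdj g).unit.app F).hom.app (op V')).hom.comp γ'
  have hbij' : ∀ (Ω₁ : Type u) [Field Ω₁] [IsSepClosed Ω₁]
      (ζT : Spec (CommRingCat.of Ω₁) ⟶ Tc.toScheme)
      (yT : (Scheme.pointSmallEtale ζT).fiber.obj Z'),
      Function.Bijective (fun m => (Scheme.pointSmallEtale ζT).toPresheafFiber Z' yT G'.obj
        (τ m)) := by
    intro Ω₁ _ _ ζT yT
    have hZ : (ζT ≫ g) default ∈ Z := by
      have h1 : (ζT ≫ g) default ∈ Set.range g := ⟨ζT default, rfl⟩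
      rw [hgr] at h1
      exact h1.2
    exact germBij_pull g F V' γ' ζT yT (hbijZ _ (ζT ≫ g) _ hZ)
  obtain ⟨θ⟩ := const_of_germ_bijective G' Z' τ hbij'
  refine Groth.Agent.S6645.Aux.flc_of_finConst G' (fun _ : PUnit.{u + 1} => Z') ?_
    (fun _ => ⟨(EtCoh.stalk ξ).obj F, hfin Ω ξ, ⟨θ⟩⟩)
  intro t
  have ht : g t ∈ (VX : Set X) := by
    have h1 : g t ∈ Set.range g := ⟨t, rfl⟩
    rw [hgr] at h1
    exact h1.1
  obtain ⟨v', hv'⟩ := ht
  obtain ⟨z, -, hz⟩ := Scheme.Pullback.exists_preimage_pullback (f := V'.hom) (g := g) v' t hv'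
  exact ⟨PUnit.unit, z, hz⟩

end H9FE.SpCons
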