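import Mathlib
import Groth.Agent.Lib.Helper9.FE.SpFLC

/-! helper9: for a finite locally constant sheaf, the locus where finitely many sections induce a
bijection onto the geometric stalks is open and closed. -/

set_option autoImplicit false
set_option linter.unusedSectionVars false
set_option linter.style.haveILetI false
set_option backward.isDefEq.respectTransparency false
universe u
open CategoryTheory CategoryTheory.Limits AlgebraicGeometry Opposite Topology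

namespace H9FE.SpLocus
open H9FE.ConstSite H9FE.SpConst H9FE.SpLocal H9FE.SpFLC H9FE.CsSub

attribute [local instance] Groth.Agent.Lib.Helper5.EtStalk.ab5' Groth.Agent.Lib.Helper5.EtStalk.pfc

variable {T : Scheme.{u}} (H : EtCoh.Ab T) {κ : Type u} (U : κ → T.Etale)
  (Q : κ → AddCommGrpCat.{u + 1})
  (α : ∀ j, H.over (U j) ≅ ConstSite.cS.{u + 1, u, u + 1} (T.smallEtaleTopology.over (U j)) (Q j))
  (Z : T.Etale) {M : Type*} (t : M → H.obj.obj (op Z))

/-- the sections `t` are given by constants `c` on the piece `Z'` -/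
def IsPiece (Z' : T.Etale) (k : Z' ⟶ Z) (j : κ) (k₂ : Z' ⟶ U j) (c : M → Q j) : Prop :=
  ∀ m, H.obj.map k.op (t m) =
    H.obj.map k₂.op (gen.{u + 1, u, u + 1} T.smallEtaleTopology H (U j) (α j) (c m))

theorem piece_exists [Finite M] (hU : EtCoh.Covers U) (z : Z.left) :
    ∃ (Z' : T.Etale) (k : Z' ⟶ Z) (j : κ) (k₂ : Z' ⟶ U j) (c : M → Q j),
      IsPiece H U Q α Z t Z' k j k₂ c ∧ z ∈ Set.range k.left := by
  let J := T.smallEtaleTopology
  obtain ⟨j, a, ha⟩ := hU (Z.hom z)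
  let g := Groth.Agent.Lib.Helper5.EtStalk.geomPtAt z
  let ζ : Spec (CommRingCat.of g.Ω) ⟶ T := g.ξ ≫ Z.hom
  let Φ := Scheme.pointSmallEtale ζ
  let yZ : Φ.fiber.obj Z := Over.homMk g.ξ rfl
  haveI : Etale (U j).hom := (U j).prop
  have hζ : (U j).hom a = ζ default := by
    rw [ha]
    show Z.hom z = Z.hom (g.ξ default)
    rw [Groth.Agent.Lib.Helper5.EtStalk.geomPtAt_default]
  obtain ⟨l, hl, -⟩ := Scheme.exists_fac_of_etale_of_isSepClosed (U j).hom ζ a hζ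
  let yU : Φ.fiber.obj (U j) := Over.homMk l hl
  let e₁ : Φ.fiber.Elements := ⟨Z, yZ⟩
  let e₂ : Φ.fiber.Elements := ⟨U j, yU⟩
  let e := IsCofiltered.min e₁ e₂
  let f₁ : e ⟶ e₁ := IsCofiltered.minToLeft e₁ e₂
  let f₂ : e ⟶ e₂ := IsCofiltered.minToRight e₁ e₂
  have hS : ∀ m, ∃ S : Sieve e.1, S ∈ J e.1 ∧ ∀ {Z'' : T.Etale} (k' : Z'' ⟶ e.1), S k' →
      ∃ c : Q j, H.obj.map k'.op (H.obj.map f₁.1.op (t m)) =
        H.obj.map (k' ≫ f₂.1).op (gen.{u + 1, u, u + 1} J H (U j) (α j) c) := fun m =>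
    gen_surj.{u + 1, u, u + 1} J H (U j) (α j) f₂.1 (H.obj.map f₁.1.op (t m))
  choose S hSJ hSprop using hS
  have hSall : (⨅ m, S m) ∈ J e.1 := iInf_mem_of_finite.{u + 1, u, u + 1} J S hSJ
  obtain ⟨Y', g', hg', y', hy'⟩ := Φ.jointly_surjective _ hSall e.2
  have hg'm : ∀ m, S m g' := fun m => (iInf_le S m) _ hg'
  choose c hc using fun m => hSprop m g' (hg'm m)
  refine ⟨Y', g' ≫ f₁.1, j, g' ≫ f₂.1, c, fun m => ?_, ?_⟩
  · rw [← map_map.{u + 1, u, u + 1} J H g' f₁.1 (t m)]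
    exact hc m
  · refine ⟨y'.left (default : Spec (CommRingCat.of g.Ω)), ?_⟩
    have h1 : Φ.fiber.map (g' ≫ f₁.1) y' = yZ := by
      have h7 : Φ.fiber.map (g' ≫ f₁.1) y' = Φ.fiber.map f₁.1 (Φ.fiber.map g' y') :=
        ConcreteCategory.congr_hom (Φ.fiber.map_comp g' f₁.1) y'
      rw [h7, hy']
      exact f₁.2
    have h2 := congrArg (fun w : Φ.fiber.obj Z => w.left (default : Spec (CommRingCat.of g.Ω))) h1
    exact h2.trans (Groth.Agent.Lib.Helper5.EtStalk.geomPtAt_default z)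

theorem piece_iff {Z' : T.Etale} {k : Z' ⟶ Z} {j : κ} {k₂ : Z' ⟶ U j} {c : M → Q j}
    (hp : IsPiece H U Q α Z t Z' k j k₂ c) {Ω : Type u} [Field Ω] [IsSepClosed Ω]
    (ζ : Spec (CommRingCat.of Ω) ⟶ T) (y : (Scheme.pointSmallEtale ζ).fiber.obj Z)
    (hy : y.left (default : Spec (CommRingCat.of Ω)) ∈ Set.range k.left) :
    GermBij H Z t ζ y ↔ Function.Bijective c := by
  let Φ := Scheme.pointSmallEtale ζ
  obtain ⟨z', hz'⟩ := hy
  obtain ⟨y', hy', -⟩ := Groth.Agent.Lib.Helper5.EtStalk.exists_lift_fiber ζ k y z' hz'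
  let y'' : Φ.fiber.obj (U j) := Φ.fiber.map k₂ y'
  have hb := stalk_gen_bijective (U j) (α j) ζ y''
  have hfun : (fun m => Φ.toPresheafFiber Z y H.obj (t m)) =
      (fun q => Φ.toPresheafFiber (U j) y'' H.obj
        (gen.{u + 1, u, u + 1} T.smallEtaleTopology H (U j) (α j) q)) ∘ c := by
    funext m
    have h1 := Φ.toPresheafFiber_w_apply k y' H.obj (t m)
    rw [hy'] at h1
    have h2 := Φ.toPresheafFiber_w_apply k₂ y' H.obj
      (gen.{u + 1, u, u + 1} T.smallEtaleTopology H (U j) (α j) (c m))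
    show Φ.toPresheafFiber Z y H.obj (t m) = Φ.toPresheafFiber (U j) y'' H.obj
        (gen.{u + 1, u, u + 1} T.smallEtaleTopology H (U j) (α j) (c m))
    rw [← h1, hp m, h2]
  unfold GermBij
  rw [hfun]
  exact Function.Bijective.of_comp_iff' hb c

include Q α in
theorem germBij_clopen_aux [Finite M] (hU : EtCoh.Covers U) :
    IsClopen (bijLocus H Z t) ∧ ∀ q ∈ bijLocus H Z t, ∀ (Ω : Type u) [Field Ω] [IsSepClosed Ω]
      (ζ : Spec (CommRingCat.of Ω) ⟶ T) (y : (Scheme.pointSmallEtale ζ).fiber.obj Z),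
      y.left (default : Spec (CommRingCat.of Ω)) = q → GermBij H Z t ζ y := by
  let A : Prop → Set Z.left := fun b => {z | ∃ (Z' : T.Etale) (k : Z' ⟶ Z) (j : κ)
    (k₂ : Z' ⟶ U j) (c : M → Q j), IsPiece H U Q α Z t Z' k j k₂ c ∧
      (Function.Bijective c ↔ b) ∧ z ∈ Set.range k.left}
  have hAopen : ∀ b, IsOpen (A b) := by
    intro b
    rw [isOpen_iff_forall_mem_open]
    rintro z ⟨Z', k, j, k₂, c, hp, hb, hz⟩
    haveI : Etale k.left := inferInstance
    exact ⟨Set.range k.left, fun z' hz' => ⟨Z', k, j, k₂, c, hp, hb, hz'⟩,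
      k.left.isOpenMap.isOpen_range, hz⟩
  have hA1 : bijLocus H Z t = A True := by
    ext q
    constructor
    · rintro ⟨Ω, _, _, ζ, y, hyq, hb⟩
      obtain ⟨Z', k, j, k₂, c, hp, hq⟩ := piece_exists H U Q α Z t hU q
      refine ⟨Z', k, j, k₂, c, hp, ?_, hq⟩
      have := (piece_iff H U Q α Z t hp ζ y (hyq ▸ hq)).1 hb
      exact iff_true_intro this
    · rintro ⟨Z', k, j, k₂, c, hp, hb, hq⟩
      obtain ⟨Ω, _, _, ζ, y, hyq⟩ := exists_geom_at Z q
      exact ⟨Ω, _, _, ζ, y, hyq, (piece_iff H U Q α Z t hp ζ y (hyq ▸ hq)).2 (hb.2 trivial)⟩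
  have hA0 : (bijLocus H Z t)ᶜ = A False := by
    ext q
    constructor
    · intro hq
      obtain ⟨Z', k, j, k₂, c, hp, hqr⟩ := piece_exists H U Q α Z t hU q
      refine ⟨Z', k, j, k₂, c, hp, ?_, hqr⟩
      refine iff_false_intro (fun hc => hq ?_)
      obtain ⟨Ω, _, _, ζ, y, hyq⟩ := exists_geom_at Z q
      exact ⟨Ω, _, _, ζ, y, hyq, (piece_iff H U Q α Z t hp ζ y (hyq ▸ hqr)).2 hc⟩
    · rintro ⟨Z', k, j, k₂, c, hp, hb, hqr⟩ ⟨Ω, _, _, ζ, y, hyq, hby⟩
      exact hb.1 ((piece_iff H U Q α Z t hp ζ y (hyq ▸ hqr)).1 hby)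
  refine ⟨⟨?_, ?_⟩, ?_⟩
  · rw [← isOpen_compl_iff, hA0]
    exact hAopen False
  · rw [hA1]
    exact hAopen True
  · intro q hq Ω _ _ ζ y hyq
    rw [hA1] at hq
    obtain ⟨Z', k, j, k₂, c, hp, hb, hqr⟩ := hq
    exact (piece_iff H U Q α Z t hp ζ y (hyq ▸ hqr)).2 (hb.2 trivial)

omit Q α U in
theorem germBij_clopen [Finite M] (hH : EtCoh.IsFiniteLocallyConstant H) :
    IsClopen (bijLocus H Z t) ∧ ∀ q ∈ bijLocus H Z t, ∀ (Ω : Type u) [Field Ω] [IsSepClosed Ω]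
      (ζ : Spec (CommRingCat.of Ω) ⟶ T) (y : (Scheme.pointSmallEtale ζ).fiber.obj Z),
      y.left (default : Spec (CommRingCat.of Ω)) = q → GermBij H Z t ζ y := by
  obtain ⟨κ', U', hU', hα'⟩ := hH
  choose M₀ iM fM hα'' using hα'
  exact germBij_clopen_aux H U' (fun j => AddCommGrpCat.of (ULift.{u + 1} (M₀ j)))
    (fun j => Classical.choice (hα'' j)) Z t hU'

end H9FE.SpLocus
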