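import Mathlib
import Groth.Agent.Lib.Helper9.FE.SpLocus
import Groth.Agent.Lib.Helper9.FE.SpCons
import Groth.Agent.Lib.Helper9.FE.CsSupp
import Groth.Agent.Lib.Helper9.FE.CsPb

/-! helper9: a constructible abelian étale sheaf is finite locally constant near a point iff all
specialization maps into a geometric point over it are bijective. -/

set_option autoImplicit false
set_option linter.unusedSectionVars false
set_option linter.style.haveILetI false
set_option backward.isDefEq.respectTransparency false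
universe u
open CategoryTheory CategoryTheory.Limits AlgebraicGeometry Opposite Topology

namespace H9FE.SpNear
open H9FE.ConstSite H9FE.SpConst H9FE.SpLocal H9FE.SpFLC H9FE.CsStrata H9FE.CsAcc H9FE.CsSupp
open Groth.Agent.Lib.Helper5 Groth.Agent.S0072.Aux

attribute [local instance] Groth.Agent.Lib.Helper5.EtStalk.ab5' Groth.Agent.Lib.Helper5.EtStalk.pfc

variable {X : Scheme.{u}}

theorem finite_stalk_of_flc {T : Scheme.{u}} (G : EtCoh.Ab T)
    (hG : EtCoh.IsFiniteLocallyConstant G) {Ω : Type u} [Field Ω] [IsSepClosed Ω]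
    (ζ : Spec (CommRingCat.of Ω) ⟶ T) : Finite ((EtCoh.stalk ζ).obj G) := by
  obtain ⟨κ, U, hU, hα⟩ := hG
  obtain ⟨i, a, ha⟩ := hU (ζ default)
  obtain ⟨M₀, iM, fM, ⟨α⟩⟩ := hα i
  haveI : Etale (U i).hom := (U i).prop
  obtain ⟨l, hl, -⟩ := Scheme.exists_fac_of_etale_of_isSepClosed (U i).hom ζ a ha
  let y₀ : (Scheme.pointSmallEtale ζ).fiber.obj (U i) := Over.homMk l hl
  have h1 := stalk_gen_bijective (U i) α ζ y₀
  haveI : Finite (ULift.{u + 1} M₀) := inferInstance
  exact Finite.of_surjective _ h1.2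

theorem finite_stalk_of_constructible (F : EtCoh.Ab X) (hF : EtPBC.IsConstructible F)
    {Ω : Type u} [Field Ω] [IsSepClosed Ω] (ξ : Spec (CommRingCat.of Ω) ⟶ X) :
    Finite ((EtCoh.stalk ξ).obj F) := by
  obtain ⟨W, hWa, hxW, -⟩ := exists_affine_nhd (⊤ : X.Opens) (ξ default) trivial
  obtain ⟨ι, hι, T, g, h1, h2, h3, h4, h5⟩ := (adapted_iff F W).1 (hF W hWa)
  have hx : ξ default ∈ ⋃ i, Set.range (g i) := by
    rw [h4]
    exact hxW
  obtain ⟨i, hi⟩ := Set.mem_iUnion.1 hx
  haveI := h1 i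
  obtain ⟨ξT, rfl⟩ := lift_immersion (g i) ξ hi
  haveI : Finite ↑((EtCoh.pull (g i) ⋙ EtCoh.stalk ξT).obj F) :=
    finite_stalk_of_flc _ (h5 i) ξT
  let e := (EtStalkPull.stalkPullIso (g i) ξT).app F
  have hb := ConcreteCategory.bijective_of_isIso e.hom
  exact Finite.of_surjective _ hb.2

lemma fiberIso_hom_left {T : Scheme.{u}} (g : T ⟶ X) {Ω : Type u} [Field Ω] [IsSepClosed Ω]
    (ζ : Spec (CommRingCat.of Ω) ⟶ T) (V : X.Etale)
    (y : (Scheme.pointSmallEtale ζ).fiber.obj ((EtCoh.bc g).obj V)) :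
    ((EtStalkPull.fiberIso g ζ).hom.app V y).left = y.left ≫ pullback.fst V.hom g := by
  have hy : y = liftPt g (ζ ≫ g) ζ rfl V ((EtStalkPull.fiberIso g ζ).hom.app V y) := by
    rw [← StalkPullGerm.fiberIso_inv]
    exact (ConcreteCategory.congr_hom ((EtStalkPull.fiberIso g ζ).hom_inv_id_app V) y).symm
  have h2 := congrArg (fun w : (Scheme.pointSmallEtale ζ).fiber.obj ((EtCoh.bc g).obj V) =>
    w.left ≫ pullback.fst V.hom g) hy
  exact (h2.trans (pullback.lift_fst _ _ _)).symm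

theorem germBij_pull_iff {T : Scheme.{u}} (g : T ⟶ X) (F : EtCoh.Ab X) (V : X.Etale) {M : Type*}
    (γ : M → F.obj.obj (op V)) {Ω : Type u} [Field Ω] [IsSepClosed Ω]
    (ζ : Spec (CommRingCat.of Ω) ⟶ T)
    (yT : (Scheme.pointSmallEtale ζ).fiber.obj ((EtCoh.bc g).obj V)) :
    GermBij ((EtCoh.pull g).obj F) ((EtCoh.bc g).obj V)
      (fun m => ((EtCoh.pullPushAdj g).unit.app F).hom.app (op V) (γ m)) ζ yT ↔
    GermBij F V γ (ζ ≫ g) ((EtStalkPull.fiberIso g ζ).hom.app V yT) := by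
  let v₁ := (EtStalkPull.fiberIso g ζ).hom.app V yT
  have hy : yT = liftPt g (ζ ≫ g) ζ rfl V v₁ := by
    rw [← StalkPullGerm.fiberIso_inv]
    exact (ConcreteCategory.congr_hom ((EtStalkPull.fiberIso g ζ).hom_inv_id_app V) yT).symm
  have hgerm := StalkPullGerm.stalkPullIso_inv_germ g ζ F V v₁
  have hfun : (fun m => (Scheme.pointSmallEtale ζ).toPresheafFiber ((EtCoh.bc g).obj V) yT
      ((EtCoh.pull g).obj F).obj (((EtCoh.pullPushAdj g).unit.app F).hom.app (op V) (γ m))) =
      (fun p => (EtStalkPull.stalkPullIso g ζ).inv.app F p) ∘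
        (fun m => (Scheme.pointSmallEtale (ζ ≫ g)).toPresheafFiber V v₁ F.obj (γ m)) := by
    funext m
    rw [hy]
    exact (ConcreteCategory.congr_hom hgerm (γ m)).symm
  unfold GermBij
  rw [hfun]
  exact Function.Bijective.of_comp_iff' (ConcreteCategory.bijective_of_isIso _) _

/-- specialization arrows respect open neighbourhoods in étale neighbourhoods -/
theorem arrow_mem_open {Ω Ω' : Type u} [Field Ω] [IsSepClosed Ω] [Field Ω'] [IsSepClosed Ω']
    {ξ : Spec (CommRingCat.of Ω) ⟶ X} {ξ' : Spec (CommRingCat.of Ω') ⟶ X}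
    (φ : Scheme.pointSmallEtale ξ' ⟶ Scheme.pointSmallEtale ξ) (V : X.Etale)
    (v : (Scheme.pointSmallEtale ξ).fiber.obj V) (O : V.left.Opens)
    (h : v.left (default : Spec (CommRingCat.of Ω)) ∈ O) :
    (φ.hom.app V v).left (default : Spec (CommRingCat.of Ω')) ∈ O := by
  haveI : Etale V.hom := V.prop
  let V' : X.Etale := Scheme.Etale.mk (O.ι ≫ V.hom)
  let j : V' ⟶ V := MorphismProperty.Over.homMk O.ι rfl
  let vl : Spec (CommRingCat.of Ω) ⟶ V.left := v.left
  have hr : Set.range vl ⊆ Set.range O.ι := by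
    rintro _ ⟨a, rfl⟩
    have ha : a = (default : Spec (CommRingCat.of Ω)) := Subsingleton.elim _ _
    rw [Scheme.Opens.range_ι, ha]
    exact h
  let l : Spec (CommRingCat.of Ω) ⟶ O.toScheme := IsOpenImmersion.lift O.ι vl hr
  have hl : l ≫ O.ι = vl := IsOpenImmersion.lift_fac _ _ _
  let vO : (Scheme.pointSmallEtale ξ).fiber.obj V' := Over.homMk l (by
    show l ≫ (O.ι ≫ V.hom) = ξ
    rw [← Category.assoc, hl]
    exact Over.w v)
  have hv : (Scheme.pointSmallEtale ξ).fiber.map j vO = v := Over.OverMorphism.ext hl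
  have hnat := ConcreteCategory.congr_hom (φ.hom.naturality j) vO
  have h2 : φ.hom.app V v =
      (Scheme.pointSmallEtale ξ').fiber.map j (φ.hom.app V' vO) := by
    rw [← hv]
    exact hnat
  rw [h2]
  exact ((φ.hom.app V' vO).left (default : Spec (CommRingCat.of Ω'))).2

/-- finite locally constant near the centre of `ξ` implies that all specialization maps into `ξ`
are bijective -/
theorem sp_iso_of_flc_near (F : EtCoh.Ab X) (U : X.Opens)
    (hG : EtCoh.IsFiniteLocallyConstant ((EtCoh.pull U.ι).obj F))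
    {Ω Ω' : Type u} [Field Ω] [IsSepClosed Ω] [Field Ω'] [IsSepClosed Ω']
    (ξ : Spec (CommRingCat.of Ω) ⟶ X) (hξU : ξ default ∈ U)
    (ξ' : Spec (CommRingCat.of Ω') ⟶ X)
    (φ : Scheme.pointSmallEtale ξ' ⟶ Scheme.pointSmallEtale ξ) :
    IsIso ((GrothendieckTopology.Point.Hom.sheafFiber (A := AddCommGrpCat.{u + 1}) φ).app F) := by
  have hξr : ξ default ∈ Set.range U.ι := by
    rw [Scheme.Opens.range_ι]
    exact hξU
  obtain ⟨ξU, rfl⟩ := lift_immersion U.ι ξ hξr
  let G := (EtCoh.pull U.ι).obj F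
  haveI : Finite ↑((EtCoh.pull U.ι ⋙ EtCoh.stalk ξU).obj F) := finite_stalk_of_flc _ hG ξU
  haveI : Finite ((EtCoh.stalk (ξU ≫ U.ι)).obj F) := by
    let e := (EtStalkPull.stalkPullIso U.ι ξU).app F
    exact Finite.of_surjective _ (ConcreteCategory.bijective_of_isIso e.hom).2
  obtain ⟨V, hVaff, v, γ, hγ⟩ := exists_local_sections F (ξU ≫ U.ι)
  let Z : U.toScheme.Etale := (EtCoh.bc U.ι).obj V
  let t : ((EtCoh.stalk (ξU ≫ U.ι)).obj F) → G.obj.obj (op Z) :=
    fun m => ((EtCoh.pullPushAdj U.ι).unit.app F).hom.app (op V) (γ m)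
  obtain ⟨hLclopen, hLall⟩ := SpLocus.germBij_clopen G Z t hG
  have hid : (fun m => (Scheme.pointSmallEtale (ξU ≫ U.ι)).toPresheafFiber V v F.obj (γ m)) = id :=
    funext hγ
  let y₀ : (Scheme.pointSmallEtale ξU).fiber.obj Z := liftPt U.ι (ξU ≫ U.ι) ξU rfl V v
  have hy₀ : GermBij G Z t ξU y₀ := by
    refine (germBij_pull_iff U.ι F V γ ξU y₀).2 ?_
    have h1 : (EtStalkPull.fiberIso U.ι ξU).hom.app V y₀ = v :=
      StalkPullGerm.fiberIso_hom_liftPt U.ι ξU V v
    rw [h1]
    unfold GermBij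
    rw [hid]
    exact Function.bijective_id
  have hz₀ : y₀.left (default : Spec (CommRingCat.of Ω)) ∈ bijLocus G Z t :=
    ⟨Ω, _, _, ξU, y₀, rfl, hy₀⟩
  let p : Z.left ⟶ V.left := pullback.fst V.hom U.ι
  haveI : IsOpenImmersion p := inferInstance
  let O : V.left.Opens := ⟨p '' bijLocus G Z t, p.isOpenEmbedding.isOpenMap _ hLclopen.isOpen⟩
  have hvO : v.left (default : Spec (CommRingCat.of Ω)) ∈ O := by
    refine ⟨y₀.left (default : Spec (CommRingCat.of Ω)), hz₀, ?_⟩
    have h1 : y₀.left ≫ p = v.left := pullback.lift_fst _ _ _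
    exact congrArg (fun f : Spec (CommRingCat.of Ω) ⟶ V.left => f default) h1
  obtain ⟨v', hv'⟩ : ∃ v', v' = φ.hom.app V v := ⟨_, rfl⟩
  have hv'O : v'.left (default : Spec (CommRingCat.of Ω')) ∈ O := by
    rw [hv']
    exact arrow_mem_open φ V v O hvO
  obtain ⟨z', hz'L, hz'⟩ := hv'O
  have hξ'r : ξ' default ∈ Set.range U.ι := by
    refine ⟨(pullback.snd V.hom U.ι) z', ?_⟩
    have h1 : (pullback.snd V.hom U.ι ≫ U.ι) z' = (pullback.fst V.hom U.ι ≫ V.hom) z' :=
      congrArg (fun f : pullback V.hom U.ι ⟶ X => f z') pullback.condition.symm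
    have h2 : V.hom (v'.left (default : Spec (CommRingCat.of Ω'))) = ξ' default :=
      congrArg (fun f : Spec (CommRingCat.of Ω') ⟶ X => f default) (Over.w v')
    rw [← h2, ← hz']
    exact h1
  have h3 := germ_comp_arrow F V γ v v' φ hv'.symm
  rw [hid] at h3
  have hB : GermBij F V γ ξ' v' := by
    clear h3 hv'
    obtain ⟨ζU, rfl⟩ := lift_immersion U.ι ξ' hξ'r
    let yT : (Scheme.pointSmallEtale ζU).fiber.obj Z := liftPt U.ι (ζU ≫ U.ι) ζU rfl V v'
    have hyT : yT.left (default : Spec (CommRingCat.of Ω')) = z' := by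
      apply p.isOpenEmbedding.injective
      rw [hz']
      have h1 : yT.left ≫ p = v'.left := pullback.lift_fst _ _ _
      exact congrArg (fun f : Spec (CommRingCat.of Ω') ⟶ V.left => f default) h1
    have hb := hLall z' hz'L Ω' ζU yT hyT
    have hb' := (germBij_pull_iff U.ι F V γ ζU yT).1 hb
    have h1 : (EtStalkPull.fiberIso U.ι ζU).hom.app V yT = v' :=
      StalkPullGerm.fiberIso_hom_liftPt U.ι ζU V v'
    rw [h1] at hb'
    exact hb'
  have hbij : Function.Bijective (fun p =>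
      (GrothendieckTopology.Point.Hom.sheafFiber (A := AddCommGrpCat.{u + 1}) φ).app F p) := by
    have h4 : (fun p =>
        (GrothendieckTopology.Point.Hom.sheafFiber (A := AddCommGrpCat.{u + 1}) φ).app F p) =
        (fun m => (Scheme.pointSmallEtale ξ').toPresheafFiber V v' F.obj (γ m)) := by
      rw [h3]
      rfl
    rw [h4]
    exact hB
  exact (ConcreteCategory.isIso_iff_bijective _).2 hbij

/-- the locus in an étale neighbourhood where finitely many sections of a constructible sheaf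
induce bijections onto all geometric stalks is constructible -/
theorem bijAll_constructible (F : EtCoh.Ab X) (hF : EtPBC.IsConstructible F) (V : X.Etale)
    [CompactSpace V.left] [QuasiSeparatedSpace V.left] {M : Type*} [Finite M]
    (γ : M → F.obj.obj (op V)) :
    IsConstructible {q : V.left | ∀ (Ω₁ : Type u) [Field Ω₁] [IsSepClosed Ω₁]
      (ζ₁ : Spec (CommRingCat.of Ω₁) ⟶ X) (y₁ : (Scheme.pointSmallEtale ζ₁).fiber.obj V),
      y₁.left (default : Spec (CommRingCat.of Ω₁)) = q → GermBij F V γ ζ₁ y₁} := by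
  let f : V.left ⟶ X := V.hom
  let FV : EtCoh.Ab V.left := (EtCoh.pull f).obj F
  have hFV : EtPBC.IsConstructible FV := pullback_constructible f F hF
  obtain ⟨ι, hι, T, h, h1, h2, h3, h4, h5⟩ := strat_univ_of_constructible FV hFV
  haveI := hι
  haveI : ∀ i, IsImmersion (h i) := h1
  let k : ∀ i, T i ⟶ X := fun i => h i ≫ f
  have hk : ∀ i, EtCoh.IsFiniteLocallyConstant ((EtCoh.pull (k i)).obj F) := fun i =>
    (flcP_pull_iff f F (h i)).1 (h5 i)
  let Zi : ∀ i, (T i).Etale := fun i => (EtCoh.bc (k i)).obj V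
  let ti : ∀ i, M → ((EtCoh.pull (k i)).obj F).obj.obj (op (Zi i)) := fun i m =>
    ((EtCoh.pullPushAdj (k i)).unit.app F).hom.app (op V) (γ m)
  let Γ : ∀ i, T i ⟶ (Zi i).left := fun i =>
    pullback.lift (h i) (𝟙 (T i)) (by rw [Category.id_comp])
  have hΓ1 : ∀ i, Γ i ≫ pullback.fst V.hom (k i) = h i := fun i => pullback.lift_fst _ _ _
  have hΓ2 : ∀ i, Γ i ≫ pullback.snd V.hom (k i) = 𝟙 (T i) := fun i => pullback.lift_snd _ _ _
  have hcl := fun i => SpLocus.germBij_clopen ((EtCoh.pull (k i)).obj F) (Zi i) (ti i) (hk i)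
  let A : ∀ i, Set (T i) := fun i =>
    (Γ i) ⁻¹' (bijLocus ((EtCoh.pull (k i)).obj F) (Zi i) (ti i))
  have hA : ∀ i, IsClopen (A i) := fun i => (hcl i).1.preimage (Γ i).continuous
  have hr : ∀ i, IsConstructible (Set.range (h i)) := by
    intro i
    have := (h2 i).image_of_isOpenEmbedding isOpen_univ.isOpenEmbedding_subtypeVal (by
      rw [Subtype.range_coe]
      exact IsRetrocompact.univ)
    rwa [Subtype.image_preimage_coe, Set.univ_inter] at this
  have hcomp : ∀ i, CompactSpace (T i) := by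
    intro i
    have hc : IsCompact (Set.range (h i)) := CsStrata.isCompact_of_isConstructible (hr i)
    rw [← Set.image_univ, ← (h i).isEmbedding.isCompact_iff] at hc
    exact ⟨hc⟩
  have hqs : ∀ i, QuasiSeparatedSpace (T i) := fun i =>
    quasiSeparatedSpace_of_quasiSeparated (h i)
  have hAc : ∀ i, IsConstructible (A i) := by
    intro i
    haveI := hcomp i
    haveI := hqs i
    exact IsCompact.isConstructible (hA i).isClosed.isCompact (hA i).isOpen
  have hset : {q : V.left | ∀ (Ω₁ : Type u) [Field Ω₁] [IsSepClosed Ω₁]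
      (ζ₁ : Spec (CommRingCat.of Ω₁) ⟶ X) (y₁ : (Scheme.pointSmallEtale ζ₁).fiber.obj V),
      y₁.left (default : Spec (CommRingCat.of Ω₁)) = q → GermBij F V γ ζ₁ y₁} =
      ⋃ i, h i '' A i := by
    ext q
    simp only [Set.mem_setOf_eq, Set.mem_iUnion, Set.mem_image]
    constructor
    · intro hq
      have hqm : q ∈ ⋃ i, Set.range (h i) := by
        rw [h4]
        trivial
      obtain ⟨i, τ, rfl⟩ := Set.mem_iUnion.1 hqm
      refine ⟨i, τ, ?_, rfl⟩
      let g := EtStalk.geomPtAt τ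
      let ζT : Spec (CommRingCat.of g.Ω) ⟶ T i := g.ξ
      have hζT : ζT default = τ := EtStalk.geomPtAt_default τ
      let yT : (Scheme.pointSmallEtale ζT).fiber.obj (Zi i) := Over.homMk (ζT ≫ Γ i) (by
        show (ζT ≫ Γ i) ≫ pullback.snd V.hom (k i) = ζT
        rw [Category.assoc, hΓ2, Category.comp_id])
      refine ⟨g.Ω, inferInstance, inferInstance, ζT, yT, ?_, ?_⟩
      · show (ζT ≫ Γ i) default = Γ i τ
        rw [Scheme.Hom.comp_apply, hζT]
      · refine (germBij_pull_iff (k i) F V γ ζT yT).2 (hq g.Ω (ζT ≫ k i) _ ?_)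
        rw [fiberIso_hom_left]
        have h8 : (ζT ≫ Γ i) ≫ pullback.fst V.hom (k i) = ζT ≫ h i := by
          rw [Category.assoc, hΓ1]
        have h9 := congrArg (fun f : Spec (CommRingCat.of g.Ω) ⟶ V.left => f default) h8
        exact h9.trans (congrArg (h i) hζT)
    · rintro ⟨i, τ, hτ, rfl⟩ Ω₁ _ _ ζ₁ y₁ hy₁
      let yl : Spec (CommRingCat.of Ω₁) ⟶ V.left := y₁.left
      obtain ⟨ζT, hζTl⟩ := lift_immersion (h i) yl ⟨τ, hy₁.symm⟩
      have hζ₁ : ζT ≫ k i = ζ₁ := by
        show ζT ≫ h i ≫ V.hom = ζ₁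
        rw [← Category.assoc, hζTl]
        exact Over.w y₁
      subst hζ₁
      have hζT : ζT default = τ := by
        apply (h i).isEmbedding.injective
        have h7 := congrArg (fun f : Spec (CommRingCat.of Ω₁) ⟶ V.left => f default) hζTl
        exact h7.trans hy₁
      let yT : (Scheme.pointSmallEtale ζT).fiber.obj (Zi i) := Over.homMk (ζT ≫ Γ i) (by
        show (ζT ≫ Γ i) ≫ pullback.snd V.hom (k i) = ζT
        rw [Category.assoc, hΓ2, Category.comp_id])
      have hyT : yT.left (default : Spec (CommRingCat.of Ω₁)) = Γ i τ := by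
        show (ζT ≫ Γ i) default = Γ i τ
        rw [Scheme.Hom.comp_apply, hζT]
      have hb := (hcl i).2 (Γ i τ) hτ Ω₁ ζT yT hyT
      have hb' := (germBij_pull_iff (k i) F V γ ζT yT).1 hb
      have he : (EtStalkPull.fiberIso (k i) ζT).hom.app V yT = y₁ := by
        apply Over.OverMorphism.ext
        rw [fiberIso_hom_left]
        show (ζT ≫ Γ i) ≫ pullback.fst V.hom (k i) = y₁.left
        rw [Category.assoc, hΓ1]
        exact hζTl
      rw [he] at hb'
      exact hb'
  rw [hset]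
  exact IsConstructible.iUnion (fun i => by
    haveI := hcomp i
    haveI := hqs i
    exact isConstructible_image_immersion (h i) (hr i) (hAc i))

/-- if all specialization maps into `ξ` are bijective, a constructible sheaf is finite locally
constant near the centre of `ξ` -/
theorem flc_near_of_sp_iso (F : EtCoh.Ab X) (hF : EtPBC.IsConstructible F)
    {Ω : Type u} [Field Ω] [IsSepClosed Ω] (ξ : Spec (CommRingCat.of Ω) ⟶ X)
    (hiso : ∀ (Ω' : Type u) [Field Ω'] [IsSepClosed Ω'] (ξ' : Spec (CommRingCat.of Ω') ⟶ X)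
      (φ : Scheme.pointSmallEtale ξ' ⟶ Scheme.pointSmallEtale ξ),
      IsIso ((GrothendieckTopology.Point.Hom.sheafFiber (A := AddCommGrpCat.{u + 1}) φ).app F)) :
    ∃ U : X.Opens, ξ default ∈ U ∧
      EtCoh.IsFiniteLocallyConstant ((EtCoh.pull U.ι).obj F) := by
  haveI := finite_stalk_of_constructible F hF ξ
  obtain ⟨V, hVaff, v, γ, hγ⟩ := exists_local_sections F ξ
  haveI := hVaff
  haveI : Etale V.hom := V.prop
  let y : V.left := v.left (default : Spec (CommRingCat.of Ω))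
  have hVy : V.hom y = ξ default :=
    congrArg (fun f : Spec (CommRingCat.of Ω) ⟶ X => f default) (Over.w v)
  let E : Set V.left := {q : V.left | ∀ (Ω₁ : Type u) [Field Ω₁] [IsSepClosed Ω₁]
      (ζ₁ : Spec (CommRingCat.of Ω₁) ⟶ X) (y₁ : (Scheme.pointSmallEtale ζ₁).fiber.obj V),
      y₁.left (default : Spec (CommRingCat.of Ω₁)) = q → GermBij F V γ ζ₁ y₁}
  have hEc : IsConstructible E := bijAll_constructible F hF V γ
  have hid : (fun m => (Scheme.pointSmallEtale ξ).toPresheafFiber V v F.obj (γ m)) = id :=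
    funext hγ
  have hgen : ∀ q : V.left, q ⤳ y → q ∈ E := by
    intro q hq Ω₁ _ _ ζ₁ y₁ hy₁
    obtain ⟨φ, hφ⟩ := exists_arrow_of_specializes V v y₁ (by rw [hy₁]; exact hq)
    have h3 := germ_comp_arrow F V γ v y₁ φ hφ
    rw [hid] at h3
    haveI := hiso Ω₁ ζ₁ φ
    have hb : Function.Bijective (fun p =>
        (GrothendieckTopology.Point.Hom.sheafFiber (A := AddCommGrpCat.{u + 1}) φ).app F p) :=
      ConcreteCategory.bijective_of_isIso _
    unfold GermBij
    rw [h3]
    exact hb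
  have hnhds := SpNbhd.mem_nhds_of_generizations hEc y hgen
  obtain ⟨O, hOE, hO, hyO⟩ := mem_nhds_iff.1 hnhds
  let Vo : V.left.Opens := ⟨O, hO⟩
  let V' : X.Etale := Scheme.Etale.mk (Vo.ι ≫ V.hom)
  let j : V' ⟶ V := MorphismProperty.Over.homMk Vo.ι rfl
  let γ' : ((EtCoh.stalk ξ).obj F) →+ F.obj.obj (op V') := (F.obj.map j.op).hom.comp γ
  have hbij : ∀ (Ω₁ : Type u) [Field Ω₁] [IsSepClosed Ω₁] (ζ₁ : Spec (CommRingCat.of Ω₁) ⟶ X)
      (y' : (Scheme.pointSmallEtale ζ₁).fiber.obj V'), GermBij F V' γ' ζ₁ y' := by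
    intro Ω₁ _ _ ζ₁ y'
    let y₁ : (Scheme.pointSmallEtale ζ₁).fiber.obj V :=
      (Scheme.pointSmallEtale ζ₁).fiber.map j y'
    have hy₁ : y₁.left (default : Spec (CommRingCat.of Ω₁)) ∈ O :=
      (y'.left (default : Spec (CommRingCat.of Ω₁))).2
    have hb := hOE hy₁ Ω₁ ζ₁ y₁ rfl
    have hfun : (fun m => (Scheme.pointSmallEtale ζ₁).toPresheafFiber V' y' F.obj (γ' m)) =
        (fun m => (Scheme.pointSmallEtale ζ₁).toPresheafFiber V y₁ F.obj (γ m)) := by
      funext m
      exact (Scheme.pointSmallEtale ζ₁).toPresheafFiber_w_apply j y' F.obj (γ m)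
    unfold GermBij
    rw [hfun]
    exact hb
  haveI : Etale V'.hom := V'.prop
  let VX : X.Opens := ⟨Set.range V'.hom, V'.hom.isOpenMap.isOpen_range⟩
  have hxVX : ξ default ∈ VX := ⟨⟨y, hyO⟩, hVy⟩
  refine ⟨VX, hxVX, ?_⟩
  let g : VX.toScheme ⟶ X := VX.ι
  let G' : EtCoh.Ab VX.toScheme := (EtCoh.pull g).obj F
  let Z' : VX.toScheme.Etale := (EtCoh.bc g).obj V'
  let τ : ((EtCoh.stalk ξ).obj F) →+ G'.obj.obj (op Z') :=
    (((EtCoh.pullPushAdj g).unit.app F).hom.app (op V')).hom.comp γ'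
  have hbij' : ∀ (Ω₁ : Type u) [Field Ω₁] [IsSepClosed Ω₁]
      (ζT : Spec (CommRingCat.of Ω₁) ⟶ VX.toScheme)
      (yT : (Scheme.pointSmallEtale ζT).fiber.obj Z'),
      Function.Bijective (fun m => (Scheme.pointSmallEtale ζT).toPresheafFiber Z' yT G'.obj
        (τ m)) := by
    intro Ω₁ _ _ ζT yT
    exact SpCons.germBij_pull g F V' γ' ζT yT (hbij _ (ζT ≫ g) _)
  obtain ⟨θ⟩ := const_of_germ_bijective G' Z' τ hbij'
  refine Groth.Agent.S6645.Aux.flc_of_finConst G' (fun _ : PUnit.{u + 1} => Z') ?_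
    (fun _ => ⟨(EtCoh.stalk ξ).obj F, inferInstance, ⟨θ⟩⟩)
  intro t
  have ht : g t ∈ (VX : Set X) := by
    have h1 : g t ∈ Set.range g := ⟨t, rfl⟩
    rw [Scheme.Opens.range_ι] at h1
    exact h1
  obtain ⟨v', hv'⟩ := ht
  obtain ⟨z, -, hz⟩ := Scheme.Pullback.exists_preimage_pullback (f := V'.hom) (g := g) v' t hv'
  exact ⟨PUnit.unit, z, hz⟩

end H9FE.SpNear
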