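import Mathlib
import Groth.Agent.Lib.Helper9.FE.SpNear

/-! helper9: loci of constant cardinality of the geometric stalks of an abelian étale sheaf:
for constructible sheaves they are locally constructible; a criterion for being constant over an
étale object in terms of a covering family of geometric points. -/

set_option autoImplicit false
set_option linter.unusedSectionVars false
set_option linter.style.haveILetI false
set_option backward.isDefEq.respectTransparency false
universe u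
open CategoryTheory CategoryTheory.Limits AlgebraicGeometry Opposite Topology

namespace H9FE.SpCard
open H9FE.ConstSite H9FE.SpConst H9FE.SpLocal H9FE.SpFLC H9FE.CsStrata H9FE.CsAcc H9FE.CsSupp
open H9FE.CsSub
open Groth.Agent.Lib.Helper5 Groth.Agent.S0072.Aux

attribute [local instance] Groth.Agent.Lib.Helper5.EtStalk.ab5' Groth.Agent.Lib.Helper5.EtStalk.pfc

variable {W : Scheme.{u}}

/-- a sheaf is constant over an étale object `V` with value `M` as soon as sections `γ m` over `V`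
induce bijections of `M` onto the geometric stalks at a covering family of geometric points -/
theorem const_of_germ_bijective_fam (F : EtCoh.Ab W) (V : W.Etale) {M : AddCommGrpCat.{u + 1}}
    (γ : M →+ F.obj.obj (op V)) (P : W → EtStalk.GeomPt W)
    (hP : ∀ x : W, (P x).ξ (default : Spec (CommRingCat.of (P x).Ω)) = x)
    (hbij : ∀ (x : W) (y : (Scheme.pointSmallEtale (P x).ξ).fiber.obj V),
      Function.Bijective
        (fun m : M => (Scheme.pointSmallEtale (P x).ξ).toPresheafFiber V y F.obj (γ m))) :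
    Nonempty (F.over V ≅ ConstSite.cS.{u + 1, u, u + 1} (W.smallEtaleTopology.over V) M) := by
  let J := W.smallEtaleTopology
  refine nonempty_iso_of_crit.{u + 1, u, u + 1} J F V γ ?_ ?_
  · intro Z z x hx
    by_cases hZ : IsEmpty Z.left
    · exact Or.inr ((bot_mem_iff Z).2 hZ)
    · left
      rw [not_isEmpty_iff] at hZ
      obtain ⟨p⟩ := hZ
      let g := P (Z.hom p)
      obtain ⟨yZ, -⟩ :=
        Scheme.pointSmallEtaleFiberObjToPreimage_surjective g.ξ (hP (Z.hom p)) Z ⟨p, rfl⟩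
      let Φ := Scheme.pointSmallEtale g.ξ
      let y : Φ.fiber.obj V := Φ.fiber.map z yZ
      have h1 := Φ.toPresheafFiber_w_apply z yZ F.obj (γ x)
      have h2 : Φ.toPresheafFiber V y F.obj (γ x) = Φ.toPresheafFiber V y F.obj (γ 0) := by
        rw [← h1, hx, map_zero, map_zero, map_zero]
      exact (hbij (Z.hom p) y).1 h2
  · intro Z z s
    let S : Sieve Z :=
      { arrows := fun Z' k => ∃ x : M, F.obj.map k.op s = F.obj.map (k ≫ z).op (γ x)
        downward_closed := by
          rintro Z' Z'' k ⟨x, hx⟩ h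
          refine ⟨x, ?_⟩
          rw [← map_map.{u + 1, u, u + 1} J F h k s, hx, map_map, Category.assoc] }
    refine ⟨S, ?_, fun k hk => hk⟩
    apply EtStalk.detects_of_cover P (fun x => ⟨x, hP x⟩) Z S
    intro w x
    let Φ := Scheme.pointSmallEtale (P w).ξ
    change Φ.fiber.obj Z at x
    let y : Φ.fiber.obj V := Φ.fiber.map z x
    obtain ⟨m, hm⟩ := (hbij w y).2 (Φ.toPresheafFiber Z x F.obj s)
    have h1 := Φ.toPresheafFiber_w_apply z x F.obj (γ m)
    have h2 : Φ.toPresheafFiber Z x F.obj (F.obj.map z.op (γ m)) =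
        Φ.toPresheafFiber Z x F.obj s := h1.trans hm
    rw [Φ.toPresheafFiber_eq_iff'] at h2
    obtain ⟨Y, f, y', hy', hf⟩ := h2
    refine ⟨Y, f, y', ⟨m, ?_⟩, hy'⟩
    rw [← hf, map_map.{u + 1, u, u + 1} J F f z (γ m)]

theorem card_stalk_pull {X Y : Scheme.{u}} (f : X ⟶ Y) (C : EtCoh.Ab Y)
    {Ω : Type u} [Field Ω] [IsSepClosed Ω] (ξ : Spec (CommRingCat.of Ω) ⟶ X) :
    Nat.card ((EtCoh.stalk ξ).obj ((EtCoh.pull f).obj C)) =
      Nat.card ((EtCoh.stalk (ξ ≫ f)).obj C) := by
  let e := (EtStalkPull.stalkPullIso f ξ).app C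
  exact Nat.card_eq_of_bijective _ (ConcreteCategory.bijective_of_isIso e.hom)

/-- the set of points over which some geometric stalk has `n` elements -/
def cardLocus {T : Scheme.{u}} (D : EtCoh.Ab T) (n : ℕ) : Set T :=
  {t : T | ∃ (Ω : Type u) (_ : Field Ω) (_ : IsSepClosed Ω) (ξ : Spec (CommRingCat.of Ω) ⟶ T),
    Set.range ξ = {t} ∧ Nat.card ((EtCoh.stalk ξ).obj D) = n}

theorem flc_card_clopen {T : Scheme.{u}} (D : EtCoh.Ab T)
    (hD : EtCoh.IsFiniteLocallyConstant D) (n : ℕ) : IsClopen (cardLocus D n) := by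
  obtain ⟨κ, U, hU, hα⟩ := hD
  choose M₀ iM fM hα' using hα
  have key : ∀ (Ω : Type u) [Field Ω] [IsSepClosed Ω] (ξ : Spec (CommRingCat.of Ω) ⟶ T) (j : κ)
      (y : (U j).left), (U j).hom y = ξ default →
      Nat.card ((EtCoh.stalk ξ).obj D) = Nat.card (M₀ j) := by
    intro Ω _ _ ξ j y hy
    haveI : Etale (U j).hom := (U j).prop
    obtain ⟨l, hl, -⟩ := Scheme.exists_fac_of_etale_of_isSepClosed (U j).hom ξ y hy
    let y₀ : (Scheme.pointSmallEtale ξ).fiber.obj (U j) := Over.homMk l hl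
    obtain ⟨α⟩ := hα' j
    have hb := stalk_gen_bijective (U j) α ξ y₀
    have h1 : Nat.card (ULift.{u + 1} (M₀ j)) = Nat.card ((EtCoh.stalk ξ).obj D) :=
      Nat.card_eq_of_bijective _ hb
    exact h1.symm.trans (Nat.card_congr Equiv.ulift)
  have hopen : ∀ (P : κ → Prop),
      IsOpen {t : T | ∃ (j : κ) (y : (U j).left), (U j).hom y = t ∧ P j} := by
    intro P
    have : {t : T | ∃ (j : κ) (y : (U j).left), (U j).hom y = t ∧ P j} =
        ⋃ (j : {j // P j}), Set.range (U j.1).hom := by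
      ext t
      simp only [Set.mem_setOf_eq, Set.mem_iUnion, Set.mem_range]
      constructor
      · rintro ⟨j, y, hy, hP⟩
        exact ⟨⟨j, hP⟩, y, hy⟩
      · rintro ⟨⟨j, hP⟩, y, hy⟩
        exact ⟨j, y, hy, hP⟩
    rw [this]
    exact isOpen_iUnion (fun j => by
      haveI : Etale (U j.1).hom := (U j.1).prop
      exact (U j.1).hom.isOpenMap.isOpen_range)
  have hA : cardLocus D n =
      {t : T | ∃ (j : κ) (y : (U j).left), (U j).hom y = t ∧ Nat.card (M₀ j) = n} := by
    ext t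
    constructor
    · rintro ⟨Ω, _, _, ξ, hξ, hc⟩
      obtain ⟨j, y, hy⟩ := hU t
      exact ⟨j, y, hy,
        (key Ω ξ j y (hy.trans (default_eq_of_range ξ hξ).symm)).symm.trans hc⟩
    · rintro ⟨j, y, hy, hc⟩
      let g := EtStalk.geomPtAt t
      have hg : g.ξ default = t := EtStalk.geomPtAt_default t
      have h1 : Set.range g.ξ = {t} := by rw [range_eq_singleton, hg]
      exact ⟨g.Ω, inferInstance, inferInstance, g.ξ, h1,
        (key g.Ω g.ξ j y (hy.trans hg.symm)).trans hc⟩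
  have hB : (cardLocus D n)ᶜ =
      {t : T | ∃ (j : κ) (y : (U j).left), (U j).hom y = t ∧ Nat.card (M₀ j) ≠ n} := by
    rw [hA]
    ext t
    simp only [Set.mem_compl_iff, Set.mem_setOf_eq]
    constructor
    · intro ht
      obtain ⟨j, y, hy⟩ := hU t
      exact ⟨j, y, hy, fun hs => ht ⟨j, y, hy, hs⟩⟩
    · rintro ⟨j, y, hy, hns⟩ ⟨j', y', hy', hs'⟩
      let g := EtStalk.geomPtAt t
      have hg : g.ξ default = t := EtStalk.geomPtAt_default t
      have h1 := key g.Ω g.ξ j' y' (hy'.trans hg.symm)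
      have h2 := key g.Ω g.ξ j y (hy.trans hg.symm)
      exact hns ((h2.symm.trans h1).trans hs')
  refine ⟨?_, ?_⟩
  · rw [← isOpen_compl_iff, hB]
    exact hopen _
  · rw [hA]
    exact hopen _

theorem cardLocus_pull {X T : Scheme.{u}} (h : T ⟶ X) [IsImmersion h] (C : EtCoh.Ab X) (n : ℕ) :
    cardLocus ((EtCoh.pull h).obj C) n = h ⁻¹' cardLocus C n := by
  ext t
  constructor
  · rintro ⟨Ω, _, _, ξ, hξ, hc⟩
    refine ⟨Ω, inferInstance, inferInstance, ξ ≫ h, ?_, (card_stalk_pull h C ξ).symm.trans hc⟩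
    rw [range_eq_singleton, Scheme.Hom.comp_apply, default_eq_of_range ξ hξ]
  · rintro ⟨Ω, _, _, ξ, hξ, hc⟩
    have hd := default_eq_of_range ξ hξ
    obtain ⟨ξ', rfl⟩ := lift_immersion h ξ ⟨t, hd.symm⟩
    have ht' : ξ' default = t := by
      apply h.isEmbedding.injective
      rw [← hd, Scheme.Hom.comp_apply]
    refine ⟨Ω, inferInstance, inferInstance, ξ', ?_, (card_stalk_pull h C ξ').trans hc⟩
    rw [range_eq_singleton, ht']

theorem card_locus_constructible {X : Scheme.{u}} [CompactSpace X] [QuasiSeparatedSpace X]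
    (C : EtCoh.Ab X) (hC : EtPBC.IsConstructible C) (n : ℕ) :
    IsConstructible (cardLocus C n) := by
  obtain ⟨ι, hι, T, h, h1, h2, h3, h4, h5⟩ := strat_univ_of_constructible C hC
  haveI := hι
  haveI : ∀ i, IsImmersion (h i) := h1
  let L : ∀ i, Set (T i) := fun i => cardLocus ((EtCoh.pull (h i)).obj C) n
  have hL : ∀ i, IsClopen (L i) := fun i => flc_card_clopen _ (h5 i) n
  have hr : ∀ i, IsConstructible (Set.range (h i)) := by
    intro i
    have := (h2 i).image_of_isOpenEmbedding isOpen_univ.isOpenEmbedding_subtypeVal (by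
      rw [Subtype.range_coe]
      exact IsRetrocompact.univ)
    rwa [Subtype.image_preimage_coe, Set.univ_inter] at this
  have hcomp : ∀ i, CompactSpace (T i) := by
    intro i
    have hc : IsCompact (Set.range (h i)) := CsStrata.isCompact_of_isConstructible (hr i)
    rw [← Set.image_univ, ← (h i).isEmbedding.isCompact_iff] at hc
    exact ⟨hc⟩
  have hqs : ∀ i, QuasiSeparatedSpace (T i) := fun i =>
    quasiSeparatedSpace_of_quasiSeparated (h i)
  have hLc : ∀ i, IsConstructible (L i) := by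
    intro i
    haveI := hcomp i
    haveI := hqs i
    exact IsCompact.isConstructible (hL i).isClosed.isCompact (hL i).isOpen
  have hset : cardLocus C n = ⋃ i, h i '' L i := by
    ext x
    simp only [Set.mem_iUnion, Set.mem_image]
    constructor
    · intro hx
      have hxm : x ∈ ⋃ i, Set.range (h i) := by
        rw [h4]
        trivial
      obtain ⟨i, t, rfl⟩ := Set.mem_iUnion.1 hxm
      refine ⟨i, t, ?_, rfl⟩
      show t ∈ cardLocus ((EtCoh.pull (h i)).obj C) n
      rw [cardLocus_pull]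
      exact hx
    · rintro ⟨i, t, ht, rfl⟩
      have ht' : t ∈ cardLocus ((EtCoh.pull (h i)).obj C) n := ht
      rw [cardLocus_pull] at ht'
      exact ht'
  rw [hset]
  exact IsConstructible.iUnion (fun i => by
    haveI := hcomp i
    haveI := hqs i
    exact isConstructible_image_immersion (h i) (hr i) (hLc i))

/-- for a constructible sheaf the loci of constant stalk cardinality are locally constructible -/
theorem cardLocus_locallyConstructible {X : Scheme.{u}} (F : EtCoh.Ab X)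
    (hF : EtPBC.IsConstructible F) (n : ℕ) : IsLocallyConstructible (cardLocus F n) := by
  intro x
  obtain ⟨Wo, hWa, hxW, -⟩ := exists_affine_nhd (⊤ : X.Opens) x trivial
  refine ⟨(Wo : Set X), Wo.isOpen.mem_nhds hxW, Wo.isOpen, ?_⟩
  haveI : IsAffine Wo.toScheme := hWa
  have h := card_locus_constructible ((EtCoh.pull Wo.ι).obj F)
    (pullback_constructible Wo.ι F hF) n
  rw [cardLocus_pull] at h
  exact h

/-- a locally constructible set containing `x` contains a neighbourhood of `x` in `closure {x}` -/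
theorem exists_open_inter_closure_subset {X : Scheme.{u}} [IsLocallyNoetherian X] {S : Set X}
    (hS : IsLocallyConstructible S) (x : X) (hx : x ∈ S) :
    ∃ OX : X.Opens, x ∈ OX ∧ (OX : Set X) ∩ closure {x} ⊆ S := by
  obtain ⟨Wo, hWa, hxW, -⟩ := exists_affine_nhd (⊤ : X.Opens) x trivial
  haveI : IsAffine Wo.toScheme := hWa
  haveI : IsNoetherian Wo.toScheme := {}
  have hE₀ : IsConstructible (Wo.ι ⁻¹' S) :=
    (hS.preimage_of_isOpenEmbedding Wo.ι.isOpenEmbedding).isConstructible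
  let xW : Wo.toScheme := ⟨x, hxW⟩
  let E : Set Wo.toScheme := (Wo.ι ⁻¹' S) ∪ (closure {xW})ᶜ
  have hEc : IsConstructible E :=
    hE₀.union (isConstructible_of_isLocallyClosed isClosed_closure.isOpen_compl.isLocallyClosed)
  have hgen : ∀ q : Wo.toScheme, q ⤳ xW → q ∈ E := by
    intro q hq
    by_cases hqc : q ∈ closure {xW}
    · left
      have h2 : xW ⤳ q := specializes_iff_mem_closure.2 hqc
      have h3 : q = xW := (hq.antisymm h2).eq
      rw [h3]
      exact hx
    · right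
      exact hqc
  have hnhds := SpNbhd.mem_nhds_of_generizations hEc xW hgen
  obtain ⟨O, hOE, hO, hxO⟩ := mem_nhds_iff.1 hnhds
  refine ⟨⟨Wo.ι '' O, Wo.ι.isOpenEmbedding.isOpenMap _ hO⟩, ⟨xW, hxO, rfl⟩, ?_⟩
  rintro _ ⟨⟨w, hwO, rfl⟩, hwc⟩
  have hw : w ∈ closure {xW} := by
    rw [Wo.ι.isOpenEmbedding.isInducing.closure_eq_preimage_closure_image, Set.image_singleton]
    exact hwc
  exact (hOE hwO).resolve_right (fun h => h hw)

/-- near a point without proper generizations, a sheaf whose stalk cardinality is constant is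
finite locally constant -/
theorem flc_near_minimal {Y : Scheme.{u}} [IsLocallyNoetherian Y] (G : EtCoh.Ab Y) (η : Y)
    (hmin : ∀ q : Y, q ⤳ η → q = η)
    (hfin : Finite ((EtCoh.stalk (EtStalk.geomPtAt η).ξ).obj G))
    (O : Y.Opens) (hηO : η ∈ O)
    (hcard : ∀ z ∈ O, ∃ g : EtStalk.GeomPt Y, g.ξ (default : Spec (CommRingCat.of g.Ω)) = z ∧
      Nat.card ((EtCoh.stalk g.ξ).obj G) =
        Nat.card ((EtCoh.stalk (EtStalk.geomPtAt η).ξ).obj G)) :
    ∃ VZ : Y.Opens, η ∈ VZ ∧ EtCoh.IsFiniteLocallyConstant ((EtCoh.pull VZ.ι).obj G) := by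
  let g₀ := EtStalk.geomPtAt η
  let ξη : Spec (CommRingCat.of g₀.Ω) ⟶ Y := g₀.ξ
  have hξη : ξη default = η := EtStalk.geomPtAt_default η
  haveI : Finite ((EtCoh.stalk ξη).obj G) := hfin
  obtain ⟨V, hVaff, v, γ, hγ⟩ := exists_local_sections G ξη
  haveI := hVaff
  haveI : Etale V.hom := V.prop
  haveI : IsLocallyNoetherian V.left := LocallyOfFiniteType.isLocallyNoetherian (Y := Y) V.hom
  haveI : IsNoetherian V.left := {}
  let y : V.left := v.left (default : Spec (CommRingCat.of g₀.Ω))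
  have hVy : V.hom y = η :=
    (congrArg (fun f : Spec (CommRingCat.of g₀.Ω) ⟶ Y => f default) (Over.w v)).trans hξη
  have hymin : ∀ q : V.left, q ⤳ y → q = y := by
    intro q hq
    have h1 : V.hom q ⤳ V.hom y := hq.map V.hom.continuous
    rw [hVy] at h1
    have h3 : V.hom q = V.hom y := (hmin _ h1).trans hVy.symm
    exact SpNbhd.eq_of_specializes_of_fibre V.hom hq h3
  have hcl : closure {y} ∈ 𝓝 y :=
    SpNbhd.mem_nhds_of_generizations
      (isConstructible_of_isLocallyClosed isClosed_closure.isLocallyClosed) y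
      (fun q hq => by
        rw [hymin q hq]
        exact subset_closure rfl)
  obtain ⟨O₁, hO₁, hO₁open, hyO₁⟩ := mem_nhds_iff.1 hcl
  let O₂ : Set V.left := O₁ ∩ V.hom ⁻¹' (O : Set Y)
  have hO₂ : IsOpen O₂ := hO₁open.inter (O.isOpen.preimage V.hom.continuous)
  have hyO₂ : y ∈ O₂ := ⟨hyO₁, by
    show V.hom y ∈ O
    rw [hVy]
    exact hηO⟩
  let Vo : V.left.Opens := ⟨O₂, hO₂⟩
  let V' : Y.Etale := Scheme.Etale.mk (Vo.ι ≫ V.hom)
  let j : V' ⟶ V := MorphismProperty.Over.homMk Vo.ι rfl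
  let γ' : ((EtCoh.stalk ξη).obj G) →+ G.obj.obj (op V') := (G.obj.map j.op).hom.comp γ
  have hid : (fun m => (Scheme.pointSmallEtale ξη).toPresheafFiber V v G.obj (γ m)) = id :=
    funext hγ
  have hinj : ∀ (Ω₁ : Type u) [Field Ω₁] [IsSepClosed Ω₁] (ζ₁ : Spec (CommRingCat.of Ω₁) ⟶ Y)
      (y' : (Scheme.pointSmallEtale ζ₁).fiber.obj V'),
      Function.Injective
        (fun m => (Scheme.pointSmallEtale ζ₁).toPresheafFiber V' y' G.obj (γ' m)) := by
    intro Ω₁ _ _ ζ₁ y'
    let y₁ : (Scheme.pointSmallEtale ζ₁).fiber.obj V :=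
      (Scheme.pointSmallEtale ζ₁).fiber.map j y'
    have hy₁ : y₁.left (default : Spec (CommRingCat.of Ω₁)) ∈ O₂ :=
      (y'.left (default : Spec (CommRingCat.of Ω₁))).2
    have hs : y ⤳ y₁.left (default : Spec (CommRingCat.of Ω₁)) :=
      specializes_iff_mem_closure.2 (hO₁ hy₁.1)
    obtain ⟨φ, hφ⟩ := exists_arrow_of_specializes V y₁ v hs
    have h3 := germ_comp_arrow G V γ y₁ v φ hφ
    rw [hid] at h3
    have hfun : (fun m => (Scheme.pointSmallEtale ζ₁).toPresheafFiber V' y' G.obj (γ' m)) =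
        (fun m => (Scheme.pointSmallEtale ζ₁).toPresheafFiber V y₁ G.obj (γ m)) := by
      funext m
      exact (Scheme.pointSmallEtale ζ₁).toPresheafFiber_w_apply j y' G.obj (γ m)
    rw [hfun]
    intro m m' hmm
    have e1 := congrFun h3 m
    have e2 := congrFun h3 m'
    simp only [Function.comp_apply, id_eq] at e1 e2
    rw [e1, e2]
    exact congrArg _ hmm
  have hfam : ∀ z : Y, ∃ g : EtStalk.GeomPt Y,
      g.ξ (default : Spec (CommRingCat.of g.Ω)) = z ∧
      (z ∈ O → Nat.card ((EtCoh.stalk g.ξ).obj G) = Nat.card ((EtCoh.stalk ξη).obj G)) := by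
    intro z
    by_cases h : z ∈ O
    · obtain ⟨g, hg, hc⟩ := hcard z h
      exact ⟨g, hg, fun _ => hc⟩
    · exact ⟨EtStalk.geomPtAt z, EtStalk.geomPtAt_default z, fun h' => (h h').elim⟩
  choose P hP hPc using hfam
  have hbij : ∀ (z : Y) (y' : (Scheme.pointSmallEtale (P z).ξ).fiber.obj V'),
      Function.Bijective
        (fun m => (Scheme.pointSmallEtale (P z).ξ).toPresheafFiber V' y' G.obj (γ' m)) := by
    intro z y'
    have hz : z ∈ O := by
      have h1 : V'.hom (y'.left (default : Spec (CommRingCat.of (P z).Ω))) =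
          (P z).ξ default :=
        congrArg (fun f : Spec (CommRingCat.of (P z).Ω) ⟶ Y => f default) (Over.w y')
      rw [← hP z, ← h1]
      exact (y'.left (default : Spec (CommRingCat.of (P z).Ω))).2.2
    have hc := hPc z hz
    have hfinz : Finite ((EtCoh.stalk (P z).ξ).obj G) := Nat.finite_of_card_ne_zero (by
      rw [hc]
      exact Nat.card_pos.ne')
    haveI : Finite ↑((Scheme.pointSmallEtale (P z).ξ).presheafFiber.obj G.obj) := hfinz
    have hc' : Nat.card ↑((Scheme.pointSmallEtale (P z).ξ).presheafFiber.obj G.obj) ≤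
        Nat.card ((EtCoh.stalk ξη).obj G) := le_of_eq hc
    exact (hinj _ _ y').bijective_of_nat_card_le hc'
  obtain ⟨θ⟩ := const_of_germ_bijective_fam G V' γ' P hP hbij
  haveI : Etale V'.hom := V'.prop
  let VZ : Y.Opens := ⟨Set.range V'.hom, V'.hom.isOpenMap.isOpen_range⟩
  have hηVZ : η ∈ VZ := ⟨⟨y, hyO₂⟩, hVy⟩
  refine ⟨VZ, hηVZ, ?_⟩
  obtain ⟨θ'⟩ := CsPull.over_pull_const VZ.ι G V' ((EtCoh.stalk ξη).obj G) θ
  refine Groth.Agent.S6645.Aux.flc_of_finConst _ (fun _ : PUnit.{u + 1} => (EtCoh.bc VZ.ι).obj V')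
    ?_ (fun _ => ⟨(EtCoh.stalk ξη).obj G, inferInstance, ⟨θ'⟩⟩)
  intro t
  have ht : VZ.ι t ∈ (VZ : Set Y) := by
    have h1 : VZ.ι t ∈ Set.range VZ.ι := ⟨t, rfl⟩
    rw [Scheme.Opens.range_ι] at h1
    exact h1
  obtain ⟨v', hv'⟩ := ht
  obtain ⟨z, -, hz⟩ :=
    Scheme.Pullback.exists_preimage_pullback (f := V'.hom) (g := VZ.ι) v' t hv'
  exact ⟨PUnit.unit, z, hz⟩

/-- on a locally noetherian scheme, a sheaf with finite stalks whose loci of constant stalk
cardinality are locally constructible is constructible -/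
theorem constructible_of_card_loci (X : Scheme.{u}) [IsLocallyNoetherian X] (F : EtCoh.Ab X)
    (hfin : ∀ (Ω : Type u) [Field Ω] [IsSepClosed Ω] (ξ : Spec (CommRingCat.of Ω) ⟶ X),
      Finite ((EtCoh.stalk ξ).obj F))
    (hloc : ∀ n : ℕ, IsLocallyConstructible (cardLocus F n)) : EtPBC.IsConstructible F := by
  apply CsClos.constructible_of_locFLC F
  intro x
  obtain ⟨Zc, c, hc, hcr⟩ := exists_closedImmersion_of_isClosed X (closure {x}) isClosed_closure
  haveI := hc
  haveI : IsLocallyNoetherian Zc := LocallyOfFiniteType.isLocallyNoetherian (Y := X) c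
  obtain ⟨η, hη⟩ : ∃ η : Zc, c η = x := by
    have h1 : x ∈ Set.range c := by
      rw [hcr]
      exact subset_closure rfl
    exact h1
  have hmin : ∀ q : Zc, q ⤳ η → q = η := by
    intro q hq
    have h1 : c q ⤳ x := hη ▸ hq.map c.continuous
    have h2 : x ⤳ c q := specializes_iff_mem_closure.2 (by
      rw [← hcr]
      exact ⟨q, rfl⟩)
    exact c.isEmbedding.injective ((h1.antisymm h2).eq.trans hη.symm)
  let G : EtCoh.Ab Zc := (EtCoh.pull c).obj F
  let g₀ := EtStalk.geomPtAt η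
  have hg₀ : g₀.ξ default = η := EtStalk.geomPtAt_default η
  let n := Nat.card ((EtCoh.stalk g₀.ξ).obj G)
  have hfinG : Finite ((EtCoh.stalk g₀.ξ).obj G) := by
    haveI := hfin g₀.Ω (g₀.ξ ≫ c)
    let e := (EtStalkPull.stalkPullIso c g₀.ξ).app F
    exact Finite.of_surjective _ (ConcreteCategory.bijective_of_isIso e.inv).2
  have hxn : x ∈ cardLocus F n := by
    refine ⟨g₀.Ω, inferInstance, inferInstance, g₀.ξ ≫ c, ?_, (card_stalk_pull c F g₀.ξ).symm⟩
    rw [range_eq_singleton, Scheme.Hom.comp_apply, hg₀, hη]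
  obtain ⟨OX, hxOX, hOX⟩ := exists_open_inter_closure_subset (hloc n) x hxn
  let O : Zc.Opens := c ⁻¹ᵁ OX
  have hηO : η ∈ O := by
    show c η ∈ OX
    rw [hη]
    exact hxOX
  have hcard : ∀ z ∈ O, ∃ g : EtStalk.GeomPt Zc,
      g.ξ (default : Spec (CommRingCat.of g.Ω)) = z ∧
      Nat.card ((EtCoh.stalk g.ξ).obj G) = Nat.card ((EtCoh.stalk g₀.ξ).obj G) := by
    intro z hz
    have hcz : c z ∈ cardLocus F n := hOX ⟨hz, by
      rw [← hcr]
      exact ⟨z, rfl⟩⟩
    obtain ⟨Ω, _, _, ξ, hξ, hcn⟩ := hcz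
    have hd := default_eq_of_range ξ hξ
    obtain ⟨ζ, rfl⟩ := lift_immersion c ξ ⟨z, hd.symm⟩
    refine ⟨{ Ω := Ω, ξ := ζ }, ?_, ?_⟩
    · apply c.isEmbedding.injective
      rw [← hd]
      rfl
    · exact (card_stalk_pull c F ζ).trans hcn
  obtain ⟨VZ, hηVZ, hflc⟩ := flc_near_minimal G η hmin hfinG O hηO hcard
  obtain ⟨VX₀, hVX₀open, hVX₀⟩ := c.isEmbedding.isInducing.isOpen_iff.1 VZ.isOpen
  let VX : X.Opens := ⟨VX₀, hVX₀open⟩
  let g : VZ.toScheme ⟶ X := VZ.ι ≫ c
  refine ⟨VX, VZ.toScheme, g, inferInstance, ?_, ?_, ?_⟩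
  · show x ∈ VX₀
    have h1 : η ∈ c ⁻¹' VX₀ := by
      rw [hVX₀]
      exact hηVZ
    rw [← hη]
    exact h1
  · show Set.range g = VX₀ ∩ closure {x}
    rw [range_comp, Scheme.Opens.range_ι, ← hVX₀, Set.image_preimage_eq_inter_range, hcr]
  · exact (flcP_pull_iff c F VZ.ι).1 hflc

end H9FE.SpCard
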