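import Mathlib
import Groth.Agent.Lib.Helper9.FE.SiteTorsColim

/-! helper9: for a continuous functor `Φ : D ⥤ C` of sites, with `C` carrying a class `B` of
quasi-compact quasi-separated objects such that every object of `D` is covered by objects `W` with
`Φ W ∈ B`, the higher direct images `R^q Φ_* F` of an abelian sheaf `F` on `C` whose sections are
locally killed by members of a multiplicative set `M` are again locally killed by `M`. -/

set_option autoImplicit false
set_option linter.unusedSectionVars false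
set_option linter.style.haveILetI false
universe w' w v v₂ u u₂
open CategoryTheory Limits Opposite Abelian

namespace H9FE.SiteTorsRpush

open H9FE.SiteSectColim H9FE.CechCartanG H9FE.SiteCechColim H9FE.ExtFilteredColim
  H9FE.SiteHUColim H9FE.SiteTorsColim

section ExtMk

variable {𝒜 : Type u} [Category.{v} 𝒜] [Abelian 𝒜] [HasExt.{w'} 𝒜] {Z Y : 𝒜}
  (I : InjectiveResolution Y)

lemma nsmul_extMk {n : ℕ} (f : Z ⟶ I.cocomplex.X n) (k : ℕ) (hk : n + 1 = k)
    (hf : f ≫ I.cocomplex.d n k = 0) (m : ℕ) :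
    m • I.extMk f k hk hf = I.extMk (m • f) k hk (by
      rw [Preadditive.nsmul_comp, hf, smul_zero]) := by
  induction m with
  | zero =>
    simp only [zero_smul]
    exact (I.extMk_zero k hk).symm
  | succ m ih =>
    simp only [succ_nsmul]
    rw [ih, InjectiveResolution.add_extMk]

end ExtMk

section Transport

variable {D : Type u₂} [Category.{v₂} D] {Jd : GrothendieckTopology D}

/-- the sieve of maps along which a section is killed by a member of `M` -/
def killSieve (M : Submonoid ℕ) (G : Sheaf Jd AddCommGrpCat.{w}) {V : D} (s : G.obj.obj (op V)) :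
    Sieve V where
  arrows := fun W g => ∃ m ∈ M, m • (G.obj.map g.op).hom s = 0
  downward_closed := by
    rintro W W' g ⟨m, hm, hms⟩ k
    refine ⟨m, hm, ?_⟩
    have e : (G.obj.map (k ≫ g).op).hom s = (G.obj.map k.op).hom ((G.obj.map g.op).hom s) := by
      rw [op_comp, Functor.map_comp]
      rfl
    rw [e, ← map_nsmul, hms, map_zero]

lemma locKilled_iff (M : Submonoid ℕ) (G : Sheaf Jd AddCommGrpCat.{w}) :
    LocKilled M G ↔ ∀ (V : D) (s : G.obj.obj (op V)), killSieve M G s ∈ Jd V := by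
  constructor
  · intro h V s
    obtain ⟨T, hT, hTs⟩ := h V s
    exact Jd.superset_covering (fun W g hg => hTs W g hg) hT
  · intro h V s
    exact ⟨killSieve M G s, h V s, fun W g hg => hg⟩

/-- local killedness passes to a sheaf mapping injectively -/
lemma locKilled_of_injective (M : Submonoid ℕ) {G G' : Sheaf Jd AddCommGrpCat.{w}} (φ : G ⟶ G')
    (hφ : ∀ V : D, Function.Injective (φ.hom.app (op V)).hom) (h : LocKilled M G') :
    LocKilled M G := by
  intro V s
  obtain ⟨T, hT, hTs⟩ := h V ((φ.hom.app (op V)).hom s)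
  refine ⟨T, hT, fun W g hg => ?_⟩
  obtain ⟨m, hm, hms⟩ := hTs W g hg
  refine ⟨m, hm, hφ W ?_⟩
  rw [map_zero, map_nsmul]
  have n1 := ConcreteCategory.congr_hom (φ.hom.naturality g.op) s
  exact (congrArg (fun t => m • t) n1).trans hms

lemma locKilled_of_iso (M : Submonoid ℕ) {G G' : Sheaf Jd AddCommGrpCat.{w}} (e : G ≅ G')
    (h : LocKilled M G') : LocKilled M G := by
  apply locKilled_of_injective M e.hom _ h
  intro V
  have h1 : e.hom.hom.app (op V) ≫ e.inv.hom.app (op V) = 𝟙 _ := by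
    have := congrArg (fun φ => φ.hom.app (op V)) e.hom_inv_id
    exact this
  intro x y hxy
  have := congrArg (e.inv.hom.app (op V)).hom hxy
  have hx := ConcreteCategory.congr_hom h1 x
  have hy := ConcreteCategory.congr_hom h1 y
  exact hx.symm.trans (this.trans hy)

end Transport

section Main

variable {C : Type u} [Category.{v} C] {Jc : GrothendieckTopology C}
  {D : Type u₂} [Category.{v₂} D] {Jd : GrothendieckTopology D}
  [HasPullbacks C] [LocallySmall.{w} C]
  [∀ U : C, HasFiniteProducts (Over U)]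
  [HasSheafify Jc AddCommGrpCat.{w}] [Jc.WEqualsLocallyBijective AddCommGrpCat.{w}]
  [Jc.HasSheafCompose (forget AddCommGrpCat.{w})]
  [HasExt.{w'} (Sheaf Jc AddCommGrpCat.{w})] [EnoughInjectives (Sheaf Jc AddCommGrpCat.{w})]
  [HasSheafify Jd AddCommGrpCat.{w}] [Jd.WEqualsLocallyBijective AddCommGrpCat.{w}]
  [Jd.HasSheafCompose (forget AddCommGrpCat.{w})]
  {B : Set C} (hB : QcClass Jc B) (hiso : ∀ {V W : C}, (V ≅ W) → V ∈ B → W ∈ B)
  (M : Submonoid ℕ)
  [HasProducts.{w} (Sheaf Jc AddCommGrpCat.{w})]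
  [HasColimitsOfShape (Idx.{w} M) (Sheaf Jc AddCommGrpCat.{w})]
  [HasExactColimitsOfShape (Idx.{w} M) (Sheaf Jc AddCommGrpCat.{w})]
  (Zr : C → Sheaf Jc AddCommGrpCat.{w}) (Rr : ∀ U : C, Repr (Zr U) U)
  (Φ : D ⥤ C) [Φ.IsContinuous Jd Jc]

include hB hiso Rr in
/-- sections over a member of `B` of a sheaf locally killed by `M` are killed by members of `M` -/
lemma sections_killed (F : Sheaf Jc AddCommGrpCat.{w}) (hF : LocKilled M F) {U : C} (hU : U ∈ B)
    (t : F.obj.obj (op U)) : ∃ m ∈ M, m • t = 0 := by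
  let R := Rr U
  obtain ⟨m, hm, h⟩ := ext_killed.{w'} hB hiso M R hU F hF 0 (Ext.mk₀ ((R.e F).symm t))
  refine ⟨m, hm, ?_⟩
  have h1 : m • Ext.mk₀ ((R.e F).symm t) = (Ext.mk₀ (m • (R.e F).symm t) : Ext.{w'} _ _ 0) :=
    (map_nsmul (Ext.addEquiv₀ (X := Zr U) (Y := F)).symm m ((R.e F).symm t)).symm
  rw [h1, Ext.mk₀_eq_zero_iff] at h
  have h2 := R.e_nsmul F m ((R.e F).symm t)
  rw [h, R.e_zero, Equiv.apply_symm_apply] at h2
  exact h2.symm

/-- the direct image functor -/
noncomputable abbrev P : Sheaf Jc AddCommGrpCat.{w} ⥤ Sheaf Jd AddCommGrpCat.{w} :=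
  Φ.sheafPushforwardContinuous AddCommGrpCat.{w} Jd Jc

instance : (P.{w} (Jc := Jc) (Jd := Jd) Φ).Additive where

include hB hiso Rr in
lemma locKilled_push (hΦ : ∀ (V : D) (T : Sieve V), T ∈ Jd V →
      Sieve.generate (fun W g => T g ∧ Φ.obj W ∈ B) ∈ Jd V)
    (F : Sheaf Jc AddCommGrpCat.{w}) (hF : LocKilled M F) :
    LocKilled M ((P.{w} (Jc := Jc) (Jd := Jd) Φ).obj F) := by
  rw [locKilled_iff]
  intro V s
  refine Jd.superset_covering ?_ (hΦ V ⊤ (Jd.top_mem V))
  rintro W g ⟨W', k, g', ⟨-, hW'⟩, rfl⟩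
  apply Sieve.downward_closed
  obtain ⟨m, hm, h⟩ := sections_killed hB hiso M Zr Rr F hF hW'
    ((((P.{w} (Jc := Jc) (Jd := Jd) Φ).obj F).obj.map g'.op).hom s)
  exact ⟨m, hm, h⟩

include hB hiso Rr in
/-- higher direct images of a sheaf locally killed by `M` are locally killed by `M` -/
theorem locKilled_rightDerived [PreservesFiniteLimits (P.{w} (Jc := Jc) (Jd := Jd) Φ)]
    (hΦ : ∀ (V : D) (T : Sieve V), T ∈ Jd V →
      Sieve.generate (fun W g => T g ∧ Φ.obj W ∈ B) ∈ Jd V)
    (F : Sheaf Jc AddCommGrpCat.{w}) (hF : LocKilled M F) (q : ℕ) :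
    LocKilled M (((P.{w} (Jc := Jc) (Jd := Jd) Φ).rightDerived q).obj F) := by
  obtain _ | p := q
  · exact locKilled_of_iso M ((P.{w} (Jc := Jc) (Jd := Jd) Φ).rightDerivedZeroIsoSelf.app F)
      (locKilled_push hB hiso M Zr Rr Φ hΦ F hF)
  let Pf := P.{w} (Jc := Jc) (Jd := Jd) Φ
  let I : InjectiveResolution F := injectiveResolution F
  let K := (Pf.mapHomologicalComplex (ComplexShape.up ℕ)).obj I.cocomplex
  refine locKilled_of_iso M (I.isoRightDerivedObj Pf (p + 1)) ?_
  change LocKilled M (K.homology (p + 1))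
  rw [locKilled_iff]
  intro V s
  haveI : Sheaf.IsLocallySurjective (K.homologyπ (p + 1)) :=
    (Sheaf.isLocallySurjective_iff_epi' (φ := K.homologyπ (p + 1))).2 inferInstance
  have hcov := hΦ V _ (Presheaf.imageSieve_mem Jd (K.homologyπ (p + 1)).hom s)
  refine Jd.superset_covering ?_ hcov
  rintro W g ⟨W', k, g', ⟨⟨c, hc⟩, hW'⟩, rfl⟩
  apply Sieve.downward_closed
  -- the cocycle
  let R := Rr (Φ.obj W')
  let z : (I.cocomplex.X (p + 1)).obj.obj (op (Φ.obj W')) :=
    ((K.iCycles (p + 1)).hom.app (op W')).hom c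
  have hz : ((I.cocomplex.d (p + 1) (p + 2)).hom.app (op (Φ.obj W'))).hom z = 0 := by
    have h1 : K.iCycles (p + 1) ≫ K.d (p + 1) (p + 2) = 0 := K.iCycles_d (p + 1) (p + 2)
    have h2 := congrArg (fun φ => (φ.hom.app (op W')).hom c) h1
    exact h2
  let ζ : Zr (Φ.obj W') ⟶ I.cocomplex.X (p + 1) := (R.e _).symm z
  have hζ : ζ ≫ I.cocomplex.d (p + 1) (p + 2) = 0 := by
    apply (R.e _).injective
    rw [R.nat, Equiv.apply_symm_apply, R.e_zero]
    exact hz
  obtain ⟨m, hm, h⟩ := ext_killed.{w'} hB hiso M R hW' F hF (p + 1) (I.extMk ζ (p + 2) rfl hζ)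
  rw [nsmul_extMk, InjectiveResolution.extMk_eq_zero_iff _ _ _ _ _ p rfl] at h
  obtain ⟨γ, hγ⟩ := h
  let wsec : (K.X p).obj.obj (op W') := R.e _ γ
  have hw : ((K.d p (p + 1)).hom.app (op W')).hom wsec = m • z := by
    have h1 := R.nat (I.cocomplex.d p (p + 1)) γ
    rw [hγ, R.e_nsmul, Equiv.apply_symm_apply] at h1
    exact h1.symm
  -- hence `m • c` is a boundary
  have hinj : Function.Injective ((K.iCycles (p + 1)).hom.app (op W')).hom := by
    have h : Mono ((Γ Jd W').map (K.iCycles (p + 1))) := inferInstance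
    exact (AddCommGrpCat.mono_iff_injective _).1 h
  have hc' : ((K.toCycles p (p + 1)).hom.app (op W')).hom wsec = m • c := by
    apply hinj
    rw [map_nsmul]
    have h1 : K.toCycles p (p + 1) ≫ K.iCycles (p + 1) = K.d p (p + 1) := K.toCycles_i p (p + 1)
    have h2 := congrArg (fun φ => (φ.hom.app (op W')).hom wsec) h1
    exact h2.trans hw
  refine ⟨m, hm, ?_⟩
  have h3 : ((K.homologyπ (p + 1)).hom.app (op W')).hom (m • c) = 0 := by
    rw [← hc']
    have h1 : K.toCycles p (p + 1) ≫ K.homologyπ (p + 1) = 0 := K.toCycles_comp_homologyπ p (p + 1)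
    have h2 := congrArg (fun φ => (φ.hom.app (op W')).hom wsec) h1
    exact h2
  rw [map_nsmul] at h3
  have hc2 : ((K.homologyπ (p + 1)).hom.app (op W')).hom c =
      ((K.homology (p + 1)).obj.map g'.op).hom s := hc
  rw [hc2] at h3
  exact h3

end Main

end H9FE.SiteTorsRpush
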