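import Mathlib
import Groth.Agent.Lib.Helper9.FE.SiteTorsRpush

/-! helper9: for a continuous functor `Φ : D ⥤ C` of sites and an abelian sheaf `F` on `C`, if every
object of `D` is covered by objects `W` over whose images `Φ W` the higher cohomology of `F`
vanishes (in the form `Ext^{p+1}(Z, F) = 0` for a sheaf `Z` corepresenting sections over `Φ W`),
then the higher direct images `R^{p+1} Φ_* F` vanish. -/

set_option autoImplicit false
set_option linter.unusedSectionVars false
set_option linter.style.haveILetI false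
universe w' w v v₂ u u₂
open CategoryTheory Limits Opposite Abelian

namespace H9FE.PCRpush

open H9FE.SiteHUColim H9FE.SiteTorsRpush H9FE.CechCartanG

section Sect

variable {D : Type u₂} [Category.{v₂} D] {Jd : GrothendieckTopology D}
  [Jd.HasSheafCompose (forget AddCommGrpCat.{w})]

/-- sections of an abelian sheaf agreeing on a covering sieve are equal -/
lemma sect_ext (G : Sheaf Jd AddCommGrpCat.{w}) {V : D} (R : Sieve V) (hR : R ∈ Jd V)
    (s t : G.obj.obj (op V))
    (h : ∀ ⦃W : D⦄ (g : W ⟶ V), R g → (G.obj.map g.op).hom s = (G.obj.map g.op).hom t) :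
    s = t := by
  have hsh : Presieve.IsSheaf Jd (G.obj ⋙ forget AddCommGrpCat.{w}) :=
    (isSheaf_iff_isSheaf_of_type _ _).1 ((sheafCompose Jd (forget AddCommGrpCat.{w})).obj G).2
  exact (hsh.isSeparated _ hR).ext (fun _ g hg => h g hg)

omit [Jd.HasSheafCompose (forget AddCommGrpCat.{w})] in
/-- an abelian sheaf all of whose sections vanish is zero -/
lemma isZero_of_sections (G : Sheaf Jd AddCommGrpCat.{w})
    (h : ∀ (V : D) (s : G.obj.obj (op V)), s = 0) : IsZero G := by
  rw [IsZero.iff_id_eq_zero]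
  apply Sheaf.hom_ext
  apply NatTrans.ext
  funext V
  apply AddCommGrpCat.hom_ext
  apply AddMonoidHom.ext
  intro s
  exact (h V.unop s).trans (h V.unop _).symm

end Sect

section Main

variable {C : Type u} [Category.{v} C] {Jc : GrothendieckTopology C}
  {D : Type u₂} [Category.{v₂} D] {Jd : GrothendieckTopology D}
  [HasSheafify Jc AddCommGrpCat.{w}]
  [HasExt.{w'} (Sheaf Jc AddCommGrpCat.{w})] [EnoughInjectives (Sheaf Jc AddCommGrpCat.{w})]
  [HasSheafify Jd AddCommGrpCat.{w}] [Jd.WEqualsLocallyBijective AddCommGrpCat.{w}]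
  [Jd.HasSheafCompose (forget AddCommGrpCat.{w})]
  (Φ : D ⥤ C) [Φ.IsContinuous Jd Jc]

/-- vanishing of the higher direct images of a locally acyclic sheaf -/
theorem isZero_rightDerived [PreservesFiniteLimits (P.{w} (Jc := Jc) (Jd := Jd) Φ)]
    (B' : Set D)
    (hΦ : ∀ (V : D) (T : Sieve V), T ∈ Jd V →
      Sieve.generate (fun W g => T g ∧ W ∈ B') ∈ Jd V)
    (F : Sheaf Jc AddCommGrpCat.{w})
    (hF : ∀ W' ∈ B', ∃ (Z : Sheaf Jc AddCommGrpCat.{w}) (_ : Repr Z (Φ.obj W')),
      ∀ (p : ℕ) (x : Ext.{w'} Z F (p + 1)), x = 0)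
    (p : ℕ) : IsZero (((P.{w} (Jc := Jc) (Jd := Jd) Φ).rightDerived (p + 1)).obj F) := by
  let Pf := P.{w} (Jc := Jc) (Jd := Jd) Φ
  let I : InjectiveResolution F := injectiveResolution F
  let K := (Pf.mapHomologicalComplex (ComplexShape.up ℕ)).obj I.cocomplex
  refine IsZero.of_iso ?_ (I.isoRightDerivedObj Pf (p + 1))
  change IsZero (K.homology (p + 1))
  apply isZero_of_sections
  intro V s
  haveI : Sheaf.IsLocallySurjective (K.homologyπ (p + 1)) :=
    (Sheaf.isLocallySurjective_iff_epi' (φ := K.homologyπ (p + 1))).2 inferInstance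
  have hcov := hΦ V _ (Presheaf.imageSieve_mem Jd (K.homologyπ (p + 1)).hom s)
  refine sect_ext (K.homology (p + 1)) _ hcov s 0 ?_
  rintro W g ⟨W', k, g', ⟨⟨c, hc⟩, hW'⟩, rfl⟩
  have key : ((K.homology (p + 1)).obj.map g'.op).hom s = 0 := by
    obtain ⟨Z, R, hR⟩ := hF W' hW'
    let z : (I.cocomplex.X (p + 1)).obj.obj (op (Φ.obj W')) :=
      ((K.iCycles (p + 1)).hom.app (op W')).hom c
    have hz : ((I.cocomplex.d (p + 1) (p + 2)).hom.app (op (Φ.obj W'))).hom z = 0 := by
      have h1 : K.iCycles (p + 1) ≫ K.d (p + 1) (p + 2) = 0 := K.iCycles_d (p + 1) (p + 2)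
      have h2 := congrArg (fun φ => (φ.hom.app (op W')).hom c) h1
      exact h2
    let ζ : Z ⟶ I.cocomplex.X (p + 1) := (R.e _).symm z
    have hζ : ζ ≫ I.cocomplex.d (p + 1) (p + 2) = 0 := by
      apply (R.e _).injective
      rw [R.nat, Equiv.apply_symm_apply, R.e_zero]
      exact hz
    have h := hR p (I.extMk ζ (p + 2) rfl hζ)
    rw [InjectiveResolution.extMk_eq_zero_iff _ _ _ _ _ p rfl] at h
    obtain ⟨γ, hγ⟩ := h
    let wsec : (K.X p).obj.obj (op W') := R.e _ γ
    have hw : ((K.d p (p + 1)).hom.app (op W')).hom wsec = z := by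
      have h1 := R.nat (I.cocomplex.d p (p + 1)) γ
      rw [hγ, Equiv.apply_symm_apply] at h1
      exact h1.symm
    have hinj : Function.Injective ((K.iCycles (p + 1)).hom.app (op W')).hom := by
      have h : Mono ((Γ Jd W').map (K.iCycles (p + 1))) := inferInstance
      exact (AddCommGrpCat.mono_iff_injective _).1 h
    have hc' : ((K.toCycles p (p + 1)).hom.app (op W')).hom wsec = c := by
      apply hinj
      have h1 : K.toCycles p (p + 1) ≫ K.iCycles (p + 1) = K.d p (p + 1) := K.toCycles_i p (p + 1)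
      have h2 := congrArg (fun φ => (φ.hom.app (op W')).hom wsec) h1
      exact h2.trans hw
    have h3 : ((K.homologyπ (p + 1)).hom.app (op W')).hom c = 0 := by
      rw [← hc']
      have h1 : K.toCycles p (p + 1) ≫ K.homologyπ (p + 1) = 0 :=
        K.toCycles_comp_homologyπ p (p + 1)
      have h2 := congrArg (fun φ => (φ.hom.app (op W')).hom wsec) h1
      exact h2
    have hc2 : ((K.homologyπ (p + 1)).hom.app (op W')).hom c =
        ((K.homology (p + 1)).obj.map g'.op).hom s := hc
    rw [hc2] at h3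
    exact h3
  have e : ((K.homology (p + 1)).obj.map (k ≫ g').op).hom s =
      ((K.homology (p + 1)).obj.map k.op).hom (((K.homology (p + 1)).obj.map g'.op).hom s) := by
    rw [op_comp, Functor.map_comp]
    rfl
  rw [e, key, map_zero, map_zero]

end Main

end H9FE.PCRpush
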