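import Mathlib
import Groth.Agent.Lib.Helper9.FE.CsAcc2
import Groth.Agent.Lib.Helper9.FE.CsNoeth

/-! helper9: ascending chains of subsheaves of a constructible abelian étale sheaf on a Noetherian
scheme are stationary (Noetherian induction on closed subsets, stalkwise). -/

set_option autoImplicit false
set_option linter.unusedSectionVars false
set_option linter.style.haveILetI false
set_option backward.isDefEq.respectTransparency false
universe u
open CategoryTheory CategoryTheory.Limits AlgebraicGeometry Opposite Topology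

namespace H9FE.CsAcc
open H9FE.ConstSite H9FE.CsStrata H9FE.CsSub

attribute [local instance] Groth.Agent.Lib.Helper5.EtStalk.ab5' Groth.Agent.Lib.Helper5.EtStalk.pfc

theorem exists_generic_stratum (X : Scheme.{u}) [IsNoetherian X] {F : EtCoh.Ab X}
    (hF : EtPBC.IsConstructible F) (Z : TopologicalSpace.Closeds X) (hZ : (Z : Set X) ≠ ∅) :
    ∃ (T₁ : Scheme.{u}) (k : T₁ ⟶ X), IsImmersion k ∧ IrreducibleSpace T₁ ∧
      IsLocallyNoetherian T₁ ∧ EtCoh.IsFiniteLocallyConstant ((EtCoh.pull k).obj F) ∧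
      ∀ A : Set T₁, IsOpen A → ∃ O₁ : Set X, IsOpen O₁ ∧ k '' A = (Z : Set X) ∩ O₁ := by
  obtain ⟨z₀, hz₀⟩ := Set.nonempty_iff_ne_empty.2 hZ
  let Z' : Set X := (Z : Set X)
  haveI : TopologicalSpace.NoetherianSpace ↥Z' := inferInstance
  let C : Set ↥Z' := irreducibleComponent (⟨z₀, hz₀⟩ : ↥Z')
  have hC : C ∈ irreducibleComponents ↥Z' := irreducibleComponent_mem_irreducibleComponents _
  obtain ⟨o', ho', ho'ne, ho'C⟩ :=
    TopologicalSpace.NoetherianSpace.exists_isOpen_nonempty_subset_irreducibleComponent C hC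
  have ho'irr : IsIrreducible o' :=
    ⟨ho'ne, isIrreducible_irreducibleComponent.isPreirreducible.open_subset ho' ho'C⟩
  obtain ⟨O, hO, hOo'⟩ := isOpen_induced_iff.1 ho'
  have hoeq : (Subtype.val : ↥Z' → X) '' o' = Z' ∩ O := by
    rw [← hOo', Subtype.image_preimage_coe]
  have hoirr : IsIrreducible (Z' ∩ O) := by
    rw [← hoeq]
    exact ho'irr.image _ continuous_subtype_val.continuousOn
  have holc : IsLocallyClosed (Z' ∩ O) := ⟨O, Z', hO, Z.isClosed, Set.inter_comm _ _⟩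
  obtain ⟨T, h, hh, hhr⟩ := exists_immersion_of_isLocallyClosed X (Z' ∩ O) holc
  haveI : IrreducibleSpace T :=
    irreducibleSpace_of_isInducing h h.isEmbedding.isInducing (hhr ▸ hoirr)
  haveI : IsLocallyNoetherian T := LocallyOfFiniteType.isLocallyNoetherian h
  haveI : CompactSpace T := by
    rw [← isCompact_univ_iff, h.isEmbedding.isCompact_iff]
    exact TopologicalSpace.NoetherianSpace.isCompact _
  have hFT := pullback_constructible h F hF
  obtain ⟨κ, hκ, T', g', a1, a2, a3, a4, a5⟩ := strat_univ_of_constructible _ hFT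
  let η := genericPoint T
  obtain ⟨i₀, hi₀⟩ : ∃ i, η ∈ Set.range (g' i) := by
    have : η ∈ ⋃ i, Set.range (g' i) := by
      rw [a4]
      trivial
    exact Set.mem_iUnion.1 this
  haveI := a1 i₀
  have hopen : IsOpen (Set.range (g' i₀)) := by
    obtain ⟨O', C', hO', hC', hOC⟩ := (g' i₀).isLocallyClosed_range
    have hC'u : C' = Set.univ := by
      have hηC : η ∈ C' := by
        have := hi₀
        rw [hOC] at this
        exact this.2
      exact Set.eq_univ_of_univ_subset (((genericPoint_spec T).mem_closed_set_iff hC').1 hηC)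
    rw [hOC, hC'u, Set.inter_univ]
    exact hO'
  refine ⟨T' i₀, g' i₀ ≫ h, inferInstance,
    irreducibleSpace_of_isInducing (g' i₀) (g' i₀).isEmbedding.isInducing
      ⟨⟨η, hi₀⟩, (IrreducibleSpace.isIrreducible_univ T).isPreirreducible.open_subset hopen
        (Set.subset_univ _)⟩,
    LocallyOfFiniteType.isLocallyNoetherian (g' i₀), (flcP_pull_iff h F (g' i₀)).1 (a5 i₀), ?_⟩
  intro A hA
  have hoe : IsOpenEmbedding (g' i₀) := ⟨(g' i₀).isEmbedding, hopen⟩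
  have hA' : IsOpen ((g' i₀) '' A) := hoe.isOpenMap _ hA
  obtain ⟨O₂, hO₂, hO₂A⟩ := h.isEmbedding.isInducing.isOpen_iff.1 hA'
  refine ⟨O ∩ O₂, hO.inter hO₂, ?_⟩
  have himg : (g' i₀ ≫ h) '' A = h '' ((g' i₀) '' A) := by
    rw [Set.image_image]
    rfl
  rw [himg, ← hO₂A, Set.image_preimage_eq_inter_range, hhr]
  ext x
  simp only [Set.mem_inter_iff]
  tauto

section Chain

variable {X : Scheme.{u}} {F : EtCoh.Ab X} (G : ℕ → EtCoh.Ab X) (a : ∀ n, G n ⟶ F)
  (b : ∀ n m, n ≤ m → (G n ⟶ G m))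

/-- the chain is stationary on geometric stalks over `Z` -/
def StabOn (Z : Set X) : Prop :=
  ∃ N, ∀ (m : ℕ) (hm : N ≤ m) (Ω : Type u) [Field Ω] [IsSepClosed Ω]
    (ξ : Spec (CommRingCat.of Ω) ⟶ X), ξ default ∈ Z →
      Function.Surjective ((EtCoh.stalk ξ).map (b N m hm))

theorem b_comp [∀ n, Mono (a n)] (hb : ∀ n m (h : n ≤ m), b n m h ≫ a m = a n) (n₁ n₂ n₃ : ℕ)
    (h₁ : n₁ ≤ n₂) (h₂ : n₂ ≤ n₃) : b n₁ n₂ h₁ ≫ b n₂ n₃ h₂ = b n₁ n₃ (h₁.trans h₂) := by
  rw [← cancel_mono (a n₃), Category.assoc, hb, hb, hb]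

theorem surj_of_le [∀ n, Mono (a n)] (hb : ∀ n m (h : n ≤ m), b n m h ≫ a m = a n)
    {Ω : Type u} [Field Ω] [IsSepClosed Ω] (ξ : Spec (CommRingCat.of Ω) ⟶ X) {N₀ N m : ℕ}
    (h₁ : N₀ ≤ N) (h₂ : N ≤ m)
    (h : Function.Surjective ((EtCoh.stalk ξ).map (b N₀ m (h₁.trans h₂)))) :
    Function.Surjective ((EtCoh.stalk ξ).map (b N m h₂)) := by
  have e : (EtCoh.stalk ξ).map (b N₀ m (h₁.trans h₂)) =
      (EtCoh.stalk ξ).map (b N₀ N h₁) ≫ (EtCoh.stalk ξ).map (b N m h₂) := by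
    rw [← Functor.map_comp, b_comp G a b hb]
  intro q
  obtain ⟨p, hp⟩ := h q
  refine ⟨(EtCoh.stalk ξ).map (b N₀ N h₁) p, ?_⟩
  rw [← hp, e]
  rfl

theorem stab_closed (X : Scheme.{u}) [IsNoetherian X] {F : EtCoh.Ab X}
    (hF : EtPBC.IsConstructible F) (G : ℕ → EtCoh.Ab X) (a : ∀ n, G n ⟶ F)
    (b : ∀ n m, n ≤ m → (G n ⟶ G m)) [∀ n, Mono (a n)]
    (hb : ∀ n m (h : n ≤ m), b n m h ≫ a m = a n) (Z : TopologicalSpace.Closeds X) :
    StabOn G b (Z : Set X) := by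
  refine WellFoundedLT.induction (motive := fun Z : TopologicalSpace.Closeds X =>
    StabOn G b (Z : Set X)) Z ?_
  intro Z IH
  by_cases hZ : (Z : Set X) = ∅
  · exact ⟨0, fun m hm Ω _ _ ξ hξ => by rw [hZ] at hξ; exact hξ.elim⟩
  obtain ⟨T₁, k, hk, hirr, hln, hflc, hopen⟩ := exists_generic_stratum X hF Z hZ
  haveI := hk
  haveI := hirr
  haveI := hln
  obtain ⟨κ, Uc, hU, hα⟩ := hflc
  obtain ⟨i, y, -⟩ := hU (Classical.arbitrary T₁)
  obtain ⟨M₀, iM, fM, ⟨α⟩⟩ := hα i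
  haveI : Etale (Uc i).hom := (Uc i).prop
  haveI : IsLocallyNoetherian (Uc i).left :=
    LocallyOfFiniteType.isLocallyNoetherian (Y := T₁) (Uc i).hom
  obtain ⟨O, hOne, hOirr⟩ := exists_irreducible_open (Uc i).left y
  let U' : T₁.Etale := Scheme.Etale.mk (O.ι ≫ (Uc i).hom)
  let j : U' ⟶ Uc i := MorphismProperty.Over.homMk O.ι rfl
  haveI : IrreducibleSpace U'.left := Subtype.irreducibleSpace hOirr
  let M : AddCommGrpCat.{u + 1} := AddCommGrpCat.of (ULift.{u + 1} M₀)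
  haveI : Finite M := inferInstanceAs (Finite (ULift.{u + 1} M₀))
  let α' := restrictIso.{u + 1, u, u + 1} T₁.smallEtaleTopology j α
  haveI := Groth.Agent.S0101.result k
  haveI : ∀ n, Mono ((EtCoh.pull k).map (a n)) := fun n => inferInstance
  obtain ⟨N₁, V₀, g₀, hV₀, hloc⟩ := chain_stabilizes_local (fun n => (EtCoh.pull k).obj (G n))
    (fun n => (EtCoh.pull k).map (a n)) (fun n m h => (EtCoh.pull k).map (b n m h))
    (fun n m h => by rw [← Functor.map_comp, hb]) U' M α'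
  haveI : Etale V₀.hom := V₀.prop
  obtain ⟨O₁, hO₁, hO₁r⟩ := hopen (Set.range V₀.hom) V₀.hom.isOpenMap.isOpen_range
  have hZ₁c : IsClosed ((Z : Set X) \ O₁) := Z.isClosed.sdiff hO₁
  have hlt : (⟨(Z : Set X) \ O₁, hZ₁c⟩ : TopologicalSpace.Closeds X) < Z := by
    refine lt_of_le_of_ne (fun x hx => hx.1) (fun heq => ?_)
    obtain ⟨v⟩ := hV₀
    have hx : k (V₀.hom v) ∈ (Z : Set X) ∩ O₁ := by
      rw [← hO₁r]
      exact ⟨_, ⟨v, rfl⟩, rfl⟩
    have : k (V₀.hom v) ∈ ((⟨(Z : Set X) \ O₁, hZ₁c⟩ : TopologicalSpace.Closeds X) : Set X) := by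
      rw [heq]
      exact hx.1
    exact this.2 hx.2
  obtain ⟨N₂, hN₂⟩ := IH _ hlt
  refine ⟨max N₁ N₂, ?_⟩
  intro m hm Ω _ _ ξ hξ
  by_cases hξO : ξ default ∈ O₁
  · have hmem : ξ default ∈ k '' Set.range V₀.hom := by
      rw [hO₁r]
      exact ⟨hξ, hξO⟩
    obtain ⟨t, ⟨v, hv⟩, ht⟩ := hmem
    obtain ⟨ξ₁, rfl⟩ := lift_immersion k ξ ⟨t, ht⟩
    have hξ₁ : ξ₁ default = t := k.isEmbedding.injective ht.symm
    obtain ⟨l, hl, -⟩ := Scheme.exists_fac_of_etale_of_isSepClosed V₀.hom ξ₁ v (hv.trans hξ₁.symm)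
    let y₀ : (Scheme.pointSmallEtale ξ₁).fiber.obj V₀ := Over.homMk l hl
    have hm₁ : N₁ ≤ m := (le_max_left _ _).trans hm
    have h1 := stalk_surj_of_local ((EtCoh.pull k).map (b N₁ m hm₁)) V₀ (hloc m hm₁) ξ₁ y₀
    have h2 := stalk_surj_pull k (b N₁ m hm₁) ξ₁ h1
    exact surj_of_le G a b hb _ (le_max_left _ _) hm h2
  · have hm₂ : N₂ ≤ m := (le_max_right _ _).trans hm
    have h2 := hN₂ m hm₂ Ω ξ ⟨hξ, hξO⟩
    exact surj_of_le G a b hb _ (le_max_right _ _) hm h2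

end Chain

theorem acc (X : Scheme.{u}) [IsNoetherian X] (F : EtCoh.Ab X) (hF : EtPBC.IsConstructible F)
    (c : ℕ →o Subobject F) : ∃ N, ∀ m, N ≤ m → c m = c N := by
  obtain ⟨N, hN⟩ := stab_closed X hF (fun n => (c n : EtCoh.Ab X)) (fun n => (c n).arrow)
    (fun n m h => Subobject.ofLE (c n) (c m) (c.monotone h))
    (fun n m h => Subobject.ofLE_arrow _) ⊤
  refine ⟨N, fun m hm => ?_⟩
  let β := Subobject.ofLE (c N) (c m) (c.monotone hm)
  haveI hepi : Epi β :=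
    (Groth.Agent.Lib.Helper5.EtStalk.epi_iff_stalks_ab β).2 (fun g => hN m hm g.Ω g.ξ trivial)
  haveI : IsIso β := isIso_of_mono_of_epi β
  refine le_antisymm (Subobject.le_of_comm (inv β) ?_) (c.monotone hm)
  rw [IsIso.inv_comp_eq]
  exact (Subobject.ofLE_arrow _).symm

end H9FE.CsAcc
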