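import Mathlib

/-! helper9: a morphism of schemes which is finite on two opens covering the source and on their
intersection is finite (separatedness via closedness of the diagonal, universal closedness via
the surjection from the disjoint union, finiteness via Zariski's main theorem). -/

set_option autoImplicit false
open CategoryTheory CategoryTheory.Limits AlgebraicGeometry Opposite
universe u

namespace H9FE.EtFinGlue

set_option backward.isDefEq.respectTransparency false
set_option linter.style.haveILetI false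
set_option linter.unusedSectionVars false

variable {P T : Scheme.{u}} (f : P ⟶ T)

theorem finite_of_eq {A A' : P.Opens} (h : A = A') (hA : IsFinite (A.ι ≫ f)) :
    IsFinite (A'.ι ≫ f) := by
  subst h
  exact hA

section diag

variable (A B : P.Opens)

/-- the open piece `A ×_T B` of `P ×_T P` -/
noncomputable def mAB : pullback (A.ι ≫ f) (B.ι ≫ f) ⟶ pullback f f :=
  pullback.map (A.ι ≫ f) (B.ι ≫ f) f f A.ι B.ι (𝟙 T) (by simp) (by simp)

instance : IsOpenImmersion (mAB f A B) := by
  unfold mAB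
  infer_instance

lemma mAB_fst : mAB f A B ≫ pullback.fst f f = pullback.fst (A.ι ≫ f) (B.ι ≫ f) ≫ A.ι := by
  unfold mAB
  exact pullback.lift_fst _ _ _

lemma mAB_snd : mAB f A B ≫ pullback.snd f f = pullback.snd (A.ι ≫ f) (B.ι ≫ f) ≫ B.ι := by
  unfold mAB
  exact pullback.lift_snd _ _ _

lemma range_mAB : Set.range (mAB f A B) =
    pullback.fst f f ⁻¹' (A : Set P) ∩ pullback.snd f f ⁻¹' (B : Set P) := by
  unfold mAB
  rw [Scheme.Pullback.range_map, Scheme.Opens.range_ι, Scheme.Opens.range_ι]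

/-- the diagonal of the intersection -/
noncomputable def eAB : (A ⊓ B).toScheme ⟶ pullback (A.ι ≫ f) (B.ι ≫ f) :=
  pullback.lift (P.homOfLE inf_le_left) (P.homOfLE inf_le_right) (by
    rw [Scheme.homOfLE_ι_assoc, Scheme.homOfLE_ι_assoc])

lemma eAB_mAB : eAB f A B ≫ mAB f A B = (A ⊓ B).ι ≫ pullback.diagonal f := by
  apply pullback.hom_ext
  · rw [Category.assoc, mAB_fst, Category.assoc, pullback.diagonal_fst, Category.comp_id]
    unfold eAB
    rw [pullback.lift_fst_assoc, Scheme.homOfLE_ι]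
  · rw [Category.assoc, mAB_snd, Category.assoc, pullback.diagonal_snd, Category.comp_id]
    unfold eAB
    rw [pullback.lift_snd_assoc, Scheme.homOfLE_ι]

instance isProper_eAB [IsFinite (A.ι ≫ f)] [IsFinite (B.ι ≫ f)] [IsFinite ((A ⊓ B).ι ≫ f)] :
    IsProper (eAB f A B) := by
  have h1 : eAB f A B ≫ pullback.fst (A.ι ≫ f) (B.ι ≫ f) ≫ A.ι ≫ f = (A ⊓ B).ι ≫ f := by
    unfold eAB
    rw [pullback.lift_fst_assoc, Scheme.homOfLE_ι_assoc]
  haveI : IsProper (eAB f A B ≫ pullback.fst (A.ι ≫ f) (B.ι ≫ f) ≫ A.ι ≫ f) := by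
    rw [h1]
    infer_instance
  exact IsProper.of_comp (eAB f A B) (pullback.fst (A.ι ≫ f) (B.ι ≫ f) ≫ A.ι ≫ f)

theorem diag_open_aux (hA : IsFinite (A.ι ≫ f)) (hB : IsFinite (B.ι ≫ f))
    (hC : IsFinite ((A ⊓ B).ι ≫ f)) (z : ↥(pullback f f)) (hzA : pullback.fst f f z ∈ A)
    (hzB : pullback.snd f f z ∈ B) (hz : z ∉ Set.range (pullback.diagonal f)) :
    ∃ K : Set ↥(pullback f f), K ⊆ (Set.range (pullback.diagonal f))ᶜ ∧ IsOpen K ∧ z ∈ K := by
  haveI := hA
  haveI := hB
  haveI := hC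
  have hcl : IsClosed (Set.range (eAB f A B)) := (eAB f A B).isClosedMap.isClosed_range
  refine ⟨mAB f A B '' (Set.range (eAB f A B))ᶜ, ?_,
    (mAB f A B).isOpenEmbedding.isOpenMap _ hcl.isOpen_compl, ?_⟩
  · rintro _ ⟨w, hw, rfl⟩ ⟨p, hp⟩
    apply hw
    have hmem : mAB f A B w ∈ Set.range (mAB f A B) := ⟨w, rfl⟩
    rw [range_mAB] at hmem
    have h1 : pullback.fst f f (mAB f A B w) ∈ A := hmem.1
    have h2 : pullback.snd f f (mAB f A B w) ∈ B := hmem.2
    have hp1 : pullback.fst f f (pullback.diagonal f p) = p := by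
      rw [← Scheme.Hom.comp_apply, pullback.diagonal_fst]
      rfl
    have hp2 : pullback.snd f f (pullback.diagonal f p) = p := by
      rw [← Scheme.Hom.comp_apply, pullback.diagonal_snd]
      rfl
    rw [← hp, hp1] at h1
    rw [← hp, hp2] at h2
    refine ⟨(⟨p, h1, h2⟩ : ↥(A ⊓ B)), ?_⟩
    apply (mAB f A B).isOpenEmbedding.injective
    rw [← Scheme.Hom.comp_apply, eAB_mAB, Scheme.Hom.comp_apply, ← hp]
    rfl
  · have hzr : z ∈ Set.range (mAB f A B) := by
      rw [range_mAB]
      exact ⟨hzA, hzB⟩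
    obtain ⟨w, rfl⟩ := hzr
    refine ⟨w, ?_, rfl⟩
    rintro ⟨c, rfl⟩
    apply hz
    refine ⟨(A ⊓ B).ι c, ?_⟩
    rw [← Scheme.Hom.comp_apply, ← eAB_mAB, Scheme.Hom.comp_apply]

theorem isSeparated_of_cover (hAB : A ⊔ B = ⊤) (hA : IsFinite (A.ι ≫ f))
    (hB : IsFinite (B.ι ≫ f)) (hC : IsFinite ((A ⊓ B).ι ≫ f)) : IsSeparated f := by
  have hcl : IsClosed (Set.range (pullback.diagonal f)) := by
    rw [← isOpen_compl_iff, isOpen_iff_forall_mem_open]
    intro z hz
    have mem : ∀ p : P, p ∈ A ∨ p ∈ B := fun p => by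
      have : p ∈ A ⊔ B := by
        rw [hAB]
        trivial
      exact this
    have hAA : IsFinite ((A ⊓ A).ι ≫ f) := finite_of_eq f (inf_idem A).symm hA
    have hBB : IsFinite ((B ⊓ B).ι ≫ f) := finite_of_eq f (inf_idem B).symm hB
    have hBA : IsFinite ((B ⊓ A).ι ≫ f) := finite_of_eq f (inf_comm A B) hC
    rcases mem (pullback.fst f f z) with h1 | h1 <;> rcases mem (pullback.snd f f z) with h2 | h2
    · exact diag_open_aux f A A hA hA hAA z h1 h2 hz
    · exact diag_open_aux f A B hA hB hC z h1 h2 hz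
    · exact diag_open_aux f B A hB hA hBA z h1 h2 hz
    · exact diag_open_aux f B B hB hB hBB z h1 h2 hz
  haveI : IsClosedImmersion (pullback.diagonal f) := IsClosedImmersion.of_isPreimmersion _ hcl
  exact ⟨inferInstance⟩

end diag

theorem finite_of_cover (A B : P.Opens) (hAB : A ⊔ B = ⊤) (hA : IsFinite (A.ι ≫ f))
    (hB : IsFinite (B.ι ≫ f)) (hC : IsFinite ((A ⊓ B).ι ≫ f)) : IsFinite f := by
  haveI : IsSeparated f := isSeparated_of_cover f A B hAB hA hB hC
  haveI := hA
  haveI := hB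
  have hU : iSup (fun b : Bool => cond b A B) = ⊤ := by
    rw [iSup_bool_eq]
    exact hAB
  haveI : LocallyOfFiniteType f :=
    IsZariskiLocalAtSource.of_iSup_eq_top (P := @LocallyOfFiniteType) _ hU (by
      rintro (_ | _)
      · show LocallyOfFiniteType (B.ι ≫ f)
        infer_instance
      · show LocallyOfFiniteType (A.ι ≫ f)
        infer_instance)
  haveI : LocallyQuasiFinite f :=
    IsZariskiLocalAtSource.of_iSup_eq_top (P := @LocallyQuasiFinite) _ hU (by
      rintro (_ | _)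
      · show LocallyQuasiFinite (B.ι ≫ f)
        infer_instance
      · show LocallyQuasiFinite (A.ι ≫ f)
        infer_instance)
  let q : (A.toScheme ⨿ B.toScheme) ⟶ P := coprod.desc A.ι B.ι
  haveI : Surjective q := ⟨fun x => by
    have hx : x ∈ A ⊔ B := by
      rw [hAB]
      trivial
    rcases hx with hx | hx
    · refine ⟨(coprod.inl : A.toScheme ⟶ A.toScheme ⨿ B.toScheme) ⟨x, hx⟩, ?_⟩
      rw [← Scheme.Hom.comp_apply, coprod.inl_desc]
      rfl
    · refine ⟨(coprod.inr : B.toScheme ⟶ A.toScheme ⨿ B.toScheme) ⟨x, hx⟩, ?_⟩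
      rw [← Scheme.Hom.comp_apply, coprod.inr_desc]
      rfl⟩
  have hq : q ≫ f = coprod.desc (A.ι ≫ f) (B.ι ≫ f) := by
    apply coprod.hom_ext
    · rw [coprod.inl_desc, ← Category.assoc, coprod.inl_desc]
    · rw [coprod.inr_desc, ← Category.assoc, coprod.inr_desc]
  haveI : UniversallyClosed (q ≫ f) := by
    rw [hq]
    infer_instance
  haveI : UniversallyClosed f := UniversallyClosed.of_comp_surjective q f
  haveI : IsProper f := {}
  exact IsFinite.of_isProper_of_locallyQuasiFinite f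

end H9FE.EtFinGlue
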