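import Mathlib
import Groth.Agent.S1339
import Groth.Agent.S1335
import Groth.Agent.S1415
import Groth.Agent.Lib.Lead.GeomCount7
import Groth.Agent.Lib.Helper2.EtaleLocal
import Groth.Agent.Lib.Helper9.FE.CsStrata

/-! helper9: finite stratifications of a scheme by constructible immersions; an étale separated
quasi-compact morphism to a quasi-compact quasi-separated scheme is finite over the level sets of
the geometric fibre cardinality; a morphism which is finite on two opens covering the source and on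
their intersection is finite. -/

set_option autoImplicit false
open CategoryTheory CategoryTheory.Limits AlgebraicGeometry Opposite
universe u

namespace H9FE.EtFinStrat

set_option backward.isDefEq.respectTransparency false
set_option linter.style.haveILetI false
set_option linter.unusedSectionVars false

open H9FE.CsStrata

variable {X : Scheme.{u}}

/-- a finite stratification of `X` by immersions with constructible ranges whose strata
satisfy `P` -/
def FStrat (P : MorProp X) : Prop :=
  ∃ (ι : Type) (_ : Finite ι) (T : ι → Scheme.{u}) (g : ∀ i, T i ⟶ X),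
    (∀ i, IsImmersion (g i)) ∧ (∀ i, Topology.IsConstructible (Set.range (g i))) ∧
    Pairwise (fun i j => Disjoint (Set.range (g i)) (Set.range (g j))) ∧
    (⋃ i, Set.range (g i)) = Set.univ ∧ ∀ i, P (g i)

theorem FStrat.mono {P Q : MorProp X} (h : ∀ ⦃T : Scheme.{u}⦄ (g : T ⟶ X), P g → Q g)
    (hS : FStrat P) : FStrat Q := by
  obtain ⟨ι, hι, T, g, h1, h2, h3, h4, h5⟩ := hS
  exact ⟨ι, hι, T, g, h1, h2, h3, h4, fun i => h _ (h5 i)⟩

/-- common refinement of two stratifications -/
theorem FStrat.inter {P Q : MorProp X} (hP : P.Stable) (hQ : Q.Stable)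
    (h1 : FStrat P) (h2 : FStrat Q) : FStrat (fun _ g => P g ∧ Q g) := by
  obtain ⟨ι, hι, T, g, a1, a2, a3, a4, a5⟩ := h1
  obtain ⟨ι', hι', T', g', b1, b2, b3, b4, b5⟩ := h2
  have hr : ∀ p : ι × ι', Set.range (pullback.fst (g p.1) (g' p.2) ≫ g p.1) =
      Set.range (g p.1) ∩ Set.range (g' p.2) := fun p => range_fst_comp _ _
  refine ⟨ι × ι', inferInstance, fun p => pullback (g p.1) (g' p.2),
    fun p => pullback.fst (g p.1) (g' p.2) ≫ g p.1, fun p => ?_, fun p => ?_, ?_, ?_, fun p => ?_⟩
  · haveI := a1 p.1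
    haveI := b1 p.2
    infer_instance
  · rw [hr]
    exact (a2 _).inter (b2 _)
  · intro p q hpq
    show Disjoint (Set.range (pullback.fst (g p.1) (g' p.2) ≫ g p.1))
      (Set.range (pullback.fst (g q.1) (g' q.2) ≫ g q.1))
    rw [hr, hr]
    by_cases h : p.1 = q.1
    · have h' : p.2 ≠ q.2 := fun h' => hpq (Prod.ext h h')
      exact (b3 h').mono Set.inter_subset_right Set.inter_subset_right
    · exact (a3 h).mono Set.inter_subset_left Set.inter_subset_left
  · rw [Set.eq_univ_iff_forall]
    intro x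
    have hx1 : x ∈ ⋃ i, Set.range (g i) := a4 ▸ Set.mem_univ x
    have hx2 : x ∈ ⋃ i, Set.range (g' i) := b4 ▸ Set.mem_univ x
    obtain ⟨i, hi⟩ := Set.mem_iUnion.1 hx1
    obtain ⟨j, hj⟩ := Set.mem_iUnion.1 hx2
    refine Set.mem_iUnion.2 ⟨(i, j), ?_⟩
    rw [hr]
    exact ⟨hi, hj⟩
  · refine ⟨hP _ _ (a5 _), ?_⟩
    show Q (pullback.fst (g p.1) (g' p.2) ≫ g p.1)
    rw [pullback.condition]
    exact hQ _ _ (b5 _)

/-- the base change of `j` along `g` is finite -/
def finP {U : Scheme.{u}} (j : U ⟶ X) : MorProp X := fun _ g => IsFinite (pullback.snd j g)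

theorem finP_stable {U : Scheme.{u}} (j : U ⟶ X) : MorProp.Stable (finP j) := by
  intro T' T k g h
  haveI : IsFinite (pullback.snd j g) := h
  show IsFinite (pullback.snd j (k ≫ g))
  have h1 : (pullbackLeftPullbackSndIso j g k).hom ≫ pullback.snd j (k ≫ g) =
      pullback.snd (pullback.snd j g) k := pullbackLeftPullbackSndIso_hom_snd j g k
  have h2 : IsFinite ((pullbackLeftPullbackSndIso j g k).hom ≫ pullback.snd j (k ≫ g)) := by
    rw [h1]; infer_instance
  exact (MorphismProperty.cancel_left_of_respectsIso @IsFinite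
    (pullbackLeftPullbackSndIso j g k).hom _).1 h2

/-- precomposition with an isomorphism does not change `finP` -/
theorem finP_iso_comp {A' A : Scheme.{u}} (i : A' ⟶ A) [IsIso i] (h : A ⟶ X)
    ⦃T : Scheme.{u}⦄ (g : T ⟶ X) (hh : finP h g) : finP (i ≫ h) g := by
  haveI : IsFinite (pullback.snd h g) := hh
  show IsFinite (pullback.snd (i ≫ h) g)
  have h1 : (pullbackRightPullbackFstIso h g i).hom ≫ pullback.snd (i ≫ h) g =
      pullback.snd i (pullback.fst h g) ≫ pullback.snd h g :=
    pullbackRightPullbackFstIso_hom_snd h g i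
  have h2 : IsFinite ((pullbackRightPullbackFstIso h g i).hom ≫ pullback.snd (i ≫ h) g) := by
    rw [h1]; infer_instance
  exact (MorphismProperty.cancel_left_of_respectsIso @IsFinite
    (pullbackRightPullbackFstIso h g i).hom _).1 h2

/-- `finP` only depends on the range of an open immersion -/
theorem finP_of_range_eq {U A A' : Scheme.{u}} (j : U ⟶ X) (a : A ⟶ U) (a' : A' ⟶ U)
    [IsOpenImmersion a] [IsOpenImmersion a'] (e : Set.range a' = Set.range a)
    ⦃T : Scheme.{u}⦄ (g : T ⟶ X) (hh : finP (a ≫ j) g) : finP (a' ≫ j) g := by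
  have h1 : (IsOpenImmersion.isoOfRangeEq a' a e).hom ≫ a = a' :=
    IsOpenImmersion.isoOfRangeEq_hom_fac a' a e
  have h2 : a' ≫ j = (IsOpenImmersion.isoOfRangeEq a' a e).hom ≫ a ≫ j := by
    rw [← Category.assoc, h1]
  rw [h2]
  exact finP_iso_comp _ _ g hh

/-- a locally closed subset is the range of an immersion -/
theorem exists_immersion (O : X.Opens) (Z : Set X) (hZ : IsClosed Z) :
    ∃ (T : Scheme.{u}) (g : T ⟶ X), IsImmersion g ∧ Set.range g = (O : Set X) ∩ Z := by
  obtain ⟨T, c, hc, hr⟩ := exists_closedImmersion_of_isClosed O.toScheme (O.ι ⁻¹' Z)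
    (hZ.preimage O.ι.continuous)
  haveI := hc
  refine ⟨T, c ≫ O.ι, inferInstance, ?_⟩
  rw [range_comp, hr, Set.image_preimage_eq_inter_range, Scheme.Opens.range_ι, Set.inter_comm]

/-- constant geometric fibre cardinality implies finiteness -/
theorem finite_of_const {V T : Scheme.{u}} (f : V ⟶ T) [Etale f] [IsSeparated f] [QuasiCompact f]
    (n : ℕ∞) (h : ∀ t : T, MoreMor.nGeomConnComp f t = n) : IsFinite f := by
  haveI : LocallyQuasiFinite f := Groth.Agent.Helper2.EtaleLocal.locallyQuasiFinite_of_etale f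
  have key : ∀ y : T, ∃ W : T.Opens, y ∈ W ∧ IsFinite (f ∣_ W) := fun y =>
    Groth.Agent.Lead.GeomCount.exists_finite_of_const f y ⟨⊤, trivial, fun y' _ => by
      rw [← Groth.Agent.Lead.GeomCount.nGeomConnComp_eq_card,
        ← Groth.Agent.Lead.GeomCount.nGeomConnComp_eq_card, h y', h y]⟩
  choose W hyW hW using key
  have hsup : iSup W = ⊤ := by
    rw [eq_top_iff]
    intro y _
    exact TopologicalSpace.Opens.mem_iSup.mpr ⟨y, hyW y⟩
  exact (IsZariskiLocalAtTarget.iff_of_iSup_eq_top (P := @IsFinite) W hsup).mpr hW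

/-- the separated case -/
theorem strat_sep {U : Scheme.{u}} [CompactSpace X] [QuasiSeparatedSpace X] (j : U ⟶ X) [Etale j]
    [IsSeparated j] [QuasiCompact j] : FStrat (finP j) := by
  classical
  haveI : LocallyQuasiFinite j := Groth.Agent.Helper2.EtaleLocal.locallyQuasiFinite_of_etale j
  haveI : CompactSpace U := QuasiCompact.compactSpace_of_compactSpace j
  obtain ⟨d, hd⟩ := (Groth.Agent.S1415.result j).2 inferInstance
  have hlsc : LowerSemicontinuous (fun y : X => MoreMor.nGeomConnComp j y) := by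
    have h := Groth.Agent.Lead.GeomCount.S5051_main j
    have he : (fun y : X => MoreMor.nGeomConnComp j y) =
        fun y : X => ENat.card ↥(MoreMor.geomFiber j y) := by
      funext y
      exact Groth.Agent.Lead.GeomCount.nGeomConnComp_eq_card j y
    rw [he]
    exact h
  have hO : ∀ k : ℕ, IsOpen {y : X | (k : ℕ∞) ≤ MoreMor.nGeomConnComp j y} := by
    intro k
    cases k with
    | zero => simp
    | succ k =>
      have : {y : X | ((k + 1 : ℕ) : ℕ∞) ≤ MoreMor.nGeomConnComp j y} =
          (fun y : X => MoreMor.nGeomConnComp j y) ⁻¹' Set.Ioi (k : ℕ∞) := by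
        ext y
        simp only [Set.mem_setOf_eq, Set.mem_preimage, Set.mem_Ioi, Nat.cast_add, Nat.cast_one]
        exact ENat.add_one_le_iff (ENat.coe_ne_top k)
      rw [this]
      exact hlsc.isOpen_preimage _
  have hC : ∀ k : ℕ, IsClosed {y : X | MoreMor.nGeomConnComp j y ≤ (k : ℕ∞)} := by
    intro k
    have : {y : X | MoreMor.nGeomConnComp j y ≤ (k : ℕ∞)} =
        ((fun y : X => MoreMor.nGeomConnComp j y) ⁻¹' Set.Ioi (k : ℕ∞))ᶜ := by
      ext y
      simp
    rw [this]
    exact (hlsc.isOpen_preimage _).isClosed_compl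
  have hex : ∀ k : Fin (d + 1), ∃ (T : Scheme.{u}) (g : T ⟶ X), IsImmersion g ∧
      Set.range g = {y : X | MoreMor.nGeomConnComp j y = ((k : ℕ) : ℕ∞)} := by
    intro k
    obtain ⟨T, g, hg, hr⟩ := exists_immersion ⟨_, hO k⟩ _ (hC k)
    refine ⟨T, g, hg, ?_⟩
    rw [hr]
    ext y
    simp only [TopologicalSpace.Opens.coe_mk, Set.mem_inter_iff, Set.mem_setOf_eq]
    exact ⟨fun h => le_antisymm h.2 h.1, fun h => ⟨h.ge, h.le⟩⟩
  choose T g hg hr using hex
  refine ⟨Fin (d + 1), inferInstance, T, g, hg, ?_, ?_, ?_, ?_⟩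
  · intro k
    rw [hr]
    exact (Groth.Agent.S1339.result j _).isConstructible
  · intro k k' hkk'
    show Disjoint (Set.range (g k)) (Set.range (g k'))
    rw [hr, hr, Set.disjoint_left]
    intro y hy hy'
    simp only [Set.mem_setOf_eq] at hy hy'
    rw [hy] at hy'
    exact hkk' (Fin.ext (by exact_mod_cast hy'))
  · rw [Set.eq_univ_iff_forall]
    intro y
    obtain ⟨k, hk, hkd⟩ := ENat.le_coe_iff.1 (hd y)
    refine Set.mem_iUnion.2 ⟨⟨k, Nat.lt_succ_of_le hkd⟩, ?_⟩
    rw [hr]
    exact hk
  · intro k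
    show IsFinite (pullback.snd j (g k))
    haveI := hg k
    have hconst : ∀ t : T k,
        MoreMor.nGeomConnComp (pullback.snd j (g k)) t = ((k : ℕ) : ℕ∞) := by
      intro t
      rw [Groth.Agent.S1335.result j (pullback.snd j (g k)) (pullback.fst j (g k)) (g k)
        (IsPullback.of_hasPullback j (g k)) t]
      have : (g k) t ∈ Set.range (g k) := ⟨t, rfl⟩
      rw [hr] at this
      exact this
    exact finite_of_const _ _ hconst

end H9FE.EtFinStrat
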