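import Mathlib
import Groth.Agent.Lib.Helper9.FE.EtFinStrat
import Groth.Agent.Lib.Helper9.FE.EtFinGlue

/-! helper9: an étale morphism between quasi-compact quasi-separated schemes becomes finite over
the strata of a finite stratification of the target by constructible immersions (induction on
the number of affine opens covering the source, gluing two opens at a time). -/

set_option autoImplicit false
open CategoryTheory CategoryTheory.Limits AlgebraicGeometry Opposite
universe u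

namespace H9FE.EtFinMain

set_option backward.isDefEq.respectTransparency false
set_option linter.style.haveILetI false
set_option linter.unusedSectionVars false

open H9FE.CsStrata H9FE.EtFinStrat H9FE.EtFinGlue

variable {X : Scheme.{u}}

/-- restriction of the base change to the preimage of an open of the source -/
theorem finite_restrict {U : Scheme.{u}} (j : U ⟶ X) (O : U.Opens) ⦃T : Scheme.{u}⦄ (g : T ⟶ X)
    (h : finP (O.ι ≫ j) g) :
    IsFinite ((pullback.fst j g ⁻¹ᵁ O).ι ≫ pullback.snd j g) := by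
  haveI : IsFinite (pullback.snd (O.ι ≫ j) g) := h
  have s : IsPullback (pullback.fst j g ⁻¹ᵁ O).ι (pullback.fst j g ∣_ O) (pullback.fst j g) O.ι :=
    (isPullback_morphismRestrict (pullback.fst j g) O).flip
  have t : IsPullback (pullback.snd j g) (pullback.fst j g) g j :=
    (IsPullback.of_hasPullback j g).flip
  have st := (s.paste_horiz t).flip
  have h1 : st.isoPullback.hom ≫ pullback.snd (O.ι ≫ j) g =
      (pullback.fst j g ⁻¹ᵁ O).ι ≫ pullback.snd j g := st.isoPullback_hom_snd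
  rw [← h1]
  infer_instance

theorem finP_of_cover {U : Scheme.{u}} (j : U ⟶ X) (A B : U.Opens) (hAB : A ⊔ B = ⊤)
    ⦃T : Scheme.{u}⦄ (g : T ⟶ X) (hA : finP (A.ι ≫ j) g) (hB : finP (B.ι ≫ j) g)
    (hC : finP ((A ⊓ B).ι ≫ j) g) : finP j g := by
  show IsFinite (pullback.snd j g)
  refine finite_of_cover (pullback.snd j g) (pullback.fst j g ⁻¹ᵁ A) (pullback.fst j g ⁻¹ᵁ B) ?_
    (finite_restrict j A g hA) (finite_restrict j B g hB) (finite_restrict j (A ⊓ B) g hC)
  rw [← Scheme.Hom.preimage_sup, hAB]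
  rfl

theorem iSup_fin_succ' {α : Type*} [CompleteLattice α] {m : ℕ} (W : Fin (m + 1) → α) :
    (⨆ i, W i) = W 0 ⊔ ⨆ i : Fin m, W i.succ := by
  apply le_antisymm
  · exact iSup_le (fun i => Fin.cases le_sup_left
      (fun i => le_sup_of_le_right (le_iSup (fun i : Fin m => W i.succ) i)) i)
  · exact sup_le (le_iSup W 0) (iSup_le fun i => le_iSup W i.succ)

theorem stable_and {P Q : MorProp X} (hP : P.Stable) (hQ : Q.Stable) :
    MorProp.Stable (fun _ g => P g ∧ Q g) :=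
  fun _ _ k g h => ⟨hP k g h.1, hQ k g h.2⟩

/-- the range of the inclusion of an open of an open -/
theorem range_ι_ι {U : Scheme.{u}} (O A : U.Opens) (hA : A ≤ O) :
    Set.range ((O.ι ⁻¹ᵁ A).ι ≫ O.ι) = Set.range A.ι := by
  rw [range_comp, Scheme.Opens.range_ι, Scheme.Opens.range_ι]
  show O.ι '' (O.ι ⁻¹' (A : Set U)) = A
  rw [Set.image_preimage_eq_inter_range, Scheme.Opens.range_ι]
  exact Set.inter_eq_left.2 hA

theorem strat_of_affine_cover {U : Scheme.{u}} [CompactSpace X] [QuasiSeparatedSpace X]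
    [QuasiSeparatedSpace U] (j : U ⟶ X) [Etale j] :
    ∀ (m : ℕ) (W : Fin m → U.Opens), (∀ i, IsAffineOpen (W i)) →
      FStrat (finP ((⨆ i, W i).ι ≫ j)) := by
  intro m
  induction m with
  | zero =>
    intro W _
    refine ⟨Unit, inferInstance, fun _ => X, fun _ => 𝟙 X, fun _ => inferInstance, fun _ => ?_,
      ?_, ?_, fun _ => ?_⟩
    · have : Set.range (𝟙 X : X ⟶ X) = Set.univ := Set.range_eq_univ.2 fun x => ⟨x, rfl⟩
      rw [this]
      exact Topology.IsConstructible.univ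
    · intro a b hab
      exact (hab (Subsingleton.elim _ _)).elim
    · rw [Set.eq_univ_iff_forall]
      intro x
      exact Set.mem_iUnion.2 ⟨(), x, rfl⟩
    · show IsFinite (pullback.snd ((⨆ i, W i).ι ≫ j) (𝟙 X))
      have h0 : (⨆ i, W i) = ⊥ := by simp
      haveI hE : IsEmpty ((⨆ i, W i : U.Opens).toScheme : Scheme.{u}) := by
        rw [h0]
        exact ⟨fun x => TopologicalSpace.Opens.mem_bot.mp x.2⟩
      haveI : IsEmpty ↥(pullback ((⨆ i, W i).ι ≫ j) (𝟙 X)) :=
        ⟨fun x => hE.false ((pullback.fst ((⨆ i, W i).ι ≫ j) (𝟙 X)) x)⟩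
      infer_instance
  | succ m ih =>
    intro W hW
    rw [iSup_fin_succ' W]
    have hA : IsAffineOpen (W 0) := hW 0
    haveI : IsAffine (W 0).toScheme := hA
    have hBc : IsCompact ((⨆ i : Fin m, W i.succ : U.Opens) : Set U) := by
      rw [TopologicalSpace.Opens.coe_iSup]
      exact isCompact_iUnion fun i => (hW i.succ).isCompact
    have hABc : IsCompact ((W 0 ⊓ ⨆ i : Fin m, W i.succ : U.Opens) : Set U) :=
      QuasiSeparatedSpace.inter_isCompact _ _ (W 0).2 hA.isCompact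
        (⨆ i : Fin m, W i.succ : U.Opens).2 hBc
    haveI : CompactSpace ((W 0 ⊓ ⨆ i : Fin m, W i.succ : U.Opens).toScheme : Scheme.{u}) :=
      isCompact_iff_compactSpace.mp hABc
    haveI : IsSeparated ((W 0 ⊓ ⨆ i : Fin m, W i.succ).ι ≫ j) := by
      have : (W 0 ⊓ ⨆ i : Fin m, W i.succ).ι =
          U.homOfLE (inf_le_left : W 0 ⊓ (⨆ i : Fin m, W i.succ) ≤ W 0) ≫ (W 0).ι :=
        (Scheme.homOfLE_ι _ _).symm
      rw [this, Category.assoc]
      infer_instance
    have sA : FStrat (finP ((W 0).ι ≫ j)) := strat_sep ((W 0).ι ≫ j)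
    have sB : FStrat (finP ((⨆ i : Fin m, W i.succ).ι ≫ j)) :=
      ih (fun i => W i.succ) (fun i => hW i.succ)
    have sC : FStrat (finP ((W 0 ⊓ ⨆ i : Fin m, W i.succ).ι ≫ j)) :=
      strat_sep ((W 0 ⊓ ⨆ i : Fin m, W i.succ).ι ≫ j)
    have s3 := ((sA.inter (finP_stable _) (finP_stable _) sB).inter
      (stable_and (finP_stable _) (finP_stable _)) (finP_stable _) sC)
    refine s3.mono ?_
    rintro T g ⟨⟨hA', hB'⟩, hC'⟩
    set A := W 0 with hAdef
    set B := (⨆ i : Fin m, W i.succ : U.Opens) with hBdef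
    refine finP_of_cover ((A ⊔ B).ι ≫ j) ((A ⊔ B).ι ⁻¹ᵁ A) ((A ⊔ B).ι ⁻¹ᵁ B) ?_ g ?_ ?_ ?_
    · rw [← Scheme.Hom.preimage_sup]
      exact Scheme.Opens.ι_preimage_self (A ⊔ B)
    · rw [← Category.assoc]
      exact finP_of_range_eq j A.ι (((A ⊔ B).ι ⁻¹ᵁ A).ι ≫ (A ⊔ B).ι)
        (range_ι_ι (A ⊔ B) A le_sup_left) g hA'
    · rw [← Category.assoc]
      exact finP_of_range_eq j B.ι (((A ⊔ B).ι ⁻¹ᵁ B).ι ≫ (A ⊔ B).ι)
        (range_ι_ι (A ⊔ B) B le_sup_right) g hB'
    · rw [← Category.assoc]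
      exact finP_of_range_eq j (A ⊓ B).ι (((A ⊔ B).ι ⁻¹ᵁ (A ⊓ B)).ι ≫ (A ⊔ B).ι)
        (range_ι_ι (A ⊔ B) (A ⊓ B) (inf_le_left.trans le_sup_left)) g hC'

theorem exists_finite_affine_cover (U : Scheme.{u}) [CompactSpace U] :
    ∃ (m : ℕ) (W : Fin m → U.Opens), (∀ i, IsAffineOpen (W i)) ∧ (⨆ i, W i) = ⊤ := by
  classical
  have hx : ∀ x : U, ∃ V : U.Opens, IsAffineOpen V ∧ x ∈ V := fun x => by
    obtain ⟨_, ⟨V, hV, rfl⟩, hxV, -⟩ :=
      U.isBasis_affineOpens.exists_subset_of_mem_open (Set.mem_univ x) isOpen_univ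
    exact ⟨V, hV, hxV⟩
  choose V hV hxV using hx
  obtain ⟨s, hs⟩ := isCompact_univ.elim_finite_subcover (fun x => (V x : Set U))
    (fun x => (V x).2) (fun x _ => Set.mem_iUnion.2 ⟨x, hxV x⟩)
  refine ⟨s.card, fun i => V (s.equivFin.symm i), fun i => hV _, ?_⟩
  rw [eq_top_iff]
  intro x _
  obtain ⟨y, hy⟩ := Set.mem_iUnion.1 (hs (Set.mem_univ x))
  obtain ⟨hys, hxy⟩ := Set.mem_iUnion.1 hy
  refine TopologicalSpace.Opens.mem_iSup.2 ⟨s.equivFin ⟨y, hys⟩, ?_⟩
  show x ∈ V ↑(s.equivFin.symm (s.equivFin ⟨y, hys⟩))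
  rw [Equiv.symm_apply_apply]
  exact hxy

theorem main {U : Scheme.{u}} [CompactSpace U] [QuasiSeparatedSpace U] [CompactSpace X]
    [QuasiSeparatedSpace X] (j : U ⟶ X) [Etale j] : FStrat (finP j) := by
  obtain ⟨m, W, hW, hsup⟩ := exists_finite_affine_cover U
  have h := strat_of_affine_cover j m W hW
  rw [hsup] at h
  refine h.mono ?_
  intro T g hg
  haveI : IsIso (⊤ : U.Opens).ι := (inferInstance : IsIso U.topIso.hom)
  have h1 := finP_iso_comp (inv (⊤ : U.Opens).ι) ((⊤ : U.Opens).ι ≫ j) g hg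
  rwa [IsIso.inv_hom_id_assoc] at h1

end H9FE.EtFinMain
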