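import Mathlib
import Groth.Prelude.Def_EtShriek2
import Groth.Agent.S0787
import Groth.Agent.S0791
import Groth.Agent.S0793
import Groth.Agent.S1153
import Groth.Agent.Lib.Helper3.ProperOver

/-! helper9: closed subsets proper over a base — monotonicity, Zariski-locality on the base and
descent along a finite jointly surjective family of étale maps from affines. -/

set_option autoImplicit false
universe u
open CategoryTheory CategoryTheory.Limits AlgebraicGeometry Opposite Groth.Agent.Helper3

namespace H9FE.ProperLoc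

set_option backward.isDefEq.respectTransparency false
set_option linter.style.haveILetI false
set_option linter.unusedSectionVars false

variable {X S : Scheme.{u}}

lemma isProperOver_mono (f : X ⟶ S) {Z Z' : Set X} (hZ : ClSub.IsProperOver f Z)
    (hZ' : IsClosed Z') (hsub : Z' ⊆ Z) : ClSub.IsProperOver f Z' := by
  obtain ⟨hc, hp⟩ := hZ
  rw [isProperOver_iff f Z' hZ']
  have hsub' : (𝟙 X : X ⟶ X) '' Z' ⊆ Z := by
    rintro _ ⟨z, hz, rfl⟩
    exact hsub hz
  let m := redMap (𝟙 X) Z' hZ' Z hc hsub'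
  have e : m ≫ redι Z hc = redι Z' hZ' := by
    have := redMap_fac (𝟙 X) Z' hZ' Z hc hsub'
    rwa [Category.comp_id] at this
  haveI : IsClosedImmersion m := by
    haveI : IsClosedImmersion (m ≫ redι Z hc) := by rw [e]; infer_instance
    exact IsClosedImmersion.of_comp m (redι Z hc)
  have e2 : redι Z' hZ' ≫ f = m ≫ (redι Z hc ≫ f) := by rw [← Category.assoc, e]
  rw [e2]
  haveI := hp
  infer_instance

lemma isProperOver_of_openCover (h : X ⟶ S) [LocallyOfFiniteType h] (Z : Set X) (hZ : IsClosed Z)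
    (𝒰 : S.OpenCover)
    (H : ∀ i, ClSub.IsProperOver (pullback.snd h (𝒰.f i)) ((pullback.fst h (𝒰.f i)).base ⁻¹' Z)) :
    ClSub.IsProperOver h Z := by
  rw [isProperOver_iff h Z hZ]
  apply IsZariskiLocalAtTarget.of_openCover (P := @IsProper) 𝒰
  intro i
  let e := pullbackRightPullbackFstIso h (𝒰.f i) (redι Z hZ)
  let i' := pullback.snd (redι Z hZ) (pullback.fst h (𝒰.f i))
  have hr : Set.range i' = (pullback.fst h (𝒰.f i)).base ⁻¹' Z := by
    rw [Scheme.Pullback.range_snd, range_redι]
  have hp := (isProperOver_iff_of_isClosedImmersion (pullback.snd h (𝒰.f i)) i' _ hr).mp (H i)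
  have e2 : 𝒰.pullbackHom (redι Z hZ ≫ h) i = e.inv ≫ i' ≫ pullback.snd h (𝒰.f i) := by
    simp [e, i', Scheme.Cover.pullbackHom]
  rw [e2]
  infer_instance

lemma isProperOver_of_finite_flat_family (h : X ⟶ S) [LocallyOfFiniteType h] [IsAffine S]
    (Z : Set X) (hZ : IsClosed Z) {T : Type u} [Finite T] (W : T → Scheme.{u})
    [∀ t, IsAffine (W t)] (g : ∀ t, W t ⟶ S) [∀ t, Flat (g t)]
    (hsurj : ∀ s : S, ∃ t, s ∈ Set.range (g t))
    (H : ∀ t, ClSub.IsProperOver (pullback.snd h (g t)) ((pullback.fst h (g t)).base ⁻¹' Z)) :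
    ClSub.IsProperOver h Z := by
  let G : ∐ W ⟶ S := Sigma.desc g
  haveI : Flat G := IsZariskiLocalAtSource.sigmaDesc (fun t => inferInstance)
  haveI : Surjective G := ⟨fun s => by
    obtain ⟨t, w, hw⟩ := hsurj s
    refine ⟨(Sigma.ι W t) w, ?_⟩
    rw [← Scheme.Hom.comp_apply, Sigma.ι_desc]
    exact hw⟩
  haveI : QuasiCompact G := inferInstance
  apply Groth.Agent.S1153.result h Z hZ G
  apply isProperOver_of_openCover (pullback.snd h G) _
    (hZ.preimage (pullback.fst h G).continuous) (sigmaOpenCover W)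
  intro t
  change ClSub.IsProperOver (pullback.snd (pullback.snd h G) (Sigma.ι W t))
    ((pullback.fst (pullback.snd h G) (Sigma.ι W t)).base ⁻¹' ((pullback.fst h G).base ⁻¹' Z))
  have eg : Sigma.ι W t ≫ G = g t := Sigma.ι_desc _ _
  let e := pullbackLeftPullbackSndIso h G (Sigma.ι W t)
  -- e : pullback (pullback.snd h G) (Sigma.ι W t) ≅ pullback h (Sigma.ι W t ≫ G)
  have Ht : ClSub.IsProperOver (pullback.snd h (Sigma.ι W t ≫ G))
      ((pullback.fst h (Sigma.ι W t ≫ G)).base ⁻¹' Z) := by
    have := H t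
    rw [← eg] at this
    exact this
  have sq : IsPullback e.hom (pullback.snd (pullback.snd h G) (Sigma.ι W t))
      (pullback.snd h (Sigma.ι W t ≫ G)) (𝟙 (W t)) :=
    IsPullback.of_horiz_isIso ⟨by simp [e]⟩
  have := Groth.Agent.S0793.result (pullback.snd h (Sigma.ι W t ≫ G)) (𝟙 (W t)) e.hom
    (pullback.snd (pullback.snd h G) (Sigma.ι W t)) sq _ Ht
  convert this using 1
  rw [← Set.preimage_comp, ← Set.preimage_comp]
  have e1 : e.hom ≫ pullback.fst h (Sigma.ι W t ≫ G) =
      pullback.fst (pullback.snd h G) (Sigma.ι W t) ≫ pullback.fst h G := by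
    simp [e]
  ext x
  simp only [Set.mem_preimage, Function.comp_apply]
  rw [← Scheme.Hom.comp_apply, ← Scheme.Hom.comp_apply, e1]

end H9FE.ProperLoc
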