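import Mathlib
import Groth.Prelude.Def_EtShriek2
import Groth.Agent.S0072
import Groth.Agent.S0680
import Groth.Agent.S0671
import Groth.Agent.S0728
import Groth.Agent.S0793
import Groth.Agent.Lib.Helper3.ProperOver
import Groth.Agent.Lib.Helper9.FE.EtClopenLiftF
import Groth.Agent.Lib.Helper9.FE.FinGeoPt
import Groth.Agent.Lib.Helper9.FE.ProperLoc
import Groth.Agent.Lib.Helper9.FE.AbCoprod

/-! helper9: the stalk of `f_!` for separated locally quasi-finite `f` (basic lemmas) -/

set_option autoImplicit false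
open CategoryTheory CategoryTheory.Limits AlgebraicGeometry Opposite
universe u

namespace H9FE.ShriekStalk

set_option backward.isDefEq.respectTransparency false
set_option linter.style.haveILetI false
set_option linter.unusedSectionVars false

open EtShriek Groth.Agent.Lib.Helper5 Groth.Agent.S0728 Groth.Agent.S0072.Aux Groth.Agent.Helper3

/-- over an algebraically closed field every point of a locally quasi-finite scheme is the image
of a section -/
theorem exists_section_lqf {Ω : Type u} [Field Ω] [IsAlgClosed Ω] {P : Scheme.{u}}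
    (π : P ⟶ Spec (CommRingCat.of Ω)) [LocallyQuasiFinite π] (p : P) :
    ∃ σ : Spec (CommRingCat.of Ω) ⟶ P, σ ≫ π = 𝟙 _ ∧ ∀ a, σ a = p := by
  obtain ⟨O, hO, hp⟩ : ∃ O : P.Opens, IsAffineOpen O ∧ p ∈ O := by
    obtain ⟨_, ⟨O, hO, rfl⟩, hp, -⟩ := P.isBasis_affineOpens.exists_subset_of_mem_open
      (Set.mem_univ p) isOpen_univ
    exact ⟨O, hO, hp⟩
  haveI : IsAffine (O : Scheme.{u}) := hO
  haveI : IsFinite (O.ι ≫ π) := IsFinite.of_locallyQuasiFinite (O.ι ≫ π)
  obtain ⟨σ, hσ1, hσ2⟩ := FinGeoPt.exists_section (O.ι ≫ π) ⟨p, hp⟩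
  refine ⟨σ ≫ O.ι, by rw [Category.assoc, hσ1], fun a => ?_⟩
  rw [Scheme.Hom.comp_apply, hσ2 a]
  rfl

/-- over an algebraically closed field, every point of the fibre of a locally quasi-finite
morphism is the image of a geometric point over the given one -/
theorem exists_lift_lqf {X Y : Scheme.{u}} (f : X ⟶ Y) [LocallyQuasiFinite f] {Ω : Type u}
    [Field Ω] [IsAlgClosed Ω] (η : Spec (CommRingCat.of Ω) ⟶ Y) (x : X)
    (hx : ∀ a, f x = η a) :
    ∃ ξ : Spec (CommRingCat.of Ω) ⟶ X, ξ ≫ f = η ∧ ∀ a, ξ a = x := by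
  obtain ⟨p, hp1, hp2⟩ := Scheme.Pullback.exists_preimage_pullback (f := f) (g := η) x
    (default : Spec (CommRingCat.of Ω)) (hx _)
  obtain ⟨σ, hσ1, hσ2⟩ := exists_section_lqf (pullback.snd f η) p
  refine ⟨σ ≫ pullback.fst f η, ?_, ?_⟩
  · rw [Category.assoc, pullback.condition, ← Category.assoc, hσ1, Category.id_comp]
  · intro a
    rw [Scheme.Hom.comp_apply, hσ2 a, hp1]

/-- a morphism from a reduced scheme with image in a closed subset factors through the reduced
induced subscheme -/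
theorem exists_redLift {X T : Scheme.{u}} [IsReduced T] (ζ : T ⟶ X) (Z : Set X) (h : IsClosed Z)
    (hζ : Set.range ζ ⊆ Z) : ∃ ζ' : T ⟶ redSub Z h, ζ' ≫ redι Z h = ζ := by
  refine ⟨IsClosedImmersion.lift (redι Z h) ζ ?_, IsClosedImmersion.lift_fac _ _ _⟩
  rw [Scheme.IdealSheafData.ker_subschemeι, ← Scheme.IdealSheafData.map_bot,
    ← Scheme.nilradical_eq_bot, ← Scheme.IdealSheafData.vanishingIdeal_top,
    Scheme.IdealSheafData.map_vanishingIdeal]
  apply Scheme.IdealSheafData.vanishingIdeal_antimono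
  refine TopologicalSpace.Closeds.closure_le.mpr ?_
  rintro _ ⟨t, -, rfl⟩
  exact hζ ⟨t, rfl⟩

variable {X Y : Scheme.{u}} (f : X ⟶ Y)

/-- a section whose support lies in a closed subset proper over `V` is a section of `f_!` -/
theorem shriekPred_of_subset_proper [LocallyOfFiniteType f] (F : EtCoh.Ab X) (V : Y.Etale)
    (s : EtCoh.sect F ((EtCoh.bc f).obj V)) (Z : Set ((EtCoh.bc f).obj V).left)
    (hs : sectSupp F _ s ⊆ Z) (hZ : ClSub.IsProperOver (prV f V) Z) : ShriekPred f F V s := by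
  intro V' φ
  refine ⟨((EtCoh.bc f).map φ).left.base ⁻¹' Z, mapsTo F _ Z s hs, ?_⟩
  exact Groth.Agent.S0793.result (prV f V) φ.left ((EtCoh.bc f).map φ).left (prV f V')
    (EtCoh.isPullback_bc_map f φ) Z hZ


variable {Ω : Type u} [Field Ω] [IsSepClosed Ω] (η : Spec (CommRingCat.of Ω) ⟶ Y)
  (F : EtCoh.Ab X)

/-- the stalk at `η` of the presheaf of sections with proper support -/
noncomputable abbrev St : AddCommGrpCat.{u + 1} :=
  (Scheme.pointSmallEtale η).presheafFiber.obj (lowerShriekPre f F)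

/-- the comparison map from the stalk of `f_! F` at `η` to the stalk of `F` at `ξ` -/
noncomputable def phiS (ξ : Spec (CommRingCat.of Ω) ⟶ X) (hξ : ξ ≫ f = η) :
    St f η F ⟶ (EtCoh.stalk ξ).obj F :=
  (Scheme.pointSmallEtale η).presheafFiber.map (lowerShriekPreι f F) ≫ phi f η F ξ hξ

lemma phiS_germ (ξ : Spec (CommRingCat.of Ω) ⟶ X) (hξ : ξ ≫ f = η) (V : Y.Etale)
    (v : (Scheme.pointSmallEtale η).fiber.obj V) (s : shriekSubgroup f F V) :
    phiS f η F ξ hξ ((Scheme.pointSmallEtale η).toPresheafFiber V v (lowerShriekPre f F) s) =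
      (Scheme.pointSmallEtale ξ).toPresheafFiber ((EtCoh.bc f).obj V) (liftPt f η ξ hξ V v)
        F.obj s.1 := by
  have h1 := ConcreteCategory.congr_hom
    ((Scheme.pointSmallEtale η).toPresheafFiber_naturality (lowerShriekPreι f F) V v) s
  simp only [ConcreteCategory.comp_apply] at h1
  change phi f η F ξ hξ (((Scheme.pointSmallEtale η).presheafFiber.map (lowerShriekPreι f F))
    ((Scheme.pointSmallEtale η).toPresheafFiber V v (lowerShriekPre f F) s)) = _
  rw [h1]
  exact phi_germ f η F ξ hξ V v s.1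

/-- a germ at a lifted point vanishes when the point is off the support -/
lemma germ_eq_zero_of_not_mem (ξ : Spec (CommRingCat.of Ω) ⟶ X) (U : X.Etale)
    (x : (Scheme.pointSmallEtale ξ).fiber.obj U) (s : EtCoh.sect F U)
    (hx : x.left (default : Spec (CommRingCat.of Ω)) ∉ sectSupp F U s) :
    (Scheme.pointSmallEtale ξ).toPresheafFiber U x F.obj s = 0 := by
  by_contra hne
  apply hx
  rintro W g ⟨w, hw⟩ h0
  apply hne
  obtain ⟨y, hy, -⟩ := EtStalk.exists_lift_fiber ξ g x w hw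
  have w1 := ConcreteCategory.congr_hom
    ((Scheme.pointSmallEtale ξ).toPresheafFiber_w g y F.obj) s
  simp only [ConcreteCategory.comp_apply] at w1
  rw [hy] at w1
  rw [← w1, h0, map_zero]

/-- the support of a section of `f_!` is proper over the base -/
lemma isProperOver_sectSupp [LocallyOfFiniteType f] (V : Y.Etale)
    (s : EtCoh.sect F ((EtCoh.bc f).obj V)) (hs : s ∈ shriekSubgroup f F V) :
    ClSub.IsProperOver (prV f V) (sectSupp F ((EtCoh.bc f).obj V) s) := by
  have hcl := (Groth.Agent.S0671.result F).1 _ s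
  have hS := Groth.Agent.S0680.Aux.shriekPred_of_mem f F V s hs
  obtain ⟨Z, hZ, hp⟩ := hS V (𝟙 V)
  have e : F.obj.map ((EtCoh.bc f).map (𝟙 V)).op s = s := by
    rw [CategoryTheory.Functor.map_id, op_id, CategoryTheory.Functor.map_id]
    rfl
  rw [e] at hZ
  exact ProperLoc.isProperOver_mono _ hp hcl hZ

theorem phiS_injective [LocallyOfFiniteType f] [LocallyQuasiFinite f] (hac : IsAlgClosed Ω)
    (a : St f η F)
    (ha : ∀ (ξ : Spec (CommRingCat.of Ω) ⟶ X) (hξ : ξ ≫ f = η), phiS f η F ξ hξ a = 0) :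
    a = 0 := by
  haveI := EtStalk.pfc.{u}
  obtain ⟨V, v, ⟨s, hs⟩, rfl⟩ := (Scheme.pointSmallEtale η).toPresheafFiber_jointly_surjective
    (P := lowerShriekPre f F) a
  let XV : X.Etale := (EtCoh.bc f).obj V
  let Sg : Set XV.left := sectSupp F XV s
  have hSp : ClSub.IsProperOver (prV f V) Sg := isProperOver_sectSupp f F V s hs
  obtain ⟨hcl, hprop⟩ := hSp
  let v₀ : V.left := v.left (default : Spec (CommRingCat.of Ω))
  -- the image of the support is closed
  have hC : IsClosed ((prV f V).base '' Sg) := by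
    have h1 : (prV f V).base '' Sg = Set.range (redι Sg hcl ≫ prV f V).base := by
      rw [Scheme.Hom.comp_base, TopCat.coe_comp, Set.range_comp]
      congr 1
      exact (range_redι Sg hcl).symm
    rw [h1]
    exact (redι Sg hcl ≫ prV f V).isClosedMap.isClosed_range
  -- and does not contain `v₀`
  have hv₀ : v₀ ∉ (prV f V).base '' Sg := by
    rintro ⟨z, hzS, hzv⟩
    obtain ⟨ζ, hζ1, hζ2⟩ := @exists_lift_lqf _ _ (prV f V) _ Ω _ hac v.left z
      (fun a => by
        rw [Subsingleton.elim a (default : Spec (CommRingCat.of Ω))]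
        exact hzv)
    have hξ : (ζ ≫ pullback.snd V.hom f) ≫ f = η := by
      rw [Category.assoc, ← pullback.condition, ← Category.assoc, hζ1]
      exact Over.w v
    have e1 : (liftPt f η _ hξ V v).left = ζ := by
      rw [liftPt_left]
      apply pullback.hom_ext
      · rw [pullback.lift_fst, hζ1]
      · rw [pullback.lift_snd]
    have h0 := ha _ hξ
    rw [phiS_germ] at h0
    have h0' : (Scheme.pointSmallEtale (ζ ≫ pullback.snd V.hom f)).toPresheafFiber XV
        (liftPt f η _ hξ V v) F.obj s =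
        (Scheme.pointSmallEtale (ζ ≫ pullback.snd V.hom f)).toPresheafFiber XV
        (liftPt f η _ hξ V v) F.obj 0 := h0.trans (map_zero _).symm
    rw [(Scheme.pointSmallEtale (ζ ≫ pullback.snd V.hom f)).toPresheafFiber_eq_iff'] at h0'
    obtain ⟨U, k, uu, hk, hres⟩ := h0'
    have e2 : uu.left ≫ k.left = ζ := (congrArg (fun a => a.left) hk).trans e1
    refine hzS U k ⟨uu.left (default : Spec (CommRingCat.of Ω)), ?_⟩ (hres.trans (map_zero _))
    exact (congrArg (fun m => m.base (default : Spec (CommRingCat.of Ω))) e2).trans (hζ2 _)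
  let O : V.left.Opens := ⟨((prV f V).base '' Sg)ᶜ, hC.isOpen_compl⟩
  let V' : Y.Etale := restrictOpen V O
  let ι : V' ⟶ V := restrictOpenι V O
  obtain ⟨v'l, hv'l⟩ := lift_open O v.left hv₀
  have hv'w : v'l ≫ V'.hom = η := by
    change v'l ≫ O.ι ≫ V.hom = η
    rw [← Category.assoc, hv'l]
    exact Over.w v
  let v' : (Scheme.pointSmallEtale η).fiber.obj V' := Over.homMk v'l hv'w
  have hv' : (Scheme.pointSmallEtale η).fiber.map ι v' = v := by
    apply Over.OverMorphism.ext
    exact hv'l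
  have w := ConcreteCategory.congr_hom
    ((Scheme.pointSmallEtale η).toPresheafFiber_w ι v' (lowerShriekPre f F)) ⟨s, hs⟩
  simp only [ConcreteCategory.comp_apply] at w
  rw [hv'] at w
  rw [← w]
  have hz : (lowerShriekPre f F).map ι.op ⟨s, hs⟩ = 0 := by
    apply Subtype.ext
    change F.obj.map ((EtCoh.bc f).map ι).op s = 0
    refine restrict_eq_zero F s Sg subset_rfl ((EtCoh.bc f).map ι) (fun w' hw' => ?_)
    have h2 : (prV f V) (((EtCoh.bc f).map ι).left w') ∈ (prV f V).base '' Sg := ⟨_, hw', rfl⟩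
    rw [← Scheme.Hom.comp_apply, bc_map_fst, Scheme.Hom.comp_apply] at h2
    exact restrictOpenι_left_apply V O _ h2
  rw [hz, map_zero]


theorem phiS_finite [LocallyOfFiniteType f] [LocallyQuasiFinite f] (a : St f η F) :
    {ξ : {ξ : Spec (CommRingCat.of Ω) ⟶ X // ξ ≫ f = η} | phiS f η F ξ.1 ξ.2 a ≠ 0}.Finite := by
  haveI := EtStalk.pfc.{u}
  obtain ⟨V, v, ⟨s, hs⟩, rfl⟩ := (Scheme.pointSmallEtale η).toPresheafFiber_jointly_surjective
    (P := lowerShriekPre f F) a
  let XV : X.Etale := (EtCoh.bc f).obj V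
  let Sg : Set XV.left := sectSupp F XV s
  obtain ⟨hcl, hprop⟩ := isProperOver_sectSupp f F V s hs
  let π : redSub Sg hcl ⟶ V.left := redι Sg hcl ≫ prV f V
  haveI : IsProper π := hprop
  haveI : LocallyQuasiFinite π := inferInstance
  haveI : IsFinite π := IsFinite.of_isProper_of_locallyQuasiFinite π
  haveI := FinGeoPt.finite_lifts π v.left
  have key : ∀ ξ : {ξ : Spec (CommRingCat.of Ω) ⟶ X // ξ ≫ f = η},
      phiS f η F ξ.1 ξ.2 ((Scheme.pointSmallEtale η).toPresheafFiber V v (lowerShriekPre f F)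
        ⟨s, hs⟩) ≠ 0 →
      ∃ ζ' : Spec (CommRingCat.of Ω) ⟶ redSub Sg hcl,
        ζ' ≫ redι Sg hcl = (liftPt f η ξ.1 ξ.2 V v).left := by
    intro ξ hne
    apply exists_redLift
    rintro _ ⟨t, rfl⟩
    rw [Subsingleton.elim t (default : Spec (CommRingCat.of Ω))]
    by_contra hx
    apply hne
    rw [phiS_germ]
    exact germ_eq_zero_of_not_mem F ξ.1 XV _ s hx
  rw [← Set.finite_coe_iff]
  let G : ↥{ξ : {ξ : Spec (CommRingCat.of Ω) ⟶ X // ξ ≫ f = η} | phiS f η F ξ.1 ξ.2
      ((Scheme.pointSmallEtale η).toPresheafFiber V v (lowerShriekPre f F) ⟨s, hs⟩) ≠ 0} →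
      {ζ' : Spec (CommRingCat.of Ω) ⟶ redSub Sg hcl // ζ' ≫ π = v.left} := fun ξ =>
    ⟨Classical.choose (key ξ.1 ξ.2), by
      change Classical.choose (key ξ.1 ξ.2) ≫ redι Sg hcl ≫ prV f V = _
      rw [← Category.assoc, Classical.choose_spec (key ξ.1 ξ.2), liftPt_left, pullback.lift_fst]⟩
  refine Finite.of_injective G ?_
  intro ξ₁ ξ₂ h
  apply Subtype.ext
  apply Subtype.ext
  have h' : Classical.choose (key ξ₁.1 ξ₁.2) = Classical.choose (key ξ₂.1 ξ₂.2) :=
    congrArg Subtype.val h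
  have h'' := congrArg (fun z => (z ≫ redι Sg hcl) ≫ pullback.snd V.hom f) h'
  simp only at h''
  rw [Classical.choose_spec (key ξ₁.1 ξ₁.2), Classical.choose_spec (key ξ₂.1 ξ₂.2), liftPt_left,
    liftPt_left, pullback.lift_snd, pullback.lift_snd] at h''
  exact h''


theorem phiS_single [IsSeparated f] [LocallyOfFiniteType f] [LocallyQuasiFinite f]
    (ξ₀ : Spec (CommRingCat.of Ω) ⟶ X) (hξ₀ : ξ₀ ≫ f = η) (t₀ : (EtCoh.stalk ξ₀).obj F) :
    ∃ a : St f η F, phiS f η F ξ₀ hξ₀ a = t₀ ∧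
      ∀ (ξ : Spec (CommRingCat.of Ω) ⟶ X) (hξ : ξ ≫ f = η), ξ ≠ ξ₀ → phiS f η F ξ hξ a = 0 := by
  haveI := EtStalk.pfc.{u}
  obtain ⟨U, u, τ, rfl⟩ := (Scheme.pointSmallEtale ξ₀).toPresheafFiber_jointly_surjective
    (P := F.obj) t₀
  haveI : Etale U.hom := U.prop
  obtain ⟨U₀, hU₀, huU₀⟩ : ∃ U₀ : U.left.Opens, IsAffineOpen U₀ ∧
      u.left (default : Spec (CommRingCat.of Ω)) ∈ U₀ := by
    obtain ⟨_, ⟨U₀, hU₀, rfl⟩, hu, -⟩ := U.left.isBasis_affineOpens.exists_subset_of_mem_open
      (Set.mem_univ (u.left (default : Spec (CommRingCat.of Ω)))) isOpen_univ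
    exact ⟨U₀, hU₀, hu⟩
  haveI : IsAffine (U₀ : Scheme.{u}) := hU₀
  let t : (U₀ : Scheme.{u}) ⟶ X := U₀.ι ≫ U.hom
  haveI : LocallyQuasiFinite t := EtClopenLift.locallyQuasiFinite_of_etale t
  obtain ⟨u', hu'⟩ := lift_open U₀ u.left huU₀
  have hu't : u' ≫ t = ξ₀ := by
    rw [← Category.assoc, hu']
    exact Over.w u
  obtain ⟨V, p, v, hp, hv, W, h, hWc, hWh, hWfin, ⟨c, hc1, hc2⟩, huniq⟩ :=
    EtClopenLiftF.mainF f t u' ((t ≫ f).quasiFiniteAt _)
  haveI := hp
  have hvη : v ≫ p = η := by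
    rw [hv, ← Category.assoc, hu't, hξ₀]
  let Vo : Y.Etale := EtSiteBasic.ofEtale p
  let vpt : (Scheme.pointSmallEtale η).fiber.obj Vo := Over.homMk v hvη
  let XV : X.Etale := (EtCoh.bc f).obj Vo
  let σ : pullback f p ≅ pullback p f := pullbackSymmetry f p
  have hσ1 : σ.hom ≫ pullback.snd p f = pullback.fst f p := pullbackSymmetry_hom_comp_snd f p
  have hσ2 : σ.hom ≫ pullback.fst p f = pullback.snd f p := pullbackSymmetry_hom_comp_fst f p
  have hσ3 : σ.inv ≫ pullback.fst f p = pullback.snd p f := pullbackSymmetry_inv_comp_fst f p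
  have hσ4 : σ.inv ≫ pullback.snd f p = pullback.fst p f := pullbackSymmetry_inv_comp_snd f p
  let W' : XV.left.Opens := σ.inv ⁻¹ᵁ W
  have hW'c : IsClosed (W' : Set XV.left) := hWc.preimage σ.inv.continuous
  let W'c : XV.left.Opens := ⟨(W' : Set XV.left)ᶜ, hW'c.isOpen_compl⟩
  let D : X.Etale := restrictOpen XV W'
  let Dc : X.Etale := restrictOpen XV W'c
  -- the map `D ⟶ U`
  have hrW : Set.range (W'.ι ≫ σ.inv).base ⊆ Set.range W.ι.base := by
    rintro _ ⟨n, rfl⟩
    rw [Scheme.Opens.range_ι]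
    exact n.2
  let rW : (W' : Scheme.{u}) ⟶ (W : Scheme.{u}) := IsOpenImmersion.lift W.ι (W'.ι ≫ σ.inv) hrW
  have hrWf : rW ≫ W.ι = W'.ι ≫ σ.inv := IsOpenImmersion.lift_fac _ _ _
  have hDhom : D.hom = W'.ι ≫ pullback.snd p f := rfl
  have hm : (rW ≫ h ≫ U₀.ι) ≫ U.hom = D.hom := by
    rw [hDhom, Category.assoc, Category.assoc]
    change rW ≫ h ≫ t = _
    rw [hWh, ← Category.assoc, hrWf, Category.assoc, hσ3]
  let hD : D ⟶ U := MorphismProperty.Over.homMk (rW ≫ h ≫ U₀.ι) hm trivial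
  obtain ⟨s, hs1, hs2⟩ := glue_clopen F XV W' W'c
    (by
      rw [Set.disjoint_left]
      intro x hx hxc
      exact hxc hx)
    (fun x => by
      by_cases hx : x ∈ W'
      · exact Or.inl hx
      · exact Or.inr hx)
    (F.obj.map hD.op τ)
  -- `s` has proper support
  have hsupp : sectSupp F XV s ⊆ (W' : Set XV.left) := by
    intro x hx
    by_contra hxW
    have hxc : x ∈ W'c := hxW
    refine hx Dc (restrictOpenι XV W'c) ⟨⟨x, hxc⟩, rfl⟩ hs2
  haveI : IsClosedImmersion W'.ι := IsClosedImmersion.of_isPreimmersion W'.ι (by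
    rw [Scheme.Opens.range_ι]
    exact hW'c)
  have hfin' : IsFinite (W'.ι ≫ prV f Vo) := by
    have e : W'.ι ≫ prV f Vo = (σ.inv ∣_ W) ≫ W.ι ≫ pullback.snd f p := by
      rw [← Category.assoc, morphismRestrict_ι, Category.assoc, hσ4]
      rfl
    rw [e]
    infer_instance
  have hWp : ClSub.IsProperOver (prV f Vo) (W' : Set XV.left) :=
    isProperOver_of_isClosedImmersion (prV f Vo) W'.ι _ (Scheme.Opens.range_ι W') inferInstance
  have hsP : ShriekPred f F Vo s := shriekPred_of_subset_proper f F Vo s _ hsupp hWp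
  have hsm : s ∈ shriekSubgroup f F Vo := AddSubgroup.subset_closure hsP
  refine ⟨(Scheme.pointSmallEtale η).toPresheafFiber Vo vpt (lowerShriekPre f F) ⟨s, hsm⟩, ?_, ?_⟩
  · rw [phiS_germ]
    -- the geometric point in `D`
    have hcW' : (c ≫ W.ι ≫ σ.hom) (default : Spec (CommRingCat.of Ω)) ∈ W' := by
      change σ.inv ((c ≫ W.ι ≫ σ.hom) default) ∈ W
      rw [← Scheme.Hom.comp_apply]
      simp only [Category.assoc, Iso.hom_inv_id, Category.comp_id]
      rw [Scheme.Hom.comp_apply]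
      exact (c default).2
    obtain ⟨c', hc'⟩ := lift_open W' (c ≫ W.ι ≫ σ.hom) hcW'
    have hcξ : c ≫ W.ι ≫ pullback.fst f p = ξ₀ := by
      rw [← hWh, ← Category.assoc, hc1, hu't]
    have hd : c' ≫ D.hom = ξ₀ := by
      rw [hDhom, ← Category.assoc, hc']
      simp only [Category.assoc, hσ1]
      exact hcξ
    let d : (Scheme.pointSmallEtale ξ₀).fiber.obj D := Over.homMk c' hd
    have hd1 : (Scheme.pointSmallEtale ξ₀).fiber.map (restrictOpenι XV W') d =
        liftPt f η ξ₀ hξ₀ Vo vpt := by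
      apply Over.OverMorphism.ext
      change c' ≫ W'.ι = (liftPt f η ξ₀ hξ₀ Vo vpt).left
      rw [liftPt_left, hc']
      apply pullback.hom_ext
      · refine Eq.trans ?_ (pullback.lift_fst _ _ _).symm
        change (c ≫ W.ι ≫ σ.hom) ≫ pullback.fst p f = v
        rw [Category.assoc, Category.assoc, hσ2]
        exact hc2
      · refine Eq.trans ?_ (pullback.lift_snd _ _ _).symm
        change (c ≫ W.ι ≫ σ.hom) ≫ pullback.snd p f = ξ₀
        rw [Category.assoc, Category.assoc, hσ1]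
        exact hcξ
    have hcr : c' ≫ rW = c := by
      apply (cancel_mono W.ι).1
      rw [Category.assoc, hrWf, ← Category.assoc, hc']
      simp only [Category.assoc, Iso.hom_inv_id, Category.comp_id]
    have hd2 : (Scheme.pointSmallEtale ξ₀).fiber.map hD d = u := by
      apply Over.OverMorphism.ext
      change c' ≫ rW ≫ h ≫ U₀.ι = u.left
      rw [← Category.assoc, hcr, ← Category.assoc, hc1, hu']
    have w1 := ConcreteCategory.congr_hom
      ((Scheme.pointSmallEtale ξ₀).toPresheafFiber_w (restrictOpenι XV W') d F.obj) s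
    simp only [ConcreteCategory.comp_apply] at w1
    rw [hd1] at w1
    refine w1.symm.trans ?_
    rw [hs1]
    have w2 := ConcreteCategory.congr_hom
      ((Scheme.pointSmallEtale ξ₀).toPresheafFiber_w hD d F.obj) τ
    simp only [ConcreteCategory.comp_apply] at w2
    rw [hd2] at w2
    exact w2
  · intro ξ hξ hne
    rw [phiS_germ]
    let L : Spec (CommRingCat.of Ω) ⟶ pullback p f := (liftPt f η ξ hξ Vo vpt).left
    have hL1 : L ≫ pullback.fst p f = v := by
      change (liftPt f η ξ hξ Vo vpt).left ≫ _ = _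
      rw [liftPt_left]
      exact pullback.lift_fst _ _ _
    have hL2 : L ≫ pullback.snd p f = ξ := by
      change (liftPt f η ξ hξ Vo vpt).left ≫ _ = _
      rw [liftPt_left]
      exact pullback.lift_snd _ _ _
    have hLc : L (default : Spec (CommRingCat.of Ω)) ∈ W'c := by
      intro hLW
      apply hne
      obtain ⟨c₂', hc₂'⟩ := lift_open W' L hLW
      have e1 : (c₂' ≫ rW) ≫ W.ι ≫ pullback.snd f p = v := by
        rw [Category.assoc, ← Category.assoc rW, hrWf]
        simp only [Category.assoc, hσ4]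
        rw [← Category.assoc, hc₂', hL1]
      have e2 := huniq (c₂' ≫ rW) c e1 hc2
      have hcξ : c ≫ W.ι ≫ pullback.fst f p = ξ₀ := by
        rw [← hWh, ← Category.assoc, hc1, hu't]
      rw [← hL2, ← hc₂', ← hcξ, ← e2]
      simp only [Category.assoc]
      rw [← Category.assoc rW, hrWf]
      simp only [Category.assoc, hσ3]
    apply germ_eq_zero_of_not_mem
    intro hmem
    exact hLc (hsupp hmem)


/-- the stalk of `f_! F` is the stalk of the presheaf of sections with proper support -/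
noncomputable def stalkIso :
    (EtCoh.stalk η).obj ((lowerShriek f).obj F) ≅ St f η F :=
  ((Scheme.pointSmallEtale η).presheafToSheafCompSheafFiberIso AddCommGrpCat.{u + 1}).app
    (lowerShriekPre f F)

theorem main [IsSeparated f] [LocallyOfFiniteType f] [LocallyQuasiFinite f] (hac : IsAlgClosed Ω) :
    Nonempty ((EtCoh.stalk η).obj ((lowerShriek f).obj F) ≅
      ∐ fun ξ : {ξ : Spec (CommRingCat.of Ω) ⟶ X // ξ ≫ f = η} => (EtCoh.stalk ξ.1).obj F) := by
  obtain ⟨e⟩ := AbCoprod.iso_coprod.{u + 1, u} (St f η F)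
    (fun ξ : {ξ : Spec (CommRingCat.of Ω) ⟶ X // ξ ≫ f = η} => (EtCoh.stalk ξ.1).obj F)
    (fun ξ => phiS f η F ξ.1 ξ.2)
    (fun a ha => phiS_injective f η F hac a (fun ξ hξ => ha ⟨ξ, hξ⟩))
    (fun a => phiS_finite f η F a)
    (fun ξ z => by
      obtain ⟨a, ha1, ha2⟩ := phiS_single f η F ξ.1 ξ.2 z
      exact ⟨a, ha1, fun j hj => ha2 j.1 j.2 (fun h => hj (Subtype.ext h))⟩)
  exact ⟨stalkIso f η F ≪≫ e⟩

end H9FE.ShriekStalk
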