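import Mathlib
import Groth.Prelude.Def_EtShriek2
import Groth.Agent.S0728
import Groth.Agent.S0680
import Groth.Agent.Lib.Helper3.ProperOver
import Groth.Agent.Lib.Helper9.FE.ShriekStalk

/-! helper9: miscellaneous lemmas on closed subsets proper over a base, supports of sections and
membership in the group of sections with proper support -/

set_option autoImplicit false
open CategoryTheory CategoryTheory.Limits AlgebraicGeometry Opposite
universe u

namespace H9FE.ProperOverMisc

set_option backward.isDefEq.respectTransparency false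
set_option linter.style.haveILetI false
set_option linter.unusedSectionVars false

open EtShriek Groth.Agent.S0728 Groth.Agent.Helper3

variable {A B S T : Scheme.{u}}

/-- composing with a proper morphism does not change properness of a closed subset -/
lemma isProperOver_comp_iff (g : B ⟶ S) (h : S ⟶ T) [IsProper h] (Z : Set B) :
    ClSub.IsProperOver (g ≫ h) Z ↔ ClSub.IsProperOver g Z := by
  constructor
  · rintro ⟨hcl, hp⟩
    refine ⟨hcl, ?_⟩
    rw [← Category.assoc] at hp
    exact IsProper.comp_iff.1 hp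
  · rintro ⟨hcl, hp⟩
    refine ⟨hcl, ?_⟩
    rw [← Category.assoc]
    exact IsProper.comp_iff.2 hp

/-- transport of properness along an isomorphism of the source -/
lemma isProperOver_iso (σ : A ≅ B) (g : B ⟶ S) (Z : Set B) (hZ : ClSub.IsProperOver g Z) :
    ClSub.IsProperOver (σ.hom ≫ g) (σ.hom.base ⁻¹' Z) := by
  obtain ⟨hcl, hp⟩ := hZ
  refine isProperOver_of_isClosedImmersion (σ.hom ≫ g) (redι Z hcl ≫ σ.inv) _ ?_ ?_
  · ext a
    constructor
    · rintro ⟨t, rfl⟩
      change σ.hom ((redι Z hcl ≫ σ.inv) t) ∈ Z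
      rw [← Scheme.Hom.comp_apply, Category.assoc, Iso.inv_hom_id, Category.comp_id]
      have : redι Z hcl t ∈ Set.range (redι Z hcl) := ⟨t, rfl⟩
      rwa [range_redι] at this
    · intro ha
      have ha' : σ.hom a ∈ Set.range (redι Z hcl) := by
        rw [range_redι]
        exact ha
      obtain ⟨t, ht⟩ := ha'
      refine ⟨t, ?_⟩
      rw [Scheme.Hom.comp_apply, ht, ← Scheme.Hom.comp_apply, Iso.hom_inv_id]
      rfl
  · have e : (redι Z hcl ≫ σ.inv) ≫ σ.hom ≫ g = redι Z hcl ≫ g := by
      rw [Category.assoc, Iso.inv_hom_id_assoc]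
    rw [e]
    exact hp

lemma isProperOver_iso_iff (σ : A ≅ B) (g : B ⟶ S) (Z : Set B) :
    ClSub.IsProperOver (σ.hom ≫ g) (σ.hom.base ⁻¹' Z) ↔ ClSub.IsProperOver g Z := by
  refine ⟨fun h => ?_, isProperOver_iso σ g Z⟩
  have := isProperOver_iso σ.symm (σ.hom ≫ g) _ h
  have e1 : σ.symm.hom ≫ σ.hom ≫ g = g := by
    change σ.inv ≫ σ.hom ≫ g = g
    rw [Iso.inv_hom_id_assoc]
  have e2 : σ.symm.hom.base ⁻¹' (σ.hom.base ⁻¹' Z) = Z := by
    ext b
    change σ.hom (σ.inv b) ∈ Z ↔ b ∈ Z
    rw [← Scheme.Hom.comp_apply, Iso.inv_hom_id]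
    rfl
  rw [e1, e2] at this
  exact this

variable {X Y : Scheme.{u}}

/-- the support of the restriction of a section along an isomorphism -/
lemma sectSupp_map_iso (F : EtCoh.Ab X) {U U' : X.Etale} (θ : U' ≅ U) (s : EtCoh.sect F U) :
    sectSupp F U' (F.obj.map θ.hom.op s) = θ.hom.left.base ⁻¹' sectSupp F U s := by
  apply Set.Subset.antisymm
  · exact mapsTo F θ.hom _ s subset_rfl
  · exact Groth.Agent.S0680.Aux.preimage_sectSupp_subset F θ.hom s

/-- membership in the group of sections with proper support -/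
lemma mem_shriekSubgroup_iff (f : X ⟶ Y) [LocallyOfFiniteType f] (F : EtCoh.Ab X) (V : Y.Etale)
    (s : EtCoh.sect F ((EtCoh.bc f).obj V)) :
    s ∈ shriekSubgroup f F V ↔
      ClSub.IsProperOver (prV f V) (sectSupp F ((EtCoh.bc f).obj V) s) :=
  ⟨fun h => ShriekStalk.isProperOver_sectSupp f F V s h,
    fun h => AddSubgroup.subset_closure
      (ShriekStalk.shriekPred_of_subset_proper f F V s _ subset_rfl h)⟩

end H9FE.ProperOverMisc
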