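import Mathlib
import Groth.Prelude.Def_EtShriek2
import Groth.Agent.Lib.Helper3.ProperOver
import Groth.Agent.Lib.Helper9.FE.ProperOverMisc

/-! helper9: images of closed subsets proper over a base, and properness along a composition -/

set_option autoImplicit false
open CategoryTheory CategoryTheory.Limits AlgebraicGeometry Opposite
universe u

namespace H9FE.ProperImage

set_option backward.isDefEq.respectTransparency false
set_option linter.style.haveILetI false
set_option linter.unusedSectionVars false

open Groth.Agent.Helper3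

variable {A B S : Scheme.{u}} (q : A ⟶ B) (p : B ⟶ S)

/-- a closed subset proper over `S` is proper over any separated `S`-scheme it maps to -/
lemma isProperOver_of_comp [IsSeparated p] (Z : Set A) (hZ : ClSub.IsProperOver (q ≫ p) Z) :
    ClSub.IsProperOver q Z := by
  obtain ⟨hcl, hp⟩ := hZ
  refine ⟨hcl, ?_⟩
  rw [← Category.assoc] at hp
  exact IsProper.of_comp _ p

/-- the image of a closed subset proper over `S` in a separated `S`-scheme is closed -/
lemma isClosed_image [IsSeparated p] (Z : Set A) (hZ : ClSub.IsProperOver (q ≫ p) Z) :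
    IsClosed (q.base '' Z) := by
  obtain ⟨hcl, hp⟩ := isProperOver_of_comp q p Z hZ
  have h1 : q.base '' Z = Set.range (redι Z hcl ≫ q).base := by
    rw [Scheme.Hom.comp_base, TopCat.coe_comp, Set.range_comp]
    congr 1
    exact (range_redι Z hcl).symm
  rw [h1]
  exact (redι Z hcl ≫ q).isClosedMap.isClosed_range

/-- the map of reduced subschemes onto the image is proper -/
lemma redMap_isProper (Z : Set A) (hcl : IsClosed Z) (hq : IsProper (redι Z hcl ≫ q))
    (C : Set B) (hC : IsClosed C) (hZC : q.base '' Z ⊆ C) :
    IsProper (redMap q Z hcl C hC hZC) := by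
  haveI : IsProper (redMap q Z hcl C hC hZC ≫ redι C hC) := by
    rw [redMap_fac]
    exact hq
  exact IsProper.of_comp _ (redι C hC)

/-- the image of a closed subset proper over `S` in a separated `S`-scheme locally of finite type
is proper over `S` -/
lemma isProperOver_image [IsSeparated p] [LocallyOfFiniteType p] (Z : Set A)
    (hZ : ClSub.IsProperOver (q ≫ p) Z) : ClSub.IsProperOver p (q.base '' Z) := by
  have hC := isClosed_image q p Z hZ
  obtain ⟨hcl, hq⟩ := isProperOver_of_comp q p Z hZ
  obtain ⟨_, hqp⟩ := hZ
  refine ⟨hC, ?_⟩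
  haveI := redMap_isProper q Z hcl hq _ hC subset_rfl
  have hsurj := redMap_surjective q Z hcl _ hC rfl
  refine isProper_of_jointly_surjective (ι := Unit) (fun _ => redMap q Z hcl _ hC subset_rfl)
    (fun t => ⟨(), hsurj t⟩) (redι _ hC ≫ p) (fun _ => ?_)
  rw [redMap_fac_assoc]
  exact hqp

/-- properness along a composition -/
lemma isProperOver_comp_iff' [IsSeparated p] [LocallyOfFiniteType p] (Z : Set A) :
    ClSub.IsProperOver (q ≫ p) Z ↔
      ClSub.IsProperOver q Z ∧ ClSub.IsProperOver p (q.base '' Z) := by
  constructor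
  · intro h
    exact ⟨isProperOver_of_comp q p Z h, isProperOver_image q p Z h⟩
  · rintro ⟨⟨hcl, hq⟩, ⟨hC, hp⟩⟩
    refine ⟨hcl, ?_⟩
    haveI := redMap_isProper q Z hcl hq _ hC subset_rfl
    have e : redι Z hcl ≫ q ≫ p = redMap q Z hcl _ hC subset_rfl ≫ redι _ hC ≫ p := by
      rw [redMap_fac_assoc]
    rw [e]
    infer_instance

end H9FE.ProperImage
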