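import Mathlib
import Groth.Prelude.Def_EtShriek2
import Groth.Agent.S0072
import Groth.Agent.S0728
import Groth.Agent.Lib.Helper5.Misc.EtGlue

/-! helper9: extension by zero of a section from a clopen piece of an étale scheme -/

set_option autoImplicit false
open CategoryTheory CategoryTheory.Limits AlgebraicGeometry Opposite
universe u

namespace H9FE.ExtClopen

set_option backward.isDefEq.respectTransparency false
set_option linter.style.haveILetI false
set_option linter.unusedSectionVars false

open EtShriek Groth.Agent.Lib.Helper5 Groth.Agent.S0728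

variable {X : Scheme.{u}} (F : EtCoh.Ab X) {V P : X.Etale} (γ : V ⟶ P)

/-- the complement of the (closed) range of `γ` -/
def complOpen (hcl : IsClosed (Set.range γ.left)) : P.left.Opens :=
  ⟨(Set.range γ.left)ᶜ, hcl.isOpen_compl⟩

lemma range_restrictOpenι (O : P.left.Opens) :
    Set.range (restrictOpenι P O).left = (O : Set P.left) := by
  change Set.range O.ι = _
  exact Scheme.Opens.range_ι O

theorem exists_ext [Mono γ.left] (hcl : IsClosed (Set.range γ.left)) (s : EtCoh.sect F V) :
    ∃ t : EtCoh.sect F P, F.obj.map γ.op t = s ∧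
      F.obj.map (restrictOpenι P (complOpen γ hcl)).op t = 0 := by
  let Fs : EtDesc.Sh X := (sheafCompose X.smallEtaleTopology (forget AddCommGrpCat.{u + 1})).obj F
  let Oc := complOpen γ hcl
  let Wf : Bool → X.Etale := fun b => Bool.rec (restrictOpen P Oc) V b
  let wf : ∀ b, Wf b ⟶ P := fun b =>
    Bool.rec (motive := fun b => Wf b ⟶ P) (restrictOpenι P Oc) γ b
  let xf : ∀ b, Fs.obj.obj (op (Wf b)) := fun b =>
    Bool.rec (motive := fun b => Fs.obj.obj (op (Wf b))) (0 : EtCoh.sect F (restrictOpen P Oc)) s b
  have hrOc : Set.range (restrictOpenι P Oc).left = (Set.range γ.left)ᶜ :=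
    range_restrictOpenι Oc
  obtain ⟨t, ht⟩ := EtGlue.glue_disjoint Fs Wf wf
    (fun b => by
      cases b
      · change Mono Oc.ι
        infer_instance
      · change Mono γ.left
        infer_instance)
    (fun a b hab => by
      cases a <;> cases b
      · exact absurd rfl hab
      · change Disjoint (Set.range (restrictOpenι P Oc).left) (Set.range γ.left)
        rw [hrOc]
        exact disjoint_compl_left
      · change Disjoint (Set.range γ.left) (Set.range (restrictOpenι P Oc).left)
        rw [hrOc]
        exact disjoint_compl_right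
      · exact absurd rfl hab)
    (fun p => by
      by_cases h : p ∈ Set.range γ.left
      · exact ⟨true, h⟩
      · refine ⟨false, ?_⟩
        change p ∈ Set.range (restrictOpenι P Oc).left
        rw [hrOc]
        exact h) xf
  exact ⟨t, ht true, ht false⟩

theorem ext_unique (hcl : IsClosed (Set.range γ.left)) (t t' : EtCoh.sect F P)
    (h1 : F.obj.map γ.op t = F.obj.map γ.op t')
    (h2 : F.obj.map (restrictOpenι P (complOpen γ hcl)).op t =
      F.obj.map (restrictOpenι P (complOpen γ hcl)).op t') : t = t' := by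
  apply sect_ext_local
  intro p
  by_cases h : p ∈ Set.range γ.left
  · obtain ⟨v, hv⟩ := h
    exact ⟨V, γ, v, hv, h1⟩
  · exact ⟨restrictOpen P (complOpen γ hcl), restrictOpenι P (complOpen γ hcl), ⟨p, h⟩, rfl, h2⟩

/-- the extension by zero -/
noncomputable def ext [Mono γ.left] (hcl : IsClosed (Set.range γ.left)) (s : EtCoh.sect F V) :
    EtCoh.sect F P :=
  (exists_ext F γ hcl s).choose

lemma ext_res [Mono γ.left] (hcl : IsClosed (Set.range γ.left)) (s : EtCoh.sect F V) :
    F.obj.map γ.op (ext F γ hcl s) = s :=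
  (exists_ext F γ hcl s).choose_spec.1

lemma ext_compl [Mono γ.left] (hcl : IsClosed (Set.range γ.left)) (s : EtCoh.sect F V) :
    F.obj.map (restrictOpenι P (complOpen γ hcl)).op (ext F γ hcl s) = 0 :=
  (exists_ext F γ hcl s).choose_spec.2

lemma ext_eq [Mono γ.left] (hcl : IsClosed (Set.range γ.left)) (s : EtCoh.sect F V)
    (t : EtCoh.sect F P) (h1 : F.obj.map γ.op t = s)
    (h2 : F.obj.map (restrictOpenι P (complOpen γ hcl)).op t = 0) : t = ext F γ hcl s :=
  ext_unique F γ hcl _ _ (h1.trans (ext_res F γ hcl s).symm)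
    (h2.trans (ext_compl F γ hcl s).symm)

lemma ext_add [Mono γ.left] (hcl : IsClosed (Set.range γ.left)) (s s' : EtCoh.sect F V) :
    ext F γ hcl (s + s') = ext F γ hcl s + ext F γ hcl s' := by
  symm
  apply ext_eq
  · rw [map_add, ext_res, ext_res]
  · rw [map_add, ext_compl, ext_compl, add_zero]

lemma sectSupp_ext_subset [Mono γ.left] (hcl : IsClosed (Set.range γ.left)) (s : EtCoh.sect F V) :
    sectSupp F P (ext F γ hcl s) ⊆ Set.range γ.left := by
  intro x hx
  by_contra hxW
  exact hx (restrictOpen P (complOpen γ hcl)) (restrictOpenι P (complOpen γ hcl))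
    ⟨⟨x, hxW⟩, rfl⟩ (ext_compl F γ hcl s)

/-- naturality in the sheaf -/
lemma ext_app [Mono γ.left] (hcl : IsClosed (Set.range γ.left)) {G : EtCoh.Ab X} (α : F ⟶ G)
    (s : EtCoh.sect F V) :
    α.hom.app (op P) (ext F γ hcl s) = ext G γ hcl (α.hom.app (op V) s) := by
  apply ext_eq
  · have := ConcreteCategory.congr_hom (α.hom.naturality γ.op) (ext F γ hcl s)
    simp only [ConcreteCategory.comp_apply] at this
    rw [← this, ext_res]
  · have := ConcreteCategory.congr_hom
      (α.hom.naturality (restrictOpenι P (complOpen γ hcl)).op) (ext F γ hcl s)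
    simp only [ConcreteCategory.comp_apply] at this
    rw [← this, ext_compl, map_zero]

/-- naturality with respect to a square which is cartesian on points -/
lemma ext_map {V' P' : X.Etale} (γ' : V' ⟶ P') [Mono γ.left] [Mono γ'.left]
    (hcl : IsClosed (Set.range γ.left)) (hcl' : IsClosed (Set.range γ'.left))
    (h : V' ⟶ V) (k : P' ⟶ P) (hsq : γ' ≫ k = h ≫ γ)
    (hpre : ∀ x' : P'.left, k.left x' ∈ Set.range γ.left → x' ∈ Set.range γ'.left)
    (s : EtCoh.sect F V) :
    F.obj.map k.op (ext F γ hcl s) = ext F γ' hcl' (F.obj.map h.op s) := by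
  apply ext_eq
  · rw [← map_comp_apply, hsq, map_comp_apply, ext_res]
  · rw [← map_comp_apply]
    refine restrict_eq_zero F (ext F γ hcl s) _ (sectSupp_ext_subset F γ hcl s) _ (fun w hw => ?_)
    have h1 : (restrictOpenι P' (complOpen γ' hcl')).left w ∈ Set.range γ'.left := hpre _ hw
    exact restrictOpenι_left_apply P' (complOpen γ' hcl') w h1

end H9FE.ExtClopen
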