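import Mathlib
import Groth.Prelude.Def_EtShriek2
import Groth.Agent.S0680

/-! helper9: `f_!` as the sheaf of sections with proper support (no sheafification), and the
comparison with `EtShriek.lowerShriek` -/

set_option autoImplicit false
open CategoryTheory CategoryTheory.Limits AlgebraicGeometry Opposite
universe u

namespace H9FE.ShriekSh

set_option backward.isDefEq.respectTransparency false
set_option linter.style.haveILetI false
set_option linter.unusedSectionVars false

open EtShriek

variable {X Y : Scheme.{u}} (f : X ⟶ Y) [LocallyOfFiniteType f]

/-- `f_!` without sheafification -/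
noncomputable def lowerShriekSh : EtCoh.Ab X ⥤ EtCoh.Ab Y where
  obj F := ⟨lowerShriekPre f F, Groth.Agent.S0680.result f F⟩
  map α := ⟨(lowerShriekPreFunctor f).map α⟩
  map_id F := by
    ext : 1
    exact (lowerShriekPreFunctor f).map_id F
  map_comp α β := by
    ext : 1
    exact (lowerShriekPreFunctor f).map_comp α β

/-- the underlying presheaf functor -/
noncomputable def lowerShriekShForget :
    lowerShriekSh f ⋙ sheafToPresheaf _ _ ≅ lowerShriekPreFunctor f :=
  NatIso.ofComponents (fun F => Iso.refl _) (by
    intro F G α
    simp only [Iso.refl_hom, Category.comp_id, Category.id_comp]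
    rfl)

/-- `f_!` is the sheaf of sections with proper support -/
noncomputable def lowerShriekShIso : lowerShriek f ≅ lowerShriekSh f :=
  Functor.isoWhiskerRight (lowerShriekShForget f).symm (presheafToSheaf _ _) ≪≫
    Functor.associator _ _ _ ≪≫
    Functor.isoWhiskerLeft (lowerShriekSh f)
      (sheafificationNatIso Y.smallEtaleTopology AddCommGrpCat.{u + 1}).symm ≪≫
    Functor.rightUnitor _

@[simp]
lemma lowerShriekSh_obj_obj (F : EtCoh.Ab X) :
    ((lowerShriekSh f).obj F).obj = lowerShriekPre f F := rfl

end H9FE.ShriekSh
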