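import Mathlib
import Groth.Prelude.Def_EtShriek2
import Groth.Agent.Lib.Helper9.FE.ExtClopen
import Groth.Agent.Lib.Helper9.FE.ShriekSh
import Groth.Agent.Lib.Helper9.FE.ShriekStalk

/-! helper9: the unit `F ⟶ j⁻¹ j_! F` for a separated étale morphism `j` (extension by zero off
the graph), and the induced comparison `extZero j ⟶ j_!` -/

set_option autoImplicit false
open CategoryTheory CategoryTheory.Limits AlgebraicGeometry Opposite
universe u

namespace H9FE.ShriekEtUnit

set_option backward.isDefEq.respectTransparency false
set_option linter.style.haveILetI false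
set_option linter.unusedSectionVars false

open EtShriek Groth.Agent.Lib.Helper5 Groth.Agent.S0728 Groth.Agent.S0072.Aux H9FE.ShriekStalk
  H9FE.ExtClopen H9FE.ShriekSh Groth.Agent.Helper3

variable {U X : Scheme.{u}} (j : U ⟶ X) [Etale j]

/-- `V ×_X U` as an étale `U`-scheme -/
noncomputable abbrev PV (V : U.Etale) : U.Etale := (EtCoh.bc j).obj ((compEtale j).obj V)

/-- the graph `V ⟶ V ×_X U` -/
noncomputable def graph (V : U.Etale) : V ⟶ PV j V :=
  MorphismProperty.Over.homMk
    (pullback.lift (𝟙 V.left) V.hom (by simp) : V.left ⟶ pullback (V.hom ≫ j) j)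
    (pullback.lift_snd _ _ _) trivial

lemma graph_left (V : U.Etale) :
    (graph j V).left = pullback.lift (𝟙 V.left) V.hom (by simp) := rfl

@[reassoc]
lemma graph_fst (V : U.Etale) :
    (graph j V).left ≫ (pullback.fst (V.hom ≫ j) j) = 𝟙 V.left := by
  rw [graph_left]
  exact pullback.lift_fst _ _ _

@[reassoc]
lemma graph_snd (V : U.Etale) :
    (graph j V).left ≫ (pullback.snd (V.hom ≫ j) j) = V.hom := by
  rw [graph_left]
  exact pullback.lift_snd _ _ _

instance graph_mono (V : U.Etale) : Mono (graph j V).left :=
  mono_of_mono_fac (graph_fst j V)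

instance graph_isOpenImmersion (V : U.Etale) : IsOpenImmersion (graph j V).left :=
  IsOpenImmersion.of_flat_of_mono _

instance graph_isClosedImmersion [IsSeparated j] (V : U.Etale) :
    IsClosedImmersion (graph j V).left := by
  haveI : IsClosedImmersion ((graph j V).left ≫ (pullback.fst (V.hom ≫ j) j)) := by
    rw [graph_fst]
    infer_instance
  exact IsClosedImmersion.of_comp (graph j V).left (pullback.fst (V.hom ≫ j) j)

lemma graph_isClosed [IsSeparated j] (V : U.Etale) : IsClosed (Set.range (graph j V).left) :=
  (graph j V).left.isClosedEmbedding.isClosed_range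

lemma graph_naturality {V V' : U.Etale} (h : V' ⟶ V) :
    graph j V' ≫ (EtCoh.bc j).map ((compEtale j).map h) = h ≫ graph j V := by
  apply MorphismProperty.Over.Hom.ext
  change (graph j V').left ≫ ((EtCoh.bc j).map ((compEtale j).map h)).left =
    h.left ≫ (graph j V).left
  have a1 : (graph j V').left ≫ pullback.fst ((compEtale j).obj V').hom j = 𝟙 _ := graph_fst j V'
  have a2 : (graph j V).left ≫ pullback.fst ((compEtale j).obj V).hom j = 𝟙 _ := graph_fst j V
  have b1 : (graph j V').left ≫ pullback.snd ((compEtale j).obj V').hom j = V'.hom := graph_snd j V'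
  have b2 : (graph j V).left ≫ pullback.snd ((compEtale j).obj V).hom j = V.hom := graph_snd j V
  apply pullback.hom_ext
  · rw [Category.assoc, Category.assoc]
    refine (congrArg (fun z => (graph j V').left ≫ z)
      (bc_map_fst j ((compEtale j).map h))).trans ?_
    refine (Category.assoc _ _ _).symm.trans ?_
    refine (congrArg (fun z => z ≫ ((compEtale j).map h).left) a1).trans ?_
    refine (Category.id_comp _).trans ?_
    refine Eq.trans ?_ (congrArg (fun z => h.left ≫ z) a2).symm
    rw [Category.comp_id]
    rfl
  · rw [Category.assoc, Category.assoc]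
    refine (congrArg (fun z => (graph j V').left ≫ z)
      (bc_map_snd j ((compEtale j).map h))).trans ?_
    refine b1.trans ?_
    refine Eq.trans ?_ (congrArg (fun z => h.left ≫ z) b2).symm
    exact (Over.w h.hom).symm


/-- the naturality square of graphs is cartesian on points -/
lemma graph_preimage {V V' : U.Etale} (h : V' ⟶ V) (x' : (PV j V').left)
    (hx : ((EtCoh.bc j).map ((compEtale j).map h)).left x' ∈ Set.range (graph j V).left) :
    x' ∈ Set.range (graph j V').left := by
  let k := (EtCoh.bc j).map ((compEtale j).map h)
  let xt : Spec ((PV j V').left.residueField x') ⟶ (PV j V').left :=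
    (PV j V').left.fromSpecResidueField x'
  have hxt : ∀ a, xt a = x' := by
    intro a
    have : xt a ∈ Set.range xt := ⟨a, rfl⟩
    rw [Scheme.range_fromSpecResidueField] at this
    exact this
  let m : Spec ((PV j V').left.residueField x') ⟶ (PV j V).left := xt ≫ k.left
  have hrange : Set.range m.base ⊆ Set.range (graph j V).left.base := by
    rintro _ ⟨a, rfl⟩
    change (xt ≫ k.left) a ∈ _
    rw [Scheme.Hom.comp_apply, hxt a]
    exact hx
  let c : Spec ((PV j V').left.residueField x') ⟶ V.left :=
    IsOpenImmersion.lift (graph j V).left m hrange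
  have hc : c ≫ (graph j V).left = m := IsOpenImmersion.lift_fac _ _ _
  have a1 : (graph j V').left ≫ pullback.fst ((compEtale j).obj V').hom j = 𝟙 _ := graph_fst j V'
  have a2 : (graph j V).left ≫ pullback.fst ((compEtale j).obj V).hom j = 𝟙 _ := graph_fst j V
  have b1 : (graph j V').left ≫ pullback.snd ((compEtale j).obj V').hom j = V'.hom := graph_snd j V'
  have b2 : (graph j V).left ≫ pullback.snd ((compEtale j).obj V).hom j = V.hom := graph_snd j V
  have kf : k.left ≫ pullback.fst ((compEtale j).obj V).hom j =
      pullback.fst ((compEtale j).obj V').hom j ≫ h.left := bc_map_fst j ((compEtale j).map h)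
  have ks : k.left ≫ pullback.snd ((compEtale j).obj V).hom j =
      pullback.snd ((compEtale j).obj V').hom j := bc_map_snd j ((compEtale j).map h)
  have hc1 : c = xt ≫ pullback.fst ((compEtale j).obj V').hom j ≫ h.left := by
    have := congrArg (fun z => z ≫ pullback.fst ((compEtale j).obj V).hom j) hc
    simp only [Category.assoc] at this
    rw [a2, Category.comp_id] at this
    rw [this]
    change (xt ≫ k.left) ≫ _ = _
    rw [Category.assoc, kf]
  have hc2 : c ≫ V.hom = xt ≫ pullback.snd ((compEtale j).obj V').hom j := by
    have := congrArg (fun z => z ≫ pullback.snd ((compEtale j).obj V).hom j) hc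
    simp only [Category.assoc] at this
    rw [b2] at this
    rw [this]
    change (xt ≫ k.left) ≫ _ = _
    rw [Category.assoc, ks]
  let c' : Spec ((PV j V').left.residueField x') ⟶ V'.left :=
    xt ≫ pullback.fst ((compEtale j).obj V').hom j
  have hfin : c' ≫ (graph j V').left = xt := by
    apply pullback.hom_ext
    · rw [Category.assoc, a1, Category.comp_id]
    · rw [Category.assoc, b1, ← hc2, hc1]
      simp only [Category.assoc]
      have e : h.left ≫ V.hom = V'.hom := Over.w h.hom
      rw [e]
      rfl
  obtain ⟨a⟩ : Nonempty (Spec ((PV j V').left.residueField x')) := inferInstance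
  refine ⟨c' a, ?_⟩
  rw [← Scheme.Hom.comp_apply, hfin, hxt]


variable [IsSeparated j] (F : EtCoh.Ab U)

lemma graph_isProperOver (V : U.Etale) :
    ClSub.IsProperOver (prV j ((compEtale j).obj V)) (Set.range (graph j V).left) := by
  refine isProperOver_of_isClosedImmersion _ (graph j V).left _ rfl ?_
  have : (graph j V).left ≫ prV j ((compEtale j).obj V) = 𝟙 _ := graph_fst j V
  rw [this]
  infer_instance

lemma sigma_mem (V : U.Etale) (s : EtCoh.sect F V) :
    ExtClopen.ext F (graph j V) (graph_isClosed j V) s ∈
      shriekSubgroup j F ((compEtale j).obj V) :=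
  AddSubgroup.subset_closure (shriekPred_of_subset_proper j F _ _ _
    (sectSupp_ext_subset F (graph j V) (graph_isClosed j V) s) (graph_isProperOver j V))

/-- the section of `j_! F` over `V → U → X` extending `s` by zero off the graph -/
noncomputable def sigma (V : U.Etale) :
    EtCoh.sect F V →+ shriekSubgroup j F ((compEtale j).obj V) :=
  AddMonoidHom.mk' (fun s => ⟨ExtClopen.ext F (graph j V) (graph_isClosed j V) s, sigma_mem j F V s⟩)
    (fun s s' => Subtype.ext (ext_add F (graph j V) (graph_isClosed j V) s s'))

lemma sigma_val (V : U.Etale) (s : EtCoh.sect F V) :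
    (sigma j F V s).1 = ExtClopen.ext F (graph j V) (graph_isClosed j V) s := rfl

variable [JCont j]

/-- the unit `F ⟶ j⁻¹ j_! F` -/
noncomputable def unit : F ⟶ (restrAlong j).obj ((lowerShriekSh j).obj F) :=
  ⟨{ app := fun V => AddCommGrpCat.ofHom (sigma j F V.unop)
     naturality := by
       intro V V' h
       ext s
       apply Subtype.ext
       exact (ext_map F (graph j V.unop) (graph j V'.unop) (graph_isClosed j V.unop)
         (graph_isClosed j V'.unop) h.unop ((EtCoh.bc j).map ((compEtale j).map h.unop))
         (graph_naturality j h.unop) (graph_preimage j h.unop) s).symm }⟩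

lemma unit_app (V : U.Etale) (s : EtCoh.sect F V) :
    (unit j F).hom.app (op V) s = sigma j F V s := rfl

lemma unit_natural {F G : EtCoh.Ab U} (α : F ⟶ G) :
    unit j F ≫ (restrAlong j).map ((lowerShriekSh j).map α) = α ≫ unit j G := by
  ext V s
  apply Subtype.ext
  exact ext_app F (graph j V.unop) (graph_isClosed j V.unop) α s

/-- the comparison `extZero j ⟶ j_!` -/
noncomputable def tau : extZero j ⟶ lowerShriekSh j where
  app F := (extZero j).map (unit j F) ≫ (extZeroAdj j).counit.app _
  naturality F G α := by
    have h1 := (extZeroAdj j).counit.naturality ((lowerShriekSh j).map α)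
    simp only [Functor.comp_map, Functor.id_map] at h1
    rw [Category.assoc, ← h1, ← Category.assoc, ← Category.assoc, ← Functor.map_comp,
      ← Functor.map_comp, unit_natural]

lemma tau_app (F : EtCoh.Ab U) :
    (tau j).app F = ((extZeroAdj j).homEquiv F _).symm (unit j F) := by
  rw [Adjunction.homEquiv_counit]
  rfl

end H9FE.ShriekEtUnit
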