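import Mathlib
import Groth.Prelude.Def_EtShriek2
import Groth.Agent.Lib.Helper9.FE.ShriekEtUnit
import Groth.Agent.Lib.Helper5.Misc.EtStalkShriek

/-! helper9: the comparison `extZero j ⟶ j_!` is an isomorphism on stalks (separated étale `j`) -/

set_option autoImplicit false
open CategoryTheory CategoryTheory.Limits AlgebraicGeometry Opposite
universe u

namespace H9FE.ShriekEtStalk

set_option backward.isDefEq.respectTransparency false
set_option linter.style.haveILetI false
set_option linter.unusedSectionVars false

open EtShriek Groth.Agent.Lib.Helper5 Groth.Agent.S0728 Groth.Agent.S0072.Aux H9FE.ShriekStalk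
  H9FE.ExtClopen H9FE.ShriekSh H9FE.ShriekEtUnit Groth.Agent.Lib.Helper5.EtStalkShriek

variable {U X : Scheme.{u}} (j : U ⟶ X) [Etale j] [IsSeparated j] [JCont j]
  {Ω : Type u} [Field Ω] [IsSepClosed Ω] (η : Spec (CommRingCat.of Ω) ⟶ X) (F : EtCoh.Ab U)

/-- the inclusion of the stalk at a lift `u` into the stalk of `j_! F` -/
noncomputable def psi (u : Lifts j η) : (EtCoh.stalk u.1).obj F ⟶ St j η F :=
  (Scheme.pointSmallEtale u.1).presheafFiberDesc (P := F.obj)
    (fun V v => (unit j F).hom.app (op V) ≫
      (Scheme.pointSmallEtale η).toPresheafFiber ((compEtale j).obj V) ((incl j η u).app V v)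
        (lowerShriekPre j F))
    (by
      intro V' V h v'
      have h1 := (unit j F).hom.naturality h.op
      have h2 := (Scheme.pointSmallEtale η).toPresheafFiber_w ((compEtale j).map h)
        ((incl j η u).app V' v') (lowerShriekPre j F)
      have h3 := ConcreteCategory.congr_hom ((incl j η u).naturality h) v'
      refine (Category.assoc _ _ _).symm.trans ?_
      refine (congrArg (fun z => z ≫ (Scheme.pointSmallEtale η).toPresheafFiber
        ((compEtale j).obj V') ((incl j η u).app V' v') (lowerShriekPre j F)) h1).trans ?_
      refine (Category.assoc _ _ _).trans ?_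
      refine (congrArg (fun z => (unit j F).hom.app (op V) ≫ z) h2).trans ?_
      exact congrArg (fun z => (unit j F).hom.app (op V) ≫
        (Scheme.pointSmallEtale η).toPresheafFiber ((compEtale j).obj V) z
          (lowerShriekPre j F)) h3.symm)


lemma psi_germ (u : Lifts j η) (V : U.Etale) (v : (Scheme.pointSmallEtale u.1).fiber.obj V)
    (s : EtCoh.sect F V) :
    psi j η F u ((Scheme.pointSmallEtale u.1).toPresheafFiber V v F.obj s) =
      (Scheme.pointSmallEtale η).toPresheafFiber ((compEtale j).obj V) ((incl j η u).app V v)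
        (lowerShriekPre j F) (sigma j F V s) := by
  have := ConcreteCategory.congr_hom
    ((Scheme.pointSmallEtale u.1).toPresheafFiber_presheafFiberDesc (P := F.obj)
      (fun V v => (unit j F).hom.app (op V) ≫
        (Scheme.pointSmallEtale η).toPresheafFiber ((compEtale j).obj V) ((incl j η u).app V v)
          (lowerShriekPre j F))
      (by
        intro V' V h v'
        have h1 := (unit j F).hom.naturality h.op
        have h2 := (Scheme.pointSmallEtale η).toPresheafFiber_w ((compEtale j).map h)
          ((incl j η u).app V' v') (lowerShriekPre j F)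
        have h3 := ConcreteCategory.congr_hom ((incl j η u).naturality h) v'
        refine (Category.assoc _ _ _).symm.trans ?_
        refine (congrArg (fun z => z ≫ (Scheme.pointSmallEtale η).toPresheafFiber
          ((compEtale j).obj V') ((incl j η u).app V' v') (lowerShriekPre j F)) h1).trans ?_
        refine (Category.assoc _ _ _).trans ?_
        refine (congrArg (fun z => (unit j F).hom.app (op V) ≫ z) h2).trans ?_
        exact congrArg (fun z => (unit j F).hom.app (op V) ≫
          (Scheme.pointSmallEtale η).toPresheafFiber ((compEtale j).obj V) z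
            (lowerShriekPre j F)) h3.symm) V v) s
  simp only [ConcreteCategory.comp_apply] at this
  exact this

lemma incl_left (u : Lifts j η) (V : U.Etale) (v : (Scheme.pointSmallEtale u.1).fiber.obj V) :
    ((incl j η u).app V v).left = v.left := rfl

lemma liftPt_incl (u : Lifts j η) (V : U.Etale) (v : (Scheme.pointSmallEtale u.1).fiber.obj V) :
    liftPt j η u.1 u.2 ((compEtale j).obj V) ((incl j η u).app V v) =
      (Scheme.pointSmallEtale u.1).fiber.map (graph j V) v := by
  apply Over.OverMorphism.ext
  change (liftPt j η u.1 u.2 ((compEtale j).obj V) ((incl j η u).app V v)).left =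
    v.left ≫ (graph j V).left
  rw [liftPt_left]
  have a2 : (graph j V).left ≫ pullback.fst ((compEtale j).obj V).hom j = 𝟙 _ := graph_fst j V
  have b2 : (graph j V).left ≫ pullback.snd ((compEtale j).obj V).hom j = V.hom := graph_snd j V
  apply pullback.hom_ext
  · rw [pullback.lift_fst, Category.assoc, a2]
    exact (Category.comp_id _).symm
  · rw [pullback.lift_snd, Category.assoc, b2]
    exact (Over.w v).symm

lemma phiS_psi_same (u : Lifts j η) (t : (EtCoh.stalk u.1).obj F) :
    phiS j η F u.1 u.2 (psi j η F u t) = t := by
  haveI := EtStalk.pfc.{u}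
  obtain ⟨V, v, s, rfl⟩ := (Scheme.pointSmallEtale u.1).toPresheafFiber_jointly_surjective
    (P := F.obj) t
  rw [psi_germ, phiS_germ, liftPt_incl, sigma_val]
  have w1 := ConcreteCategory.congr_hom
    ((Scheme.pointSmallEtale u.1).toPresheafFiber_w (graph j V) v F.obj)
    (ExtClopen.ext F (graph j V) (graph_isClosed j V) s)
  simp only [ConcreteCategory.comp_apply] at w1
  rw [← w1, ext_res]

lemma phiS_psi_ne (u u' : Lifts j η) (hne : u' ≠ u) (t : (EtCoh.stalk u.1).obj F) :
    phiS j η F u'.1 u'.2 (psi j η F u t) = 0 := by
  haveI := EtStalk.pfc.{u}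
  obtain ⟨V, v, s, rfl⟩ := (Scheme.pointSmallEtale u.1).toPresheafFiber_jointly_surjective
    (P := F.obj) t
  rw [psi_germ, phiS_germ, sigma_val]
  apply germ_eq_zero_of_not_mem
  intro hmem
  have hmem' := sectSupp_ext_subset F (graph j V) (graph_isClosed j V) s hmem
  apply hne
  apply Subtype.ext
  let L : Spec (CommRingCat.of Ω) ⟶ (PV j V).left :=
    (liftPt j η u'.1 u'.2 ((compEtale j).obj V) ((incl j η u).app V v)).left
  have hL1 : L ≫ pullback.fst ((compEtale j).obj V).hom j = v.left := by
    change (liftPt j η u'.1 u'.2 ((compEtale j).obj V) ((incl j η u).app V v)).left ≫ _ = _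
    rw [liftPt_left, pullback.lift_fst]
    rfl
  have hL2 : L ≫ pullback.snd ((compEtale j).obj V).hom j = u'.1 := by
    change (liftPt j η u'.1 u'.2 ((compEtale j).obj V) ((incl j η u).app V v)).left ≫ _ = _
    rw [liftPt_left, pullback.lift_snd]
  have hrange : Set.range L.base ⊆ Set.range (graph j V).left.base := by
    rintro _ ⟨a, rfl⟩
    rw [Subsingleton.elim a (default : Spec (CommRingCat.of Ω))]
    exact hmem'
  let c : Spec (CommRingCat.of Ω) ⟶ V.left := IsOpenImmersion.lift (graph j V).left L hrange
  have hc : c ≫ (graph j V).left = L := IsOpenImmersion.lift_fac _ _ _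
  have a2 : (graph j V).left ≫ pullback.fst ((compEtale j).obj V).hom j = 𝟙 _ := graph_fst j V
  have b2 : (graph j V).left ≫ pullback.snd ((compEtale j).obj V).hom j = V.hom := graph_snd j V
  have hcv : c = v.left := by
    rw [← hL1, ← hc, Category.assoc, a2, Category.comp_id]
  rw [← hL2, ← hc, Category.assoc, b2, hcv]
  exact Over.w v

end H9FE.ShriekEtStalk
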