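import Mathlib

/-! helper9: over an algebraically closed field, geometric points lift along integral morphisms. -/

set_option autoImplicit false
universe u
open CategoryTheory CategoryTheory.Limits AlgebraicGeometry Opposite

namespace H9FE.IntGeoPt

set_option backward.isDefEq.respectTransparency false
set_option linter.style.haveILetI false
set_option linter.unusedSectionVars false

/-- ring-level: over an algebraically closed field every prime of an integral algebra is the kernel
of a retraction -/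
theorem exists_retraction {Ω : Type u} [Field Ω] [IsAlgClosed Ω] (B : CommRingCat.{u})
    (φ : CommRingCat.of Ω ⟶ B) (hφ : φ.hom.IsIntegral) (𝔭 : Ideal B) [𝔭.IsPrime] :
    ∃ χ : B ⟶ CommRingCat.of Ω, φ ≫ χ = 𝟙 _ ∧ RingHom.ker χ.hom = 𝔭 := by
  algebraize [φ.hom]
  haveI : Algebra.IsIntegral Ω B := ⟨hφ⟩
  haveI : Algebra.IsIntegral Ω (B ⧸ 𝔭) := inferInstance
  have hbij : Function.Bijective (algebraMap Ω (B ⧸ 𝔭)) :=
    IsAlgClosed.algebraMap_bijective_of_isIntegral
  let eq : Ω ≃+* (B ⧸ 𝔭) := RingEquiv.ofBijective (algebraMap Ω (B ⧸ 𝔭)) hbij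
  let χ : B →+* Ω := (eq.symm : (B ⧸ 𝔭) →+* Ω).comp (Ideal.Quotient.mk 𝔭)
  refine ⟨CommRingCat.ofHom χ, ?_, ?_⟩
  · ext r
    change eq.symm (Ideal.Quotient.mk 𝔭 (algebraMap Ω B r)) = r
    have : Ideal.Quotient.mk 𝔭 (algebraMap Ω B r) = eq r := rfl
    rw [this, RingEquiv.symm_apply_apply]
  · ext b
    change eq.symm (Ideal.Quotient.mk 𝔭 b) = 0 ↔ b ∈ 𝔭
    rw [map_eq_zero_iff _ eq.symm.injective, Ideal.Quotient.eq_zero_iff_mem]

/-- over an algebraically closed field every point of an integral scheme over the field is the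
image of a section -/
theorem exists_section {Ω : Type u} [Field Ω] [IsAlgClosed Ω] {P : Scheme.{u}}
    (π : P ⟶ Spec (CommRingCat.of Ω)) [IsIntegralHom π] (p : P) :
    ∃ σ : Spec (CommRingCat.of Ω) ⟶ P, σ ≫ π = 𝟙 _ ∧ ∀ a, σ a = p := by
  haveI : IsAffine P := isAffine_of_isAffineHom π
  obtain ⟨φ, hφ⟩ := Spec.map_surjective (P.isoSpec.inv ≫ π)
  have hint : φ.hom.IsIntegral := by
    rw [← IsIntegralHom.SpecMap_iff, hφ]
    infer_instance
  let q : PrimeSpectrum Γ(P, ⊤) := P.isoSpec.hom p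
  obtain ⟨χ, hχ1, hχ2⟩ := exists_retraction Γ(P, ⊤) φ hint q.asIdeal
  refine ⟨Spec.map χ ≫ P.isoSpec.inv, ?_, ?_⟩
  · rw [Category.assoc, ← hφ, ← Spec.map_comp, hχ1, Spec.map_id]
  · intro a
    have h1 : (Spec.map χ) a = q := by
      apply PrimeSpectrum.ext
      change Ideal.comap χ.hom a.asIdeal = q.asIdeal
      have : a.asIdeal = ⊥ := by
        have := a.isPrime
        exact (Ideal.eq_bot_or_top a.asIdeal).resolve_right a.isPrime.ne_top
      rw [this, ← hχ2]
      rfl
    rw [Scheme.Hom.comp_apply, h1]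
    change P.isoSpec.inv (P.isoSpec.hom p) = p
    rw [← Scheme.Hom.comp_apply, Iso.hom_inv_id]
    rfl

/-- over an algebraically closed field, every point of the fibre of an integral morphism is the
image of a geometric point over the given one -/
theorem exists_lift {X Y : Scheme.{u}} (f : X ⟶ Y) [IsIntegralHom f] {Ω : Type u} [Field Ω]
    [IsAlgClosed Ω] (η : Spec (CommRingCat.of Ω) ⟶ Y) (x : X)
    (hx : ∀ a, f x = η a) :
    ∃ ξ : Spec (CommRingCat.of Ω) ⟶ X, ξ ≫ f = η ∧ ∀ a, ξ a = x := by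
  obtain ⟨p, hp1, hp2⟩ := Scheme.Pullback.exists_preimage_pullback (f := f) (g := η) x
    (default : Spec (CommRingCat.of Ω)) (hx _)
  obtain ⟨σ, hσ1, hσ2⟩ := exists_section (pullback.snd f η) p
  refine ⟨σ ≫ pullback.fst f η, ?_, ?_⟩
  · rw [Category.assoc, pullback.condition, ← Category.assoc, hσ1, Category.id_comp]
  · intro a
    rw [Scheme.Hom.comp_apply, hσ2 a, hp1]

end H9FE.IntGeoPt
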