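import Mathlib
import Groth.Prelude.Def_EtShriek2
import Groth.Agent.S0631
import Groth.Agent.Lib.Helper9.FE.ShriekEtStalk
import Groth.Agent.Lib.Helper9.FE.AbCoprod2
import Groth.Agent.Lib.Helper5.Misc.EtStalkShriek
import Groth.Agent.Lib.Helper5.Misc.PointDetect

/-! helper9: `extZero j ≅ j_!` for a separated étale morphism `j` -/

set_option autoImplicit false
open CategoryTheory CategoryTheory.Limits AlgebraicGeometry Opposite
universe u

namespace H9FE.ShriekEtIso

set_option backward.isDefEq.respectTransparency false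
set_option linter.style.haveILetI false
set_option linter.unusedSectionVars false

open EtShriek Groth.Agent.Lib.Helper5 Groth.Agent.S0728 Groth.Agent.S0072.Aux H9FE.ShriekStalk
  H9FE.ExtClopen H9FE.ShriekSh H9FE.ShriekEtUnit H9FE.ShriekEtStalk
  Groth.Agent.Lib.Helper5.EtStalkShriek Groth.Agent.Lib.Helper5.StalkShriekGen

attribute [local instance] EtStalk.ab5' EtStalk.pfc

variable {U X : Scheme.{u}} (j : U ⟶ X) [Etale j] [IsSeparated j] [JCont j]
  {Ω : Type u} [Field Ω] [IsSepClosed Ω] (η : Spec (CommRingCat.of Ω) ⟶ X) (F : EtCoh.Ab U)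

/-- the stalk of the comparison map -/
noncomputable abbrev stalkTau :
    (EtCoh.stalk η).obj ((extZero j).obj F) ⟶ St j η F :=
  (EtCoh.stalk η).map ((tau j).app F)

/-- the chain of hom-bijections computing maps out of the stalk of `extZero j F` -/
noncomputable def homChain (Z : AddCommGrpCat.{u + 1}) :
    ((EtCoh.stalk η).obj ((extZero j).obj F) ⟶ Z) ≃
      (∀ u : Lifts j η, (EtCoh.stalk u.1).obj F ⟶ Z) :=
  ((Scheme.pointSmallEtale η).skyscraperSheafAdjunction.homEquiv ((extZero j).obj F) Z).trans <|
    ((extZeroAdj j).homEquiv F ((Scheme.pointSmallEtale η).skyscraperSheaf Z)).trans <|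
      (Equiv.ofBijective _ (bijective_comp_proj (compEtale j) (Scheme.pointSmallEtale η)
        (fun u : Lifts j η => Scheme.pointSmallEtale u.1) (incl j η) (bijective_incl j η) F Z)).trans
        (Equiv.piCongrRight (fun u : Lifts j η =>
          ((Scheme.pointSmallEtale u.1).skyscraperSheafAdjunction.homEquiv F Z).symm))

lemma homChain_apply (Z : AddCommGrpCat.{u + 1})
    (f : (EtCoh.stalk η).obj ((extZero j).obj F) ⟶ Z) (u : Lifts j η) :
    homChain j η F Z f u =
      ((Scheme.pointSmallEtale u.1).skyscraperSheafAdjunction.homEquiv F Z).symm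
        ((extZeroAdj j).homEquiv F ((Scheme.pointSmallEtale η).skyscraperSheaf Z)
          ((Scheme.pointSmallEtale η).skyscraperSheafAdjunction.homEquiv ((extZero j).obj F) Z f) ≫
          proj (compEtale j) (Scheme.pointSmallEtale η)
            (fun u : Lifts j η => Scheme.pointSmallEtale u.1) (incl j η) u Z) := rfl


set_option maxHeartbeats 1600000 in
lemma homChain_stalkTau (Z : AddCommGrpCat.{u + 1}) (g : St j η F ⟶ Z) (u : Lifts j η) :
    homChain j η F Z (stalkTau j η F ≫ g) u = psi j η F u ≫ g := by
  rw [homChain_apply]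
  -- step 1
  have s1 : (Scheme.pointSmallEtale η).skyscraperSheafAdjunction.homEquiv ((extZero j).obj F) Z
      (stalkTau j η F ≫ g) = (tau j).app F ≫
      (Scheme.pointSmallEtale η).skyscraperSheafAdjunction.homEquiv ((lowerShriekSh j).obj F) Z g :=
    Adjunction.homEquiv_naturality_left _ _ _
  rw [s1]
  -- step 2
  have s2 : (extZeroAdj j).homEquiv F ((Scheme.pointSmallEtale η).skyscraperSheaf Z)
      ((tau j).app F ≫ (Scheme.pointSmallEtale η).skyscraperSheafAdjunction.homEquiv
        ((lowerShriekSh j).obj F) Z g) =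
      unit j F ≫ (restrAlong j).map
        ((Scheme.pointSmallEtale η).skyscraperSheafAdjunction.homEquiv
          ((lowerShriekSh j).obj F) Z g) := by
    rw [Adjunction.homEquiv_naturality_right, tau_app, Equiv.apply_symm_apply]
  rw [s2]
  -- step 3
  apply (Scheme.pointSmallEtale u.1).presheafFiber_hom_ext
  intro V v
  set gh := (Scheme.pointSmallEtale η).skyscraperSheafAdjunction.homEquiv
    ((lowerShriekSh j).obj F) Z g with hgh
  set m : F ⟶ (Scheme.pointSmallEtale u.1).skyscraperSheaf Z :=
    (unit j F ≫ (restrAlong j).map gh) ≫ proj (compEtale j) (Scheme.pointSmallEtale η)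
      (fun u : Lifts j η => Scheme.pointSmallEtale u.1) (incl j η) u Z with hm
  have h1 : ((Scheme.pointSmallEtale u.1).skyscraperSheafAdjunction.homEquiv F Z).symm m =
      (Scheme.pointSmallEtale u.1).skyscraperPresheafHomEquiv.symm m.hom :=
    (Scheme.pointSmallEtale u.1).skyscraperSheafAdjunction_homEquiv_symm_apply m
  have h2 : (Scheme.pointSmallEtale u.1).toPresheafFiber V v F.obj ≫
      (Scheme.pointSmallEtale u.1).skyscraperPresheafHomEquiv.symm m.hom =
      m.hom.app (op V) ≫ Pi.π _ v :=
    (Scheme.pointSmallEtale u.1).toPresheafFiber_skyscraperPresheafHomEquiv_symm m.hom V v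
  refine ((congrArg (fun z => (Scheme.pointSmallEtale u.1).toPresheafFiber V v F.obj ≫ z)
    h1).trans h2).trans ?_
  have s3 : (Scheme.pointSmallEtale u.1).toPresheafFiber V v F.obj ≫ psi j η F u ≫ g =
      ((unit j F).hom.app (op V) ≫
        (Scheme.pointSmallEtale η).toPresheafFiber ((compEtale j).obj V) ((incl j η u).app V v)
          (lowerShriekPre j F)) ≫ g := by
    refine (Category.assoc _ _ _).symm.trans ?_
    exact congrArg (fun z => z ≫ g)
      ((Scheme.pointSmallEtale u.1).toPresheafFiber_presheafFiberDesc _ _ V v)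
  refine Eq.trans ?_ s3.symm
  have s4 : m.hom.app (op V) =
      (unit j F).hom.app (op V) ≫ gh.hom.app (op ((compEtale j).obj V)) ≫
        (proj (compEtale j) (Scheme.pointSmallEtale η)
          (fun u : Lifts j η => Scheme.pointSmallEtale u.1) (incl j η) u Z).hom.app (op V) := by
    rw [hm]
    rfl
  have s5 : gh.hom = (Scheme.pointSmallEtale η).skyscraperPresheafHomEquiv g :=
    (Scheme.pointSmallEtale η).skyscraperSheafAdjunction_homEquiv_apply_hom
      (F := (lowerShriekSh j).obj F) (M := Z) g
  have s6 := proj_app_π (compEtale j) (Scheme.pointSmallEtale η)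
    (fun u : Lifts j η => Scheme.pointSmallEtale u.1) (incl j η) u Z V v
  have s7 := (Scheme.pointSmallEtale η).skyscraperPresheafHomEquiv_app_π g
    ((compEtale j).obj V) ((incl j η u).app V v)
  rw [s4]
  refine (Category.assoc _ _ _).trans ?_
  refine Eq.trans ?_ (Category.assoc _ _ _).symm
  refine congrArg (fun z => (unit j F).hom.app (op V) ≫ z) ?_
  refine (Category.assoc _ _ _).trans ?_
  refine (congrArg (fun z => gh.hom.app (op ((compEtale j).obj V)) ≫ z) s6).trans ?_
  rw [s5]
  exact s7


theorem stalkTau_isIso (hac : IsAlgClosed Ω) : IsIso (stalkTau j η F) := by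
  rw [isIso_iff_coyoneda_map_bijective]
  intro Z
  haveI : LocallyQuasiFinite j := EtClopenLift.locallyQuasiFinite_of_etale j
  have hB : Function.Bijective (fun (g : St j η F ⟶ Z) (u : Lifts j η) => psi j η F u ≫ g) :=
    AbCoprod2.bijective_comp_cat.{u + 1, u} (St j η F)
      (fun u : Lifts j η => (EtCoh.stalk u.1).obj F)
      (fun u => phiS j η F u.1 u.2) (fun u => psi j η F u)
      (fun a ha => phiS_injective j η F hac a (fun ξ hξ => ha ⟨ξ, hξ⟩))
      (fun a => phiS_finite j η F a)
      (fun u z => phiS_psi_same j η F u z)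
      (fun u u' hne z => phiS_psi_ne j η F u u' hne z) Z
  have hcomp : (fun (g : St j η F ⟶ Z) (u : Lifts j η) => psi j η F u ≫ g) =
      (homChain j η F Z) ∘ (fun g : St j η F ⟶ Z => stalkTau j η F ≫ g) := by
    funext g u
    exact (homChain_stalkTau j η F Z g u).symm
  rw [hcomp] at hB
  exact (Function.Bijective.of_comp_iff' (homChain j η F Z).bijective _).1 hB

/-- an isomorphism of abelian étale sheaves is detected on a family of geometric points hitting
every point -/
lemma isIso_of_stalks_family {Y : Scheme.{u}} {ι : Sort*} (P : ι → EtStalk.GeomPt Y)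
    (hcov : ∀ x : Y, ∃ i, (P i).ξ (default : Spec (CommRingCat.of (P i).Ω)) = x)
    {A B : EtCoh.Ab Y} (a : A ⟶ B)
    (hb : ∀ i, Function.Bijective (((P i).point.sheafFiber (A := AddCommGrpCat.{u + 1})).map a)) :
    IsIso a := by
  haveI : Mono a := by
    rw [EtStalk.mono_iff_ab]
    intro W
    exact PointDetect.injective_app_of_injective_fibers
      (EtStalk.detects_of_cover P hcov) a (fun i => (hb i).1) W
  haveI : Epi a := by
    rw [← Sheaf.isLocallySurjective_iff_epi']
    exact PointDetect.isLocallySurjective_of_surjective_fibers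
      (EtStalk.detects_of_cover P hcov) a (fun i => (hb i).2)
  exact isIso_of_mono_of_epi _

theorem tau_app_isIso (F : EtCoh.Ab U) : IsIso ((tau j).app F) := by
  apply isIso_of_stalks_family (fun y : X => Groth.Agent.S0631.Aux.geomPtAlgAt y)
    (fun y => ⟨y, Groth.Agent.S0631.Aux.geomPtAlgAt_default y⟩)
  intro y
  haveI : IsAlgClosed (Groth.Agent.S0631.Aux.geomPtAlgAt y).Ω :=
    (inferInstance : IsAlgClosed (AlgebraicClosure (X.residueField y)))
  haveI := stalkTau_isIso j (Groth.Agent.S0631.Aux.geomPtAlgAt y).ξ F inferInstance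
  exact (ConcreteCategory.isIso_iff_bijective _).1
    (inferInstanceAs (IsIso (stalkTau j (Groth.Agent.S0631.Aux.geomPtAlgAt y).ξ F)))

instance tau_isIso : IsIso (tau j) :=
  haveI := fun F => tau_app_isIso j F
  NatIso.isIso_of_isIso_app _

theorem main : Nonempty (extZero j ≅ lowerShriek j) :=
  ⟨asIso (tau j) ≪≫ (lowerShriekShIso j).symm⟩

/-- the inclusion `j_! ⟶ j_*` -/
noncomputable def incPush : lowerShriekSh j ⟶ EtCoh.push j where
  app F := ⟨lowerShriekPreι j F⟩
  naturality F G α := by
    ext V s
    rfl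

lemma incPush_mono (F : EtCoh.Ab U) : Mono ((incPush j).app F) := by
  rw [EtStalk.mono_iff_ab]
  intro V
  exact Subtype.val_injective

theorem main' : ∃ τ : extZero j ⟶ EtCoh.push j, ∀ F : EtCoh.Ab U, Mono (τ.app F) := by
  refine ⟨tau j ≫ incPush j, fun F => ?_⟩
  haveI := incPush_mono j F
  haveI := tau_app_isIso j F
  rw [NatTrans.comp_app]
  infer_instance

end H9FE.ShriekEtIso
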