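import Mathlib
import Groth.Prelude.Def_EtShriek2
import Groth.Agent.Lib.Helper9.FE.ShriekEtIso
import Groth.Agent.Lib.Helper9.FE.ProperOverMisc

/-! helper9: `f_! ≅ fb_* ∘ j_!` for `f = j ≫ fb` with `fb` proper (general `j` separated lft for the
sheaf-level statement; `j` separated étale for the statement with `extZero`) -/

set_option autoImplicit false
open CategoryTheory CategoryTheory.Limits AlgebraicGeometry Opposite
universe u

namespace H9FE.ShriekCompactify

set_option backward.isDefEq.respectTransparency false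
set_option linter.style.haveILetI false
set_option linter.unusedSectionVars false

open EtShriek Groth.Agent.S0728 Groth.Agent.Helper3 H9FE.ProperOverMisc H9FE.ShriekSh

/-- an additive equivalence restricts to subgroups which correspond -/
def subEquiv {G G' : Type*} [AddCommGroup G] [AddCommGroup G'] (E : G ≃+ G') (H : AddSubgroup G)
    (H' : AddSubgroup G') (h : ∀ t, t ∈ H ↔ E t ∈ H') : H ≃+ H' where
  toFun t := ⟨E t.1, (h t.1).1 t.2⟩
  invFun s := ⟨E.symm s.1, (h _).2 (by rw [E.apply_symm_apply]; exact s.2)⟩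
  left_inv t := Subtype.ext (E.symm_apply_apply _)
  right_inv s := Subtype.ext (E.apply_symm_apply _)
  map_add' a b := Subtype.ext (map_add E _ _)

variable {X Xb Y : Scheme.{u}} (j : X ⟶ Xb) (fb : Xb ⟶ Y)

/-- `X ×_Y V ≅ X ×_Xb (Xb ×_Y V)` -/
noncomputable abbrev theta : EtCoh.bc (j ≫ fb) ≅ EtCoh.bc fb ⋙ EtCoh.bc j :=
  MorphismProperty.Over.pullbackComp (P := EtCoh.etaleMP) (Q := ⊤) j fb

/-- the underlying isomorphism of schemes of `theta` (inverse direction) -/
noncomputable def thetaLeft (V : Y.Etale) :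
    ((EtCoh.bc j).obj ((EtCoh.bc fb).obj V)).left ≅ ((EtCoh.bc (j ≫ fb)).obj V).left where
  hom := ((theta j fb).inv.app V).left
  inv := ((theta j fb).hom.app V).left
  hom_inv_id := by
    rw [← MorphismProperty.Comma.comp_left, Iso.inv_hom_id_app]
    rfl
  inv_hom_id := by
    rw [← MorphismProperty.Comma.comp_left, Iso.hom_inv_id_app]
    rfl

lemma thetaLeft_hom_prV (V : Y.Etale) :
    (thetaLeft j fb V).hom ≫ prV (j ≫ fb) V =
      prV j ((EtCoh.bc fb).obj V) ≫ prV fb V := by
  have hc := MorphismProperty.Over.pullbackComp_left_fst_fst (P := EtCoh.etaleMP) (Q := ⊤) j fb V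
  have h1 : (thetaLeft j fb V).hom ≫ ((theta j fb).hom.app V).left = 𝟙 _ :=
    (thetaLeft j fb V).hom_inv_id
  have h2 : (thetaLeft j fb V).hom ≫ ((theta j fb).hom.app V).left ≫
      pullback.fst (pullback.snd V.hom fb) j ≫ pullback.fst V.hom fb =
      (thetaLeft j fb V).hom ≫ pullback.fst V.hom (j ≫ fb) :=
    congrArg (fun z => (thetaLeft j fb V).hom ≫ z) hc
  refine h2.symm.trans ?_
  refine (Category.assoc _ _ _).symm.trans ?_
  refine (congrArg (fun z => z ≫ pullback.fst (pullback.snd V.hom fb) j ≫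
    pullback.fst V.hom fb) h1).trans ?_
  exact Category.id_comp _

variable [LocallyOfFiniteType j] [IsProper fb] (F : EtCoh.Ab X)

/-- restriction of sections along `theta` -/
noncomputable def sectEquiv (V : Y.Etale) :
    EtCoh.sect F ((EtCoh.bc (j ≫ fb)).obj V) ≃+
      EtCoh.sect F ((EtCoh.bc j).obj ((EtCoh.bc fb).obj V)) :=
  (F.obj.mapIso ((theta j fb).app V).symm.op).addCommGroupIsoToAddEquiv

lemma sectEquiv_apply (V : Y.Etale) (s : EtCoh.sect F ((EtCoh.bc (j ≫ fb)).obj V)) :
    sectEquiv j fb F V s = F.obj.map ((theta j fb).inv.app V).op s := rfl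

lemma mem_iff (V : Y.Etale) (s : EtCoh.sect F ((EtCoh.bc (j ≫ fb)).obj V)) :
    s ∈ shriekSubgroup (j ≫ fb) F V ↔
      sectEquiv j fb F V s ∈ shriekSubgroup j F ((EtCoh.bc fb).obj V) := by
  rw [mem_shriekSubgroup_iff, mem_shriekSubgroup_iff, sectEquiv_apply]
  have e1 := sectSupp_map_iso F ((theta j fb).app V).symm s
  have e1' : sectSupp F ((EtCoh.bc j).obj ((EtCoh.bc fb).obj V))
      (F.obj.map ((theta j fb).inv.app V).op s) =
      (thetaLeft j fb V).hom.base ⁻¹' sectSupp F ((EtCoh.bc (j ≫ fb)).obj V) s := e1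
  rw [e1']
  haveI : IsProper (prV fb V) := inferInstanceAs (IsProper (pullback.fst V.hom fb))
  rw [← isProperOver_comp_iff (prV j ((EtCoh.bc fb).obj V)) (prV fb V), ← thetaLeft_hom_prV]
  exact (isProperOver_iso_iff (thetaLeft j fb V) (prV (j ≫ fb) V) _).symm

/-- the equivalence on sections with proper support -/
noncomputable def shriekEquiv (V : Y.Etale) :
    shriekSubgroup (j ≫ fb) F V ≃+ shriekSubgroup j F ((EtCoh.bc fb).obj V) :=
  subEquiv (sectEquiv j fb F V) _ _ (mem_iff j fb F V)

lemma shriekEquiv_val (V : Y.Etale) (s : shriekSubgroup (j ≫ fb) F V) :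
    (shriekEquiv j fb F V s).1 = F.obj.map ((theta j fb).inv.app V).op s.1 := rfl


variable [LocallyOfFiniteType (j ≫ fb)]

/-- the presheaf-level isomorphism -/
noncomputable def preIso :
    lowerShriekPre (j ≫ fb) F ≅ (EtCoh.bc fb).op ⋙ lowerShriekPre j F :=
  NatIso.ofComponents (fun V => (shriekEquiv j fb F V.unop).toAddCommGrpIso) (by
    intro V V' φ
    ext s
    apply Subtype.ext
    change F.obj.map ((theta j fb).inv.app V'.unop).op
        (F.obj.map ((EtCoh.bc (j ≫ fb)).map φ.unop).op s.1) =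
      F.obj.map ((EtCoh.bc j).map ((EtCoh.bc fb).map φ.unop)).op
        (F.obj.map ((theta j fb).inv.app V.unop).op s.1)
    have hn : (EtCoh.bc j).map ((EtCoh.bc fb).map φ.unop) ≫ (theta j fb).inv.app V.unop =
        (theta j fb).inv.app V'.unop ≫ (EtCoh.bc (j ≫ fb)).map φ.unop :=
      (theta j fb).inv.naturality φ.unop
    refine (map_comp_apply F ((EtCoh.bc (j ≫ fb)).map φ.unop) ((theta j fb).inv.app V'.unop)
      s.1).symm.trans ?_
    refine Eq.trans ?_ (map_comp_apply F ((theta j fb).inv.app V.unop)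
      ((EtCoh.bc j).map ((EtCoh.bc fb).map φ.unop)) s.1)
    rw [hn]
    rfl)

/-- the sheaf-level isomorphism -/
noncomputable def shIso :
    (lowerShriekSh (j ≫ fb)).obj F ≅ (EtCoh.push fb).obj ((lowerShriekSh j).obj F) where
  hom := ⟨(preIso j fb F).hom⟩
  inv := ⟨(preIso j fb F).inv⟩
  hom_inv_id := by
    ext : 1
    exact (preIso j fb F).hom_inv_id
  inv_hom_id := by
    ext : 1
    exact (preIso j fb F).inv_hom_id

/-- `(j ≫ fb)_! ≅ fb_* ∘ j_!` on the level of sheaves of sections with proper support -/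
noncomputable def natIso : lowerShriekSh (j ≫ fb) ≅ lowerShriekSh j ⋙ EtCoh.push fb :=
  NatIso.ofComponents (fun F => shIso j fb F) (by
    intro F G α
    ext V s
    apply Subtype.ext
    change G.obj.map ((theta j fb).inv.app V.unop).op
        (α.hom.app (op ((EtCoh.bc (j ≫ fb)).obj V.unop)) s.1) =
      α.hom.app (op ((EtCoh.bc j).obj ((EtCoh.bc fb).obj V.unop)))
        (F.obj.map ((theta j fb).inv.app V.unop).op s.1)
    have := ConcreteCategory.congr_hom (α.hom.naturality ((theta j fb).inv.app V.unop).op) s.1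
    simp only [ConcreteCategory.comp_apply] at this
    exact this.symm)

theorem main {X Xb Y : Scheme.{u}} (j : X ⟶ Xb) [IsOpenImmersion j]
    (fb : Xb ⟶ Y) [IsProper fb] (f : X ⟶ Y) (hf : f = j ≫ fb) [EtShriek.JCont j] :
    Nonempty (EtShriek.lowerShriek f ≅ EtShriek.extZero j ⋙ EtCoh.push fb) := by
  subst hf
  exact ⟨lowerShriekShIso (j ≫ fb) ≪≫ natIso j fb ≪≫
    Functor.isoWhiskerRight (asIso (ShriekEtUnit.tau j)).symm (EtCoh.push fb)⟩

end H9FE.ShriekCompactify
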