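import Mathlib
import Groth.Prelude.Def_EtShriek2
import Groth.Agent.Lib.Helper9.FE.ShriekCompactify
import Groth.Agent.Lib.Helper9.FE.ProperImage

/-! helper9: `(f ≫ g)_! ≅ f_! ⋙ g_!` for separated morphisms locally of finite type -/

set_option autoImplicit false
open CategoryTheory CategoryTheory.Limits AlgebraicGeometry Opposite
universe u

namespace H9FE.ShriekComp

set_option backward.isDefEq.respectTransparency false
set_option linter.style.haveILetI false
set_option linter.unusedSectionVars false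

open EtShriek Groth.Agent.S0728 Groth.Agent.Helper3 H9FE.ProperOverMisc H9FE.ShriekSh
  H9FE.ShriekCompactify H9FE.ProperImage Groth.Agent.S0072.Aux

variable {X Y : Scheme.{u}} (f : X ⟶ Y) [LocallyOfFiniteType f] (F : EtCoh.Ab X)

/-- the support of a section of `f_! F` is the image of its support as a section of `F` -/
lemma sectSupp_lowerShriekSh (W : Y.Etale) (t : shriekSubgroup f F W) :
    sectSupp ((lowerShriekSh f).obj F) W t =
      (prV f W).base '' sectSupp F ((EtCoh.bc f).obj W) t.1 := by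
  have hprop := (mem_shriekSubgroup_iff f F W t.1).1 t.2
  have hC : IsClosed ((prV f W).base '' sectSupp F ((EtCoh.bc f).obj W) t.1) := by
    obtain ⟨hcl, hp⟩ := hprop
    have h1 : (prV f W).base '' sectSupp F ((EtCoh.bc f).obj W) t.1 =
        Set.range (redι _ hcl ≫ prV f W).base := by
      rw [Scheme.Hom.comp_base, TopCat.coe_comp, Set.range_comp]
      congr 1
      exact (range_redι _ hcl).symm
    rw [h1]
    exact (redι _ hcl ≫ prV f W).isClosedMap.isClosed_range
  apply Set.Subset.antisymm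
  · intro y hy
    by_contra hyC
    let O : W.left.Opens := ⟨((prV f W).base '' sectSupp F ((EtCoh.bc f).obj W) t.1)ᶜ,
      hC.isOpen_compl⟩
    refine hy (restrictOpen W O) (restrictOpenι W O) ⟨⟨y, hyC⟩, rfl⟩ ?_
    apply Subtype.ext
    change F.obj.map ((EtCoh.bc f).map (restrictOpenι W O)).op t.1 = 0
    refine restrict_eq_zero F t.1 _ subset_rfl ((EtCoh.bc f).map (restrictOpenι W O))
      (fun w' hw' => ?_)
    have h2 : (prV f W) (((EtCoh.bc f).map (restrictOpenι W O)).left w') ∈
        (prV f W).base '' sectSupp F ((EtCoh.bc f).obj W) t.1 := ⟨_, hw', rfl⟩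
    rw [← Scheme.Hom.comp_apply, bc_map_fst, Scheme.Hom.comp_apply] at h2
    exact restrictOpenι_left_apply W O _ h2
  · rintro _ ⟨x, hx, rfl⟩ W' φ ⟨w', hw'⟩ h0
    have sq := EtCoh.isPullback_bc_map f φ
    obtain ⟨z, hz1, -⟩ := Scheme.Pullback.exists_preimage_pullback
      (f := (pullback.fst W.hom f : ((EtCoh.bc f).obj W).left ⟶ W.left)) (g := φ.left) x w'
      hw'.symm
    refine hx ((EtCoh.bc f).obj W') ((EtCoh.bc f).map φ) ⟨sq.isoPullback.inv z, ?_⟩ ?_
    · rw [← hz1, ← Scheme.Hom.comp_apply, IsPullback.isoPullback_inv_fst]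
      rfl
    · have := congrArg Subtype.val h0
      exact this


variable {Z : Scheme.{u}} (g : Y ⟶ Z)

/-- restriction of sections along `theta` -/
noncomputable def sectEquiv' (V : Z.Etale) :
    EtCoh.sect F ((EtCoh.bc (f ≫ g)).obj V) ≃+
      EtCoh.sect F ((EtCoh.bc f).obj ((EtCoh.bc g).obj V)) :=
  (F.obj.mapIso ((theta f g).app V).symm.op).addCommGroupIsoToAddEquiv

lemma sectEquiv'_apply (V : Z.Etale) (s : EtCoh.sect F ((EtCoh.bc (f ≫ g)).obj V)) :
    sectEquiv' f F g V s = F.obj.map ((theta f g).inv.app V).op s := rfl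

variable [IsSeparated g] [LocallyOfFiniteType g] [LocallyOfFiniteType (f ≫ g)]

lemma mem_iff2 (V : Z.Etale) (s : EtCoh.sect F ((EtCoh.bc (f ≫ g)).obj V)) :
    s ∈ shriekSubgroup (f ≫ g) F V ↔
      ∃ h : sectEquiv' f F g V s ∈ shriekSubgroup f F ((EtCoh.bc g).obj V),
        (⟨sectEquiv' f F g V s, h⟩ : shriekSubgroup f F ((EtCoh.bc g).obj V)) ∈
          shriekSubgroup g ((lowerShriekSh f).obj F) V := by
  have e1 : sectSupp F ((EtCoh.bc f).obj ((EtCoh.bc g).obj V)) (sectEquiv' f F g V s) =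
      (thetaLeft f g V).hom.base ⁻¹' sectSupp F ((EtCoh.bc (f ≫ g)).obj V) s :=
    sectSupp_map_iso F ((theta f g).app V).symm s
  have k1 : s ∈ shriekSubgroup (f ≫ g) F V ↔
      ClSub.IsProperOver (prV f ((EtCoh.bc g).obj V) ≫ prV g V)
        (sectSupp F ((EtCoh.bc f).obj ((EtCoh.bc g).obj V)) (sectEquiv' f F g V s)) := by
    rw [mem_shriekSubgroup_iff, e1, ← thetaLeft_hom_prV]
    exact (isProperOver_iso_iff (thetaLeft f g V) (prV (f ≫ g) V) _).symm
  haveI : IsSeparated (prV g V) := inferInstanceAs (IsSeparated (pullback.fst V.hom g))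
  haveI : LocallyOfFiniteType (prV g V) :=
    inferInstanceAs (LocallyOfFiniteType (pullback.fst V.hom g))
  rw [k1, isProperOver_comp_iff']
  constructor
  · rintro ⟨h1, h2⟩
    have hm : sectEquiv' f F g V s ∈ shriekSubgroup f F ((EtCoh.bc g).obj V) :=
      (mem_shriekSubgroup_iff f F _ _).2 h1
    refine ⟨hm, ?_⟩
    rw [mem_shriekSubgroup_iff g ((lowerShriekSh f).obj F) V]
    have := sectSupp_lowerShriekSh f F ((EtCoh.bc g).obj V) ⟨sectEquiv' f F g V s, hm⟩
    rw [this]
    exact h2
  · rintro ⟨hm, h2⟩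
    refine ⟨(mem_shriekSubgroup_iff f F _ _).1 hm, ?_⟩
    rw [mem_shriekSubgroup_iff g ((lowerShriekSh f).obj F) V] at h2
    have := sectSupp_lowerShriekSh f F ((EtCoh.bc g).obj V) ⟨sectEquiv' f F g V s, hm⟩
    rw [this] at h2
    exact h2

/-- the equivalence on sections with proper support -/
noncomputable def compEquiv (V : Z.Etale) :
    shriekSubgroup (f ≫ g) F V ≃+ shriekSubgroup g ((lowerShriekSh f).obj F) V where
  toFun s := ⟨⟨sectEquiv' f F g V s.1, ((mem_iff2 f F g V s.1).1 s.2).1⟩,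
    ((mem_iff2 f F g V s.1).1 s.2).2⟩
  invFun t := ⟨(sectEquiv' f F g V).symm t.1.1, (mem_iff2 f F g V _).2
    ⟨by rw [AddEquiv.apply_symm_apply]; exact t.1.2, by
      have : (⟨sectEquiv' f F g V ((sectEquiv' f F g V).symm t.1.1),
          by rw [AddEquiv.apply_symm_apply]; exact t.1.2⟩ :
          shriekSubgroup f F ((EtCoh.bc g).obj V)) = t.1 :=
        Subtype.ext (AddEquiv.apply_symm_apply _ _)
      rw [this]
      exact t.2⟩⟩
  left_inv s := Subtype.ext ((sectEquiv' f F g V).symm_apply_apply _)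
  right_inv t := Subtype.ext (Subtype.ext ((sectEquiv' f F g V).apply_symm_apply _))
  map_add' a b := Subtype.ext (Subtype.ext (map_add (sectEquiv' f F g V) _ _))

lemma compEquiv_val (V : Z.Etale) (s : shriekSubgroup (f ≫ g) F V) :
    (compEquiv f F g V s).1.1 = F.obj.map ((theta f g).inv.app V).op s.1 := rfl


/-- the presheaf-level isomorphism -/
noncomputable def preIso :
    lowerShriekPre (f ≫ g) F ≅ lowerShriekPre g ((lowerShriekSh f).obj F) :=
  NatIso.ofComponents (fun V => (compEquiv f F g V.unop).toAddCommGrpIso) (by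
    intro V V' φ
    ext s
    apply Subtype.ext
    apply Subtype.ext
    change F.obj.map ((theta f g).inv.app V'.unop).op
        (F.obj.map ((EtCoh.bc (f ≫ g)).map φ.unop).op s.1) =
      F.obj.map ((EtCoh.bc f).map ((EtCoh.bc g).map φ.unop)).op
        (F.obj.map ((theta f g).inv.app V.unop).op s.1)
    have hn : (EtCoh.bc f).map ((EtCoh.bc g).map φ.unop) ≫ (theta f g).inv.app V.unop =
        (theta f g).inv.app V'.unop ≫ (EtCoh.bc (f ≫ g)).map φ.unop :=
      (theta f g).inv.naturality φ.unop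
    refine (map_comp_apply F ((EtCoh.bc (f ≫ g)).map φ.unop) ((theta f g).inv.app V'.unop)
      s.1).symm.trans ?_
    refine Eq.trans ?_ (map_comp_apply F ((theta f g).inv.app V.unop)
      ((EtCoh.bc f).map ((EtCoh.bc g).map φ.unop)) s.1)
    rw [hn]
    rfl)

/-- the sheaf-level isomorphism -/
noncomputable def shIso :
    (lowerShriekSh (f ≫ g)).obj F ≅ (lowerShriekSh g).obj ((lowerShriekSh f).obj F) where
  hom := ⟨(preIso f F g).hom⟩
  inv := ⟨(preIso f F g).inv⟩
  hom_inv_id := by
    ext : 1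
    exact (preIso f F g).hom_inv_id
  inv_hom_id := by
    ext : 1
    exact (preIso f F g).inv_hom_id

/-- `(f ≫ g)_! ≅ f_! ⋙ g_!` on the level of sheaves of sections with proper support -/
noncomputable def natIso : lowerShriekSh (f ≫ g) ≅ lowerShriekSh f ⋙ lowerShriekSh g :=
  NatIso.ofComponents (fun F => shIso f F g) (by
    intro F G α
    ext V s
    apply Subtype.ext
    apply Subtype.ext
    change G.obj.map ((theta f g).inv.app V.unop).op
        (α.hom.app (op ((EtCoh.bc (f ≫ g)).obj V.unop)) s.1) =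
      α.hom.app (op ((EtCoh.bc f).obj ((EtCoh.bc g).obj V.unop)))
        (F.obj.map ((theta f g).inv.app V.unop).op s.1)
    have := ConcreteCategory.congr_hom (α.hom.naturality ((theta f g).inv.app V.unop).op) s.1
    simp only [ConcreteCategory.comp_apply] at this
    exact this.symm)

theorem main {X Y Z : Scheme.{u}} (f : X ⟶ Y) (g : Y ⟶ Z) [IsSeparated f]
    [LocallyOfFiniteType f] [IsSeparated g] [LocallyOfFiniteType g] :
    Nonempty (EtShriek.lowerShriek (f ≫ g) ≅ EtShriek.lowerShriek f ⋙ EtShriek.lowerShriek g) :=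
  ⟨lowerShriekShIso (f ≫ g) ≪≫ natIso f g ≪≫
    Functor.isoWhiskerRight (lowerShriekShIso f).symm (lowerShriekSh g) ≪≫
    Functor.isoWhiskerLeft (lowerShriek f) (lowerShriekShIso g).symm⟩

end H9FE.ShriekComp
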