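import Mathlib
import Groth.Prelude.Def_EtShriek2
import Groth.Agent.Lib.Helper9.FE.ShriekComp

/-! helper9: the composition isomorphism `(h ≫ g)_! ≅ h_! ⋙ g_!` is the unique one compatible with
the inclusions into direct images -/

set_option autoImplicit false
open CategoryTheory CategoryTheory.Limits AlgebraicGeometry Opposite
universe u

namespace H9FE.ShriekCompUniq

set_option backward.isDefEq.respectTransparency false
set_option linter.style.haveILetI false
set_option linter.unusedSectionVars false

open EtShriek Groth.Agent.Lib.Helper5 H9FE.ShriekSh H9FE.ShriekComp H9FE.ShriekCompactify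

attribute [local instance] EtStalk.ab5' EtStalk.pfc

variable {X Y : Scheme.{u}} (f : X ⟶ Y) [LocallyOfFiniteType f]

/-- the inclusion `f_! ⟶ f_*` on the sheaf level -/
noncomputable def inc : lowerShriekSh f ⟶ EtCoh.push f where
  app F := ⟨lowerShriekPreι f F⟩
  naturality F G α := by
    ext V s
    rfl

lemma inc_mono (F : EtCoh.Ab X) : Mono ((inc f).app F) := by
  rw [EtStalk.mono_iff_ab]
  intro V
  exact Subtype.val_injective

lemma toPush_eq (F : EtCoh.Ab X) :
    lowerShriekToPush f F = (lowerShriekShIso f).hom.app F ≫ (inc f).app F := by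
  change ((sheafificationAdjunction Y.smallEtaleTopology AddCommGrpCat.{u + 1}).homEquiv
    (lowerShriekPre f F) ((EtCoh.push f).obj F)).symm (lowerShriekPreι f F) = _
  rw [Equiv.symm_apply_eq, Adjunction.homEquiv_unit]
  simp [lowerShriekShIso, lowerShriekShForget, inc]

/-- `f_!` preserves monomorphisms -/
lemma lowerShriekSh_map_mono {F G : EtCoh.Ab X} (α : F ⟶ G) [Mono α] :
    Mono ((lowerShriekSh f).map α) := by
  have hα := (EtStalk.mono_iff_ab α).1 inferInstance
  rw [EtStalk.mono_iff_ab]
  intro V a b hab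
  apply Subtype.ext
  apply hα ((EtCoh.bc f).obj V)
  exact congrArg Subtype.val hab

lemma lowerShriek_map_mono {F G : EtCoh.Ab X} (α : F ⟶ G) [Mono α] :
    Mono ((lowerShriek f).map α) := by
  haveI := lowerShriekSh_map_mono f α
  have e : (lowerShriek f).map α = (lowerShriekShIso f).hom.app F ≫ (lowerShriekSh f).map α ≫
      (lowerShriekShIso f).inv.app G := by
    rw [← Category.assoc, ← (lowerShriekShIso f).hom.naturality α, Category.assoc,
      Iso.hom_inv_id_app, Category.comp_id]
  rw [e]
  infer_instance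

lemma toPush_mono (F : EtCoh.Ab X) : Mono (lowerShriekToPush f F) := by
  haveI := inc_mono f F
  rw [toPush_eq]
  infer_instance

variable {Z : Scheme.{u}} (g : Y ⟶ Z) [IsSeparated g] [LocallyOfFiniteType g]
  [LocallyOfFiniteType (f ≫ g)]

lemma key (F : EtCoh.Ab X) :
    (natIso f g).hom.app F ≫ (lowerShriekSh g).map ((inc f).app F) ≫
        (inc g).app ((EtCoh.push f).obj F) =
      (inc (f ≫ g)).app F ≫ (EtCoh.pushComp g f).inv.app F := by
  ext V s
  rfl

/-- the composition isomorphism -/
noncomputable def phi : lowerShriek (f ≫ g) ≅ lowerShriek f ⋙ lowerShriek g :=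
  lowerShriekShIso (f ≫ g) ≪≫ natIso f g ≪≫
    Functor.isoWhiskerRight (lowerShriekShIso f).symm (lowerShriekSh g) ≪≫
    Functor.isoWhiskerLeft (lowerShriek f) (lowerShriekShIso g).symm

lemma phi_compat (F : EtCoh.Ab X) :
    (phi f g).hom.app F ≫ (lowerShriek g).map (lowerShriekToPush f F) ≫
        lowerShriekToPush g ((EtCoh.push f).obj F) =
      lowerShriekToPush (f ≫ g) F ≫ (EtCoh.pushComp g f).inv.app F := by
  have e1 : (phi f g).hom.app F = (lowerShriekShIso (f ≫ g)).hom.app F ≫
      (natIso f g).hom.app F ≫ (lowerShriekSh g).map ((lowerShriekShIso f).inv.app F) ≫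
      (lowerShriekShIso g).inv.app ((lowerShriek f).obj F) := by
    simp [phi]
  have e2 : (lowerShriekShIso g).inv.app ((lowerShriek f).obj F) ≫
      (lowerShriek g).map (lowerShriekToPush f F) =
      (lowerShriekSh g).map (lowerShriekToPush f F) ≫
        (lowerShriekShIso g).inv.app ((EtCoh.push f).obj F) :=
    ((lowerShriekShIso g).inv.naturality (lowerShriekToPush f F)).symm
  rw [e1, toPush_eq g, toPush_eq (f ≫ g)]
  simp only [Category.assoc]
  congr 1
  rw [← key f g F]
  congr 1
  rw [← Category.assoc ((lowerShriekShIso g).inv.app ((lowerShriek f).obj F)), e2]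
  simp only [Category.assoc, Iso.inv_hom_id_app_assoc]
  rw [← Category.assoc, ← Functor.map_comp, toPush_eq f, Iso.inv_hom_id_app_assoc]

theorem main {X Y Z : Scheme.{u}} (h : X ⟶ Y) (g : Y ⟶ Z)
    [IsSeparated h] [LocallyOfFiniteType h] [IsSeparated g] [LocallyOfFiniteType g] :
    ∃! φ : EtShriek.lowerShriek (h ≫ g) ≅ EtShriek.lowerShriek h ⋙ EtShriek.lowerShriek g,
      ∀ F : EtCoh.Ab X,
        φ.hom.app F ≫ (EtShriek.lowerShriek g).map (EtShriek.lowerShriekToPush h F) ≫
            EtShriek.lowerShriekToPush g ((EtCoh.push h).obj F) =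
          EtShriek.lowerShriekToPush (h ≫ g) F ≫ (EtCoh.pushComp g h).inv.app F := by
  refine ⟨phi h g, phi_compat h g, fun φ' hφ' => ?_⟩
  apply Iso.ext
  ext F : 2
  haveI := toPush_mono h F
  haveI := lowerShriek_map_mono g (lowerShriekToPush h F)
  haveI := toPush_mono g ((EtCoh.push h).obj F)
  haveI : Mono ((EtShriek.lowerShriek g).map (EtShriek.lowerShriekToPush h F) ≫
      EtShriek.lowerShriekToPush g ((EtCoh.push h).obj F)) := mono_comp _ _
  rw [← cancel_mono ((EtShriek.lowerShriek g).map (EtShriek.lowerShriekToPush h F) ≫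
      EtShriek.lowerShriekToPush g ((EtCoh.push h).obj F))]
  exact (hφ' F).trans (phi_compat h g F).symm

end H9FE.ShriekCompUniq
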