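import Mathlib
import Groth.Prelude.Def_EtShriek2
import Groth.Agent.S0623
import Groth.Agent.Lib.Helper9.FE.ShriekEtIso
import Groth.Agent.Lib.Helper9.FE.ShriekCompUniq
import Groth.Agent.Lib.Helper5.Misc.JContGen

/-! helper9: the trace `j_* j⁻¹ F ⟶ F` of a finite étale morphism `j`, defined as the counit of
`j_! ⊣ j⁻¹` transported along `j_! ≅ j_*`, and its characterisation on sections extended by zero
off a graph -/

set_option autoImplicit false
open CategoryTheory CategoryTheory.Limits AlgebraicGeometry Opposite
universe u

namespace H9FE.FEtTrace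

set_option backward.isDefEq.respectTransparency false
set_option linter.style.haveILetI false
set_option linter.unusedSectionVars false

open EtShriek Groth.Agent.Lib.Helper5 Groth.Agent.S0728 H9FE.ShriekStalk
  H9FE.ExtClopen H9FE.ShriekSh H9FE.ShriekEtUnit H9FE.ShriekEtIso H9FE.ShriekCompUniq

attribute [local instance] Groth.Agent.Lib.Helper5.Misc.JContGen.jCont

variable {U X : Scheme.{u}} (j : U ⟶ X) [Etale j] [IsFinite j]

/-- for a finite morphism every section has proper support -/
lemma shriekSubgroup_eq_top (F : EtCoh.Ab U) (V : X.Etale) : shriekSubgroup j F V = ⊤ := by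
  rw [eq_top_iff]
  intro s _
  refine AddSubgroup.subset_closure
    (shriekPred_of_subset_proper j F V s Set.univ (Set.subset_univ _) ?_)
  refine ⟨isClosed_univ, ?_⟩
  haveI : IsFinite (prV j V) := inferInstanceAs (IsFinite (pullback.fst V.hom j))
  infer_instance

instance inc_app_isIso (F : EtCoh.Ab U) : IsIso ((inc j).app F) := by
  haveI : ∀ V, IsIso (((inc j).app F).hom.app V) := by
    intro V
    rw [ConcreteCategory.isIso_iff_bijective]
    refine ⟨Subtype.val_injective, fun s => ⟨⟨s, ?_⟩, rfl⟩⟩
    rw [shriekSubgroup_eq_top]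
    trivial
  haveI : IsIso ((inc j).app F).hom := NatIso.isIso_of_isIso_app _
  haveI : IsIso ((sheafToPresheaf _ _).map ((inc j).app F)) := this
  exact isIso_of_reflects_iso _ (sheafToPresheaf _ _)

instance inc_isIso : IsIso (inc j) := NatIso.isIso_of_isIso_app _

/-- the comparison `j_! ⟶ j_*` for a finite étale morphism, an isomorphism -/
noncomputable def theta : extZero j ⟶ EtCoh.push j := tau j ≫ inc j

instance theta_isIso : IsIso (theta j) := by
  unfold theta
  infer_instance

/-- the trace `j_* j⁻¹ ⟶ id` -/
noncomputable def tr : restrAlong j ⋙ EtCoh.push j ⟶ 𝟭 (EtCoh.Ab X) :=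
  Functor.whiskerLeft (restrAlong j) (inv (theta j)) ≫ (extZeroAdj j).counit

lemma theta_tr (F : EtCoh.Ab X) :
    (theta j).app ((restrAlong j).obj F) ≫ (tr j).app F = (extZeroAdj j).counit.app F := by
  unfold tr
  rw [NatTrans.comp_app, Functor.whiskerLeft_app, ← Category.assoc, ← NatTrans.comp_app,
    IsIso.hom_inv_id, NatTrans.id_app, Category.id_comp]

lemma unit_theta (G : EtCoh.Ab U) :
    (extZeroAdj j).unit.app G ≫ (restrAlong j).map ((theta j).app G) =
      unit j G ≫ (restrAlong j).map ((inc j).app G) := by
  unfold theta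
  rw [NatTrans.comp_app, Functor.map_comp, ← Category.assoc]
  congr 1
  rw [tau_app, Adjunction.homEquiv_counit, Functor.map_comp, ← Category.assoc]
  have h1 := (extZeroAdj j).unit.naturality (unit j G)
  simp only [Functor.id_map, Functor.comp_map] at h1
  rw [← h1, Category.assoc, (extZeroAdj j).right_triangle_components]
  exact Category.comp_id _

lemma unit_inc_tr (F : EtCoh.Ab X) :
    unit j ((restrAlong j).obj F) ≫ (restrAlong j).map ((inc j).app ((restrAlong j).obj F)) ≫
      (restrAlong j).map ((tr j).app F) = 𝟙 _ := by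
  rw [← Category.assoc, ← unit_theta, Category.assoc, ← Functor.map_comp, theta_tr,
    (extZeroAdj j).right_triangle_components]

/-- the trace of the extension by zero of `s` off the graph of `V` is `s` -/
theorem tr_ext (F : EtCoh.Ab X) (V : U.Etale) (s : EtCoh.sect F ((compEtale j).obj V)) :
    ((tr j).app F).hom.app (op ((compEtale j).obj V))
      (ExtClopen.ext ((restrAlong j).obj F) (graph j V) (graph_isClosed j V) s) = s := by
  have h := congrArg (fun φ => φ.hom.app (op V)) (unit_inc_tr j F)
  have h2 := ConcreteCategory.congr_hom h s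
  exact h2

end H9FE.FEtTrace
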