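import Mathlib
import Groth.Agent.Lib.Helper9.FE.FEtTrace

/-! helper9: for a finite étale `j : U ⟶ X` which splits over `W` into finitely many graphs, the
composite `F(W) ⟶ (j_* j⁻¹ F)(W) ⟶ F(W)` of restriction and trace is multiplication by the number of
sheets; local-to-global version -/

set_option autoImplicit false
open CategoryTheory CategoryTheory.Limits AlgebraicGeometry Opposite
universe u

namespace H9FE.FEtTraceSum

set_option backward.isDefEq.respectTransparency false
set_option linter.style.haveILetI false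
set_option linter.unusedSectionVars false

open EtShriek Groth.Agent.Lib.Helper5 Groth.Agent.S0728 Groth.Agent.S0072.Aux H9FE.ShriekStalk
  H9FE.ExtClopen H9FE.ShriekSh H9FE.ShriekEtUnit H9FE.ShriekEtIso H9FE.ShriekCompUniq H9FE.FEtTrace

attribute [local instance] Groth.Agent.Lib.Helper5.Misc.JContGen.jCont

variable {U X : Scheme.{u}} (j : U ⟶ X) [hj : Etale j]

/-- the projection `W ×_X U ⟶ W` as a morphism of the small étale site of `X` -/
noncomputable def proj (W : X.Etale) : (compEtale j).obj ((EtCoh.bc j).obj W) ⟶ W :=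
  (MorphismProperty.Over.mapPullbackAdj EtCoh.etaleMP.{u} ⊤ j hj trivial).counit.app W

lemma proj_left (W : X.Etale) : (proj j W).left = pullback.fst W.hom j := by
  simp [proj, MorphismProperty.Over.mapPullbackAdj]

/-- the restriction map `F ⟶ j_* j⁻¹ F` -/
noncomputable def res (F : EtCoh.Ab X) : F ⟶ (EtCoh.push j).obj ((restrAlong j).obj F) :=
  (Groth.Agent.S0623.restrPushAdj j).unit.app F

lemma res_app (F : EtCoh.Ab X) (W : X.Etale) (s : EtCoh.sect F W) :
    (res j F).hom.app (op W) s = F.obj.map (proj j W).op s := rfl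

section Sum

variable (W : X.Etale) {I : Type} (V : I → U.Etale) (e : ∀ i, (compEtale j).obj (V i) ≅ W)

/-- the graph of the `i`-th sheet, as a morphism into `W ×_X U` -/
noncomputable def gam (i : I) : V i ⟶ (EtCoh.bc j).obj W :=
  graph j (V i) ≫ (EtCoh.bc j).map (e i).hom

lemma compEtale_gam_proj (i : I) :
    (compEtale j).map (gam j W V e i) ≫ proj j W = (e i).hom := by
  apply MorphismProperty.Over.Hom.ext
  change ((graph j (V i)).left ≫ ((EtCoh.bc j).map (e i).hom).left) ≫ (proj j W).left =
    (e i).hom.left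
  rw [proj_left, Category.assoc, bc_map_fst, ← Category.assoc]
  have := graph_fst j (V i)
  refine (congrArg (fun z => z ≫ (e i).hom.left) this).trans ?_
  exact Category.id_comp _

lemma gam_comp_inv (i k : I) :
    gam j W V e k ≫ (EtCoh.bc j).map (e i).inv =
      graph j (V k) ≫ (EtCoh.bc j).map ((e k).hom ≫ (e i).inv) := by
  unfold gam
  rw [Category.assoc, ← Functor.map_comp]

lemma gam_comp_inv_self (k : I) :
    gam j W V e k ≫ (EtCoh.bc j).map (e k).inv = graph j (V k) := by
  rw [gam_comp_inv, Iso.hom_inv_id, CategoryTheory.Functor.map_id, Category.comp_id]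

variable [IsFinite j] (F : EtCoh.Ab X)

/-- the `i`-th summand -/
noncomputable def term (s : EtCoh.sect F W) (i : I) :
    EtCoh.sect ((restrAlong j).obj F) ((EtCoh.bc j).obj W) :=
  ((restrAlong j).obj F).obj.map ((EtCoh.bc j).map (e i).inv).op
    (ExtClopen.ext ((restrAlong j).obj F) (graph j (V i)) (graph_isClosed j (V i))
      (F.obj.map (e i).hom.op s))

lemma term_res_self (s : EtCoh.sect F W) (k : I) :
    ((restrAlong j).obj F).obj.map (gam j W V e k).op (term j W V e F s k) =
      F.obj.map (e k).hom.op s := by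
  unfold term
  rw [← map_comp_apply, gam_comp_inv_self]
  exact ext_res _ _ _ _

lemma term_res_ne (hdisj : ∀ i k, i ≠ k →
      Disjoint (Set.range (gam j W V e i).left) (Set.range (gam j W V e k).left))
    (s : EtCoh.sect F W) (i k : I) (hik : i ≠ k) :
    ((restrAlong j).obj F).obj.map (gam j W V e k).op (term j W V e F s i) = 0 := by
  unfold term
  rw [← map_comp_apply]
  refine restrict_eq_zero ((restrAlong j).obj F) _ _
    (sectSupp_ext_subset ((restrAlong j).obj F) (graph j (V i)) (graph_isClosed j (V i)) _) _ ?_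
  rintro w ⟨v, hv⟩
  have h1 : (gam j W V e k ≫ (EtCoh.bc j).map (e i).inv) ≫ (EtCoh.bc j).map (e i).hom =
      gam j W V e k := by
    rw [Category.assoc, ← Functor.map_comp, Iso.inv_hom_id, CategoryTheory.Functor.map_id,
      Category.comp_id]
  have h2 : (gam j W V e k).left w = (gam j W V e i).left v := by
    have e1 : (gam j W V e k).left w =
        ((EtCoh.bc j).map (e i).hom).left
          ((gam j W V e k ≫ (EtCoh.bc j).map (e i).inv).left w) := by
      conv_lhs => rw [← h1]
      rfl
    rw [e1, ← hv]
    rfl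
  exact Set.disjoint_left.1 (hdisj i k hik) ⟨v, rfl⟩ ⟨w, h2⟩

variable [Fintype I] [DecidableEq I]

theorem res_eq_sum
    (hcov : ∀ p : ((EtCoh.bc j).obj W).left, ∃ i, p ∈ Set.range (gam j W V e i).left)
    (hdisj : ∀ i k, i ≠ k →
      Disjoint (Set.range (gam j W V e i).left) (Set.range (gam j W V e k).left))
    (s : EtCoh.sect F W) :
    (res j F).hom.app (op W) s = ∑ i, term j W V e F s i := by
  refine sect_ext_local ((restrAlong j).obj F) (V := (EtCoh.bc j).obj W) _ _ ?_
  intro p
  obtain ⟨k, v, hv⟩ := hcov p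
  refine ⟨V k, gam j W V e k, v, hv, ?_⟩
  rw [map_sum, Finset.sum_eq_single k]
  · rw [term_res_self, res_app]
    change F.obj.map ((compEtale j).map (gam j W V e k)).op (F.obj.map (proj j W).op s) = _
    rw [← map_comp_apply, compEtale_gam_proj]
  · intro i _ hik
    exact term_res_ne j W V e F hdisj s i k hik
  · intro h
    exact absurd (Finset.mem_univ _) h

lemma tr_term (s : EtCoh.sect F W) (i : I) :
    ((tr j).app F).hom.app (op W) (term j W V e F s i) = s := by
  have hn := ConcreteCategory.congr_hom (((tr j).app F).hom.naturality (e i).inv.op)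
    (ExtClopen.ext ((restrAlong j).obj F) (graph j (V i)) (graph_isClosed j (V i))
      (F.obj.map (e i).hom.op s))
  simp only [ConcreteCategory.comp_apply] at hn
  refine hn.trans ?_
  rw [tr_ext]
  change F.obj.map (e i).inv.op (F.obj.map (e i).hom.op s) = s
  rw [← map_comp_apply, Iso.inv_hom_id, op_id, CategoryTheory.Functor.map_id]
  rfl

theorem tr_res_split
    (hcov : ∀ p : ((EtCoh.bc j).obj W).left, ∃ i, p ∈ Set.range (gam j W V e i).left)
    (hdisj : ∀ i k, i ≠ k →
      Disjoint (Set.range (gam j W V e i).left) (Set.range (gam j W V e k).left))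
    (s : EtCoh.sect F W) :
    ((tr j).app F).hom.app (op W) ((res j F).hom.app (op W) s) = Fintype.card I • s := by
  rw [res_eq_sum j W V e F hcov hdisj s, map_sum]
  rw [Finset.sum_congr rfl (fun i _ => tr_term j W V e F s i)]
  rw [Finset.sum_const, Finset.card_univ]

end Sum

lemma nsmul_hom_app {F G : EtCoh.Ab X} (φ : F ⟶ G) (n : ℕ) (W : X.Etale) (s : EtCoh.sect F W) :
    (n • φ).hom.app (op W) s = n • φ.hom.app (op W) s := by
  induction n with
  | zero =>
    rw [zero_smul, zero_smul]
    rfl
  | succ n ih =>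
    rw [succ_nsmul, succ_nsmul, ← ih]
    rfl

/-- `j` splits over `W` into `d` graphs -/
def SplitOver (d : ℕ) (W : X.Etale) : Prop :=
  ∃ (V : Fin d → U.Etale) (e : ∀ i, (compEtale j).obj (V i) ≅ W),
    (∀ p : ((EtCoh.bc j).obj W).left, ∃ i, p ∈ Set.range (gam j W V e i).left) ∧
    (∀ i k, i ≠ k →
      Disjoint (Set.range (gam j W V e i).left) (Set.range (gam j W V e k).left))

/-- local-to-global: if `j` splits étale locally into `d` sheets, then trace after restriction is
multiplication by `d` -/
theorem res_tr [IsFinite j] (d : ℕ)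
    (hloc : ∀ (W : X.Etale) (w : W.left), ∃ (W' : X.Etale) (b : W' ⟶ W) (w' : W'.left),
      b.left w' = w ∧ SplitOver j d W')
    (F : EtCoh.Ab X) : res j F ≫ (tr j).app F = d • 𝟙 F := by
  ext W s
  induction W using Opposite.rec with | _ W => ?_
  refine sect_ext_local F _ _ ?_
  intro w
  obtain ⟨W', b, w', hw', V, e, hcov, hdisj⟩ := hloc W w
  refine ⟨W', b, w', hw', ?_⟩
  have h1 := ConcreteCategory.congr_hom (((tr j).app F).hom.naturality b.op)
    ((res j F).hom.app (op W) s)
  have h2 := ConcreteCategory.congr_hom ((res j F).hom.naturality b.op) s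
  simp only [ConcreteCategory.comp_apply] at h1 h2
  have h3 := tr_res_split j W' V e F hcov hdisj (F.obj.map b.op s)
  rw [Fintype.card_fin] at h3
  have h4 : (d • 𝟙 F).hom.app (op W) s = d • s := nsmul_hom_app (𝟙 F) d W s
  refine Eq.trans ?_ (congrArg (F.obj.map b.op) h4).symm
  rw [map_nsmul]
  refine Eq.trans ?_ h3
  refine h1.symm.trans ?_
  exact congrArg (((tr j).app F).hom.app (op W')) h2.symm

end H9FE.FEtTraceSum
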