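import Mathlib
import Groth.Agent.S9559
import Groth.Agent.S0631
import Groth.Agent.Lib.Helper9.FE.FEtTraceSum

/-! helper9: a finite étale morphism all of whose geometric fibres have `d` points splits étale
locally into `d` graphs; hence restriction followed by trace is multiplication by `d` -/

set_option autoImplicit false
open CategoryTheory CategoryTheory.Limits AlgebraicGeometry Opposite
universe u

namespace H9FE.FEtSplit

set_option backward.isDefEq.respectTransparency false
set_option linter.style.haveILetI false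
set_option linter.unusedSectionVars false

open EtShriek Groth.Agent.Lib.Helper5 Groth.Agent.S0728 Groth.Agent.S0072.Aux H9FE.ShriekEtUnit
  H9FE.FEtTrace H9FE.FEtTraceSum

attribute [local instance] Groth.Agent.Lib.Helper5.Misc.JContGen.jCont

variable {U X : Scheme.{u}} (j : U ⟶ X)

/-- a splitting of the base change of `j` along `g` into `n` sections -/
structure Split {U₀ : Scheme.{u}} (g : U₀ ⟶ X) (n : ℕ) where
  /-- the sections -/
  s : Fin n → (U₀ ⟶ pullback j g)
  hs : ∀ i, s i ≫ pullback.snd j g = 𝟙 U₀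
  isOpen : ∀ i, IsOpenImmersion (s i)
  cov : ∀ q : ↥(pullback j g), ∃ i, q ∈ Set.range (s i)
  disj : ∀ i k, i ≠ k → Disjoint (Set.range (s i)) (Set.range (s k))

theorem exists_split [IsFinite j] [Etale j] (x : X) :
    ∃ (U₀ : Scheme.{u}) (g : U₀ ⟶ X) (_ : Etale g) (u₀ : U₀) (_ : g u₀ = x) (n : ℕ),
      Nonempty (Split j g n) := by
  obtain ⟨U₀, g, hg, u₀, hu₀, n, V, c, hc, e, he⟩ := Groth.Agent.S9559.result j x
  haveI := hc
  refine ⟨U₀, g, hg, u₀, hu₀, n, ⟨⟨fun i => inv (c i) ≫ Sigma.ι V i ≫ e.hom, ?_, ?_, ?_, ?_⟩⟩⟩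
  · intro i
    rw [Category.assoc, Category.assoc, he, IsIso.inv_hom_id]
  · intro i
    infer_instance
  · intro q
    obtain ⟨i, v, hv⟩ := (sigmaOpenCover V).exists_eq (e.inv q)
    have hv' : Sigma.ι V i v = e.inv q := hv
    refine ⟨i, c i v, ?_⟩
    have h1 : (c i ≫ inv (c i) ≫ Sigma.ι V i ≫ e.hom) v = q := by
      rw [IsIso.hom_inv_id_assoc, Scheme.Hom.comp_apply, hv', ← Scheme.Hom.comp_apply,
        Iso.inv_hom_id]
      rfl
    rw [Scheme.Hom.comp_apply] at h1
    exact h1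
  · intro i k hik
    rw [Set.disjoint_left]
    rintro _ ⟨a, rfl⟩ ⟨b, hb⟩
    have h1 : (Sigma.ι V i) ((inv (c i)) a) = (Sigma.ι V k) ((inv (c k)) b) := by
      have h2 := congrArg (fun z => e.inv z) hb
      simp only at h2
      rw [← Scheme.Hom.comp_apply, ← Scheme.Hom.comp_apply] at h2
      simp only [Category.assoc, Iso.hom_inv_id, Category.comp_id] at h2
      rw [Scheme.Hom.comp_apply, Scheme.Hom.comp_apply] at h2
      exact h2.symm
    have h3 := (sigmaι_eq_iff _ _ _ _ _).mp h1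
    exact hik (congrArg Sigma.fst h3)

section G

variable {j} {U₀ : Scheme.{u}} {g : U₀ ⟶ X} {n : ℕ} (S : Split j g n) {A' : Scheme.{u}}
  (ρ : A' ⟶ U₀)

/-- the induced sections of the base change along `ρ ≫ g` -/
noncomputable def t (i : Fin n) : A' ⟶ pullback (ρ ≫ g) j :=
  pullback.lift (𝟙 A') (ρ ≫ S.s i ≫ pullback.fst j g) (by
    rw [Category.id_comp, Category.assoc, Category.assoc, pullback.condition,
      ← Category.assoc (S.s i), S.hs, Category.id_comp])

lemma t_fst (i : Fin n) : t S ρ i ≫ pullback.fst (ρ ≫ g) j = 𝟙 A' := pullback.lift_fst _ _ _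

lemma t_snd (i : Fin n) :
    t S ρ i ≫ pullback.snd (ρ ≫ g) j = ρ ≫ S.s i ≫ pullback.fst j g := pullback.lift_snd _ _ _

lemma t_snd_j (i : Fin n) : (t S ρ i ≫ pullback.snd (ρ ≫ g) j) ≫ j = ρ ≫ g := by
  rw [Category.assoc, ← pullback.condition (f := ρ ≫ g) (g := j), ← Category.assoc, t_fst,
    Category.id_comp]

variable (j) in
/-- the comparison of base changes -/
noncomputable def mu : pullback (ρ ≫ g) j ⟶ pullback j g :=
  pullback.lift (pullback.snd (ρ ≫ g) j) (pullback.fst (ρ ≫ g) j ≫ ρ) (by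
    rw [Category.assoc, ← pullback.condition])

lemma mu_fst : mu j ρ ≫ pullback.fst j g = pullback.snd (ρ ≫ g) j := pullback.lift_fst _ _ _

lemma mu_snd : mu j ρ ≫ pullback.snd j g = pullback.fst (ρ ≫ g) j ≫ ρ := pullback.lift_snd _ _ _

lemma t_mu (i : Fin n) : t S ρ i ≫ mu j ρ = ρ ≫ S.s i := by
  apply pullback.hom_ext
  · rw [Category.assoc, mu_fst, t_snd, Category.assoc]
  · rw [Category.assoc, mu_snd, ← Category.assoc, t_fst, Category.id_comp, Category.assoc, S.hs,
      Category.comp_id]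

theorem mem_range_t (a : ↥(pullback (ρ ≫ g) j)) (i : Fin n)
    (hi : (mu j ρ) a ∈ Set.range (S.s i)) : a ∈ Set.range (t S ρ i) := by
  let A := pullback (ρ ≫ g) j
  let xt : Spec (A.residueField a) ⟶ A := A.fromSpecResidueField a
  have hxt : ∀ z, xt z = a := by
    intro z
    have : xt z ∈ Set.range xt := ⟨z, rfl⟩
    rw [Scheme.range_fromSpecResidueField] at this
    exact this
  haveI := S.isOpen i
  have hrange : Set.range (xt ≫ mu j ρ).base ⊆ Set.range (S.s i).base := by
    rintro _ ⟨z, rfl⟩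
    rw [Scheme.Hom.comp_apply, hxt z]
    exact hi
  let l := IsOpenImmersion.lift (S.s i) (xt ≫ mu j ρ) hrange
  have hl : l ≫ S.s i = xt ≫ mu j ρ := IsOpenImmersion.lift_fac _ _ _
  have hl' : l = xt ≫ pullback.fst (ρ ≫ g) j ≫ ρ := by
    have := congrArg (fun z => z ≫ pullback.snd j g) hl
    simp only [Category.assoc] at this
    rw [S.hs, Category.comp_id, mu_snd] at this
    exact this
  have hfin : (xt ≫ pullback.fst (ρ ≫ g) j) ≫ t S ρ i = xt := by
    apply pullback.hom_ext
    · rw [Category.assoc, t_fst, Category.comp_id]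
    · rw [Category.assoc, t_snd]
      have h3 : xt ≫ pullback.fst (ρ ≫ g) j ≫ ρ ≫ S.s i ≫ pullback.fst j g =
          (l ≫ S.s i) ≫ pullback.fst j g := by
        rw [hl']
        simp only [Category.assoc]
      rw [Category.assoc, h3, hl, Category.assoc, mu_fst]
  obtain ⟨z⟩ : Nonempty (Spec (A.residueField a)) := inferInstance
  refine ⟨(xt ≫ pullback.fst (ρ ≫ g) j) z, ?_⟩
  rw [← Scheme.Hom.comp_apply, hfin, hxt]

theorem exists_mem_range_t (a : ↥(pullback (ρ ≫ g) j)) : ∃ i, a ∈ Set.range (t S ρ i) := by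
  obtain ⟨i, hi⟩ := S.cov ((mu j ρ) a)
  exact ⟨i, mem_range_t S ρ a i hi⟩

theorem t_disjoint (i k : Fin n) (hik : i ≠ k) :
    Disjoint (Set.range (t S ρ i)) (Set.range (t S ρ k)) := by
  rw [Set.disjoint_left]
  rintro _ ⟨x, rfl⟩ ⟨y, hy⟩
  have h1 : (mu j ρ) ((t S ρ i) x) = (S.s i) (ρ x) := by
    rw [← Scheme.Hom.comp_apply, t_mu, Scheme.Hom.comp_apply]
  have h2 : (mu j ρ) ((t S ρ k) y) = (S.s k) (ρ y) := by
    rw [← Scheme.Hom.comp_apply, t_mu, Scheme.Hom.comp_apply]
  rw [hy, h1] at h2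
  exact Set.disjoint_left.1 (S.disj i k hik) ⟨ρ x, rfl⟩ ⟨ρ y, h2.symm⟩

end G

section A

variable [hj : Etale j] {U₀ : Scheme.{u}} {g : U₀ ⟶ X} [Etale g] {n : ℕ} (S : Split j g n)
  (W : X.Etale)

include S

omit S in
/-- the étale `X`-scheme `W ×_X U₀` -/
noncomputable abbrev W' : X.Etale := Scheme.Etale.mk (pullback.snd W.hom g ≫ g)

omit S in
/-- the projection to `W` -/
noncomputable def bW : W' (g := g) W ⟶ W :=
  MorphismProperty.Over.homMk (pullback.fst W.hom g) pullback.condition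

omit S in
lemma bW_left : (bW (g := g) W).left = pullback.fst W.hom g := rfl

lemma sheet_etale (i : Fin n) :
    EtCoh.etaleMP (t S (pullback.snd W.hom g) i ≫ pullback.snd (pullback.snd W.hom g ≫ g) j) := by
  refine EtCoh.etaleMP.of_postcomp (W' := EtCoh.etaleMP) _ j hj ?_
  rw [t_snd_j]
  exact (inferInstance : Etale (pullback.snd W.hom g ≫ g))

/-- the sheets over `W'` -/
noncomputable def sheet (i : Fin n) : U.Etale :=
  MorphismProperty.Over.mk ⊤
    (t S (pullback.snd W.hom g) i ≫ pullback.snd (pullback.snd W.hom g ≫ g) j)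
    (sheet_etale j S W i)

/-- each sheet is `W'` as an `X`-scheme -/
noncomputable def sheetIso (i : Fin n) : (compEtale j).obj (sheet j S W i) ≅ W' (g := g) W :=
  MorphismProperty.Over.isoMk (Iso.refl _) (by
    change 𝟙 _ ≫ (pullback.snd W.hom g ≫ g) =
      (t S (pullback.snd W.hom g) i ≫ pullback.snd (pullback.snd W.hom g ≫ g) j) ≫ j
    rw [Category.id_comp, t_snd_j])

lemma gam_left (i : Fin n) :
    (gam j (W' (g := g) W) (sheet j S W) (sheetIso j S W) i).left =
      t S (pullback.snd W.hom g) i := by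
  unfold gam
  change (graph j (sheet j S W i)).left ≫ ((EtCoh.bc j).map (sheetIso j S W i).hom).left = _
  apply pullback.hom_ext
  · rw [Category.assoc]
    refine (congrArg (fun z => (graph j (sheet j S W i)).left ≫ z)
      (bc_map_fst j (sheetIso j S W i).hom)).trans ?_
    rw [← Category.assoc]
    refine (congrArg (fun z => z ≫ (sheetIso j S W i).hom.left) (graph_fst j _)).trans ?_
    rw [Category.id_comp]
    exact (t_fst S _ i).symm
  · rw [Category.assoc]
    refine (congrArg (fun z => (graph j (sheet j S W i)).left ≫ z)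
      (bc_map_snd j (sheetIso j S W i).hom)).trans ?_
    exact graph_snd j _

theorem splitOver : SplitOver j n (W' (g := g) W) := by
  refine ⟨sheet j S W, sheetIso j S W, ?_, ?_⟩
  · intro p
    obtain ⟨i, hi⟩ := exists_mem_range_t S (pullback.snd W.hom g) p
    refine ⟨i, ?_⟩
    rw [gam_left]
    exact hi
  · intro i k hik
    rw [gam_left, gam_left]
    exact t_disjoint S _ i k hik

theorem exists_splitOver (w : W.left) (u₀ : U₀) (hu : g u₀ = W.hom w) :
    ∃ (W'' : X.Etale) (b : W'' ⟶ W) (w' : W''.left), b.left w' = w ∧ SplitOver j n W'' := by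
  obtain ⟨z, hz1, -⟩ := Scheme.Pullback.exists_preimage_pullback w u₀ hu.symm
  exact ⟨W' (g := g) W, bW W, z, hz1, splitOver j S W⟩

end A

section B

variable {U₀ : Scheme.{u}} {g : U₀ ⟶ X} {n : ℕ}
  {Ω : Type u} [Field Ω] (ξ₀ : Spec (CommRingCat.of Ω) ⟶ U₀)

theorem card_fibre (S : Split j g n) : Nat.card ↥(pullback j (ξ₀ ≫ g)) = n := by
  have e1 : Nat.card ↥(pullback j (ξ₀ ≫ g)) = Nat.card ↥(pullback (ξ₀ ≫ g) j) :=
    Nat.card_congr (Scheme.homeoOfIso (pullbackSymmetry j (ξ₀ ≫ g))).toEquiv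
  rw [e1]
  let φ : Fin n → ↥(pullback (ξ₀ ≫ g) j) := fun i => (t S ξ₀ i) default
  have hφ : Function.Bijective φ := by
    constructor
    · intro i k hik
      by_contra hne
      exact Set.disjoint_left.1 (t_disjoint S ξ₀ i k hne) ⟨default, rfl⟩ ⟨default, hik.symm⟩
    · intro a
      obtain ⟨i, z, hz⟩ := exists_mem_range_t S ξ₀ a
      refine ⟨i, ?_⟩
      rw [← hz]
      exact congrArg (t S ξ₀ i) (Subsingleton.elim _ _)
  rw [← Nat.card_congr (Equiv.ofBijective φ hφ), Nat.card_fin]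

end B

variable [IsFinite j] [Etale j]

theorem hloc_of_degree (d : ℕ)
    (hd : ∀ (Ω : Type u) [Field Ω] [IsSepClosed Ω] (ξ : Spec (CommRingCat.of Ω) ⟶ X),
      Nat.card ↥(pullback j ξ) = d) (W : X.Etale) (w : W.left) :
    ∃ (W' : X.Etale) (b : W' ⟶ W) (w' : W'.left), b.left w' = w ∧ SplitOver j d W' := by
  obtain ⟨U₀, g, hg, u₀, hu₀, n, ⟨S⟩⟩ := exists_split j (W.hom w)
  haveI := hg
  have hn : n = d := by
    rw [← card_fibre j (Groth.Agent.S0631.Aux.geomPtAlgAt u₀).ξ S]
    exact hd _ _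
  subst hn
  exact exists_splitOver j S W w u₀ hu₀

/-- restriction followed by trace is multiplication by the degree -/
theorem res_tr_of_degree (d : ℕ)
    (hd : ∀ (Ω : Type u) [Field Ω] [IsSepClosed Ω] (ξ : Spec (CommRingCat.of Ω) ⟶ X),
      Nat.card ↥(pullback j ξ) = d) (F : EtCoh.Ab X) :
    res j F ≫ (tr j).app F = d • 𝟙 F :=
  res_tr j d (hloc_of_degree j d hd) F

end H9FE.FEtSplit
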