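import Mathlib
import Groth.Prelude.Def_EtBase
import Groth.Prelude.Def_EtShriek2
import Groth.Agent.S0623
import Groth.Agent.S6645
import Groth.Agent.Lib.Helper5.Misc.EtOpenImm
import Groth.Agent.Lib.Helper9.FE.CsStrata
import Groth.Agent.Lib.Helper9.FE.CsSub

/-! helper9: finite local constancy of abelian étale sheaves is local for the étale topology
(formulated with restriction along étale morphisms); the zero sheaf and binary direct sums of finite
locally constant sheaves are finite locally constant; extension by zero along an isomorphism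
preserves finite local constancy. -/

set_option autoImplicit false
set_option linter.unusedSectionVars false
set_option linter.style.haveILetI false
set_option backward.isDefEq.respectTransparency false
universe u
open CategoryTheory CategoryTheory.Limits AlgebraicGeometry Opposite

namespace H9FE.FlcLocal
open H9FE.ConstSite H9FE.CsStrata H9FE.CsSub EtShriek Groth.Agent.Lib.Helper5

variable {T : Scheme.{u}}

/-- sections of a zero sheaf vanish -/
theorem sections_zero_of_isZero (Z : EtCoh.Ab T) (hZ : IsZero Z) (V : T.Etale)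
    (s : Z.obj.obj (op V)) : s = 0 := by
  have h : 𝟙 Z = 0 := hZ.eq_of_src _ _
  have h2 := congrArg (fun f : Z ⟶ Z => f.hom.app (op V) s) h
  exact h2

/-- the zero sheaf is finite locally constant -/
theorem flc_of_isZero (Z : EtCoh.Ab T) (hZ : IsZero Z) : EtCoh.IsFiniteLocallyConstant Z := by
  refine ⟨PUnit.{u + 1}, fun _ => EtCoh.top T, ?_, fun _ => ?_⟩
  · intro t
    exact ⟨PUnit.unit, t, rfl⟩
  · refine ⟨PUnit, inferInstance, inferInstance, ?_⟩
    refine nonempty_iso_of_crit.{u + 1, u, u + 1} T.smallEtaleTopology Z (EtCoh.top T)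
      (0 : (AddCommGrpCat.of (ULift.{u + 1} PUnit)) →+ Z.obj.obj (op (EtCoh.top T))) ?_ ?_
    · intro W z x _
      exact Or.inl (Subsingleton.elim _ _)
    · intro W z s
      refine ⟨⊤, T.smallEtaleTopology.top_mem _, fun k _ => ⟨0, ?_⟩⟩
      exact (sections_zero_of_isZero Z hZ _ _).trans (sections_zero_of_isZero Z hZ _ _).symm

/-- binary direct sums of finite locally constant sheaves are finite locally constant -/
theorem flc_biprod {A B : EtCoh.Ab T} (hA : EtCoh.IsFiniteLocallyConstant A)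
    (hB : EtCoh.IsFiniteLocallyConstant B) : EtCoh.IsFiniteLocallyConstant (A ⊞ B) := by
  haveI := (Groth.Agent.S6645.result T).2
  have hSe := (ShortComplex.Splitting.ofHasBinaryBiproduct A B).shortExact
  exact ObjectProperty.prop_X₂_of_shortExact
    (fun F : EtCoh.Ab T => EtCoh.IsFiniteLocallyConstant F) hSe hA hB

/-- an object of the small étale site of `T` over `(V → T' → T)` comes from `T'` -/
theorem exists_lift {T' : Scheme.{u}} (ρ : T' ⟶ T) [hρ : Etale ρ] (V : T'.Etale) (Z : T.Etale)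
    (z : Z ⟶ (compEtale ρ).obj V) :
    ∃ (Z' : T'.Etale) (z' : Z' ⟶ V) (e : (compEtale ρ).obj Z' ≅ Z),
      e.hom ≫ z = (compEtale ρ).map z' := by
  have hw : z.left ≫ V.hom ≫ ρ = Z.hom := MorphismProperty.Over.w z
  have hW : EtCoh.etaleMP ((z.left ≫ V.hom) ≫ ρ) := by
    rw [Category.assoc, hw]; exact Z.prop
  let Z' : T'.Etale := MorphismProperty.Over.mk ⊤ (z.left ≫ V.hom)
    (EtCoh.etaleMP.of_postcomp (W' := EtCoh.etaleMP) (z.left ≫ V.hom) ρ hρ hW)
  let z' : Z' ⟶ V := MorphismProperty.Over.homMk z.left rfl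
  let e : (compEtale ρ).obj Z' ≅ Z := MorphismProperty.Over.isoMk (Iso.refl _)
    ((Category.id_comp Z.hom).trans (hw.symm.trans (Category.assoc _ _ _).symm))
  refine ⟨Z', z', e, ?_⟩
  apply MorphismProperty.Over.Hom.ext
  show (e.hom ≫ z).left = ((compEtale ρ).map z').left
  exact Category.id_comp z.left

/-- a trivialization of the restriction of `E` along an étale morphism `ρ` over `V` gives a
trivialization of `E` over `(V → T' → T)` -/
theorem over_const_of_restr_const {T' : Scheme.{u}} (ρ : T' ⟶ T) [Etale ρ] (E : EtCoh.Ab T)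
    (V : T'.Etale) {M : AddCommGrpCat.{u + 1}}
    (β : ((restrAlong ρ).obj E).over V ≅ cS.{u + 1, u, u + 1} (T'.smallEtaleTopology.over V) M) :
    Nonempty (E.over ((compEtale ρ).obj V) ≅
      cS.{u + 1, u, u + 1} (T.smallEtaleTopology.over ((compEtale ρ).obj V)) M) := by
  let J := T.smallEtaleTopology
  let J' := T'.smallEtaleTopology
  let R : EtCoh.Ab T' := (restrAlong ρ).obj E
  let γ : M →+ E.obj.obj (op ((compEtale ρ).obj V)) := gen.{u + 1, u, u + 1} J' R V β
  refine nonempty_iso_of_crit.{u + 1, u, u + 1} J E ((compEtale ρ).obj V) γ ?_ ?_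
  · intro Z z x hx
    obtain ⟨Z', z', e, he⟩ := exists_lift ρ V Z z
    have h1 : R.obj.map z'.op (gen.{u + 1, u, u + 1} J' R V β x) = 0 := by
      show E.obj.map ((compEtale ρ).map z').op (γ x) = 0
      rw [← he, ← map_map.{u + 1, u, u + 1} J E e.hom z, hx, map_zero]
    have h2 : R.obj.map z'.op (gen.{u + 1, u, u + 1} J' R V β x) =
        R.obj.map z'.op (gen.{u + 1, u, u + 1} J' R V β 0) := by
      rw [h1, map_zero, map_zero]
    rcases gen_inj.{u + 1, u, u + 1} J' R V β z' x 0 h2 with h3 | h3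
    · exact Or.inl h3
    · right
      rw [bot_mem_iff] at h3 ⊢
      haveI : IsEmpty ↥((compEtale ρ).obj Z').left := h3
      exact Function.isEmpty (fun p : Z.left => e.inv.left p)
  · intro Z z s
    obtain ⟨Z', z', e, he⟩ := exists_lift ρ V Z z
    let s' : R.obj.obj (op Z') := E.obj.map e.hom.op s
    obtain ⟨S', hS', hprop⟩ := gen_surj.{u + 1, u, u + 1} J' R V β z' s'
    refine ⟨(S'.functorPushforward (compEtale ρ)).pullback e.inv,
      J.pullback_stable e.inv ((coverPreserving_compEtale ρ).cover_preserve hS'), ?_⟩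
    intro Z'' k hk
    have hk2 : (S'.functorPushforward (compEtale ρ)) (k ≫ e.inv) := hk
    obtain ⟨W', k', l, hk', hkl⟩ := hk2
    obtain ⟨x, hx⟩ := hprop k' hk'
    refine ⟨x, ?_⟩
    have hx' : E.obj.map ((compEtale ρ).map k').op s' =
        E.obj.map ((compEtale ρ).map (k' ≫ z')).op (γ x) := hx
    have e1 : k = (k ≫ e.inv) ≫ e.hom := by
      rw [Category.assoc, Iso.inv_hom_id, Category.comp_id]
    have e2 : k ≫ z = l ≫ (compEtale ρ).map (k' ≫ z') := by
      calc k ≫ z = (k ≫ e.inv) ≫ (e.hom ≫ z) := by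
            rw [Category.assoc, Iso.inv_hom_id_assoc]
        _ = (l ≫ (compEtale ρ).map k') ≫ (compEtale ρ).map z' := by rw [hkl, he]
        _ = l ≫ (compEtale ρ).map (k' ≫ z') := by rw [Functor.map_comp, Category.assoc]
    calc E.obj.map k.op s = E.obj.map ((k ≫ e.inv) ≫ e.hom).op s := by rw [← e1]
      _ = E.obj.map (k ≫ e.inv).op s' :=
          (map_map.{u + 1, u, u + 1} J E (k ≫ e.inv) e.hom s).symm
      _ = E.obj.map (l ≫ (compEtale ρ).map k').op s' := by rw [hkl]
      _ = E.obj.map l.op (E.obj.map ((compEtale ρ).map k').op s') :=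
          (map_map.{u + 1, u, u + 1} J E l _ s').symm
      _ = E.obj.map l.op (E.obj.map ((compEtale ρ).map (k' ≫ z')).op (γ x)) := by rw [hx']
      _ = E.obj.map (l ≫ (compEtale ρ).map (k' ≫ z')).op (γ x) :=
          map_map.{u + 1, u, u + 1} J E l _ _
      _ = E.obj.map (k ≫ z).op (γ x) := by rw [e2]

/-- finite local constancy is local for the étale topology -/
theorem flc_etale_local (E : EtCoh.Ab T) {κ : Type u} (T' : κ → Scheme.{u}) (ρ : ∀ k, T' k ⟶ T)
    [∀ k, Etale (ρ k)] (hcov : ∀ t : T, ∃ (k : κ) (t' : T' k), (ρ k) t' = t)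
    (h : ∀ k, EtCoh.IsFiniteLocallyConstant ((restrAlong (ρ k)).obj E)) :
    EtCoh.IsFiniteLocallyConstant E := by
  choose ι V hV hc using h
  refine ⟨Σ k, ι k, fun p => (compEtale (ρ p.1)).obj (V p.1 p.2), ?_, ?_⟩
  · intro t
    obtain ⟨k, t', ht'⟩ := hcov t
    obtain ⟨i, y, hy⟩ := hV k t'
    refine ⟨⟨k, i⟩, y, ?_⟩
    show ((V k i).hom ≫ ρ k).base y = t
    rw [← ht', ← hy]
    rfl
  · rintro ⟨k, i⟩
    obtain ⟨M, i1, i2, ⟨β⟩⟩ := hc k i
    exact ⟨M, i1, i2, over_const_of_restr_const (ρ k) E (V k i) β⟩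

/-- restriction along an étale morphism preserves finite local constancy -/
theorem flc_restr {T' : Scheme.{u}} (ρ : T' ⟶ T) [Etale ρ] (G : EtCoh.Ab T)
    (hG : EtCoh.IsFiniteLocallyConstant G) :
    EtCoh.IsFiniteLocallyConstant ((restrAlong ρ).obj G) :=
  flc_of_iso ((Groth.Agent.S0623.pullIso ρ).app G) (CsPull.flc_pull ρ G hG)

/-- extension by zero along an isomorphism preserves finite local constancy -/
theorem flc_extZero_of_isIso {T' : Scheme.{u}} (ι : T' ⟶ T) [Etale ι] [IsIso ι] (H : EtCoh.Ab T')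
    (hH : EtCoh.IsFiniteLocallyConstant H) :
    EtCoh.IsFiniteLocallyConstant ((extZero ι).obj H) := by
  haveI := EtOpenImm.isIso_unit_extZero ι
  refine flc_etale_local _ (κ := PUnit.{u + 1}) (fun _ => T') (fun _ => ι)
    (fun t => ⟨PUnit.unit, inv ι t, ?_⟩) (fun _ => ?_)
  · have h : (inv ι ≫ ι) t = t := by
      rw [IsIso.inv_hom_id]
      rfl
    exact h
  · exact flc_of_iso (asIso ((extZeroAdj ι).unit.app H)) hH

end H9FE.FlcLocal
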