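import Mathlib
import Groth.Prelude.Def_EtBase
import Groth.Prelude.Def_EtShriek2
import Groth.Agent.S0623
import Groth.Agent.Lib.Helper5.Misc.EtOpenImm
import Groth.Agent.Lib.Helper5.Misc.EtStalkPull
import Groth.Agent.Lib.Helper9.FE.ShriekEtIso
import Groth.Agent.Lib.Helper9.FE.FlcLocal

/-! helper9: extension by zero along étale morphisms composes; an abelian étale sheaf is the
direct sum of the extensions by zero of its restrictions to two complementary open subschemes
(checked on geometric stalks); consequence for finite local constancy of `π_! G`. -/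

set_option autoImplicit false
set_option linter.unusedSectionVars false
set_option linter.style.haveILetI false
set_option backward.isDefEq.respectTransparency false
universe u
open CategoryTheory CategoryTheory.Limits AlgebraicGeometry Opposite

namespace H9FE.ShriekDecomp
open EtShriek Groth.Agent.Lib.Helper5 H9FE.FlcLocal H9FE.CsStrata

attribute [local instance] EtStalk.ab5' EtStalk.pfc

attribute [local instance] preservesBinaryBiproducts_of_preservesBinaryCoproducts
  preservesBinaryBiproducts_of_preservesBinaryProducts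

section Comp

variable {A P T : Scheme.{u}} (a : A ⟶ P) (π : P ⟶ T) [ha : Etale a] [hπ : Etale π]

/-- composition of the functors `V ↦ (V → A → P)` and `W ↦ (W → P → T)` -/
noncomputable def siteComp : compEtale a ⋙ compEtale π ≅ compEtale (a ≫ π) :=
  (MorphismProperty.Over.mapComp (P := EtCoh.etaleMP.{u}) (Q := ⊤) ha hπ).symm

/-- restriction along a composite of étale morphisms -/
noncomputable def restrComp : restrAlong π ⋙ restrAlong a ≅ restrAlong (a ≫ π) :=
  haveI : (compEtale a ⋙ compEtale π).IsContinuous A.smallEtaleTopology T.smallEtaleTopology :=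
    Functor.isContinuous_comp _ _ _ P.smallEtaleTopology _
  Functor.sheafPushforwardContinuousComp (compEtale a) (compEtale π) AddCommGrpCat.{u + 1}
      A.smallEtaleTopology P.smallEtaleTopology T.smallEtaleTopology ≪≫
    Functor.sheafPushforwardContinuousIso (siteComp a π) AddCommGrpCat.{u + 1}
      A.smallEtaleTopology T.smallEtaleTopology

/-- extension by zero along a composite of étale morphisms -/
theorem extZeroComp : Nonempty (extZero a ⋙ extZero π ≅ extZero (a ≫ π)) :=
  ⟨(((extZeroAdj a).comp (extZeroAdj π)).ofNatIsoRight (restrComp a π)).leftAdjointUniq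
    (extZeroAdj (a ≫ π))⟩

end Comp

section Add

variable {C D : Type*} [Category C] [Category D] [Preadditive C] [Preadditive D]
  [HasBinaryBiproducts C] (F : C ⥤ D) [F.Additive]

theorem isIso_map_desc_left {X₁ X₂ Y : C} (c₁ : X₁ ⟶ Y) (c₂ : X₂ ⟶ Y)
    (h1 : IsIso (F.map c₁)) (h2 : IsZero (F.obj X₂)) : IsIso (F.map (biprod.desc c₁ c₂)) := by
  have hinr : F.map (biprod.inr : X₂ ⟶ X₁ ⊞ X₂) = 0 := h2.eq_of_src _ _
  have hinl : IsIso (F.map (biprod.inl : X₁ ⟶ X₁ ⊞ X₂)) := by
    refine ⟨F.map biprod.fst, ?_, ?_⟩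
    · rw [← F.map_comp, biprod.inl_fst, F.map_id]
    · have ht := congrArg (fun f => F.map f) (biprod.total (X := X₁) (Y := X₂))
      simp only [F.map_add, F.map_comp, hinr, comp_zero, add_zero, F.map_id] at ht
      exact ht
  have hc : F.map (biprod.inl : X₁ ⟶ X₁ ⊞ X₂) ≫ F.map (biprod.desc c₁ c₂) = F.map c₁ := by
    rw [← F.map_comp, biprod.inl_desc]
  haveI := hinl
  haveI : IsIso (F.map (biprod.inl : X₁ ⟶ X₁ ⊞ X₂) ≫ F.map (biprod.desc c₁ c₂)) := by
    rw [hc]
    exact h1
  exact IsIso.of_isIso_comp_left (F.map (biprod.inl : X₁ ⟶ X₁ ⊞ X₂)) _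

theorem isIso_map_desc_right {X₁ X₂ Y : C} (c₁ : X₁ ⟶ Y) (c₂ : X₂ ⟶ Y)
    (h1 : IsZero (F.obj X₁)) (h2 : IsIso (F.map c₂)) : IsIso (F.map (biprod.desc c₁ c₂)) := by
  have hinl : F.map (biprod.inl : X₁ ⟶ X₁ ⊞ X₂) = 0 := h1.eq_of_src _ _
  have hinr : IsIso (F.map (biprod.inr : X₂ ⟶ X₁ ⊞ X₂)) := by
    refine ⟨F.map biprod.snd, ?_, ?_⟩
    · rw [← F.map_comp, biprod.inr_snd, F.map_id]
    · have ht := congrArg (fun f => F.map f) (biprod.total (X := X₁) (Y := X₂))
      simp only [F.map_add, F.map_comp, hinl, comp_zero, zero_add, F.map_id] at ht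
      exact ht
  have hc : F.map (biprod.inr : X₂ ⟶ X₁ ⊞ X₂) ≫ F.map (biprod.desc c₁ c₂) = F.map c₂ := by
    rw [← F.map_comp, biprod.inr_desc]
  haveI := hinr
  haveI : IsIso (F.map (biprod.inr : X₂ ⟶ X₁ ⊞ X₂) ≫ F.map (biprod.desc c₁ c₂)) := by
    rw [hc]
    exact h2
  exact IsIso.of_isIso_comp_left (F.map (biprod.inr : X₂ ⟶ X₁ ⊞ X₂)) _

end Add

section Stalk

variable {P : Scheme.{u}}

instance stalk_additive {Ω : Type u} [Field Ω] [IsSepClosed Ω]
    (ξ : Spec (CommRingCat.of Ω) ⟶ P) : (EtCoh.stalk ξ).Additive :=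
  Functor.additive_of_preservesBinaryBiproducts _

/-- the counit `a_! a⁻¹ G ⟶ G` of an open immersion is an isomorphism on stalks at geometric
points of the open subscheme -/
theorem isIso_stalk_counit {A : Scheme.{u}} (a : A ⟶ P) [IsOpenImmersion a] (G : EtCoh.Ab P)
    {Ω : Type u} [Field Ω] [IsSepClosed Ω] (v : Spec (CommRingCat.of Ω) ⟶ A) :
    IsIso ((EtCoh.stalk (v ≫ a)).map ((extZeroAdj a).counit.app G)) := by
  haveI := EtOpenImm.isIso_unit_extZero a
  have htri := (extZeroAdj a).right_triangle_components G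
  haveI h1 : IsIso ((restrAlong a).map ((extZeroAdj a).counit.app G)) := by
    have h : (restrAlong a).map ((extZeroAdj a).counit.app G) =
        inv ((extZeroAdj a).unit.app ((restrAlong a).obj G)) := by
      apply (cancel_epi ((extZeroAdj a).unit.app ((restrAlong a).obj G))).1
      rw [IsIso.hom_inv_id]
      exact htri
    rw [h]
    infer_instance
  haveI h2 : IsIso ((EtCoh.pull a).map ((extZeroAdj a).counit.app G)) :=
    (NatIso.isIso_map_iff (Groth.Agent.S0623.pullIso a) _).2 h1
  have h3 : IsIso ((EtCoh.pull a ⋙ EtCoh.stalk v).map ((extZeroAdj a).counit.app G)) := by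
    show IsIso ((EtCoh.stalk v).map ((EtCoh.pull a).map ((extZeroAdj a).counit.app G)))
    infer_instance
  exact (NatIso.isIso_map_iff (EtStalkPull.stalkPullIso a v) _).1 h3

/-- the stalk of an extension by zero vanishes at geometric points which do not lift -/
theorem isZero_stalk_extZero {B : Scheme.{u}} (b : B ⟶ P) [Etale b] [IsSeparated b]
    (H : EtCoh.Ab B) {Ω : Type u} [Field Ω] [IsSepClosed Ω] (η : Spec (CommRingCat.of Ω) ⟶ P)
    (hη : IsEmpty (EtStalkShriek.Lifts b η)) :
    IsZero ((EtCoh.stalk η).obj ((extZero b).obj H)) := by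
  rw [IsZero.iff_id_eq_zero]
  apply (ShriekEtIso.homChain b η H _).injective
  funext w
  exact (hη.false w).elim

theorem isEmpty_lifts {A B : Scheme.{u}} (a : A ⟶ P) (b : B ⟶ P)
    (hd : Disjoint (Set.range a) (Set.range b)) {Ω : Type u} [Field Ω] [IsSepClosed Ω]
    (v : Spec (CommRingCat.of Ω) ⟶ A) : IsEmpty (EtStalkShriek.Lifts b (v ≫ a)) := by
  refine ⟨fun w => ?_⟩
  let x : Spec (CommRingCat.of Ω) := default
  have h : b (w.1 x) = a (v x) := by
    have := congrArg (fun f : Spec (CommRingCat.of Ω) ⟶ P => f x) w.2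
    exact this
  exact Set.disjoint_left.1 hd ⟨v x, rfl⟩ ⟨w.1 x, h⟩

/-- a sheaf is the direct sum of the extensions by zero of its restrictions to two complementary
open subschemes -/
theorem isIso_desc_counits {A B : Scheme.{u}} (a : A ⟶ P) (b : B ⟶ P) [IsOpenImmersion a]
    [IsOpenImmersion b] (hd : Disjoint (Set.range a) (Set.range b))
    (hc : ∀ p : P, p ∈ Set.range a ∨ p ∈ Set.range b) (G : EtCoh.Ab P) :
    IsIso (biprod.desc ((extZeroAdj a).counit.app G) ((extZeroAdj b).counit.app G)) := by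
  let Pt : A ⊕ B → EtStalk.GeomPt P := Sum.elim
    (fun x => { Ω := (EtStalk.geomPtAt x).Ω, ξ := (EtStalk.geomPtAt x).ξ ≫ a })
    (fun y => { Ω := (EtStalk.geomPtAt y).Ω, ξ := (EtStalk.geomPtAt y).ξ ≫ b })
  apply ShriekEtIso.isIso_of_stalks_family Pt
  · intro p
    rcases hc p with ⟨x, hx⟩ | ⟨y, hy⟩
    · refine ⟨Sum.inl x, ?_⟩
      show ((EtStalk.geomPtAt x).ξ ≫ a) default = p
      rw [← hx]
      exact congrArg (fun z => a z) (EtStalk.geomPtAt_default x)
    · refine ⟨Sum.inr y, ?_⟩
      show ((EtStalk.geomPtAt y).ξ ≫ b) default = p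
      rw [← hy]
      exact congrArg (fun z => b z) (EtStalk.geomPtAt_default y)
  · rintro (x | y)
    · have h := isIso_map_desc_left (EtCoh.stalk ((EtStalk.geomPtAt x).ξ ≫ a))
        ((extZeroAdj a).counit.app G) ((extZeroAdj b).counit.app G)
        (isIso_stalk_counit a G _) (isZero_stalk_extZero b _ _ (isEmpty_lifts a b hd _))
      exact (ConcreteCategory.isIso_iff_bijective _).1 h
    · have h := isIso_map_desc_right (EtCoh.stalk ((EtStalk.geomPtAt y).ξ ≫ b))
        ((extZeroAdj a).counit.app G) ((extZeroAdj b).counit.app G)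
        (isZero_stalk_extZero a _ _ (isEmpty_lifts b a hd.symm _)) (isIso_stalk_counit b G _)
      exact (ConcreteCategory.isIso_iff_bijective _).1 h

/-- finite local constancy of `π_! G` from that of the contributions of two complementary open
subschemes of the source -/
theorem flc_of_decomp {T : Scheme.{u}} (π : P ⟶ T) [Etale π] {A B : Scheme.{u}} (a : A ⟶ P)
    (b : B ⟶ P) [IsOpenImmersion a] [IsOpenImmersion b]
    (hd : Disjoint (Set.range a) (Set.range b))
    (hc : ∀ p : P, p ∈ Set.range a ∨ p ∈ Set.range b) (G : EtCoh.Ab P)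
    (hA : EtCoh.IsFiniteLocallyConstant ((extZero (a ≫ π)).obj ((restrAlong a).obj G)))
    (hB : EtCoh.IsFiniteLocallyConstant ((extZero (b ≫ π)).obj ((restrAlong b).obj G))) :
    EtCoh.IsFiniteLocallyConstant ((extZero π).obj G) := by
  haveI := isIso_desc_counits a b hd hc G
  haveI : (extZero π).IsLeftAdjoint := (extZeroAdj π).isLeftAdjoint
  haveI : (extZero π).Additive := Functor.additive_of_preservesBinaryBiproducts _
  obtain ⟨ea⟩ := extZeroComp a π
  obtain ⟨eb⟩ := extZeroComp b π
  have h1 : EtCoh.IsFiniteLocallyConstant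
      ((extZero π).obj ((extZero a).obj ((restrAlong a).obj G))) :=
    flc_of_iso (ea.app _).symm hA
  have h2 : EtCoh.IsFiniteLocallyConstant
      ((extZero π).obj ((extZero b).obj ((restrAlong b).obj G))) :=
    flc_of_iso (eb.app _).symm hB
  have h3 := flc_biprod h1 h2
  have h4 := flc_of_iso ((extZero π).mapBiprod _ _).symm h3
  exact flc_of_iso ((extZero π).mapIso
    (asIso (biprod.desc ((extZeroAdj a).counit.app G) ((extZeroAdj b).counit.app G)))) h4

end Stalk

end H9FE.ShriekDecomp
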