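import Mathlib
import Groth.Prelude.Def_EtBase
import Groth.Prelude.Def_EtShriek2
import Groth.Prelude.Def_PBC
import Groth.Agent.Lib.Helper5.Misc.EtShriekBC
import Groth.Agent.Lib.Helper9.FE.ShriekDecomp
import Groth.Agent.Lib.Helper9.FE.FEtSplit
import Groth.Agent.Lib.Helper9.FE.EtFinMain
import Groth.Agent.Lib.Helper9.FE.CsCons

/-! helper9: extension by zero of a finite locally constant abelian étale sheaf along a finite étale
morphism is finite locally constant (étale-local splitting into sections and induction on their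
number); along an étale morphism of quasi-compact quasi-separated schemes it is constructible
(finiteness over the strata of a finite constructible stratification and base change). -/

set_option autoImplicit false
set_option linter.unusedSectionVars false
set_option linter.style.haveILetI false
set_option backward.isDefEq.respectTransparency false
universe u
open CategoryTheory CategoryTheory.Limits AlgebraicGeometry Opposite

namespace H9FE.ShriekFLC
open EtShriek Groth.Agent.Lib.Helper5 H9FE.FlcLocal H9FE.CsStrata H9FE.ShriekDecomp H9FE.FEtSplit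
  H9FE.EtFinStrat

/-- extension by zero from the empty scheme vanishes -/
theorem isZero_extZero_of_isEmpty {P T : Scheme.{u}} (π : P ⟶ T) [Etale π] [IsSeparated π]
    [IsEmpty P] (G : EtCoh.Ab P) : IsZero ((extZero π).obj G) := by
  apply EtStalk.isZero_of_stalks
  intro g
  exact isZero_stalk_extZero π G g.ξ
    ⟨fun w => isEmptyElim (w.1 (default : Spec (CommRingCat.of g.Ω)))⟩

/-- if the étale morphism `π` has `n` disjoint sections covering its source, `π_!` preserves finite
local constancy -/
theorem flc_of_sections : ∀ (n : ℕ) {P T : Scheme.{u}} (π : P ⟶ T) [Etale π] [IsSeparated π]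
    (s : Fin n → (T ⟶ P)) (_ : ∀ i, s i ≫ π = 𝟙 T) (_ : ∀ i, IsOpenImmersion (s i))
    (_ : ∀ q : P, ∃ i, q ∈ Set.range (s i))
    (_ : ∀ i k, i ≠ k → Disjoint (Set.range (s i)) (Set.range (s k)))
    (G : EtCoh.Ab P) (_ : EtCoh.IsFiniteLocallyConstant G),
    EtCoh.IsFiniteLocallyConstant ((extZero π).obj G) := by
  intro n
  induction n with
  | zero =>
    intro P T π _ _ s hs ho cov disj G hG
    haveI : IsEmpty P := ⟨fun q => by
      obtain ⟨i, _⟩ := cov q
      exact i.elim0⟩
    exact flc_of_isZero _ (isZero_extZero_of_isEmpty π G)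
  | succ n ih =>
    intro P T π _ _ s hs ho cov disj G hG
    haveI := ho
    let B : P.Opens := ⨆ i : Fin n, (s i.succ).opensRange
    have hmemB : ∀ q : P, q ∈ Set.range B.ι ↔ ∃ i : Fin n, q ∈ Set.range (s i.succ) := by
      intro q
      rw [Scheme.Opens.range_ι]
      exact TopologicalSpace.Opens.mem_iSup
    have hd : Disjoint (Set.range (s 0)) (Set.range B.ι) := by
      rw [Set.disjoint_left]
      intro q hq0 hqB
      obtain ⟨i, hi⟩ := (hmemB q).1 hqB
      exact Set.disjoint_left.1 (disj 0 i.succ (Fin.succ_ne_zero i).symm) hq0 hi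
    have hc : ∀ p : P, p ∈ Set.range (s 0) ∨ p ∈ Set.range B.ι := by
      intro p
      obtain ⟨i, hi⟩ := cov p
      revert hi
      refine Fin.cases (fun h => Or.inl h) (fun k h => Or.inr ((hmemB p).2 ⟨k, h⟩)) i
    -- the first piece
    have hA : EtCoh.IsFiniteLocallyConstant
        ((extZero (s 0 ≫ π)).obj ((restrAlong (s 0)).obj G)) := by
      haveI : IsIso (s 0 ≫ π) := by
        rw [hs 0]
        infer_instance
      exact flc_extZero_of_isIso (s 0 ≫ π) _ (flc_restr (s 0) G hG)
    -- the remaining pieces
    have hsub : ∀ i : Fin n, Set.range (s i.succ) ⊆ Set.range B.ι := fun i q hq =>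
      (hmemB q).2 ⟨i, hq⟩
    let s' : Fin n → (T ⟶ (B : Scheme.{u})) := fun i =>
      IsOpenImmersion.lift B.ι (s i.succ) (hsub i)
    have hfac : ∀ i, s' i ≫ B.ι = s i.succ := fun i => IsOpenImmersion.lift_fac _ _ _
    have hfac' : ∀ i (t : T), B.ι (s' i t) = s i.succ t := by
      intro i t
      have := congrArg (fun f : T ⟶ P => f t) (hfac i)
      exact this
    have hinj : Function.Injective B.ι := B.ι.isOpenEmbedding.injective
    have hB : EtCoh.IsFiniteLocallyConstant
        ((extZero (B.ι ≫ π)).obj ((restrAlong B.ι).obj G)) := by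
      refine ih (B.ι ≫ π) s' ?_ ?_ ?_ ?_ _ (flc_restr B.ι G hG)
      · intro i
        rw [← Category.assoc, hfac, hs]
      · intro i
        haveI : IsOpenImmersion (s' i ≫ B.ι) := by
          rw [hfac]
          exact ho _
        exact IsOpenImmersion.of_comp (s' i) B.ι
      · intro q
        have hq : B.ι q ∈ Set.range B.ι := ⟨q, rfl⟩
        obtain ⟨i, t, ht⟩ := (hmemB _).1 hq
        refine ⟨i, t, hinj ?_⟩
        rw [hfac']
        exact ht
      · intro i k hik
        rw [Set.disjoint_left]
        rintro q ⟨t, rfl⟩ ⟨t', ht'⟩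
        have h1 : s i.succ t = s k.succ t' := by
          rw [← hfac', ← hfac', ht']
        exact Set.disjoint_left.1 (disj i.succ k.succ (fun h => hik (Fin.succ_injective _ h)))
          ⟨t, rfl⟩ ⟨t', h1.symm⟩
    exact flc_of_decomp π (s 0) B.ι hd hc G hA hB

/-- extension by zero along a finite étale morphism preserves finite local constancy -/
theorem flc_extZero_of_finite {P T : Scheme.{u}} (π : P ⟶ T) [Etale π] [IsFinite π]
    (G : EtCoh.Ab P) (hG : EtCoh.IsFiniteLocallyConstant G) :
    EtCoh.IsFiniteLocallyConstant ((extZero π).obj G) := by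
  have hex := fun t : T => exists_split π t
  choose U₀ g hg u₀ hu₀ n hS using hex
  haveI := hg
  refine flc_etale_local _ (κ := ↥T) U₀ g (fun t => ⟨t, u₀ t, hu₀ t⟩) (fun t => ?_)
  obtain ⟨S⟩ := hS t
  have hpb : IsPullback (pullback.snd π (g t)) (pullback.fst π (g t)) (g t) π :=
    (IsPullback.of_hasPullback π (g t)).flip
  let e1 := (EtShriekBC.extZeroPullIso π (g t) (pullback.snd π (g t)) (pullback.fst π (g t))
    hpb).app G
  let e2 := (Groth.Agent.S0623.pullIso (g t)).app ((extZero π).obj G)
  have h1 : EtCoh.IsFiniteLocallyConstant ((extZero (pullback.snd π (g t))).obj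
      ((EtCoh.pull (pullback.fst π (g t))).obj G)) :=
    flc_of_sections (n t) (pullback.snd π (g t)) S.s S.hs S.isOpen S.cov S.disj _
      (CsPull.flc_pull _ G hG)
  exact flc_of_iso (e1 ≪≫ e2) h1

/-- the inverse image of `f_! F` along a morphism over which `f` becomes finite is finite locally
constant -/
theorem flc_pull_extZero {U X T : Scheme.{u}} (f : U ⟶ X) [Etale f] [JCont f] (g : T ⟶ X)
    [IsFinite (pullback.snd f g)] (F : EtCoh.Ab U) (hF : EtCoh.IsFiniteLocallyConstant F) :
    EtCoh.IsFiniteLocallyConstant ((EtCoh.pull g).obj ((extZero f).obj F)) := by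
  have hpb : IsPullback (pullback.snd f g) (pullback.fst f g) g f :=
    (IsPullback.of_hasPullback f g).flip
  let e1 := (EtShriekBC.extZeroPullIso f g (pullback.snd f g) (pullback.fst f g) hpb).app F
  exact flc_of_iso e1 (flc_extZero_of_finite (pullback.snd f g) _ (CsPull.flc_pull _ F hF))

/-- extension by zero of a finite locally constant sheaf along an étale morphism of quasi-compact
quasi-separated schemes is constructible -/
theorem main {U X : Scheme.{u}} [CompactSpace X] [QuasiSeparatedSpace X] [CompactSpace U]
    [QuasiSeparatedSpace U] (f : U ⟶ X) [Etale f] [JCont f] (F : EtCoh.Ab U)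
    (hF : EtCoh.IsFiniteLocallyConstant F) : EtPBC.IsConstructible ((extZero f).obj F) := by
  obtain ⟨ι, hι, T, g, h1, h2, h3, h4, h5⟩ := EtFinMain.main f
  refine constructible_of_strat_univ _ ⟨ι, hι, T, g, h1, fun i => ?_, h3, h4, fun i => ?_⟩
  · exact (h2 i).preimage_of_isOpenEmbedding isOpen_univ.isOpenEmbedding_subtypeVal
  · haveI : IsFinite (pullback.snd f (g i)) := h5 i
    exact flc_pull_extZero f (g i) F hF

end H9FE.ShriekFLC
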