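import Mathlib
import Groth.Prelude.Def_EtBase
import Groth.Prelude.Def_EtCore
import Groth.Prelude.Def_EtShriek2
import Groth.Prelude.Def_PBC
import Groth.Agent.Lib.Helper9.FE.ShriekFLC
import Groth.Agent.Lib.Helper9.FE.ConstSite
import Groth.Agent.Lib.Helper9.FE.CsNoeth

/-! helper9: constant sheaves with finite value are finite locally constant; the extension by zero
`EtPBC.extZeroConst U M` from the slice site over an étale `X`-scheme `U` agrees with the extension by
zero of the constant sheaf along the structure morphism of `U` (both corepresent `H ↦ Hom(M, H(U))`);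
hence it is constructible when `U` and `X` are quasi-compact and quasi-separated. -/

set_option autoImplicit false
set_option linter.unusedSectionVars false
set_option linter.style.haveILetI false
set_option backward.isDefEq.respectTransparency false
universe u
open CategoryTheory CategoryTheory.Limits AlgebraicGeometry Opposite

namespace H9FE.ShriekConst
open EtShriek H9FE.ConstSite H9FE.CsStrata

/-- constant sheaves with finite value are finite locally constant -/
theorem flc_const (Y : Scheme.{u}) (M : Type) [AddCommGroup M] [Finite M] :
    EtCoh.IsFiniteLocallyConstant (EtCoh.const Y M) := by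
  refine ⟨PUnit.{u + 1}, fun _ => EtCoh.top Y, fun y => ⟨PUnit.unit, y, rfl⟩, fun _ => ?_⟩
  exact ⟨M, inferInstance, inferInstance,
    ⟨resConstIso Y.smallEtaleTopology (Y.smallEtaleTopology.over (EtCoh.top Y))
      (Over.forget (EtCoh.top Y)) (AddCommGrpCat.of (ULift.{u + 1} M))⟩⟩

variable {X : Scheme.{u}} (U : X.Etale)

/-- `(U → U → X)` is `U` -/
noncomputable def topIso [Etale U.hom] : (compEtale U.hom).obj (EtCoh.top U.left) ≅ U :=
  MorphismProperty.Over.isoMk (Iso.refl _)
    ((Category.id_comp _).trans (Category.id_comp _).symm)

/-- sections over `U`, computed on the slice site or on the small étale site of `U` -/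
noncomputable def rightIso [Etale U.hom] :
    X.smallEtaleTopology.overPullback AddCommGrpCat.{u + 1} U ⋙
      (sheafSections (X.smallEtaleTopology.over U) AddCommGrpCat.{u + 1}).obj
        (op (Over.mk (𝟙 U))) ≅
    restrAlong U.hom ⋙ EtCore.gsec U.left :=
  NatIso.ofComponents (fun H => H.obj.mapIso (topIso U).op)
    (fun {_ _} φ => (φ.hom.naturality (topIso U).hom.op).symm)

/-- the two extensions by zero of constant sheaves agree -/
noncomputable def constIso [Etale U.hom] :
    constantSheaf (X.smallEtaleTopology.over U) AddCommGrpCat.{u + 1} ⋙ EtPBC.extZero U ≅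
      constantSheaf U.left.smallEtaleTopology AddCommGrpCat.{u + 1} ⋙ extZero U.hom :=
  (((constantSheafAdj (X.smallEtaleTopology.over U) AddCommGrpCat.{u + 1}
    Over.mkIdTerminal).comp (EtPBC.extZeroAdj U)).ofNatIsoRight (rightIso U)).leftAdjointUniq
    ((EtCore.constAdj U.left).comp (extZeroAdj U.hom))

theorem main (X : Scheme.{u}) [CompactSpace X] [QuasiSeparatedSpace X]
    (U : X.Etale) [CompactSpace U.left] [QuasiSeparatedSpace U.left]
    (M : Type) [AddCommGroup M] [Finite M] :
    EtPBC.IsConstructible (EtPBC.extZeroConst U M) := by
  haveI : Etale U.hom := U.prop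
  have h := ShriekFLC.main (U := U.left) (X := X) U.hom (EtCoh.const U.left M) (flc_const U.left M)
  exact H9FE.CsSub.constructible_of_iso
    ((constIso U).app (AddCommGrpCat.of (ULift.{u + 1} M))).symm h

end H9FE.ShriekConst
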