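import Mathlib
import Groth.Prelude.Def_EtBase
import Groth.Prelude.Def_EtCore
import Groth.Prelude.Def_PBC
import Groth.Agent.Lib.Helper9.FE.ShriekConst
import Groth.Agent.Lib.Helper9.FE.CsAcc3
import Groth.Agent.Lib.Helper9.FE.CsNoeth
import Groth.Agent.Lib.Helper5.Misc.EtSiteBasic

/-! helper9: on a Noetherian scheme a torsion abelian étale sheaf is constructible iff it is a
Noetherian object (a maximal constructible subsheaf contains every torsion section over an affine
étale scheme, through the maps `j_! ℤ/n ⟶ F`). -/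

set_option autoImplicit false
set_option linter.unusedSectionVars false
set_option linter.style.haveILetI false
set_option backward.isDefEq.respectTransparency false
universe u
open CategoryTheory CategoryTheory.Limits AlgebraicGeometry Opposite ZeroObject

namespace H9FE.CsNoethObj
open H9FE.ConstSite H9FE.CsStrata H9FE.CsSub H9FE.FlcLocal Groth.Agent.Lib.Helper5

variable {X : Scheme.{u}}

/-- finite locally constant sheaves are constructible -/
theorem constructible_of_flc [QuasiSeparatedSpace X] (F : EtCoh.Ab X)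
    (hF : EtCoh.IsFiniteLocallyConstant F) : EtPBC.IsConstructible F := by
  have hr : Set.range (𝟙 X : X ⟶ X) = Set.univ := by
    ext x
    simp
  refine constructible_of_strat_univ F ⟨PUnit, inferInstance, fun _ => X, fun _ => 𝟙 X,
    fun _ => inferInstance, fun _ => ?_, ?_, ?_, fun _ => ?_⟩
  · rw [hr, Set.preimage_univ]
    exact Topology.IsConstructible.univ
  · intro i j hij
    exact (hij (Subsingleton.elim _ _)).elim
  · show (⋃ _ : PUnit, Set.range (𝟙 X : X ⟶ X)) = Set.univ
    rw [hr]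
    exact Set.iUnion_const _
  · exact CsPull.flc_pull (𝟙 X) F hF

/-- maps out of `j_{V!} M` correspond to group homomorphisms `M → F(V)` -/
noncomputable def adjV (V : X.Etale) :
    constantSheaf (X.smallEtaleTopology.over V) AddCommGrpCat.{u + 1} ⋙ EtPBC.extZero V ⊣
      X.smallEtaleTopology.overPullback AddCommGrpCat.{u + 1} V ⋙
        (sheafSections (X.smallEtaleTopology.over V) AddCommGrpCat.{u + 1}).obj
          (op (Over.mk (𝟙 V))) :=
  (constantSheafAdj (X.smallEtaleTopology.over V) AddCommGrpCat.{u + 1}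
    Over.mkIdTerminal).comp (EtPBC.extZeroAdj V)

/-- a group homomorphism `M → F(V)` is induced by a map `j_{V!} M ⟶ F` and sections over `V` -/
theorem exists_map_of_section (F : EtCoh.Ab X) (V : X.Etale) (M : Type) [AddCommGroup M]
    (ψ : M →+ F.obj.obj (op V)) (m : M) :
    ∃ (φ : EtPBC.extZeroConst V M ⟶ F) (σ : (EtPBC.extZeroConst V M).obj.obj (op V)),
      φ.hom.app (op V) σ = ψ m := by
  let Mc : AddCommGrpCat.{u + 1} := AddCommGrpCat.of (ULift.{u + 1} M)
  let ψ' : Mc ⟶ AddCommGrpCat.of (F.obj.obj (op V)) :=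
    AddCommGrpCat.ofHom (ψ.comp AddEquiv.ulift.toAddMonoidHom)
  let φ : EtPBC.extZeroConst V M ⟶ F := ((adjV V).homEquiv Mc F).symm ψ'
  have h1 : (adjV V).homEquiv Mc F φ = ψ' := Equiv.apply_symm_apply _ _
  rw [Adjunction.homEquiv_unit] at h1
  let σ : (EtPBC.extZeroConst V M).obj.obj (op V) := ((adjV V).unit.app Mc) (ULift.up m)
  refine ⟨φ, σ, ?_⟩
  have h2 := congrArg (fun f : Mc ⟶ AddCommGrpCat.of (F.obj.obj (op V)) => f (ULift.up m)) h1
  exact h2

/-- a torsion Noetherian object is constructible -/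
theorem constructible_of_noetherianObject (X : Scheme.{u}) [IsNoetherian X] (F : EtCoh.Ab X)
    (hF : EtCoh.IsTorsion F) [IsNoetherianObject F] : EtPBC.IsConstructible F := by
  let 𝒮 : Set (Subobject F) := {S | EtPBC.IsConstructible (S : EtCoh.Ab X)}
  have hne : 𝒮.Nonempty :=
    ⟨Subobject.mk (0 : (0 : EtCoh.Ab X) ⟶ F),
      constructible_of_iso (Subobject.underlyingIso (0 : (0 : EtCoh.Ab X) ⟶ F)).symm
        (constructible_of_flc _ (flc_of_isZero _ (isZero_zero _)))⟩
  obtain ⟨S₀, hS₀, hmax⟩ := wellFounded_gt.has_min 𝒮 hne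
  have hS₀' : EtPBC.IsConstructible (S₀ : EtCoh.Ab X) := hS₀
  have key : ∀ (V : X.Etale) [IsAffine V.left] (n : ℕ) (_ : 0 < n) (t : F.obj.obj (op V)),
      n • t = 0 → ∃ τ : (S₀ : EtCoh.Ab X).obj.obj (op V), S₀.arrow.hom.app (op V) τ = t := by
    intro V _ n hn t ht
    haveI : NeZero n := ⟨hn.ne'⟩
    let ψ : ZMod n →+ F.obj.obj (op V) := ZMod.lift n ⟨zmultiplesHom _ t, by simpa using ht⟩
    have hψ1 : ψ 1 = t := by
      have h := ZMod.lift_coe n (⟨zmultiplesHom _ t, by simpa using ht⟩ :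
        {f : ℤ →+ F.obj.obj (op V) // f n = 0}) 1
      rw [Int.cast_one] at h
      exact h.trans (by simp)
    obtain ⟨φ, σ, hσ⟩ := exists_map_of_section F V (ZMod n) ψ 1
    let d : (S₀ : EtCoh.Ab X) ⊞ EtPBC.extZeroConst V (ZMod n) ⟶ F := biprod.desc S₀.arrow φ
    let S₁ : Subobject F := imageSubobject d
    have hle : S₀ ≤ S₁ := Subobject.le_of_comm (biprod.inl ≫ factorThruImageSubobject d) (by
      rw [Category.assoc, imageSubobject_arrow_comp, biprod.inl_desc])
    have hS₁ : S₁ ∈ 𝒮 := by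
      have h1 : EtPBC.IsConstructible (EtPBC.extZeroConst V (ZMod n)) :=
        ShriekConst.main X V (ZMod n)
      have h2 : EtPBC.IsConstructible
          ((S₀ : EtCoh.Ab X) ⊞ EtPBC.extZeroConst V (ZMod n)) :=
        constructible_extension _
          (ShortComplex.Splitting.ofHasBinaryBiproduct _ _).shortExact hS₀' h1
      exact quotient_constructible X (factorThruImageSubobject d) h2
    have heq : S₁ = S₀ := by
      by_contra hne'
      exact hmax S₁ hS₁ (lt_of_le_of_ne hle (Ne.symm hne'))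
    have hle' : S₁ ≤ S₀ := heq.le
    let κ : EtPBC.extZeroConst V (ZMod n) ⟶ (S₀ : EtCoh.Ab X) :=
      biprod.inr ≫ factorThruImageSubobject d ≫ Subobject.ofLE S₁ S₀ hle'
    have hκ : κ ≫ S₀.arrow = φ := by
      simp only [κ, Category.assoc, Subobject.ofLE_arrow]
      rw [imageSubobject_arrow_comp, biprod.inr_desc]
    refine ⟨κ.hom.app (op V) σ, ?_⟩
    have h3 := congrArg (fun f : EtPBC.extZeroConst V (ZMod n) ⟶ F => f.hom.app (op V) σ) hκ
    exact h3.trans (hσ.trans hψ1)
  haveI : Epi S₀.arrow := by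
    rw [← Sheaf.isLocallySurjective_iff_epi']
    refine ⟨fun {U} s => ?_⟩
    rw [EtSiteBasic.mem_smallEtale_iff]
    intro x
    obtain ⟨V, g, ⟨v, hv⟩, hfin⟩ := hF U s x
    have haff : ∃ A : V.left.Opens, IsAffineOpen A ∧ v ∈ A := by
      obtain ⟨_, ⟨A, hA, rfl⟩, hvA, -⟩ := V.left.isBasis_affineOpens.exists_subset_of_mem_open
        (Set.mem_univ v) isOpen_univ
      exact ⟨A, hA, hvA⟩
    obtain ⟨A, hA, hvA⟩ := haff
    haveI : Etale V.hom := V.prop
    let W : X.Etale := EtSiteBasic.ofEtale (A.ι ≫ V.hom)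
    let k : W ⟶ V := MorphismProperty.Over.homMk A.ι rfl trivial
    haveI : IsAffine W.left := hA
    obtain ⟨n, hn, hnt⟩ := isOfFinAddOrder_iff_nsmul_eq_zero.1 hfin
    have ht : n • F.obj.map (k ≫ g).op s = 0 := by
      rw [← map_map.{u + 1, u, u + 1} X.smallEtaleTopology F k g s, ← map_nsmul, hnt, map_zero]
    obtain ⟨τ, hτ⟩ := key W n hn _ ht
    exact ⟨W, k ≫ g, ⟨v, hvA⟩, ⟨τ, hτ⟩, hv⟩
  haveI : IsIso S₀.arrow := isIso_of_mono_of_epi _
  exact constructible_of_iso (asIso S₀.arrow) hS₀'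

theorem main (X : Scheme.{u}) [IsNoetherian X] (F : EtCoh.Ab X) (hF : EtCoh.IsTorsion F) :
    EtPBC.IsConstructible F ↔ IsNoetherianObject F := by
  constructor
  · intro h
    rw [isNoetherianObject_iff_monotone_chain_condition]
    intro c
    obtain ⟨N, hN⟩ := H9FE.CsAcc.acc X F h c
    exact ⟨N, fun m hm => (hN m hm).symm⟩
  · intro h
    exact constructible_of_noetherianObject X F hF

end H9FE.CsNoethObj
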