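import Mathlib
import Groth.Prelude.Def_EtBase
import Groth.Prelude.Def_PBC
import Groth.Agent.Lib.Helper9.FE.CsNoethObj
import Groth.Agent.Lib.Helper9.FE.CsSupp
import Groth.Agent.Lib.Helper9.FE.CsCons
import Groth.Agent.Lib.Helper9.FE.SpNear

/-! helper9: finite direct sums of constructible abelian étale sheaves are constructible; vanishing
of a geometric stalk only depends on the underlying point; on a quasi-compact quasi-separated scheme
a constructible sheaf killed by `n` is a quotient of a finite direct sum of sheaves `j_! ℤ/n` with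
`j` affine étale, and has a presentation by such sums. -/

set_option autoImplicit false
set_option linter.unusedSectionVars false
set_option linter.style.haveILetI false
set_option backward.isDefEq.respectTransparency false
universe u
open CategoryTheory CategoryTheory.Limits AlgebraicGeometry Opposite ZeroObject

namespace H9FE.CsGen
open H9FE.ConstSite H9FE.CsStrata H9FE.CsSub H9FE.FlcLocal H9FE.CsNoethObj H9FE.CsSupp
  Groth.Agent.Lib.Helper5

attribute [local instance] EtStalk.ab5' EtStalk.pfc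

attribute [local instance] preservesBinaryBiproducts_of_preservesBinaryCoproducts
  preservesBinaryBiproducts_of_preservesBinaryProducts

variable {X : Scheme.{u}}

/-! ### finite direct sums of constructible sheaves -/

/-- constructibility as a property of objects -/
def consP (X : Scheme.{u}) : ObjectProperty (EtCoh.Ab X) := fun F => EtPBC.IsConstructible F

instance : (consP X).IsClosedUnderIsomorphisms where
  of_iso e h := constructible_of_iso e h

instance [QuasiSeparatedSpace X] : (consP X).ContainsZero where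
  exists_zero := ⟨0, isZero_zero _, constructible_of_flc _ (flc_of_isZero _ (isZero_zero _))⟩

theorem constructible_biprod {A B : EtCoh.Ab X} (hA : EtPBC.IsConstructible A)
    (hB : EtPBC.IsConstructible B) : EtPBC.IsConstructible (A ⊞ B) :=
  constructible_extension _ (ShortComplex.Splitting.ofHasBinaryBiproduct A B).shortExact hA hB

instance : (consP X).IsClosedUnderBinaryProducts where
  limitsOfShape_le := by
    rintro Y ⟨h⟩
    let A := h.diag.obj ⟨WalkingPair.left⟩
    let B := h.diag.obj ⟨WalkingPair.right⟩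
    have e1 : Y ≅ limit h.diag := IsLimit.conePointUniqueUpToIso h.isLimit (limit.isLimit _)
    have e2 : limit h.diag ≅ A ⨯ B := HasLimit.isoOfNatIso (diagramIsoPair h.diag)
    have e3 : A ⨯ B ≅ A ⊞ B := (biprod.isoProd A B).symm
    exact constructible_of_iso (e1 ≪≫ e2 ≪≫ e3).symm
      (constructible_biprod (h.prop_diag_obj _) (h.prop_diag_obj _))

/-- finite direct sums of constructible sheaves are constructible -/
theorem constructible_biproduct [QuasiSeparatedSpace X] {ι : Type*} [Finite ι]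
    (f : ι → EtCoh.Ab X) (h : ∀ i, EtPBC.IsConstructible (f i)) :
    EtPBC.IsConstructible (⨁ f) := by
  haveI : (consP X).IsClosedUnderFiniteProducts :=
    ObjectProperty.IsClosedUnderFiniteProducts.mk'
  exact constructible_of_iso (biproduct.isoProduct f).symm ((consP X).prop_product h)

/-! ### sheaves killed by `n` -/

theorem killedBy_of_nsmul_id {H : EtCoh.Ab X} (n : ℕ) (h : n • 𝟙 H = 0) : EtCoh.KilledBy n H := by
  intro U s
  have h2 := congrArg (fun f : H ⟶ H => f.hom.app (op U) s) h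
  exact h2

theorem nsmul_id_extZeroConst (V : X.Etale) (n : ℕ) :
    n • 𝟙 (EtPBC.extZeroConst V (ZMod n)) = 0 := by
  let L := constantSheaf (X.smallEtaleTopology.over V) AddCommGrpCat.{u + 1} ⋙ EtPBC.extZero V
  haveI : L.IsLeftAdjoint := (adjV V).isLeftAdjoint
  haveI : L.Additive := Functor.additive_of_preservesBinaryBiproducts _
  let Mc : AddCommGrpCat.{u + 1} := AddCommGrpCat.of (ULift.{u + 1} (ZMod n))
  have h0 : n • 𝟙 Mc = 0 := by
    ext x
    show n • x.down = 0
    rw [nsmul_eq_mul, ZMod.natCast_self, zero_mul]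
  show n • 𝟙 (L.obj Mc) = 0
  rw [← L.map_id, ← L.map_nsmul, h0, L.map_zero]

theorem nsmul_id_biproduct {ι : Type*} [Finite ι] (f : ι → EtCoh.Ab X) (n : ℕ)
    (h : ∀ i, n • 𝟙 (f i) = 0) : n • 𝟙 (⨁ f) = 0 := by
  apply biproduct.hom_ext'
  intro i
  rw [Preadditive.comp_nsmul, Category.comp_id, comp_zero]
  have h1 : n • biproduct.ι f i = (n • 𝟙 (f i)) ≫ biproduct.ι f i := by
    rw [Preadditive.nsmul_comp, Category.id_comp]
  rw [h1, h i, zero_comp]

theorem nsmul_id_of_mono {K G : EtCoh.Ab X} (k : K ⟶ G) [Mono k] (n : ℕ) (h : n • 𝟙 G = 0) :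
    n • 𝟙 K = 0 := by
  apply (cancel_mono k).1
  rw [Preadditive.nsmul_comp, Category.id_comp, zero_comp]
  have h1 : n • k = k ≫ (n • 𝟙 G) := by
    rw [Preadditive.comp_nsmul, Category.comp_id]
  rw [h1, h, comp_zero]

/-! ### stalks at geometric points over the same point -/

/-- vanishing of a geometric stalk only depends on the underlying point -/
theorem subsingleton_stalk_of_same_point (C : EtCoh.Ab X) {Ω₀ Ω : Type u} [Field Ω₀]
    [IsSepClosed Ω₀] [Field Ω] [IsSepClosed Ω] (ξ₀ : Spec (CommRingCat.of Ω₀) ⟶ X)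
    (ξ : Spec (CommRingCat.of Ω) ⟶ X) (h : ξ₀ default = ξ default)
    (hs : Subsingleton ((EtCoh.stalk ξ₀).obj C)) : Subsingleton ((EtCoh.stalk ξ).obj C) := by
  let Φ₀ := Scheme.pointSmallEtale ξ₀
  let Φ := Scheme.pointSmallEtale ξ
  suffices ∀ p : (EtCoh.stalk ξ).obj C, p = 0 from ⟨fun p p' => by rw [this p, this p']⟩
  intro p
  obtain ⟨V', y', c, rfl⟩ := Φ.toPresheafFiber_jointly_surjective (P := C.obj) p
  haveI : Etale V'.hom := V'.prop
  let v' : V'.left := y'.left (default : Spec (CommRingCat.of Ω))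
  have hv' : V'.hom v' = ξ₀ default := by
    rw [h]
    have e : y'.left ≫ V'.hom = ξ := Over.w y'
    exact congrArg (fun f : Spec (CommRingCat.of Ω) ⟶ X => f (default : Spec (CommRingCat.of Ω))) e
  obtain ⟨l₀, hl₀, hl₀'⟩ := Scheme.exists_fac_of_etale_of_isSepClosed V'.hom ξ₀ v' hv'
  let y₀ : Φ₀.fiber.obj V' := Over.homMk l₀ hl₀
  have h0 : Φ₀.toPresheafFiber V' y₀ C.obj c = Φ₀.toPresheafFiber V' y₀ C.obj 0 :=
    @Subsingleton.elim _ hs _ _
  rw [Φ₀.toPresheafFiber_eq_iff'] at h0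
  obtain ⟨W, f, w, hw, hf⟩ := h0
  let w₁ : W.left := w.left (default : Spec (CommRingCat.of Ω₀))
  have hw₁ : f.left w₁ = y'.left (default : Spec (CommRingCat.of Ω)) := by
    have e1 : w.left ≫ f.left = l₀ := congrArg (fun z : Φ₀.fiber.obj V' => z.left) hw
    have e2 := congrArg (fun g : Spec (CommRingCat.of Ω₀) ⟶ V'.left =>
      g (default : Spec (CommRingCat.of Ω₀))) e1
    exact e2.trans hl₀'
  haveI : Etale f.left := inferInstance
  obtain ⟨l, hl, -⟩ := Scheme.exists_fac_of_etale_of_isSepClosed f.left y'.left w₁ hw₁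
  let w' : Φ.fiber.obj W := Over.homMk l (by
    have e : f.left ≫ V'.hom = W.hom := MorphismProperty.Over.w f
    have e' : y'.left ≫ V'.hom = ξ := Over.w y'
    show l ≫ W.hom = ξ
    rw [← e, ← Category.assoc, hl, e'])
  have hw' : Φ.fiber.map f w' = y' := by
    apply Over.OverMorphism.ext
    exact hl
  have h1 := Φ.toPresheafFiber_w_apply f w' C.obj c
  rw [hw'] at h1
  rw [← h1, hf, map_zero, map_zero]

/-- germs are represented over affine étale neighbourhoods -/
theorem exists_affine_germ (F : EtCoh.Ab X) {Ω : Type u} [Field Ω] [IsSepClosed Ω]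
    (ξ : Spec (CommRingCat.of Ω) ⟶ X) (p : (EtCoh.stalk ξ).obj F) :
    ∃ (V : X.Etale) (_ : IsAffine V.left) (y : (Scheme.pointSmallEtale ξ).fiber.obj V)
      (t : F.obj.obj (op V)), (Scheme.pointSmallEtale ξ).toPresheafFiber V y F.obj t = p := by
  let Φ := Scheme.pointSmallEtale ξ
  obtain ⟨V₀, y₀, t₀, rfl⟩ := Φ.toPresheafFiber_jointly_surjective (P := F.obj) p
  haveI : Etale V₀.hom := V₀.prop
  have haff : ∃ A : V₀.left.Opens, IsAffineOpen A ∧
      y₀.left (default : Spec (CommRingCat.of Ω)) ∈ A := by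
    obtain ⟨_, ⟨A, hA, rfl⟩, hvA, -⟩ := V₀.left.isBasis_affineOpens.exists_subset_of_mem_open
      (Set.mem_univ (y₀.left (default : Spec (CommRingCat.of Ω)))) isOpen_univ
    exact ⟨A, hA, hvA⟩
  obtain ⟨A, hA, hyA⟩ := haff
  let W : X.Etale := EtSiteBasic.ofEtale (A.ι ≫ V₀.hom)
  let k : W ⟶ V₀ := MorphismProperty.Over.homMk A.ι rfl trivial
  have hsub : Set.range y₀.left ⊆ Set.range A.ι := by
    rw [Scheme.Opens.range_ι]
    rintro _ ⟨a, rfl⟩
    have ha : a = (default : Spec (CommRingCat.of Ω)) :=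
      @Subsingleton.elim (Spec (CommRingCat.of Ω)) inferInstance a default
    rw [ha]
    exact hyA
  let l : Spec (CommRingCat.of Ω) ⟶ (A : Scheme.{u}) := IsOpenImmersion.lift A.ι y₀.left hsub
  have hl : l ≫ A.ι = y₀.left := IsOpenImmersion.lift_fac _ _ _
  let y' : Φ.fiber.obj W := Over.homMk l (by
    have e' : y₀.left ≫ V₀.hom = ξ := Over.w y₀
    show l ≫ A.ι ≫ V₀.hom = ξ
    rw [← Category.assoc, hl, e'])
  have hy' : Φ.fiber.map k y' = y₀ := by
    apply Over.OverMorphism.ext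
    exact hl
  refine ⟨W, hA, y', F.obj.map k.op t₀, ?_⟩
  have h1 := Φ.toPresheafFiber_w_apply k y' F.obj t₀
  rw [hy'] at h1
  exact h1

/-! ### generation -/

/-- on a quasi-compact quasi-separated scheme a constructible sheaf killed by `n` is a quotient of a
finite direct sum of sheaves `j_! ℤ/n` with `j` affine étale -/
theorem exists_epi_of_killed (X : Scheme.{u}) [CompactSpace X] [QuasiSeparatedSpace X] (n : ℕ)
    (hn : 0 < n) (F : EtCoh.Ab X) (hF : EtPBC.IsConstructible F) (hFn : EtCoh.KilledBy n F) :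
    ∃ (κ : Type) (_ : Finite κ) (U : κ → X.Etale) (_ : ∀ p, IsAffine (U p).left)
      (ψ : (⨁ fun p => EtPBC.extZeroConst (U p) (ZMod n)) ⟶ F), Epi ψ := by
  haveI : NeZero n := ⟨hn.ne'⟩
  have hloc : ∀ x : X, ∃ (m : ℕ) (V : Fin m → X.Etale) (_ : ∀ i, IsAffine (V i).left)
      (φ : ∀ i, EtPBC.extZeroConst (V i) (ZMod n) ⟶ F),
      Function.Surjective ((EtCoh.stalk (EtStalk.geomPtAt x).ξ).map (biproduct.desc φ)) := by
    intro x
    let g := EtStalk.geomPtAt x
    let Φ := Scheme.pointSmallEtale g.ξ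
    haveI := SpNear.finite_stalk_of_constructible F hF g.ξ
    obtain ⟨m, ⟨e⟩⟩ := Finite.exists_equiv_fin ((EtCoh.stalk g.ξ).obj F)
    choose V hV y t ht using fun i : Fin m => exists_affine_germ F g.ξ (e.symm i)
    have hex : ∀ i : Fin m, ∃ (φ : EtPBC.extZeroConst (V i) (ZMod n) ⟶ F)
        (σ : (EtPBC.extZeroConst (V i) (ZMod n)).obj.obj (op (V i))),
        φ.hom.app (op (V i)) σ = t i := by
      intro i
      obtain ⟨φ, σ, hσ⟩ := exists_map_of_section F (V i) (ZMod n)
        (ZMod.lift n (⟨zmultiplesHom _ (t i), by simpa using hFn _ (t i)⟩ :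
          {f : ℤ →+ F.obj.obj (op (V i)) // f n = 0})) 1
      refine ⟨φ, σ, hσ.trans ?_⟩
      have h := ZMod.lift_coe n (⟨zmultiplesHom _ (t i), by simpa using hFn _ (t i)⟩ :
        {f : ℤ →+ F.obj.obj (op (V i)) // f n = 0}) 1
      rw [Int.cast_one] at h
      exact h.trans (by simp)
    choose φ σ hσ using hex
    refine ⟨m, V, hV, φ, ?_⟩
    intro p
    let i := e p
    have hp : p = Φ.toPresheafFiber (V i) (y i) F.obj (t i) := by
      rw [ht i]
      exact (e.symm_apply_apply p).symm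
    let z := Φ.toPresheafFiber (V i) (y i) (EtPBC.extZeroConst (V i) (ZMod n)).obj (σ i)
    have e1 : (EtCoh.stalk g.ξ).map (biproduct.ι _ i) ≫
        (EtCoh.stalk g.ξ).map (biproduct.desc φ) = (EtCoh.stalk g.ξ).map (φ i) := by
      rw [← Functor.map_comp, biproduct.ι_desc]
    refine ⟨(EtCoh.stalk g.ξ).map (biproduct.ι _ i) z, ?_⟩
    have e2 := ConcreteCategory.congr_hom e1 z
    refine e2.trans ?_
    rw [hp, ← hσ i]
    exact Φ.toPresheafFiber_naturality_apply (φ i).hom (V i) (y i) (σ i)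
  choose m V hV φ hφ using hloc
  haveI : ∀ x i, IsAffine (V x i).left := hV
  let R : X → Set X := fun x => {x' | ∀ (Ω : Type u) [Field Ω] [IsSepClosed Ω]
    (ξ : Spec (CommRingCat.of Ω) ⟶ X), Set.range ξ = {x'} →
      Function.Surjective ((EtCoh.stalk ξ).map (biproduct.desc (φ x)))}
  have hRc : ∀ x, Topology.IsConstructible (R x) := fun x =>
    surj_locus_constructible X _
      (constructible_biproduct _ (fun i => ShriekConst.main X (V x i) (ZMod n))) hF
  have hxR : ∀ x, x ∈ R x := by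
    intro x Ω _ _ ξ hξ
    rw [surj_iff_coker]
    refine subsingleton_stalk_of_same_point _ (EtStalk.geomPtAt x).ξ ξ ?_ ?_
    · rw [EtStalk.geomPtAt_default, default_eq_of_range ξ hξ]
    · rw [← surj_iff_coker]
      exact hφ x
  obtain ⟨t, ht⟩ := exists_finite_subcover_of_isConstructible R hRc
    (Set.eq_univ_of_forall fun x => Set.mem_iUnion.2 ⟨x, hxR x⟩)
  let xx : Fin t.card → X := fun j => (t.equivFin.symm j).1
  let κ : Type := Σ j : Fin t.card, Fin (m (xx j))
  let U' : κ → X.Etale := fun p => V (xx p.1) p.2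
  let Φtot : ∀ p : κ, EtPBC.extZeroConst (U' p) (ZMod n) ⟶ F := fun p => φ (xx p.1) p.2
  refine ⟨κ, inferInstance, U', fun p => hV _ _, biproduct.desc Φtot, ?_⟩
  rw [EtStalk.epi_iff_stalks_ab]
  intro g
  have hx' : g.ξ default ∈ ⋃ x ∈ t, R x := by
    rw [ht]
    trivial
  obtain ⟨x, hxt, hxR'⟩ := Set.mem_iUnion₂.1 hx'
  let j : Fin t.card := t.equivFin ⟨x, hxt⟩
  have hj : xx j = x := by
    show (t.equivFin.symm (t.equivFin ⟨x, hxt⟩)).1 = x
    rw [Equiv.symm_apply_apply]
  have hxR'' : g.ξ default ∈ R (xx j) := by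
    rw [hj]
    exact hxR'
  have hs := hxR'' g.Ω g.ξ (range_eq_singleton g.ξ)
  let incl : (⨁ fun i : Fin (m (xx j)) => EtPBC.extZeroConst (V (xx j) i) (ZMod n)) ⟶
      ⨁ fun p : κ => EtPBC.extZeroConst (U' p) (ZMod n) :=
    biproduct.desc (fun i => biproduct.ι (fun p : κ => EtPBC.extZeroConst (U' p) (ZMod n)) ⟨j, i⟩)
  have hfac : incl ≫ biproduct.desc Φtot = biproduct.desc (φ (xx j)) := by
    apply biproduct.hom_ext'
    intro i
    rw [biproduct.ι_desc_assoc, biproduct.ι_desc, biproduct.ι_desc]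
  have hs' : Function.Surjective ((EtCoh.stalk g.ξ).map (incl ≫ biproduct.desc Φtot)) := by
    rw [hfac]
    exact hs
  rw [Functor.map_comp] at hs'
  exact Function.Surjective.of_comp hs'

/-- on a quasi-compact quasi-separated scheme a constructible sheaf killed by `n` is the cokernel of a
map between finite direct sums of sheaves `j_! ℤ/n` with `j` affine étale -/
theorem exists_presentation (X : Scheme.{u}) [CompactSpace X] [QuasiSeparatedSpace X] (n : ℕ)
    (hn : 0 < n) (F : EtCoh.Ab X) (hF : EtPBC.IsConstructible F) (hFn : EtCoh.KilledBy n F) :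
    ∃ (a b : ℕ) (V : Fin a → X.Etale) (U : Fin b → X.Etale) (_ : ∀ j, IsAffine (V j).left)
      (_ : ∀ i, IsAffine (U i).left)
      (φ : (⨁ fun j => EtPBC.extZeroConst (V j) (ZMod n)) ⟶
        ⨁ fun i => EtPBC.extZeroConst (U i) (ZMod n)),
      Nonempty (F ≅ cokernel φ) := by
  haveI : NeZero n := ⟨hn.ne'⟩
  obtain ⟨κ₁, hκ₁, U₁, hU₁, ψ, hψ⟩ := exists_epi_of_killed X n hn F hF hFn
  haveI := hκ₁
  haveI := hψ
  haveI : ∀ p, IsAffine (U₁ p).left := hU₁
  let f₁ : κ₁ → EtCoh.Ab X := fun p => EtPBC.extZeroConst (U₁ p) (ZMod n)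
  have hG : EtPBC.IsConstructible (⨁ f₁) :=
    constructible_biproduct _ (fun p => ShriekConst.main X (U₁ p) (ZMod n))
  have hGn : n • 𝟙 (⨁ f₁) = 0 :=
    nsmul_id_biproduct _ n (fun p => nsmul_id_extZeroConst (U₁ p) n)
  have hK : EtPBC.IsConstructible (kernel ψ) := (constructible_kernel_cokernel ψ hG hF).1
  have hKn : EtCoh.KilledBy n (kernel ψ) :=
    killedBy_of_nsmul_id n (nsmul_id_of_mono (kernel.ι ψ) n hGn)
  obtain ⟨κ₂, hκ₂, U₂, hU₂, ψ', hψ'⟩ := exists_epi_of_killed X n hn (kernel ψ) hK hKn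
  haveI := hκ₂
  haveI := hψ'
  let f₂ : κ₂ → EtCoh.Ab X := fun p => EtPBC.extZeroConst (U₂ p) (ZMod n)
  let φ' : ⨁ f₂ ⟶ ⨁ f₁ := ψ' ≫ kernel.ι ψ
  let e0 : cokernel (kernel.ι ψ) ≅ F :=
    (colimit.isColimit (parallelPair (kernel.ι ψ) 0)).coconePointUniqueUpToIso
      (Abelian.epiIsCokernelOfKernel (limit.cone (parallelPair ψ 0)) (limit.isLimit _))
  let e1 : cokernel φ' ≅ cokernel (kernel.ι ψ) := cokernelEpiComp ψ' (kernel.ι ψ)
  let ε₁ : Fin (Nat.card κ₁) ≃ κ₁ := (Finite.equivFin κ₁).symm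
  let ε₂ : Fin (Nat.card κ₂) ≃ κ₂ := (Finite.equivFin κ₂).symm
  let r₁ : ⨁ (f₁ ∘ ε₁) ≅ ⨁ f₁ := biproduct.reindex ε₁ f₁
  let r₂ : ⨁ (f₂ ∘ ε₂) ≅ ⨁ f₂ := biproduct.reindex ε₂ f₂
  let φ : ⨁ (f₂ ∘ ε₂) ⟶ ⨁ (f₁ ∘ ε₁) := r₂.hom ≫ φ' ≫ r₁.inv
  have hcomm : φ ≫ r₁.hom = r₂.hom ≫ φ' := by
    simp only [φ, Category.assoc, Iso.inv_hom_id, Category.comp_id]
  let e2 : cokernel φ ≅ cokernel φ' := cokernel.mapIso φ φ' r₂ r₁ hcomm
  exact ⟨Nat.card κ₂, Nat.card κ₁, U₂ ∘ ε₂, U₁ ∘ ε₁, fun j => hU₂ _, fun i => hU₁ _, φ,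
    ⟨(e2 ≪≫ e1 ≪≫ e0).symm⟩⟩

end H9FE.CsGen
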