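import Mathlib
import Groth.Prelude.Def_EtBase
import Groth.Prelude.Def_PBC
import Groth.Agent.Lib.Helper9.FE.CsGen
import Groth.Agent.Lib.Helper9.FE.SpConst
import Groth.Agent.Lib.Helper9.FE.CsAcc2

/-! helper9: a constructible abelian étale sheaf on a quasi-compact quasi-separated scheme is killed
by a positive integer; characterization of constructible sheaves as cokernels of maps between finite
direct sums of sheaves `j_! ℤ/n` with `j` affine étale. -/

set_option autoImplicit false
set_option linter.unusedSectionVars false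
set_option linter.style.haveILetI false
set_option backward.isDefEq.respectTransparency false
universe u
open CategoryTheory CategoryTheory.Limits AlgebraicGeometry Opposite ZeroObject

namespace H9FE.CsKill
open H9FE.ConstSite H9FE.CsStrata H9FE.CsSub H9FE.FlcLocal H9FE.CsNoethObj H9FE.CsSupp H9FE.CsGen
  Groth.Agent.Lib.Helper5

attribute [local instance] EtStalk.ab5' EtStalk.pfc

variable {X : Scheme.{u}}

/-- the geometric stalks of a finite locally constant sheaf on a quasi-compact scheme are killed by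
a common positive integer -/
theorem flc_exists_killing {T : Scheme.{u}} [CompactSpace T] (D : EtCoh.Ab T)
    (hD : EtCoh.IsFiniteLocallyConstant D) :
    ∃ N : ℕ, 0 < N ∧ ∀ (Ω : Type u) [Field Ω] [IsSepClosed Ω] (ξ : Spec (CommRingCat.of Ω) ⟶ T)
      (q : (EtCoh.stalk ξ).obj D), N • q = 0 := by
  obtain ⟨κ, U, hU, hα⟩ := hD
  choose M₀ iM fM hα' using hα
  have hopen : ∀ k, IsOpen (Set.range (U k).hom) := fun k => by
    haveI : Etale (U k).hom := (U k).prop
    exact (U k).hom.isOpenMap.isOpen_range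
  have hcov : (Set.univ : Set T) ⊆ ⋃ k, Set.range (U k).hom := fun t _ => by
    obtain ⟨k, y, hy⟩ := hU t
    exact Set.mem_iUnion.2 ⟨k, y, hy⟩
  obtain ⟨s, hs⟩ := isCompact_univ.elim_finite_subcover _ hopen hcov
  refine ⟨∏ k ∈ s, Nat.card (ULift.{u + 1} (M₀ k)),
    Finset.prod_pos (fun k _ => Nat.card_pos), ?_⟩
  intro Ω _ _ ξ q
  obtain ⟨k, hk, y, hy⟩ : ∃ k ∈ s, ∃ y, (U k).hom y = ξ default := by
    have := hs (Set.mem_univ (ξ default))
    obtain ⟨k, hk, hx⟩ := Set.mem_iUnion₂.1 this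
    exact ⟨k, hk, hx⟩
  haveI : Etale (U k).hom := (U k).prop
  obtain ⟨l, hl, -⟩ := Scheme.exists_fac_of_etale_of_isSepClosed (U k).hom ξ y hy
  let y₀ : (Scheme.pointSmallEtale ξ).fiber.obj (U k) := Over.homMk l hl
  obtain ⟨α⟩ := hα' k
  have hb := SpConst.stalk_gen_bijective (U k) α ξ y₀
  obtain ⟨m, rfl⟩ := hb.2 q
  have hN : (∏ k ∈ s, Nat.card (ULift.{u + 1} (M₀ k))) • m = 0 := by
    obtain ⟨c, hc⟩ := Finset.dvd_prod_of_mem (fun k => Nat.card (ULift.{u + 1} (M₀ k))) hk
    rw [hc, mul_nsmul]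
    have h0 : Nat.card (ULift.{u + 1} (M₀ k)) • m = 0 := card_nsmul_eq_zero'
    rw [h0, nsmul_zero]
  show (∏ k ∈ s, Nat.card (ULift.{u + 1} (M₀ k))) •
    (Scheme.pointSmallEtale ξ).toPresheafFiber (U k) y₀ D.obj
      (gen.{u + 1, u, u + 1} T.smallEtaleTopology D (U k) α m) = 0
  rw [← map_nsmul, ← map_nsmul, hN, map_zero, map_zero]

/-- a constructible sheaf on a quasi-compact quasi-separated scheme is killed by a positive
integer -/
theorem exists_killing (X : Scheme.{u}) [CompactSpace X] [QuasiSeparatedSpace X] (F : EtCoh.Ab X)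
    (hF : EtPBC.IsConstructible F) : ∃ N : ℕ, 0 < N ∧ EtCoh.KilledBy N F := by
  obtain ⟨ι, hι, T, h, h1, h2, h3, h4, h5⟩ := strat_univ_of_constructible F hF
  haveI := hι
  haveI : ∀ i, IsImmersion (h i) := h1
  have hr : ∀ i, Topology.IsConstructible (Set.range (h i)) := by
    intro i
    have := (h2 i).image_of_isOpenEmbedding isOpen_univ.isOpenEmbedding_subtypeVal (by
      rw [Subtype.range_coe]
      exact IsRetrocompact.univ)
    rwa [Subtype.image_preimage_coe, Set.univ_inter] at this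
  have hcomp : ∀ i, CompactSpace (T i) := by
    intro i
    have hc : IsCompact (Set.range (h i)) := CsStrata.isCompact_of_isConstructible (hr i)
    rw [← Set.image_univ, ← (h i).isEmbedding.isCompact_iff] at hc
    exact ⟨hc⟩
  have hk : ∀ i, ∃ N : ℕ, 0 < N ∧ ∀ (Ω : Type u) [Field Ω] [IsSepClosed Ω]
      (ξ : Spec (CommRingCat.of Ω) ⟶ T i) (q : (EtCoh.stalk ξ).obj ((EtCoh.pull (h i)).obj F)),
      N • q = 0 := fun i => by
    haveI := hcomp i
    exact flc_exists_killing _ (h5 i)
  choose N hNpos hN using hk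
  haveI := Fintype.ofFinite ι
  refine ⟨∏ i, N i, Finset.prod_pos (fun i _ => hNpos i), ?_⟩
  intro U s
  apply PointDetect.eq_of_germs_sheaf (EtStalk.detects X) F
  intro g x
  have hx : g.ξ default ∈ ⋃ i, Set.range (h i) := by
    rw [h4]
    trivial
  obtain ⟨i, hi⟩ := Set.mem_iUnion.1 hx
  obtain ⟨ξT, hξT⟩ := CsAcc.lift_immersion (h i) g.ξ hi
  let e := (EtStalkPull.stalkPullIso (h i) ξT).app F
  have key : ∀ q : (EtCoh.stalk (ξT ≫ h i)).obj F, (∏ i, N i) • q = 0 := by
    intro q
    have hq : q = e.hom (e.inv q) :=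
      (ConcreteCategory.congr_hom e.inv_hom_id q).symm
    have h0 : N i • e.inv q = 0 := hN i g.Ω ξT (e.inv q)
    obtain ⟨c, hc⟩ := Finset.dvd_prod_of_mem N (Finset.mem_univ i)
    rw [hq, ← map_nsmul, hc, mul_nsmul, h0, nsmul_zero, map_zero]
  have key' : ∀ q : (EtCoh.stalk g.ξ).obj F, (∏ i, N i) • q = 0 := by
    rw [← hξT]
    exact key
  show g.point.toPresheafFiber U x F.obj ((∏ i, N i) • s) = g.point.toPresheafFiber U x F.obj 0
  rw [map_nsmul, map_zero]
  exact key' _

/-- characterization of constructible sheaves by presentations -/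
theorem main (X : Scheme.{u}) [CompactSpace X] [QuasiSeparatedSpace X] (F : EtCoh.Ab X) :
    EtPBC.IsConstructible F ↔
      ∃ (a b : ℕ) (U : Fin a → X.Etale) (V : Fin b → X.Etale) (n : Fin a → ℕ) (m : Fin b → ℕ),
        (∀ i, 0 < n i ∧ IsAffine (U i).left) ∧ (∀ j, 0 < m j ∧ IsAffine (V j).left) ∧
        ∃ φ : (⨁ fun j => EtPBC.extZeroConst (V j) (ZMod (m j))) ⟶
            (⨁ fun i => EtPBC.extZeroConst (U i) (ZMod (n i))),
          Nonempty (F ≅ cokernel φ) := by
  constructor
  · intro hF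
    obtain ⟨N, hN, hk⟩ := exists_killing X F hF
    obtain ⟨a, b, V, U, hV, hU, φ, hφ⟩ := exists_presentation X N hN F hF hk
    exact ⟨b, a, U, V, fun _ => N, fun _ => N, fun i => ⟨hN, hU i⟩, fun j => ⟨hN, hV j⟩, φ, hφ⟩
  · rintro ⟨a, b, U, V, n, m, hU, hV, φ, ⟨e⟩⟩
    haveI : ∀ i, NeZero (n i) := fun i => ⟨(hU i).1.ne'⟩
    haveI : ∀ j, NeZero (m j) := fun j => ⟨(hV j).1.ne'⟩
    haveI : ∀ i, IsAffine (U i).left := fun i => (hU i).2
    haveI : ∀ j, IsAffine (V j).left := fun j => (hV j).2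
    have h1 : EtPBC.IsConstructible (⨁ fun j => EtPBC.extZeroConst (V j) (ZMod (m j))) :=
      constructible_biproduct _ (fun j => ShriekConst.main X (V j) (ZMod (m j)))
    have h2 : EtPBC.IsConstructible (⨁ fun i => EtPBC.extZeroConst (U i) (ZMod (n i))) :=
      constructible_biproduct _ (fun i => ShriekConst.main X (U i) (ZMod (n i)))
    exact constructible_of_iso e.symm (constructible_kernel_cokernel φ h1 h2).2

end H9FE.CsKill
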