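import Mathlib
import Groth.Prelude.Def_EtBase
import Groth.Prelude.Def_PBC
import Groth.Agent.Lib.Helper9.FE.CsKill
import Groth.Agent.Lib.Helper9.FE.SiteSectColim
import Groth.Agent.Lib.Helper9.FE.EtQcClass

/-! helper9: constructible abelian étale sheaves on a quasi-compact quasi-separated scheme are compact
objects: `Hom(F, -)` commutes with filtered colimits (via the presentation by sheaves `j_! ℤ/n` and the
commutation of sections over quasi-compact quasi-separated objects with filtered colimits). -/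

set_option autoImplicit false
set_option linter.unusedSectionVars false
set_option linter.style.haveILetI false
set_option backward.isDefEq.respectTransparency false
universe u
open CategoryTheory CategoryTheory.Limits AlgebraicGeometry Opposite ZeroObject

namespace H9FE.CsCompact
open H9FE.ConstSite H9FE.CsStrata H9FE.CsSub H9FE.FlcLocal H9FE.CsNoethObj H9FE.CsGen
  H9FE.SiteSectColim H9FE.EtQcClass Groth.Agent.Lib.Helper5

variable {X : Scheme.{u}} {J : Type (u + 1)} [SmallCategory J] [IsFiltered J]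
  (K : J ⥤ EtCoh.Ab X) (c : Cocone K)

/-- every map from `A` to the colimit factors through a stage -/
def HS (A : EtCoh.Ab X) : Prop :=
  ∀ ψ : A ⟶ c.pt, ∃ (j : J) (γ : A ⟶ K.obj j), γ ≫ c.ι.app j = ψ

/-- maps from `A` to a stage which agree in the colimit agree at a later stage -/
def HI (A : EtCoh.Ab X) : Prop :=
  ∀ (j : J) (α β : A ⟶ K.obj j), α ≫ c.ι.app j = β ≫ c.ι.app j →
    ∃ (k : J) (f : j ⟶ k), α ≫ K.map f = β ≫ K.map f

variable {K c}

theorem HS.of_iso {A A' : EtCoh.Ab X} (e : A ≅ A') (h : HS K c A) : HS K c A' := by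
  intro ψ
  obtain ⟨j, γ, hγ⟩ := h (e.hom ≫ ψ)
  exact ⟨j, e.inv ≫ γ, by rw [Category.assoc, hγ, Iso.inv_hom_id_assoc]⟩

theorem HI.of_iso {A A' : EtCoh.Ab X} (e : A ≅ A') (h : HI K c A) : HI K c A' := by
  intro j α β hab
  obtain ⟨k, f, hf⟩ := h j (e.hom ≫ α) (e.hom ≫ β) (by
    rw [Category.assoc, Category.assoc, hab])
  refine ⟨k, f, ?_⟩
  rw [Category.assoc, Category.assoc] at hf
  exact (cancel_epi e.hom).1 hf

/-- cokernels -/
theorem HI.cokernel {A B : EtCoh.Ab X} (φ : A ⟶ B) (hB : HI K c B) : HI K c (cokernel φ) := by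
  intro j α β hab
  obtain ⟨k, f, hf⟩ := hB j (cokernel.π φ ≫ α) (cokernel.π φ ≫ β) (by
    rw [Category.assoc, Category.assoc, hab])
  refine ⟨k, f, ?_⟩
  rw [Category.assoc, Category.assoc] at hf
  exact (cancel_epi (cokernel.π φ)).1 hf

theorem HS.cokernel {A B : EtCoh.Ab X} (φ : A ⟶ B) (hA : HI K c A) (hB : HS K c B) :
    HS K c (cokernel φ) := by
  intro ψ
  obtain ⟨j, γ, hγ⟩ := hB (cokernel.π φ ≫ ψ)
  obtain ⟨k, f, hf⟩ := hA j (φ ≫ γ) 0 (by
    rw [Category.assoc, hγ, cokernel.condition_assoc, zero_comp, zero_comp])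
  have hz : φ ≫ γ ≫ K.map f = 0 := by
    rw [← Category.assoc, hf, zero_comp]
  refine ⟨k, cokernel.desc φ (γ ≫ K.map f) hz, ?_⟩
  apply (cancel_epi (cokernel.π φ)).1
  rw [cokernel.π_desc_assoc, Category.assoc, c.w f, hγ]

/-- finite direct sums -/
theorem HI.biproduct {ι : Type} [Finite ι] (f : ι → EtCoh.Ab X) (h : ∀ i, HI K c (f i)) :
    HI K c (⨁ f) := by
  classical
  haveI := Fintype.ofFinite ι
  intro j α β hab
  obtain ⟨k, g, hg⟩ := eventually_all j (Finset.univ : Finset ι)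
    (fun i k g => biproduct.ι f i ≫ α ≫ K.map g = biproduct.ι f i ≫ β ≫ K.map g)
    (by
      intro i k g k' g' hk
      show biproduct.ι f i ≫ α ≫ K.map (g ≫ g') = biproduct.ι f i ≫ β ≫ K.map (g ≫ g')
      rw [K.map_comp]
      have h2 := congrArg (fun τ => τ ≫ K.map g') hk
      simpa only [Category.assoc] using h2)
    (by
      intro i _
      obtain ⟨k, g, hg⟩ := h i j (biproduct.ι f i ≫ α) (biproduct.ι f i ≫ β) (by
        rw [Category.assoc, Category.assoc, hab])
      exact ⟨k, g, by rw [← Category.assoc, hg, Category.assoc]⟩)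
  refine ⟨k, g, ?_⟩
  apply biproduct.hom_ext'
  intro i
  exact hg i (Finset.mem_univ i)

theorem HS.biproduct {ι : Type} [Finite ι] (f : ι → EtCoh.Ab X) (h : ∀ i, HS K c (f i)) :
    HS K c (⨁ f) := by
  classical
  haveI := Fintype.ofFinite ι
  intro ψ
  choose jj γ hγ using fun i => h i (biproduct.ι f i ≫ ψ)
  obtain ⟨j, hj⟩ := IsFiltered.sup_objs_exists (Finset.univ.image jj)
  have hg : ∀ i, Nonempty (jj i ⟶ j) := fun i =>
    hj (Finset.mem_image_of_mem jj (Finset.mem_univ i))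
  choose g _ using fun i => (hg i).elim (fun x => (⟨x, trivial⟩ : ∃ _ : jj i ⟶ j, True))
  refine ⟨j, biproduct.desc (fun i => γ i ≫ K.map (g i)), ?_⟩
  apply biproduct.hom_ext'
  intro i
  rw [biproduct.ι_desc_assoc, Category.assoc, c.w (g i), hγ i]

/-! ### generators -/

section Gen

variable (hc : IsColimit c) (U : X.Etale) (hU : U ∈ qcB X) (n : ℕ) [NeZero n]

/-- the section over `U` attached to a map out of `j_{U!} ℤ/n` -/
noncomputable def ev {G : EtCoh.Ab X} (ψ : EtPBC.extZeroConst U (ZMod n) ⟶ G) :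
    G.obj.obj (op U) :=
  ((adjV U).homEquiv (AddCommGrpCat.of (ULift.{u + 1} (ZMod n))) G ψ)
    (ULift.up (1 : ZMod n))

theorem ev_comp {G G' : EtCoh.Ab X} (ψ : EtPBC.extZeroConst U (ZMod n) ⟶ G) (θ : G ⟶ G') :
    ev U n (ψ ≫ θ) = θ.hom.app (op U) (ev U n ψ) := by
  unfold ev
  rw [Adjunction.homEquiv_naturality_right]
  rfl

theorem hom_ext_ulift {A : Type*} [AddCommGroup A] (f g : ULift.{u + 1} (ZMod n) →+ A)
    (h : f (ULift.up 1) = g (ULift.up 1)) : f = g := by
  ext x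
  have hx : x = (x.down.val) • (ULift.up (1 : ZMod n)) := by
    apply ULift.ext
    show x.down = (x.down.val) • (1 : ZMod n)
    rw [nsmul_eq_mul, mul_one, ZMod.natCast_zmod_val]
  rw [hx, map_nsmul, map_nsmul, h]

theorem ev_injective {G : EtCoh.Ab X} (ψ ψ' : EtPBC.extZeroConst U (ZMod n) ⟶ G)
    (h : ev U n ψ = ev U n ψ') : ψ = ψ' := by
  apply ((adjV U).homEquiv (AddCommGrpCat.of (ULift.{u + 1} (ZMod n))) G).injective
  apply AddCommGrpCat.hom_ext
  exact hom_ext_ulift n _ _ h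

theorem nsmul_ev {G : EtCoh.Ab X} (ψ : EtPBC.extZeroConst U (ZMod n) ⟶ G) :
    n • ev U n ψ = 0 := by
  have h0 : n • (ULift.up (1 : ZMod n) : ULift.{u + 1} (ZMod n)) = 0 := by
    apply ULift.ext
    show n • (1 : ZMod n) = 0
    rw [nsmul_eq_mul, mul_one, ZMod.natCast_self]
  have key : ∀ {A : AddCommGrpCat.{u + 1}}
      (h : AddCommGrpCat.of (ULift.{u + 1} (ZMod n)) ⟶ A), n • h (ULift.up 1) = 0 := by
    intro A h
    rw [← map_nsmul, h0, map_zero]
  exact key ((adjV U).homEquiv (AddCommGrpCat.of (ULift.{u + 1} (ZMod n))) G ψ)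

theorem exists_ev {G : EtCoh.Ab X} (y : G.obj.obj (op U)) (hy : n • y = 0) :
    ∃ ψ : EtPBC.extZeroConst U (ZMod n) ⟶ G, ev U n ψ = y := by
  let Mc : AddCommGrpCat.{u + 1} := AddCommGrpCat.of (ULift.{u + 1} (ZMod n))
  let ψ₀ : ZMod n →+ G.obj.obj (op U) :=
    ZMod.lift n (⟨zmultiplesHom _ y, by simpa using hy⟩ : {f : ℤ →+ G.obj.obj (op U) // f n = 0})
  let ψ' : Mc ⟶ AddCommGrpCat.of (G.obj.obj (op U)) :=
    AddCommGrpCat.ofHom (ψ₀.comp AddEquiv.ulift.toAddMonoidHom)
  refine ⟨((adjV U).homEquiv Mc G).symm ψ', ?_⟩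
  unfold ev
  rw [Equiv.apply_symm_apply]
  show ψ₀ 1 = y
  have h := ZMod.lift_coe n (⟨zmultiplesHom _ y, by simpa using hy⟩ :
    {f : ℤ →+ G.obj.obj (op U) // f n = 0}) 1
  rw [Int.cast_one] at h
  exact h.trans (by simp)

include hc hU in
theorem HS.gen : HS K c (EtPBC.extZeroConst U (ZMod n)) := by
  intro ψ
  obtain ⟨j, y, hy⟩ := sect_surj K (qcClass X) c hc hU (ev U n ψ)
  have h0 : (c.ι.app j).hom.app (op U) (n • y) = 0 := by
    rw [map_nsmul, hy, nsmul_ev]
  obtain ⟨k, f, hf⟩ := sect_inj K (qcClass X) c hc hU j (n • y) h0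
  have hy' : n • (K.map f).hom.app (op U) y = 0 := by
    rw [← map_nsmul]
    exact hf
  obtain ⟨γ, hγ⟩ := exists_ev U n ((K.map f).hom.app (op U) y) hy'
  refine ⟨k, γ, ev_injective U n _ _ ?_⟩
  rw [ev_comp, hγ, ← hy]
  have hw : K.map f ≫ c.ι.app k = c.ι.app j := c.w f
  have hw2 := congrArg (fun τ : K.obj j ⟶ c.pt => τ.hom.app (op U) y) hw
  exact hw2

include hc hU in
theorem HI.gen : HI K c (EtPBC.extZeroConst U (ZMod n)) := by
  intro j α β hab
  have h1 : (c.ι.app j).hom.app (op U) (ev U n α - ev U n β) = 0 := by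
    rw [map_sub, ← ev_comp, ← ev_comp, hab, sub_self]
  obtain ⟨k, f, hf⟩ := sect_inj K (qcClass X) c hc hU j _ h1
  refine ⟨k, f, ev_injective U n _ _ ?_⟩
  rw [ev_comp, ev_comp]
  rw [map_sub, sub_eq_zero] at hf
  exact hf

end Gen

/-- constructible sheaves are compact with respect to `(K, c)` -/
theorem hs_hi_of_constructible [CompactSpace X] [QuasiSeparatedSpace X] (hc : IsColimit c)
    (F : EtCoh.Ab X) (hF : EtPBC.IsConstructible F) : HS K c F ∧ HI K c F := by
  obtain ⟨a, b, U, V, n, m, hU, hV, φ, ⟨e⟩⟩ := (CsKill.main X F).1 hF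
  haveI : ∀ i, NeZero (n i) := fun i => ⟨(hU i).1.ne'⟩
  haveI : ∀ j, NeZero (m j) := fun j => ⟨(hV j).1.ne'⟩
  have hUq : ∀ i, U i ∈ qcB X := fun i => by
    haveI := (hU i).2
    exact mem_qcB_of_isAffine (U i)
  have hVq : ∀ j, V j ∈ qcB X := fun j => by
    haveI := (hV j).2
    exact mem_qcB_of_isAffine (V j)
  have hB1 : HS K c (⨁ fun i => EtPBC.extZeroConst (U i) (ZMod (n i))) :=
    HS.biproduct _ (fun i => HS.gen hc (U i) (hUq i) (n i))
  have hB2 : HI K c (⨁ fun i => EtPBC.extZeroConst (U i) (ZMod (n i))) :=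
    HI.biproduct _ (fun i => HI.gen hc (U i) (hUq i) (n i))
  have hA2 : HI K c (⨁ fun j => EtPBC.extZeroConst (V j) (ZMod (m j))) :=
    HI.biproduct _ (fun j => HI.gen hc (V j) (hVq j) (m j))
  exact ⟨(HS.cokernel φ hA2 hB1).of_iso e.symm, (HI.cokernel φ hB2).of_iso e.symm⟩

/-- `Hom(F, -)` commutes with filtered colimits indexed by categories in the universe of
morphisms -/
theorem preserves_big (X : Scheme.{u}) [CompactSpace X] [QuasiSeparatedSpace X] (F : EtCoh.Ab X)
    (hF : EtPBC.IsConstructible F) (J : Type (u + 1)) [SmallCategory J] [IsFiltered J] :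
    PreservesColimitsOfShape J (coyoneda.obj (op F)) := by
  refine ⟨fun {K} => ⟨fun {c} hc => ⟨?_⟩⟩⟩
  obtain ⟨hs, hi⟩ := hs_hi_of_constructible hc F hF
  refine Types.FilteredColimit.isColimitOf' _ _ ?_ ?_
  · intro ψ
    obtain ⟨j, γ, hγ⟩ := hs ψ
    exact ⟨j, γ, hγ.symm⟩
  · intro j α β hab
    obtain ⟨k, f, hf⟩ := hi j α β hab
    exact ⟨k, f, hf⟩

/-- `Hom(F, -)` commutes with small filtered colimits -/
theorem preserves_small (X : Scheme.{u}) [CompactSpace X] [QuasiSeparatedSpace X] (F : EtCoh.Ab X)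
    (hF : EtPBC.IsConstructible F) (J : Type u) [SmallCategory J] [IsFiltered J] :
    PreservesColimitsOfShape J (coyoneda.obj (op F)) := by
  let e : J ≌ AsSmall.{u + 1} J := AsSmall.equiv
  haveI : IsFiltered (AsSmall.{u + 1} J) := IsFiltered.of_equivalence e
  haveI := preserves_big X F hF (AsSmall.{u + 1} J)
  exact preservesColimitsOfShape_of_equiv e.symm (coyoneda.obj (op F))

end H9FE.CsCompact
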