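import Mathlib
import Groth.Prelude.Def_EtBase
import Groth.Prelude.Def_PBC
import Groth.Agent.Lib.Helper9.FE.CsCompact

/-! helper9: on a quasi-compact quasi-separated scheme every torsion abelian étale sheaf is a filtered
colimit of constructible sheaves (indexed by presentations `coker(⨁ j_! ℤ/m ⟶ ⨁ j_! ℤ/n)` mapping to
the sheaf); a torsion sheaf which is a compact object is constructible. -/

set_option autoImplicit false
set_option linter.unusedSectionVars false
set_option linter.style.haveILetI false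
set_option backward.isDefEq.respectTransparency false
universe u
open CategoryTheory CategoryTheory.Limits AlgebraicGeometry Opposite ZeroObject

namespace H9FE.CsColim
open H9FE.ConstSite H9FE.CsStrata H9FE.CsSub H9FE.FlcLocal H9FE.CsNoethObj H9FE.CsGen
  H9FE.SiteSectColim H9FE.EtQcClass H9FE.CsCompact Groth.Agent.Lib.Helper5

variable {X : Scheme.{u}}

/-- presentation data of a constructible sheaf -/
structure Pres (X : Scheme.{u}) where
  a : ℕ
  b : ℕ
  U : Fin a → X.Etale
  V : Fin b → X.Etale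
  n : Fin a → ℕ
  m : Fin b → ℕ
  hU : ∀ i, 0 < n i ∧ IsAffine (U i).left
  hV : ∀ j, 0 < m j ∧ IsAffine (V j).left
  φ : (⨁ fun j => EtPBC.extZeroConst (V j) (ZMod (m j))) ⟶
    (⨁ fun i => EtPBC.extZeroConst (U i) (ZMod (n i)))

/-- the presented sheaf -/
noncomputable def Pres.obj (P : Pres X) : EtCoh.Ab X := cokernel P.φ

theorem Pres.constructible [CompactSpace X] [QuasiSeparatedSpace X] (P : Pres X) :
    EtPBC.IsConstructible P.obj :=
  (CsKill.main X P.obj).2 ⟨P.a, P.b, P.U, P.V, P.n, P.m, P.hU, P.hV, P.φ, ⟨Iso.refl _⟩⟩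

/-- the index category: presentations with a map to `F` -/
structure Idx (F : EtCoh.Ab X) where
  P : Pres X
  a : P.obj ⟶ F

variable {F : EtCoh.Ab X}

noncomputable instance : Category (Idx F) where
  Hom j j' := {h : j.P.obj ⟶ j'.P.obj // h ≫ j'.a = j.a}
  id j := ⟨𝟙 _, Category.id_comp _⟩
  comp f g := ⟨f.1 ≫ g.1, by rw [Category.assoc, g.2, f.2]⟩
  id_comp f := Subtype.ext (Category.id_comp _)
  comp_id f := Subtype.ext (Category.comp_id _)
  assoc f g h := Subtype.ext (Category.assoc _ _ _)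

theorem comp_val {j j' j'' : Idx F} (f : j ⟶ j') (g : j' ⟶ j'') : (f ≫ g).1 = f.1 ≫ g.1 := rfl

/-- every constructible sheaf over `F` is represented in the index category -/
theorem exists_idx [CompactSpace X] [QuasiSeparatedSpace X] (C : EtCoh.Ab X)
    (hC : EtPBC.IsConstructible C) (a : C ⟶ F) :
    ∃ (j : Idx F) (e : j.P.obj ≅ C), e.hom ≫ a = j.a := by
  obtain ⟨a', b', U, V, n, m, hU, hV, φ, ⟨e⟩⟩ := (CsKill.main X C).1 hC
  exact ⟨⟨⟨a', b', U, V, n, m, hU, hV, φ⟩, e.inv ≫ a⟩, e.symm, rfl⟩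

instance [CompactSpace X] [QuasiSeparatedSpace X] : IsFiltered (Idx F) where
  cocone_objs j j' := by
    obtain ⟨k, e, he⟩ := exists_idx (j.P.obj ⊞ j'.P.obj)
      (constructible_biprod j.P.constructible j'.P.constructible) (biprod.desc j.a j'.a)
    refine ⟨k, ⟨biprod.inl ≫ e.inv, ?_⟩, ⟨biprod.inr ≫ e.inv, ?_⟩, trivial⟩
    · rw [← he, Category.assoc, Iso.inv_hom_id_assoc, biprod.inl_desc]
    · rw [← he, Category.assoc, Iso.inv_hom_id_assoc, biprod.inr_desc]
  cocone_maps {j j'} f g := by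
    have hz : (f.1 - g.1) ≫ j'.a = 0 := by
      rw [Preadditive.sub_comp, f.2, g.2, sub_self]
    obtain ⟨k, e, he⟩ := exists_idx (cokernel (f.1 - g.1))
      (constructible_kernel_cokernel (f.1 - g.1) j.P.constructible j'.P.constructible).2
      (cokernel.desc (f.1 - g.1) j'.a hz)
    refine ⟨k, ⟨cokernel.π (f.1 - g.1) ≫ e.inv, ?_⟩, ?_⟩
    · rw [← he, Category.assoc, Iso.inv_hom_id_assoc, cokernel.π_desc]
    · apply Subtype.ext
      show f.1 ≫ cokernel.π (f.1 - g.1) ≫ e.inv = g.1 ≫ cokernel.π (f.1 - g.1) ≫ e.inv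
      have h0 : (f.1 - g.1) ≫ cokernel.π (f.1 - g.1) = 0 := cokernel.condition _
      rw [Preadditive.sub_comp, sub_eq_zero] at h0
      rw [← Category.assoc, h0, Category.assoc]
  nonempty := by
    obtain ⟨k, -, -⟩ := exists_idx (F := F) (0 : EtCoh.Ab X)
      (constructible_of_flc _ (flc_of_isZero _ (isZero_zero _))) 0
    exact ⟨k⟩

/-- the diagram of presented sheaves -/
noncomputable def diag (F : EtCoh.Ab X) : Idx F ⥤ EtCoh.Ab X where
  obj j := j.P.obj
  map f := f.1
  map_id _ := rfl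
  map_comp _ _ := rfl

/-- the canonical cocone with point `F` -/
noncomputable def cocone (F : EtCoh.Ab X) : Cocone (diag F) where
  pt := F
  ι :=
    { app := fun j => j.a
      naturality := fun j j' f => by
        show f.1 ≫ j'.a = j.a ≫ 𝟙 F
        rw [f.2, Category.comp_id] }

section Iso

variable [CompactSpace X] [QuasiSeparatedSpace X] (hF : EtCoh.IsTorsion F)

/-- the comparison map from the colimit -/
noncomputable abbrev gam (F : EtCoh.Ab X) : colimit (diag F) ⟶ F := colimit.desc (diag F) (cocone F)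

theorem gam_ι (j : Idx F) (V : X.Etale) (y : j.P.obj.obj.obj (op V)) :
    (gam F).hom.app (op V) ((colimit.ι (diag F) j).hom.app (op V) y) = j.a.hom.app (op V) y := by
  have h : colimit.ι (diag F) j ≫ gam F = j.a := colimit.ι_desc (cocone F) j
  have h2 := congrArg (fun τ : j.P.obj ⟶ F => τ.hom.app (op V) y) h
  exact h2

theorem ev_zero (V : X.Etale) (N : ℕ) [NeZero N] {G : EtCoh.Ab X} :
    ev V N (0 : EtPBC.extZeroConst V (ZMod N) ⟶ G) = 0 := by
  have h : (0 : EtPBC.extZeroConst V (ZMod N) ⟶ G) =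
      𝟙 (EtPBC.extZeroConst V (ZMod N)) ≫ 0 := (Category.id_comp _).symm
  rw [h, ev_comp]
  rfl

theorem ι_eq_zero_of_affine (V : X.Etale) [IsAffine V.left] (j : Idx F)
    (y : j.P.obj.obj.obj (op V)) (hy : j.a.hom.app (op V) y = 0) :
    (colimit.ι (diag F) j).hom.app (op V) y = 0 := by
  obtain ⟨N, hN, hk⟩ := CsKill.exists_killing X j.P.obj j.P.constructible
  haveI : NeZero N := ⟨hN.ne'⟩
  obtain ⟨ψ, hψ⟩ := exists_ev V N y (hk V y)
  have hz : ψ ≫ j.a = 0 := by
    apply ev_injective V N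
    rw [ev_comp, hψ, hy, ev_zero]
  have hC : EtPBC.IsConstructible (cokernel ψ) :=
    (constructible_kernel_cokernel ψ (ShriekConst.main X V (ZMod N)) j.P.constructible).2
  obtain ⟨k, e, he⟩ := exists_idx (cokernel ψ) hC (cokernel.desc ψ j.a hz)
  let f : j ⟶ k := ⟨cokernel.π ψ ≫ e.inv, by
    rw [← he, Category.assoc, Iso.inv_hom_id_assoc, cokernel.π_desc]⟩
  have hfy : f.1.hom.app (op V) y = 0 := by
    have h1 : ψ ≫ f.1 = 0 := by
      show ψ ≫ cokernel.π ψ ≫ e.inv = 0
      rw [cokernel.condition_assoc, zero_comp]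
    calc f.1.hom.app (op V) y = f.1.hom.app (op V) (ev V N ψ) := by rw [hψ]
      _ = ev V N (ψ ≫ f.1) := (ev_comp V N ψ f.1).symm
      _ = 0 := by rw [h1, ev_zero]
  have hw : (diag F).map f ≫ colimit.ι (diag F) k = colimit.ι (diag F) j := colimit.w (diag F) f
  have hw2 : (colimit.ι (diag F) k).hom.app (op V) (f.1.hom.app (op V) y) =
      (colimit.ι (diag F) j).hom.app (op V) y :=
    congrArg (fun τ : j.P.obj ⟶ colimit (diag F) => τ.hom.app (op V) y) hw
  rw [← hw2, hfy, map_zero]

/-- injectivity of the comparison map on sections over affine objects -/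
theorem gam_inj_affine (V : X.Etale) [IsAffine V.left] (x : (colimit (diag F)).obj.obj (op V))
    (hx : (gam F).hom.app (op V) x = 0) : x = 0 := by
  have hV : V ∈ qcB X := mem_qcB_of_isAffine V
  obtain ⟨j, y, rfl⟩ := sect_surj (diag F) (qcClass X) (colimit.cocone (diag F))
    (colimit.isColimit (diag F)) hV x
  exact ι_eq_zero_of_affine V j y ((gam_ι j V y).symm.trans hx)

theorem gam_mono : Mono (gam F) := by
  rw [EtStalk.mono_iff_ab]
  intro W
  rw [injective_iff_map_eq_zero]
  intro x hx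
  let S : Sieve W :=
    { arrows := fun V g => (colimit (diag F)).obj.map g.op x = 0
      downward_closed := by
        intro V V' g hg h
        show (colimit (diag F)).obj.map (h ≫ g).op x = 0
        rw [← map_map.{u + 1, u, u + 1} X.smallEtaleTopology (colimit (diag F)) h g x, hg,
          map_zero] }
  have hS : S ∈ X.smallEtaleTopology W := by
    rw [EtSiteBasic.mem_smallEtale_iff]
    intro w
    have haff : ∃ A : W.left.Opens, IsAffineOpen A ∧ w ∈ A := by
      obtain ⟨_, ⟨A, hA, rfl⟩, hwA, -⟩ := W.left.isBasis_affineOpens.exists_subset_of_mem_open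
        (Set.mem_univ w) isOpen_univ
      exact ⟨A, hA, hwA⟩
    obtain ⟨A, hA, hwA⟩ := haff
    haveI : Etale W.hom := W.prop
    let V : X.Etale := EtSiteBasic.ofEtale (A.ι ≫ W.hom)
    let g : V ⟶ W := MorphismProperty.Over.homMk A.ι rfl trivial
    haveI : IsAffine V.left := hA
    refine ⟨V, g, ⟨w, hwA⟩, ?_, rfl⟩
    show (colimit (diag F)).obj.map g.op x = 0
    apply gam_inj_affine V
    rw [nat_app.{u + 1, u, u + 1} X.smallEtaleTopology (gam F) g x, hx, map_zero]
  refine ((isSheaf_type X.smallEtaleTopology (colimit (diag F))) S hS).isSeparatedFor.ext ?_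
  intro V g hg
  show (colimit (diag F)).obj.map g.op x = (colimit (diag F)).obj.map g.op 0
  rw [map_zero]
  exact hg

include hF in
theorem gam_epi : Epi (gam F) := by
  rw [← Sheaf.isLocallySurjective_iff_epi']
  refine ⟨fun {W} t => ?_⟩
  rw [EtSiteBasic.mem_smallEtale_iff]
  intro w
  obtain ⟨V₀, g₀, ⟨v, hv⟩, hfin⟩ := hF W t w
  have haff : ∃ A : V₀.left.Opens, IsAffineOpen A ∧ v ∈ A := by
    obtain ⟨_, ⟨A, hA, rfl⟩, hvA, -⟩ := V₀.left.isBasis_affineOpens.exists_subset_of_mem_open
      (Set.mem_univ v) isOpen_univ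
    exact ⟨A, hA, hvA⟩
  obtain ⟨A, hA, hvA⟩ := haff
  haveI : Etale V₀.hom := V₀.prop
  let V : X.Etale := EtSiteBasic.ofEtale (A.ι ≫ V₀.hom)
  let k : V ⟶ V₀ := MorphismProperty.Over.homMk A.ι rfl trivial
  haveI : IsAffine V.left := hA
  obtain ⟨N, hN, hNt⟩ := isOfFinAddOrder_iff_nsmul_eq_zero.1 hfin
  haveI : NeZero N := ⟨hN.ne'⟩
  have ht : N • F.obj.map (k ≫ g₀).op t = 0 := by
    rw [← map_map.{u + 1, u, u + 1} X.smallEtaleTopology F k g₀ t, ← map_nsmul, hNt, map_zero]
  obtain ⟨ψ, hψ⟩ := exists_ev V N _ ht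
  obtain ⟨j, e, he⟩ := exists_idx (EtPBC.extZeroConst V (ZMod N))
    (ShriekConst.main X V (ZMod N)) ψ
  let σ := ev V N (𝟙 (EtPBC.extZeroConst V (ZMod N)))
  have hσ : ψ.hom.app (op V) σ = F.obj.map (k ≫ g₀).op t := by
    rw [← ev_comp, Category.id_comp, hψ]
  let y : j.P.obj.obj.obj (op V) := e.inv.hom.app (op V) σ
  have hy : j.a.hom.app (op V) y = F.obj.map (k ≫ g₀).op t := by
    rw [← hσ, ← he]
    have h1 : e.inv ≫ e.hom ≫ ψ = ψ := by rw [Iso.inv_hom_id_assoc]
    have h2 := congrArg (fun τ : EtPBC.extZeroConst V (ZMod N) ⟶ F => τ.hom.app (op V) σ) h1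
    exact h2
  refine ⟨V, k ≫ g₀, ⟨v, hvA⟩, ⟨(colimit.ι (diag F) j).hom.app (op V) y, ?_⟩, hv⟩
  exact (gam_ι j V y).trans hy

include hF in
theorem gam_isIso : IsIso (gam F) := by
  haveI := gam_mono (F := F)
  haveI := gam_epi hF
  exact isIso_of_mono_of_epi _

include hF in
/-- the canonical cocone is a colimit -/
theorem isColimit_cocone : Nonempty (IsColimit (cocone F)) := by
  haveI : IsIso ((colimit.isColimit (diag F)).desc (cocone F)) := gam_isIso hF
  exact ⟨IsColimit.ofPointIso (colimit.isColimit (diag F))⟩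

end Iso

/-- torsion sheaves are filtered colimits of constructible sheaves -/
theorem main (X : Scheme.{u}) [CompactSpace X] [QuasiSeparatedSpace X]
    (F : EtCoh.Ab X) (hF : EtCoh.IsTorsion F) :
    ∃ (J : Type (u + 1)) (_ : SmallCategory J) (_ : IsFiltered J) (D : J ⥤ EtCoh.Ab X)
      (c : Cocone D) (_ : IsColimit c),
      (∀ j, EtPBC.IsConstructible (D.obj j)) ∧ Nonempty (c.pt ≅ F) := by
  obtain ⟨hc⟩ := isColimit_cocone hF
  exact ⟨Idx F, inferInstance, inferInstance, diag F, cocone F, hc,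
    fun j => j.P.constructible, ⟨Iso.refl _⟩⟩

/-- a torsion sheaf which is a compact object is constructible -/
theorem constructible_of_compact (X : Scheme.{u}) [CompactSpace X] [QuasiSeparatedSpace X]
    (F : EtCoh.Ab X) (hF : EtCoh.IsTorsion F)
    (hc : ∀ (J : Type (u + 1)) [SmallCategory J] [IsFiltered J],
      PreservesColimitsOfShape J (coyoneda.obj (op F))) :
    EtPBC.IsConstructible F := by
  obtain ⟨hcol⟩ := isColimit_cocone hF
  haveI := hc (Idx F)
  have ht : IsColimit ((coyoneda.obj (op F)).mapCocone (cocone F)) := isColimitOfPreserves _ hcol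
  obtain ⟨j, s, hs⟩ := Types.jointly_surjective_of_isColimit ht (𝟙 F)
  have hs' : s ≫ j.a = 𝟙 F := hs
  let C : EtCoh.Ab X := j.P.obj
  let s' : F ⟶ C := s
  have hs'' : s' ≫ j.a = 𝟙 F := hs'
  have hK : EtPBC.IsConstructible (kernel (𝟙 C - j.a ≫ s')) :=
    (constructible_kernel_cokernel (𝟙 C - j.a ≫ s') j.P.constructible j.P.constructible).1
  have hse : s' ≫ (𝟙 C - j.a ≫ s') = 0 := by
    rw [Preadditive.comp_sub, Category.comp_id, ← Category.assoc, hs'', Category.id_comp, sub_self]
  let iso : F ≅ kernel (𝟙 C - j.a ≫ s') :=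
    { hom := kernel.lift _ s' hse
      inv := kernel.ι _ ≫ j.a
      hom_inv_id := by rw [kernel.lift_ι_assoc, hs'']
      inv_hom_id := by
        apply (cancel_mono (kernel.ι (𝟙 C - j.a ≫ s'))).1
        rw [Category.assoc, Category.assoc, kernel.lift_ι, Category.id_comp]
        have h0 : kernel.ι (𝟙 C - j.a ≫ s') ≫ (𝟙 C - j.a ≫ s') = 0 := kernel.condition _
        rw [Preadditive.comp_sub, Category.comp_id, sub_eq_zero] at h0
        exact h0.symm }
  exact constructible_of_iso iso.symm hK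

end H9FE.CsColim
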