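import Mathlib
import Groth.Prelude.Def_EtBase
import Groth.Prelude.Def_PBC
import Groth.Agent.Lib.Helper9.FE.CsColim
import Groth.Agent.Lib.Helper9.FE.CsSupp
import Groth.Agent.Lib.Helper5.Misc.StalkShriekGen

/-! helper9: torsion abelian étale sheaves with restricted support are filtered colimits of
constructible sheaves with restricted support: the full subcategory of the index category of
`CsColim` on the presentations which vanish over a suitable open is cofinal.  Applications: sheaves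
vanishing at the generic point of an irreducible qcqs scheme; sheaves supported in a
specialization-stable subset of a Noetherian scheme. -/

set_option autoImplicit false
set_option linter.unusedSectionVars false
set_option linter.style.haveILetI false
set_option backward.isDefEq.respectTransparency false
universe u
open CategoryTheory CategoryTheory.Limits AlgebraicGeometry Opposite ZeroObject TopologicalSpace
  Topology

namespace H9FE.CsSuppColim
open H9FE.ConstSite H9FE.CsStrata H9FE.CsSub H9FE.CsGen H9FE.CsCompact H9FE.CsColim H9FE.CsSupp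
  Groth.Agent.Lib.Helper5

attribute [local instance] EtStalk.ab5' EtStalk.pfc

/-! ### topology -/

section Top

variable {Y : Type*} [TopologicalSpace Y]

/-- near the generic point of an irreducible closed subset a constructible set either contains the
subset or misses it -/
theorem rel_dichotomy {Z : Set Y} {z : Y} (hz : IsGenericPoint z Z) {T : Set Y}
    (hT : IsConstructible T) :
    (∃ O : Set Y, IsOpen O ∧ z ∈ O ∧ Z ∩ O ⊆ T) ∨ (∃ O : Set Y, IsOpen O ∧ z ∈ O ∧ Z ∩ O ⊆ Tᶜ) := by
  induction hT using IsConstructible.empty_union_induction with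
  | open_retrocompact O hO _ =>
    by_cases h : z ∈ O
    · exact Or.inl ⟨O, hO, h, Set.inter_subset_right⟩
    · right
      refine ⟨Set.univ, isOpen_univ, trivial, ?_⟩
      rintro y ⟨hyZ, -⟩ hyO
      exact h ((hz.mem_open_set_iff hO).2 ⟨y, hyZ, hyO⟩)
  | union s hs t ht hs' ht' =>
    rcases hs' with ⟨O, hO, hzO, hsub⟩ | ⟨O, hO, hzO, hsub⟩
    · exact Or.inl ⟨O, hO, hzO, hsub.trans Set.subset_union_left⟩
    · rcases ht' with ⟨O', hO', hzO', hsub'⟩ | ⟨O', hO', hzO', hsub'⟩
      · exact Or.inl ⟨O', hO', hzO', hsub'.trans Set.subset_union_right⟩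
      · right
        refine ⟨O ∩ O', hO.inter hO', ⟨hzO, hzO'⟩, ?_⟩
        rintro y ⟨hyZ, hyO, hyO'⟩ hy
        rcases hy with hy | hy
        · exact hsub ⟨hyZ, hyO⟩ hy
        · exact hsub' ⟨hyZ, hyO'⟩ hy
  | compl s hs hs' =>
    rcases hs' with h | h
    · right
      rwa [compl_compl]
    · exact Or.inl h

/-- in a Noetherian sober space, the closure of a constructible subset of a specialization-stable
set stays in that set -/
theorem closure_inter_subset [NoetherianSpace Y] [QuasiSober Y] {T E : Set Y}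
    (hT : IsConstructible T) (hE : StableUnderSpecialization E) (hTE : T ⊆ E) (s : Closeds Y) :
    closure (T ∩ (s : Set Y)) ⊆ E := by
  induction s using WellFoundedLT.induction with
  | ind s H =>
  by_cases h₁ : IsPreirreducible (s : Set Y)
  · rcases (s : Set Y).eq_empty_or_nonempty with h₀ | h₀
    · rw [h₀, Set.inter_empty, closure_empty]
      exact Set.empty_subset _
    · have hirr : IsIrreducible (s : Set Y) := ⟨h₀, h₁⟩
      obtain ⟨z, hz⟩ := QuasiSober.sober hirr s.isClosed
      rcases rel_dichotomy hz hT with ⟨O, hO, hzO, hsub⟩ | ⟨O, hO, hzO, hsub⟩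
      · have hzs : z ∈ (s : Set Y) := hz.mem
        have hzT : z ∈ T := hsub ⟨hzs, hzO⟩
        have hsE : (s : Set Y) ⊆ E := by
          rw [← hz.def]
          intro y hy
          exact hE (specializes_iff_mem_closure.2 hy) (hTE hzT)
        exact (closure_minimal Set.inter_subset_right s.isClosed).trans hsE
      · let s' : Closeds Y := s ⊓ ⟨Oᶜ, hO.isClosed_compl⟩
        have hlt : s' < s := by
          refine lt_of_le_of_ne inf_le_left ?_
          intro heq
          have hzs' : z ∈ (s' : Set Y) := by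
            rw [heq]
            exact hz.mem
          exact hzs'.2 hzO
        have hTs : T ∩ (s : Set Y) = T ∩ (s' : Set Y) := by
          ext t
          constructor
          · rintro ⟨ht, hts⟩
            exact ⟨ht, hts, fun htO => hsub ⟨hts, htO⟩ ht⟩
          · rintro ⟨ht, hts, -⟩
            exact ⟨ht, hts⟩
        rw [hTs]
        exact H s' hlt
  · simp only [isPreirreducible_iff_isClosed_union_isClosed, not_forall, not_or] at h₁
    obtain ⟨z₁, z₂, hz₁, hz₂, h, hz₁', hz₂'⟩ := h₁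
    lift z₁ to Closeds Y using hz₁
    lift z₂ to Closeds Y using hz₂
    have h1 := H (s ⊓ z₁) (inf_lt_left.2 hz₁')
    have h2 := H (s ⊓ z₂) (inf_lt_left.2 hz₂')
    have hsub : T ∩ (s : Set Y) ⊆ (T ∩ ((s ⊓ z₁ : Closeds Y) : Set Y)) ∪
        (T ∩ ((s ⊓ z₂ : Closeds Y) : Set Y)) := by
      rintro t ⟨ht, hts⟩
      rcases h hts with h' | h'
      · exact Or.inl ⟨ht, hts, h'⟩
      · exact Or.inr ⟨ht, hts, h'⟩
    refine (closure_mono hsub).trans ?_
    rw [closure_union]
    exact Set.union_subset h1 h2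

theorem closure_subset_of_isConstructible [NoetherianSpace Y] [QuasiSober Y] {T E : Set Y}
    (hT : IsConstructible T) (hE : StableUnderSpecialization E) (hTE : T ⊆ E) :
    closure T ⊆ E := by
  have h := closure_inter_subset hT hE hTE ⊤
  rwa [Closeds.coe_top, Set.inter_univ] at h

end Top

/-! ### open subobjects of étale schemes and vanishing of sections -/

variable {X : Scheme.{u}}

/-- the structure morphism with its plain type -/
abbrev homX (U : X.Etale) : U.left ⟶ X := U.hom

instance (U : X.Etale) : Etale (homX U) := U.prop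

theorem mm (F : EtCoh.Ab X) {Z' Z W : X.Etale} (k : Z' ⟶ Z) (z : Z ⟶ W)
    (s : F.obj.obj (op W)) :
    F.obj.map k.op (F.obj.map z.op s) = F.obj.map (k ≫ z).op s :=
  map_map.{u + 1, u, u + 1} X.smallEtaleTopology F k z s

theorem na {F G : EtCoh.Ab X} (φ : F ⟶ G) {Z W : X.Etale} (z : Z ⟶ W)
    (s : F.obj.obj (op W)) :
    φ.hom.app (op Z) (F.obj.map z.op s) = G.obj.map z.op (φ.hom.app (op W) s) :=
  nat_app.{u + 1, u, u + 1} X.smallEtaleTopology φ z s

/-- the open subobject of an étale `X`-scheme -/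
noncomputable def opn (U : X.Etale) (A : U.left.Opens) : X.Etale :=
  EtSiteBasic.ofEtale (A.ι ≫ homX U)

/-- the inclusion of an open subobject -/
noncomputable def opnι (U : X.Etale) (A : U.left.Opens) : opn U A ⟶ U :=
  MorphismProperty.Over.homMk A.ι rfl trivial

theorem range_subset_range_ι {T U : X.Etale} (g : T ⟶ U) (A : U.left.Opens)
    (h : ∀ t : T.left, g.left t ∈ A) : Set.range g.left ⊆ Set.range A.ι := by
  rw [Scheme.Opens.range_ι]
  rintro _ ⟨t, rfl⟩
  exact h t

/-- lifting a morphism through an open subobject -/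
noncomputable def liftOpn {T U : X.Etale} (g : T ⟶ U) (A : U.left.Opens)
    (h : ∀ t : T.left, g.left t ∈ A) : T ⟶ opn U A :=
  MorphismProperty.Over.homMk
    (IsOpenImmersion.lift A.ι g.left (range_subset_range_ι g A h))
    (by
      show IsOpenImmersion.lift A.ι g.left _ ≫ A.ι ≫ homX U = T.hom
      rw [← Category.assoc, IsOpenImmersion.lift_fac]
      exact MorphismProperty.Over.w g) trivial

theorem liftOpn_ι {T U : X.Etale} (g : T ⟶ U) (A : U.left.Opens)
    (h : ∀ t : T.left, g.left t ∈ A) : liftOpn g A h ≫ opnι U A = g := by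
  apply MorphismProperty.Over.Hom.ext
  show IsOpenImmersion.lift A.ι g.left _ ≫ A.ι = g.left
  exact IsOpenImmersion.lift_fac _ _ _

/-- a section vanishing on an open vanishes along every morphism factoring through it -/
theorem map_eq_zero_of_mem (F : EtCoh.Ab X) {T U : X.Etale} (g : T ⟶ U) (A : U.left.Opens)
    (h : ∀ t : T.left, g.left t ∈ A) (s : F.obj.obj (op U))
    (hs : F.obj.map (opnι U A).op s = 0) : F.obj.map g.op s = 0 := by
  have e : liftOpn g A h ≫ opnι U A = g := liftOpn_ι g A h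
  rw [← e, ← mm F (liftOpn g A h) (opnι U A) s, hs, map_zero]

/-- a section vanishing on a covering family vanishes -/
theorem eq_zero_of_cover (F : EtCoh.Ab X) {U : X.Etale} (s : F.obj.obj (op U))
    (h : ∀ x : U.left, ∃ (W : X.Etale) (g : W ⟶ U) (y : W.left),
      g.left y = x ∧ F.obj.map g.op s = 0) : s = 0 := by
  let S : Sieve U :=
    { arrows := fun V g => F.obj.map g.op s = 0
      downward_closed := by
        intro V V' g hg k
        show F.obj.map (k ≫ g).op s = 0
        rw [← mm F k g s, hg, map_zero] }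
  have hS : S ∈ X.smallEtaleTopology U := by
    rw [EtSiteBasic.mem_smallEtale_iff]
    intro x
    obtain ⟨W, g, y, hy, hg⟩ := h x
    exact ⟨W, g, y, hg, hy⟩
  refine ((isSheaf_type X.smallEtaleTopology F) S hS).isSeparatedFor.ext ?_
  intro V g hg
  show F.obj.map g.op s = F.obj.map g.op 0
  rw [map_zero]
  exact hg

/-- a section vanishes along `g` as soon as it vanishes on opens containing the image of `g` -/
theorem map_eq_zero_of_forall_mem (F : EtCoh.Ab X) {T U : X.Etale} (g : T ⟶ U)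
    (s : F.obj.obj (op U))
    (h : ∀ x : T.left, ∃ A : U.left.Opens, g.left x ∈ A ∧ F.obj.map (opnι U A).op s = 0) :
    F.obj.map g.op s = 0 := by
  apply eq_zero_of_cover F
  intro x
  obtain ⟨A, hxA, hA⟩ := h x
  let B : T.left.Opens := g.left ⁻¹ᵁ A
  refine ⟨opn T B, opnι T B, ⟨x, hxA⟩, rfl, ?_⟩
  rw [mm F]
  exact map_eq_zero_of_mem F (opnι T B ≫ g) A (fun t => t.2) s hA

/-- a section of a sheaf with vanishing stalk dies on an étale neighbourhood -/
theorem exists_van_of_isZero_stalk (F : EtCoh.Ab X) {Ω : Type u} [Field Ω] [IsSepClosed Ω]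
    (ξ : Spec (CommRingCat.of Ω) ⟶ X) (hz : IsZero ((EtCoh.stalk ξ).obj F)) (U : X.Etale)
    (y : (Scheme.pointSmallEtale ξ).fiber.obj U) (s : F.obj.obj (op U)) :
    ∃ (W : X.Etale) (k : W ⟶ U) (w : (Scheme.pointSmallEtale ξ).fiber.obj W),
      (Scheme.pointSmallEtale ξ).fiber.map k w = y ∧ F.obj.map k.op s = 0 := by
  let Φ := Scheme.pointSmallEtale ξ
  have hs : Subsingleton ((EtCoh.stalk ξ).obj F) := AddCommGrpCat.subsingleton_of_isZero hz
  have h0 : Φ.toPresheafFiber U y F.obj s = Φ.toPresheafFiber U y F.obj 0 :=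
    @Subsingleton.elim _ hs _ _
  rw [Φ.toPresheafFiber_eq_iff'] at h0
  obtain ⟨W, f, w, hw, hf⟩ := h0
  exact ⟨W, f, w, hw, hf.trans (map_zero _)⟩

/-- a section dies on a Zariski neighbourhood of a point over which the geometric stalk vanishes -/
theorem exists_open_van (F : EtCoh.Ab X) (U : X.Etale) (s : F.obj.obj (op U)) (u : U.left)
    (hz : IsZero ((EtCoh.stalk ((EtStalk.geomPtAt u).ξ ≫ homX U)).obj F)) :
    ∃ A : U.left.Opens, u ∈ A ∧ F.obj.map (opnι U A).op s = 0 := by
  let g := EtStalk.geomPtAt u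
  let ξ : Spec (CommRingCat.of g.Ω) ⟶ X := g.ξ ≫ homX U
  let Φ := Scheme.pointSmallEtale ξ
  let y : Φ.fiber.obj U := Over.homMk g.ξ rfl
  obtain ⟨W, k, w, hw, hk⟩ := exists_van_of_isZero_stalk F ξ hz U y s
  haveI : Etale k.left := inferInstance
  let A : U.left.Opens := ⟨Set.range k.left, k.left.isOpenMap.isOpen_range⟩
  have hkA : ∀ t : W.left, k.left t ∈ A := fun t => ⟨t, rfl⟩
  have hu : u ∈ A := by
    have e1 : w.left ≫ k.left = g.ξ := congrArg (fun z : Φ.fiber.obj U => z.left) hw
    have e2 := congrArg (fun h : Spec (CommRingCat.of g.Ω) ⟶ U.left =>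
      h (default : Spec (CommRingCat.of g.Ω))) e1
    refine ⟨w.left (default : Spec (CommRingCat.of g.Ω)), ?_⟩
    exact e2.trans (EtStalk.geomPtAt_default u)
  refine ⟨A, hu, ?_⟩
  apply eq_zero_of_cover F
  intro x
  obtain ⟨t, ht⟩ := x.2
  refine ⟨W, liftOpn k A hkA, t, ?_, ?_⟩
  · apply Subtype.ext
    have e := congrArg (fun h : W.left ⟶ U.left => h t)
      (IsOpenImmersion.lift_fac A.ι k.left (range_subset_range_ι k A hkA))
    exact e.trans ht
  · rw [mm F, liftOpn_ι, hk]

/-! ### opens over which a given section dies -/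

theorem isZero_stalk_of_not_mem_supp (F : EtCoh.Ab X) (U : X.Etale) (u : U.left)
    (h : homX U u ∉ EtPBC.supp F) :
    IsZero ((EtCoh.stalk ((EtStalk.geomPtAt u).ξ ≫ homX U)).obj F) := by
  by_contra hnz
  refine h ⟨(EtStalk.geomPtAt u).Ω, inferInstance, inferInstance,
    (EtStalk.geomPtAt u).ξ ≫ homX U, ?_, hnz⟩
  rw [range_eq_singleton]
  have h1 : ((EtStalk.geomPtAt u).ξ ≫ homX U) default = homX U u := by
    show homX U ((EtStalk.geomPtAt u).ξ default) = homX U u
    rw [EtStalk.geomPtAt_default]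
  rw [h1]

/-- on an irreducible qcqs scheme, a section of a sheaf vanishing at the generic point dies over
an open neighbourhood of the generic point -/
theorem exists_open_kill_generic [CompactSpace X] [QuasiSeparatedSpace X] [IrreducibleSpace X]
    (F : EtCoh.Ab X) (hη : genericPoint X ∉ EtPBC.supp F) (U : X.Etale) [IsAffine U.left]
    (s : F.obj.obj (op U)) :
    ∃ V : X.Opens, genericPoint X ∈ V ∧ ∀ (T : X.Etale) (g : T ⟶ U),
      (∀ t : T.left, homX T t ∈ V) → F.obj.map g.op s = 0 := by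
  classical
  let f : U.left ⟶ X := homX U
  haveI : QuasiCompact f := inferInstance
  have hG : IsCompact (f ⁻¹' {genericPoint X}) := f.isCompact_preimage_singleton (genericPoint X)
  have hA : ∀ u ∈ f ⁻¹' {genericPoint X}, ∃ A : U.left.Opens, IsAffineOpen A ∧ u ∈ A ∧
      F.obj.map (opnι U A).op s = 0 := by
    intro u hu
    have hu' : homX U u = genericPoint X := hu
    have hz := isZero_stalk_of_not_mem_supp F U u (by rw [hu']; exact hη)
    obtain ⟨A₀, huA₀, hA₀⟩ := exists_open_van F U s u hz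
    obtain ⟨_, ⟨A, hA, rfl⟩, huA, hAA₀⟩ :=
      U.left.isBasis_affineOpens.exists_subset_of_mem_open huA₀ A₀.isOpen
    refine ⟨A, hA, huA, ?_⟩
    exact map_eq_zero_of_mem F (opnι U A) A₀ (fun t => hAA₀ t.2) s hA₀
  choose! A hAaff hAmem hAvan using hA
  obtain ⟨t, ht⟩ := hG.elim_nhds_subcover' (fun u _ => (A u : Set U.left))
    (fun u hu => (A u).isOpen.mem_nhds (hAmem u hu))
  let W' : Set U.left := ⋃ x ∈ t, (A x.1 : Set U.left)
  have hW'o : IsOpen W' := isOpen_biUnion (fun x _ => (A x.1).isOpen)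
  have hW'c : IsCompact W' := t.isCompact_biUnion (fun x _ => (hAaff x.1 x.2).isCompact)
  have hC : IsConstructible W'ᶜ := (hW'c.isConstructible hW'o).compl
  have hT : IsConstructible (f '' W'ᶜ) := f.isConstructible_image hC
  have hηT : genericPoint X ∉ f '' W'ᶜ := by
    rintro ⟨c, hc, hfc⟩
    exact hc (ht hfc)
  rcases rel_dichotomy (genericPoint_spec X) hT with ⟨O, hO, hηO, hsub⟩ | ⟨O, hO, hηO, hsub⟩
  · exact (hηT (hsub ⟨trivial, hηO⟩)).elim
  · refine ⟨⟨O, hO⟩, hηO, ?_⟩
    intro T g hT'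
    apply map_eq_zero_of_forall_mem F g s
    intro x
    have hx : g.left x ∈ W' := by
      by_contra hx
      have h1 : f (g.left x) ∈ f '' W'ᶜ := ⟨g.left x, hx, rfl⟩
      have h2 : f (g.left x) = homX T x :=
        congrArg (fun h : T.left ⟶ X => h x) (MorphismProperty.Over.w g)
      rw [h2] at h1
      exact hsub ⟨trivial, hT' x⟩ h1
    obtain ⟨p, hp⟩ := Set.mem_iUnion.1 hx
    obtain ⟨hpt, hp'⟩ := Set.mem_iUnion.1 hp
    exact ⟨A p.1, hp', hAvan p.1 p.2⟩

/-- on a Noetherian scheme, a section of a sheaf supported in a specialization-stable set `E` dies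
over an open whose complement lies in `E` -/
theorem exists_open_kill_noeth [IsNoetherian X] (F : EtCoh.Ab X) (E : Set X)
    (hE : StableUnderSpecialization E) (hsupp : EtPBC.supp F ⊆ E) (U : X.Etale)
    [IsAffine U.left] (s : F.obj.obj (op U)) :
    ∃ V : X.Opens, (V : Set X)ᶜ ⊆ E ∧ ∀ (T : X.Etale) (g : T ⟶ U),
      (∀ t : T.left, homX T t ∈ V) → F.obj.map g.op s = 0 := by
  let f : U.left ⟶ X := homX U
  haveI : IsLocallyNoetherian U.left := LocallyOfFiniteType.isLocallyNoetherian f
  haveI : IsNoetherian U.left := (isNoetherian_iff U.left).2 ⟨inferInstance, inferInstance⟩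
  let O : Set U.left := {u | ∃ A : U.left.Opens, u ∈ A ∧ F.obj.map (opnι U A).op s = 0}
  have hO : IsOpen O := by
    rw [isOpen_iff_forall_mem_open]
    rintro u ⟨A, huA, hA⟩
    exact ⟨A, fun v hv => ⟨A, hv, hA⟩, A.isOpen, huA⟩
  have hC : IsConstructible Oᶜ := ((NoetherianSpace.isCompact O).isConstructible hO).compl
  have hT : IsConstructible (f '' Oᶜ) := f.isConstructible_image hC
  have hTE : f '' Oᶜ ⊆ E := by
    rintro _ ⟨c, hc, rfl⟩
    apply hsupp
    by_contra hns
    apply hc
    obtain ⟨A, hcA, hA⟩ := exists_open_van F U s c (isZero_stalk_of_not_mem_supp F U c hns)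
    exact ⟨A, hcA, hA⟩
  have hcl : closure (f '' Oᶜ) ⊆ E := closure_subset_of_isConstructible hT hE hTE
  refine ⟨⟨(closure (f '' Oᶜ))ᶜ, isClosed_closure.isOpen_compl⟩, ?_, ?_⟩
  · intro x hx
    exact hcl (not_not.1 hx)
  · intro T g hT'
    apply map_eq_zero_of_forall_mem F g s
    intro x
    by_contra hx
    have h1 : f (g.left x) ∈ f '' Oᶜ := ⟨g.left x, hx, rfl⟩
    have h2 : f (g.left x) = homX T x :=
      congrArg (fun h : T.left ⟶ X => h x) (MorphismProperty.Over.w g)
    rw [h2] at h1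
    exact hT' x (subset_closure h1)

/-! ### killing a constructible sheaf over an open -/

section Kill

theorem supp_subset_of_iso {C C' : EtCoh.Ab X} (e : C ≅ C') : EtPBC.supp C' ⊆ EtPBC.supp C := by
  rintro x ⟨Ω, _, _, ξ, hξ, hnz⟩
  exact ⟨Ω, inferInstance, inferInstance, ξ, hξ,
    fun hz => hnz (hz.of_iso ((EtCoh.stalk ξ).mapIso e.symm))⟩

/-- geometric points over `V` lift to the preimage of `V` -/
theorem fiber_map_opn_surj {Ω : Type u} [Field Ω] [IsSepClosed Ω]
    (ξ : Spec (CommRingCat.of Ω) ⟶ X) (V : X.Opens) (hξ : ξ default ∈ V) (U : X.Etale)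
    (y : (Scheme.pointSmallEtale ξ).fiber.obj U) :
    ∃ y' : (Scheme.pointSmallEtale ξ).fiber.obj (opn U (homX U ⁻¹ᵁ V)),
      (Scheme.pointSmallEtale ξ).fiber.map (opnι U (homX U ⁻¹ᵁ V)) y' = y := by
  let Φ := Scheme.pointSmallEtale ξ
  let A : U.left.Opens := homX U ⁻¹ᵁ V
  have e' : y.left ≫ homX U = ξ := Over.w y
  have hsub : Set.range y.left ⊆ Set.range A.ι := by
    rw [Scheme.Opens.range_ι]
    rintro _ ⟨a, rfl⟩
    have ha : a = (default : Spec (CommRingCat.of Ω)) :=
      @Subsingleton.elim (Spec (CommRingCat.of Ω)) inferInstance a default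
    rw [ha]
    show homX U (y.left (default : Spec (CommRingCat.of Ω))) ∈ V
    have h3 : homX U (y.left (default : Spec (CommRingCat.of Ω))) = ξ default :=
      congrArg (fun h : Spec (CommRingCat.of Ω) ⟶ X => h default) e'
    rw [h3]
    exact hξ
  let l : Spec (CommRingCat.of Ω) ⟶ (A : Scheme.{u}) := IsOpenImmersion.lift A.ι y.left hsub
  have hl : l ≫ A.ι = y.left := IsOpenImmersion.lift_fac _ _ _
  let y' : Φ.fiber.obj (opn U A) := Over.homMk l (by
    show l ≫ A.ι ≫ homX U = ξ
    rw [← Category.assoc, hl, e'])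
  refine ⟨y', ?_⟩
  apply Over.OverMorphism.ext
  exact hl

/-- restriction of sections of a skyscraper sheaf is injective when the fibre map is onto -/
theorem sky_map_injective {Ω : Type u} [Field Ω] [IsSepClosed Ω]
    (ξ : Spec (CommRingCat.of Ω) ⟶ X) (Z : AddCommGrpCat.{u + 1}) {U' U : X.Etale} (g : U' ⟶ U)
    (hs : ∀ y : (Scheme.pointSmallEtale ξ).fiber.obj U,
      ∃ y', (Scheme.pointSmallEtale ξ).fiber.map g y' = y)
    (z : ((Scheme.pointSmallEtale ξ).skyscraperSheaf Z).obj.obj (op U))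
    (hz : ((Scheme.pointSmallEtale ξ).skyscraperSheaf Z).obj.map g.op z = 0) : z = 0 := by
  let Φ := Scheme.pointSmallEtale ξ
  have hmono : Mono ((Φ.skyscraperSheaf Z).obj.map g.op) := by
    refine ⟨fun {T} f₁ f₂ hf => ?_⟩
    apply Pi.hom_ext
    intro y
    obtain ⟨y', rfl⟩ := hs y
    have e := StalkShriekGen.sky_map_π Φ Z g y'
    calc f₁ ≫ Pi.π (fun _ => Z) (Φ.fiber.map g y')
        = f₁ ≫ (Φ.skyscraperSheaf Z).obj.map g.op ≫ Pi.π (fun _ => Z) y' :=
          congrArg (fun k => f₁ ≫ k) e.symm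
      _ = f₂ ≫ (Φ.skyscraperSheaf Z).obj.map g.op ≫ Pi.π (fun _ => Z) y' := by
          rw [← Category.assoc, hf, Category.assoc]
      _ = f₂ ≫ Pi.π (fun _ => Z) (Φ.fiber.map g y') := congrArg (fun k => f₂ ≫ k) e
  have hinj := (AddCommGrpCat.mono_iff_injective _).1 hmono
  apply hinj
  rw [hz, map_zero]

/-- a stalk vanishes as soon as all maps to the skyscraper sheaves vanish -/
theorem isZero_stalk_of_hom_sky {Ω : Type u} [Field Ω] [IsSepClosed Ω]
    (ξ : Spec (CommRingCat.of Ω) ⟶ X) (G : EtCoh.Ab X)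
    (h : ∀ (Z : AddCommGrpCat.{u + 1}) (f : G ⟶ (Scheme.pointSmallEtale ξ).skyscraperSheaf Z),
      f = 0) : IsZero ((EtCoh.stalk ξ).obj G) := by
  rw [IsZero.iff_id_eq_zero]
  apply ((Scheme.pointSmallEtale ξ).skyscraperSheafAdjunction.homEquiv G _).injective
  exact (h _ _).trans (h _ _).symm

variable [CompactSpace X] [QuasiSeparatedSpace X]

/-- a map from a constructible sheaf `C` which kills the generators of `C` over the quasi-compact
open `V` factors through a constructible quotient of `C` vanishing over `V` -/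
theorem exists_quotient_kill {C F : EtCoh.Ab X} (hC : EtPBC.IsConstructible C) (a : C ⟶ F)
    (V : X.Opens) (hV : IsCompact (V : Set X)) {κ : Type} [Finite κ] (U : κ → X.Etale)
    (hU : ∀ p, IsAffine (U p).left) (n : ℕ) [NeZero n]
    (P : (⨁ fun p => EtPBC.extZeroConst (U p) (ZMod n)) ⟶ C) [Epi P]
    (hkill : ∀ p (T : X.Etale) (g : T ⟶ U p), (∀ t : T.left, homX T t ∈ V) →
      F.obj.map g.op (a.hom.app (op (U p)) (ev (U p) n
        (biproduct.ι (fun p => EtPBC.extZeroConst (U p) (ZMod n)) p ≫ P))) = 0) :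
    ∃ (C' : EtCoh.Ab X) (π : C ⟶ C') (a' : C' ⟶ F), EtPBC.IsConstructible C' ∧ π ≫ a' = a ∧
      ∀ (Ω : Type u) [Field Ω] [IsSepClosed Ω] (ξ : Spec (CommRingCat.of Ω) ⟶ X),
        ξ default ∈ V → IsZero ((EtCoh.stalk ξ).obj C') := by
  classical
  let A : ∀ p, (U p).left.Opens := fun p => homX (U p) ⁻¹ᵁ V
  let U' : κ → X.Etale := fun p => opn (U p) (A p)
  let g : ∀ p, U' p ⟶ U p := fun p => opnι (U p) (A p)
  have hU'V : ∀ p (t : (U' p).left), homX (U' p) t ∈ V := fun p t => t.2
  obtain ⟨e, he⟩ : ∃ e : ∀ p, C.obj.obj (op (U p)),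
      ∀ p, e p = ev (U p) n
        (biproduct.ι (fun p => EtPBC.extZeroConst (U p) (ZMod n)) p ≫ P) := ⟨_, fun _ => rfl⟩
  have he' : ∀ p, n • C.obj.map (g p).op (e p) = 0 := fun p => by
    rw [← map_nsmul, he, nsmul_ev, map_zero]
  choose ψ hψ using fun p => exists_ev (U' p) n (C.obj.map (g p).op (e p)) (he' p)
  let Ψ : (⨁ fun p => EtPBC.extZeroConst (U' p) (ZMod n)) ⟶ C := biproduct.desc ψ
  have hΨa : Ψ ≫ a = 0 := by
    apply biproduct.hom_ext'
    intro p
    rw [biproduct.ι_desc_assoc, comp_zero]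
    apply ev_injective (U' p) n
    rw [ev_comp, hψ, na a (g p) (e p), he, hkill p (U' p) (g p) (hU'V p), ev_zero]
  haveI : ∀ p, CompactSpace (U' p).left := fun p => by
    haveI := hU p
    haveI : QuasiCompact (homX (U p)) := inferInstance
    exact isCompact_iff_compactSpace.1 ((homX (U p)).isCompact_preimage hV)
  haveI : ∀ p, QuasiSeparatedSpace (U' p).left := fun p => by
    haveI := hU p
    exact quasiSeparatedSpace_of_quasiSeparated (A p).ι
  have hsrc : EtPBC.IsConstructible (⨁ fun p => EtPBC.extZeroConst (U' p) (ZMod n)) :=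
    constructible_biproduct _ (fun p => ShriekConst.main X (U' p) (ZMod n))
  have hC' : EtPBC.IsConstructible (cokernel Ψ) := (constructible_kernel_cokernel Ψ hsrc hC).2
  refine ⟨cokernel Ψ, cokernel.π Ψ, cokernel.desc Ψ a hΨa, hC', cokernel.π_desc _ _ _, ?_⟩
  intro Ω _ _ ξ hξ
  apply isZero_stalk_of_hom_sky ξ
  intro Z h
  rw [← cancel_epi (cokernel.π Ψ), comp_zero, ← cancel_epi P, comp_zero]
  apply biproduct.hom_ext'
  intro p
  rw [comp_zero]
  obtain ⟨h', hh'⟩ : ∃ h' : C ⟶ (Scheme.pointSmallEtale ξ).skyscraperSheaf Z,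
      h' = cokernel.π Ψ ≫ h := ⟨_, rfl⟩
  rw [← hh']
  apply ev_injective (U p) n
  rw [ev_zero, ← Category.assoc, ev_comp, ← he]
  apply sky_map_injective ξ Z (g p) (fun y => fiber_map_opn_surj ξ V hξ (U p) y)
  rw [← na h' (g p) (e p), ← hψ p, ← ev_comp]
  have hz : ψ p ≫ h' = 0 := by
    have h1 : ψ p = biproduct.ι _ p ≫ Ψ := (biproduct.ι_desc _ _).symm
    rw [h1, hh', Category.assoc, cokernel.condition_assoc, zero_comp, comp_zero]
  rw [hz, ev_zero]

end Kill

/-! ### cofinal subcategories of the index category -/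

section Cofinal

variable [CompactSpace X] [QuasiSeparatedSpace X]

/-- if every map from a constructible sheaf to the torsion sheaf `F` factors through a
constructible sheaf with the property `Q`, then `F` is a filtered colimit of constructible sheaves
with the property `Q` -/
theorem exists_colimit_of_cofinal (F : EtCoh.Ab X) (hF : EtCoh.IsTorsion F)
    (Q : EtCoh.Ab X → Prop) (hQiso : ∀ C C' : EtCoh.Ab X, (C ≅ C') → Q C → Q C')
    (hQ : ∀ (C : EtCoh.Ab X) (_ : EtPBC.IsConstructible C) (a : C ⟶ F),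
      ∃ (C' : EtCoh.Ab X) (π : C ⟶ C') (a' : C' ⟶ F),
        EtPBC.IsConstructible C' ∧ π ≫ a' = a ∧ Q C') :
    ∃ (J : Type (u + 1)) (_ : SmallCategory J) (_ : IsFiltered J) (D : J ⥤ EtCoh.Ab X)
      (c : Cocone D) (_ : IsColimit c), Nonempty (c.pt ≅ F) ∧
      ∀ j, EtPBC.IsConstructible (D.obj j) ∧ Q (D.obj j) := by
  let PP : ObjectProperty (Idx F) := fun j => Q j.P.obj
  have hex : ∀ d : Idx F, ∃ c : PP.FullSubcategory, Nonempty (d ⟶ PP.ι.obj c) := by
    intro j
    obtain ⟨C', π, a', hC', hfac, hQC'⟩ := hQ j.P.obj j.P.constructible j.a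
    obtain ⟨k, e, he⟩ := exists_idx C' hC' a'
    refine ⟨⟨k, hQiso _ _ e.symm hQC'⟩, ⟨⟨π ≫ e.inv, ?_⟩⟩⟩
    show (π ≫ e.inv) ≫ k.a = j.a
    rw [← he, Category.assoc, Iso.inv_hom_id_assoc, hfac]
  haveI : IsFiltered PP.FullSubcategory :=
    IsFiltered.of_exists_of_isFiltered_of_fullyFaithful PP.ι hex
  haveI : PP.ι.Final := Functor.final_of_exists_of_isFiltered_of_fullyFaithful PP.ι hex
  obtain ⟨hc⟩ := isColimit_cocone hF
  exact ⟨PP.FullSubcategory, inferInstance, inferInstance, PP.ι ⋙ diag F,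
    (cocone F).whisker PP.ι, (Functor.Final.isColimitWhiskerEquiv PP.ι (cocone F)).symm hc,
    ⟨Iso.refl _⟩, fun j => ⟨j.1.P.constructible, j.2⟩⟩

end Cofinal

/-- a torsion sheaf on an irreducible qcqs scheme whose stalk at the generic point vanishes is a
filtered colimit of constructible sheaves supported on closed subsets missing the generic point -/
theorem main_generic (X : Scheme.{u}) [CompactSpace X] [QuasiSeparatedSpace X]
    [IrreducibleSpace X] (F : EtCoh.Ab X) (hF : EtCoh.IsTorsion F)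
    (hη : genericPoint X ∉ EtPBC.supp F) :
    ∃ (J : Type (u + 1)) (_ : SmallCategory J) (_ : IsFiltered J) (D : J ⥤ EtCoh.Ab X)
      (c : Cocone D) (_ : IsColimit c), Nonempty (c.pt ≅ F) ∧
      ∀ j, EtPBC.IsConstructible (D.obj j) ∧
        ∃ Z : Set X, IsClosed Z ∧ genericPoint X ∉ Z ∧ EtPBC.supp (D.obj j) ⊆ Z := by
  refine exists_colimit_of_cofinal F hF
    (fun C => ∃ Z : Set X, IsClosed Z ∧ genericPoint X ∉ Z ∧ EtPBC.supp C ⊆ Z) ?_ ?_
  · rintro C C' e ⟨Z, hZ, hηZ, hsub⟩
    exact ⟨Z, hZ, hηZ, (supp_subset_of_iso e).trans hsub⟩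
  · intro C hC a
    obtain ⟨N, hN, hk⟩ := CsKill.exists_killing X C hC
    haveI : NeZero N := ⟨hN.ne'⟩
    obtain ⟨κ, hκ, U, hU, P, hP⟩ := exists_epi_of_killed X N hN C hC hk
    haveI := hκ
    haveI := hP
    have hex : ∀ p, ∃ V : X.Opens, genericPoint X ∈ V ∧ ∀ (T : X.Etale) (g : T ⟶ U p),
        (∀ t : T.left, homX T t ∈ V) → F.obj.map g.op (a.hom.app (op (U p)) (ev (U p) N
          (biproduct.ι (fun p => EtPBC.extZeroConst (U p) (ZMod N)) p ≫ P))) = 0 := fun p => by
      haveI := hU p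
      exact exists_open_kill_generic F hη (U p) _
    choose Vp hVη hVkill using hex
    have hopen : IsOpen (⋂ p, (Vp p : Set X)) := isOpen_iInter_of_finite (fun p => (Vp p).isOpen)
    have hmem : genericPoint X ∈ ⋂ p, (Vp p : Set X) := Set.mem_iInter.2 hVη
    obtain ⟨_, ⟨V, hV, rfl⟩, hηV, hVsub⟩ :=
      X.isBasis_affineOpens.exists_subset_of_mem_open hmem hopen
    obtain ⟨C', π, a', hC', hfac, hzero⟩ := exists_quotient_kill hC a V hV.isCompact U hU N P
      (fun p T g hT => hVkill p T g (fun t => Set.mem_iInter.1 (hVsub (hT t)) p))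
    refine ⟨C', π, a', hC', hfac, (V : Set X)ᶜ, V.isOpen.isClosed_compl, fun h => h hηV, ?_⟩
    rintro x ⟨Ω, _, _, ξ, hξ, hnz⟩ hxV
    exact hnz (hzero Ω ξ (by rw [default_eq_of_range ξ hξ]; exact hxV))

/-- a torsion sheaf on a Noetherian scheme supported in a specialization-stable subset `E` is a
filtered colimit of constructible sheaves supported on closed subsets of `E` -/
theorem main_noeth (X : Scheme.{u}) [IsNoetherian X] (E : Set X)
    (hE : StableUnderSpecialization E) (F : EtCoh.Ab X) (hF : EtCoh.IsTorsion F)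
    (hsupp : EtPBC.supp F ⊆ E) :
    ∃ (J : Type (u + 1)) (_ : SmallCategory J) (_ : IsFiltered J) (D : J ⥤ EtCoh.Ab X)
      (c : Cocone D) (_ : IsColimit c), Nonempty (c.pt ≅ F) ∧
      ∀ j, EtPBC.IsConstructible (D.obj j) ∧
        ∃ Z : Set X, IsClosed Z ∧ Z ⊆ E ∧ EtPBC.supp (D.obj j) ⊆ Z := by
  refine exists_colimit_of_cofinal F hF
    (fun C => ∃ Z : Set X, IsClosed Z ∧ Z ⊆ E ∧ EtPBC.supp C ⊆ Z) ?_ ?_
  · rintro C C' e ⟨Z, hZ, hZE, hsub⟩
    exact ⟨Z, hZ, hZE, (supp_subset_of_iso e).trans hsub⟩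
  · intro C hC a
    obtain ⟨N, hN, hk⟩ := CsKill.exists_killing X C hC
    haveI : NeZero N := ⟨hN.ne'⟩
    obtain ⟨κ, hκ, U, hU, P, hP⟩ := exists_epi_of_killed X N hN C hC hk
    haveI := hκ
    haveI := hP
    have hex : ∀ p, ∃ V : X.Opens, (V : Set X)ᶜ ⊆ E ∧ ∀ (T : X.Etale) (g : T ⟶ U p),
        (∀ t : T.left, homX T t ∈ V) → F.obj.map g.op (a.hom.app (op (U p)) (ev (U p) N
          (biproduct.ι (fun p => EtPBC.extZeroConst (U p) (ZMod N)) p ≫ P))) = 0 := fun p => by
      haveI := hU p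
      exact exists_open_kill_noeth F E hE hsupp (U p) _
    choose Vp hVE hVkill using hex
    let V : X.Opens := ⟨⋂ p, (Vp p : Set X), isOpen_iInter_of_finite (fun p => (Vp p).isOpen)⟩
    have hVc : IsCompact (V : Set X) := NoetherianSpace.isCompact _
    obtain ⟨C', π, a', hC', hfac, hzero⟩ := exists_quotient_kill hC a V hVc U hU N P
      (fun p T g hT => hVkill p T g (fun t => Set.mem_iInter.1 (hT t) p))
    refine ⟨C', π, a', hC', hfac, (V : Set X)ᶜ, V.isOpen.isClosed_compl, ?_, ?_⟩
    · intro x hx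
      have hex' : ∃ p, x ∉ (Vp p : Set X) := by
        by_contra hcon
        exact hx (Set.mem_iInter.2 (fun p => by_contra (fun hp => hcon ⟨p, hp⟩)))
      obtain ⟨p, hp⟩ := hex'
      exact hVE p hp
    · rintro x ⟨Ω, _, _, ξ, hξ, hnz⟩ hxV
      exact hnz (hzero Ω ξ (by rw [default_eq_of_range ξ hξ]; exact hxV))

end H9FE.CsSuppColim
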