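import Mathlib
import Groth.Prelude.Def_EtAcyc
import Groth.Agent.Lib.Helper5.Misc.EtSiteBasic
import Groth.Agent.Lib.Helper5.Misc.EtSurjPull
import Groth.Agent.Lib.Helper9.FE.CsSuppColim

/-! helper9: a morphism is (-1)-acyclic iff surjective (for quasi-compact morphisms):
faithfulness of the inverse image along a surjective morphism, and, conversely, a sheaf of
"functions supported on a closed set" whose unit map is not injective when the closed set is
missed by the morphism. -/

set_option autoImplicit false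
set_option linter.unusedSectionVars false
set_option linter.style.haveILetI false
set_option backward.isDefEq.respectTransparency false

universe u

open CategoryTheory CategoryTheory.Limits AlgebraicGeometry Opposite

namespace H9FE.MinusOneAcyc

open Groth.Agent.Lib.Helper5 H9FE.CsSuppColim

/-- a prime outside the image of `Spec B → Spec A` has a basic open neighbourhood missing the
part of the image contained in its closure -/
theorem exists_not_mem_of_not_mem_range {A B : Type u} [CommRing A] [CommRing B] (f : A →+* B)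
    (p : Ideal A) [hpp : p.IsPrime] (hp : ∀ q : Ideal B, q.IsPrime → q.comap f ≠ p) :
    ∃ a : A, a ∉ p ∧ ∀ q : Ideal B, q.IsPrime → p ≤ q.comap f → a ∈ q.comap f := by
  have h1 : p ≤ (p.map f).comap f := Ideal.le_comap_map
  by_cases h2 : (p.map f).comap f ≤ p
  · exfalso
    have heq : (p.map f).comap f = p := le_antisymm h2 h1
    have hmin : p ∈ ((p.map f).comap f).minimalPrimes := by
      rw [heq]
      exact ⟨⟨hpp, le_rfl⟩, fun y hy _ => hy.2⟩
    obtain ⟨q, hq, -, hqp⟩ := Ideal.exists_comap_eq_of_mem_minimalPrimes f p hmin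
    exact hp q hq hqp
  · obtain ⟨a, ha, hap⟩ := Set.not_subset.1 h2
    refine ⟨a, hap, fun q hq hpq => ?_⟩
    have h3 : p.map f ≤ q := Ideal.map_le_iff_le_comap.2 hpq
    exact h3 ha

/-- a point outside the image of a quasi-compact morphism has an open neighbourhood in which
no specialization of the point lies in the image -/
theorem exists_open_disjoint {X Y : Scheme.{u}} (g : X ⟶ Y) [QuasiCompact g] (y : Y)
    (hy : y ∉ Set.range g) :
    ∃ W : Y.Opens, y ∈ W ∧ ∀ x : X, g x ∈ W → ¬ (y ⤳ g x) := by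
  let 𝒰 := Y.affineOpenCover
  let i := 𝒰.idx y
  let A : CommRingCat.{u} := 𝒰.X i
  let j : Spec A ⟶ Y := 𝒰.f i
  haveI : IsOpenImmersion j := 𝒰.map_prop i
  obtain ⟨y₀, hy₀⟩ := 𝒰.covers y
  have hy₀' : j y₀ = y := hy₀
  haveI hc : CompactSpace ↑(pullback g j) := inferInstance
  obtain ⟨R, h, hh⟩ := compactSpace_iff_exists.mp hc
  obtain ⟨ψ, hψ⟩ := Spec.map_surjective (h ≫ pullback.snd g j)
  have hsnd : ∀ r : Spec R, pullback.snd g j (h r) = Spec.map ψ r := by
    intro r
    rw [hψ]
    rfl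
  have hnot : ∀ q : Ideal R, q.IsPrime → q.comap ψ.hom ≠ y₀.asIdeal := by
    intro q hq e
    apply hy
    let r : Spec R := ⟨q, hq⟩
    refine ⟨pullback.fst g j (h r), ?_⟩
    have e1 : g (pullback.fst g j (h r)) = j (pullback.snd g j (h r)) :=
      congrArg (fun m : pullback g j ⟶ Y => m (h r)) pullback.condition
    have e2 : pullback.snd g j (h r) = y₀ := by
      rw [hsnd r]
      exact PrimeSpectrum.ext e
    rw [e1, e2]
    exact hy₀'
  obtain ⟨a, ha, hall⟩ := exists_not_mem_of_not_mem_range ψ.hom y₀.asIdeal hnot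
  refine ⟨j ''ᵁ (PrimeSpectrum.basicOpen a), ⟨y₀, ha, hy₀'⟩, ?_⟩
  rintro x ⟨z₀, hz₀, hz⟩ hspec
  obtain ⟨t, ht1, ht2⟩ :=
    Scheme.Pullback.exists_preimage_pullback (f := g) (g := j) x z₀ hz.symm
  obtain ⟨r, hr⟩ := hh t
  have hz' : z₀ = Spec.map ψ r := by
    rw [← hsnd r, hr, ht2]
  have hs : y₀ ⤳ z₀ := by
    rw [← hy₀', ← hz] at hspec
    exact j.isOpenEmbedding.isInducing.specializes_iff.1 hspec
  have hle : y₀.asIdeal ≤ z₀.asIdeal :=
    (PrimeSpectrum.asIdeal_le_asIdeal _ _).2 ((PrimeSpectrum.le_iff_specializes _ _).2 hs)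
  have hmem : a ∈ z₀.asIdeal := by
    rw [hz'] at hle ⊢
    exact hall r.asIdeal r.2 hle
  exact hz₀ hmem

section Sheaf

variable {W : Scheme.{u}} (T : Set W)

/-- functions on the points of `U` vanishing off the preimage of `T` -/
def Fobj (U : W.Etale) : Type (u + 1) :=
  ULift.{u + 1} {f : U.left → Bool // ∀ x : U.left, homX U x ∉ T → f x = false}

theorem homX_comp {U U' : W.Etale} (k : U' ⟶ U) (x : U'.left) :
    homX U (k.left x) = homX U' x := by
  have h := MorphismProperty.Over.w k
  rw [← Scheme.Hom.comp_apply]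
  exact congrArg (fun m : U'.left ⟶ W => m x) h

/-- the presheaf of functions supported over `T` -/
def Fpre : (W.Etale)ᵒᵖ ⥤ Type (u + 1) where
  obj U := Fobj T U.unop
  map {U U'} k := ↾fun (s : Fobj T U.unop) =>
    (⟨⟨fun x => s.down.1 (k.unop.left x), fun x hx =>
      s.down.2 _ (by rw [homX_comp k.unop x]; exact hx)⟩⟩ : Fobj T U'.unop)
  map_id := by
    intro U
    rfl
  map_comp := by
    intro U U' U'' k k'
    rfl

theorem Fpre_map_apply {U U' : W.Etale} (k : U' ⟶ U) (s : (Fpre T).obj (op U)) (x : U'.left) :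
    ((Fpre T).map k.op s).down.1 x = s.down.1 (k.left x) := rfl

theorem isSheaf_Fpre : Presheaf.IsSheaf W.smallEtaleTopology (Fpre T) := by
  rw [isSheaf_iff_isSheaf_of_type]
  intro U S hS x hx
  rw [EtSiteBasic.mem_smallEtale_iff] at hS
  choose V k v hk hv using hS
  have key : ∀ {V' : W.Etale} (k' : V' ⟶ U) (h' : S k') (v' : V'.left),
      (x k' h').down.1 v' = (x (k (k'.left v')) (hk _)).down.1 (v (k'.left v')) := by
    intro V' k' h' v'
    let p := k'.left v'
    let P : W.Etale := EtSiteBasic.ofEtale (pullback.fst k'.left (k p).left ≫ homX V')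
    let π₁ : P ⟶ V' :=
      MorphismProperty.Over.homMk (pullback.fst k'.left (k p).left) rfl trivial
    let π₂ : P ⟶ V p :=
      MorphismProperty.Over.homMk (pullback.snd k'.left (k p).left) (by
        show pullback.snd k'.left (k p).left ≫ homX (V p) =
          pullback.fst k'.left (k p).left ≫ homX V'
        have w1 : (k p).left ≫ homX U = homX (V p) := MorphismProperty.Over.w (k p)
        have w2 : k'.left ≫ homX U = homX V' := MorphismProperty.Over.w k'
        rw [← w1, ← w2, ← Category.assoc, ← Category.assoc, pullback.condition]) trivial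
    have comm : π₁ ≫ k' = π₂ ≫ k p := by
      apply MorphismProperty.Over.Hom.ext
      exact pullback.condition
    obtain ⟨t, ht₁, ht₂⟩ := Scheme.Pullback.exists_preimage_pullback
      (f := k'.left) (g := (k p).left) v' (v p) (hv p).symm
    have e := hx π₁ π₂ h' (hk p) comm
    have e' : ((Fpre T).map π₁.op (x k' h')).down.1 t =
        ((Fpre T).map π₂.op (x (k p) (hk p))).down.1 t := by rw [e]
    rw [Fpre_map_apply, Fpre_map_apply] at e'
    exact (congrArg (x k' h').down.1 ht₁.symm).trans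
      (e'.trans (congrArg (x (k p) (hk p)).down.1 ht₂))
  let glue : U.left → Bool := fun p => (x (k p) (hk p)).down.1 (v p)
  have hglue : ∀ p, homX U p ∉ T → glue p = false := by
    intro p hp
    apply (x (k p) (hk p)).down.2
    rw [← homX_comp (k p) (v p), hv p]
    exact hp
  refine ⟨⟨⟨glue, hglue⟩⟩, ?_, ?_⟩
  · intro V' k' h'
    apply ULift.ext
    apply Subtype.ext
    funext v'
    exact (key k' h' v').symm
  · intro s hs
    apply ULift.ext
    apply Subtype.ext
    funext p
    have h1 := hs (k p) (hk p)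
    have e : ((Fpre T).map (k p).op s).down.1 (v p) = (x (k p) (hk p)).down.1 (v p) := by
      rw [h1]
    rw [Fpre_map_apply] at e
    exact (congrArg s.down.1 (hv p).symm).trans e

/-- the sheaf of functions supported over `T` -/
def Fsh : EtDesc.Sh W := ⟨Fpre T, isSheaf_Fpre T⟩

end Sheaf

section Main

variable {X' W : Scheme.{u}} (f : X' ⟶ W) (T : Set W)

theorem subsingleton_Fobj (U : W.Etale) (h : ∀ x : U.left, homX U x ∉ T)
    (s s' : (Fsh T).obj.obj (op U)) : s = s' := by
  apply ULift.ext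
  apply Subtype.ext
  funext x
  rw [s.down.2 x (h x), s'.down.2 x (h x)]

theorem inj_bcTop_hom (p₁ p₂ : ((EtCoh.bc f).obj (EtCoh.top W)).left)
    (h : homX ((EtCoh.bc f).obj (EtCoh.top W)) p₁ =
      homX ((EtCoh.bc f).obj (EtCoh.top W)) p₂) : p₁ = p₂ := by
  let e := EtCore.bcTopIso f
  have w : e.hom.left ≫ homX (EtCoh.top X') = homX ((EtCoh.bc f).obj (EtCoh.top W)) :=
    MorphismProperty.Over.w e.hom
  have hi : e.hom.left ≫ e.inv.left = 𝟙 _ := congrArg (fun k => k.left) e.hom_inv_id
  have key : ∀ p, e.inv.left (homX ((EtCoh.bc f).obj (EtCoh.top W)) p) = p := by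
    intro p
    rw [← w]
    show e.inv.left (e.hom.left p) = p
    exact congrArg (fun m : ((EtCoh.bc f).obj (EtCoh.top W)).left ⟶
      ((EtCoh.bc f).obj (EtCoh.top W)).left => m p) hi
  rw [← key p₁, ← key p₂, h]

theorem not_mono_unit (hT : IsClosed T) (t₀ : W) (ht₀ : t₀ ∈ T)
    (hf : ∀ p : X', f p ∉ T) : ¬ Mono ((EtDesc.adjSh f).unit.app (Fsh T)) := by
  intro hm
  rw [EtSiteBasic.mono_iff] at hm
  have inj := hm (EtCoh.top W)
  classical
  let s : (Fsh T).obj.obj (op (EtCoh.top W)) := ⟨⟨fun _ => false, fun _ _ => rfl⟩⟩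
  let s' : (Fsh T).obj.obj (op (EtCoh.top W)) :=
    ⟨⟨fun x => decide (homX (EtCoh.top W) x ∈ T), fun x hx => decide_eq_false hx⟩⟩
  have hne : s ≠ s' := by
    intro e
    have e1 : s.down.1 t₀ = s'.down.1 t₀ := by rw [e]
    have e2 : s'.down.1 t₀ = true := decide_eq_true ht₀
    rw [e2] at e1
    exact Bool.false_ne_true e1
  apply hne
  apply inj
  let A : (EtCoh.top W).left.Opens := ⟨Tᶜ, hT.isOpen_compl⟩
  let ι := opnι (EtCoh.top W) A
  have hA : ∀ x : (opn (EtCoh.top W) A).left, homX (opn (EtCoh.top W) A) x ∉ T :=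
    fun x hx => x.2 hx
  have hsurj : Function.Surjective ((EtCoh.bc f).map ι).left := by
    intro p
    let b : X' := homX ((EtCoh.bc f).obj (EtCoh.top W)) p
    have hb : f b ∉ T := hf b
    obtain ⟨p', -, hp'2⟩ := Scheme.Pullback.exists_preimage_pullback
      (f := homX (opn (EtCoh.top W) A)) (g := f) (⟨f b, hb⟩ : A) b rfl
    refine ⟨p', ?_⟩
    apply inj_bcTop_hom f
    have w := MorphismProperty.Over.w ((EtCoh.bc f).map ι)
    have w' := congrArg (fun m : ((EtCoh.bc f).obj (opn (EtCoh.top W) A)).left ⟶ X' => m p') w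
    exact w'.trans hp'2
  have nat : ∀ s₀ : (Fsh T).obj.obj (op (EtCoh.top W)),
      ((EtDesc.pullSh f).obj (Fsh T)).obj.map ((EtCoh.bc f).map ι).op
        (((EtDesc.adjSh f).unit.app (Fsh T)).hom.app (op (EtCoh.top W)) s₀) =
      ((EtDesc.adjSh f).unit.app (Fsh T)).hom.app (op (opn (EtCoh.top W) A))
        ((Fsh T).obj.map ι.op s₀) := by
    intro s₀
    have n := ((EtDesc.adjSh f).unit.app (Fsh T)).hom.naturality ι.op
    exact (types_congr_hom n s₀).symm
  apply EtSiteBasic.sect_ext ((EtDesc.pullSh f).obj (Fsh T)) _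
    (EtSiteBasic.generate_singleton_mem ((EtCoh.bc f).map ι) hsurj)
  intro Z k hk
  obtain ⟨Z', k', k'', hk'', rfl⟩ := hk
  cases hk''
  have hmap : ∀ s₀ : (Fsh T).obj.obj (op (EtCoh.top W)),
      ((EtDesc.pullSh f).obj (Fsh T)).obj.map (k' ≫ (EtCoh.bc f).map ι).op
        (((EtDesc.adjSh f).unit.app (Fsh T)).hom.app (op (EtCoh.top W)) s₀) =
      ((EtDesc.pullSh f).obj (Fsh T)).obj.map k'.op
        (((EtDesc.adjSh f).unit.app (Fsh T)).hom.app (op (opn (EtCoh.top W) A))
          ((Fsh T).obj.map ι.op s₀)) := by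
    intro s₀
    rw [← nat s₀, op_comp, Functor.map_comp]
    rfl
  exact (hmap s).trans (Eq.trans (by
    rw [subsingleton_Fobj T (opn (EtCoh.top W) A) hA ((Fsh T).obj.map ι.op s)
      ((Fsh T).obj.map ι.op s')]) (hmap s').symm)

end Main

theorem surjective_of_minusOne {X Y : Scheme.{u}} (g : X ⟶ Y) [QuasiCompact g]
    (h : EtAcyc.IsMinusOneAcyclic g) : Function.Surjective g.base := by
  by_contra hns
  obtain ⟨y, hy⟩ := not_forall.1 hns
  obtain ⟨W, hyW, hW⟩ := exists_open_disjoint g y (by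
    rintro ⟨x, hx⟩
    exact hy ⟨x, hx⟩)
  let V : Y.Etale := EtSiteBasic.ofEtale W.ι
  let y₁ : V.left := (⟨y, hyW⟩ : W)
  let T : Set V.left := closure {y₁}
  refine not_mono_unit (EtAcyc.prj g V) T isClosed_closure y₁ (subset_closure rfl) ?_
    (h V (Fsh T))
  intro p hp
  have hs : y₁ ⤳ (EtAcyc.prj g V p) := specializes_iff_mem_closure.2 hp
  have hs' : W.ι y₁ ⤳ W.ι (EtAcyc.prj g V p) := hs.map W.ι.continuous
  have e : W.ι (EtAcyc.prj g V p) = g (pullback.snd V.hom g p) :=
    congrArg (fun m : pullback V.hom g ⟶ Y => m p) pullback.condition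
  rw [e] at hs'
  refine hW _ ?_ hs'
  rw [← e]
  exact (EtAcyc.prj g V p).2

theorem main {X Y : Scheme.{u}} (g : X ⟶ Y) :
    (Function.Surjective g.base → EtAcyc.IsMinusOneAcyclic g) ∧
      (∀ [QuasiCompact g] [QuasiSeparated g],
        EtAcyc.IsMinusOneAcyclic g → Function.Surjective g.base) := by
  refine ⟨fun hs V F => ?_, fun h => surjective_of_minusOne g h⟩
  haveI : Surjective g := ⟨hs⟩
  haveI : Surjective (EtAcyc.prj g V) := inferInstance
  haveI := EtSurjPull.faithful_pullSh (EtAcyc.prj g V)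
  exact Adjunction.unit_mono_of_L_faithful (EtDesc.adjSh (EtAcyc.prj g V)) F

end H9FE.MinusOneAcyc
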