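import Mathlib
import Groth.Prelude.Def_EtBCD
import Groth.Agent.Lib.Helper5.Misc.EtSiteBasic
import Groth.Agent.Lib.Helper5.Misc.EtSurjPull
import Groth.Agent.Lib.Helper9.FE.MinusOneAcyc

/-! helper9: the pull-back map on global sections of étale sheaves of sets (`EtDesc.secPull`):
naturality, relation with the base change morphism, descent of injectivity / bijectivity along a
surjective morphism, and the "range" lemma for monomorphisms. -/

set_option autoImplicit false
set_option linter.unusedSectionVars false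
set_option linter.style.haveILetI false
set_option backward.isDefEq.respectTransparency false

universe u w

open CategoryTheory CategoryTheory.Limits AlgebraicGeometry Opposite

namespace H9FE.SecPull

open Groth.Agent.Lib.Helper5 H9FE.CsSuppColim

section General

variable {C : Type*} [Category C]

theorem map_iso_bijective (P : Cᵒᵖ ⥤ Type w) {A B : C} (e : A ≅ B) :
    Function.Bijective (P.map e.hom.op) :=
  (isIso_iff_bijective (P.map e.hom.op)).1 inferInstance

theorem app_iso_comm {P Q : Cᵒᵖ ⥤ Type w} (ψ : P ⟶ Q) {A B : C} (e : A ≅ B) :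
    (Q.map e.hom.op) ∘ (ψ.app (op B)) = (ψ.app (op A)) ∘ (P.map e.hom.op) := by
  funext x
  exact (types_congr_hom (ψ.naturality e.hom.op) x).symm

theorem injective_app_iff {P Q : Cᵒᵖ ⥤ Type w} (ψ : P ⟶ Q) {A B : C} (e : A ≅ B) :
    Function.Injective (ψ.app (op B)) ↔ Function.Injective (ψ.app (op A)) := by
  have hP := map_iso_bijective P e
  have hQ := map_iso_bijective Q e
  rw [← hQ.injective.of_comp_iff (ψ.app (op B)), app_iso_comm ψ e,
    Function.Injective.of_comp_iff' _ hP]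

theorem bijective_app_iff {P Q : Cᵒᵖ ⥤ Type w} (ψ : P ⟶ Q) {A B : C} (e : A ≅ B) :
    Function.Bijective (ψ.app (op B)) ↔ Function.Bijective (ψ.app (op A)) := by
  have hP := map_iso_bijective P e
  have hQ := map_iso_bijective Q e
  rw [← hQ.of_comp_iff' (ψ.app (op B)), app_iso_comm ψ e,
    Function.Bijective.of_comp_iff _ hP]

end General

section Basic

variable {X Y : Scheme.{u}}

theorem mmS (F : EtDesc.Sh X) {Z' Z W : X.Etale} (k : Z' ⟶ Z) (z : Z ⟶ W)
    (s : F.obj.obj (op W)) :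
    F.obj.map k.op (F.obj.map z.op s) = F.obj.map (k ≫ z).op s :=
  (types_congr_hom (F.obj.map_comp z.op k.op) s).symm

theorem naS {F G : EtDesc.Sh X} (φ : F ⟶ G) {Z W : X.Etale} (z : Z ⟶ W)
    (s : F.obj.obj (op W)) :
    φ.hom.app (op Z) (F.obj.map z.op s) = G.obj.map z.op (φ.hom.app (op W) s) :=
  types_congr_hom (φ.hom.naturality z.op) s

theorem sheafIso_app_bijective {H H' : EtDesc.Sh X} (κ : H ≅ H') (V : X.Etale) :
    Function.Bijective (κ.hom.hom.app (op V)) := by
  refine Function.bijective_iff_has_inverse.2 ⟨κ.inv.hom.app (op V), ?_, ?_⟩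
  · intro x
    exact types_congr_hom (congrArg (fun φ : H ⟶ H => φ.hom.app (op V)) κ.hom_inv_id) x
  · intro x
    exact types_congr_hom (congrArg (fun φ : H' ⟶ H' => φ.hom.app (op V)) κ.inv_hom_id) x

/-- the unit on global sections -/
noncomputable abbrev U (h : Y ⟶ X) (F : EtDesc.Sh X) :
    F.obj.obj (op (EtCoh.top X)) →
      ((EtDesc.pullSh h).obj F).obj.obj (op ((EtCoh.bc h).obj (EtCoh.top X))) :=
  ((EtDesc.adjSh h).unit.app F).hom.app (op (EtCoh.top X))

theorem secPull_eq (h : Y ⟶ X) (F : EtDesc.Sh X) :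
    EtDesc.secPull h F =
      (((EtDesc.pullSh h).obj F).obj.map (EtCore.bcTopIso h).inv.op) ∘ (U h F) := rfl

theorem R_bijective (h : Y ⟶ X) (H : EtDesc.Sh Y) :
    Function.Bijective (H.obj.map (EtCore.bcTopIso h).inv.op) :=
  map_iso_bijective H.obj (EtCore.bcTopIso h).symm

theorem secPull_injective_iff (h : Y ⟶ X) (F : EtDesc.Sh X) :
    Function.Injective (EtDesc.secPull h F) ↔ Function.Injective (U h F) := by
  rw [secPull_eq]
  exact (R_bijective h _).injective.of_comp_iff _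

theorem secPull_bijective_iff (h : Y ⟶ X) (F : EtDesc.Sh X) :
    Function.Bijective (EtDesc.secPull h F) ↔ Function.Bijective (U h F) := by
  rw [secPull_eq]
  exact (R_bijective h _).of_comp_iff' _

theorem U_nat (h : Y ⟶ X) {F G : EtDesc.Sh X} (φ : F ⟶ G) (s : F.obj.obj (op (EtCoh.top X))) :
    U h G (φ.hom.app (op (EtCoh.top X)) s) =
      ((EtDesc.pullSh h).map φ).hom.app (op ((EtCoh.bc h).obj (EtCoh.top X))) (U h F s) := by
  have n := (EtDesc.adjSh h).unit.naturality φ
  exact types_congr_hom (congrArg (fun ψ : F ⟶ _ => ψ.hom.app (op (EtCoh.top X))) n) s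

theorem secPull_nat (h : Y ⟶ X) {F G : EtDesc.Sh X} (φ : F ⟶ G)
    (s : F.obj.obj (op (EtCoh.top X))) :
    EtDesc.secPull h G (φ.hom.app (op (EtCoh.top X)) s) =
      ((EtDesc.pullSh h).map φ).hom.app (op (EtCoh.top Y)) (EtDesc.secPull h F s) := by
  show ((EtDesc.pullSh h).obj G).obj.map (EtCore.bcTopIso h).inv.op
      (U h G (φ.hom.app (op (EtCoh.top X)) s)) =
    ((EtDesc.pullSh h).map φ).hom.app (op (EtCoh.top Y))
      (((EtDesc.pullSh h).obj F).obj.map (EtCore.bcTopIso h).inv.op (U h F s))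
  rw [U_nat, naS]

/-- inverse image of sheaves of sets preserves monomorphisms -/
theorem mono_pullSh (h : Y ⟶ X) {F G : EtDesc.Sh X} (v : F ⟶ G) [Mono v] :
    Mono ((EtDesc.pullSh h).map v) := by
  rw [EtStalk.mono_iff_stalks]
  intro g
  have hv := (EtStalk.mono_iff_stalks v).1 inferInstance (EtSurjPull.fam h g)
  have n := (EtStalkPull.stalkPullShIso h g.ξ).hom.naturality v
  have hF := (isIso_iff_bijective ((EtStalkPull.stalkPullShIso h g.ξ).hom.app F)).1 inferInstance
  intro a b hab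
  apply hF.injective
  apply hv
  have na := types_congr_hom n a
  have nb := types_congr_hom n b
  refine na.symm.trans (Eq.trans ?_ nb)
  exact congrArg ((EtStalkPull.stalkPullShIso h g.ξ).hom.app G) hab

end Basic

section Range

variable {X Y : Scheme.{u}}

/-- fibre products in the small étale site, with a point over a given pair of points -/
theorem exists_fp {U V₁ V₂ : X.Etale} (k₁ : V₁ ⟶ U) (k₂ : V₂ ⟶ U) (v₁ : V₁.left) (v₂ : V₂.left)
    (hv : k₁.left v₁ = k₂.left v₂) :
    ∃ (P : X.Etale) (π₁ : P ⟶ V₁) (π₂ : P ⟶ V₂) (t : P.left),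
      π₁ ≫ k₁ = π₂ ≫ k₂ ∧ π₁.left t = v₁ ∧ π₂.left t = v₂ := by
  let P : X.Etale := EtSiteBasic.ofEtale (pullback.fst k₁.left k₂.left ≫ homX V₁)
  let π₁ : P ⟶ V₁ :=
    MorphismProperty.Over.homMk (pullback.fst k₁.left k₂.left) rfl trivial
  let π₂ : P ⟶ V₂ :=
    MorphismProperty.Over.homMk (pullback.snd k₁.left k₂.left) (by
      show pullback.snd k₁.left k₂.left ≫ homX V₂ =
        pullback.fst k₁.left k₂.left ≫ homX V₁
      have w1 : k₂.left ≫ homX U = homX V₂ := MorphismProperty.Over.w k₂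
      have w2 : k₁.left ≫ homX U = homX V₁ := MorphismProperty.Over.w k₁
      rw [← w1, ← w2, ← Category.assoc, ← Category.assoc, pullback.condition]) trivial
  have comm : π₁ ≫ k₁ = π₂ ≫ k₂ := by
    apply MorphismProperty.Over.Hom.ext
    exact pullback.condition
  obtain ⟨t, ht₁, ht₂⟩ := Scheme.Pullback.exists_preimage_pullback
    (f := k₁.left) (g := k₂.left) v₁ v₂ hv
  exact ⟨P, π₁, π₂, t, comm, ht₁, ht₂⟩

variable {F G : EtDesc.Sh X} (u : F ⟶ G)

/-- the section `g` of `G` comes from `F` étale locally around `x` -/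
def Loc {U : X.Etale} (g : G.obj.obj (op U)) (x : U.left) : Prop :=
  ∃ (N : X.Etale) (k : N ⟶ U) (n : N.left), k.left n = x ∧
    G.obj.map k.op g ∈ Set.range (u.hom.app (op N))

theorem loc_map_iff {U U' : X.Etale} (k : U' ⟶ U) (g : G.obj.obj (op U)) (x' : U'.left) :
    Loc u (G.obj.map k.op g) x' ↔ Loc u g (k.left x') := by
  constructor
  · rintro ⟨N, k', n, hn, f, hf⟩
    refine ⟨N, k' ≫ k, n, ?_, f, ?_⟩
    · show k.left (k'.left n) = k.left x'
      rw [hn]
    · rw [hf]
      exact mmS G k' k g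
  · rintro ⟨N, k₀, n, hn, f, hf⟩
    obtain ⟨P, π₁, π₂, t, comm, ht₁, ht₂⟩ := exists_fp k₀ k n x' hn
    refine ⟨P, π₂, t, ht₂, F.obj.map π₁.op f, ?_⟩
    rw [naS u π₁ f, hf, mmS G π₁ k₀ g, comm, ← mmS G π₂ k g]

open Classical in
/-- the indicator function of the locus where a section of `G` does not come from `F` -/
noncomputable def chi : G ⟶ MinusOneAcyc.Fsh (Set.univ : Set X) :=
  ⟨{ app := fun U => ↾fun (g : G.obj.obj U) =>
        ((⟨⟨fun x => decide (¬ Loc u (U := U.unop) g x),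
          fun x hx => absurd (Set.mem_univ _) hx⟩⟩ :
          MinusOneAcyc.Fobj (Set.univ : Set X) U.unop))
     naturality := by
       intro U U' k
       apply ConcreteCategory.hom_ext
       intro g
       apply ULift.ext
       apply Subtype.ext
       funext x'
       show decide (¬ Loc u (G.obj.map k g) x') = decide (¬ Loc u g (k.unop.left x'))
       exact decide_eq_decide.2 (not_congr (loc_map_iff u k.unop g x')) }⟩

/-- the constant function `false` -/
noncomputable def cfalse : G ⟶ MinusOneAcyc.Fsh (Set.univ : Set X) :=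
  ⟨{ app := fun U => ↾fun (_ : G.obj.obj U) =>
        ((⟨⟨fun _ => false, fun _ _ => rfl⟩⟩ :
          MinusOneAcyc.Fobj (Set.univ : Set X) U.unop))
     naturality := by
       intro U U' k
       rfl }⟩

theorem u_chi : u ≫ chi u = u ≫ cfalse := by
  apply Sheaf.hom_ext
  apply NatTrans.ext
  funext U
  apply ConcreteCategory.hom_ext
  intro f
  apply ULift.ext
  apply Subtype.ext
  funext x
  classical
  show decide (¬ Loc u (U := U.unop) (u.hom.app U f) x) = false
  refine decide_eq_false (not_not.2 ⟨U.unop, 𝟙 _, x, rfl, f, ?_⟩)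
  rw [op_id, G.obj.map_id]
  rfl

theorem chi_eq_cfalse_iff {U : X.Etale} (g : G.obj.obj (op U)) :
    (chi u).hom.app (op U) g = (cfalse).hom.app (op U) g ↔ ∀ x : U.left, Loc u g x := by
  classical
  constructor
  · intro e x
    have e1 : ((chi u).hom.app (op U) g).down.1 x = ((cfalse).hom.app (op U) g).down.1 x := by
      rw [e]
    have e2 : decide (¬ Loc u g x) = false := e1
    exact not_not.1 (of_decide_eq_false e2)
  · intro hl
    apply ULift.ext
    apply Subtype.ext
    funext x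
    show decide (¬ Loc u g x) = false
    exact decide_eq_false (not_not.2 (hl x))

theorem glue [Mono u] {U : X.Etale} (σ : G.obj.obj (op U)) (hloc : ∀ x : U.left, Loc u σ x) :
    ∃ τ : F.obj.obj (op U), u.hom.app (op U) τ = σ := by
  have hinjU := (EtSiteBasic.mono_iff u).1 inferInstance
  let S : Sieve U :=
    { arrows := fun N k => G.obj.map k.op σ ∈ Set.range (u.hom.app (op N))
      downward_closed := by
        rintro N N' k ⟨f, hf⟩ k'
        exact ⟨F.obj.map k'.op f, by rw [naS u k' f, hf, mmS G k' k σ]⟩ }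
  have hS : S ∈ X.smallEtaleTopology U := by
    rw [EtSiteBasic.mem_smallEtale_iff]
    intro x
    obtain ⟨N, k, n, hn, hk⟩ := hloc x
    exact ⟨N, k, n, hk, hn⟩
  have hsh := (isSheaf_iff_isSheaf_of_type _ _).1 F.2 S hS
  let fam : Presieve.FamilyOfElements F.obj S.arrows := fun N k hk => hk.choose
  have hfam : ∀ {N : X.Etale} (k : N ⟶ U) (hk : S k),
      u.hom.app (op N) (fam k hk) = G.obj.map k.op σ := fun k hk => hk.choose_spec
  have hcomp : fam.Compatible := by
    intro N₁ N₂ Z g₁ g₂ k₁ k₂ h₁ h₂ comm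
    apply hinjU Z
    rw [naS u g₁, naS u g₂, hfam, hfam, mmS, mmS, comm]
  obtain ⟨τ, hτ, -⟩ := hsh fam hcomp
  refine ⟨τ, ?_⟩
  apply EtSiteBasic.sect_ext G S hS
  intro N k hk
  rw [← naS u k τ, hτ k hk, hfam]

/-- S8542 -/
theorem mem_range_of_mono (h : Y ⟶ X)
    (hinj : ∀ K : EtDesc.Sh X, Function.Injective (EtDesc.secPull h K))
    (u : F ⟶ G) [Mono u] (ξ : EtDesc.sect ((EtDesc.pullSh h).obj F) (EtCoh.top Y))
    (hξ : ((EtDesc.pullSh h).map u).hom.app (op (EtCoh.top Y)) ξ ∈
      Set.range (EtDesc.secPull h G)) :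
    ξ ∈ Set.range (EtDesc.secPull h F) := by
  obtain ⟨σ, hσ⟩ := hξ
  have h1 : EtDesc.secPull h _ ((chi u).hom.app (op (EtCoh.top X)) σ) =
      EtDesc.secPull h _ ((cfalse).hom.app (op (EtCoh.top X)) σ) := by
    rw [secPull_nat, secPull_nat, hσ]
    have e : (EtDesc.pullSh h).map u ≫ (EtDesc.pullSh h).map (chi u) =
        (EtDesc.pullSh h).map u ≫ (EtDesc.pullSh h).map (cfalse) := by
      rw [← Functor.map_comp, ← Functor.map_comp, u_chi]
    exact types_congr_hom (congrArg (fun φ : (EtDesc.pullSh h).obj F ⟶ _ =>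
      φ.hom.app (op (EtCoh.top Y))) e) ξ
  have h2 := hinj _ h1
  obtain ⟨τ, hτ⟩ := glue u σ ((chi_eq_cfalse_iff u σ).1 h2)
  refine ⟨τ, ?_⟩
  haveI := mono_pullSh h u
  have hm := (EtSiteBasic.mono_iff ((EtDesc.pullSh h).map u)).1 inferInstance (EtCoh.top Y)
  apply hm
  rw [← secPull_nat, hτ, hσ]

end Range

section BaseChange

variable {X Y Xb Yb : Scheme.{u}} (p : Xb ⟶ X) (h : Y ⟶ X) (pY : Yb ⟶ Y) (hb : Yb ⟶ Xb)
  (w : hb ≫ p = pY ≫ h)

/-- the canonical isomorphism `p_* h̄_* ≅ h_* p_{Y*}` -/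
noncomputable def kap (H : EtDesc.Sh Yb) :
    (EtDesc.pushSh p).obj ((EtDesc.pushSh hb).obj H) ≅
      (EtDesc.pushSh h).obj ((EtDesc.pushSh pY).obj H) :=
  (EtDesc.pushCompSh p hb).app H ≪≫ (EtBC.pushCongrSh w).app H ≪≫
    ((EtDesc.pushCompSh h pY).app H).symm

theorem E1 (Fb : EtDesc.Sh Xb) :
    (EtDesc.adjSh h).unit.app ((EtDesc.pushSh p).obj Fb) ≫
        (EtDesc.pushSh h).map (EtBC.baseChange0Sh p h pY hb w Fb) =
      (EtDesc.pushSh p).map ((EtDesc.adjSh hb).unit.app Fb) ≫
        (kap p h pY hb w ((EtDesc.pullSh hb).obj Fb)).hom := by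
  refine (Adjunction.homEquiv_unit (adj := EtDesc.adjSh h)
    (f := EtBC.baseChange0Sh p h pY hb w Fb)).symm.trans ?_
  unfold EtBC.baseChange0Sh
  rw [Equiv.apply_symm_apply]
  simp only [kap, Iso.trans_hom, Iso.app_hom, Iso.symm_hom, Iso.app_inv]

/-- the unit of `h̄` evaluated on `X̄ ×_X X` -/
noncomputable abbrev mm' (Fb : EtDesc.Sh Xb) :
    Fb.obj.obj (op ((EtCoh.bc p).obj (EtCoh.top X))) →
      ((EtDesc.pullSh hb).obj Fb).obj.obj (op ((EtCoh.bc hb).obj ((EtCoh.bc p).obj (EtCoh.top X)))) :=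
  ((EtDesc.adjSh hb).unit.app Fb).hom.app (op ((EtCoh.bc p).obj (EtCoh.top X)))

theorem E2 (Fb : EtDesc.Sh Xb) (s : Fb.obj.obj (op ((EtCoh.bc p).obj (EtCoh.top X)))) :
    (EtBC.baseChange0Sh p h pY hb w Fb).hom.app (op ((EtCoh.bc h).obj (EtCoh.top X)))
        (U h ((EtDesc.pushSh p).obj Fb) s) =
      (kap p h pY hb w ((EtDesc.pullSh hb).obj Fb)).hom.hom.app (op (EtCoh.top X))
        (mm' p hb Fb s) :=
  types_congr_hom (congrArg (fun ψ : (EtDesc.pushSh p).obj Fb ⟶ _ =>
    ψ.hom.app (op (EtCoh.top X))) (E1 p h pY hb w Fb)) s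

theorem mm'_injective_iff (Fb : EtDesc.Sh Xb) :
    Function.Injective (mm' p hb Fb) ↔ Function.Injective (EtDesc.secPull hb Fb) := by
  rw [secPull_injective_iff]
  exact (injective_app_iff ((EtDesc.adjSh hb).unit.app Fb).hom (EtCore.bcTopIso p)).symm

theorem mm'_bijective_iff (Fb : EtDesc.Sh Xb) :
    Function.Bijective (mm' p hb Fb) ↔ Function.Bijective (EtDesc.secPull hb Fb) := by
  rw [secPull_bijective_iff]
  exact (bijective_app_iff ((EtDesc.adjSh hb).unit.app Fb).hom (EtCore.bcTopIso p)).symm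

/-- S8547 -/
theorem main_8547 :
    ((∀ F : EtDesc.Sh X, Function.Injective (EtDesc.secPull h F)) →
      (∀ Fb : EtDesc.Sh Xb, Mono (EtBC.baseChange0Sh p h pY hb w Fb)) →
      ∀ Fb : EtDesc.Sh Xb, Function.Injective (EtDesc.secPull hb Fb)) ∧
    ((∀ F : EtDesc.Sh X, Function.Bijective (EtDesc.secPull h F)) →
      (∀ Fb : EtDesc.Sh Xb, IsIso (EtBC.baseChange0Sh p h pY hb w Fb)) →
      ∀ Fb : EtDesc.Sh Xb, Function.Bijective (EtDesc.secPull hb Fb)) := by
  constructor
  · intro hinj hM Fb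
    rw [← mm'_injective_iff p hb Fb]
    have h1 : Function.Injective (U h ((EtDesc.pushSh p).obj Fb)) :=
      (secPull_injective_iff h _).1 (hinj _)
    have h2 := (EtSiteBasic.mono_iff (EtBC.baseChange0Sh p h pY hb w Fb)).1 (hM Fb)
      ((EtCoh.bc h).obj (EtCoh.top X))
    intro a b hab
    apply h1
    apply h2
    rw [E2, E2, hab]
  · intro hbij hI Fb
    rw [← mm'_bijective_iff p hb Fb]
    have h1 : Function.Bijective (U h ((EtDesc.pushSh p).obj Fb)) :=
      (secPull_bijective_iff h _).1 (hbij _)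
    haveI := hI Fb
    have h2 := sheafIso_app_bijective (asIso (EtBC.baseChange0Sh p h pY hb w Fb))
      ((EtCoh.bc h).obj (EtCoh.top X))
    have h3 := sheafIso_app_bijective (kap p h pY hb w ((EtDesc.pullSh hb).obj Fb))
      (EtCoh.top X)
    have e : (kap p h pY hb w ((EtDesc.pullSh hb).obj Fb)).hom.hom.app (op (EtCoh.top X)) ∘
        (mm' p hb Fb) =
        ((asIso (EtBC.baseChange0Sh p h pY hb w Fb)).hom.hom.app
          (op ((EtCoh.bc h).obj (EtCoh.top X)))) ∘ (U h ((EtDesc.pushSh p).obj Fb)) := by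
      funext s
      exact (E2 p h pY hb w Fb s).symm
    rw [← h3.of_comp_iff' (mm' p hb Fb), e]
    exact h2.comp h1

include w in
/-- S3517, first half -/
theorem injective_of_surjective (hp : Function.Surjective p.base)
    (hinj : ∀ Fb : EtDesc.Sh Xb, Function.Injective (EtDesc.secPull hb Fb))
    (F : EtDesc.Sh X) : Function.Injective (EtDesc.secPull h F) := by
  rw [secPull_injective_iff]
  haveI : Surjective p := ⟨hp⟩
  haveI := EtSurjPull.faithful_pullSh p
  let Fb := (EtDesc.pullSh p).obj F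
  let uu : F ⟶ (EtDesc.pushSh p).obj Fb := (EtDesc.adjSh p).unit.app F
  haveI : Mono uu := Adjunction.unit_mono_of_L_faithful (EtDesc.adjSh p) F
  have huu := (EtSiteBasic.mono_iff uu).1 inferInstance (EtCoh.top X)
  have hm : Function.Injective (mm' p hb Fb) := (mm'_injective_iff p hb Fb).2 (hinj Fb)
  have h3 := sheafIso_app_bijective (kap p h pY hb w ((EtDesc.pullSh hb).obj Fb))
    (EtCoh.top X)
  intro s t hst
  apply huu
  apply hm
  apply h3.injective
  rw [← E2, ← E2, U_nat, U_nat, hst]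

include w in
/-- S3517, second half -/
theorem bijective_of_surjective (hp : Function.Surjective p.base)
    (hbij : ∀ Fb : EtDesc.Sh Xb, Function.Bijective (EtDesc.secPull hb Fb))
    (hM : ∀ Fb : EtDesc.Sh Xb, Mono (EtBC.baseChange0Sh p h pY hb w Fb))
    (F : EtDesc.Sh X) : Function.Bijective (EtDesc.secPull h F) := by
  have hinjAll : ∀ K : EtDesc.Sh X, Function.Injective (EtDesc.secPull h K) :=
    injective_of_surjective p h pY hb w hp (fun Fb => (hbij Fb).injective)
  refine ⟨hinjAll F, ?_⟩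
  intro ξ₀
  haveI : Surjective p := ⟨hp⟩
  haveI := EtSurjPull.faithful_pullSh p
  let Fb := (EtDesc.pullSh p).obj F
  let uu : F ⟶ (EtDesc.pushSh p).obj Fb := (EtDesc.adjSh p).unit.app F
  haveI : Mono uu := Adjunction.unit_mono_of_L_faithful (EtDesc.adjSh p) F
  have hm : Function.Bijective (mm' p hb Fb) := (mm'_bijective_iff p hb Fb).2 (hbij Fb)
  have h3 := sheafIso_app_bijective (kap p h pY hb w ((EtDesc.pullSh hb).obj Fb))
    (EtCoh.top X)
  have h2 := (EtSiteBasic.mono_iff (EtBC.baseChange0Sh p h pY hb w Fb)).1 (hM Fb)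
    ((EtCoh.bc h).obj (EtCoh.top X))
  have hR := R_bijective h ((EtDesc.pullSh h).obj F)
  obtain ⟨ξ, hξ⟩ := hR.surjective ξ₀
  -- the image of `ξ` in `h^* G`
  let ξ' := ((EtDesc.pullSh h).map uu).hom.app (op ((EtCoh.bc h).obj (EtCoh.top X))) ξ
  obtain ⟨σ', hσ'⟩ := h3.surjective
    ((EtBC.baseChange0Sh p h pY hb w Fb).hom.app (op ((EtCoh.bc h).obj (EtCoh.top X))) ξ')
  obtain ⟨σ, hσ⟩ := hm.surjective σ'
  have hU : U h ((EtDesc.pushSh p).obj Fb) σ = ξ' := by
    apply h2
    rw [E2, hσ, hσ']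
  have hrange : ((EtDesc.pullSh h).map uu).hom.app (op (EtCoh.top Y)) ξ₀ ∈
      Set.range (EtDesc.secPull h ((EtDesc.pushSh p).obj Fb)) := by
    refine ⟨σ, ?_⟩
    show ((EtDesc.pullSh h).obj ((EtDesc.pushSh p).obj Fb)).obj.map (EtCore.bcTopIso h).inv.op
      (U h ((EtDesc.pushSh p).obj Fb) σ) = _
    rw [hU, ← hξ]
    exact (naS ((EtDesc.pullSh h).map uu) (EtCore.bcTopIso h).inv ξ).symm
  exact mem_range_of_mono h hinjAll uu ξ₀ hrange

/-- S3517 -/
theorem main_3517 (hp : Function.Surjective p.base) :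
    ((∀ Fb : EtDesc.Sh Xb, Function.Injective (EtDesc.secPull hb Fb)) →
      ∀ F : EtDesc.Sh X, Function.Injective (EtDesc.secPull h F)) ∧
    ((∀ Fb : EtDesc.Sh Xb, Function.Bijective (EtDesc.secPull hb Fb)) →
      (∀ Fb : EtDesc.Sh Xb, Mono (EtBC.baseChange0Sh p h pY hb w Fb)) →
      ∀ F : EtDesc.Sh X, Function.Bijective (EtDesc.secPull h F)) :=
  ⟨fun hinj F => injective_of_surjective p h pY hb w hp hinj F,
    fun hbij hM F => bijective_of_surjective p h pY hb w hp hbij hM F⟩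

end BaseChange

end H9FE.SecPull
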