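import Mathlib
import Groth.Prelude.Def_EtBase
import Groth.Prelude.Def_EtCore
import Groth.Agent.Lib.Helper9.FE.CsPull
import Groth.Agent.Lib.Helper9.FE.SecPull
import Groth.Agent.Lib.Helper9.FE.PCRpush

/-! helper9: vanishing loci of sections of abelian étale sheaves: openness, locality, behaviour
under restriction; for a sheaf which is constant over an étale object the vanishing locus of a
section is open and closed; sections locally in the image of an injective morphism of sheaves are
in the image. -/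

set_option autoImplicit false
set_option linter.unusedSectionVars false
set_option linter.style.haveILetI false
set_option backward.isDefEq.respectTransparency false

universe u
open CategoryTheory CategoryTheory.Limits AlgebraicGeometry Opposite

namespace H9FE.SubmConn

open H9FE.ConstSite Groth.Agent.S14453.Aux

variable {T : Scheme.{u}}

/-- the vanishing locus of a section -/
def Van (G : EtCoh.Ab T) {V : T.Etale} (h : G.obj.obj (op V)) : Set V.left :=
  {q | ∃ (V' : T.Etale) (k : V' ⟶ V) (q' : V'.left), k.left q' = q ∧ G.obj.map k.op h = 0}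

theorem isOpen_van (G : EtCoh.Ab T) {V : T.Etale} (h : G.obj.obj (op V)) : IsOpen (Van G h) := by
  have : Van G h = ⋃ (p : {p : Σ V' : T.Etale, (V' ⟶ V) // G.obj.map p.2.op h = 0}),
      Set.range p.1.2.left := by
    ext q
    simp only [Van, Set.mem_setOf_eq, Set.mem_iUnion, Set.mem_range]
    constructor
    · rintro ⟨V', k, q', hq, hk⟩
      exact ⟨⟨⟨V', k⟩, hk⟩, q', hq⟩
    · rintro ⟨⟨⟨V', k⟩, hk⟩, q', hq⟩
      exact ⟨V', k, q', hq, hk⟩
  rw [this]
  refine isOpen_iUnion fun p => ?_
  haveI : Etale p.1.2.left := by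
    haveI : Etale p.1.1.hom := p.1.1.prop
    haveI : Etale V.hom := V.prop
    have hw : p.1.2.left ≫ V.hom = p.1.1.hom := MorphismProperty.Over.w p.1.2
    haveI : Etale (p.1.2.left ≫ V.hom) := by rw [hw]; infer_instance
    exact Etale.of_comp p.1.2.left V.hom
  exact p.1.2.left.isOpenMap.isOpen_range

theorem eq_zero_of_van (G : EtCoh.Ab T) {V : T.Etale} (h : G.obj.obj (op V))
    (hv : ∀ q : V.left, q ∈ Van G h) : h = 0 := by
  let S : Sieve V :=
    { arrows := fun V' k => G.obj.map k.op h = 0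
      downward_closed := by
        intro Y Z k hk l
        show G.obj.map (l ≫ k).op h = 0
        rw [← map_map, hk, map_zero] }
  have hS : S ∈ T.smallEtaleTopology V := by
    rw [mem_et_iff]
    intro x
    obtain ⟨V', k, q', hq, hk⟩ := hv x
    refine ⟨V', k, q', hk, ?_, hq⟩
    haveI : Etale V'.hom := V'.prop
    haveI : Etale V.hom := V.prop
    have hw : k.left ≫ V.hom = V'.hom := MorphismProperty.Over.w k
    haveI : Etale (k.left ≫ V.hom) := by rw [hw]; infer_instance
    exact Etale.of_comp k.left V.hom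
  apply H9FE.PCRpush.sect_ext G S hS
  intro W g hg
  rw [hg, map_zero]

theorem van_map (G : EtCoh.Ab T) {V₁ V : T.Etale} (k : V₁ ⟶ V) (h : G.obj.obj (op V))
    (q₁ : V₁.left) : q₁ ∈ Van G (G.obj.map k.op h) ↔ k.left q₁ ∈ Van G h := by
  constructor
  · rintro ⟨V', k', q', hq, hk⟩
    refine ⟨V', k' ≫ k, q', ?_, ?_⟩
    · show k.left (k'.left q') = k.left q₁
      rw [hq]
    · rw [← map_map]; exact hk
  · rintro ⟨V', k₀, q', hq, hk⟩
    obtain ⟨P, π₁, π₂, t, comm, ht₁, ht₂⟩ := H9FE.SecPull.exists_fp k₀ k q' q₁ hq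
    refine ⟨P, π₂, t, ht₂, ?_⟩
    rw [map_map, ← comm, ← map_map, hk, map_zero]

/-- for a sheaf constant over `V`, vanishing loci of sections over `V` are closed -/
theorem isClosed_van_of_const (C : EtCoh.Ab T) (V : T.Etale) (M : AddCommGrpCat.{u + 1})
    (β : C.over V ≅ cS.{u + 1, u, u + 1} (T.smallEtaleTopology.over V) M)
    (l : C.obj.obj (op V)) : IsClosed (Van C l) := by
  let J := T.smallEtaleTopology
  rw [← isOpen_compl_iff, isOpen_iff_forall_mem_open]
  intro q hq
  obtain ⟨S, hS, hprop⟩ := gen_surj.{u + 1, u, u + 1} J C V β (𝟙 V) l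
  rw [mem_et_iff] at hS
  obtain ⟨Z', k, q', hSk, hket, hkq⟩ := hS q
  obtain ⟨m, hm⟩ := hprop k hSk
  refine ⟨Set.range k.left, ?_, ?_, ⟨q', hkq⟩⟩
  · rintro _ ⟨q₂, rfl⟩ hx
    rw [← van_map C k l q₂, hm] at hx
    obtain ⟨Z'', k₂, q₃, -, hk₂⟩ := hx
    rw [map_map] at hk₂
    have h0 : C.obj.map (k₂ ≫ k ≫ 𝟙 V).op (gen.{u + 1, u, u + 1} J C V β m) =
        C.obj.map (k₂ ≫ k ≫ 𝟙 V).op (gen.{u + 1, u, u + 1} J C V β 0) := by
      rw [hk₂, map_zero, map_zero]
    rcases gen_inj.{u + 1, u, u + 1} J C V β (k₂ ≫ k ≫ 𝟙 V) m 0 h0 with h1 | h1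
    · apply hq
      refine ⟨Z', k, q', hkq, ?_⟩
      rw [hm, h1, map_zero, map_zero]
    · rw [H9FE.CsSub.bot_mem_iff] at h1
      exact h1.false q₃
  · haveI := hket; exact k.left.isOpenMap.isOpen_range

/-- on a connected étale object over which the sheaf is constant, a section vanishing near one
point vanishes -/
theorem eq_zero_of_const_of_connected (C : EtCoh.Ab T) (V : T.Etale) [PreconnectedSpace V.left]
    (M : AddCommGrpCat.{u + 1})
    (β : C.over V ≅ cS.{u + 1, u, u + 1} (T.smallEtaleTopology.over V) M)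
    (l : C.obj.obj (op V)) (q : V.left) (hq : q ∈ Van C l) : l = 0 := by
  have hclopen : IsClopen (Van C l) := ⟨isClosed_van_of_const C V M β l, isOpen_van C l⟩
  have huniv : Van C l = Set.univ := hclopen.eq_univ ⟨q, hq⟩
  exact eq_zero_of_van C l (fun x => huniv ▸ Set.mem_univ x)

end H9FE.SubmConn
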