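import Mathlib
import Groth.Prelude.Def_EtBase
import Groth.Prelude.Def_EtCore
import Groth.Agent.Lib.Helper9.FE.SubmConn1
import Groth.Agent.Lib.Helper9.FE.SpCard
import Groth.Agent.S0074

/-! helper9: (1) vanishing loci are compatible with morphisms of sheaves; (2) a section of the
target of a sectionwise injective morphism of abelian étale sheaves which is étale locally in the
image is in the image; (3) every abelian étale sheaf on the spectrum of an algebraically closed
field is constant over the terminal object. -/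

set_option autoImplicit false
set_option linter.unusedSectionVars false
set_option linter.style.haveILetI false
set_option backward.isDefEq.respectTransparency false

universe u
open CategoryTheory CategoryTheory.Limits AlgebraicGeometry Opposite

namespace H9FE.SubmConn

open H9FE.ConstSite Groth.Agent.S14453.Aux

variable {T : Scheme.{u}}

theorem van_hom {C C' : EtCoh.Ab T} (e : C ⟶ C') {V : T.Etale} (l : C.obj.obj (op V))
    (q : V.left) (hq : q ∈ Van C l) : q ∈ Van C' (e.hom.app (op V) l) := by
  obtain ⟨V', k, q', hk, h0⟩ := hq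
  refine ⟨V', k, q', hk, ?_⟩
  have := NatTrans.naturality_apply e.hom k.op l
  rw [← this, h0, map_zero]

theorem glue_ab {F G : EtCoh.Ab T} (η : F ⟶ G)
    (hinj : ∀ U : T.Etale, Function.Injective (η.hom.app (op U)))
    (U : T.Etale) (σ : G.obj.obj (op U))
    (hloc : ∀ x : U.left, ∃ (U' : T.Etale) (k : U' ⟶ U) (x' : U'.left), k.left x' = x ∧
       ∃ t : F.obj.obj (op U'), η.hom.app (op U') t = G.obj.map k.op σ) :
    ∃ t : F.obj.obj (op U), η.hom.app (op U) t = σ := by
  let S : Sieve U :=
    { arrows := fun N k => ∃ t : F.obj.obj (op N), η.hom.app (op N) t = G.obj.map k.op σ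
      downward_closed := by
        rintro N N' k ⟨t, ht⟩ k'
        refine ⟨F.obj.map k'.op t, ?_⟩
        have := NatTrans.naturality_apply η.hom k'.op t
        rw [this, ht]
        show _ = G.obj.map (k' ≫ k).op σ
        rw [← map_map] }
  have hS : S ∈ T.smallEtaleTopology U := by
    rw [mem_et_iff]
    intro x
    obtain ⟨N, k, n, hn, hk⟩ := hloc x
    refine ⟨N, k, n, hk, ?_, hn⟩
    haveI : Etale N.hom := N.prop
    haveI : Etale U.hom := U.prop
    have hw : k.left ≫ U.hom = N.hom := MorphismProperty.Over.w k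
    haveI : Etale (k.left ≫ U.hom) := by rw [hw]; infer_instance
    exact Etale.of_comp k.left U.hom
  have hsh := isSheaf_type T.smallEtaleTopology F S hS
  let fam : Presieve.FamilyOfElements (F.obj ⋙ forget _) S.arrows := fun N k hk => hk.choose
  have hfam : ∀ {N : T.Etale} (k : N ⟶ U) (hk : S k),
      η.hom.app (op N) (fam k hk) = G.obj.map k.op σ := fun k hk => hk.choose_spec
  have hcomp : fam.Compatible := by
    intro N₁ N₂ Z g₁ g₂ k₁ k₂ h₁ h₂ comm
    apply hinj Z
    have e1 := NatTrans.naturality_apply η.hom g₁.op (fam k₁ h₁)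
    have e2 := NatTrans.naturality_apply η.hom g₂.op (fam k₂ h₂)
    show η.hom.app (op Z) (F.obj.map g₁.op (fam k₁ h₁)) =
      η.hom.app (op Z) (F.obj.map g₂.op (fam k₂ h₂))
    rw [e1, e2, hfam, hfam, map_map, map_map, comm]
  obtain ⟨τ, hτ, -⟩ := hsh fam hcomp
  refine ⟨τ, ?_⟩
  apply H9FE.PCRpush.sect_ext G S hS
  intro N k hk
  have e1 := NatTrans.naturality_apply η.hom k.op τ
  have e2 : F.obj.map k.op τ = fam k hk := hτ k hk
  show G.obj.map k.op (η.hom.app (op U) τ) = G.obj.map k.op σ
  rw [← e1, e2, hfam]

end H9FE.SubmConn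

namespace H9FE.SubmConn

open H9FE.ConstSite Groth.Agent.S14453.Aux Groth.Agent.Lib.Helper5

/-- every abelian étale sheaf on the spectrum of an algebraically closed field is constant -/
theorem const_spec_field (Ω : Type u) [Field Ω] [IsAlgClosed Ω]
    (G₀ : EtCoh.Ab (Spec (CommRingCat.of Ω))) :
    Nonempty (G₀.over (EtCoh.top (Spec (CommRingCat.of Ω))) ≅
      cS.{u + 1, u, u + 1}
        ((Spec (CommRingCat.of Ω)).smallEtaleTopology.over (EtCoh.top (Spec (CommRingCat.of Ω))))
        (G₀.obj.obj (op (EtCoh.top (Spec (CommRingCat.of Ω)))))) := by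
  have hbij : Function.Bijective (IsLocalRing.residue Ω) :=
    ⟨(IsLocalRing.residue Ω).injective, IsLocalRing.residue_surjective⟩
  let eR : Ω ≃+* IsLocalRing.ResidueField Ω := RingEquiv.ofBijective _ hbij
  haveI : IsAlgClosed (IsLocalRing.ResidueField Ω) := IsAlgClosed.of_ringEquiv Ω _ eR
  let g : EtStalk.GeomPt (Spec (CommRingCat.of Ω)) :=
    { Ω := IsLocalRing.ResidueField Ω
      ξ := Spec.map (CommRingCat.ofHom (IsLocalRing.residue Ω)) }
  refine H9FE.SpCard.const_of_germ_bijective_fam G₀ (EtCoh.top _)
    (AddMonoidHom.id _) (fun _ => g) (fun x => Subsingleton.elim _ _) ?_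
  intro x y
  have hy : y = Over.homMk (Spec.map (CommRingCat.ofHom (IsLocalRing.residue Ω)))
      (Category.comp_id _) := by
    apply Over.OverMorphism.ext
    have := Over.w y
    simpa using this
  rw [hy]
  exact Groth.Agent.S0074.result Ω G₀

end H9FE.SubmConn
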