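import Mathlib
import Groth.Prelude.Def_EtBase
import Groth.Prelude.Def_EtCore
import Groth.Agent.Lib.Helper9.FE.SubmConn2

/-! helper9: the key propagation step for sections of an inverse image sheaf: let `r' : W' ⟶ X`,
`H` an abelian étale sheaf on `X` and `δ` a section of `H` over an étale `X`-scheme `Y`; if the
inverse image of `H` on `W'` is constant over a connected étale `W'`-scheme `V₀` mapping to `Y`,
then `δ` vanishes near the image of one point of `V₀` iff it does near the image of any other. -/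

set_option autoImplicit false
set_option linter.unusedSectionVars false
set_option linter.style.haveILetI false
set_option backward.isDefEq.respectTransparency false

universe u
open CategoryTheory CategoryTheory.Limits AlgebraicGeometry Opposite

namespace H9FE.SubmConn

open H9FE.ConstSite Groth.Agent.S14453.Aux H9FE.CsPull

variable {X W' : Scheme.{u}} (r' : W' ⟶ X) (H : EtCoh.Ab X)

/-- the morphism `V₀ ⟶ Y ×_X W'` induced by `ρ : V₀ ⟶ Y` -/
noncomputable def phiOf (Y : X.Etale) (V₀ : W'.Etale) (ρ : V₀.left ⟶ Y.left)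
    (hρ : ρ ≫ Y.hom = V₀.hom ≫ r') : V₀ ⟶ (EtCoh.bc r').obj Y :=
  MorphismProperty.Over.homMk (pullback.lift ρ V₀.hom hρ) (pullback.lift_snd _ _ _) trivial

theorem phiOf_fst (Y : X.Etale) (V₀ : W'.Etale) (ρ : V₀.left ⟶ Y.left)
    (hρ : ρ ≫ Y.hom = V₀.hom ≫ r') :
    (phiOf r' Y V₀ ρ hρ).left ≫ pullback.fst Y.hom r' = ρ :=
  pullback.lift_fst _ _ _

theorem sat_abstract (Y : X.Etale) (δ : H.obj.obj (op Y)) (V₀ : W'.Etale)
    [PreconnectedSpace V₀.left]
    (ρ : V₀.left ⟶ Y.left) (hρ : ρ ≫ Y.hom = V₀.hom ≫ r')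
    (C' : EtCoh.Ab W') (e : (EtCoh.pull r').obj H ≅ C') (M : AddCommGrpCat.{u + 1})
    (β : C'.over V₀ ≅ cS.{u + 1, u, u + 1} (W'.smallEtaleTopology.over V₀) M)
    (q₁ q₂ : V₀.left) (h1 : ρ q₁ ∈ Van H δ) : ρ q₂ ∈ Van H δ := by
  let C := (EtCoh.pull r').obj H
  let φ' := phiOf r' Y V₀ ρ hρ
  let l : C.obj.obj (op V₀) := C.obj.map φ'.op (unitSec r' H Y δ)
  let l' : C'.obj.obj (op V₀) := e.hom.hom.app (op V₀) l
  -- forward
  have hf : q₁ ∈ Van C l := by
    obtain ⟨V', k, q', hk, h0⟩ := h1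
    have sq := EtCoh.isPullback_bc_map r' k
    have hx : (pullback.fst Y.hom r' : ((EtCoh.bc r').obj Y).left ⟶ Y.left) (φ'.left q₁) =
        k.left q' := by
      have e0 := congrArg (fun ψ : V₀.left ⟶ Y.left => ψ q₁) (phiOf_fst r' Y V₀ ρ hρ)
      exact e0.trans hk.symm
    obtain ⟨z, hz1, -⟩ := Scheme.Pullback.exists_preimage_pullback
      (f := (pullback.fst Y.hom r' : ((EtCoh.bc r').obj Y).left ⟶ Y.left)) (g := k.left)
      (φ'.left q₁) q' hx
    have hz : ((EtCoh.bc r').map k).left (sq.isoPullback.inv z) = φ'.left q₁ := by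
      have e0 := congrArg (fun ψ : pullback (pullback.fst Y.hom r' :
        ((EtCoh.bc r').obj Y).left ⟶ Y.left) k.left ⟶ ((EtCoh.bc r').obj Y).left => ψ z)
        (IsPullback.isoPullback_inv_fst sq)
      exact e0.trans hz1
    obtain ⟨P, π₁, π₂, t, comm, ht₁, ht₂⟩ :=
      H9FE.SecPull.exists_fp ((EtCoh.bc r').map k) φ' _ q₁ hz
    refine ⟨P, π₂, t, ht₂, ?_⟩
    show C.obj.map π₂.op (C.obj.map φ'.op (unitSec r' H Y δ)) = 0
    rw [map_map, ← comm, ← map_map, ← unitSec_map, h0, map_zero, map_zero]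
  have hf' : q₁ ∈ Van C' l' := van_hom e.hom l q₁ hf
  have hl' : l' = 0 := eq_zero_of_const_of_connected C' V₀ M β l' q₁ hf'
  have hl : l = 0 := by
    let eV : C.obj.obj (op V₀) ≅ C'.obj.obj (op V₀) :=
      ((sheafToPresheaf _ _).mapIso e).app (op V₀)
    have e1 : e.inv.hom.app (op V₀) (e.hom.hom.app (op V₀) l) = l :=
      Iso.hom_inv_id_apply eV l
    rw [← e1]
    show e.inv.hom.app (op V₀) l' = 0
    rw [hl', map_zero]
  -- backward
  obtain ⟨V', h, z, h0, hz⟩ := H9FE.LimLoc.exists_local_vanish r' H Y δ V₀ φ' hl q₂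
  refine ⟨V', h, (pullback.fst V'.hom r' : ((EtCoh.bc r').obj V').left ⟶ V'.left) z, ?_, h0⟩
  have e1 := (EtCoh.isPullback_bc_map r' h).w
  have e2 : (pullback.fst Y.hom r' : ((EtCoh.bc r').obj Y).left ⟶ Y.left)
      (((EtCoh.bc r').map h).left z) =
      h.left ((pullback.fst V'.hom r' : ((EtCoh.bc r').obj V').left ⟶ V'.left) z) :=
    congrArg (fun ψ : ((EtCoh.bc r').obj V').left ⟶ Y.left => ψ z) e1
  have e3 : (pullback.fst Y.hom r' : ((EtCoh.bc r').obj Y).left ⟶ Y.left) (φ'.left q₂) = ρ q₂ :=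
    congrArg (fun ψ : V₀.left ⟶ Y.left => ψ q₂) (phiOf_fst r' Y V₀ ρ hρ)
  exact e2.symm.trans ((congrArg _ hz).trans e3)

end H9FE.SubmConn
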