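import Mathlib
import Groth.Prelude.Def_EtBase
import Groth.Prelude.Def_EtCore
import Groth.Agent.Lib.Helper9.FE.SubmConn3

/-! helper9: for a morphism `f : X ⟶ S` with connected geometric fibres, the vanishing locus of a
section of `f⁻¹ F` over `U ×_S X` (`U` étale over `S`) is saturated with respect to the projection
to `U` (geometric input for `sat_abstract`). -/

set_option autoImplicit false
set_option linter.unusedSectionVars false
set_option linter.style.haveILetI false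
set_option backward.isDefEq.respectTransparency false

universe u
open CategoryTheory CategoryTheory.Limits AlgebraicGeometry Opposite

namespace H9FE.SubmConn

open H9FE.ConstSite Groth.Agent.S14453.Aux H9FE.CsPull

theorem exists_algClosed_pt {Z : Scheme.{u}} (z : Z) :
    ∃ (Ω : Type u) (_ : Field Ω) (_ : IsAlgClosed Ω) (ξ : Spec (CommRingCat.of Ω) ⟶ Z),
      ∀ t, ξ t = z := by
  refine ⟨AlgebraicClosure (Z.residueField z), inferInstance, inferInstance,
    (Scheme.SpecToEquivOfField _ Z).2 ⟨z, CommRingCat.ofHom (algebraMap (Z.residueField z) _)⟩, ?_⟩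
  intro t
  simp [Scheme.SpecToEquivOfField]

theorem connected_bc_top {Z : Scheme.{u}} (W' : Scheme.{u}) (π : W' ⟶ Z) [ConnectedSpace W'] :
    ConnectedSpace ((EtCoh.bc π).obj (EtCoh.top Z)).left := by
  haveI : IsIso (pullback.snd (𝟙 Z) π) := inferInstance
  let e : pullback (𝟙 Z) π ≅ W' := asIso (pullback.snd (𝟙 Z) π)
  have hs : Function.Surjective e.inv := fun y => ⟨e.hom y, by
    rw [← Scheme.Hom.comp_apply, e.hom_inv_id]; rfl⟩
  exact Function.Surjective.connectedSpace hs e.inv.continuous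

variable {X S : Scheme.{u}} (f : X ⟶ S)

theorem quot_fst
    (hsub : ∀ (S' : Scheme.{u}) (g : S' ⟶ S), Topology.IsQuotientMap (pullback.snd f g).base)
    (U : S.Etale) :
    Topology.IsQuotientMap (pullback.fst U.hom f : ((EtCoh.bc f).obj U).left ⟶ U.left).base := by
  have h := hsub U.left U.hom
  have e : pullback.fst U.hom f = (pullbackSymmetry U.hom f).hom ≫ pullback.snd f U.hom :=
    (pullbackSymmetry_hom_comp_snd _ _).symm
  have h2 : Topology.IsQuotientMap ((pullbackSymmetry U.hom f).hom.base) :=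
    (Scheme.homeoOfIso (pullbackSymmetry U.hom f)).isQuotientMap
  have h3 := h.comp h2
  have e2 : (pullback.fst U.hom f : ((EtCoh.bc f).obj U).left ⟶ U.left).base =
      (pullbackSymmetry U.hom f).hom.base ≫ (pullback.snd f U.hom).base := by
    show (pullback.fst U.hom f).base = _
    rw [e]; rfl
  rw [e2]
  exact h3

section Sat

variable (hc : ∀ (Ω : Type u) [Field Ω] [IsAlgClosed Ω] (s : Spec (CommRingCat.of Ω) ⟶ S),
    ConnectedSpace ↥(pullback f s))
  (F : EtCoh.Ab S) (U : S.Etale)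

include hc in
theorem sat_aux (δ : ((EtCoh.pull f).obj F).obj.obj (op ((EtCoh.bc f).obj U)))
    (Ω : Type u) [Field Ω] [IsAlgClosed Ω] (ū : Spec (CommRingCat.of Ω) ⟶ U.left)
    (pt : Spec (CommRingCat.of Ω))
    (b₁ b₂ : ((EtCoh.bc f).obj U).left)
    (hb₁ : ū pt = (pullback.fst U.hom f : ((EtCoh.bc f).obj U).left ⟶ U.left) b₁)
    (hb₂ : ū pt = (pullback.fst U.hom f : ((EtCoh.bc f).obj U).left ⟶ U.left) b₂)
    (h1 : b₁ ∈ Van ((EtCoh.pull f).obj F) δ) : b₂ ∈ Van ((EtCoh.pull f).obj F) δ := by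
  let Y := (EtCoh.bc f).obj U
  let p : Y.left ⟶ U.left := pullback.fst U.hom f
  let s : Spec (CommRingCat.of Ω) ⟶ S := ū ≫ U.hom
  let W' := pullback ū p
  let π : W' ⟶ Spec (CommRingCat.of Ω) := pullback.fst ū p
  let r : W' ⟶ Y.left := pullback.snd ū p
  let r' : W' ⟶ X := r ≫ Y.hom
  have hw : r' ≫ f = π ≫ s := by
    show (r ≫ pullback.snd U.hom f) ≫ f = π ≫ ū ≫ U.hom
    rw [Category.assoc, ← pullback.condition, ← Category.assoc, ← Category.assoc]
    congr 1
    exact pullback.condition.symm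
  -- connectedness
  haveI : ConnectedSpace ↥(pullback f s) := hc Ω s
  let iso : pullback f s ≅ W' :=
    pullbackSymmetry f s ≪≫ (pullbackRightPullbackFstIso U.hom f ū).symm
  haveI : ConnectedSpace ↥W' := by
    have hs : Function.Surjective iso.hom := fun y => ⟨iso.inv y, by
      rw [← Scheme.Hom.comp_apply, iso.inv_hom_id]; rfl⟩
    exact Function.Surjective.connectedSpace hs iso.hom.continuous
  let V₀ := (EtCoh.bc π).obj (EtCoh.top (Spec (CommRingCat.of Ω)))
  haveI : ConnectedSpace V₀.left := connected_bc_top W' π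
  -- points
  obtain ⟨w₁, -, hw₁⟩ := Scheme.Pullback.exists_preimage_pullback (f := ū) (g := p) pt b₁ hb₁
  obtain ⟨w₂, -, hw₂⟩ := Scheme.Pullback.exists_preimage_pullback (f := ū) (g := p) pt b₂ hb₂
  obtain ⟨q₁, -, hq₁⟩ := Scheme.Pullback.exists_preimage_pullback
    (f := 𝟙 (Spec (CommRingCat.of Ω))) (g := π) (π w₁) w₁ rfl
  obtain ⟨q₂, -, hq₂⟩ := Scheme.Pullback.exists_preimage_pullback
    (f := 𝟙 (Spec (CommRingCat.of Ω))) (g := π) (π w₂) w₂ rfl
  let ρ : V₀.left ⟶ Y.left := V₀.hom ≫ r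
  have hρ : ρ ≫ Y.hom = V₀.hom ≫ r' := Category.assoc _ _ _
  have hρ₁ : ρ q₁ = b₁ := by
    show r ((pullback.snd (𝟙 _) π : pullback (𝟙 (Spec (CommRingCat.of Ω))) π ⟶ W') q₁) = b₁
    rw [hq₁]; exact hw₁
  have hρ₂ : ρ q₂ = b₂ := by
    show r ((pullback.snd (𝟙 _) π : pullback (𝟙 (Spec (CommRingCat.of Ω))) π ⟶ W') q₂) = b₂
    rw [hq₂]; exact hw₂
  -- constancy
  let G₀ := (EtCoh.pull s).obj F
  obtain ⟨α⟩ := const_spec_field Ω G₀
  obtain ⟨β⟩ := over_pull_const π G₀ (EtCoh.top _) _ α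
  let e : (EtCoh.pull r').obj ((EtCoh.pull f).obj F) ≅ (EtCoh.pull π).obj G₀ :=
    ((EtCore.pullComp r' f).app F).symm ≪≫ (EtCore.pullCongr hw).app F ≪≫
      (EtCore.pullComp π s).app F
  have := sat_abstract r' ((EtCoh.pull f).obj F) Y δ V₀ ρ hρ _ e _ β q₁ q₂ (by rw [hρ₁]; exact h1)
  rw [hρ₂] at this
  exact this

include hc in
theorem sat (δ : ((EtCoh.pull f).obj F).obj.obj (op ((EtCoh.bc f).obj U)))
    (b₁ b₂ : ((EtCoh.bc f).obj U).left)
    (hb : (pullback.fst U.hom f : ((EtCoh.bc f).obj U).left ⟶ U.left) b₁ =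
      (pullback.fst U.hom f : ((EtCoh.bc f).obj U).left ⟶ U.left) b₂)
    (h1 : b₁ ∈ Van ((EtCoh.pull f).obj F) δ) : b₂ ∈ Van ((EtCoh.pull f).obj F) δ := by
  obtain ⟨Ω, _, _, ū, hū⟩ := exists_algClosed_pt
    ((pullback.fst U.hom f : ((EtCoh.bc f).obj U).left ⟶ U.left) b₁)
  have pt : Spec (CommRingCat.of Ω) := (inferInstance : Nonempty (PrimeSpectrum Ω)).some
  exact sat_aux f hc F U δ Ω ū pt b₁ b₂ (hū pt) ((hū pt).trans hb) h1

end Sat

end H9FE.SubmConn
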