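import Mathlib
import Groth.Prelude.Def_EtBase
import Groth.Prelude.Def_EtCore
import Groth.Agent.Lib.Helper9.FE.SubmConn4

/-! helper9: for a universally submersive morphism `f : X ⟶ S` with connected geometric fibres and
an abelian étale sheaf `F` on `S`, the unit `F ⟶ f_* f⁻¹ F` is injective on all sections and
bijective on global sections. -/

set_option autoImplicit false
set_option linter.unusedSectionVars false
set_option linter.style.haveILetI false
set_option backward.isDefEq.respectTransparency false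

universe u
open CategoryTheory CategoryTheory.Limits AlgebraicGeometry Opposite

namespace H9FE.SubmConn

open H9FE.ConstSite Groth.Agent.S14453.Aux H9FE.CsPull Groth.Agent.Lib.Helper5

variable {X S : Scheme.{u}} (f : X ⟶ S)
  (hsub : ∀ (S' : Scheme.{u}) (g : S' ⟶ S), Topology.IsQuotientMap (pullback.snd f g).base)
  (hc : ∀ (Ω : Type u) [Field Ω] [IsAlgClosed Ω] (s : Spec (CommRingCat.of Ω) ⟶ S),
    ConnectedSpace ↥(pullback f s))
  (F : EtCoh.Ab S)

include hsub in
theorem unit_injective (U : S.Etale) :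
    Function.Injective (((EtCoh.pullPushAdj f).unit.app F).hom.app (op U)) := by
  show Function.Injective (unitSec f F U)
  rw [injective_iff_map_eq_zero]
  intro t ht
  apply eq_zero_of_van F t
  intro u
  obtain ⟨b, hb⟩ := (quot_fst f hsub U).surjective u
  have h0 : ((EtCoh.pull f).obj F).obj.map (𝟙 ((EtCoh.bc f).obj U)).op (unitSec f F U t) = 0 := by
    rw [ht, map_zero]
  obtain ⟨V', h, z, hz0, hz⟩ := H9FE.LimLoc.exists_local_vanish f F U t _ (𝟙 _) h0 b
  refine ⟨V', h, (pullback.fst V'.hom f : ((EtCoh.bc f).obj V').left ⟶ V'.left) z, ?_, hz0⟩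
  have e1 := (EtCoh.isPullback_bc_map f h).w
  have e2 : (pullback.fst U.hom f : ((EtCoh.bc f).obj U).left ⟶ U.left)
      (((EtCoh.bc f).map h).left z) =
      h.left ((pullback.fst V'.hom f : ((EtCoh.bc f).obj V').left ⟶ V'.left) z) :=
    congrArg (fun ψ : ((EtCoh.bc f).obj V').left ⟶ U.left => ψ z) e1
  exact e2.symm.trans ((congrArg _ hz).trans hb)

include hsub hc in
theorem local_lift
    (σ : ((EtCoh.pull f).obj F).obj.obj (op ((EtCoh.bc f).obj (EtCoh.top S))))
    (x₀ : (EtCoh.top S).left) :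
    ∃ (E : S.Etale) (k : E ⟶ EtCoh.top S) (x' : E.left), k.left x' = x₀ ∧
      ∃ t : F.obj.obj (op E), ((EtCoh.pullPushAdj f).unit.app F).hom.app (op E) t =
        ((EtCoh.push f).obj ((EtCoh.pull f).obj F)).obj.map k.op σ := by
  let H := (EtCoh.pull f).obj F
  let T₀ := EtCoh.top S
  obtain ⟨b₀, hb₀⟩ := (quot_fst f hsub T₀).surjective x₀
  obtain ⟨T', g, x', hx', U, φ, t, ht⟩ :=
    H9FE.LimLoc.exists_local_unit f F ((EtCoh.bc f).obj T₀) σ b₀
  let kU : U ⟶ T₀ := (EtCore.topIsTerminal S).from U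
  let Y := (EtCoh.bc f).obj U
  let p : Y.left ⟶ U.left := pullback.fst U.hom f
  let δ : H.obj.obj (op Y) := unitSec f F U t - H.obj.map ((EtCoh.bc f).map kU).op σ
  let b' : Y.left := φ.left x'
  have hφ : φ ≫ (EtCoh.bc f).map kU = g := (EtCore.bcTopIsTerminal f).hom_ext _ _
  have hb' : b' ∈ Van H δ := by
    refine ⟨T', φ, x', rfl, ?_⟩
    show H.obj.map φ.op (unitSec f F U t - H.obj.map ((EtCoh.bc f).map kU).op σ) = 0
    have ht' : H.obj.map g.op σ = H.obj.map φ.op (unitSec f F U t) := ht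
    rw [map_sub, map_map, hφ, ht', sub_self]
  let E' : Set Y.left := Van H δ
  let E₀ : Set U.left := p '' E'
  have hsat : p ⁻¹' E₀ = E' := by
    ext b₂
    constructor
    · rintro ⟨b₁, hb₁, hpb⟩
      exact sat f hc F U δ b₁ b₂ hpb hb₁
    · intro hb₂
      exact ⟨b₂, hb₂, rfl⟩
  have hopen : IsOpen E₀ := by
    rw [← (quot_fst f hsub U).isOpen_preimage]
    show IsOpen (p ⁻¹' E₀)
    rw [hsat]; exact isOpen_van H δ
  let Eo : U.left.Opens := ⟨E₀, hopen⟩
  haveI : Etale U.hom := U.prop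
  let E : S.Etale := EtSiteBasic.ofEtale (Eo.ι ≫ U.hom)
  let j : E ⟶ U := MorphismProperty.Over.homMk Eo.ι rfl trivial
  have hu₀ : p b' ∈ E₀ := ⟨b', hb', rfl⟩
  let x'' : E.left := (⟨p b', hu₀⟩ : ↥Eo)
  have hx'' : j.left x'' = p b' := rfl
  refine ⟨E, j ≫ kU, x'', ?_, F.obj.map j.op t, ?_⟩
  · show kU.left (j.left x'') = x₀
    rw [hx'']
    have e1 := (EtCoh.isPullback_bc_map f kU).w
    have e2 : (pullback.fst T₀.hom f : ((EtCoh.bc f).obj T₀).left ⟶ T₀.left)
        (((EtCoh.bc f).map kU).left b') = kU.left (p b') :=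
      congrArg (fun ψ : Y.left ⟶ T₀.left => ψ b') e1
    have e3 : ((EtCoh.bc f).map kU).left b' = b₀ := by
      have := congrArg (fun ψ : T' ⟶ (EtCoh.bc f).obj T₀ => ψ.left x') hφ
      exact this.trans hx'
    rw [← e2, e3]; exact hb₀
  · show unitSec f F E (F.obj.map j.op t) = H.obj.map ((EtCoh.bc f).map (j ≫ kU)).op σ
    rw [unitSec_map, Functor.map_comp, ← map_map, ← sub_eq_zero, ← map_sub]
    show H.obj.map ((EtCoh.bc f).map j).op δ = 0
    apply eq_zero_of_van H
    intro z
    rw [van_map]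
    show ((EtCoh.bc f).map j).left z ∈ E'
    rw [← hsat]
    show p (((EtCoh.bc f).map j).left z) ∈ E₀
    have e1 := (EtCoh.isPullback_bc_map f j).w
    have e2 : p (((EtCoh.bc f).map j).left z) =
        j.left ((pullback.fst E.hom f : ((EtCoh.bc f).obj E).left ⟶ E.left) z) :=
      congrArg (fun ψ : ((EtCoh.bc f).obj E).left ⟶ U.left => ψ z) e1
    rw [e2]
    exact ((pullback.fst E.hom f : ((EtCoh.bc f).obj E).left ⟶ E.left) z).2

include hsub hc in
theorem unit_bijective_top :
    Function.Bijective (((EtCoh.pullPushAdj f).unit.app F).hom.app (op (EtCoh.top S))) := by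
  refine ⟨unit_injective f hsub F _, ?_⟩
  intro σ
  exact glue_ab ((EtCoh.pullPushAdj f).unit.app F) (unit_injective f hsub F) (EtCoh.top S) σ
    (fun x₀ => local_lift f hsub hc F σ x₀)

end H9FE.SubmConn
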