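import Mathlib
import Groth.Agent.Lib.Helper9.FE.BCPaste
import Groth.Agent.S0094

/-! helper9: morphisms `p : P ⟶ Q` for which the unit `F ⟶ p_* p⁻¹ F` is bijective on global
sections for every abelian étale sheaf `F` on `Q` (`SecBij`; e.g. flat quasi-compact morphisms with
connected geometric fibres, `secBij_of_flat`, stable under base change, `secBij_of_isPullback`):
for such `p`, the functor `p⁻¹` preserves and detects bijectivity on global sections (`pull_iso`),
and the base change map of a square over `p` whose top arrow is also of this kind is bijective on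
global sections (`bc_iso`). -/

set_option autoImplicit false
set_option linter.unusedSectionVars false
set_option linter.style.haveILetI false
set_option backward.isDefEq.respectTransparency false
universe u
open CategoryTheory CategoryTheory.Limits AlgebraicGeometry Opposite

namespace H9FE.BCConn
open H9FE.LimTower H9FE.BCPaste

section Top

variable {P Q : Scheme.{u}} (p : P ⟶ Q)

/-- the canonical morphism `P ⟶ P ×_Q Q` of étale `P`-schemes -/
noncomputable def tb : EtCoh.top P ⟶ (EtCoh.bc p).obj (EtCoh.top Q) :=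
  MorphismProperty.Over.homMk
    (pLift p (EtCoh.top Q) p (𝟙 P) (by
      change p ≫ 𝟙 Q = 𝟙 P ≫ p
      rw [Category.comp_id, Category.id_comp]))
    (pLift_p2 _ _ _ _ _) trivial

/-- its inverse -/
noncomputable def tbInv : (EtCoh.bc p).obj (EtCoh.top Q) ⟶ EtCoh.top P :=
  MorphismProperty.Over.homMk (p2 p (EtCoh.top Q)) (Category.comp_id _) trivial

lemma tb_left_p1 : (tb p).left ≫ p1 p (EtCoh.top Q) = p := pLift_p1 _ _ _ _ _

lemma tb_left_p2 : (tb p).left ≫ p2 p (EtCoh.top Q) = 𝟙 P := pLift_p2 _ _ _ _ _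

lemma tb_tbInv : tb p ≫ tbInv p = 𝟙 _ := by
  apply MorphismProperty.Over.Hom.ext
  exact tb_left_p2 p

lemma tbInv_tb : tbInv p ≫ tb p = 𝟙 _ := by
  apply bc_hom_ext
  have e1 : (tbInv p ≫ tb p).left = p2 p (EtCoh.top Q) ≫ (tb p).left := rfl
  rw [e1, Category.assoc, tb_left_p1]
  have h' : p1 p (EtCoh.top Q) ≫ (EtCoh.top Q).hom = p2 p (EtCoh.top Q) ≫ p :=
    p_cond p (EtCoh.top Q)
  have h2 : p1 p (EtCoh.top Q) ≫ (EtCoh.top Q).hom = p1 p (EtCoh.top Q) :=
    Category.comp_id (p1 p (EtCoh.top Q))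
  rw [← h', h2]
  exact (Category.id_comp (p1 p (EtCoh.top Q))).symm

instance : IsIso (tb p) := ⟨tbInv p, tb_tbInv p, tbInv_tb p⟩

lemma isIso_map_tb (M : EtCoh.Ab P) : IsIso (M.obj.map (tb p).op) := inferInstance

end Top

lemma isIso_app {Z : Scheme.{u}} {A B : EtCoh.Ab Z} (φ : A ⟶ B) [IsIso φ] (U : Z.Etaleᵒᵖ) :
    IsIso (φ.hom.app U) := by
  haveI : IsIso φ.hom :=
    (inferInstance : IsIso ((sheafToPresheaf Z.smallEtaleTopology AddCommGrpCat.{u + 1}).map φ))
  infer_instance

/-- the unit `F ⟶ p_* p⁻¹ F` is bijective on global sections, for all `F` -/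
def SecBij {P Q : Scheme.{u}} (p : P ⟶ Q) : Prop :=
  ∀ F : EtCoh.Ab Q, IsIso (((EtCoh.pullPushAdj p).unit.app F).hom.app (op (EtCoh.top Q)))

section Abstract

variable {P Q : Scheme.{u}} (p : P ⟶ Q) (hp : SecBij p)

/-- sections over `P` versus sections over `P ×_Q Q` -/
lemma isIso_top_iff {M₁ M₂ : EtCoh.Ab P} (φ : M₁ ⟶ M₂) :
    IsIso (φ.hom.app (op (EtCoh.top P))) ↔
      IsIso (φ.hom.app (op ((EtCoh.bc p).obj (EtCoh.top Q)))) := by
  have n : M₁.obj.map (tb p).op ≫ φ.hom.app (op (EtCoh.top P)) =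
      φ.hom.app (op ((EtCoh.bc p).obj (EtCoh.top Q))) ≫ M₂.obj.map (tb p).op :=
    φ.hom.naturality (tb p).op
  haveI := isIso_map_tb p M₁
  haveI := isIso_map_tb p M₂
  constructor
  · intro h
    haveI := h
    have h1 : IsIso (φ.hom.app (op ((EtCoh.bc p).obj (EtCoh.top Q))) ≫ M₂.obj.map (tb p).op) := by
      rw [← n]; infer_instance
    exact IsIso.of_isIso_comp_right _ (M₂.obj.map (tb p).op)
  · intro h
    haveI := h
    have h1 : IsIso (M₁.obj.map (tb p).op ≫ φ.hom.app (op (EtCoh.top P))) := by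
      rw [n]; infer_instance
    exact IsIso.of_isIso_comp_left (M₁.obj.map (tb p).op) _

include hp in
/-- `p⁻¹` preserves bijectivity on global sections -/
theorem pull_iso {N₁ N₂ : EtCoh.Ab Q} (φ : N₁ ⟶ N₂)
    (hφ : IsIso (φ.hom.app (op (EtCoh.top Q)))) :
    IsIso (((EtCoh.pull p).map φ).hom.app (op (EtCoh.top P))) := by
  rw [isIso_top_iff p]
  have n := (EtCoh.pullPushAdj p).unit.naturality φ
  have n' : φ.hom.app (op (EtCoh.top Q)) ≫
      ((EtCoh.pullPushAdj p).unit.app N₂).hom.app (op (EtCoh.top Q)) =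
      ((EtCoh.pullPushAdj p).unit.app N₁).hom.app (op (EtCoh.top Q)) ≫
        ((EtCoh.pull p).map φ).hom.app (op ((EtCoh.bc p).obj (EtCoh.top Q))) :=
    congrArg (fun τ => τ.hom.app (op (EtCoh.top Q))) n
  haveI := hφ
  haveI := hp N₁
  haveI := hp N₂
  have h1 : IsIso (((EtCoh.pullPushAdj p).unit.app N₁).hom.app (op (EtCoh.top Q)) ≫
      ((EtCoh.pull p).map φ).hom.app (op ((EtCoh.bc p).obj (EtCoh.top Q)))) := by
    rw [← n']; infer_instance
  exact IsIso.of_isIso_comp_left
    (((EtCoh.pullPushAdj p).unit.app N₁).hom.app (op (EtCoh.top Q))) _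

variable {TP TQ : Scheme.{u}} (t : TP ⟶ TQ) (gP : TP ⟶ P) (gQ : TQ ⟶ Q)
  (w : t ≫ gQ = gP ≫ p) (ht : SecBij t)

include hp ht in
/-- the base change map of a square over `p` is bijective on global sections -/
theorem bc_iso (N : EtCoh.Ab TQ) :
    IsIso ((EtCoh.baseChange0 gQ p gP t w N).hom.app (op (EtCoh.top P))) := by
  rw [isIso_top_iff p]
  have E := unit_bc gQ p gP t N w
  have E' : ((EtCoh.pullPushAdj p).unit.app ((EtCoh.push gQ).obj N)).hom.app (op (EtCoh.top Q)) ≫
      (EtCoh.baseChange0 gQ p gP t w N).hom.app (op ((EtCoh.bc p).obj (EtCoh.top Q))) =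
      ((EtCoh.pullPushAdj t).unit.app N).hom.app (op ((EtCoh.bc gQ).obj (EtCoh.top Q))) ≫
        ((pc t gQ (gP ≫ p) w).hom.app ((EtCoh.pull t).obj N)).hom.app (op (EtCoh.top Q)) ≫
        ((pc gP p (gP ≫ p) rfl).inv.app ((EtCoh.pull t).obj N)).hom.app (op (EtCoh.top Q)) :=
    congrArg (fun τ => τ.hom.app (op (EtCoh.top Q))) E
  -- the unit of `t` over `TQ ×_Q Q`
  have hu : IsIso (((EtCoh.pullPushAdj t).unit.app N).hom.app
      (op ((EtCoh.bc gQ).obj (EtCoh.top Q)))) := by
    rw [← isIso_top_iff gQ]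
    exact ht N
  haveI := hu
  haveI := hp ((EtCoh.push gQ).obj N)
  haveI := isIso_app ((pc t gQ (gP ≫ p) w).hom.app ((EtCoh.pull t).obj N)) (op (EtCoh.top Q))
  haveI := isIso_app ((pc gP p (gP ≫ p) rfl).inv.app ((EtCoh.pull t).obj N)) (op (EtCoh.top Q))
  have h1 : IsIso
      (((EtCoh.pullPushAdj p).unit.app ((EtCoh.push gQ).obj N)).hom.app (op (EtCoh.top Q)) ≫
      (EtCoh.baseChange0 gQ p gP t w N).hom.app (op ((EtCoh.bc p).obj (EtCoh.top Q)))) := by
    rw [E']; infer_instance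
  exact IsIso.of_isIso_comp_left
    (((EtCoh.pullPushAdj p).unit.app ((EtCoh.push gQ).obj N)).hom.app (op (EtCoh.top Q))) _

end Abstract

section Flat

/-- flat quasi-compact morphisms with connected geometric fibres -/
theorem secBij_of_flat {P Q : Scheme.{u}} (p : P ⟶ Q) [Flat p] [QuasiCompact p]
    (hc : ∀ (Ω : Type u) [Field Ω] [IsAlgClosed Ω] (s : Spec (CommRingCat.of Ω) ⟶ Q),
      ConnectedSpace ↥(pullback p s)) : SecBij p := by
  intro F
  exact (ConcreteCategory.isIso_iff_bijective _).2 (Groth.Agent.S0094.result p hc F)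

/-- connectedness of the geometric fibres is stable under base change -/
theorem conn_of_isPullback {P Q P' Q' : Scheme.{u}} (p : P ⟶ Q) (t : P' ⟶ Q') (a : P' ⟶ P)
    (b : Q' ⟶ Q) (sq : IsPullback a t p b)
    (hc : ∀ (Ω : Type u) [Field Ω] [IsAlgClosed Ω] (s : Spec (CommRingCat.of Ω) ⟶ Q),
      ConnectedSpace ↥(pullback p s))
    (Ω : Type u) [Field Ω] [IsAlgClosed Ω] (s : Spec (CommRingCat.of Ω) ⟶ Q') :
    ConnectedSpace ↥(pullback t s) := by
  have big : IsPullback (pullback.fst t s ≫ a) (pullback.snd t s) p (s ≫ b) :=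
    IsPullback.paste_horiz (IsPullback.of_hasPullback t s) sq
  let i : pullback t s ≅ pullback p (s ≫ b) := big.isoPullback
  haveI := hc Ω (s ≫ b)
  exact Function.Surjective.connectedSpace (f := i.inv.base)
    (fun y => ⟨i.hom.base y, by
      rw [← Scheme.Hom.comp_apply, Iso.hom_inv_id]; rfl⟩) i.inv.continuous

/-- `SecBij` for base changes of flat quasi-compact morphisms with connected geometric fibres -/
theorem secBij_of_isPullback {P Q P' Q' : Scheme.{u}} (p : P ⟶ Q) [Flat p] [QuasiCompact p]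
    (t : P' ⟶ Q') (a : P' ⟶ P) (b : Q' ⟶ Q) (sq : IsPullback a t p b)
    (hc : ∀ (Ω : Type u) [Field Ω] [IsAlgClosed Ω] (s : Spec (CommRingCat.of Ω) ⟶ Q),
      ConnectedSpace ↥(pullback p s)) : SecBij t := by
  haveI : Flat t := MorphismProperty.of_isPullback sq (inferInstance : Flat p)
  haveI : QuasiCompact t := MorphismProperty.of_isPullback sq (inferInstance : QuasiCompact p)
  exact secBij_of_flat t (conn_of_isPullback p t a b sq hc)

end Flat

end H9FE.BCConn
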