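import Mathlib
import Groth.Prelude.Def_Hens2
import Groth.Agent.Lib.Helper7.SHens.Main
import Groth.Agent.Lib.Helper7.SHens.Abstract
import Groth.Agent.Lib.Helper7.Hensel.EtaleLift
import Groth.Agent.Lib.Helper7.Hensel.Local

/-! helper9: maps out of a strict henselization `R` of a local ring `A` into henselian local
`A`-algebras `T` (not necessarily local over `A`): an `A`-algebra map `R → T` is determined by
its reduction `R → κ(T)`, and every `A`-algebra map `R → κ(T)` lifts; existence of an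
`A`-algebra map from `R` to any separably closed field over `A`.  Scheme-level consequences:
specialization maps between strict localizations. -/

set_option autoImplicit false
universe u
open IsLocalRing TensorProduct CategoryTheory AlgebraicGeometry

namespace H9FE.SHSpec

set_option linter.style.haveILetI false
set_option linter.unusedSectionVars false
set_option backward.isDefEq.respectTransparency false

open Groth.Agent.Helper7 Groth.Agent.Helper7.Hensel Groth.Agent.Helper7.SHens

section Lift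

variable {A : Type u} [CommRing A] {E : Type u} [CommRing E] [Algebra A E] [Algebra.Etale A E]
  {T : Type u} [CommRing T] [HenselianLocalRing T] [Algebra A T]

theorem exists_lift_algHom (s₀ : E →ₐ[A] ResidueField T) :
    ∃ ψ : E →ₐ[A] T, ∀ x, residue T (ψ x) = s₀ x := by
  have hG : Gabber T (maximalIdeal T) := Gabber.of_henselianLocalRing T
  let s : T ⊗[A] E →ₐ[T] ResidueField T :=
    Algebra.TensorProduct.lift (Algebra.ofId T (ResidueField T)) s₀ (fun _ _ => Commute.all _ _)
  obtain ⟨t, ht⟩ := hG.exists_lift_of_etale (T ⊗[A] E) s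
  refine ⟨(t.restrictScalars A).comp Algebra.TensorProduct.includeRight, fun x => ?_⟩
  have h1 := AlgHom.congr_fun ht (1 ⊗ₜ x)
  have h2 : s (1 ⊗ₜ x) = s₀ x := by
    show Algebra.TensorProduct.lift (Algebra.ofId T (ResidueField T)) s₀
      (fun _ _ => Commute.all _ _) (1 ⊗ₜ x) = _
    rw [Algebra.TensorProduct.lift_tmul, map_one, one_mul]
  exact h1.trans h2

theorem lift_unique (ψ ψ' : E →ₐ[A] T) (h : ∀ x, residue T (ψ x) = residue T (ψ' x)) :
    ψ = ψ' := by
  apply algHom_eq_of_formallyUnramified (maximalIdeal T)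
    (IsLocalRing.jacobson_eq_maximalIdeal ⊥ bot_ne_top).ge
  intro x
  rw [← Ideal.Quotient.eq]
  exact h x

end Lift

section Field

/-- an algebra map from an étale algebra over a separably closed field to a field has image in
the base field -/
theorem exists_of_etale_sepClosed {Ω B L : Type u} [Field Ω] [IsSepClosed Ω] [CommRing B]
    [Algebra Ω B] [Algebra.Etale Ω B] [Field L] [Algebra Ω L] (φ : B →ₐ[Ω] L) (b : B) :
    ∃ ω : Ω, algebraMap Ω L ω = φ b := by
  let p : Ideal B := RingHom.ker φ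
  haveI : p.IsPrime := RingHom.ker_isPrime φ
  haveI := Algebra.FormallyUnramified.finite_of_free Ω B
  haveI : IsArtinianRing B := IsArtinianRing.of_finite Ω B
  haveI : p.IsMaximal := IsArtinianRing.isMaximal_of_isPrime p
  letI := Ideal.Quotient.field p
  obtain ⟨ω, hω⟩ := IsSepClosed.algebraMap_surjective Ω (B ⧸ p) (Ideal.Quotient.mk p b)
  refine ⟨ω, ?_⟩
  let φbar : B ⧸ p →ₐ[Ω] L := Ideal.Quotient.liftₐ p φ (fun a ha => ha)
  have h1 := congrArg φbar hω
  rw [AlgHom.commutes] at h1
  exact h1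

end Field

section SH

variable (A : Type u) [CommRing A] [IsLocalRing A] (R : Type u) [CommRing R] [IsLocalRing R]
  [Algebra A R] [IsLocalHom (algebraMap A R)] [hR : Hensel.IsStrictHenselization A R]

section

variable {T : Type u} [CommRing T] [HenselianLocalRing T] [Algebra A T]

theorem algHom_ext_of_residue (γ₁ γ₂ : R →ₐ[A] T)
    (h : ∀ r, residue T (γ₁ r) = residue T (γ₂ r)) : γ₁ = γ₂ := by
  obtain ⟨e, -⟩ := exists_algEquiv_Model A R
  have key : γ₁.comp e.symm.toAlgHom = γ₂.comp e.symm.toAlgHom := by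
    apply algHom_ext_G
    intro U x
    have h1 : (γ₁.comp e.symm.toAlgHom).comp (ιAlg U) =
        (γ₂.comp e.symm.toAlgHom).comp (ιAlg U) :=
      lift_unique _ _ (fun y => h (e.symm (ιAlg U y)))
    exact AlgHom.congr_fun h1 x
  ext r
  have h3 : e.symm (e r) = r := e.symm_apply_apply r
  have h2 : γ₁ (e.symm (e r)) = γ₂ (e.symm (e r)) := AlgHom.congr_fun key (e r)
  rwa [h3] at h2

theorem exists_algHom_of_residue (ρ : R →ₐ[A] ResidueField T) :
    ∃ γ : R →ₐ[A] T, ∀ r, residue T (γ r) = ρ r := by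
  obtain ⟨e, -⟩ := exists_algEquiv_Model A R
  have hex : ∀ U : Nbhd A (ResidueField R), ∃ ψ : U.Ring →ₐ[A] T,
      ∀ x, residue T (ψ x) = ρ (e.symm (ι U x)) := fun U =>
    exists_lift_algHom ((ρ.comp e.symm.toAlgHom).comp (ιAlg U))
  choose ψ hψ using hex
  have hcompat : ∀ {U V : Nbhd A (ResidueField R)} (f : U ⟶ V),
      (ψ V).comp (f : Nbhd.Hom U V).toAlgHom = ψ U := by
    intro U V f
    apply lift_unique
    intro x
    rw [AlgHom.comp_apply, hψ, hψ, ι_hom]
  refine ⟨(descAlg ψ hcompat).comp e.toAlgHom, fun r => ?_⟩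
  obtain ⟨U, x, hx⟩ := exists_rep (e r)
  have h1 : ((descAlg ψ hcompat).comp e.toAlgHom) r = descAlg ψ hcompat (e r) := rfl
  rw [h1, ← hx, descAlg_ι, hψ, hx, AlgEquiv.symm_apply_apply]

end

/-- a strict henselization maps to every separably closed field over the base -/
theorem exists_algHom_sepClosed (Ω : Type u) [Field Ω] [IsSepClosed Ω] [Algebra A Ω] :
    Nonempty (R →ₐ[A] Ω) := by
  obtain ⟨e, -⟩ := exists_algEquiv_Model A R
  haveI : Module.FaithfullyFlat A R := faithfullyFlat_of_isStrictHenselization A R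
  obtain ⟨𝔫, h𝔫⟩ := Ideal.exists_maximal (Ω ⊗[A] R)
  haveI := h𝔫
  letI := Ideal.Quotient.field 𝔫
  let θ : R →ₐ[A] (Ω ⊗[A] R) ⧸ 𝔫 :=
    (Ideal.Quotient.mkₐ A 𝔫).comp Algebra.TensorProduct.includeRight
  have hθ : ∀ r : R, ∃ ω : Ω, algebraMap Ω ((Ω ⊗[A] R) ⧸ 𝔫) ω = θ r := by
    intro r
    obtain ⟨U, x, hx⟩ := exists_rep (e r)
    let θU : U.Ring →ₐ[A] (Ω ⊗[A] R) ⧸ 𝔫 := (θ.comp e.symm.toAlgHom).comp (ιAlg U)
    let φ : Ω ⊗[A] U.Ring →ₐ[Ω] (Ω ⊗[A] R) ⧸ 𝔫 :=
      Algebra.TensorProduct.lift (Algebra.ofId Ω _) θU (fun _ _ => Commute.all _ _)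
    obtain ⟨ω, hω⟩ := exists_of_etale_sepClosed φ (1 ⊗ₜ x)
    refine ⟨ω, hω.trans ?_⟩
    have h1 : φ (1 ⊗ₜ x) = θU x := by
      show Algebra.TensorProduct.lift (Algebra.ofId Ω _) θU (fun _ _ => Commute.all _ _)
        (1 ⊗ₜ x) = _
      rw [Algebra.TensorProduct.lift_tmul, map_one, one_mul]
    rw [h1]
    show θ (e.symm (ι U x)) = θ r
    rw [hx, AlgEquiv.symm_apply_apply]
  have hsurj : Function.Surjective (algebraMap Ω ((Ω ⊗[A] R) ⧸ 𝔫)) := by
    intro l
    obtain ⟨n, rfl⟩ := Ideal.Quotient.mk_surjective l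
    induction n using TensorProduct.induction_on with
    | zero => exact ⟨0, by rw [map_zero, map_zero]⟩
    | tmul ω r =>
      obtain ⟨ω', hω'⟩ := hθ r
      refine ⟨ω * ω', ?_⟩
      rw [map_mul, hω']
      have h2 : (ω ⊗ₜ[A] r : Ω ⊗[A] R) = algebraMap Ω (Ω ⊗[A] R) ω * (1 ⊗ₜ r) := by
        rw [Algebra.TensorProduct.algebraMap_apply, Algebra.TensorProduct.tmul_mul_tmul,
          one_mul, Algebra.algebraMap_self_apply, mul_one]
      rw [h2, map_mul]
      rfl
    | add a b ha hb =>
      obtain ⟨x, hx⟩ := ha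
      obtain ⟨y, hy⟩ := hb
      exact ⟨x + y, by rw [map_add, hx, hy, map_add]⟩
  let eL : Ω ≃+* (Ω ⊗[A] R) ⧸ 𝔫 :=
    RingEquiv.ofBijective (algebraMap Ω ((Ω ⊗[A] R) ⧸ 𝔫)) ⟨RingHom.injective _, hsurj⟩
  refine ⟨{ toRingHom := (eL.symm : (Ω ⊗[A] R) ⧸ 𝔫 →+* Ω).comp (θ : R →+* (Ω ⊗[A] R) ⧸ 𝔫)
            commutes' := fun a => ?_ }⟩
  show eL.symm (θ (algebraMap A R a)) = algebraMap A Ω a
  rw [θ.commutes, IsScalarTower.algebraMap_apply A Ω ((Ω ⊗[A] R) ⧸ 𝔫) a]
  exact eL.symm_apply_apply _

end SH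

section Sch

variable (X : Scheme.{u}) (x x' : X)

lemma specializes_of_fac {Y : Scheme.{u}} (k : Y ⟶ Spec (X.presheaf.stalk x)) (y : Y)
    (h : (k ≫ X.fromSpecStalk x) y = x') : x' ⤳ x := by
  have h1 : x' ∈ Set.range (X.fromSpecStalk x) := ⟨k y, by rw [← h, Scheme.Hom.comp_apply]⟩
  rw [Scheme.range_fromSpecStalk] at h1
  exact h1

variable (R : Type u) [CommRing R] [Algebra (X.presheaf.stalk x) R]
  (R' : Type u) [CommRing R'] [IsLocalRing R'] [Algebra (X.presheaf.stalk x') R']
  [IsLocalHom (algebraMap (X.presheaf.stalk x') R')]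

lemma specOf_closedPoint : (Hens2.specOf X x' R') (closedPoint R') = x' := by
  haveI : IsLocalHom (CommRingCat.ofHom (algebraMap (X.presheaf.stalk x') R')).hom :=
    inferInstanceAs (IsLocalHom (algebraMap (X.presheaf.stalk x') R'))
  show (Spec.map (CommRingCat.ofHom (algebraMap (X.presheaf.stalk x') R')) ≫ X.fromSpecStalk x')
    (closedPoint R') = x'
  rw [Scheme.Hom.comp_apply]
  have h1 : Spec.map (CommRingCat.ofHom (algebraMap (X.presheaf.stalk x') R')) (closedPoint R') =
      closedPoint (X.presheaf.stalk x') :=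
    Spec_closedPoint
  rw [h1]
  exact Scheme.fromSpecStalk_closedPoint

lemma residue_closedPoint :
    Spec.map (CommRingCat.ofHom (residue R')) (closedPoint (ResidueField R')) =
      closedPoint R' := by
  haveI : IsLocalHom (CommRingCat.ofHom (residue R')).hom :=
    inferInstanceAs (IsLocalHom (residue R'))
  exact Spec_closedPoint

lemma specializes_of_comp_eq (g : Spec (CommRingCat.of R') ⟶ Spec (CommRingCat.of R))
    (h : g ≫ Hens2.specOf X x R = Hens2.specOf X x' R') : x' ⤳ x := by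
  refine specializes_of_fac X x x'
    (g ≫ Spec.map (CommRingCat.ofHom (algebraMap (X.presheaf.stalk x) R))) (closedPoint R') ?_
  rw [Category.assoc]
  exact (congrArg (fun (k : Spec (CommRingCat.of R') ⟶ X) => k (closedPoint R')) h).trans
    (specOf_closedPoint X x' R')

lemma specializes_of_comp_eq'
    (h : Spec (CommRingCat.of (ResidueField R')) ⟶ Spec (CommRingCat.of R))
    (hh : h ≫ Hens2.specOf X x R = Hens2.geomPt X x' R') : x' ⤳ x := by
  refine specializes_of_fac X x x'
    (h ≫ Spec.map (CommRingCat.ofHom (algebraMap (X.presheaf.stalk x) R)))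
    (closedPoint (ResidueField R')) ?_
  rw [Category.assoc]
  refine (congrArg (fun (k : Spec (CommRingCat.of (ResidueField R')) ⟶ X) =>
    k (closedPoint (ResidueField R'))) hh).trans ?_
  show (Spec.map (CommRingCat.ofHom (residue R')) ≫ Hens2.specOf X x' R')
    (closedPoint (ResidueField R')) = x'
  rw [Scheme.Hom.comp_apply, residue_closedPoint]
  exact specOf_closedPoint X x' R'

omit [IsLocalRing R'] [IsLocalHom (algebraMap (X.presheaf.stalk x') R')] in
lemma fac_ringHom (hs : x' ⤳ x) {S : CommRingCat.{u}}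
    (k : Spec S ⟶ Spec (CommRingCat.of R)) (t : X.presheaf.stalk x' ⟶ S)
    (h : k ≫ Hens2.specOf X x R = Spec.map t ≫ X.fromSpecStalk x') :
    (CommRingCat.ofHom (algebraMap (X.presheaf.stalk x) R) : X.presheaf.stalk x ⟶ _) ≫
      Spec.preimage k = X.presheaf.stalkSpecializes hs ≫ t := by
  apply Spec.map_injective
  rw [Spec.map_comp, Spec.map_comp, Spec.map_preimage]
  apply (cancel_mono (X.fromSpecStalk x)).1
  rw [Category.assoc, Category.assoc, Scheme.SpecMap_stalkSpecializes_fromSpecStalk hs]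
  exact h

omit [IsLocalRing R'] [IsLocalHom (algebraMap (X.presheaf.stalk x') R')] in
lemma comp_specOf (hs : x' ⤳ x) (γ : CommRingCat.of R ⟶ CommRingCat.of R')
    (hγ : (CommRingCat.ofHom (algebraMap (X.presheaf.stalk x) R) : X.presheaf.stalk x ⟶ _) ≫ γ =
      X.presheaf.stalkSpecializes hs ≫
        CommRingCat.ofHom (algebraMap (X.presheaf.stalk x') R')) :
    Spec.map γ ≫ Hens2.specOf X x R = Hens2.specOf X x' R' := by
  show Spec.map γ ≫ Spec.map (CommRingCat.ofHom (algebraMap (X.presheaf.stalk x) R)) ≫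
    X.fromSpecStalk x = Spec.map (CommRingCat.ofHom (algebraMap (X.presheaf.stalk x') R')) ≫
      X.fromSpecStalk x'
  rw [← Category.assoc, ← Spec.map_comp, hγ, Spec.map_comp, Category.assoc,
    Scheme.SpecMap_stalkSpecializes_fromSpecStalk hs]

end Sch

section Main

variable (X : Scheme.{u}) (x x' : X)
  (R : Type u) [CommRing R] [IsLocalRing R] [Algebra (X.presheaf.stalk x) R]
  [IsLocalHom (algebraMap (X.presheaf.stalk x) R)]
  [hR : Hensel.IsStrictHenselization (X.presheaf.stalk x) R]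
  (R' : Type u) [CommRing R'] [IsLocalRing R'] [Algebra (X.presheaf.stalk x') R']
  [IsLocalHom (algebraMap (X.presheaf.stalk x') R')]
  [hR' : Hensel.IsStrictHenselization (X.presheaf.stalk x') R']

theorem restrict_injective (g₁ g₂ : Spec (CommRingCat.of R') ⟶ Spec (CommRingCat.of R))
    (h₁ : g₁ ≫ Hens2.specOf X x R = Hens2.specOf X x' R')
    (h₂ : g₂ ≫ Hens2.specOf X x R = Hens2.specOf X x' R')
    (hres : Spec.map (CommRingCat.ofHom (IsLocalRing.residue R')) ≫ g₁ =
      Spec.map (CommRingCat.ofHom (IsLocalRing.residue R')) ≫ g₂) : g₁ = g₂ := by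
  have hs : x' ⤳ x := specializes_of_comp_eq X x x' R R' g₁ h₁
  letI : Algebra (X.presheaf.stalk x) R' :=
    ((algebraMap (X.presheaf.stalk x') R').comp (X.presheaf.stalkSpecializes hs).hom).toAlgebra
  haveI : HenselianLocalRing R' := hR'.henselian
  have e₁ := fac_ringHom X x x' R hs g₁
    (CommRingCat.ofHom (algebraMap (X.presheaf.stalk x') R')) h₁
  have e₂ := fac_ringHom X x x' R hs g₂
    (CommRingCat.ofHom (algebraMap (X.presheaf.stalk x') R')) h₂
  let γ₁ : R →ₐ[X.presheaf.stalk x] R' :=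
    { (Spec.preimage g₁).hom with
      commutes' := fun a => congrArg (fun f => (CommRingCat.Hom.hom f) a) e₁ }
  let γ₂ : R →ₐ[X.presheaf.stalk x] R' :=
    { (Spec.preimage g₂).hom with
      commutes' := fun a => congrArg (fun f => (CommRingCat.Hom.hom f) a) e₂ }
  have hres2 : Spec.preimage g₁ ≫ CommRingCat.ofHom (residue R') =
      Spec.preimage g₂ ≫ CommRingCat.ofHom (residue R') := by
    apply Spec.map_injective
    rw [Spec.map_comp, Spec.map_comp, Spec.map_preimage, Spec.map_preimage]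
    exact hres
  have hγ : γ₁ = γ₂ := algHom_ext_of_residue (X.presheaf.stalk x) R γ₁ γ₂
    (fun r => congrArg (fun f => (CommRingCat.Hom.hom f) r) hres2)
  have hpre : Spec.preimage g₁ = Spec.preimage g₂ :=
    CommRingCat.hom_ext (RingHom.ext fun r => AlgHom.congr_fun hγ r)
  exact (Spec.map_preimage g₁).symm.trans ((congrArg Spec.map hpre).trans (Spec.map_preimage g₂))

theorem restrict_surjective
    (h : Spec (CommRingCat.of (IsLocalRing.ResidueField R')) ⟶ Spec (CommRingCat.of R))
    (hh : h ≫ Hens2.specOf X x R = Hens2.geomPt X x' R') :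
    ∃ g : Spec (CommRingCat.of R') ⟶ Spec (CommRingCat.of R),
      g ≫ Hens2.specOf X x R = Hens2.specOf X x' R' ∧
      Spec.map (CommRingCat.ofHom (IsLocalRing.residue R')) ≫ g = h := by
  have hs : x' ⤳ x := specializes_of_comp_eq' X x x' R R' h hh
  letI : Algebra (X.presheaf.stalk x) R' :=
    ((algebraMap (X.presheaf.stalk x') R').comp (X.presheaf.stalkSpecializes hs).hom).toAlgebra
  haveI : HenselianLocalRing R' := hR'.henselian
  have hh' : h ≫ Hens2.specOf X x R =
      Spec.map (CommRingCat.ofHom (algebraMap (X.presheaf.stalk x') R') ≫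
        CommRingCat.ofHom (residue R')) ≫ X.fromSpecStalk x' :=
    hh.trans (by rw [Spec.map_comp, Category.assoc])
  have e := fac_ringHom X x x' R hs h _ hh'
  let ρ : R →ₐ[X.presheaf.stalk x] ResidueField R' :=
    { (Spec.preimage h).hom with
      commutes' := fun a => congrArg (fun f => (CommRingCat.Hom.hom f) a) e }
  obtain ⟨γ, hγ⟩ := exists_algHom_of_residue (X.presheaf.stalk x) R ρ
  refine ⟨Spec.map (CommRingCat.ofHom (γ : R →+* R')), ?_, ?_⟩
  · exact comp_specOf X x x' R R' hs _ (CommRingCat.hom_ext (RingHom.ext fun a => γ.commutes a))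
  · rw [← Spec.map_comp]
    have h3 : CommRingCat.ofHom (γ : R →+* R') ≫ CommRingCat.ofHom (residue R') =
        Spec.preimage h := CommRingCat.hom_ext (RingHom.ext fun r => hγ r)
    rw [h3, Spec.map_preimage]

theorem exists_iff_specializes :
    (∃ g : Spec (CommRingCat.of R') ⟶ Spec (CommRingCat.of R),
      g ≫ Hens2.specOf X x R = Hens2.specOf X x' R') ↔ x' ⤳ x := by
  constructor
  · rintro ⟨g, hg⟩
    exact specializes_of_comp_eq X x x' R R' g hg
  · intro hs
    letI : Algebra (X.presheaf.stalk x) R' :=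
      ((algebraMap (X.presheaf.stalk x') R').comp (X.presheaf.stalkSpecializes hs).hom).toAlgebra
    haveI : HenselianLocalRing R' := hR'.henselian
    haveI : IsSepClosed (ResidueField R') := hR'.isSepClosure.sep_closed
    obtain ⟨ρ⟩ := exists_algHom_sepClosed (X.presheaf.stalk x) R (ResidueField R')
    obtain ⟨γ, -⟩ := exists_algHom_of_residue (X.presheaf.stalk x) R ρ
    exact ⟨Spec.map (CommRingCat.ofHom (γ : R →+* R')),
      comp_specOf X x x' R R' hs _ (CommRingCat.hom_ext (RingHom.ext fun a => γ.commutes a))⟩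

end Main

end H9FE.SHSpec
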