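import Mathlib
import Groth.Prelude.Def_Hens2
import Groth.Prelude.Def_SGA4b
import Groth.Agent.Lib.Helper9.FE.SHSpec

/-! helper9: the spectrum `T` of a henselian local ring `R` with its closed point
`Spec κ(R) ⟶ T`: an étale `T`-scheme with a `κ(R)`-point over the closed point has a unique
section through that point; hence the pair (`T`, closed point) is an initial object of the
category of étale neighbourhoods of the closed geometric point, and (for separably closed `κ(R)`)
the fibre functor at the closed geometric point is the global sections functor. -/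

set_option autoImplicit false
set_option linter.unusedSectionVars false
set_option linter.style.haveILetI false
set_option backward.isDefEq.respectTransparency false
universe u
open CategoryTheory CategoryTheory.Limits AlgebraicGeometry Opposite IsLocalRing

namespace H9FE.SLocSect

variable (R : Type u) [CommRing R] [HenselianLocalRing R]

/-- the closed point of the spectrum of a local ring, as a morphism from the residue field -/
noncomputable abbrev cpt : Spec (CommRingCat.of (ResidueField R)) ⟶ Spec (CommRingCat.of R) :=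
  Spec.map (CommRingCat.ofHom (residue R))

lemma cpt_apply (y : Spec (CommRingCat.of (ResidueField R))) :
    (cpt R) y = closedPoint R :=
  PrimeSpectrum.comap_residue R y

variable {R}

/-- existence of a section through a rational point over the closed point -/
theorem exists_section (U : (Spec (CommRingCat.of R)).Etale)
    (u : Spec (CommRingCat.of (ResidueField R)) ⟶ U.left) (hu : u ≫ U.hom = cpt R) :
    ∃ s : Spec (CommRingCat.of R) ⟶ U.left, s ≫ U.hom = 𝟙 _ ∧ cpt R ≫ s = u := by
  classical
  haveI : Etale U.hom := U.prop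
  obtain ⟨A, j, _, hj, -⟩ := Scheme.exists_affine_mem_range_and_range_subset
    (x := u (default : Spec (CommRingCat.of (ResidueField R)))) (U := ⊤) (by simp)
  let τ : Spec (CommRingCat.of (ResidueField R)) ⟶ Spec A := IsOpenImmersion.lift j u (by
    rintro _ ⟨a, rfl⟩
    have ha : a = (default : Spec (CommRingCat.of (ResidueField R))) :=
      Subsingleton.elim (α := ↥(Spec (CommRingCat.of (ResidueField R)))) a default
    rw [ha]
    exact hj)
  have hτj : τ ≫ j = u := IsOpenImmersion.lift_fac _ _ _
  let φ : A ⟶ CommRingCat.of (ResidueField R) := Spec.preimage τ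
  have hφ : Spec.map φ = τ := Spec.map_preimage τ
  let g : Spec A ⟶ Spec (CommRingCat.of R) := j ≫ U.hom
  let ρ : CommRingCat.of R ⟶ A := Spec.preimage g
  have hρ : Spec.map ρ = g := Spec.map_preimage g
  have hρet : ρ.hom.Etale := by
    have : Etale (Spec.map ρ) := by
      rw [hρ]
      infer_instance
    exact (HasRingHomProperty.Spec_iff (P := @Etale)).1 this
  letI : Algebra R A := ρ.hom.toAlgebra
  haveI : Algebra.Etale R A := RingHom.etale_algebraMap.1 hρet
  have hcomp : ρ ≫ φ = CommRingCat.ofHom (residue R) := by
    apply Spec.map_injective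
    rw [Spec.map_comp, hφ, hρ]
    show τ ≫ j ≫ U.hom = _
    rw [← Category.assoc, hτj, hu]
  let s₀ : A →ₐ[R] ResidueField R :=
    { φ.hom with
      commutes' := fun r => by
        have := congrArg (fun f => f.hom r) hcomp
        exact this }
  obtain ⟨ψ, hψ⟩ := H9FE.SHSpec.exists_lift_algHom (A := R) (E := A) (T := R) s₀
  let ψ' : A ⟶ CommRingCat.of R := CommRingCat.ofHom ψ.toRingHom
  have h1 : ρ ≫ ψ' = 𝟙 _ := by
    ext r
    exact ψ.commutes r
  have h2 : ψ' ≫ CommRingCat.ofHom (residue R) = φ := by
    ext x
    exact hψ x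
  refine ⟨Spec.map ψ' ≫ j, ?_, ?_⟩
  · rw [Category.assoc]
    show Spec.map ψ' ≫ g = _
    rw [← hρ, ← Spec.map_comp, h1, Spec.map_id]
  · show Spec.map _ ≫ Spec.map ψ' ≫ j = u
    rw [← Category.assoc, ← Spec.map_comp, h2, hφ, hτj]

/-- uniqueness of sections through a given point over the closed point -/
theorem section_unique (U : (Spec (CommRingCat.of R)).Etale)
    (s s' : Spec (CommRingCat.of R) ⟶ U.left) (hs : s ≫ U.hom = 𝟙 _) (hs' : s' ≫ U.hom = 𝟙 _)
    (h : cpt R ≫ s = cpt R ≫ s') : s = s' := by
  classical
  haveI : Etale U.hom := U.prop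
  let x₀ : Spec (CommRingCat.of R) := closedPoint R
  obtain ⟨A, j, _, hj, -⟩ := Scheme.exists_affine_mem_range_and_range_subset
    (x := s x₀) (U := ⊤) (by simp)
  have hx₀ : ∀ y, (cpt R) y = x₀ := fun y => cpt_apply R y
  have hsx : s' x₀ = s x₀ := by
    have e := congrArg (fun f : Spec (CommRingCat.of (ResidueField R)) ⟶ U.left =>
      f (default : Spec (CommRingCat.of (ResidueField R)))) h
    simp only [Scheme.Hom.comp_apply] at e
    rw [hx₀] at e
    exact e.symm
  have hrange : ∀ (a : Spec (CommRingCat.of R) ⟶ U.left), a x₀ ∈ Set.range j →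
      Set.range a ⊆ Set.range j := by
    intro a ha
    have htop : a ⁻¹ᵁ j.opensRange = ⊤ := IsLocalRing.closed_point_mem_iff.1 ha
    rintro _ ⟨y, rfl⟩
    have : y ∈ a ⁻¹ᵁ j.opensRange := by
      rw [htop]
      trivial
    exact this
  let t : Spec (CommRingCat.of R) ⟶ Spec A := IsOpenImmersion.lift j s (hrange s hj)
  let t' : Spec (CommRingCat.of R) ⟶ Spec A := IsOpenImmersion.lift j s' (hrange s' (hsx ▸ hj))
  have ht : t ≫ j = s := IsOpenImmersion.lift_fac _ _ _
  have ht' : t' ≫ j = s' := IsOpenImmersion.lift_fac _ _ _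
  let g : Spec A ⟶ Spec (CommRingCat.of R) := j ≫ U.hom
  let ρ : CommRingCat.of R ⟶ A := Spec.preimage g
  have hρ : Spec.map ρ = g := Spec.map_preimage g
  have hρet : ρ.hom.Etale := by
    have : Etale (Spec.map ρ) := by
      rw [hρ]
      infer_instance
    exact (HasRingHomProperty.Spec_iff (P := @Etale)).1 this
  letI : Algebra R A := ρ.hom.toAlgebra
  haveI : Algebra.Etale R A := RingHom.etale_algebraMap.1 hρet
  let ψ : A ⟶ CommRingCat.of R := Spec.preimage t
  let ψ' : A ⟶ CommRingCat.of R := Spec.preimage t'
  have hψ : Spec.map ψ = t := Spec.map_preimage t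
  have hψ' : Spec.map ψ' = t' := Spec.map_preimage t'
  have h1 : ρ ≫ ψ = 𝟙 _ := by
    apply Spec.map_injective
    rw [Spec.map_comp, hψ, hρ, Spec.map_id]
    show t ≫ j ≫ U.hom = _
    rw [← Category.assoc, ht, hs]
  have h1' : ρ ≫ ψ' = 𝟙 _ := by
    apply Spec.map_injective
    rw [Spec.map_comp, hψ', hρ, Spec.map_id]
    show t' ≫ j ≫ U.hom = _
    rw [← Category.assoc, ht', hs']
  let ψa : A →ₐ[R] R :=
    { ψ.hom with
      commutes' := fun r => by
        have := congrArg (fun f => f.hom r) h1
        exact this }
  let ψa' : A →ₐ[R] R :=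
    { ψ'.hom with
      commutes' := fun r => by
        have := congrArg (fun f => f.hom r) h1'
        exact this }
  have hres : ψ ≫ CommRingCat.ofHom (residue R) = ψ' ≫ CommRingCat.ofHom (residue R) := by
    apply Spec.map_injective
    rw [Spec.map_comp, Spec.map_comp, hψ, hψ']
    rw [← cancel_mono j, Category.assoc, Category.assoc, ht, ht']
    exact h
  have hEq : ψa = ψa' := by
    apply H9FE.SHSpec.lift_unique
    intro x
    have := congrArg (fun f => f.hom x) hres
    exact this
  have hψψ' : ψ = ψ' := by
    ext x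
    exact AlgHom.congr_fun hEq x
  rw [← ht, ← ht', ← hψ, ← hψ', hψψ']

end H9FE.SLocSect
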