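import Mathlib
import Groth.Prelude.Def_Hens2
import Groth.Prelude.Def_SGA4b
import Groth.Agent.Lib.Helper9.FE.SLocSect
import Groth.Agent.Lib.Helper5.Misc.EtStalkPull

/-! helper9: for a strictly henselian local ring `R`, the pair (`Spec R`, closed point) is an
initial object of the category of étale neighbourhoods of the closed geometric point, hence the
fibre functor at the closed geometric point is the global sections functor (for presheaves with
values in any category with the relevant colimits); application: the fibre functor of étale
sheaves of sets at the geometric point attached to a strict henselization is the functor of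
global sections of the inverse image on the strict localization (S6180). -/

set_option autoImplicit false
set_option linter.unusedSectionVars false
set_option linter.style.haveILetI false
set_option backward.isDefEq.respectTransparency false
universe u
open CategoryTheory CategoryTheory.Limits AlgebraicGeometry Opposite IsLocalRing

namespace H9FE.SLocSect

variable (R : Type u) [CommRing R] [HenselianLocalRing R] [IsSepClosed (ResidueField R)]

/-- the closed geometric point as a point of the small étale site -/
noncomputable abbrev Φ : GrothendieckTopology.Point.{u} (Spec (CommRingCat.of R)).smallEtaleTopology :=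
  Scheme.pointSmallEtale (cpt R)

/-- the base element: the whole scheme with the closed point -/
noncomputable def e₀ : (Φ R).fiber.Elements :=
  ⟨EtCoh.top (Spec (CommRingCat.of R)), Over.homMk (cpt R) (Category.comp_id _)⟩

/-- the base element is initial -/
noncomputable def e₀IsInitial : IsInitial (e₀ R) := by
  have hex : ∀ Y : (Φ R).fiber.Elements, ∃ s : Spec (CommRingCat.of R) ⟶ Y.1.left,
      s ≫ Y.1.hom = 𝟙 _ ∧ cpt R ≫ s = Y.2.left := fun Y =>
    exists_section Y.1 Y.2.left (Over.w Y.2)
  choose s hs1 hs2 using hex
  refine IsInitial.ofUniqueHom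
    (fun Y => ⟨MorphismProperty.Over.homMk (s Y) (hs1 Y) trivial, ?_⟩) ?_
  · apply Over.OverMorphism.ext
    exact hs2 Y
  · intro Y m
    apply Subtype.ext
    apply MorphismProperty.Over.Hom.ext
    have hm1 : m.1.left ≫ Y.1.hom = 𝟙 _ := MorphismProperty.Over.w m.1
    have hm2 : cpt R ≫ m.1.left = Y.2.left := congrArg (fun f => f.left) m.2
    exact section_unique Y.1 _ _ hm1 (hs1 Y) (hm2.trans (hs2 Y).symm)

section Fiber

variable {A : Type*} [Category A] [HasColimitsOfSize.{u, u} A]

/-- the diagram computing the fibre of a presheaf -/
noncomputable abbrev Dg (P : (Spec (CommRingCat.of R)).Etaleᵒᵖ ⥤ A) :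
    (Φ R).fiber.Elementsᵒᵖ ⥤ A :=
  (CategoryOfElements.π (Φ R).fiber).op ⋙ P

/-- the fibre of a presheaf at the closed geometric point is its value on the whole scheme -/
noncomputable def presheafFiberIso (P : (Spec (CommRingCat.of R)).Etaleᵒᵖ ⥤ A) :
    (Φ R).presheafFiber.obj P ≅ P.obj (op (EtCoh.top (Spec (CommRingCat.of R)))) :=
  (colimit.isColimit (Dg R P)).coconePointUniqueUpToIso
    (colimitOfDiagramTerminal (terminalOpOfInitial (e₀IsInitial R)) (Dg R P))

lemma toPresheafFiber_presheafFiberIso_hom (P : (Spec (CommRingCat.of R)).Etaleᵒᵖ ⥤ A)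
    (X : (Spec (CommRingCat.of R)).Etale) (x : (Φ R).fiber.obj X) :
    (Φ R).toPresheafFiber X x P ≫ (presheafFiberIso R P).hom =
      (Dg R P).map ((terminalOpOfInitial (e₀IsInitial R)).from (op ⟨X, x⟩)) :=
  (colimit.isColimit (Dg R P)).comp_coconePointUniqueUpToIso_hom
    (colimitOfDiagramTerminal (terminalOpOfInitial (e₀IsInitial R)) (Dg R P)) (op ⟨X, x⟩)

lemma presheafFiberIso_naturality {P Q : (Spec (CommRingCat.of R)).Etaleᵒᵖ ⥤ A} (f : P ⟶ Q) :
    (Φ R).presheafFiber.map f ≫ (presheafFiberIso R Q).hom =
      (presheafFiberIso R P).hom ≫ f.app (op (EtCoh.top (Spec (CommRingCat.of R)))) := by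
  apply (Φ R).presheafFiber_hom_ext
  intro X x
  rw [← Category.assoc, (Φ R).toPresheafFiber_naturality f X x, Category.assoc,
    toPresheafFiber_presheafFiberIso_hom, ← Category.assoc, toPresheafFiber_presheafFiberIso_hom]
  exact (f.naturality _).symm

/-- the fibre functor on sheaves at the closed geometric point is the global sections functor -/
noncomputable def sheafFiberIso :
    (Φ R).sheafFiber (A := A) ≅
      (sheafSections (Spec (CommRingCat.of R)).smallEtaleTopology A).obj
        (op (EtCoh.top (Spec (CommRingCat.of R)))) :=
  NatIso.ofComponents (fun F => presheafFiberIso R F.obj)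
    (fun f => presheafFiberIso_naturality R f.hom)

end Fiber

end H9FE.SLocSect
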