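import Mathlib
import Groth.Agent.Lib.Helper9.FE.BCConn
import Groth.Agent.Lib.Helper9.FE.SLocFib

/-! helper9: assembly of the base change theorem for flat morphisms with geometrically connected
strict localizations.  Abstract form (`assemble`): in a cube of base change squares over
`j : W ⟶ X`, `jS : WS ⟶ S`, `p : W ⟶ WS`, if the base change maps along `j` and `jS` are
bijective on global sections and `p`, `t` have the section property `SecBij`, then the pull-back
along `j` of the base change map of the original square is bijective on global sections over `W`.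
Stalk form (`isIso_stalk_of_pull`): for `W = Spec R` with `R` strictly henselian, bijectivity of
`j⁻¹ φ` on global sections implies bijectivity of `φ` on the stalk at the closed geometric
point. -/

set_option autoImplicit false
set_option linter.unusedSectionVars false
set_option linter.style.haveILetI false
set_option backward.isDefEq.respectTransparency false
universe u
open CategoryTheory CategoryTheory.Limits AlgebraicGeometry Opposite IsLocalRing

namespace H9FE.BCAssemble
open H9FE.LimTower H9FE.LimPull H9FE.BCPaste H9FE.BCConn H9FE.SLocSect Groth.Agent.Lib.Helper5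

section Assemble

variable {X S T Y W WS YW TS : Scheme.{u}} (f : X ⟶ S) (g : T ⟶ S) (h : Y ⟶ X) (e : Y ⟶ T)
  (w1 : e ≫ g = h ≫ f)
  (j : W ⟶ X) (jS : WS ⟶ S) (p : W ⟶ WS)
  (a' : YW ⟶ Y) (sW : YW ⟶ W) (w2 : a' ≫ h = sW ≫ j)
  (b' : TS ⟶ T) (sS : TS ⟶ WS) (w1' : b' ≫ g = sS ≫ jS)
  (t : YW ⟶ TS) (wt2 : t ≫ sS = sW ≫ p)
  (G : W ⟶ S) (G' : YW ⟶ T) (w3 : G' ≫ g = sW ≫ G) (wG1 : j ≫ f = G) (wG1' : a' ≫ e = G')
  (wG2 : p ≫ jS = G) (wG2' : t ≫ b' = G')
  (F : EtCoh.Ab T)

include w3 wG1 wG1' wG2 wG2' wt2 in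
theorem assemble
    (H1 : IsIso ((EtCoh.baseChange0 h j sW a' w2 ((EtCoh.pull e).obj F)).hom.app
      (op (EtCoh.top W))))
    (H2 : IsIso ((EtCoh.baseChange0 g jS sS b' w1' F).hom.app (op (EtCoh.top WS))))
    (H3 : SecBij p) (H4 : SecBij t) :
    IsIso (((EtCoh.pull j).map (EtCoh.baseChange0 g f h e w1 F)).hom.app (op (EtCoh.top W))) := by
  have E1 := bc_paste g h sW f e j a' G G' F w1 w2 w3 wG1 wG1'
  have E2 := bc_paste g sS sW jS b' p t G G' F w1' wt2 w3 wG2 wG2'
  have E1' : (kap j f G wG1 ((EtCoh.push g).obj F)).hom.hom.app (op (EtCoh.top W)) ≫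
      (EtCoh.baseChange0 g G sW G' w3 F).hom.app (op (EtCoh.top W)) =
      ((EtCoh.pull j).map (EtCoh.baseChange0 g f h e w1 F)).hom.app (op (EtCoh.top W)) ≫
        (EtCoh.baseChange0 h j sW a' w2 ((EtCoh.pull e).obj F)).hom.app (op (EtCoh.top W)) ≫
        ((EtCoh.push sW).map (kap a' e G' wG1' F).hom).hom.app (op (EtCoh.top W)) :=
    congrArg (fun τ => τ.hom.app (op (EtCoh.top W))) E1
  have E2' : (kap p jS G wG2 ((EtCoh.push g).obj F)).hom.hom.app (op (EtCoh.top W)) ≫
      (EtCoh.baseChange0 g G sW G' w3 F).hom.app (op (EtCoh.top W)) =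
      ((EtCoh.pull p).map (EtCoh.baseChange0 g jS sS b' w1' F)).hom.app (op (EtCoh.top W)) ≫
        (EtCoh.baseChange0 sS p sW t wt2 ((EtCoh.pull b').obj F)).hom.app (op (EtCoh.top W)) ≫
        ((EtCoh.push sW).map (kap t b' G' wG2' F).hom).hom.app (op (EtCoh.top W)) :=
    congrArg (fun τ => τ.hom.app (op (EtCoh.top W))) E2
  -- the second route
  haveI I2a : IsIso (((EtCoh.pull p).map (EtCoh.baseChange0 g jS sS b' w1' F)).hom.app
      (op (EtCoh.top W))) := pull_iso p H3 _ H2
  haveI I2b : IsIso ((EtCoh.baseChange0 sS p sW t wt2 ((EtCoh.pull b').obj F)).hom.app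
      (op (EtCoh.top W))) := bc_iso p H3 t sW sS wt2 H4 ((EtCoh.pull b').obj F)
  haveI I2c : IsIso (((EtCoh.push sW).map (kap t b' G' wG2' F).hom).hom.app (op (EtCoh.top W))) :=
    isIso_app _ _
  haveI I2d : IsIso ((kap p jS G wG2 ((EtCoh.push g).obj F)).hom.hom.app (op (EtCoh.top W))) :=
    isIso_app _ _
  have J2 : IsIso ((kap p jS G wG2 ((EtCoh.push g).obj F)).hom.hom.app (op (EtCoh.top W)) ≫
      (EtCoh.baseChange0 g G sW G' w3 F).hom.app (op (EtCoh.top W))) := by
    rw [E2']; infer_instance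
  haveI JB : IsIso ((EtCoh.baseChange0 g G sW G' w3 F).hom.app (op (EtCoh.top W))) :=
    IsIso.of_isIso_comp_left
      ((kap p jS G wG2 ((EtCoh.push g).obj F)).hom.hom.app (op (EtCoh.top W))) _
  -- the first route
  haveI I1d : IsIso ((kap j f G wG1 ((EtCoh.push g).obj F)).hom.hom.app (op (EtCoh.top W))) :=
    isIso_app _ _
  haveI I1c : IsIso (((EtCoh.push sW).map (kap a' e G' wG1' F).hom).hom.app (op (EtCoh.top W))) :=
    isIso_app _ _
  haveI := H1
  have J1 : IsIso (((EtCoh.pull j).map (EtCoh.baseChange0 g f h e w1 F)).hom.app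
      (op (EtCoh.top W)) ≫
      (EtCoh.baseChange0 h j sW a' w2 ((EtCoh.pull e).obj F)).hom.app (op (EtCoh.top W)) ≫
      ((EtCoh.push sW).map (kap a' e G' wG1' F).hom).hom.app (op (EtCoh.top W))) := by
    rw [← E1']; infer_instance
  exact IsIso.of_isIso_comp_right _
    ((EtCoh.baseChange0 h j sW a' w2 ((EtCoh.pull e).obj F)).hom.app (op (EtCoh.top W)) ≫
      ((EtCoh.push sW).map (kap a' e G' wG1' F).hom).hom.app (op (EtCoh.top W)))

end Assemble

section Stalk

variable {X : Scheme.{u}} (R : Type u) [CommRing R] [HenselianLocalRing R]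
  [IsSepClosed (ResidueField R)] (j : Spec (CommRingCat.of R) ⟶ X)

/-- bijectivity on the stalk at the closed geometric point of a strict localization follows from
bijectivity of the pull-back on global sections -/
theorem isIso_stalk_of_pull {A B : EtCoh.Ab X} (φ : A ⟶ B)
    (hφ : IsIso (((EtCoh.pull j).map φ).hom.app (op (EtCoh.top (Spec (CommRingCat.of R)))))) :
    IsIso ((EtCoh.stalk (cpt R ≫ j)).map φ) := by
  have n1 := (EtStalkPull.stalkPullIso j (cpt R)).hom.naturality φ
  have n1' : (EtCoh.stalk (cpt R)).map ((EtCoh.pull j).map φ) ≫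
      (EtStalkPull.stalkPullIso j (cpt R)).hom.app B =
      (EtStalkPull.stalkPullIso j (cpt R)).hom.app A ≫ (EtCoh.stalk (cpt R ≫ j)).map φ := n1
  have n2 := presheafFiberIso_naturality R ((EtCoh.pull j).map φ).hom
  haveI := hφ
  have k1 : IsIso ((Φ R).presheafFiber.map ((EtCoh.pull j).map φ).hom ≫
      (presheafFiberIso R ((EtCoh.pull j).obj B).obj).hom) := by
    rw [n2]; infer_instance
  have k2 : IsIso ((Φ R).presheafFiber.map ((EtCoh.pull j).map φ).hom) :=
    IsIso.of_isIso_comp_right _ (presheafFiberIso R ((EtCoh.pull j).obj B).obj).hom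
  haveI k3 : IsIso ((EtCoh.stalk (cpt R)).map ((EtCoh.pull j).map φ)) := k2
  have k4 : IsIso ((EtStalkPull.stalkPullIso j (cpt R)).hom.app A ≫
      (EtCoh.stalk (cpt R ≫ j)).map φ) := by
    rw [← n1']; infer_instance
  exact IsIso.of_isIso_comp_left ((EtStalkPull.stalkPullIso j (cpt R)).hom.app A) _

end Stalk

end H9FE.BCAssemble
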