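import Mathlib

/-! helper9: base change of a cofiltered system along a morphism to one of its stages: for a
diagram `D : I ⥤ C`, a stage `i` and `v : V ⟶ D.obj i`, the diagram `a ↦ V ×_{D i} D_j` indexed by
the arrows `a : j ⟶ i` (`bcD`), its cone with vertex `V ×_{D i} c.pt` (`bcCone`), and: if a functor
`Φ` preserving pullbacks sends the cone `c` to a limit cone, it sends `bcCone` to a limit cone. -/

set_option autoImplicit false
set_option linter.unusedSectionVars false
set_option backward.isDefEq.respectTransparency false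
universe v₁ v₂ v₃ u₁ u₂ u₃
open CategoryTheory Limits

namespace H9FE.BCLim

variable {C : Type u₁} [Category.{v₁} C] [HasPullbacks C] {I : Type u₂} [Category.{v₂} I]
  (D : I ⥤ C) (i : I) {V : C} (v : V ⟶ D.obj i)

/-- the base-changed diagram -/
noncomputable def bcD : Over i ⥤ C where
  obj a := pullback (D.map a.hom) v
  map {a a'} m := pullback.lift (pullback.fst _ _ ≫ D.map m.left) (pullback.snd _ _) (by
    rw [Category.assoc, ← D.map_comp, Over.w m, pullback.condition])
  map_id a := by
    apply pullback.hom_ext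
    · simp
    · simp
  map_comp m m' := by
    apply pullback.hom_ext
    · simp
    · simp

/-- first projection -/
noncomputable def fstD (a : Over i) : (bcD D i v).obj a ⟶ D.obj a.left := pullback.fst _ _

/-- second projection -/
noncomputable def sndD (a : Over i) : (bcD D i v).obj a ⟶ V := pullback.snd _ _

lemma condD (a : Over i) : fstD D i v a ≫ D.map a.hom = sndD D i v a ≫ v := pullback.condition

@[reassoc (attr := simp)]
lemma map_fstD {a a' : Over i} (m : a ⟶ a') :
    (bcD D i v).map m ≫ fstD D i v a' = fstD D i v a ≫ D.map m.left := pullback.lift_fst _ _ _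

@[reassoc (attr := simp)]
lemma map_sndD {a a' : Over i} (m : a ⟶ a') :
    (bcD D i v).map m ≫ sndD D i v a' = sndD D i v a := pullback.lift_snd _ _ _

lemma hom_extD (a : Over i) {T : C} (p q : T ⟶ (bcD D i v).obj a)
    (h1 : p ≫ fstD D i v a = q ≫ fstD D i v a) (h2 : p ≫ sndD D i v a = q ≫ sndD D i v a) :
    p = q := pullback.hom_ext h1 h2

/-- a morphism into a member of the base-changed diagram -/
noncomputable def liftD (a : Over i) {T : C} (p : T ⟶ D.obj a.left) (q : T ⟶ V)
    (h : p ≫ D.map a.hom = q ≫ v) : T ⟶ (bcD D i v).obj a := pullback.lift p q h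

@[reassoc (attr := simp)]
lemma liftD_fst (a : Over i) {T : C} (p : T ⟶ D.obj a.left) (q : T ⟶ V)
    (h : p ≫ D.map a.hom = q ≫ v) : liftD D i v a p q h ≫ fstD D i v a = p :=
  pullback.lift_fst _ _ _

@[reassoc (attr := simp)]
lemma liftD_snd (a : Over i) {T : C} (p : T ⟶ D.obj a.left) (q : T ⟶ V)
    (h : p ≫ D.map a.hom = q ≫ v) : liftD D i v a p q h ≫ sndD D i v a = q :=
  pullback.lift_snd _ _ _

variable (c : Cone D)

/-- the base-changed cone -/
noncomputable def bcCone : Cone (bcD D i v) where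
  pt := pullback (c.π.app i) v
  π :=
    { app := fun a => pullback.lift (pullback.fst _ _ ≫ c.π.app a.left) (pullback.snd _ _) (by
        rw [Category.assoc, c.w a.hom, pullback.condition])
      naturality := fun a a' m => by
        apply pullback.hom_ext
        · simp [bcD]
        · simp [bcD] }

/-- first projection of the vertex -/
noncomputable def fstC : (bcCone D i v c).pt ⟶ c.pt := pullback.fst _ _

/-- second projection of the vertex -/
noncomputable def sndC : (bcCone D i v c).pt ⟶ V := pullback.snd _ _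

lemma condC : fstC D i v c ≫ c.π.app i = sndC D i v c ≫ v := pullback.condition

@[reassoc (attr := simp)]
lemma π_fstD (a : Over i) :
    (bcCone D i v c).π.app a ≫ fstD D i v a = fstC D i v c ≫ c.π.app a.left :=
  pullback.lift_fst _ _ _

@[reassoc (attr := simp)]
lemma π_sndD (a : Over i) :
    (bcCone D i v c).π.app a ≫ sndD D i v a = sndC D i v c := pullback.lift_snd _ _ _

/-- a morphism into the vertex of the base-changed cone -/
noncomputable def liftC {T : C} (p : T ⟶ c.pt) (q : T ⟶ V)
    (h : p ≫ c.π.app i = q ≫ v) : T ⟶ (bcCone D i v c).pt := pullback.lift p q h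

@[reassoc (attr := simp)]
lemma liftC_fst {T : C} (p : T ⟶ c.pt) (q : T ⟶ V)
    (h : p ≫ c.π.app i = q ≫ v) : liftC D i v c p q h ≫ fstC D i v c = p :=
  pullback.lift_fst _ _ _

@[reassoc (attr := simp)]
lemma liftC_snd {T : C} (p : T ⟶ c.pt) (q : T ⟶ V)
    (h : p ≫ c.π.app i = q ≫ v) : liftC D i v c p q h ≫ sndC D i v c = q :=
  pullback.lift_snd _ _ _

lemma isPullbackD (a : Over i) :
    IsPullback (fstD D i v a) (sndD D i v a) (D.map a.hom) v := IsPullback.of_hasPullback _ _

lemma isPullbackC : IsPullback (fstC D i v c) (sndC D i v c) (c.π.app i) v :=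
  IsPullback.of_hasPullback _ _

/-- the cone over the base-changed diagram with vertex a given object over `c.pt` and `V` -/
noncomputable def coneOf {P : C} (p1 : P ⟶ c.pt) (p2 : P ⟶ V)
    (w : p1 ≫ c.π.app i = p2 ≫ v) : Cone (bcD D i v) where
  pt := P
  π :=
    { app := fun a => liftD D i v a (p1 ≫ c.π.app a.left) p2 (by
        rw [Category.assoc, c.w a.hom, w])
      naturality := fun a a' m => by
        apply hom_extD
        · simp only [Functor.const_obj_obj, Functor.const_obj_map, Category.id_comp,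
            Category.assoc, liftD_fst, map_fstD, liftD_fst_assoc, Cone.w]
        · simp only [Functor.const_obj_obj, Functor.const_obj_map, Category.id_comp,
            Category.assoc, liftD_snd, map_sndD] }

@[reassoc (attr := simp)]
lemma coneOf_π_fstD {P : C} (p1 : P ⟶ c.pt) (p2 : P ⟶ V)
    (w : p1 ≫ c.π.app i = p2 ≫ v) (a : Over i) :
    (coneOf D i v c p1 p2 w).π.app a ≫ fstD D i v a = p1 ≫ c.π.app a.left :=
  liftD_fst _ _ _ _ _ _ _

@[reassoc (attr := simp)]
lemma coneOf_π_sndD {P : C} (p1 : P ⟶ c.pt) (p2 : P ⟶ V)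
    (w : p1 ≫ c.π.app i = p2 ≫ v) (a : Over i) :
    (coneOf D i v c p1 p2 w).π.app a ≫ sndD D i v a = p2 :=
  liftD_snd _ _ _ _ _ _ _

section Lim

variable {C' : Type u₃} [Category.{v₃} C'] (Φ : C ⥤ C') [PreservesLimitsOfShape WalkingCospan Φ]
  [IsCofiltered I]

/-- the image of the cone `coneOf` is a limit cone if its vertex becomes a fibre product -/
noncomputable def isLimitConeOf {P : C} (p1 : P ⟶ c.pt) (p2 : P ⟶ V)
    (w : p1 ≫ c.π.app i = p2 ≫ v)
    (hPc : IsPullback (Φ.map p1) (Φ.map p2) (Φ.map (c.π.app i)) (Φ.map v))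
    (hc : IsLimit (Φ.mapCone c)) :
    IsLimit (Φ.mapCone (coneOf D i v c p1 p2 w)) := by
  have hP : ∀ a : Over i, IsPullback (Φ.map (fstD D i v a)) (Φ.map (sndD D i v a))
      (Φ.map (D.map a.hom)) (Φ.map v) := fun a => (isPullbackD D i v a).map Φ
  have hc' : IsLimit ((Φ.mapCone c).whisker (Over.forget i)) :=
    (Functor.Initial.isLimitWhiskerEquiv (Over.forget i) (Φ.mapCone c)).symm hc
  let a0 : Over i := Over.mk (𝟙 i)
  let m0 : ∀ a : Over i, a ⟶ a0 := fun a => Over.homMk a.hom
  -- data attached to a cone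
  let σ : ∀ s : Cone (bcD D i v ⋙ Φ), s.pt ⟶ Φ.obj V :=
    fun s => s.π.app a0 ≫ Φ.map (sndD D i v a0)
  have hσ : ∀ (s : Cone (bcD D i v ⋙ Φ)) (a : Over i),
      s.π.app a ≫ Φ.map (sndD D i v a) = σ s := by
    intro s a
    have h1 : s.π.app a ≫ (bcD D i v ⋙ Φ).map (m0 a) = s.π.app a0 := s.w (m0 a)
    show _ = s.π.app a0 ≫ Φ.map (sndD D i v a0)
    rw [← h1, Category.assoc]
    show _ = s.π.app a ≫ Φ.map ((bcD D i v).map (m0 a)) ≫ Φ.map (sndD D i v a0)
    rw [← Φ.map_comp, map_sndD]
  let s' : ∀ s : Cone (bcD D i v ⋙ Φ), Cone (Over.forget i ⋙ D ⋙ Φ) := fun s =>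
    { pt := s.pt
      π :=
        { app := fun a => s.π.app a ≫ Φ.map (fstD D i v a)
          naturality := fun a a' m => by
            have h1 : s.π.app a ≫ (bcD D i v ⋙ Φ).map m = s.π.app a' := s.w m
            show 𝟙 _ ≫ s.π.app a' ≫ Φ.map (fstD D i v a') =
              (s.π.app a ≫ Φ.map (fstD D i v a)) ≫ Φ.map (D.map m.left)
            rw [Category.id_comp, ← h1, Category.assoc, Category.assoc]
            show s.π.app a ≫ Φ.map ((bcD D i v).map m) ≫ Φ.map (fstD D i v a') = _
            rw [← Φ.map_comp, ← Φ.map_comp, map_fstD] } }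
  let τ : ∀ s : Cone (bcD D i v ⋙ Φ), s.pt ⟶ Φ.obj c.pt := fun s => hc'.lift (s' s)
  have hτ : ∀ (s : Cone (bcD D i v ⋙ Φ)) (a : Over i),
      τ s ≫ Φ.map (c.π.app a.left) = s.π.app a ≫ Φ.map (fstD D i v a) :=
    fun s a => hc'.fac (s' s) a
  have hw : ∀ s : Cone (bcD D i v ⋙ Φ), τ s ≫ Φ.map (c.π.app i) = σ s ≫ Φ.map v := by
    intro s
    have h1 := hτ s a0
    have h2 : Φ.map (fstD D i v a0) = Φ.map (sndD D i v a0) ≫ Φ.map v := by
      have e : fstD D i v a0 ≫ D.map a0.hom = fstD D i v a0 :=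
        (congrArg (fun z => fstD D i v a0 ≫ z) (D.map_id i)).trans (Category.comp_id _)
      rw [← Φ.map_comp, ← condD, e]
    show τ s ≫ Φ.map (c.π.app a0.left) = _
    rw [h1, h2]
    show _ = (s.π.app a0 ≫ Φ.map (sndD D i v a0)) ≫ Φ.map v
    rw [Category.assoc]
  refine
    { lift := fun s => hPc.lift (τ s) (σ s) (hw s)
      fac := fun s a => ?_
      uniq := fun s m hm => ?_ }
  · apply (hP a).hom_ext
    · show (hPc.lift (τ s) (σ s) (hw s) ≫ Φ.map ((coneOf D i v c p1 p2 w).π.app a)) ≫
        Φ.map (fstD D i v a) = _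
      rw [Category.assoc, ← Φ.map_comp, coneOf_π_fstD, Φ.map_comp, ← Category.assoc, hPc.lift_fst]
      exact hτ s a
    · show (hPc.lift (τ s) (σ s) (hw s) ≫ Φ.map ((coneOf D i v c p1 p2 w).π.app a)) ≫
        Φ.map (sndD D i v a) = _
      rw [Category.assoc, ← Φ.map_comp, coneOf_π_sndD, hPc.lift_snd]
      exact (hσ s a).symm
  · apply hPc.hom_ext
    · rw [hPc.lift_fst]
      apply hc'.hom_ext
      intro a
      show (m ≫ Φ.map p1) ≫ Φ.map (c.π.app a.left) = τ s ≫ Φ.map (c.π.app a.left)
      rw [hτ s a, Category.assoc, ← Φ.map_comp, ← coneOf_π_fstD D i v c p1 p2 w a, Φ.map_comp, ← Category.assoc]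
      congr 1
      exact hm a
    · rw [hPc.lift_snd]
      show m ≫ Φ.map p2 = s.π.app a0 ≫ Φ.map (sndD D i v a0)
      have e := coneOf_π_sndD D i v c p1 p2 w a0
      have e' : Φ.map p2 =
          Φ.map ((coneOf D i v c p1 p2 w).π.app a0) ≫ Φ.map (sndD D i v a0) := by
        rw [← Φ.map_comp, e]
      rw [e', ← Category.assoc]
      congr 1
      exact hm a0

lemma bcCone_eq : bcCone D i v c = coneOf D i v c (fstC D i v c) (sndC D i v c) (condC D i v c) := rfl

/-- the image of the base-changed cone is a limit cone -/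
noncomputable def bcIsLimit (hc : IsLimit (Φ.mapCone c)) :
    IsLimit (Φ.mapCone (bcCone D i v c)) :=
  isLimitConeOf D i v c Φ (fstC D i v c) (sndC D i v c) (condC D i v c)
    ((isPullbackC D i v c).map Φ) hc

end Lim

end H9FE.BCLim
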