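import Mathlib
import Groth.Agent.Lib.Helper3.RDerL

/-! helper9: comparison of right derived functors along exact functors: if `θ : H ⋙ Ψ ≅ Φ ⋙ G`
with `Φ`, `Ψ` exact and `Φ` sending injectives to `G`-acyclic objects, then
`R^q G (Φ A) ≅ Ψ (R^q H A)` for all `q` (dimension shifting). -/

set_option autoImplicit false
set_option linter.unusedSectionVars false
set_option linter.style.haveILetI false
set_option backward.isDefEq.respectTransparency false
universe v₁ u₁ v₂ u₂ v₃ u₃ v₄ u₄
open CategoryTheory Limits Abelian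

namespace H9FE.DerCompare

section One

variable {C : Type u₁} [Category.{v₁} C] [Abelian C] [EnoughInjectives C]
  {D : Type u₂} [Category.{v₂} D] [Abelian D] (K : C ⥤ D) [K.Additive]

/-- the connecting morphisms are isomorphisms in degrees `≥ 1` when the middle term is acyclic -/
lemma shift_iso (S : ShortComplex C) (hS : S.ShortExact)
    (h2 : ∀ n : ℕ, IsZero ((K.rightDerived (n + 1)).obj S.X₂)) (n : ℕ) :
    Nonempty ((K.rightDerived (n + 1)).obj S.X₃ ≅ (K.rightDerived (n + 2)).obj S.X₁) := by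
  let L := Groth.Agent.Helper3.RDerL.derivedLES K
  have e1 := L.exact₁ S hS (n + 1) (n + 2) rfl
  have e3 := L.exact₃ S hS (n + 1) (n + 2) rfl
  haveI : Epi (L.δ S hS (n + 1) (n + 2) rfl) := e1.epi_f ((h2 (n + 1)).eq_of_tgt _ _)
  haveI : Mono (L.δ S hS (n + 1) (n + 2) rfl) := e3.mono_g ((h2 n).eq_of_src _ _)
  haveI : IsIso (L.δ S hS (n + 1) (n + 2) rfl) := isIso_of_mono_of_epi _
  exact ⟨asIso (L.δ S hS (n + 1) (n + 2) rfl)⟩

/-- the first derived functor as a cokernel when the middle term is acyclic -/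
lemma first_iso (S : ShortComplex C) (hS : S.ShortExact)
    (h2 : IsZero ((K.rightDerived 1).obj S.X₂)) :
    Nonempty ((K.rightDerived 1).obj S.X₁ ≅ cokernel ((K.rightDerived 0).map S.g)) := by
  let L := Groth.Agent.Helper3.RDerL.derivedLES K
  have e1 := L.exact₁ S hS 0 1 rfl
  have e3 := L.exact₃ S hS 0 1 rfl
  haveI : Epi (L.δ S hS 0 1 rfl) := e1.epi_f (h2.eq_of_tgt _ _)
  haveI : Epi (ShortComplex.mk ((K.rightDerived 0).map S.g) (L.δ S hS 0 1 rfl)
    (L.comp_δ S hS 0 1 rfl)).g := this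
  exact ⟨(IsColimit.coconePointUniqueUpToIso (cokernelIsCokernel _) e3.gIsCokernel).symm⟩

/-- the cokernel of `R^0 K` of a map is the cokernel of `K` of the map -/
noncomputable def cokerZero [PreservesFiniteLimits K] {A B : C} (g : A ⟶ B) :
    cokernel ((K.rightDerived 0).map g) ≅ cokernel (K.map g) :=
  cokernel.mapIso _ _ (K.rightDerivedZeroIsoSelf.app A) (K.rightDerivedZeroIsoSelf.app B)
    (K.rightDerivedZeroIsoSelf.hom.naturality g)

end One

section Main

variable {C : Type u₁} [Category.{v₁} C] [Abelian C] [EnoughInjectives C]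
  {D : Type u₂} [Category.{v₂} D] [Abelian D] [EnoughInjectives D]
  {E : Type u₃} [Category.{v₃} E] [Abelian E]
  {E' : Type u₄} [Category.{v₄} E'] [Abelian E']
  (Φ : C ⥤ D) (G : D ⥤ E) (H : C ⥤ E') (Ψ : E' ⥤ E)
  [Φ.Additive] [G.Additive] [H.Additive] [Ψ.Additive]
  [PreservesFiniteLimits Φ] [PreservesFiniteColimits Φ]
  [PreservesFiniteLimits G] [PreservesFiniteLimits H]
  [PreservesFiniteLimits Ψ] [PreservesFiniteColimits Ψ]
  (θ : H ⋙ Ψ ≅ Φ ⋙ G)
  (hacy : ∀ (I : C), Injective I → ∀ n : ℕ, IsZero ((G.rightDerived (n + 1)).obj (Φ.obj I)))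

/-- the standard short exact sequence `0 ⟶ A ⟶ I ⟶ Q ⟶ 0` with `I` injective -/
noncomputable abbrev ses (A : C) : ShortComplex C :=
  ShortComplex.mk (Injective.ι A) (cokernel.π (Injective.ι A)) (cokernel.condition _)

lemma ses_shortExact (A : C) : (ses A).ShortExact :=
  { exact := ShortComplex.exact_cokernel (Injective.ι A)
    mono_f := (inferInstance : Mono (Injective.ι A))
    epi_g := (inferInstance : Epi (cokernel.π (Injective.ι A))) }

include θ in
lemma main_zero (A : C) :
    Nonempty ((G.rightDerived 0).obj (Φ.obj A) ≅ Ψ.obj ((H.rightDerived 0).obj A)) :=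
  ⟨G.rightDerivedZeroIsoSelf.app (Φ.obj A) ≪≫ (θ.app A).symm ≪≫
    Ψ.mapIso (H.rightDerivedZeroIsoSelf.app A).symm⟩

include θ hacy in
lemma main_one (A : C) :
    Nonempty ((G.rightDerived 1).obj (Φ.obj A) ≅ Ψ.obj ((H.rightDerived 1).obj A)) := by
  have hS := ses_shortExact A
  have hS' : ((ses A).map Φ).ShortExact := hS.map_of_exact Φ
  obtain ⟨e1⟩ := first_iso G ((ses A).map Φ) hS' (hacy (Injective.under A) inferInstance 0)
  obtain ⟨e2⟩ := first_iso H (ses A) hS
    (Functor.isZero_rightDerived_obj_injective_succ H 0 (Injective.under A))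
  let g := cokernel.π (Injective.ι A)
  let ea : cokernel ((G.rightDerived 0).map (Φ.map g)) ≅ cokernel (G.map (Φ.map g)) :=
    cokerZero G (Φ.map g)
  let eb : cokernel ((H ⋙ Ψ).map g) ≅ cokernel ((Φ ⋙ G).map g) :=
    cokernel.mapIso _ _ (θ.app _) (θ.app _) (θ.hom.naturality g)
  let ec : Ψ.obj (cokernel (H.map g)) ≅ cokernel (Ψ.map (H.map g)) :=
    PreservesCokernel.iso Ψ (H.map g)
  let ed : cokernel ((H.rightDerived 0).map g) ≅ cokernel (H.map g) := cokerZero H g
  exact ⟨e1 ≪≫ ea ≪≫ eb.symm ≪≫ ec.symm ≪≫ Ψ.mapIso (ed.symm ≪≫ e2.symm)⟩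

include θ hacy in
theorem main_succ (q : ℕ) : ∀ A : C,
    Nonempty ((G.rightDerived (q + 1)).obj (Φ.obj A) ≅ Ψ.obj ((H.rightDerived (q + 1)).obj A)) := by
  induction q with
  | zero => exact fun A => main_one Φ G H Ψ θ hacy A
  | succ q ih =>
    intro A
    have hS := ses_shortExact A
    have hS' : ((ses A).map Φ).ShortExact := hS.map_of_exact Φ
    obtain ⟨e1⟩ := shift_iso G ((ses A).map Φ) hS'
      (fun n => hacy (Injective.under A) inferInstance n) q
    obtain ⟨e2⟩ := shift_iso H (ses A) hS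
      (fun n => Functor.isZero_rightDerived_obj_injective_succ H n (Injective.under A)) q
    obtain ⟨e3⟩ := ih (cokernel (Injective.ι A))
    exact ⟨e1.symm ≪≫ e3 ≪≫ Ψ.mapIso e2⟩

include θ hacy in
/-- comparison of derived functors -/
theorem main (q : ℕ) (A : C) :
    Nonempty ((G.rightDerived q).obj (Φ.obj A) ≅ Ψ.obj ((H.rightDerived q).obj A)) := by
  cases q with
  | zero => exact main_zero Φ G H Ψ θ A
  | succ q => exact main_succ Φ G H Ψ θ hacy q A

end Main

end H9FE.DerCompare
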