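import Mathlib
import Groth.Prelude.Def_EtBase
import Groth.Prelude.Def_EtCore
import Groth.Agent.Lib.Helper9.FE.EtQcClass
import Groth.Agent.Lib.Helper9.FE.SiteCechColim
import Groth.Agent.Lib.Helper9.FE.ExtFilteredColim

/-! helper9: étale cohomology of a quasi-compact quasi-separated scheme commutes with filtered
colimits of abelian sheaves (elementwise form and `PreservesColimitsOfShape`). -/

set_option autoImplicit false
set_option linter.unusedSectionVars false
set_option linter.style.haveILetI false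
set_option backward.isDefEq.respectTransparency false
universe u
open CategoryTheory Limits Opposite AlgebraicGeometry Abelian

namespace H9FE.EtHColim

open H9FE.SiteSectColim H9FE.EtQcClass H9FE.CechCartanG H9FE.SiteCechColim H9FE.ExtFilteredColim

variable (X : Scheme.{u})

/-- the constant sheaf `ℤ` -/
noncomputable abbrev ZZ : EtCoh.Ab X :=
  (constantSheaf X.smallEtaleTopology AddCommGrpCat.{u + 1}).obj (AddCommGrpCat.of (ULift ℤ))

/-- the class of coverings used in Cartan's criterion: finite families of quasi-compact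
quasi-separated objects covering a quasi-compact quasi-separated object -/
def Cov (V : X.Etale) (ι : Type (u + 1)) (Y : ι → Over V) : Prop :=
  V ∈ qcB X ∧ Finite ι ∧ (∀ i, (Y i).left ∈ qcB X) ∧
    Sieve.ofArrows (fun i => (Y i).left) (fun i => (Y i).hom) ∈ X.smallEtaleTopology V

lemma cov_h1 (V : X.Etale) (ι : Type (u + 1)) (Y : ι → Over V) (h : Cov X V ι Y) :
    V ∈ qcB X ∧ Sieve.ofArrows (fun i => (Y i).left) (fun i => (Y i).hom) ∈
      X.smallEtaleTopology V ∧ ∀ (p : ℕ) (a : Fin (p + 1) → ι),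
        (∏ᶜ fun k => Y (a k)).left ∈ qcB X :=
  ⟨h.1, h.2.2.2, fun p a => cech_obj_mem_qcB h.1 Y h.2.2.1 p a⟩

lemma cov_h2 (V : X.Etale) (hV : V ∈ qcB X) (T : Sieve V) (hT : T ∈ X.smallEtaleTopology V) :
    ∃ (ι : Type (u + 1)) (Y : ι → Over V), Cov X V ι Y ∧ ∀ i, T.arrows (Y i).hom := by
  obtain ⟨n, W, g, hWB, hTg, hcov⟩ := (qcClass X).fin V hV T hT
  refine ⟨ULift.{u + 1} (Fin n), fun i => Over.mk (g i.down), ⟨hV, inferInstance,
    fun i => hWB i.down, ?_⟩, fun i => hTg i.down⟩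
  refine X.smallEtaleTopology.superset_covering ?_ hcov
  rintro Z f ⟨Y', k, l, hl, rfl⟩
  obtain ⟨i⟩ := hl
  exact ⟨_, k, _, Presieve.ofArrows.mk (ULift.up i), rfl⟩

lemma top_mem [CompactSpace X] [QuasiSeparatedSpace X] : EtCoh.top X ∈ qcB X :=
  ⟨(inferInstance : CompactSpace ↥X), (inferInstance : QuasiSeparatedSpace ↥X)⟩

/-- morphisms out of the constant sheaf lift along maps which are surjective on global sections -/
lemma hZ (S : ShortComplex (EtCoh.Ab X))
    (hs : Function.Surjective (S.g.hom.app (op (EtCoh.top X))).hom) (ψ : ZZ X ⟶ S.X₃) :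
    ∃ ψ' : ZZ X ⟶ S.X₂, ψ' ≫ S.g = ψ := by
  let hT := EtCore.topIsTerminal X
  obtain ⟨t, ht⟩ := hs (Sheaf.H.equiv₀ S.X₃ hT (Ext.mk₀ ψ))
  let y : Sheaf.H S.X₂ 0 := (Sheaf.H.equiv₀ S.X₂ hT).symm t
  obtain ⟨ψ', hψ'⟩ := (Ext.mk₀_bijective (ZZ X) S.X₂).2 y
  refine ⟨ψ', ?_⟩
  apply (Ext.mk₀_bijective (ZZ X) S.X₃).1
  rw [← Ext.mk₀_comp_mk₀, hψ']
  have h1 := Sheaf.H.equiv₀_symm_naturality (hT := hT) S.g t
  rw [Sheaf.H.map_apply] at h1
  refine h1.trans ?_
  have ht' : S.g.hom.app (op (EtCoh.top X)) t = Sheaf.H.equiv₀ S.X₃ hT (Ext.mk₀ ψ) := ht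
  rw [ht', AddEquiv.symm_apply_apply]

section Main

variable {J : Type (u + 1)} [SmallCategory J] [IsFiltered J] [CompactSpace X] [QuasiSeparatedSpace X]

/-- a filtered colimit of injective abelian sheaves on a qcqs scheme is acyclic -/
lemma hacyc (I : J ⥤ EtCoh.Ab X) (hI : ∀ j, Injective (I.obj j)) (n : ℕ)
    (x : Ext.{u + 1} (ZZ X) (colimit I) (n + 1)) : x = 0 := by
  refine cartan X.smallEtaleTopology (qcB X) (Cov X) (cov_h1 X) (cov_h2 X) (ZZ X) (EtCoh.top X)
    (top_mem X) (hZ X) (colimit I) ?_ n x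
  intro V ι Y h p
  haveI : Finite ι := h.2.1
  exact isZero_cechH_colimit I (qcClass X) Y (cov_h1 X V ι Y h).2.2 (colimit.cocone I)
    (colimit.isColimit I) p (fun j => isZero_cechH_of_injective _ (I.obj j) Y p)

lemma push_eq_map {A B : EtCoh.Ab X} (φ : A ⟶ B) {n : ℕ} (y : Ext.{u + 1} (ZZ X) A n) :
    push φ y = Sheaf.H.map φ n y := rfl

lemma h0 (D : J ⥤ EtCoh.Ab X) : HSurj (ZZ X) D 0 ∧ HInj (ZZ X) D 0 := by
  let hT := EtCore.topIsTerminal X
  refine ⟨?_, ?_⟩
  · intro x
    obtain ⟨j, y, hy⟩ := sect_surj D (qcClass X) (colimit.cocone D) (colimit.isColimit D)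
      (top_mem X) (Sheaf.H.equiv₀ (colimit D) hT x)
    refine ⟨j, (Sheaf.H.equiv₀ (D.obj j) hT).symm y, ?_⟩
    rw [push_eq_map]
    refine (Sheaf.H.equiv₀_symm_naturality (hT := hT) (colimit.ι D j) y).trans ?_
    have hy' : (colimit.ι D j).hom.app (op (EtCoh.top X)) y =
      Sheaf.H.equiv₀ (colimit D) hT x := hy
    rw [hy', AddEquiv.symm_apply_apply]
  · intro j y hy
    rw [push_eq_map] at hy
    have h1 : (colimit.ι D j).hom.app (op (EtCoh.top X)) (Sheaf.H.equiv₀ (D.obj j) hT y) = 0 := by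
      refine (Sheaf.H.equiv₀_naturality (hT := hT) (colimit.ι D j) y).trans ?_
      rw [hy, map_zero]
    obtain ⟨k, f, hf⟩ := sect_inj D (qcClass X) (colimit.cocone D) (colimit.isColimit D)
      (top_mem X) j (Sheaf.H.equiv₀ (D.obj j) hT y) h1
    refine ⟨k, f, ?_⟩
    rw [push_eq_map]
    apply (Sheaf.H.equiv₀ (D.obj k) hT).injective
    rw [map_zero]
    exact (Sheaf.H.equiv₀_naturality (hT := hT) (D.map f) y).symm.trans hf

/-- every class in `H^n(X, colim D)` comes from some stage, and a class at some stage dying in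
the colimit dies at a later stage -/
theorem hsurj_hinj_et (n : ℕ) (D : J ⥤ EtCoh.Ab X) : HSurj (ZZ X) D n ∧ HInj (ZZ X) D n :=
  hsurj_hinj (h0 X) (hacyc X) n D

lemma HF_map_apply {A B : EtCoh.Ab X} (φ : A ⟶ B) (n : ℕ) (y : Ext.{u + 1} (ZZ X) A n) :
    ((EtCoh.HF X n).map φ).hom y = push φ y := rfl

/-- étale cohomology of a qcqs scheme commutes with filtered colimits indexed by categories in
`Type (u + 1)` -/
theorem preserves_big (n : ℕ) : PreservesColimitsOfShape J (EtCoh.HF X n) := by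
  constructor
  intro K
  apply preservesColimit_of_preserves_colimit_cocone (colimit.isColimit K)
  haveI : ReflectsColimitsOfShape J (forget AddCommGrpCat.{u + 1}) :=
    reflectsColimitsOfShape_of_reflectsIsomorphisms
  apply isColimitOfReflects (forget AddCommGrpCat.{u + 1})
  obtain ⟨hs, hi⟩ := hsurj_hinj_et X n K
  apply Types.FilteredColimit.isColimitOf'
  · intro x
    obtain ⟨j, y, hy⟩ := hs x
    exact ⟨j, y, hy.symm⟩
  · intro i x y hxy
    have hxy' : push (colimit.ι K i) (x : Ext.{u + 1} (ZZ X) (K.obj i) n) =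
      push (colimit.ι K i) (y : Ext.{u + 1} (ZZ X) (K.obj i) n) := hxy
    have h0 : push (colimit.ι K i) ((x : Ext.{u + 1} (ZZ X) (K.obj i) n) - y) = 0 := by
      rw [push_sub, hxy', sub_self]
    obtain ⟨k, f, hf⟩ := hi i _ h0
    refine ⟨k, f, ?_⟩
    rw [push_sub, sub_eq_zero] at hf
    exact hf

end Main

/-- étale cohomology of a qcqs scheme commutes with small filtered colimits -/
theorem preserves_small [CompactSpace X] [QuasiSeparatedSpace X] (n : ℕ)
    (J : Type u) [SmallCategory J] [IsFiltered J] :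
    PreservesColimitsOfShape J (EtCoh.HF X n) := by
  let e : J ≌ AsSmall.{u + 1} J := AsSmall.equiv
  haveI : IsFiltered (AsSmall.{u + 1} J) := IsFiltered.of_equivalence e
  haveI := preserves_big X (J := AsSmall.{u + 1} J) n
  exact preservesColimitsOfShape_of_equiv e.symm (EtCoh.HF X n)

end H9FE.EtHColim
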