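import Mathlib
import Groth.Prelude.Def_EtCore
import Groth.Prelude.Def_EtLim
import Groth.Agent.Lib.Helper9.FE.LimTower
import Groth.Agent.Lib.Helper9.FE.EtHColim

/-! helper9: cohomology of a limit of schemes, nullity criterion: a system of abelian sheaves on the
stages of a directed inverse system of schemes all of whose sections over affine objects die at a
later stage is cohomologically null (`null_of_sections`), when the stage is quasi-compact and
quasi-separated.  Also: a morphism of abelian étale sheaves vanishing on affine objects is zero. -/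

set_option autoImplicit false
set_option linter.unusedSectionVars false
set_option linter.style.haveILetI false
set_option backward.isDefEq.respectTransparency false
universe u
open CategoryTheory CategoryTheory.Limits AlgebraicGeometry Opposite Abelian

namespace H9FE.LimNull
open H9FE.LimTower H9FE.EtTr H9FE.ExtFilteredColim Groth.Agent.Lib.Helper5

/-- sections of an abelian sheaf agreeing on a covering sieve are equal -/
lemma ab_sect_ext {X : Scheme.{u}} (F : EtCoh.Ab X) {U : X.Etale} (R : Sieve U)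
    (hR : R ∈ X.smallEtaleTopology U) (s t : F.obj.obj (op U))
    (h : ∀ ⦃W : X.Etale⦄ (g : W ⟶ U), R g → F.obj.map g.op s = F.obj.map g.op t) : s = t := by
  have hsh : Presieve.IsSheaf X.smallEtaleTopology (F.obj ⋙ forget AddCommGrpCat.{u + 1}) :=
    (isSheaf_iff_isSheaf_of_type _ _).1
      ((sheafCompose X.smallEtaleTopology (forget AddCommGrpCat.{u + 1})).obj F).2
  exact (hsh.isSeparated _ hR).ext (fun _ g hg => h g hg)

/-- the affine objects mapping to `U` generate a covering sieve -/
lemma affine_sieve_mem {X : Scheme.{u}} (U : X.Etale) :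
    (Sieve.generate (fun (W : X.Etale) (_ : W ⟶ U) => IsAffine W.left) : Sieve U) ∈
      X.smallEtaleTopology U := by
  rw [EtSiteBasic.mem_smallEtale_iff]
  intro x
  obtain ⟨_, ⟨V, hV, rfl⟩, hxV, -⟩ := U.left.isBasis_affineOpens.exists_subset_of_mem_open
      (Set.mem_univ x) isOpen_univ
  haveI : Etale U.hom := U.prop
  let V' : U.left.Opens := V
  let W : X.Etale := EtSiteBasic.ofEtale (V'.ι ≫ U.hom)
  let g : W ⟶ U := MorphismProperty.Over.homMk V'.ι rfl trivial
  refine ⟨W, g, ⟨x, hxV⟩, ⟨W, 𝟙 _, g, ?_, Category.id_comp _⟩, rfl⟩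
  exact hV

/-- a morphism of abelian sheaves vanishing on sections over affine objects is zero -/
lemma hom_eq_zero_of_affine {X : Scheme.{u}} {A B : EtCoh.Ab X} (φ : A ⟶ B)
    (h : ∀ (V : X.Etale), IsAffine V.left → ∀ s : A.obj.obj (op V), φ.hom.app (op V) s = 0) :
    φ = 0 := by
  apply Sheaf.hom_ext
  ext V s
  obtain ⟨V⟩ := V
  apply ab_sect_ext B _ (affine_sieve_mem V)
  rintro W g ⟨W', a, b, hb, rfl⟩
  have hb' : IsAffine W'.left := hb
  have e := φ.hom.naturality b.op
  have e2 := ConcreteCategory.congr_hom e s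
  simp only [ConcreteCategory.comp_apply] at e2
  rw [h W' hb'] at e2
  have e3 : B.obj.map (a ≫ b).op = B.obj.map b.op ≫ B.obj.map a.op := by
    rw [op_comp, Functor.map_comp]
  have z : ((0 : A ⟶ B).hom.app (op V)) s = 0 := rfl
  change (B.obj.map (a ≫ b).op) (φ.hom.app (op V) s) = (B.obj.map (a ≫ b).op) ((0 : A ⟶ B).hom.app (op V) s)
  rw [z, map_zero, e3, ConcreteCategory.comp_apply, ← e2, map_zero]

section Null

variable {ι : Type u} [Preorder ι] [IsDirected ι (· ≤ ·)] {Xs : ιᵒᵖ ⥤ Scheme.{u}} (N : Sys Xs)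
  (j : ι)

/-- the indices above `j` -/
abbrev Up (j : ι) : Type u := {k : ι // j ≤ k}

instance : IsDirected (Up j) (· ≤ ·) := ⟨fun a b => by
  obtain ⟨c, hac, hbc⟩ := exists_ge_ge a.1 b.1
  exact ⟨⟨c, a.2.trans hac⟩, hac, hbc⟩⟩

instance : Nonempty (Up j) := ⟨⟨j, le_refl j⟩⟩

lemma ker_mono {k l : ι} (hk : j ≤ k) (hkl : k ≤ l) :
    kernel.ι (N.θ hk) ≫ Abelian.coimage.π (N.θ (hk.trans hkl)) = 0 := by
  rw [← cancel_mono (Abelian.factorThruCoimage (N.θ (hk.trans hkl))), Category.assoc,
    Abelian.coimage.fac, zero_comp, ← N.cocycle hk hkl, kernel.condition_assoc, zero_comp]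

/-- the diagram of coimages of the transition maps out of `N_j` -/
noncomputable def E : Up j ⥤ EtCoh.Ab (XX Xs j) where
  obj k := Abelian.coimage (N.θ k.2)
  map {k l} f := cokernel.desc _ (Abelian.coimage.π (N.θ l.2)) (ker_mono N j k.2 (leOfHom f))
  map_id k := by
    rw [← cancel_epi (cokernel.π (kernel.ι (N.θ k.2))), cokernel.π_desc]
    exact (Category.comp_id _).symm
  map_comp {k l m} f g := by
    rw [← cancel_epi (cokernel.π (kernel.ι (N.θ k.2))), cokernel.π_desc, cokernel.π_desc_assoc]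
    exact (cokernel.π_desc _ _ _).symm

lemma π_E_map {k l : Up j} (f : k ⟶ l) :
    Abelian.coimage.π (N.θ k.2) ≫ (E N j).map f = Abelian.coimage.π (N.θ l.2) :=
  cokernel.π_desc _ _ _

lemma mono_sect_injective {X : Scheme.{u}} {A B : EtCoh.Ab X} (φ : A ⟶ B) [Mono φ]
    (V : X.Etale) : Function.Injective (φ.hom.app (op V)) := by
  have h1 : Mono φ.hom := (Sheaf.Hom.mono_iff_presheaf_mono _ _ φ).1 inferInstance
  have h2 : Mono (φ.hom.app (op V)) := (NatTrans.mono_iff_mono_app φ.hom).1 h1 (op V)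
  exact (AddCommGrpCat.mono_iff_injective _).1 h2

/-- abstract form: a compatible family of maps into a filtered diagram which kills every section
over affine objects at some stage kills every cohomology class at some stage -/
theorem null_abstract {X : Scheme.{u}} [CompactSpace X] [QuasiSeparatedSpace X]
    {J : Type (u + 1)} [SmallCategory J] [IsFiltered J] (D : J ⥤ EtCoh.Ab X) (A : EtCoh.Ab X)
    (π : ∀ k, A ⟶ D.obj k) (hπ : ∀ {k l : J} (f : k ⟶ l), π k ≫ D.map f = π l)
    (hN : ∀ (V : X.Etale), IsAffine V.left → ∀ s : A.obj.obj (op V),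
      ∃ k, (π k).hom.app (op V) s = 0)
    (n : ℕ) (ξ : EtCoh.H X A n) : ∃ k, ((EtCoh.HF X n).map (π k)).hom ξ = 0 := by
  haveI : Nonempty J := IsFiltered.nonempty
  let j0 : J := Classical.arbitrary J
  let η : A ⟶ colimit D := π j0 ≫ colimit.ι D j0
  have hη : ∀ k, η = π k ≫ colimit.ι D k := by
    intro k
    let m := IsFiltered.max j0 k
    have h1 : η = π m ≫ colimit.ι D m := by
      rw [← hπ (IsFiltered.leftToMax j0 k), Category.assoc, colimit.w]
    have h2 : π k ≫ colimit.ι D k = π m ≫ colimit.ι D m := by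
      rw [← hπ (IsFiltered.rightToMax j0 k), Category.assoc, colimit.w]
    rw [h1, h2]
  have hη0 : η = 0 := by
    apply hom_eq_zero_of_affine
    intro V hV s
    obtain ⟨k, hs⟩ := hN V hV s
    rw [hη k]
    change (colimit.ι D k).hom.app (op V) ((π k).hom.app (op V) s) = 0
    rw [hs, map_zero]
  have hi := (H9FE.EtHColim.hsurj_hinj_et X n D).2
  have h0 : push (colimit.ι D j0) (push (π j0) ξ) = 0 := by
    rw [← push_comp]
    change push η ξ = 0
    rw [hη0]
    unfold push
    rw [Ext.mk₀_zero, Ext.comp_zero]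
  obtain ⟨k, f, hf⟩ := hi j0 (push (π j0) ξ) h0
  refine ⟨k, ?_⟩
  rw [← push_comp, hπ f] at hf
  exact hf

/-- a system which is null on sections over affine objects is cohomologically null -/
theorem null_of_sections [CompactSpace (XX Xs j)] [QuasiSeparatedSpace (XX Xs j)]
    (hN : ∀ (V : (XX Xs j).Etale), IsAffine V.left → ∀ s : (N.obj j).obj.obj (op V),
      ∃ (k : ι) (h : j ≤ k), (N.θ h).hom.app (op V) s = 0)
    (n : ℕ) (ξ : EtCoh.H (XX Xs j) (N.obj j) n) :
    ∃ (k : ι) (h : j ≤ k), N.T h n ξ = 0 := by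
  haveI : IsFiltered (AsSmall.{u + 1} (Up j)) := IsFiltered.of_equivalence AsSmall.equiv
  have hN' : ∀ (V : (XX Xs j).Etale), IsAffine V.left → ∀ s : (N.obj j).obj.obj (op V),
      ∃ k : AsSmall.{u + 1} (Up j),
        (Abelian.coimage.π (N.θ (AsSmall.down.obj k).2)).hom.app (op V) s = 0 := by
    intro V hV s
    obtain ⟨k, h, hs⟩ := hN V hV s
    refine ⟨AsSmall.up.obj ⟨k, h⟩, ?_⟩
    apply mono_sect_injective (Abelian.factorThruCoimage (N.θ h)) V
    rw [map_zero]
    have e : Abelian.coimage.π (N.θ h) ≫ Abelian.factorThruCoimage (N.θ h) = N.θ h :=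
      Abelian.coimage.fac _
    have e2 := congrArg (fun τ => τ.hom.app (op V)) e
    exact (ConcreteCategory.congr_hom e2 s).trans hs
  obtain ⟨k, hk⟩ := null_abstract (AsSmall.down ⋙ E N j) (N.obj j)
    (fun k => Abelian.coimage.π (N.θ (AsSmall.down.obj k).2))
    (fun {k l} f => π_E_map N j (AsSmall.down.map f)) hN' n ξ
  refine ⟨(AsSmall.down.obj k).1, (AsSmall.down.obj k).2, ?_⟩
  unfold Sys.T
  have e : N.θ (AsSmall.down.obj k).2 = Abelian.coimage.π (N.θ (AsSmall.down.obj k).2) ≫
      Abelian.factorThruCoimage (N.θ (AsSmall.down.obj k).2) := (Abelian.coimage.fac _).symm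
  rw [e]
  refine (tr_comp_left _ _ _ n ξ).trans ?_
  have hk' : ((EtCoh.HF (XX Xs j) n).map
      (Abelian.coimage.π (N.θ (AsSmall.down.obj k).2))).hom ξ = 0 := hk
  rw [hk', map_zero]

end Null

end H9FE.LimNull
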