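import Mathlib
import Groth.Prelude.Def_EtCore
import Groth.Prelude.Def_EtLim
import Groth.Agent.Lib.Helper9.FE.LimTower
import Groth.Agent.Lib.Helper9.FE.LimNull1

/-! helper9: cohomology of a limit of schemes, geometry part 1: the inverse `pcInv` of the comparison
morphism `pcMor` (and `pc.inv` on sections), and for an étale `X_j`-scheme `V` the base-changed tower
`k ↦ V ×_{X_j} X_k` (`Dv`) with its limit cone `cv` with vertex `V ×_{X_j} X` (`cvIsLimit`). -/

set_option autoImplicit false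
set_option linter.unusedSectionVars false
set_option linter.style.haveILetI false
set_option backward.isDefEq.respectTransparency false
universe u
open CategoryTheory CategoryTheory.Limits AlgebraicGeometry Opposite

namespace H9FE.LimGeom
open H9FE.LimTower H9FE.LimNull

section PcInv
variable {X Y Z : Scheme.{u}}

/-- the inverse of `pcMor` -/
noncomputable def pcInv (f : X ⟶ Y) (g : Y ⟶ Z) (h : X ⟶ Z) (w : f ≫ g = h) (V : Z.Etale) :
    (EtCoh.bc f).obj ((EtCoh.bc g).obj V) ⟶ (EtCoh.bc h).obj V :=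
  MorphismProperty.Over.homMk
    (pLift h V (p1 f ((EtCoh.bc g).obj V) ≫ p1 g V) (p2 f ((EtCoh.bc g).obj V)) (by
      rw [Category.assoc, p_cond g V, ← w, ← Category.assoc, ← Category.assoc]
      congr 1
      exact p_cond f ((EtCoh.bc g).obj V)))
    (pLift_p2 h V _ _ _)

@[reassoc]
lemma pcInv_p1 (f : X ⟶ Y) (g : Y ⟶ Z) (h : X ⟶ Z) (w : f ≫ g = h) (V : Z.Etale) :
    (pcInv f g h w V).left ≫ p1 h V = p1 f ((EtCoh.bc g).obj V) ≫ p1 g V := by
  simp only [pcInv, MorphismProperty.Over.homMk_hom, Over.homMk_left]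
  rw [pLift_p1]

@[reassoc]
lemma pcInv_p2 (f : X ⟶ Y) (g : Y ⟶ Z) (h : X ⟶ Z) (w : f ≫ g = h) (V : Z.Etale) :
    (pcInv f g h w V).left ≫ p2 h V = p2 f ((EtCoh.bc g).obj V) := by
  simp only [pcInv, MorphismProperty.Over.homMk_hom, Over.homMk_left]
  rw [pLift_p2]

lemma pcInv_pcMor (f : X ⟶ Y) (g : Y ⟶ Z) (h : X ⟶ Z) (w : f ≫ g = h) (V : Z.Etale) :
    pcInv f g h w V ≫ pcMor f g h w V = 𝟙 _ := by
  apply bc_hom_ext
  have e1 : (pcInv f g h w V ≫ pcMor f g h w V).left =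
      (pcInv f g h w V).left ≫ (pcMor f g h w V).left := rfl
  have e2 : ∀ (A : X.Etale), (𝟙 A : A ⟶ A).left = 𝟙 A.left := fun A => rfl
  rw [e1, e2, Category.id_comp]
  apply p_hom_ext g V
  · rw [Category.assoc, Category.assoc, pcMor_p1_p1, pcInv_p1]
  · rw [Category.assoc, Category.assoc, pcMor_p1_p2, pcInv_p2_assoc]
    exact (p_cond f ((EtCoh.bc g).obj V)).symm

/-- the inverse of the comparison isomorphism on sections -/
lemma pc_inv_app (f : X ⟶ Y) (g : Y ⟶ Z) (h : X ⟶ Z) (w : f ≫ g = h) (M : EtCoh.Ab X)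
    (V : Z.Etale) :
    ((pc f g h w).inv.app M).hom.app (op V) = M.obj.map (pcInv f g h w V).op := by
  have h1 : ((pc f g h w).inv.app M).hom.app (op V) ≫ ((pc f g h w).hom.app M).hom.app (op V) =
      𝟙 _ := by
    have e := Iso.inv_hom_id_app (pc f g h w) M
    have e2 := congrArg (fun τ => τ.hom.app (op V)) e
    exact e2
  rw [pc_hom_app] at h1
  have h2 : M.obj.map (pcMor f g h w V).op ≫ M.obj.map (pcInv f g h w V).op = 𝟙 _ := by
    rw [← Functor.map_comp, ← op_comp, pcInv_pcMor]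
    simp
  calc ((pc f g h w).inv.app M).hom.app (op V)
      = ((pc f g h w).inv.app M).hom.app (op V) ≫
          (M.obj.map (pcMor f g h w V).op ≫ M.obj.map (pcInv f g h w V).op) := by
        rw [h2]; exact (Category.comp_id _).symm
    _ = M.obj.map (pcInv f g h w V).op := by
        rw [← Category.assoc, h1]; exact Category.id_comp _

end PcInv

section Tower

variable {ι : Type u} [Preorder ι] [IsDirected ι (· ≤ ·)] (Xs : ιᵒᵖ ⥤ Scheme.{u}) (c : Cone Xs)
  (j : ι) (V : (XX Xs j).Etale)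

/-- the inclusion of the indices above `j` -/
def inclUp : Up j ⥤ ι := Monotone.functor (f := Subtype.val) (fun _ _ h => h)

instance : (inclUp j).Final := by
  apply Functor.final_of_exists_of_isFiltered
  · intro d
    obtain ⟨k, hjk, hdk⟩ := exists_ge_ge j d
    exact ⟨⟨k, hjk⟩, ⟨homOfLE hdk⟩⟩
  · intro d k s s'
    exact ⟨k, 𝟙 _, Subsingleton.elim _ _⟩

/-- the tower restricted to the indices above `j` -/
abbrev Gv : (Up j)ᵒᵖ ⥤ Scheme.{u} := (inclUp j).op ⋙ Xs

/-- the restricted cone -/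
abbrev cG : Cone (Gv Xs j) := c.whisker (inclUp j).op

/-- the restricted cone is a limit cone -/
noncomputable def cGIsLimit (hc : IsLimit c) : IsLimit (cG Xs c j) :=
  (Functor.Initial.isLimitWhiskerEquiv (inclUp j).op c).symm hc

/-- the transition maps of the base-changed tower -/
noncomputable def dvMap {k l : ι} (hk : j ≤ k) (hkl : k ≤ l) :
    ((EtCoh.bc (uu Xs (hk.trans hkl))).obj V).left ⟶ ((EtCoh.bc (uu Xs hk)).obj V).left :=
  pLift (uu Xs hk) V (p1 (uu Xs (hk.trans hkl)) V) (p2 (uu Xs (hk.trans hkl)) V ≫ uu Xs hkl) (by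
    rw [p_cond, Category.assoc, uu_comp])

@[reassoc (attr := simp)]
lemma dvMap_p1 {k l : ι} (hk : j ≤ k) (hkl : k ≤ l) :
    dvMap Xs j V hk hkl ≫ p1 (uu Xs hk) V = p1 (uu Xs (hk.trans hkl)) V := pLift_p1 _ _ _ _ _

@[reassoc (attr := simp)]
lemma dvMap_p2 {k l : ι} (hk : j ≤ k) (hkl : k ≤ l) :
    dvMap Xs j V hk hkl ≫ p2 (uu Xs hk) V = p2 (uu Xs (hk.trans hkl)) V ≫ uu Xs hkl :=
  pLift_p2 _ _ _ _ _

/-- the base-changed tower `k ↦ V ×_{X_j} X_k` -/
noncomputable def Dv : (Up j)ᵒᵖ ⥤ Scheme.{u} where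
  obj k := ((EtCoh.bc (uu Xs k.unop.2)).obj V).left
  map {k l} f := dvMap Xs j V l.unop.2 (leOfHom f.unop)
  map_id k := by
    apply p_hom_ext
    · rw [dvMap_p1, Category.id_comp]
    · rw [dvMap_p2, Category.id_comp]
      have : uu Xs (le_refl k.unop.1) = 𝟙 _ := Xs.map_id _
      rw [this, Category.comp_id]
  map_comp {k l m} f g := by
    apply p_hom_ext
    · rw [Category.assoc, dvMap_p1, dvMap_p1, dvMap_p1]
    · rw [Category.assoc, dvMap_p2, dvMap_p2, dvMap_p2_assoc, uu_comp]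

/-- the projections to the restricted tower -/
noncomputable def αv : Dv Xs j V ⟶ Gv Xs j where
  app k := p2 (uu Xs k.unop.2) V
  naturality {k l} f := dvMap_p2 Xs j V l.unop.2 (leOfHom f.unop)

/-- the projections from the base change of `V` to the limit -/
noncomputable def cvπ {k : ι} (hk : j ≤ k) :
    ((EtCoh.bc (cu Xs c j)).obj V).left ⟶ ((EtCoh.bc (uu Xs hk)).obj V).left :=
  pLift (uu Xs hk) V (p1 (cu Xs c j) V) (p2 (cu Xs c j) V ≫ cu Xs c k) (by
    rw [p_cond, Category.assoc, cu_comp])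

@[reassoc (attr := simp)]
lemma cvπ_p1 {k : ι} (hk : j ≤ k) :
    cvπ Xs c j V hk ≫ p1 (uu Xs hk) V = p1 (cu Xs c j) V := pLift_p1 _ _ _ _ _

@[reassoc (attr := simp)]
lemma cvπ_p2 {k : ι} (hk : j ≤ k) :
    cvπ Xs c j V hk ≫ p2 (uu Xs hk) V = p2 (cu Xs c j) V ≫ cu Xs c k := pLift_p2 _ _ _ _ _

/-- the base-changed cone -/
noncomputable def cv : Cone (Dv Xs j V) where
  pt := ((EtCoh.bc (cu Xs c j)).obj V).left
  π :=
    { app := fun k => cvπ Xs c j V k.unop.2
      naturality := fun {_ l} f => by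
        apply p_hom_ext
        · change (𝟙 _ ≫ _) ≫ _ = (_ ≫ dvMap Xs j V l.unop.2 (leOfHom f.unop)) ≫ _
          rw [Category.id_comp, Category.assoc, dvMap_p1, cvπ_p1, cvπ_p1]
        · change (𝟙 _ ≫ _) ≫ _ = (_ ≫ dvMap Xs j V l.unop.2 (leOfHom f.unop)) ≫ _
          rw [Category.id_comp, Category.assoc, dvMap_p2, cvπ_p2, cvπ_p2_assoc, cu_comp] }

/-- the morphism of cones -/
noncomputable def cvHom : (Cone.postcompose (αv Xs j V)).obj (cv Xs c j V) ⟶ cG Xs c j where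
  hom := p2 (cu Xs c j) V
  w k := (cvπ_p2 Xs c j V k.unop.2).symm

lemma cv_isPullback {k : ι} (hk : j ≤ k) :
    IsPullback (cvπ Xs c j V hk) (p2 (cu Xs c j) V) (p2 (uu Xs hk) V) (cu Xs c k) := by
  have h1 : IsPullback (p1 (uu Xs hk) V) (p2 (uu Xs hk) V) V.hom (uu Xs hk) :=
    IsPullback.of_hasPullback _ _
  have h2 : IsPullback (p1 (cu Xs c j) V) (p2 (cu Xs c j) V) V.hom (cu Xs c j) :=
    IsPullback.of_hasPullback _ _
  have h3 : IsPullback (cvπ Xs c j V hk ≫ p1 (uu Xs hk) V) (p2 (cu Xs c j) V) V.hom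
      (cu Xs c k ≫ uu Xs hk) := by
    rw [cvπ_p1, cu_comp]
    exact h2
  exact IsPullback.of_right h3 (cvπ_p2 Xs c j V hk) h1

/-- the base-changed cone is a limit cone -/
noncomputable def cvIsLimit (hc : IsLimit c) : IsLimit (cv Xs c j V) := by
  haveI : IsConnected (Up j)ᵒᵖ := IsCofiltered.isConnected _
  exact isLimitOfIsPullbackOfIsConnected (αv Xs j V) (cv Xs c j V) (cG Xs c j) (cvHom Xs c j V)
    (fun k => cv_isPullback Xs c j V k.unop.2) (cGIsLimit Xs c j hc)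

lemma dv_isPullback {k l : ι} (hk : j ≤ k) (hkl : k ≤ l) :
    IsPullback (dvMap Xs j V hk hkl) (p2 (uu Xs (hk.trans hkl)) V) (p2 (uu Xs hk) V)
      (uu Xs hkl) := by
  have h1 : IsPullback (p1 (uu Xs hk) V) (p2 (uu Xs hk) V) V.hom (uu Xs hk) :=
    IsPullback.of_hasPullback _ _
  have h2 : IsPullback (p1 (uu Xs (hk.trans hkl)) V) (p2 (uu Xs (hk.trans hkl)) V) V.hom
      (uu Xs (hk.trans hkl)) := IsPullback.of_hasPullback _ _
  have h3 : IsPullback (dvMap Xs j V hk hkl ≫ p1 (uu Xs hk) V) (p2 (uu Xs (hk.trans hkl)) V) V.hom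
      (uu Xs hkl ≫ uu Xs hk) := by
    rw [dvMap_p1, uu_comp]
    exact h2
  exact IsPullback.of_right h3 (dvMap_p2 Xs j V hk hkl) h1

end Tower

end H9FE.LimGeom
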