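import Mathlib
import Groth.Prelude.Def_EtCore
import Groth.Prelude.Def_EtLim
import Groth.Agent.Lib.Helper9.FE.LimGeom1
import Groth.Agent.Lib.Helper9.FE.EtQcClass
import Groth.Agent.S20011

/-! helper9: cohomology of a limit of schemes, geometry part 2: descent of étale coverings.  For an
inverse system of schemes with affine transition maps and limit `X`, every covering sieve of the base
change to `X` of a quasi-compact quasi-separated étale `X_j`-scheme `V` contains the base change of a
finite covering family of `V ×_{X_j} X_k` for some `k ≥ j` (`exists_cover_descent`). -/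

set_option autoImplicit false
set_option linter.unusedSectionVars false
set_option linter.style.haveILetI false
set_option backward.isDefEq.respectTransparency false
universe u
open CategoryTheory CategoryTheory.Limits AlgebraicGeometry Opposite

namespace H9FE.LimGeom
open H9FE.LimTower H9FE.LimNull H9FE.EtQcClass Groth.Agent.Lib.Helper5

section Cover

variable {ι : Type u} [Preorder ι] [IsDirected ι (· ≤ ·)] (Xs : ιᵒᵖ ⥤ Scheme.{u})
  (haff : ∀ ⦃a b : ιᵒᵖ⦄ (h : a ⟶ b), IsAffineHom (Xs.map h)) (c : Cone Xs)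
  (j : ι) (V : (XX Xs j).Etale)

include haff in
lemma dv_affine {k l : (Up j)ᵒᵖ} (f : k ⟶ l) : IsAffineHom ((Dv Xs j V).map f) := by
  have hle : l.unop.1 ≤ k.unop.1 := leOfHom f.unop
  exact MorphismProperty.of_isPullback (P := @IsAffineHom)
    (dv_isPullback Xs j V l.unop.2 hle).flip (haff (homOfLE hle).op)

include haff in
lemma p1_affine {k : ι} (hk : j ≤ k) : IsAffineHom (p1 (uu Xs hk) V) := by
  have h1 : IsPullback (p1 (uu Xs hk) V) (p2 (uu Xs hk) V) V.hom (uu Xs hk) :=
    IsPullback.of_hasPullback _ _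
  exact MorphismProperty.of_isPullback (P := @IsAffineHom) h1.flip (haff (homOfLE hk).op)

include haff in
lemma dv_qcqs [CompactSpace V.left] [QuasiSeparatedSpace V.left] {k : ι} (hk : j ≤ k) :
    CompactSpace ((EtCoh.bc (uu Xs hk)).obj V).left ∧
      QuasiSeparatedSpace ((EtCoh.bc (uu Xs hk)).obj V).left := by
  haveI := p1_affine Xs haff j V hk
  exact ⟨QuasiCompact.compactSpace_of_compactSpace (p1 (uu Xs hk) V),
    quasiSeparatedSpace_of_quasiSeparated (p1 (uu Xs hk) V)⟩

include haff in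
lemma cu_affine (hc : IsLimit c) (k : ι) : IsAffineHom (cu Xs c k) := by
  haveI : ∀ {a b : ιᵒᵖ} (f : a ⟶ b), IsAffineHom (Xs.map f) := fun f => haff f
  haveI : Nonempty ι := ⟨k⟩
  exact isAffineHom_π_app Xs c hc (op k)

include haff in
lemma bcT_qcqs (hc : IsLimit c) [CompactSpace V.left] [QuasiSeparatedSpace V.left] :
    CompactSpace ((EtCoh.bc (cu Xs c j)).obj V).left ∧
      QuasiSeparatedSpace ((EtCoh.bc (cu Xs c j)).obj V).left := by
  have h1 : IsPullback (p1 (cu Xs c j) V) (p2 (cu Xs c j) V) V.hom (cu Xs c j) :=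
    IsPullback.of_hasPullback _ _
  haveI : IsAffineHom (p1 (cu Xs c j) V) :=
    MorphismProperty.of_isPullback (P := @IsAffineHom) h1.flip (cu_affine Xs haff c hc j)
  exact ⟨QuasiCompact.compactSpace_of_compactSpace (p1 (cu Xs c j) V),
    quasiSeparatedSpace_of_quasiSeparated (p1 (cu Xs c j) V)⟩

include haff in
/-- descent of coverings: a covering sieve of the base change to the limit of a quasi-compact
quasi-separated étale `X_j`-scheme `V` contains the base change of a finite covering family of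
the base change of `V` to some stage -/
theorem exists_cover_descent (hc : IsLimit c) [CompactSpace V.left] [QuasiSeparatedSpace V.left]
    (S : Sieve ((EtCoh.bc (cu Xs c j)).obj V))
    (hS : S ∈ c.pt.smallEtaleTopology ((EtCoh.bc (cu Xs c j)).obj V)) :
    ∃ (k : ι) (hk : j ≤ k) (m : ℕ) (W : Fin m → (XX Xs k).Etale)
      (g : ∀ b, W b ⟶ (EtCoh.bc (uu Xs hk)).obj V),
      (∀ x : ((EtCoh.bc (uu Xs hk)).obj V).left, ∃ (b : Fin m) (w : (W b).left),
        (g b).left w = x) ∧
      ∀ b, S.arrows ((EtCoh.bc (cu Xs c k)).map (g b) ≫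
        pcInv (cu Xs c k) (uu Xs hk) (cu Xs c j) (cu_comp Xs c hk) V) := by
  obtain ⟨hTc, hTq⟩ := bcT_qcqs Xs haff c j V hc
  obtain ⟨n, W0, g0, haffW, hSg, hcov⟩ :=
    exists_finite_affine_refinement ((EtCoh.bc (cu Xs c j)).obj V) S hS
  haveI : ∀ (k l : (Up j)ᵒᵖ) (t : k ⟶ l), IsAffineHom ((Dv Xs j V).map t) :=
    fun k l t => dv_affine Xs haff j V t
  obtain ⟨h0c, h0q⟩ := dv_qcqs Xs haff j V (le_refl j)
  haveI : CompactSpace ((Dv Xs j V).obj (op ⟨j, le_refl j⟩)) := h0c
  haveI : QuasiSeparatedSpace ((Dv Xs j V).obj (op ⟨j, le_refl j⟩)) := h0q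
  let U : ULift.{u} (Fin n) → Scheme.{u} := fun a => (W0 a.down).left
  let uU : ∀ a, U a ⟶ (cv Xs c j V).pt := fun a => (g0 a.down).left
  haveI : ∀ a, IsAffine (U a) := fun a => haffW a.down
  haveI : QuasiSeparatedSpace (cv Xs c j V).pt := hTq
  haveI : ∀ a, Etale (uU a) := fun a => inferInstance
  haveI : ∀ a, QuasiCompact (uU a) := fun a => inferInstance
  haveI : ∀ a, QuasiSeparated (uU a) := fun a => inferInstance
  have hcov' : ∀ x : (cv Xs c j V).pt, ∃ (a : ULift.{u} (Fin n)) (y : U a), (uU a).base y = x := by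
    intro x
    obtain ⟨i, w, hw⟩ := hcov x
    exact ⟨⟨i⟩, w, hw⟩
  obtain ⟨i, m, W', v, a, e, hv, hsurj, hpb⟩ := Groth.Agent.S20011.result (Dv Xs j V) (cv Xs c j V)
    (cvIsLimit Xs c j V hc) (op ⟨j, le_refl j⟩) U uU hcov'
  obtain ⟨⟨k, hk⟩⟩ := i
  haveI : ∀ b, Etale (v b) := fun b => (hv b).1
  haveI : Etale (p2 (uu Xs hk) V) := ((EtCoh.bc (uu Xs hk)).obj V).prop
  let W : Fin m → (XX Xs k).Etale := fun b => EtSiteBasic.ofEtale (v b ≫ p2 (uu Xs hk) V)
  let g : ∀ b, W b ⟶ (EtCoh.bc (uu Xs hk)).obj V :=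
    fun b => MorphismProperty.Over.homMk (v b) rfl trivial
  refine ⟨k, hk, m, W, g, ?_, ?_⟩
  · intro x
    obtain ⟨b, y, hy⟩ := hsurj x
    exact ⟨b, y, hy⟩
  · intro b
    -- the comparison morphism to the member of the sieve
    have hpb' : IsPullback (e b) (g0 (a b).down).left (v b) (cvπ Xs c j V hk) := hpb b
    let tgt := (EtCoh.bc (cu Xs c k)).map (g b) ≫
      pcInv (cu Xs c k) (uu Xs hk) (cu Xs c j) (cu_comp Xs c hk) V
    have hcompat : p1 (cu Xs c k) (W b) ≫ v b = tgt.left ≫ cvπ Xs c j V hk := by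
      have et : tgt.left = ((EtCoh.bc (cu Xs c k)).map (g b)).left ≫
        (pcInv (cu Xs c k) (uu Xs hk) (cu Xs c j) (cu_comp Xs c hk) V).left := rfl
      have eg : (g b).left = v b := rfl
      apply p_hom_ext (uu Xs hk) V
      · rw [Category.assoc, Category.assoc, cvπ_p1, et, Category.assoc, pcInv_p1,
          bc_map_p1_assoc, eg]
      · rw [Category.assoc, Category.assoc, cvπ_p2, et, Category.assoc, pcInv_p2_assoc,
          bc_map_p2_assoc]
        have e1 : v b ≫ p2 (uu Xs hk) V = (W b).hom := rfl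
        rw [e1]
        exact p_cond (cu Xs c k) (W b)
    let εl : ((EtCoh.bc (cu Xs c k)).obj (W b)).left ⟶ (W0 (a b).down).left :=
      hpb'.lift (p1 (cu Xs c k) (W b)) tgt.left hcompat
    have hεl : εl ≫ (g0 (a b).down).left = tgt.left := hpb'.lift_snd _ _ _
    let ε : (EtCoh.bc (cu Xs c k)).obj (W b) ⟶ W0 (a b).down :=
      MorphismProperty.Over.homMk εl (by
        have h1 := MorphismProperty.Over.w (g0 (a b).down)
        have h2 := MorphismProperty.Over.w tgt
        rw [← h1, ← Category.assoc, hεl]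
        exact h2) trivial
    have hε : ε ≫ g0 (a b).down = tgt := by
      apply MorphismProperty.Over.Hom.ext
      exact hεl
    change S.arrows tgt
    rw [← hε]
    exact S.downward_closed (hSg (a b).down) ε

end Cover

end H9FE.LimGeom
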