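import Mathlib
import Groth.Prelude.Def_EtCore
import Groth.Prelude.Def_EtLim
import Groth.Agent.Lib.Helper9.FE.LimGeom2

/-! helper9: cohomology of a limit of schemes, geometry part 3: descent of surjectivity
(`exists_stage_mapsTo`), of coverings with quasi-compact quasi-separated members
(`exists_cover_descent'`) and of morphisms to an étale scheme over a stage (`exists_hom_descent`)
along the base-changed tower, and lifting of points along base changes and fibre products. -/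

set_option autoImplicit false
set_option linter.unusedSectionVars false
set_option linter.style.haveILetI false
set_option backward.isDefEq.respectTransparency false
universe u
open CategoryTheory CategoryTheory.Limits AlgebraicGeometry Opposite

namespace H9FE.LimGeom
open H9FE.LimTower H9FE.LimNull H9FE.EtQcClass Groth.Agent.Lib.Helper5

variable {ι : Type u} [Preorder ι] [IsDirected ι (· ≤ ·)] (Xs : ιᵒᵖ ⥤ Scheme.{u})
  (haff : ∀ ⦃a b : ιᵒᵖ⦄ (h : a ⟶ b), IsAffineHom (Xs.map h)) (c : Cone Xs) (hc : IsLimit c)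

include haff hc in
/-- descent of surjectivity: an open subset of a quasi-compact étale `X_l`-scheme `V` containing the
image of `V ×_{X_l} X` contains the image of `V ×_{X_l} X_m` for some `m ≥ l` -/
theorem exists_stage_mapsTo (l : ι) (V : (XX Xs l).Etale) [CompactSpace V.left]
    [QuasiSeparatedSpace V.left] (U₀ : V.left.Opens)
    (h : ∀ y : ((EtCoh.bc (cu Xs c l)).obj V).left, p1 (cu Xs c l) V y ∈ U₀) :
    ∃ (m : ι) (hm : l ≤ m), ∀ y : ((EtCoh.bc (uu Xs hm)).obj V).left, p1 (uu Xs hm) V y ∈ U₀ := by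
  haveI : ∀ {a b : (Up l)ᵒᵖ} (t : a ⟶ b), IsAffineHom ((Dv Xs l V).map t) :=
    fun t => dv_affine Xs haff l V t
  haveI : ∀ i, CompactSpace ((Dv Xs l V).obj i) := fun i => (dv_qcqs Xs haff l V i.unop.2).1
  have hU : (cv Xs c l V).π.app (op ⟨l, le_refl l⟩) ⁻¹ᵁ (p1 (uu Xs (le_refl l)) V ⁻¹ᵁ U₀) = ⊤ := by
    ext y
    simp only [TopologicalSpace.Opens.coe_top, Set.mem_univ, iff_true]
    change p1 (uu Xs (le_refl l)) V (cvπ Xs c l V (le_refl l) y) ∈ U₀
    rw [← Scheme.Hom.comp_apply, cvπ_p1]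
    exact h y
  obtain ⟨j, fji, hj⟩ := exists_map_eq_top (Dv Xs l V) (cv Xs c l V) (cvIsLimit Xs c l V hc)
    (i := op ⟨l, le_refl l⟩) (p1 (uu Xs (le_refl l)) V ⁻¹ᵁ U₀) hU
  obtain ⟨⟨m, hm⟩⟩ := j
  refine ⟨m, hm, ?_⟩
  intro y
  have hy : y ∈ ((Dv Xs l V).map fji ⁻¹ᵁ (p1 (uu Xs (le_refl l)) V ⁻¹ᵁ U₀)) := by
    rw [hj]
    trivial
  have hy' : p1 (uu Xs (le_refl l)) V (dvMap Xs l V (le_refl l) hm y) ∈ U₀ := hy
  rw [← Scheme.Hom.comp_apply, dvMap_p1] at hy'
  exact hy'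

variable (j : ι) (V : (XX Xs j).Etale)

include haff in
/-- descent of coverings (variant recording that the members are quasi-compact and
quasi-separated): a covering sieve of the base change to the limit of a quasi-compact
quasi-separated étale `X_j`-scheme `V` contains the base change of a finite covering family of
the base change of `V` to some stage -/
theorem exists_cover_descent' (hc : IsLimit c) [CompactSpace V.left] [QuasiSeparatedSpace V.left]
    (S : Sieve ((EtCoh.bc (cu Xs c j)).obj V))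
    (hS : S ∈ c.pt.smallEtaleTopology ((EtCoh.bc (cu Xs c j)).obj V)) :
    ∃ (k : ι) (hk : j ≤ k) (m : ℕ) (W : Fin m → (XX Xs k).Etale)
      (g : ∀ b, W b ⟶ (EtCoh.bc (uu Xs hk)).obj V),
      (∀ b, CompactSpace (W b).left ∧ QuasiSeparatedSpace (W b).left) ∧
      (∀ x : ((EtCoh.bc (uu Xs hk)).obj V).left, ∃ (b : Fin m) (w : (W b).left),
        (g b).left w = x) ∧
      ∀ b, S.arrows ((EtCoh.bc (cu Xs c k)).map (g b) ≫
        pcInv (cu Xs c k) (uu Xs hk) (cu Xs c j) (cu_comp Xs c hk) V) := by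
  obtain ⟨hTc, hTq⟩ := bcT_qcqs Xs haff c j V hc
  obtain ⟨n, W0, g0, haffW, hSg, hcov⟩ :=
    exists_finite_affine_refinement ((EtCoh.bc (cu Xs c j)).obj V) S hS
  haveI : ∀ (k l : (Up j)ᵒᵖ) (t : k ⟶ l), IsAffineHom ((Dv Xs j V).map t) :=
    fun k l t => dv_affine Xs haff j V t
  obtain ⟨h0c, h0q⟩ := dv_qcqs Xs haff j V (le_refl j)
  haveI : CompactSpace ((Dv Xs j V).obj (op ⟨j, le_refl j⟩)) := h0c
  haveI : QuasiSeparatedSpace ((Dv Xs j V).obj (op ⟨j, le_refl j⟩)) := h0q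
  let U : ULift.{u} (Fin n) → Scheme.{u} := fun a => (W0 a.down).left
  let uU : ∀ a, U a ⟶ (cv Xs c j V).pt := fun a => (g0 a.down).left
  haveI : ∀ a, IsAffine (U a) := fun a => haffW a.down
  haveI : QuasiSeparatedSpace (cv Xs c j V).pt := hTq
  haveI : ∀ a, Etale (uU a) := fun a => inferInstance
  haveI : ∀ a, QuasiCompact (uU a) := fun a => inferInstance
  haveI : ∀ a, QuasiSeparated (uU a) := fun a => inferInstance
  have hcov' : ∀ x : (cv Xs c j V).pt, ∃ (a : ULift.{u} (Fin n)) (y : U a), (uU a).base y = x := by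
    intro x
    obtain ⟨i, w, hw⟩ := hcov x
    exact ⟨⟨i⟩, w, hw⟩
  obtain ⟨i, m, W', v, a, e, hv, hsurj, hpb⟩ := Groth.Agent.S20011.result (Dv Xs j V) (cv Xs c j V)
    (cvIsLimit Xs c j V hc) (op ⟨j, le_refl j⟩) U uU hcov'
  obtain ⟨⟨k, hk⟩⟩ := i
  haveI : ∀ b, Etale (v b) := fun b => (hv b).1
  haveI : Etale (p2 (uu Xs hk) V) := ((EtCoh.bc (uu Xs hk)).obj V).prop
  let W : Fin m → (XX Xs k).Etale := fun b => EtSiteBasic.ofEtale (v b ≫ p2 (uu Xs hk) V)
  let g : ∀ b, W b ⟶ (EtCoh.bc (uu Xs hk)).obj V :=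
    fun b => MorphismProperty.Over.homMk (v b) rfl trivial
  refine ⟨k, hk, m, W, g, ?_, ?_, ?_⟩
  · intro b
    obtain ⟨hkc, hkq⟩ := dv_qcqs Xs haff j V hk
    haveI : CompactSpace ((Dv Xs j V).obj (op ⟨k, hk⟩)) := hkc
    haveI : QuasiSeparatedSpace ((Dv Xs j V).obj (op ⟨k, hk⟩)) := hkq
    haveI : QuasiCompact (v b) := (hv b).2.1
    haveI : QuasiSeparated (v b) := (hv b).2.2
    exact ⟨QuasiCompact.compactSpace_of_compactSpace (v b),
      quasiSeparatedSpace_of_quasiSeparated (v b)⟩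
  · intro x
    obtain ⟨b, y, hy⟩ := hsurj x
    exact ⟨b, y, hy⟩
  · intro b
    -- the comparison morphism to the member of the sieve
    have hpb' : IsPullback (e b) (g0 (a b).down).left (v b) (cvπ Xs c j V hk) := hpb b
    let tgt := (EtCoh.bc (cu Xs c k)).map (g b) ≫
      pcInv (cu Xs c k) (uu Xs hk) (cu Xs c j) (cu_comp Xs c hk) V
    have hcompat : p1 (cu Xs c k) (W b) ≫ v b = tgt.left ≫ cvπ Xs c j V hk := by
      have et : tgt.left = ((EtCoh.bc (cu Xs c k)).map (g b)).left ≫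
        (pcInv (cu Xs c k) (uu Xs hk) (cu Xs c j) (cu_comp Xs c hk) V).left := rfl
      have eg : (g b).left = v b := rfl
      apply p_hom_ext (uu Xs hk) V
      · rw [Category.assoc, Category.assoc, cvπ_p1, et, Category.assoc, pcInv_p1,
          bc_map_p1_assoc, eg]
      · rw [Category.assoc, Category.assoc, cvπ_p2, et, Category.assoc, pcInv_p2_assoc,
          bc_map_p2_assoc]
        have e1 : v b ≫ p2 (uu Xs hk) V = (W b).hom := rfl
        rw [e1]
        exact p_cond (cu Xs c k) (W b)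
    let εl : ((EtCoh.bc (cu Xs c k)).obj (W b)).left ⟶ (W0 (a b).down).left :=
      hpb'.lift (p1 (cu Xs c k) (W b)) tgt.left hcompat
    have hεl : εl ≫ (g0 (a b).down).left = tgt.left := hpb'.lift_snd _ _ _
    let ε : (EtCoh.bc (cu Xs c k)).obj (W b) ⟶ W0 (a b).down :=
      MorphismProperty.Over.homMk εl (by
        have h1 := MorphismProperty.Over.w (g0 (a b).down)
        have h2 := MorphismProperty.Over.w tgt
        rw [← h1, ← Category.assoc, hεl]
        exact h2) trivial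
    have hε : ε ≫ g0 (a b).down = tgt := by
      apply MorphismProperty.Over.Hom.ext
      exact hεl
    change S.arrows tgt
    rw [← hε]
    exact S.downward_closed (hSg (a b).down) ε


include haff in
/-- descent of morphisms: a morphism over `X_o` from the base change to the limit of a
quasi-compact quasi-separated étale `X_j`-scheme `W` to an étale `X_o`-scheme `U` comes from the
base change of `W` to every sufficiently late stage -/
theorem exists_hom_descent (hc : IsLimit c) (W : (XX Xs j).Etale) [CompactSpace W.left]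
    [QuasiSeparatedSpace W.left] {o : ι} (hoj : o ≤ j) (U : (XX Xs o).Etale)
    (a : ((EtCoh.bc (cu Xs c j)).obj W).left ⟶ U.left)
    (ha : a ≫ U.hom = p2 (cu Xs c j) W ≫ cu Xs c o) :
    ∃ (m : ι) (_ : j ≤ m), ∀ (m' : ι) (hm' : j ≤ m') (_ : m ≤ m'),
      ∃ g : ((EtCoh.bc (uu Xs hm')).obj W).left ⟶ U.left,
        cvπ Xs c j W hm' ≫ g = a ∧ g ≫ U.hom = p2 (uu Xs hm') W ≫ uu Xs (hoj.trans hm') := by
  haveI : ∀ {a b : (Up j)ᵒᵖ} (t : a ⟶ b), IsAffineHom ((Dv Xs j W).map t) :=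
    fun t => dv_affine Xs haff j W t
  haveI : ∀ i, CompactSpace ((Dv Xs j W).obj i) := fun i => (dv_qcqs Xs haff j W i.unop.2).1
  haveI : ∀ i, QuasiSeparatedSpace ((Dv Xs j W).obj i) :=
    fun i => (dv_qcqs Xs haff j W i.unop.2).2
  let t : Dv Xs j W ⟶ (Functor.const (Up j)ᵒᵖ).obj (XX Xs o) :=
    { app := fun k => p2 (uu Xs k.unop.2) W ≫ uu Xs (hoj.trans k.unop.2)
      naturality := fun {k l} f => by
        change dvMap Xs j W l.unop.2 (leOfHom f.unop) ≫ _ ≫ _ = (_ ≫ _) ≫ 𝟙 _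
        rw [Category.comp_id, dvMap_p2_assoc, uu_comp] }
  haveI : Etale U.hom := U.prop
  haveI : LocallyOfFinitePresentation U.hom := inferInstance
  have hat : (cv Xs c j W).π ≫ t = (Functor.const _).map (a ≫ U.hom) := by
    ext k
    change cvπ Xs c j W k.unop.2 ≫ p2 (uu Xs k.unop.2) W ≫ uu Xs (hoj.trans k.unop.2) = a ≫ U.hom
    rw [cvπ_p2_assoc, cu_comp, ha]
  obtain ⟨i, g, hg1, hg2⟩ := Scheme.exists_π_app_comp_eq_of_locallyOfFinitePresentation
    (Dv Xs j W) t U.hom (cv Xs c j W) (cvIsLimit Xs c j W hc) a hat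
  obtain ⟨⟨m, hm⟩⟩ := i
  refine ⟨m, hm, ?_⟩
  intro m' hm' hmm'
  refine ⟨dvMap Xs j W hm hmm' ≫ g, ?_, ?_⟩
  · have e : cvπ Xs c j W hm' ≫ dvMap Xs j W hm hmm' = cvπ Xs c j W hm := by
      apply p_hom_ext
      · rw [Category.assoc, dvMap_p1, cvπ_p1, cvπ_p1]
      · rw [Category.assoc, dvMap_p2, cvπ_p2_assoc, cvπ_p2, cu_comp]
    rw [← Category.assoc, e]
    exact hg1
  · rw [Category.assoc, hg2]
    change dvMap Xs j W hm hmm' ≫ p2 (uu Xs hm) W ≫ uu Xs (hoj.trans hm) = _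
    rw [dvMap_p2_assoc, uu_comp]

end H9FE.LimGeom

namespace H9FE.LimGeom
open H9FE.LimTower H9FE.LimNull H9FE.EtQcClass

section Pts

variable {X Y Z : Scheme.{u}}

/-- points of a base change along a morphism of étale schemes lift -/
lemma bc_map_exists_preimage (f : X ⟶ Y) {U V : Y.Etale} (g : V ⟶ U)
    (y : ((EtCoh.bc f).obj U).left) (v : V.left) (h : p1 f U y = g.left v) :
    ∃ z : ((EtCoh.bc f).obj V).left, ((EtCoh.bc f).map g).left z = y ∧ p1 f V z = v :=
  Scheme.exists_preimage_of_isPullback (EtCoh.isPullback_bc_map f g) y v h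

lemma pcMor_pcInv (f : X ⟶ Y) (g : Y ⟶ Z) (h : X ⟶ Z) (w : f ≫ g = h) (V : Z.Etale) :
    pcMor f g h w V ≫ pcInv f g h w V = 𝟙 _ := by
  apply bc_hom_ext
  have e1 : (pcMor f g h w V ≫ pcInv f g h w V).left =
      (pcMor f g h w V).left ≫ (pcInv f g h w V).left := rfl
  have e2 : ∀ (A : X.Etale), (𝟙 A : A ⟶ A).left = 𝟙 A.left := fun A => rfl
  rw [e1, e2, Category.id_comp, Category.assoc, pcInv_p1, pcMor_p1_p1]

lemma pcInv_surj (f : X ⟶ Y) (g : Y ⟶ Z) (h : X ⟶ Z) (w : f ≫ g = h) (V : Z.Etale)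
    (y : ((EtCoh.bc h).obj V).left) : ∃ z, (pcInv f g h w V).left z = y := by
  refine ⟨(pcMor f g h w V).left y, ?_⟩
  have e := congrArg (fun t => t.left) (pcMor_pcInv f g h w V)
  have e1 : (pcMor f g h w V).left ≫ (pcInv f g h w V).left = 𝟙 _ := e
  rw [← Scheme.Hom.comp_apply, e1]
  rfl

/-- points of a fibre product in the small étale site -/
lemma et_pullback_exists_preimage {V W₁ W₂ : X.Etale} (g₁ : W₁ ⟶ V) (g₂ : W₂ ⟶ V)
    (x₁ : W₁.left) (x₂ : W₂.left) (h : g₁.left x₁ = g₂.left x₂) :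
    ∃ z : (pullback g₁ g₂).left, (pullback.fst g₁ g₂).left z = x₁ ∧
      (pullback.snd g₁ g₂).left z = x₂ := by
  obtain ⟨z, hz1, hz2⟩ := Scheme.Pullback.exists_preimage_pullback (f := g₁.left) (g := g₂.left)
    x₁ x₂ h
  refine ⟨(pullbackLeftIso g₁ g₂).inv z, ?_, ?_⟩
  · have e : (pullback.fst g₁ g₂).left =
        (pullbackLeftIso g₁ g₂).hom ≫ pullback.fst g₁.left g₂.left :=
      (PreservesPullback.iso_hom_fst (toSch X) g₁ g₂).symm
    rw [e, ← Scheme.Hom.comp_apply, Iso.inv_hom_id_assoc]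
    exact hz1
  · have e : (pullback.snd g₁ g₂).left =
        (pullbackLeftIso g₁ g₂).hom ≫ pullback.snd g₁.left g₂.left :=
      (PreservesPullback.iso_hom_snd (toSch X) g₁ g₂).symm
    rw [e, ← Scheme.Hom.comp_apply, Iso.inv_hom_id_assoc]
    exact hz2

end Pts

section Tower2

variable {ι : Type u} [Preorder ι] [IsDirected ι (· ≤ ·)] (Xs : ιᵒᵖ ⥤ Scheme.{u}) (c : Cone Xs)

lemma bcmap_pcInv_cvπ {o l : ι} (hol : o ≤ l) (U : (XX Xs o).Etale) (V : (XX Xs l).Etale)
    (φ : V ⟶ (EtCoh.bc (uu Xs hol)).obj U) :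
    ((EtCoh.bc (cu Xs c l)).map φ ≫
      pcInv (cu Xs c l) (uu Xs hol) (cu Xs c o) (cu_comp Xs c hol) U).left ≫
        cvπ Xs c o U hol = p1 (cu Xs c l) V ≫ φ.left := by
  have et : ((EtCoh.bc (cu Xs c l)).map φ ≫
      pcInv (cu Xs c l) (uu Xs hol) (cu Xs c o) (cu_comp Xs c hol) U).left =
      ((EtCoh.bc (cu Xs c l)).map φ).left ≫
        (pcInv (cu Xs c l) (uu Xs hol) (cu Xs c o) (cu_comp Xs c hol) U).left := rfl
  apply p_hom_ext (uu Xs hol) U
  · rw [Category.assoc, Category.assoc, cvπ_p1, et, Category.assoc, pcInv_p1, bc_map_p1_assoc]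
  · rw [Category.assoc, Category.assoc, cvπ_p2, et, Category.assoc, pcInv_p2_assoc,
      bc_map_p2_assoc]
    have e1 : φ.left ≫ p2 (uu Xs hol) U = V.hom := MorphismProperty.Over.w φ
    rw [e1]
    exact (p_cond (cu Xs c l) V).symm

end Tower2

end H9FE.LimGeom
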