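import Mathlib
import Groth.Prelude.Def_EtCore
import Groth.Prelude.Def_EtLim
import Groth.Agent.Lib.Helper9.FE.LimGeom3
import Groth.Agent.Lib.Helper9.FE.LimPull1

/-! helper9: cohomology of a limit of schemes, pull version part 2: section-level forms of the
properties of `psi` (`psi_unit`, `psi_sec`), naturality of the unit on sections (`unit_map`),
naturality of `pcInv` and `cvπ`, and unfolding lemmas for `pullSys`, `pullHom`, `RSys` (stated
explicitly so that later proofs are cheap for the kernel). -/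

set_option autoImplicit false
set_option linter.unusedSectionVars false
set_option linter.style.haveILetI false
set_option backward.isDefEq.respectTransparency false
universe u
open CategoryTheory CategoryTheory.Limits AlgebraicGeometry Opposite Abelian

namespace H9FE.LimPull
open H9FE.LimTower H9FE.EtTr H9FE.LimNull H9FE.LimGeom H9FE.EtQcClass

section Gen

variable {X Y : Scheme.{u}}

lemma comp_app_apply {A B D : EtCoh.Ab Y} (φ : A ⟶ B) (ψ : B ⟶ D) (U : Y.Etaleᵒᵖ)
    (x : A.obj.obj U) : (φ ≫ ψ).hom.app U x = ψ.hom.app U (φ.hom.app U x) := rfl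

lemma push_map_app_apply (f : X ⟶ Y) {A B : EtCoh.Ab X} (φ : A ⟶ B) (U : Y.Etale)
    (x : ((EtCoh.push f).obj A).obj.obj (op U)) :
    ((EtCoh.push f).map φ).hom.app (op U) x = φ.hom.app (op ((EtCoh.bc f).obj U)) x := rfl

lemma push_obj_map_apply (f : X ⟶ Y) (A : EtCoh.Ab X) {U U' : Y.Etale} (k : U' ⟶ U)
    (x : ((EtCoh.push f).obj A).obj.obj (op U)) :
    ((EtCoh.push f).obj A).obj.map k.op x = A.obj.map ((EtCoh.bc f).map k).op x := rfl

lemma map_comp_apply (A : EtCoh.Ab Y) {U V W : Y.Etale} (a : U ⟶ V) (b : V ⟶ W)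
    (x : A.obj.obj (op W)) : A.obj.map (a ≫ b).op x = A.obj.map a.op (A.obj.map b.op x) := by
  rw [op_comp, Functor.map_comp]
  rfl

lemma nat_apply {A B : EtCoh.Ab Y} (φ : A ⟶ B) {U V : Y.Etale} (a : U ⟶ V)
    (x : A.obj.obj (op V)) :
    φ.hom.app (op U) (A.obj.map a.op x) = B.obj.map a.op (φ.hom.app (op V) x) :=
  ConcreteCategory.congr_hom (φ.hom.naturality a.op) x

end Gen

section Sect

variable {X Y Z : Scheme.{u}} (f : X ⟶ Y) (g : Y ⟶ Z) (h : X ⟶ Z) (w : f ≫ g = h)
  (F : EtCoh.Ab Z)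

lemma unit_psi_apply (U : Z.Etale) (σ : F.obj.obj (op U)) :
    ((EtCoh.pullPushAdj g).unit.app F ≫ (EtCoh.push g).map (psi f g h w F)).hom.app (op U) σ =
    ((EtCoh.pullPushAdj h).unit.app F ≫
      (pc f g h w).inv.app ((EtCoh.pull h).obj F)).hom.app (op U) σ :=
  congrArg (fun τ => (τ.hom.app (op U)) σ) (unit_psi f g h w F)

lemma unit_psi_l (U : Z.Etale) (σ : F.obj.obj (op U)) :
    ((EtCoh.pullPushAdj g).unit.app F ≫ (EtCoh.push g).map (psi f g h w F)).hom.app (op U) σ =
    ((EtCoh.push g).map (psi f g h w F)).hom.app (op U)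
      (((EtCoh.pullPushAdj g).unit.app F).hom.app (op U) σ) := comp_app_apply _ _ _ _

lemma unit_psi_r (U : Z.Etale) (σ : F.obj.obj (op U)) :
    ((EtCoh.pullPushAdj h).unit.app F ≫
      (pc f g h w).inv.app ((EtCoh.pull h).obj F)).hom.app (op U) σ =
    ((pc f g h w).inv.app ((EtCoh.pull h).obj F)).hom.app (op U)
      (((EtCoh.pullPushAdj h).unit.app F).hom.app (op U) σ) := comp_app_apply _ _ _ _

/-- `psi` on the image of the unit -/
lemma psi_unit (U : Z.Etale) (σ : F.obj.obj (op U)) :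
    (psi f g h w F).hom.app (op ((EtCoh.bc g).obj U))
      (((EtCoh.pullPushAdj g).unit.app F).hom.app (op U) σ) =
    ((EtCoh.pull h).obj F).obj.map (pcInv f g h w U).op
      (((EtCoh.pullPushAdj h).unit.app F).hom.app (op U) σ) :=
  (push_map_app_apply g (psi f g h w F) U _).symm.trans
    ((unit_psi_l f g h w F U σ).symm.trans ((unit_psi_apply f g h w F U σ).trans
      ((unit_psi_r f g h w F U σ).trans
        (ConcreteCategory.congr_hom (pc_inv_app f g h w ((EtCoh.pull h).obj F) U) _))))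

/-- naturality of the unit on sections -/
lemma unit_map {U U' : Z.Etale} (k : U' ⟶ U) (σ : F.obj.obj (op U)) :
    ((EtCoh.pull g).obj F).obj.map ((EtCoh.bc g).map k).op
      (((EtCoh.pullPushAdj g).unit.app F).hom.app (op U) σ) =
    ((EtCoh.pullPushAdj g).unit.app F).hom.app (op U') (F.obj.map k.op σ) :=
  (push_obj_map_apply g ((EtCoh.pull g).obj F) k _).symm.trans
    (nat_apply ((EtCoh.pullPushAdj g).unit.app F) k σ).symm

/-- `psi` on a restriction of the image of the unit -/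
lemma psi_sec (V : Y.Etale) (U : Z.Etale) (φ : V ⟶ (EtCoh.bc g).obj U) (σ : F.obj.obj (op U)) :
    (psi f g h w F).hom.app (op V)
      (((EtCoh.pull g).obj F).obj.map φ.op
        (((EtCoh.pullPushAdj g).unit.app F).hom.app (op U) σ)) =
      ((EtCoh.pull h).obj F).obj.map ((EtCoh.bc f).map φ ≫ pcInv f g h w U).op
        (((EtCoh.pullPushAdj h).unit.app F).hom.app (op U) σ) := by
  have e1 := nat_apply (psi f g h w F) φ (((EtCoh.pullPushAdj g).unit.app F).hom.app (op U) σ)
  have e2 := psi_unit f g h w F U σ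
  have e3 := push_obj_map_apply f ((EtCoh.pull h).obj F) φ
    ((psi f g h w F).hom.app (op ((EtCoh.bc g).obj U))
      (((EtCoh.pullPushAdj g).unit.app F).hom.app (op U) σ))
  have e4 := map_comp_apply ((EtCoh.pull h).obj F) ((EtCoh.bc f).map φ) (pcInv f g h w U)
    (((EtCoh.pullPushAdj h).unit.app F).hom.app (op U) σ)
  exact e1.trans (e3.trans ((congrArg _ e2).trans e4.symm))

lemma pcInv_natural {U U' : Z.Etale} (k : U' ⟶ U) :
    (EtCoh.bc f).map ((EtCoh.bc g).map k) ≫ pcInv f g h w U =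
      pcInv f g h w U' ≫ (EtCoh.bc h).map k := by
  apply bc_hom_ext
  have e1 : ((EtCoh.bc f).map ((EtCoh.bc g).map k) ≫ pcInv f g h w U).left =
      ((EtCoh.bc f).map ((EtCoh.bc g).map k)).left ≫ (pcInv f g h w U).left := rfl
  have e2 : (pcInv f g h w U' ≫ (EtCoh.bc h).map k).left =
      (pcInv f g h w U').left ≫ ((EtCoh.bc h).map k).left := rfl
  rw [e1, e2, Category.assoc, Category.assoc, pcInv_p1, bc_map_p1_assoc, bc_map_p1, bc_map_p1,
    pcInv_p1_assoc]

/-- the inverse of the comparison isomorphism on sections, elementwise -/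
lemma pc_inv_apply (M : EtCoh.Ab X) (W : Z.Etale)
    (t : ((EtCoh.push h).obj M).obj.obj (op W)) :
    ((pc f g h w).inv.app M).hom.app (op W) t = M.obj.map (pcInv f g h w W).op t :=
  ConcreteCategory.congr_hom (pc_inv_app f g h w M W) t

end Sect

section HK

variable {ι : Type u} [Preorder ι] [IsDirected ι (· ≤ ·)] {Xs : ιᵒᵖ ⥤ Scheme.{u}}
  (c : Cone Xs) (o : ι) (ho : ∀ l, o ≤ l) (F : EtCoh.Ab (XX Xs o))

lemma cvπ_natural {l : ι} (hol : o ≤ l) {U U' : (XX Xs o).Etale} (k : U' ⟶ U) :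
    cvπ Xs c o U' hol ≫ ((EtCoh.bc (uu Xs hol)).map k).left =
      ((EtCoh.bc (cu Xs c o)).map k).left ≫ cvπ Xs c o U hol := by
  apply p_hom_ext (uu Xs hol) U
  · rw [Category.assoc, Category.assoc, bc_map_p1, cvπ_p1_assoc, cvπ_p1, bc_map_p1]
  · rw [Category.assoc, Category.assoc, bc_map_p2, cvπ_p2, cvπ_p2, bc_map_p2_assoc]

lemma pullHom_app (l : ι) : (pullHom c o ho F).app l =
    psi (cu Xs c l) (uu Xs (ho l)) (cu Xs c o) (cu_comp Xs c (ho l)) F := rfl

lemma pullSys_obj (l : ι) : (pullSys o ho F).obj l = (EtCoh.pull (uu Xs (ho l))).obj F := rfl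

lemma pullSys_θ {l m : ι} (hlm : l ≤ m) : (pullSys o ho F).θ hlm =
    psi (uu Xs hlm) (uu Xs (ho l)) (uu Xs (ho m)) (uu_comp Xs (ho l) hlm) F := rfl

lemma rSys_obj (M : EtCoh.Ab c.pt) (l : ι) :
    (RSys c M).obj l = (EtCoh.push (cu Xs c l)).obj M := rfl

lemma rSys_θ (M : EtCoh.Ab c.pt) {l m : ι} (hlm : l ≤ m) : (RSys c M).θ hlm =
    (pc (cu Xs c m) (uu Xs hlm) (cu Xs c l) (cu_comp Xs c hlm)).inv.app M := rfl

end HK

end H9FE.LimPull
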