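import Mathlib
import Groth.Prelude.Def_EtCore
import Groth.Prelude.Def_EtLim
import Groth.Agent.Lib.Helper9.FE.LimTower

/-! helper9: cohomology of a limit of schemes, comparison of systems part 1: the kernel system
`Sys.ker φ` and the image system `Sys.im φ` of a morphism `φ` of systems of sheaves on a tower, the
two short exact sequences `0 → ker → A → im → 0`, `0 → im → B → coker → 0` at each stage and the
compatibility of the transition maps with their connecting homomorphisms. -/

set_option autoImplicit false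
set_option linter.unusedSectionVars false
set_option linter.style.haveILetI false
set_option backward.isDefEq.respectTransparency false
universe u
open CategoryTheory CategoryTheory.Limits AlgebraicGeometry Opposite Abelian

namespace H9FE.LimCmp
open H9FE.LimTower H9FE.EtTr

variable {ι : Type u} [Preorder ι] {Xs : ιᵒᵖ ⥤ Scheme.{u}}

section Ker

variable {A B : Sys Xs} (φ : Sys.Hom A B)

instance pushPreservesLimits {X Y : Scheme.{u}} (f : X ⟶ Y) :
    PreservesLimitsOfSize.{0, 0} (EtCoh.push f) :=
  (EtCoh.pullPushAdj f).rightAdjoint_preservesLimits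

/-- the transition maps of the kernel system -/
noncomputable def kerθ {j k : ι} (h : j ≤ k) :
    kernel (φ.app j) ⟶ (EtCoh.push (uu Xs h)).obj (kernel (φ.app k)) :=
  kernel.lift ((EtCoh.push (uu Xs h)).map (φ.app k)) (kernel.ι (φ.app j) ≫ A.θ h) (by
    rw [Category.assoc, φ.comm h, kernel.condition_assoc, zero_comp]) ≫
    (PreservesKernel.iso (EtCoh.push (uu Xs h)) (φ.app k)).inv

@[reassoc]
lemma kerθ_ι {j k : ι} (h : j ≤ k) :
    kerθ φ h ≫ (EtCoh.push (uu Xs h)).map (kernel.ι (φ.app k)) = kernel.ι (φ.app j) ≫ A.θ h := by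
  unfold kerθ
  rw [Category.assoc, PreservesKernel.iso_inv_ι, kernel.lift_ι]

/-- the kernel of a morphism of systems -/
noncomputable def Sys.ker : Sys Xs where
  obj j := kernel (φ.app j)
  θ {j k} h := kerθ φ h
  cocycle {j k l} hjk hkl := by
    haveI : Mono ((EtCoh.push (uu Xs (hjk.trans hkl))).map (kernel.ι (φ.app l))) := inferInstance
    rw [← cancel_mono ((EtCoh.push (uu Xs (hjk.trans hkl))).map (kernel.ι (φ.app l)))]
    have hn := (pc (uu Xs hkl) (uu Xs hjk) (uu Xs (hjk.trans hkl)) (uu_comp Xs hjk hkl)).hom.naturality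
      (kernel.ι (φ.app l))
    simp only [Functor.comp_map] at hn
    simp only [Category.assoc]
    rw [kerθ_ι, ← hn, ← Functor.map_comp_assoc, kerθ_ι, Functor.map_comp, Category.assoc,
      ← A.cocycle hjk hkl, kerθ_ι_assoc]

/-- the inclusion of the kernel system -/
noncomputable def Sys.kerι : Sys.Hom (Sys.ker φ) A where
  app j := kernel.ι (φ.app j)
  comm {_ _} h := kerθ_ι φ h

/-- the image system (as the coimage) -/
noncomputable abbrev Sys.im : Sys Xs := Sys.coker (Sys.kerι φ)

/-- the projection onto the image system -/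
noncomputable abbrev Sys.imπ : Sys.Hom A (Sys.im φ) := Sys.cokerπ (Sys.kerι φ)

/-- the inclusion of the image system -/
noncomputable def Sys.imι : Sys.Hom (Sys.im φ) B where
  app j := Abelian.factorThruCoimage (φ.app j)
  comm {j k} h := by
    haveI : Epi ((Sys.imπ φ).app j) := by
      change Epi (cokernel.π _)
      infer_instance
    rw [← cancel_epi ((Sys.imπ φ).app j)]
    have h2 := (Sys.imπ φ).comm h
    have e1 : ∀ l, (Sys.imπ φ).app l ≫ Abelian.factorThruCoimage (φ.app l) = φ.app l :=
      fun l => Abelian.coimage.fac (φ.app l)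
    rw [← Category.assoc, ← h2, Category.assoc, ← Functor.map_comp, e1, φ.comm h,
      ← Category.assoc, e1]

lemma Sys.imπ_imι (j : ι) : (Sys.imπ φ).app j ≫ (Sys.imι φ).app j = φ.app j :=
  Abelian.coimage.fac (φ.app j)

/-- the first short exact sequence `0 → K → A → Im → 0` at stage `j` -/
noncomputable abbrev T1 (j : ι) : ShortComplex (EtCoh.Ab (XX Xs j)) :=
  ShortComplex.mk ((Sys.kerι φ).app j) ((Sys.imπ φ).app j) (cokernel.condition _)

/-- the second short exact sequence `0 → Im → B → C → 0` at stage `j` -/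
noncomputable abbrev T2 (j : ι) : ShortComplex (EtCoh.Ab (XX Xs j)) :=
  ShortComplex.mk ((Sys.imι φ).app j) ((Sys.cokerπ φ).app j) (by
    haveI : Epi ((Sys.imπ φ).app j) := by
      change Epi (cokernel.π _)
      infer_instance
    rw [← cancel_epi ((Sys.imπ φ).app j), ← Category.assoc, Sys.imπ_imι, comp_zero]
    exact cokernel.condition _)

lemma hT1 (j : ι) : (T1 φ j).ShortExact := by
  haveI : Mono (T1 φ j).f := by
    change Mono (kernel.ι _)
    infer_instance
  haveI : Epi (T1 φ j).g := by
    change Epi (cokernel.π _)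
    infer_instance
  exact { exact := ShortComplex.exact_cokernel _ }

lemma hT2 (j : ι) : (T2 φ j).ShortExact := by
  haveI : Mono (T2 φ j).f := by
    change Mono (Abelian.factorThruCoimage _)
    infer_instance
  haveI : Epi (T2 φ j).g := by
    change Epi (cokernel.π _)
    infer_instance
  haveI : Epi ((Sys.imπ φ).app j) := by
    change Epi (cokernel.π _)
    infer_instance
  refine { exact := ShortComplex.exact_of_g_is_cokernel _ ?_ }
  exact isCokernelOfComp ((Sys.imπ φ).app j) (φ.app j) (cokernelIsCokernel _)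
    (T2 φ j).zero (Sys.imπ_imι φ j)

lemma deltaT1 {j k : ι} (h : j ≤ k) {n : ℕ} (z : EtCoh.H (XX Xs j) ((Sys.im φ).obj j) n) :
    (Sys.ker φ).T h (n + 1) (z.comp (hT1 φ j).extClass rfl) =
      ((Sys.im φ).T h n z).comp (hT1 φ k).extClass rfl :=
  Sys.T_delta (Sys.kerι φ) (Sys.imπ φ) (fun j => (T1 φ j).zero) (hT1 φ) h rfl z

lemma deltaT2 {j k : ι} (h : j ≤ k) {n : ℕ} (z : EtCoh.H (XX Xs j) ((Sys.coker φ).obj j) n) :
    (Sys.im φ).T h (n + 1) (z.comp (hT2 φ j).extClass rfl) =
      ((Sys.coker φ).T h n z).comp (hT2 φ k).extClass rfl :=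
  Sys.T_delta (Sys.imι φ) (Sys.cokerπ φ) (fun j => (T2 φ j).zero) (hT2 φ) h rfl z

end Ker

end H9FE.LimCmp
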