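import Mathlib
import Groth.Prelude.Def_EtCore
import Groth.Prelude.Def_EtLim
import Groth.Agent.Lib.Helper9.FE.LimCmp1

/-! helper9: cohomology of a limit of schemes, comparison of systems part 2: cohomologically null
systems (`CNull`); if the cokernel (resp. kernel) system of a morphism of systems is null, then a
class of the image system dying in the target (resp. a class of the source dying in the image
system) dies at a later stage. -/

set_option autoImplicit false
set_option linter.unusedSectionVars false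
set_option linter.style.haveILetI false
set_option backward.isDefEq.respectTransparency false
universe u
open CategoryTheory CategoryTheory.Limits AlgebraicGeometry Opposite Abelian

namespace H9FE.LimCmp
open H9FE.LimTower H9FE.EtTr H9FE.ExtFilteredColim

variable {ι : Type u} [Preorder ι] {Xs : ιᵒᵖ ⥤ Scheme.{u}}

/-- a system is cohomologically null: every class dies at a later stage -/
def CNull (N : Sys Xs) : Prop :=
  ∀ (j : ι) (n : ℕ) (ξ : EtCoh.H (XX Xs j) (N.obj j) n), ∃ (k : ι) (h : j ≤ k), N.T h n ξ = 0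

lemma ext0_eq_zero_of_mono {𝒜 : Type*} [Category 𝒜] [Abelian 𝒜] [HasExt 𝒜] {Z A B : 𝒜}
    (m : A ⟶ B) [Mono m] (x : Ext Z A 0) (hx : x.comp (Ext.mk₀ m) (add_zero 0) = 0) : x = 0 := by
  obtain ⟨φ, rfl⟩ := (Ext.mk₀_bijective Z A).2 x
  rw [Ext.mk₀_comp_mk₀] at hx
  have h1 : φ ≫ m = 0 := by
    apply (Ext.mk₀_bijective Z B).1
    rw [hx, Ext.mk₀_zero]
  have h2 : φ = 0 := by
    rw [← cancel_mono m, h1, zero_comp]
  rw [h2, Ext.mk₀_zero]

variable {A B : Sys Xs} (φ : Sys.Hom A B)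

/-- a class of the image system dying in `B` dies at a later stage -/
lemma im_inj (hC : CNull (Sys.coker φ)) {j : ι} (n : ℕ)
    (β : EtCoh.H (XX Xs j) ((Sys.im φ).obj j) n)
    (hβ : ((EtCoh.HF _ n).map ((Sys.imι φ).app j)).hom β = 0) :
    ∃ (k : ι) (h : j ≤ k), (Sys.im φ).T h n β = 0 := by
  have hβ' : β.comp (Ext.mk₀ (T2 φ j).f) (add_zero n) = 0 := hβ
  cases n with
  | zero =>
    haveI := (hT2 φ j).mono_f
    refine ⟨j, le_refl j, ?_⟩
    rw [ext0_eq_zero_of_mono (T2 φ j).f _ hβ', map_zero]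
  | succ m =>
    obtain ⟨γ, hγ⟩ := Ext.covariant_sequence_exact₁ _ (hT2 φ j) _ hβ' rfl
    obtain ⟨k, hjk, hk⟩ := hC j m γ
    refine ⟨k, hjk, ?_⟩
    rw [← hγ, deltaT2 φ hjk γ, hk, Ext.zero_comp]

/-- a class of `A` dying in the image system dies at a later stage -/
lemma ker_inj (hK : CNull (Sys.ker φ)) {j : ι} (n : ℕ) (α : EtCoh.H (XX Xs j) (A.obj j) n)
    (hα : ((EtCoh.HF _ n).map ((Sys.imπ φ).app j)).hom α = 0) :
    ∃ (k : ι) (h : j ≤ k), A.T h n α = 0 := by
  have hα' : α.comp (Ext.mk₀ (T1 φ j).g) (add_zero n) = 0 := hα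
  obtain ⟨κ, hκ⟩ := Ext.covariant_sequence_exact₂ _ (hT1 φ j) _ hα'
  obtain ⟨k, hjk, hk⟩ := hK j n κ
  refine ⟨k, hjk, ?_⟩
  have e : α = ((EtCoh.HF _ n).map ((Sys.kerι φ).app j)).hom κ := hκ.symm
  rw [e, Sys.T_nat (Sys.kerι φ) hjk n κ, hk, map_zero]

end H9FE.LimCmp
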