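import Mathlib
import Groth.Prelude.Def_EtCore
import Groth.Prelude.Def_EtLim
import Groth.Agent.Lib.Helper9.FE.LimCmp2

/-! helper9: cohomology of a limit of schemes, comparison of systems part 3: if the cokernel (resp.
kernel) system of a morphism of systems is cohomologically null, every class of the target comes at
a later stage from the image system (resp. every class of the image system comes at a later stage
from the source). -/

set_option autoImplicit false
set_option linter.unusedSectionVars false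
set_option linter.style.haveILetI false
set_option backward.isDefEq.respectTransparency false
universe u
open CategoryTheory CategoryTheory.Limits AlgebraicGeometry Opposite Abelian

namespace H9FE.LimCmp
open H9FE.LimTower H9FE.EtTr H9FE.ExtFilteredColim

variable {ι : Type u} [Preorder ι] {Xs : ιᵒᵖ ⥤ Scheme.{u}} {A B : Sys Xs} (φ : Sys.Hom A B)

/-- a class of `B` comes, at a later stage, from the image system -/
lemma im_surj (hC : CNull (Sys.coker φ)) {j : ι} (n : ℕ) (ρ : EtCoh.H (XX Xs j) (B.obj j) n) :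
    ∃ (k : ι) (h : j ≤ k) (β : EtCoh.H (XX Xs k) ((Sys.im φ).obj k) n),
      ((EtCoh.HF _ n).map ((Sys.imι φ).app k)).hom β = B.T h n ρ := by
  obtain ⟨k, hjk, hk⟩ := hC j n (((EtCoh.HF _ n).map ((Sys.cokerπ φ).app j)).hom ρ)
  rw [Sys.T_nat (Sys.cokerπ φ) hjk n ρ] at hk
  have hk' : (B.T hjk n ρ).comp (Ext.mk₀ (T2 φ k).g) (add_zero n) = 0 := hk
  obtain ⟨β, hβ⟩ := Ext.covariant_sequence_exact₂ _ (hT2 φ k) _ hk'
  exact ⟨k, hjk, β, hβ⟩

/-- a class of the image system comes, at a later stage, from `A` -/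
lemma ker_surj (hK : CNull (Sys.ker φ)) {j : ι} (n : ℕ)
    (β : EtCoh.H (XX Xs j) ((Sys.im φ).obj j) n) :
    ∃ (k : ι) (h : j ≤ k) (α : EtCoh.H (XX Xs k) (A.obj k) n),
      ((EtCoh.HF _ n).map ((Sys.imπ φ).app k)).hom α = (Sys.im φ).T h n β := by
  obtain ⟨k, hjk, hk⟩ := hK j (n + 1) (β.comp (hT1 φ j).extClass rfl)
  rw [deltaT1 φ hjk β] at hk
  obtain ⟨α, hα⟩ := Ext.covariant_sequence_exact₃ _ (hT1 φ k) _ rfl hk
  exact ⟨k, hjk, α, hα⟩

end H9FE.LimCmp
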