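import Mathlib
import Groth.Prelude.Def_EtCore
import Groth.Prelude.Def_EtLim
import Groth.Agent.Lib.Helper9.FE.LimTower
import Groth.Agent.Lib.Helper9.FE.AdjExt0

/-! helper9: cohomology of a limit of schemes, push version, part 1: for a short exact sequence
`0 → M → I → Q → 0` on the limit, the image system `P` and the quotient system `N` of the push towers,
the short exact sequences on the stages and the compatibilities of the connecting homomorphisms. -/

set_option autoImplicit false
set_option linter.unusedSectionVars false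
set_option linter.style.haveILetI false
set_option backward.isDefEq.respectTransparency false
universe u
open CategoryTheory CategoryTheory.Limits AlgebraicGeometry Opposite Abelian

namespace H9FE.LimPush
open H9FE.LimTower H9FE.EtTr H9FE.AdjExt H9FE.ExtFilteredColim

variable {ι : Type u} [Preorder ι] {Xs : ιᵒᵖ ⥤ Scheme.{u}} (c : Cone Xs)

/-- hypothesis: the cokernel systems of the push towers of epimorphisms are cohomologically null -/
def NullHyp : Prop :=
  ∀ {I Q : EtCoh.Ab c.pt} (g : I ⟶ Q), Epi g → ∀ (j : ι) (n : ℕ)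
    (ξ : EtCoh.H (XX Xs j) ((Sys.coker (RSys.map c g)).obj j) n),
    ∃ (k : ι) (h : j ≤ k), (Sys.coker (RSys.map c g)).T h n ξ = 0

/-- every class on the limit comes from a stage -/
def Surj (M : EtCoh.Ab c.pt) (n : ℕ) : Prop :=
  ∀ ξ : EtCoh.H c.pt M n, ∃ (j : ι) (ξj : EtCoh.H (XX Xs j) ((RSys c M).obj j) n),
    hJ c M j n ξj = ξ

/-- a class on a stage dying on the limit dies on a later stage -/
def Inj (M : EtCoh.Ab c.pt) (n : ℕ) : Prop :=
  ∀ (j : ι) (ξj : EtCoh.H (XX Xs j) ((RSys c M).obj j) n), hJ c M j n ξj = 0 →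
    ∃ (k : ι) (h : j ≤ k), (RSys c M).T h n ξj = 0

section Step

variable (S : ShortComplex (EtCoh.Ab c.pt)) (hS : S.ShortExact)

/-- the image system -/
noncomputable abbrev P : Sys Xs := Sys.coker (RSys.map c S.f)

/-- the projection onto the image system -/
noncomputable abbrev πP : Sys.Hom (RSys c S.X₂) (P c S) := Sys.cokerπ (RSys.map c S.f)

/-- the component of the inclusion of the image system -/
noncomputable def mApp (j : ι) : (P c S).obj j ⟶ (RSys c S.X₃).obj j :=
  cokernel.desc ((RSys.map c S.f).app j) ((RSys.map c S.g).app j) (by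
    change (EtCoh.push (cu Xs c j)).map S.f ≫ (EtCoh.push (cu Xs c j)).map S.g = 0
    rw [← Functor.map_comp, S.zero, Functor.map_zero])

lemma π_mApp (j : ι) : (πP c S).app j ≫ mApp c S j = (RSys.map c S.g).app j :=
  cokernel.π_desc _ _ _

/-- the inclusion of the image system -/
noncomputable def mP : Sys.Hom (P c S) (RSys c S.X₃) where
  app j := mApp c S j
  comm {j k} h := by
    have hπ : Epi ((πP c S).app j) := by
      change Epi (cokernel.π _)
      infer_instance
    rw [← cancel_epi ((πP c S).app j)]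
    have h1 := (RSys.map c S.g).comm h
    have h2 := (πP c S).comm h
    rw [← Category.assoc, ← h2, Category.assoc, ← Functor.map_comp, π_mApp, h1, ← Category.assoc,
      π_mApp]

/-- the quotient system -/
noncomputable abbrev N : Sys Xs := Sys.coker (RSys.map c S.g)

/-- the projection onto the quotient system -/
noncomputable abbrev νN : Sys.Hom (RSys c S.X₃) (N c S) := Sys.cokerπ (RSys.map c S.g)

lemma π_m (j : ι) : (πP c S).app j ≫ (mP c S).app j = (RSys.map c S.g).app j :=
  π_mApp c S j

/-- the first short exact sequence at stage `j` -/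
noncomputable abbrev S1 (j : ι) : ShortComplex (EtCoh.Ab (XX Xs j)) :=
  ShortComplex.mk ((RSys.map c S.f).app j) ((πP c S).app j) (cokernel.condition _)

/-- the second short exact sequence at stage `j` -/
noncomputable abbrev S2 (j : ι) : ShortComplex (EtCoh.Ab (XX Xs j)) :=
  ShortComplex.mk ((mP c S).app j) ((νN c S).app j) (by
    have hπ : Epi ((πP c S).app j) := by
      change Epi (cokernel.π _)
      infer_instance
    rw [← cancel_epi ((πP c S).app j), ← Category.assoc, π_m, comp_zero]
    exact cokernel.condition _)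

include hS in
lemma pushS_exact (j : ι) :
    (S.map (EtCoh.push (cu Xs c j))).Exact ∧ Mono ((EtCoh.push (cu Xs c j)).map S.f) := by
  haveI := hS.mono_f
  haveI : PreservesLimitsOfSize.{0, 0} (EtCoh.push (cu Xs c j)) :=
    (EtCoh.pullPushAdj (cu Xs c j)).rightAdjoint_preservesLimits
  exact ⟨hS.exact.map_of_mono_of_preservesKernel _ inferInstance inferInstance, inferInstance⟩

include hS in
lemma hS1 (j : ι) : (S1 c S j).ShortExact := by
  haveI : Mono (S1 c S j).f := (pushS_exact c S hS j).2
  haveI : Epi (S1 c S j).g := by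
    change Epi (cokernel.π _)
    infer_instance
  exact { exact := ShortComplex.exact_cokernel _ }

include hS in
lemma hS2 (j : ι) : (S2 c S j).ShortExact := by
  haveI : Mono (S2 c S j).f := by
    have h := (pushS_exact c S hS j).1
    have h2 : Mono (cokernel.desc (S.map (EtCoh.push (cu Xs c j))).f
        (S.map (EtCoh.push (cu Xs c j))).g (S.map (EtCoh.push (cu Xs c j))).zero) :=
      (ShortComplex.exact_iff_mono_cokernel_desc _).1 h
    dsimp only [S2, mP, mApp, RSys.map]
    exact h2
  haveI : Epi (S2 c S j).g := by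
    change Epi (cokernel.π _)
    infer_instance
  refine { exact := ShortComplex.exact_of_g_is_cokernel _ ?_ }
  exact isCokernelOfComp ((πP c S).app j) ((RSys.map c S.g).app j) (cokernelIsCokernel _)
    (S2 c S j).zero (π_m c S j)

lemma delta1 {j k : ι} (h : j ≤ k) {n : ℕ} (z : EtCoh.H (XX Xs j) ((P c S).obj j) n) :
    (RSys c S.X₁).T h (n + 1) (z.comp (hS1 c S hS j).extClass rfl) =
      ((P c S).T h n z).comp (hS1 c S hS k).extClass rfl :=
  Sys.T_delta (RSys.map c S.f) (πP c S) (fun j => (S1 c S j).zero) (hS1 c S hS) h rfl z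

lemma delta2 {j k : ι} (h : j ≤ k) {n : ℕ} (z : EtCoh.H (XX Xs j) ((N c S).obj j) n) :
    (P c S).T h (n + 1) (z.comp (hS2 c S hS j).extClass rfl) =
      ((N c S).T h n z).comp (hS2 c S hS k).extClass rfl :=
  Sys.T_delta (mP c S) (νN c S) (fun j => (S2 c S j).zero) (hS2 c S hS) h rfl z

lemma delta_hJ (j : ι) {n : ℕ} (z : EtCoh.H (XX Xs j) ((P c S).obj j) n) :
    hJ c S.X₁ j (n + 1) (z.comp (hS1 c S hS j).extClass rfl) =
      (hJ c S.X₃ j n (((EtCoh.HF _ n).map ((mP c S).app j)).hom z)).comp hS.extClass rfl := by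
  have e1 : hJ c S.X₁ j (n + 1) (z.comp (hS1 c S hS j).extClass rfl) =
      tr (cu Xs c j) (𝟙 ((EtCoh.push (cu Xs c j)).obj S.X₁)) (n + 1)
        (z.comp (hS1 c S hS j).extClass rfl) := HofPush_eq (cu Xs c j) S.X₁ (n + 1) _
  have e2 : hJ c S.X₃ j n (((EtCoh.HF _ n).map ((mP c S).app j)).hom z) =
      tr (cu Xs c j) ((mP c S).app j) n z := (tr_eq_HofPush (cu Xs c j) ((mP c S).app j) n z).symm
  rw [e1, e2]
  refine tr_delta (cu Xs c j) (hS1 c S hS j) hS (𝟙 _) (𝟙 _) ((mP c S).app j) ?_ ?_ rfl z
  · exact (Category.comp_id _).trans (Category.id_comp _).symm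
  · exact (π_m c S j).trans (Category.id_comp _).symm

lemma injective_push (j : ι) [Injective S.X₂] : Injective ((RSys c S.X₂).obj j) := by
  change Injective ((EtCoh.push (cu Xs c j)).obj S.X₂)
  exact Injective.injective_of_adjoint (EtCoh.pullPushAdj (cu Xs c j)) S.X₂

end Step

end H9FE.LimPush
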