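import Mathlib
import Groth.Prelude.Def_EtCore
import Groth.Prelude.Def_EtLim
import Groth.Agent.Lib.Helper9.FE.LimCmp3
import Groth.Agent.Lib.Helper9.FE.LimPush1

/-! helper9: cohomology of a limit of schemes, comparison of systems part 4: a morphism of systems
of sheaves on a tower whose kernel and cokernel systems are cohomologically null induces an
isomorphism on the colimits of the cohomology groups (elementwise form `cmp_inj`, `cmp_surj`), and
the resulting comparison `cmp_thm` of the colimit of the cohomology of a system with the cohomology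
of a sheaf on the limit. -/

set_option autoImplicit false
set_option linter.unusedSectionVars false
set_option linter.style.haveILetI false
set_option backward.isDefEq.respectTransparency false
universe u
open CategoryTheory CategoryTheory.Limits AlgebraicGeometry Opposite Abelian

namespace H9FE.LimCmp
open H9FE.LimTower H9FE.EtTr H9FE.ExtFilteredColim H9FE.LimPush

variable {ι : Type u} [Preorder ι] {Xs : ιᵒᵖ ⥤ Scheme.{u}} {A B : Sys Xs} (φ : Sys.Hom A B)

/-- injectivity part of the comparison of a system with another one along a morphism with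
cohomologically null kernel and cokernel -/
theorem cmp_inj (hK : CNull (Sys.ker φ)) (hC : CNull (Sys.coker φ)) {j : ι} (n : ℕ)
    (α : EtCoh.H (XX Xs j) (A.obj j) n)
    (hα : ∃ (k : ι) (h : j ≤ k), B.T h n (((EtCoh.HF _ n).map (φ.app j)).hom α) = 0) :
    ∃ (k : ι) (h : j ≤ k), A.T h n α = 0 := by
  obtain ⟨k, hjk, hk⟩ := hα
  rw [Sys.T_nat φ hjk n α] at hk
  -- the image of `α` in the image system dies in `B`
  have e1 : ((EtCoh.HF _ n).map ((Sys.imι φ).app k)).hom
      (((EtCoh.HF _ n).map ((Sys.imπ φ).app k)).hom (A.T hjk n α)) = 0 := by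
    rw [← hk, ← Sys.imπ_imι φ k]
    exact (push_comp _ _ _).symm
  obtain ⟨l, hkl, hl⟩ := im_inj φ hC n _ e1
  rw [Sys.T_nat (Sys.imπ φ) hkl n (A.T hjk n α), Sys.T_comp] at hl
  obtain ⟨m, hlm, hm⟩ := ker_inj φ hK n _ hl
  rw [Sys.T_comp] at hm
  exact ⟨m, _, hm⟩

/-- surjectivity part of the comparison -/
theorem cmp_surj (hK : CNull (Sys.ker φ)) (hC : CNull (Sys.coker φ)) {j : ι} (n : ℕ)
    (ρ : EtCoh.H (XX Xs j) (B.obj j) n) :
    ∃ (k : ι) (h : j ≤ k) (α : EtCoh.H (XX Xs k) (A.obj k) n),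
      ((EtCoh.HF _ n).map (φ.app k)).hom α = B.T h n ρ := by
  obtain ⟨k, hjk, β, hβ⟩ := im_surj φ hC n ρ
  obtain ⟨l, hkl, α, hα⟩ := ker_surj φ hK n β
  refine ⟨l, hjk.trans hkl, α, ?_⟩
  rw [← Sys.T_comp B hjk hkl, ← hβ, Sys.T_nat (Sys.imι φ) hkl n β, ← hα, ← Sys.imπ_imι φ l]
  exact push_comp _ _ _

section Limit

variable (c : Cone Xs) (M : EtCoh.Ab c.pt) (a : Sys.Hom A (RSys c M))

/-- comparison with the cohomology of the limit -/
theorem cmp_thm (hK : CNull (Sys.ker a)) (hC : CNull (Sys.coker a)) (n : ℕ)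
    (hM : Surj c M n ∧ Inj c M n) :
    (∀ ξ : EtCoh.H c.pt M n, ∃ (j : ι) (α : EtCoh.H (XX Xs j) (A.obj j) n),
      hJ c M j n (((EtCoh.HF _ n).map (a.app j)).hom α) = ξ) ∧
    (∀ (j : ι) (α : EtCoh.H (XX Xs j) (A.obj j) n),
      hJ c M j n (((EtCoh.HF _ n).map (a.app j)).hom α) = 0 →
        ∃ (k : ι) (h : j ≤ k), A.T h n α = 0) := by
  refine ⟨?_, ?_⟩
  · intro ξ
    obtain ⟨j, ρ, hρ⟩ := hM.1 ξ
    obtain ⟨k, hjk, α, hα⟩ := cmp_surj a hK hC n ρ
    refine ⟨k, α, ?_⟩
    rw [hα, hJ_T, hρ]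
  · intro j α hα
    exact cmp_inj a hK hC n α (hM.2 j _ hα)

end Limit

end H9FE.LimCmp
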