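import Mathlib
import Groth.Prelude.Def_EtCore
import Groth.Prelude.Def_EtLim
import Groth.Agent.Lib.Helper9.FE.LimGeom2
import Groth.Agent.Lib.Helper9.FE.LimPush1

/-! helper9: cohomology of a limit of schemes, nullity of quotient systems: for an epimorphism
`g : I ⟶ Q` of abelian sheaves on the limit `X` of a directed inverse system of quasi-compact
quasi-separated schemes with affine transition maps, every section over an affine object of the
quotient system `coker(u_{j*} I → u_{j*} Q)` dies at a later stage, hence the system is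
cohomologically null (`nullHyp`). -/

set_option autoImplicit false
set_option linter.unusedSectionVars false
set_option linter.style.haveILetI false
set_option backward.isDefEq.respectTransparency false
universe u
open CategoryTheory CategoryTheory.Limits AlgebraicGeometry Opposite

namespace H9FE.LimNull
open H9FE.LimTower H9FE.LimGeom H9FE.EtQcClass Groth.Agent.Lib.Helper5

section SysNull

variable {ι : Type u} [Preorder ι] [IsDirected ι (· ≤ ·)] {Xs : ιᵒᵖ ⥤ Scheme.{u}} (N : Sys Xs)

/-- a section dying at some stage dies at every later stage -/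
lemma θ_zero_mono {j k l : ι} (hjk : j ≤ k) (hkl : k ≤ l) (V : (XX Xs j).Etale)
    (s : (N.obj j).obj.obj (op V)) (hs : (N.θ hjk).hom.app (op V) s = 0) :
    (N.θ (hjk.trans hkl)).hom.app (op V) s = 0 := by
  have e := N.cocycle hjk hkl
  have e2 := congrArg (fun τ => τ.hom.app (op V)) e
  have e3 := ConcreteCategory.congr_hom e2 s
  rw [← e3]
  change (((pc (uu Xs hkl) (uu Xs hjk) (uu Xs (hjk.trans hkl)) (uu_comp Xs hjk hkl)).hom.app
    (N.obj l)).hom.app (op V)) ((((EtCoh.push (uu Xs hjk)).map (N.θ hkl)).hom.app (op V))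
      ((N.θ hjk).hom.app (op V) s)) = 0
  rw [hs, map_zero, map_zero]

/-- a section of `N_j` dies at some later stage -/
def SNull (j : ι) (V : (XX Xs j).Etale) (s : (N.obj j).obj.obj (op V)) : Prop :=
  ∃ (k : ι) (h : j ≤ k), (N.θ h).hom.app (op V) s = 0

/-- dying at a later stage is local for finite coverings -/
lemma sNull_of_cover (j : ι) (V : (XX Xs j).Etale) (s : (N.obj j).obj.obj (op V)) {m : ℕ}
    (W : Fin m → (XX Xs j).Etale) (g : ∀ a, W a ⟶ V)
    (hg : Sieve.ofArrows W g ∈ (XX Xs j).smallEtaleTopology V)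
    (h : ∀ a, SNull N j (W a) ((N.obj j).obj.map (g a).op s)) : SNull N j V s := by
  choose ka ha hsa using h
  haveI : Nonempty ι := ⟨j⟩
  obtain ⟨k0, hk0⟩ := Finite.exists_le ka
  obtain ⟨k, hjk, hk0k⟩ := exists_ge_ge j k0
  refine ⟨k, hjk, ?_⟩
  apply H9FE.SiteSectColim.sheaf_ext ((EtCoh.push (uu Xs hjk)).obj (N.obj k)) W g hg
  intro a
  rw [map_zero]
  have hak : ka a ≤ k := (hk0 a).trans hk0k
  have h1 := θ_zero_mono N (ha a) hak (W a) _ (hsa a)
  have e := (N.θ hjk).hom.naturality (g a).op
  have e3 := ConcreteCategory.congr_hom e s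
  exact e3.symm.trans h1

end SysNull

section CokerNull

variable {ι : Type u} [Preorder ι] [IsDirected ι (· ≤ ·)] {Xs : ιᵒᵖ ⥤ Scheme.{u}}
  (haff : ∀ ⦃a b : ιᵒᵖ⦄ (h : a ⟶ b), IsAffineHom (Xs.map h)) (c : Cone Xs) (hc : IsLimit c)
  {I Q : EtCoh.Ab c.pt} (g : I ⟶ Q)

/-- the quotient system of the push towers -/
noncomputable abbrev NN : Sys Xs := Sys.coker (RSys.map c g)

/-- the projection onto the quotient system -/
noncomputable abbrev νν (j : ι) : (RSys c Q).obj j ⟶ (NN c g).obj j :=
  (Sys.cokerπ (RSys.map c g)).app j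

lemma push_g_ν (j : ι) : (EtCoh.push (cu Xs c j)).map g ≫ νν c g j = 0 :=
  cokernel.condition _

include haff hc in
/-- the image in the quotient system of a section of `Q` dies at a later stage -/
lemma sNull_ν [Epi g] (j : ι) (W : (XX Xs j).Etale) [CompactSpace W.left]
    [QuasiSeparatedSpace W.left] (q : ((RSys c Q).obj j).obj.obj (op W)) :
    SNull (NN c g) j W ((νν c g j).hom.app (op W) q) := by
  haveI : Sheaf.IsLocallySurjective g := (Sheaf.isLocallySurjective_iff_epi' (φ := g)).2 inferInstance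
  let q' : Q.obj.obj (op ((EtCoh.bc (cu Xs c j)).obj W)) := q
  have hS := Presheaf.imageSieve_mem c.pt.smallEtaleTopology g.hom q'
  obtain ⟨k, hk, m, W', g', hsurj, hW'⟩ := exists_cover_descent Xs haff c j W hc _ hS
  refine ⟨k, hk, ?_⟩
  -- rewrite through the projection
  have e1 := (Sys.cokerπ (RSys.map c g)).comm hk
  have e2 := congrArg (fun τ => τ.hom.app (op W)) e1
  have e3 := ConcreteCategory.congr_hom e2 q
  refine e3.symm.trans ?_
  change ((νν c g k).hom.app (op ((EtCoh.bc (uu Xs hk)).obj W)))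
    ((((RSys c Q).θ hk).hom.app (op W)) q) = 0
  have e4 : ((RSys c Q).θ hk).hom.app (op W) =
      Q.obj.map (pcInv (cu Xs c k) (uu Xs hk) (cu Xs c j) (cu_comp Xs c hk) W).op :=
    pc_inv_app _ _ _ _ Q W
  rw [e4]
  apply H9FE.SiteSectColim.sheaf_ext ((NN c g).obj k) W' g' (ofArrows_mem W' g' hsurj)
  intro b
  rw [map_zero]
  obtain ⟨t, ht⟩ := hW' b
  have e5 := (νν c g k).hom.naturality (g' b).op
  have e6 := ConcreteCategory.congr_hom e5
    (Q.obj.map (pcInv (cu Xs c k) (uu Xs hk) (cu Xs c j) (cu_comp Xs c hk) W).op q')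
  refine e6.symm.trans ?_
  change ((νν c g k).hom.app (op (W' b))) ((Q.obj.map ((EtCoh.bc (cu Xs c k)).map (g' b)).op)
    ((Q.obj.map (pcInv (cu Xs c k) (uu Xs hk) (cu Xs c j) (cu_comp Xs c hk) W).op) q')) = 0
  have e7 : (Q.obj.map ((EtCoh.bc (cu Xs c k)).map (g' b)).op)
      ((Q.obj.map (pcInv (cu Xs c k) (uu Xs hk) (cu Xs c j) (cu_comp Xs c hk) W).op) q') =
      Q.obj.map ((EtCoh.bc (cu Xs c k)).map (g' b) ≫
        pcInv (cu Xs c k) (uu Xs hk) (cu Xs c j) (cu_comp Xs c hk) W).op q' := by
    rw [op_comp, Functor.map_comp, ConcreteCategory.comp_apply]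
  rw [e7, ← ht]
  have e8 := push_g_ν c g k
  have e9 := congrArg (fun τ => τ.hom.app (op (W' b))) e8
  exact ConcreteCategory.congr_hom e9 t

include haff hc in
/-- every section over an affine object of the quotient system dies at a later stage -/
lemma sNull_coker [Epi g] (j : ι) (V : (XX Xs j).Etale) [IsAffine V.left]
    (s : ((NN c g).obj j).obj.obj (op V)) : SNull (NN c g) j V s := by
  haveI : Epi (νν c g j) := by
    change Epi (cokernel.π _)
    infer_instance
  haveI : Sheaf.IsLocallySurjective (νν c g j) :=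
    (Sheaf.isLocallySurjective_iff_epi' (φ := νν c g j)).2 inferInstance
  have hS := Presheaf.imageSieve_mem (XX Xs j).smallEtaleTopology (νν c g j).hom s
  obtain ⟨m, W, gW, haffW, hTg, hcov⟩ := exists_finite_affine_refinement V _ hS
  apply sNull_of_cover (NN c g) j V s W gW (ofArrows_mem W gW hcov)
  intro a
  obtain ⟨q, hq⟩ := hTg a
  haveI := haffW a
  have h := sNull_ν haff c hc g j (W a) q
  have hq' : (νν c g j).hom.app (op (W a)) q = ((NN c g).obj j).obj.map (gW a).op s := hq
  rw [hq'] at h
  exact h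

include haff hc in
/-- the hypothesis of the push theorem holds for limits of quasi-compact quasi-separated schemes
with affine transition maps -/
theorem nullHyp (hqc : ∀ a, CompactSpace ↥(Xs.obj a)) (hqs : ∀ a, QuasiSeparatedSpace ↥(Xs.obj a)) :
    H9FE.LimPush.NullHyp c := by
  intro I Q g hg j n ξ
  haveI : CompactSpace (XX Xs j) := hqc (op j)
  haveI : QuasiSeparatedSpace (XX Xs j) := hqs (op j)
  exact null_of_sections (Sys.coker (RSys.map c g)) j
    (fun V hV s => by haveI := hV; exact sNull_coker haff c hc g j V s) n ξ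

end CokerNull

end H9FE.LimNull
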