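import Mathlib
import Groth.Agent.Lib.Helper9.FE.LimPush1

/-! helper9: cohomology of a limit of schemes, push version, part 2: the surjectivity step. -/

set_option autoImplicit false
set_option linter.unusedSectionVars false
set_option linter.style.haveILetI false
set_option backward.isDefEq.respectTransparency false
universe u
open CategoryTheory CategoryTheory.Limits AlgebraicGeometry Opposite Abelian

namespace H9FE.LimPush
open H9FE.LimTower H9FE.EtTr H9FE.AdjExt H9FE.ExtFilteredColim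

variable {ι : Type u} [Preorder ι] {Xs : ιᵒᵖ ⥤ Scheme.{u}} (c : Cone Xs)
variable (S : ShortComplex (EtCoh.Ab c.pt)) (hS : S.ShortExact)
variable [IsDirected ι (· ≤ ·)]

include hS in
theorem step_surj [Injective S.X₂] (hN : NullHyp c) (n : ℕ) (ihQ : Surj c S.X₃ n) :
    Surj c S.X₁ (n + 1) := by
  intro ξ
  have h0 : ξ.comp (Ext.mk₀ S.f) (add_zero (n + 1)) = 0 := Ext.eq_zero_of_injective _
  obtain ⟨ζ, hζ⟩ := Ext.covariant_sequence_exact₁ _ hS ξ h0 rfl
  obtain ⟨j, qj, hqj⟩ := ihQ ζ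
  obtain ⟨k, h, hk⟩ := hN S.g hS.epi_g j n (((EtCoh.HF _ n).map ((νN c S).app j)).hom qj)
  rw [Sys.T_nat (νN c S) h n qj] at hk
  have hk' : ((RSys c S.X₃).T h n qj).comp (Ext.mk₀ (S2 c S k).g) (add_zero n) = 0 := hk
  obtain ⟨pk, hpk⟩ := Ext.covariant_sequence_exact₂ _ (hS2 c S hS k) _ hk'
  refine ⟨k, pk.comp (hS1 c S hS k).extClass rfl, ?_⟩
  rw [delta_hJ c S hS k pk]
  have e1 : ((EtCoh.HF _ n).map ((mP c S).app k)).hom pk = (RSys c S.X₃).T h n qj := hpk
  rw [e1, hJ_T, hqj, hζ]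

end H9FE.LimPush
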