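import Mathlib
import Groth.Agent.Lib.Helper9.FE.LimPush1

/-! helper9: cohomology of a limit of schemes, push version, part 3: the injectivity step. -/

set_option autoImplicit false
set_option linter.unusedSectionVars false
set_option linter.style.haveILetI false
set_option backward.isDefEq.respectTransparency false
universe u
open CategoryTheory CategoryTheory.Limits AlgebraicGeometry Opposite Abelian

namespace H9FE.LimPush
open H9FE.LimTower H9FE.EtTr H9FE.AdjExt H9FE.ExtFilteredColim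

variable {ι : Type u} [Preorder ι] {Xs : ιᵒᵖ ⥤ Scheme.{u}} (c : Cone Xs)
variable (S : ShortComplex (EtCoh.Ab c.pt)) (hS : S.ShortExact)
variable [IsDirected ι (· ≤ ·)]

lemma ext0_eq_zero_of_mono {𝒜 : Type*} [Category 𝒜] [Abelian 𝒜] [HasExt 𝒜] {Z A B : 𝒜}
    (m : A ⟶ B) [Mono m] (x : Ext Z A 0) (hx : x.comp (Ext.mk₀ m) (add_zero 0) = 0) : x = 0 := by
  obtain ⟨φ, rfl⟩ := (Ext.mk₀_bijective Z A).2 x
  rw [Ext.mk₀_comp_mk₀] at hx
  have h1 : φ ≫ m = 0 := by
    apply (Ext.mk₀_bijective Z B).1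
    rw [hx, Ext.mk₀_zero]
  have h2 : φ = 0 := by
    rw [← cancel_mono m, h1, zero_comp]
  rw [h2, Ext.mk₀_zero]

set_option maxHeartbeats 3200000 in
include hS in
theorem step_inj [Injective S.X₂] (hN : NullHyp c) (n : ℕ) (ihQ : Inj c S.X₃ n)
    (ihI : Surj c S.X₂ n) : Inj c S.X₁ (n + 1) := by
  intro j ξj hξ
  haveI := injective_push c S j
  have h0 : ξj.comp (Ext.mk₀ (S1 c S j).f) (add_zero (n + 1)) = 0 := Ext.eq_zero_of_injective _
  obtain ⟨pj, hpj⟩ := Ext.covariant_sequence_exact₁ _ (hS1 c S hS j) ξj h0 rfl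
  -- the class of `pj` on the limit comes from `S.X₂`
  have h1 : (hJ c S.X₃ j n (((EtCoh.HF _ n).map ((mP c S).app j)).hom pj)).comp hS.extClass rfl = 0 := by
    rw [← delta_hJ c S hS j pj, hpj, hξ]
  obtain ⟨ι', hι'⟩ := Ext.covariant_sequence_exact₃ _ hS _ rfl h1
  obtain ⟨j', ιj', hιj'⟩ := ihI ι'
  obtain ⟨l, hjl, hj'l⟩ := directed_of (· ≤ ·) j j'
  -- move to the stage `l`
  let pl := (P c S).T hjl n pj
  let ιl := (RSys c S.X₂).T hj'l n ιj'
  let p' : EtCoh.H (XX Xs l) ((P c S).obj l) n := pl - push ((πP c S).app l) ιl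
  have hp'δ : p'.comp (hS1 c S hS l).extClass rfl = (RSys c S.X₁).T hjl (n + 1) ξj := by
    dsimp only [p']
    rw [sub_eq_add_neg, Ext.add_comp, Ext.neg_comp, ← sub_eq_add_neg, ← delta1 c S hS hjl pj, hpj]
    have : (push ((πP c S).app l) ιl).comp (hS1 c S hS l).extClass rfl = 0 :=
      push_g_delta (hS1 c S hS l) rfl ιl
    rw [this, sub_zero]
  have hp'Q : hJ c S.X₃ l n (((EtCoh.HF _ n).map ((mP c S).app l)).hom p') = 0 := by
    dsimp only [p', pl, ιl]
    rw [map_sub, map_sub, ← Sys.T_nat (mP c S) hjl n pj, hJ_T]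
    have e2 : ((EtCoh.HF _ n).map ((mP c S).app l)).hom
        (push ((πP c S).app l) ((RSys c S.X₂).T hj'l n ιj')) =
        ((EtCoh.HF _ n).map ((RSys.map c S.g).app l)).hom ((RSys c S.X₂).T hj'l n ιj') := by
      rw [← π_m c S l]
      exact (push_comp _ _ _).symm
    rw [e2, hJ_nat, hJ_T, hιj']
    have e3 : ((EtCoh.HF _ n).map S.g).hom ι' = ι'.comp (Ext.mk₀ S.g) (add_zero n) := rfl
    rw [e3, hι', sub_self]
  obtain ⟨k, hlk, hk⟩ := ihQ l _ hp'Q
  rw [Sys.T_nat (mP c S) hlk n p'] at hk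
  have hk' : ((P c S).T hlk n p').comp (Ext.mk₀ (S2 c S k).f) (add_zero n) = 0 := hk
  -- the class dies at a later stage
  have key : ∃ (k' : ι) (hlk' : l ≤ k'), (P c S).T hlk' n p' = 0 := by
    cases n with
    | zero =>
      haveI := (hS2 c S hS k).mono_f
      exact ⟨k, hlk, ext0_eq_zero_of_mono (S2 c S k).f _ hk'⟩
    | succ m =>
      obtain ⟨cc, hcc⟩ := Ext.covariant_sequence_exact₁ _ (hS2 c S hS k) _ hk' rfl
      obtain ⟨k', hkk', hk'0⟩ := hN S.g hS.epi_g k m cc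
      refine ⟨k', hlk.trans hkk', ?_⟩
      rw [← Sys.T_comp (P c S) hlk hkk', ← hcc, delta2 c S hS hkk' cc, hk'0, Ext.zero_comp]
  obtain ⟨k', hlk', hk'0⟩ := key
  refine ⟨k', hjl.trans hlk', ?_⟩
  rw [← Sys.T_comp (RSys c S.X₁) hjl hlk', ← hp'δ, delta1 c S hS hlk' p', hk'0, Ext.zero_comp]

end H9FE.LimPush
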