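import Mathlib
import Groth.Agent.Lib.Helper9.FE.LimPush2
import Groth.Agent.Lib.Helper9.FE.LimPush3

/-! helper9: cohomology of a limit of schemes, push version, part 4: the induction.  If the quotient
systems of the push towers of epimorphisms are cohomologically null (`NullHyp`), then for every
abelian sheaf `M` on the limit `X` of a directed inverse system of schemes `X_j`, the cohomology
`H^n(X, M)` is the colimit of the `H^n(X_j, u_{j*} M)` (elementwise form). -/

set_option autoImplicit false
set_option linter.unusedSectionVars false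
set_option linter.style.haveILetI false
set_option backward.isDefEq.respectTransparency false
universe u
open CategoryTheory CategoryTheory.Limits AlgebraicGeometry Opposite Abelian

namespace H9FE.LimPush
open H9FE.LimTower H9FE.EtTr H9FE.AdjExt H9FE.ExtFilteredColim

variable {ι : Type u} [Preorder ι] {Xs : ιᵒᵖ ⥤ Scheme.{u}} (c : Cone Xs)

lemma hJ_zero_bijective (M : EtCoh.Ab c.pt) (j : ι) : Function.Bijective (hJ c M j 0) := by
  have h := htr_id_zero_bijective (EtCoh.pull (cu Xs c j)) (EtCore.pullConst (cu Xs c j) ℤ)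
    (EtCoh.pullPushAdj (cu Xs c j)) M
  have e : ⇑(hJ c M j 0) = ⇑(htr (EtCoh.pull (cu Xs c j)) (EtCore.pullConst (cu Xs c j) ℤ)
      (EtCoh.pullPushAdj (cu Xs c j)) (𝟙 ((EtCoh.push (cu Xs c j)).obj M)) 0) := by
    funext x
    exact HofPush_eq (cu Xs c j) M 0 x
  rw [e]
  exact h

variable [IsDirected ι (· ≤ ·)] [Nonempty ι]

theorem surj_inj_zero (M : EtCoh.Ab c.pt) : Surj c M 0 ∧ Inj c M 0 := by
  refine ⟨?_, ?_⟩
  · intro ξ
    let j : ι := Classical.arbitrary ι
    obtain ⟨x, hx⟩ := (hJ_zero_bijective c M j).2 ξ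
    exact ⟨j, x, hx⟩
  · intro j ξj hξ
    have h0 : ξj = 0 := (hJ_zero_bijective c M j).1 (hξ.trans (map_zero _).symm)
    exact ⟨j, le_refl j, by rw [h0, map_zero]⟩

theorem push_thm (hN : NullHyp c) : ∀ (n : ℕ) (M : EtCoh.Ab c.pt), Surj c M n ∧ Inj c M n := by
  intro n
  induction n with
  | zero => exact surj_inj_zero c
  | succ n ih =>
    intro M
    let S : ShortComplex (EtCoh.Ab c.pt) :=
      ShortComplex.mk (Injective.ι M) (cokernel.π (Injective.ι M)) (cokernel.condition _)
    have hS : S.ShortExact := { exact := ShortComplex.exact_cokernel _ }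
    haveI : Injective S.X₂ := by
      change Injective (Injective.under M)
      infer_instance
    exact ⟨step_surj c S hS hN n (ih S.X₃).1, step_inj c S hS hN n (ih S.X₃).2 (ih S.X₂).1⟩

end H9FE.LimPush
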