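import Mathlib
import Groth.Prelude.Def_EtCore
import Groth.Prelude.Def_EtLim
import Groth.Agent.Lib.Helper9.FE.LimCmp4
import Groth.Agent.Lib.Helper9.FE.LimNull2
import Groth.Agent.Lib.Helper9.FE.LimPush4

/-! helper9: cohomology of a limit of schemes, the master comparison theorem `sys_thm`: for a
directed inverse system of quasi-compact quasi-separated schemes `X_j` with affine transition maps
and limit `X`, a system of abelian sheaves `A_j` on the stages with a morphism to the push tower
`u_{j*} M` of a sheaf `M` on `X` whose kernel and cokernel are null on sections over affine objects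
(`HK`, `HC`) satisfies `H^n(X, M) = colim_j H^n(X_j, A_j)` (elementwise form). -/

set_option autoImplicit false
set_option linter.unusedSectionVars false
set_option linter.style.haveILetI false
set_option backward.isDefEq.respectTransparency false
universe u
open CategoryTheory CategoryTheory.Limits AlgebraicGeometry Opposite Abelian

namespace H9FE.LimSys
open H9FE.LimTower H9FE.EtTr H9FE.LimPush H9FE.LimNull H9FE.LimCmp H9FE.LimGeom H9FE.EtQcClass

variable {ι : Type u} [Preorder ι] [IsDirected ι (· ≤ ·)] {Xs : ιᵒᵖ ⥤ Scheme.{u}} (c : Cone Xs)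
  {A : Sys Xs} (M : EtCoh.Ab c.pt) (a : Sys.Hom A (RSys c M))

/-- kernel hypothesis: a section of `A_j` over an affine object dying in `u_{j*} M` dies at a later
stage -/
def HK : Prop :=
  ∀ (j : ι) (V : (XX Xs j).Etale), IsAffine V.left → ∀ s : (A.obj j).obj.obj (op V),
    (a.app j).hom.app (op V) s = 0 → ∃ (k : ι) (h : j ≤ k), (A.θ h).hom.app (op V) s = 0

/-- cokernel hypothesis: a section of `u_{j*} M` over an affine object comes, at a later stage and
locally, from `A` -/
def HC : Prop :=
  ∀ (j : ι) (W : (XX Xs j).Etale), IsAffine W.left → ∀ t : ((RSys c M).obj j).obj.obj (op W),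
    ∃ (k : ι) (h : j ≤ k) (m : ℕ) (W' : Fin m → (XX Xs k).Etale)
      (g' : ∀ b, W' b ⟶ (EtCoh.bc (uu Xs h)).obj W),
      (∀ x : ((EtCoh.bc (uu Xs h)).obj W).left, ∃ (b : Fin m) (w : (W' b).left),
        (g' b).left w = x) ∧
      ∀ b, ∃ s : (A.obj k).obj.obj (op (W' b)), (a.app k).hom.app (op (W' b)) s =
        ((RSys c M).obj k).obj.map (g' b).op
          ((((RSys c M).θ h).hom.app (op W) t :) :
            ((RSys c M).obj k).obj.obj (op ((EtCoh.bc (uu Xs h)).obj W)))

variable {c M a}

lemma sNull_ker (hK : HK c M a) (j : ι) (V : (XX Xs j).Etale) (hV : IsAffine V.left)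
    (s : ((Sys.ker a).obj j).obj.obj (op V)) : SNull (Sys.ker a) j V s := by
  have e0 : (a.app j).hom.app (op V) ((kernel.ι (a.app j)).hom.app (op V) s) = 0 := by
    have e := kernel.condition (a.app j)
    have e2 := congrArg (fun τ => τ.hom.app (op V)) e
    exact ConcreteCategory.congr_hom e2 s
  obtain ⟨k, h, hk⟩ := hK j V hV _ e0
  refine ⟨k, h, ?_⟩
  apply mono_sect_injective ((EtCoh.push (uu Xs h)).map (kernel.ι (a.app k))) V
  rw [map_zero]
  have e := kerθ_ι a h
  have e2 := congrArg (fun τ => τ.hom.app (op V)) e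
  have e3 := ConcreteCategory.congr_hom e2 s
  exact e3.trans hk

lemma sNull_cokerπ (hC : HC c M a) (j : ι) (W : (XX Xs j).Etale) (hW : IsAffine W.left)
    (t : ((RSys c M).obj j).obj.obj (op W)) :
    SNull (Sys.coker a) j W ((cokernel.π (a.app j)).hom.app (op W) t) := by
  obtain ⟨k, h, m, W', g', hsurj, hW'⟩ := hC j W hW t
  refine ⟨k, h, ?_⟩
  have e1 := (Sys.cokerπ a).comm h
  have e2 := congrArg (fun τ => τ.hom.app (op W)) e1
  have e3 := ConcreteCategory.congr_hom e2 t
  refine e3.symm.trans ?_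
  change ((cokernel.π (a.app k)).hom.app (op ((EtCoh.bc (uu Xs h)).obj W)))
    ((((RSys c M).θ h).hom.app (op W)) t) = 0
  apply H9FE.SiteSectColim.sheaf_ext ((Sys.coker a).obj k) W' g' (ofArrows_mem W' g' hsurj)
  intro b
  rw [map_zero]
  obtain ⟨s, hs⟩ := hW' b
  have e5 := (cokernel.π (a.app k)).hom.naturality (g' b).op
  have e6 := ConcreteCategory.congr_hom e5 ((((RSys c M).θ h).hom.app (op W)) t)
  refine e6.symm.trans ?_
  change ((cokernel.π (a.app k)).hom.app (op (W' b)))
    (((RSys c M).obj k).obj.map (g' b).op ((((RSys c M).θ h).hom.app (op W)) t)) = 0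
  rw [← hs]
  have e8 : a.app k ≫ cokernel.π (a.app k) = 0 := cokernel.condition _
  have e9 := congrArg (fun τ => τ.hom.app (op (W' b))) e8
  exact ConcreteCategory.congr_hom e9 s

lemma sNull_coker' (hC : HC c M a) (j : ι) (V : (XX Xs j).Etale) (hV : IsAffine V.left)
    (s : ((Sys.coker a).obj j).obj.obj (op V)) : SNull (Sys.coker a) j V s := by
  haveI : Sheaf.IsLocallySurjective (cokernel.π (a.app j)) :=
    (Sheaf.isLocallySurjective_iff_epi' (φ := cokernel.π (a.app j))).2 inferInstance
  have hS := Presheaf.imageSieve_mem (XX Xs j).smallEtaleTopology (cokernel.π (a.app j)).hom s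
  obtain ⟨m, W, gW, haffW, hTg, hcov⟩ := exists_finite_affine_refinement V _ hS
  apply sNull_of_cover (Sys.coker a) j V s W gW (ofArrows_mem W gW hcov)
  intro b
  obtain ⟨q, hq⟩ := hTg b
  have h := sNull_cokerπ hC j (W b) (haffW b) q
  have hq' : (cokernel.π (a.app j)).hom.app (op (W b)) q =
      ((Sys.coker a).obj j).obj.map (gW b).op s := hq
  rw [hq'] at h
  exact h

variable (hqc : ∀ x, CompactSpace ↥(Xs.obj x)) (hqs : ∀ x, QuasiSeparatedSpace ↥(Xs.obj x))

include hqc hqs in
lemma cNull_ker (hK : HK c M a) : CNull (Sys.ker a) := by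
  intro j n ξ
  haveI : CompactSpace (XX Xs j) := hqc (op j)
  haveI : QuasiSeparatedSpace (XX Xs j) := hqs (op j)
  exact null_of_sections (Sys.ker a) j (fun V hV s => sNull_ker hK j V hV s) n ξ

include hqc hqs in
lemma cNull_coker (hC : HC c M a) : CNull (Sys.coker a) := by
  intro j n ξ
  haveI : CompactSpace (XX Xs j) := hqc (op j)
  haveI : QuasiSeparatedSpace (XX Xs j) := hqs (op j)
  exact null_of_sections (Sys.coker a) j (fun V hV s => sNull_coker' hC j V hV s) n ξ

include hqc hqs in
/-- the master comparison theorem: a system `A` mapping to the push tower of a sheaf `M` on the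
limit, with kernel and cokernel null on sections, computes the cohomology of `M` -/
theorem sys_thm [Nonempty ι] (haff : ∀ ⦃x y : ιᵒᵖ⦄ (h : x ⟶ y), IsAffineHom (Xs.map h))
    (hc : IsLimit c) (hK : HK c M a) (hC : HC c M a) (n : ℕ) :
    (∀ ξ : EtCoh.H c.pt M n, ∃ (j : ι) (α : EtCoh.H (XX Xs j) (A.obj j) n),
      hJ c M j n (((EtCoh.HF _ n).map (a.app j)).hom α) = ξ) ∧
    (∀ (j : ι) (α : EtCoh.H (XX Xs j) (A.obj j) n),
      hJ c M j n (((EtCoh.HF _ n).map (a.app j)).hom α) = 0 →
        ∃ (k : ι) (h : j ≤ k), A.T h n α = 0) :=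
  cmp_thm c M a (cNull_ker hqc hqs hK) (cNull_coker hqc hqs hC) n
    (push_thm c (nullHyp haff c hc hqc hqs) n M)

end H9FE.LimSys
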