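import Mathlib
import Groth.Prelude.Def_EtCore
import Groth.Prelude.Def_EtLim
import Groth.Agent.Lib.Helper9.FE.LimPull2
import Groth.Agent.Lib.Helper9.FE.LimLoc
import Groth.Agent.Lib.Helper9.FE.LimSys

/-! helper9: cohomology of a limit of schemes, pull version part 3: the kernel hypothesis `HK` of
the master comparison theorem for the system of pullbacks of a sheaf on the bottom stage
(`hK_pull`): a section of a pullback at a stage dying on the limit dies at a later stage. -/

set_option autoImplicit false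
set_option linter.unusedSectionVars false
set_option linter.style.haveILetI false
set_option backward.isDefEq.respectTransparency false
universe u
open CategoryTheory CategoryTheory.Limits AlgebraicGeometry Opposite Abelian

namespace H9FE.LimPull
open H9FE.LimTower H9FE.EtTr H9FE.LimNull H9FE.LimGeom H9FE.EtQcClass H9FE.LimLoc
  Groth.Agent.Lib.Helper5 H9FE.LimSys

section Sect

variable {X Y : Scheme.{u}} (g : X ⟶ Y) (F : EtCoh.Ab Y)

/-- a restriction of the image of a section under the unit vanishes if locally the section is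
killed -/
lemma unit_restr_eq_zero (U : Y.Etale) (σ : F.obj.obj (op U)) (T : X.Etale)
    (ψ : T ⟶ (EtCoh.bc g).obj U)
    (hloc : ∀ y : T.left, ∃ (U' : Y.Etale) (k : U' ⟶ U) (T' : X.Etale) (r : T' ⟶ T)
      (ψ' : T' ⟶ (EtCoh.bc g).obj U') (y' : T'.left), F.obj.map k.op σ = 0 ∧
        r ≫ ψ = ψ' ≫ (EtCoh.bc g).map k ∧ r.left y' = y) :
    ((EtCoh.pull g).obj F).obj.map ψ.op
      (((EtCoh.pullPushAdj g).unit.app F).hom.app (op U) σ) = 0 := by
  obtain ⟨x, hx⟩ : ∃ x, x = ((EtCoh.pull g).obj F).obj.map ψ.op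
      (((EtCoh.pullPushAdj g).unit.app F).hom.app (op U) σ) := ⟨_, rfl⟩
  rw [← hx]
  let R : Sieve T :=
    { arrows := fun W r => ((EtCoh.pull g).obj F).obj.map r.op x = 0
      downward_closed := fun {W W'} r hr a => by
        change ((EtCoh.pull g).obj F).obj.map (a ≫ r).op x = 0
        rw [map_comp_apply, hr, map_zero] }
  have hR : R ∈ X.smallEtaleTopology T := by
    rw [EtSiteBasic.mem_smallEtale_iff]
    intro y
    obtain ⟨U', k, T', r, ψ', y', hk, hcomm, hy'⟩ := hloc y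
    refine ⟨T', r, y', ?_, hy'⟩
    change ((EtCoh.pull g).obj F).obj.map r.op x = 0
    rw [hx, ← map_comp_apply, hcomm, map_comp_apply, unit_map, hk, map_zero, map_zero]
  apply ab_sect_ext ((EtCoh.pull g).obj F) R hR
  intro W r hr
  rw [map_zero]
  exact hr

end Sect

section HK

variable {ι : Type u} [Preorder ι] [IsDirected ι (· ≤ ·)] {Xs : ιᵒᵖ ⥤ Scheme.{u}}
  (haff : ∀ ⦃a b : ιᵒᵖ⦄ (h : a ⟶ b), IsAffineHom (Xs.map h)) (c : Cone Xs) (hc : IsLimit c)
  (o : ι) (ho : ∀ l, o ≤ l) (F : EtCoh.Ab (XX Xs o))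

include haff hc in
/-- the kernel condition for sections which are restrictions of images of sections of `F` -/
theorem hK_local (l : ι) (V : (XX Xs l).Etale) [CompactSpace V.left] [QuasiSeparatedSpace V.left]
    (U : (XX Xs o).Etale) (φ : V ⟶ (EtCoh.bc (uu Xs (ho l))).obj U) (σ : F.obj.obj (op U))
    (h0 : (psi (cu Xs c l) (uu Xs (ho l)) (cu Xs c o) (cu_comp Xs c (ho l)) F).hom.app (op V)
      (((EtCoh.pull (uu Xs (ho l))).obj F).obj.map φ.op
        (((EtCoh.pullPushAdj (uu Xs (ho l))).unit.app F).hom.app (op U) σ)) = 0) :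
    ∃ (m : ι) (hm : l ≤ m),
      (psi (uu Xs hm) (uu Xs (ho l)) (uu Xs (ho m)) (uu_comp Xs (ho l) hm) F).hom.app (op V)
        (((EtCoh.pull (uu Xs (ho l))).obj F).obj.map φ.op
          (((EtCoh.pullPushAdj (uu Xs (ho l))).unit.app F).hom.app (op U) σ)) = 0 := by
  -- the vanishing on the limit
  have h1 := (psi_sec (cu Xs c l) (uu Xs (ho l)) (cu Xs c o) (cu_comp Xs c (ho l)) F V U φ
    σ).symm.trans h0
  -- the open subset of `V` where `σ` is locally killed
  let Sx : Set V.left := {x | ∃ (U' : (XX Xs o).Etale) (k : U' ⟶ U) (_ : F.obj.map k.op σ = 0)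
    (z : (pullback φ ((EtCoh.bc (uu Xs (ho l))).map k)).left),
    (pullback.fst φ ((EtCoh.bc (uu Xs (ho l))).map k)).left z = x}
  have hSx : IsOpen Sx := by
    have e : Sx = ⋃ (U' : (XX Xs o).Etale), ⋃ (k : U' ⟶ U), ⋃ (_ : F.obj.map k.op σ = 0),
        Set.range (pullback.fst φ ((EtCoh.bc (uu Xs (ho l))).map k)).left := by
      ext x
      simp only [Set.mem_iUnion, Set.mem_range]
      rfl
    rw [e]
    refine isOpen_iUnion fun U' => isOpen_iUnion fun k => isOpen_iUnion fun _ => ?_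
    haveI : Etale (pullback.fst φ ((EtCoh.bc (uu Xs (ho l))).map k)).left := inferInstance
    exact (pullback.fst φ ((EtCoh.bc (uu Xs (ho l))).map k)).left.isOpenMap.isOpen_range
  have hA : ∀ y : ((EtCoh.bc (cu Xs c l)).obj V).left, p1 (cu Xs c l) V y ∈ (⟨Sx, hSx⟩ :
      V.left.Opens) := by
    intro y
    obtain ⟨U', k, z, hk, hz⟩ := exists_local_vanish (cu Xs c o) F U σ
      ((EtCoh.bc (cu Xs c l)).obj V) ((EtCoh.bc (cu Xs c l)).map φ ≫
        pcInv (cu Xs c l) (uu Xs (ho l)) (cu Xs c o) (cu_comp Xs c (ho l)) U) h1 y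
    have e1 : φ.left (p1 (cu Xs c l) V y) =
        ((EtCoh.bc (uu Xs (ho l))).map k).left (cvπ Xs c o U' (ho l) z) := by
      rw [← Scheme.Hom.comp_apply, ← Scheme.Hom.comp_apply, cvπ_natural,
        ← bcmap_pcInv_cvπ Xs c (ho l) U V φ, Scheme.Hom.comp_apply, Scheme.Hom.comp_apply, hz]
    obtain ⟨z', hz1, -⟩ := et_pullback_exists_preimage φ ((EtCoh.bc (uu Xs (ho l))).map k)
      (p1 (cu Xs c l) V y) (cvπ Xs c o U' (ho l) z) e1
    exact ⟨U', k, hk, z', hz1⟩
  obtain ⟨m, hm, hB⟩ := exists_stage_mapsTo Xs haff c hc l V ⟨Sx, hSx⟩ hA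
  refine ⟨m, hm, ?_⟩
  refine (psi_sec (uu Xs hm) (uu Xs (ho l)) (uu Xs (ho m)) (uu_comp Xs (ho l) hm) F V U φ
    σ).trans ?_
  apply unit_restr_eq_zero
  intro y
  obtain ⟨U', k, hk, z, hz⟩ := hB y
  obtain ⟨y', hy', -⟩ := bc_map_exists_preimage (uu Xs hm)
    (pullback.fst φ ((EtCoh.bc (uu Xs (ho l))).map k)) y z hz.symm
  refine ⟨U', k, (EtCoh.bc (uu Xs hm)).obj (pullback φ ((EtCoh.bc (uu Xs (ho l))).map k)),
    (EtCoh.bc (uu Xs hm)).map (pullback.fst φ ((EtCoh.bc (uu Xs (ho l))).map k)),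
    (EtCoh.bc (uu Xs hm)).map (pullback.snd φ ((EtCoh.bc (uu Xs (ho l))).map k)) ≫
      pcInv (uu Xs hm) (uu Xs (ho l)) (uu Xs (ho m)) (uu_comp Xs (ho l) hm) U', y', hk, ?_, hy'⟩
  rw [Category.assoc, ← pcInv_natural, ← Category.assoc, ← Category.assoc, ← Functor.map_comp,
    ← Functor.map_comp, pullback.condition]

include haff hc in
/-- the kernel hypothesis for the system of pullbacks -/
theorem hK_pull : HK c ((EtCoh.pull (cu Xs c o)).obj F) (pullHom c o ho F) := by
  intro l V hV s hs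
  haveI : IsAffine V.left := hV
  -- the sieve of morphisms on which `s` is a restriction of the image of a section of `F`
  let S : Sieve V :=
    { arrows := fun W g => ∃ (U : (XX Xs o).Etale) (φ : W ⟶ (EtCoh.bc (uu Xs (ho l))).obj U)
        (σ : F.obj.obj (op U)), ((pullSys o ho F).obj l).obj.map g.op s =
          ((EtCoh.pull (uu Xs (ho l))).obj F).obj.map φ.op
            (((EtCoh.pullPushAdj (uu Xs (ho l))).unit.app F).hom.app (op U) σ)
      downward_closed := fun {W W'} g hg a => by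
        obtain ⟨U, φ, σ, e⟩ := hg
        refine ⟨U, a ≫ φ, σ, ?_⟩
        have e1 := map_comp_apply ((pullSys o ho F).obj l) a g s
        have e2 := map_comp_apply ((EtCoh.pull (uu Xs (ho l))).obj F) a φ
          (((EtCoh.pullPushAdj (uu Xs (ho l))).unit.app F).hom.app (op U) σ)
        exact e1.trans ((congrArg _ e).trans e2.symm) }
  have hS : S ∈ (XX Xs l).smallEtaleTopology V := by
    rw [EtSiteBasic.mem_smallEtale_iff]
    intro x
    obtain ⟨T', g, x', hx', U, φ, σ, e⟩ := exists_local_unit (uu Xs (ho l)) F V s x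
    exact ⟨T', g, x', ⟨U, φ, σ, e⟩, hx'⟩
  obtain ⟨n, W0, g0, haffW, hSg, hcov⟩ := exists_finite_affine_refinement V S hS
  apply sNull_of_cover (pullSys o ho F) l V s W0 g0 (ofArrows_mem W0 g0 hcov)
  intro b
  obtain ⟨U, φ, σ, e⟩ := hSg b
  haveI : IsAffine (W0 b).left := haffW b
  have h0 : (psi (cu Xs c l) (uu Xs (ho l)) (cu Xs c o) (cu_comp Xs c (ho l)) F).hom.app
      (op (W0 b)) (((EtCoh.pull (uu Xs (ho l))).obj F).obj.map φ.op
        (((EtCoh.pullPushAdj (uu Xs (ho l))).unit.app F).hom.app (op U) σ)) = 0 := by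
    rw [← e]
    have e1 := nat_apply ((pullHom c o ho F).app l) (g0 b) s
    refine e1.trans ?_
    rw [hs, map_zero]
  obtain ⟨m, hm, hz⟩ := hK_local haff c hc o ho F l (W0 b) U φ σ h0
  refine ⟨m, hm, ?_⟩
  rw [e]
  exact hz

end HK

end H9FE.LimPull
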