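import Mathlib
import Groth.Prelude.Def_EtCore
import Groth.Prelude.Def_EtLim
import Groth.Agent.Lib.Helper9.FE.LimPull3

/-! helper9: cohomology of a limit of schemes, pull version part 4: the cokernel hypothesis `HC` of
the master comparison theorem for the system of pullbacks of a sheaf on the bottom stage
(`hC_pull`): a section of the pullback to the limit over the base change of an affine object of a
stage comes, at a later stage and locally, from the pullback to that stage. -/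

set_option autoImplicit false
set_option linter.unusedSectionVars false
set_option linter.style.haveILetI false
set_option backward.isDefEq.respectTransparency false
universe u
open CategoryTheory CategoryTheory.Limits AlgebraicGeometry Opposite Abelian

namespace H9FE.LimPull
open H9FE.LimTower H9FE.EtTr H9FE.LimNull H9FE.LimGeom H9FE.EtQcClass H9FE.LimLoc
  Groth.Agent.Lib.Helper5 H9FE.LimSys

section Geom

variable {X Y Z T : Scheme.{u}} (a : X ⟶ Y) (b : Y ⟶ Z) (d : Z ⟶ T) (ab : X ⟶ Z) (bd : Y ⟶ T)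
  (abd : X ⟶ T) (w1 : a ≫ b = ab) (w2 : b ≫ d = bd) (w3 : ab ≫ d = abd) (w4 : a ≫ bd = abd)

lemma geom_i (W : T.Etale) (W' : Z.Etale) (g : W' ⟶ (EtCoh.bc d).obj W) :
    (EtCoh.bc a).map ((EtCoh.bc b).map g ≫ pcInv b d bd w2 W) ≫ pcInv a bd abd w4 W =
      pcInv a b ab w1 W' ≫ (EtCoh.bc ab).map g ≫ pcInv ab d abd w3 W := by
  apply bc_hom_ext
  have e1 : ((EtCoh.bc a).map ((EtCoh.bc b).map g ≫ pcInv b d bd w2 W) ≫
      pcInv a bd abd w4 W).left =
      ((EtCoh.bc a).map ((EtCoh.bc b).map g ≫ pcInv b d bd w2 W)).left ≫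
        (pcInv a bd abd w4 W).left := rfl
  have e2 : (pcInv a b ab w1 W' ≫ (EtCoh.bc ab).map g ≫ pcInv ab d abd w3 W).left =
      (pcInv a b ab w1 W').left ≫ ((EtCoh.bc ab).map g).left ≫ (pcInv ab d abd w3 W).left := rfl
  have e3 : ((EtCoh.bc b).map g ≫ pcInv b d bd w2 W).left =
      ((EtCoh.bc b).map g).left ≫ (pcInv b d bd w2 W).left := rfl
  rw [e1, e2]
  simp only [Category.assoc]
  rw [pcInv_p1, bc_map_p1_assoc, e3, Category.assoc, pcInv_p1, bc_map_p1_assoc,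
    pcInv_p1, bc_map_p1_assoc, pcInv_p1_assoc]

end Geom

section HC

variable {ι : Type u} [Preorder ι] [IsDirected ι (· ≤ ·)] {Xs : ιᵒᵖ ⥤ Scheme.{u}}
  (haff : ∀ ⦃a b : ιᵒᵖ⦄ (h : a ⟶ b), IsAffineHom (Xs.map h)) (c : Cone Xs) (hc : IsLimit c)
  (o : ι) (ho : ∀ l, o ≤ l) (F : EtCoh.Ab (XX Xs o))

lemma pcInv_cvπ' {j k : ι} (h : j ≤ k) (V : (XX Xs j).Etale) :
    (pcInv (cu Xs c k) (uu Xs h) (cu Xs c j) (cu_comp Xs c h) V).left ≫ cvπ Xs c j V h =
      p1 (cu Xs c k) ((EtCoh.bc (uu Xs h)).obj V) := by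
  apply p_hom_ext (uu Xs h) V
  · rw [Category.assoc, cvπ_p1, pcInv_p1]
  · rw [Category.assoc, cvπ_p2, pcInv_p2_assoc]
    exact (p_cond (cu Xs c k) ((EtCoh.bc (uu Xs h)).obj V)).symm

lemma geom_ii {k m : ι} (hkm : k ≤ m) (W' : (XX Xs k).Etale) (U : (XX Xs o).Etale)
    (φ : (EtCoh.bc (cu Xs c k)).obj W' ⟶ (EtCoh.bc (cu Xs c o)).obj U)
    (χ : (EtCoh.bc (uu Xs hkm)).obj W' ⟶ (EtCoh.bc (uu Xs (ho m))).obj U)
    (gb : ((EtCoh.bc (uu Xs hkm)).obj W').left ⟶ U.left)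
    (hχ : χ.left ≫ p1 (uu Xs (ho m)) U = gb)
    (hg : cvπ Xs c k W' hkm ≫ gb = φ.left ≫ p1 (cu Xs c o) U) :
    (EtCoh.bc (cu Xs c m)).map χ ≫
      pcInv (cu Xs c m) (uu Xs (ho m)) (cu Xs c o) (cu_comp Xs c (ho m)) U =
      pcInv (cu Xs c m) (uu Xs hkm) (cu Xs c k) (cu_comp Xs c hkm) W' ≫ φ := by
  apply bc_hom_ext
  have e1 : ((EtCoh.bc (cu Xs c m)).map χ ≫
      pcInv (cu Xs c m) (uu Xs (ho m)) (cu Xs c o) (cu_comp Xs c (ho m)) U).left =
      ((EtCoh.bc (cu Xs c m)).map χ).left ≫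
        (pcInv (cu Xs c m) (uu Xs (ho m)) (cu Xs c o) (cu_comp Xs c (ho m)) U).left := rfl
  have e2 : (pcInv (cu Xs c m) (uu Xs hkm) (cu Xs c k) (cu_comp Xs c hkm) W' ≫ φ).left =
      (pcInv (cu Xs c m) (uu Xs hkm) (cu Xs c k) (cu_comp Xs c hkm) W').left ≫ φ.left := rfl
  rw [e1, e2, Category.assoc, Category.assoc, pcInv_p1, bc_map_p1_assoc, hχ, ← hg,
    ← Category.assoc, pcInv_cvπ']

include haff hc in
/-- the cokernel hypothesis for the system of pullbacks -/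
theorem hC_pull : HC c ((EtCoh.pull (cu Xs c o)).obj F) (pullHom c o ho F) := by
  intro l W hW t
  haveI : IsAffine W.left := hW
  -- the sieve of morphisms on which `t` is a restriction of the image of a section of `F`
  let S : Sieve ((EtCoh.bc (cu Xs c l)).obj W) :=
    { arrows := fun T' g => ∃ (U : (XX Xs o).Etale) (φ : T' ⟶ (EtCoh.bc (cu Xs c o)).obj U)
        (σ : F.obj.obj (op U)), ((EtCoh.pull (cu Xs c o)).obj F).obj.map g.op t =
          ((EtCoh.pull (cu Xs c o)).obj F).obj.map φ.op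
            (((EtCoh.pullPushAdj (cu Xs c o)).unit.app F).hom.app (op U) σ)
      downward_closed := fun {T' T''} g hg a => by
        obtain ⟨U, φ, σ, e⟩ := hg
        refine ⟨U, a ≫ φ, σ, ?_⟩
        have e1 := map_comp_apply ((EtCoh.pull (cu Xs c o)).obj F) a g t
        have e2 := map_comp_apply ((EtCoh.pull (cu Xs c o)).obj F) a φ
          (((EtCoh.pullPushAdj (cu Xs c o)).unit.app F).hom.app (op U) σ)
        exact e1.trans ((congrArg _ e).trans e2.symm) }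
  have hS : S ∈ c.pt.smallEtaleTopology ((EtCoh.bc (cu Xs c l)).obj W) := by
    rw [EtSiteBasic.mem_smallEtale_iff]
    intro x
    obtain ⟨T', g, x', hx', U, φ, σ, e⟩ := exists_local_unit (cu Xs c o) F
      ((EtCoh.bc (cu Xs c l)).obj W) t x
    exact ⟨T', g, x', ⟨U, φ, σ, e⟩, hx'⟩
  obtain ⟨k, hk, m1, W', g, hq, hsurj, hSg⟩ := exists_cover_descent' Xs haff c l W hc S hS
  choose U φ σ e using hSg
  -- descent of the morphisms to the `U b`
  have hE : ∀ b, ∃ (mb : ι) (_ : k ≤ mb), ∀ (m' : ι) (hm' : k ≤ m') (_ : mb ≤ m'),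
      ∃ gb : ((EtCoh.bc (uu Xs hm')).obj (W' b)).left ⟶ (U b).left,
        cvπ Xs c k (W' b) hm' ≫ gb = (φ b).left ≫ p1 (cu Xs c o) (U b) ∧
          gb ≫ (U b).hom = p2 (uu Xs hm') (W' b) ≫ uu Xs ((ho k).trans hm') := by
    intro b
    haveI := (hq b).1
    haveI := (hq b).2
    refine exists_hom_descent Xs haff c k hc (W' b) (ho k) (U b)
      ((φ b).left ≫ p1 (cu Xs c o) (U b)) ?_
    rw [Category.assoc, p_cond, ← Category.assoc]
    congr 1
    exact MorphismProperty.Over.w (φ b)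
  choose mb hmb hE' using hE
  haveI : Nonempty ι := ⟨l⟩
  obtain ⟨m0, hm0⟩ := Finite.exists_le mb
  obtain ⟨m, hkm, hm0m⟩ := exists_ge_ge k m0
  have hlm : l ≤ m := hk.trans hkm
  refine ⟨m, hlm, m1, fun b => (EtCoh.bc (uu Xs hkm)).obj (W' b), fun b =>
    (EtCoh.bc (uu Xs hkm)).map (g b) ≫
      pcInv (uu Xs hkm) (uu Xs hk) (uu Xs hlm) (uu_comp Xs hk hkm) W, ?_, ?_⟩
  · intro x
    obtain ⟨z, hz⟩ := pcInv_surj (uu Xs hkm) (uu Xs hk) (uu Xs hlm) (uu_comp Xs hk hkm) W x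
    obtain ⟨b, w, hw⟩ := hsurj (p1 (uu Xs hkm) ((EtCoh.bc (uu Xs hk)).obj W) z)
    obtain ⟨z', hz', -⟩ := bc_map_exists_preimage (uu Xs hkm) (g b) z w hw.symm
    refine ⟨b, z', ?_⟩
    have e1 : ((EtCoh.bc (uu Xs hkm)).map (g b) ≫
        pcInv (uu Xs hkm) (uu Xs hk) (uu Xs hlm) (uu_comp Xs hk hkm) W).left =
        ((EtCoh.bc (uu Xs hkm)).map (g b)).left ≫
          (pcInv (uu Xs hkm) (uu Xs hk) (uu Xs hlm) (uu_comp Xs hk hkm) W).left := rfl
    rw [e1, Scheme.Hom.comp_apply, hz', hz]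
  · intro b
    obtain ⟨gb, hg1, hg2⟩ := hE' b m hkm ((hm0 b).trans hm0m)
    let χ : (EtCoh.bc (uu Xs hkm)).obj (W' b) ⟶ (EtCoh.bc (uu Xs (ho m))).obj (U b) :=
      MorphismProperty.Over.homMk (pLift (uu Xs (ho m)) (U b) gb (p2 (uu Xs hkm) (W' b)) hg2)
        (pLift_p2 _ _ _ _ _) trivial
    have hχ : χ.left ≫ p1 (uu Xs (ho m)) (U b) = gb := pLift_p1 _ _ _ _ _
    refine ⟨((EtCoh.pull (uu Xs (ho m))).obj F).obj.map χ.op
      (((EtCoh.pullPushAdj (uu Xs (ho m))).unit.app F).hom.app (op (U b)) (σ b)), ?_⟩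
    have E1 := psi_sec (cu Xs c m) (uu Xs (ho m)) (cu Xs c o) (cu_comp Xs c (ho m)) F
      ((EtCoh.bc (uu Xs hkm)).obj (W' b)) (U b) χ (σ b)
    have E2 := geom_ii c o ho hkm (W' b) (U b) (φ b) χ gb hχ hg1
    have E3 := geom_i (cu Xs c m) (uu Xs hkm) (uu Xs hk) (cu Xs c k) (uu Xs hlm) (cu Xs c l)
      (cu_comp Xs c hkm) (uu_comp Xs hk hkm) (cu_comp Xs c hk) (cu_comp Xs c hlm) W (W' b) (g b)
    have E4 := push_obj_map_apply (cu Xs c m) ((EtCoh.pull (cu Xs c o)).obj F)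
      ((EtCoh.bc (uu Xs hkm)).map (g b) ≫
        pcInv (uu Xs hkm) (uu Xs hk) (uu Xs hlm) (uu_comp Xs hk hkm) W)
      (((pc (cu Xs c m) (uu Xs hlm) (cu Xs c l) (cu_comp Xs c hlm)).inv.app
        ((EtCoh.pull (cu Xs c o)).obj F)).hom.app (op W) t)
    have E5 := pc_inv_apply (cu Xs c m) (uu Xs hlm) (cu Xs c l) (cu_comp Xs c hlm)
      ((EtCoh.pull (cu Xs c o)).obj F) W t
    refine E1.trans ?_
    refine Eq.trans ?_ E4.symm
    have R1 := congrArg (fun q => ((EtCoh.pull (cu Xs c o)).obj F).obj.map q.op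
      (((EtCoh.pullPushAdj (cu Xs c o)).unit.app F).hom.app (op (U b)) (σ b))) E2
    have R2 := map_comp_apply ((EtCoh.pull (cu Xs c o)).obj F)
      (pcInv (cu Xs c m) (uu Xs hkm) (cu Xs c k) (cu_comp Xs c hkm) (W' b)) (φ b)
      (((EtCoh.pullPushAdj (cu Xs c o)).unit.app F).hom.app (op (U b)) (σ b))
    have R3 := congrArg (((EtCoh.pull (cu Xs c o)).obj F).obj.map
      (pcInv (cu Xs c m) (uu Xs hkm) (cu Xs c k) (cu_comp Xs c hkm) (W' b)).op) (e b)
    have R4 := map_comp_apply ((EtCoh.pull (cu Xs c o)).obj F)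
      (pcInv (cu Xs c m) (uu Xs hkm) (cu Xs c k) (cu_comp Xs c hkm) (W' b))
      ((EtCoh.bc (cu Xs c k)).map (g b) ≫
        pcInv (cu Xs c k) (uu Xs hk) (cu Xs c l) (cu_comp Xs c hk) W) t
    have R5 := congrArg (fun q => ((EtCoh.pull (cu Xs c o)).obj F).obj.map q.op t) E3
    have R6 := map_comp_apply ((EtCoh.pull (cu Xs c o)).obj F)
      ((EtCoh.bc (cu Xs c m)).map ((EtCoh.bc (uu Xs hkm)).map (g b) ≫
        pcInv (uu Xs hkm) (uu Xs hk) (uu Xs hlm) (uu_comp Xs hk hkm) W))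
      (pcInv (cu Xs c m) (uu Xs hlm) (cu Xs c l) (cu_comp Xs c hlm) W) t
    have R7 := congrArg (((EtCoh.pull (cu Xs c o)).obj F).obj.map
      ((EtCoh.bc (cu Xs c m)).map ((EtCoh.bc (uu Xs hkm)).map (g b) ≫
        pcInv (uu Xs hkm) (uu Xs hk) (uu Xs hlm) (uu_comp Xs hk hkm) W)).op) E5
    exact R1.trans (R2.trans (R3.symm.trans (R4.symm.trans (R5.symm.trans (R6.trans R7.symm)))))

end HC

end H9FE.LimPull
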