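import Mathlib
import Groth.Prelude.Def_EtCore
import Groth.Prelude.Def_EtLim
import Groth.Prelude.Def_EtShriek2
import Groth.Agent.Lib.Helper5.Misc.JContGen
import Groth.Agent.Lib.Helper9.FE.LimPull2
import Groth.Agent.S0623

/-! helper9: towers of étale schemes over a base `X` (a functor `E : ιᵒᵖ ⥤ X.Etale`): the underlying
tower of schemes `Xs E`, for an abelian étale sheaf `F` on `X` the system `sysA E F` of the
restrictions of `F` to the stages (sections over `V ⟶ X_j` are the sections of `F` over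
`V ⟶ X_j ⟶ X`), and for a cone `c` over the tower with a compatible morphism `g : c.pt ⟶ X` the
morphism of systems `sysHom` to the push tower of `g⁻¹ F`. -/

set_option autoImplicit false
set_option linter.unusedSectionVars false
set_option linter.style.haveILetI false
set_option backward.isDefEq.respectTransparency false
universe u
open CategoryTheory CategoryTheory.Limits AlgebraicGeometry Opposite Abelian

namespace H9FE.StkSys
open H9FE.LimTower H9FE.LimGeom H9FE.LimPull Groth.Agent.Lib.Helper5.Misc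

variable {X : Scheme.{u}} {ι : Type u} [Preorder ι] (E : ιᵒᵖ ⥤ X.Etale)

/-- the tower of schemes underlying a tower of étale `X`-schemes -/
noncomputable abbrev Xs : ιᵒᵖ ⥤ Scheme.{u} where
  obj a := (E.obj a).left
  map m := (E.map m).left
  map_id a := by rw [E.map_id]; rfl
  map_comp m n := by rw [E.map_comp]; rfl

/-- the structure morphism of the stage `X_j` -/
noncomputable abbrev pp (j : ι) : XX (Xs E) j ⟶ X := (E.obj (op j)).hom

instance etale_pp (j : ι) : Etale (pp E j) := (E.obj (op j)).prop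

lemma uu_pp {j k : ι} (h : j ≤ k) : uu (Xs E) h ≫ pp E j = pp E k :=
  MorphismProperty.Over.w (E.map (homOfLE h).op)

/-- the morphism `V ×_{X_j} X_k ⟶ V` of étale `X`-schemes -/
noncomputable def qq {j k : ι} (h : j ≤ k) (V : (XX (Xs E) j).Etale) :
    (EtShriek.compEtale (pp E k)).obj ((EtCoh.bc (uu (Xs E) h)).obj V) ⟶
      (EtShriek.compEtale (pp E j)).obj V :=
  MorphismProperty.Over.homMk (p1 (uu (Xs E) h) V) (by
    change p1 (uu (Xs E) h) V ≫ V.hom ≫ pp E j = p2 (uu (Xs E) h) V ≫ pp E k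
    rw [p_cond_assoc, uu_pp]) trivial

lemma qq_left {j k : ι} (h : j ≤ k) (V : (XX (Xs E) j).Etale) :
    (qq E h V).left = p1 (uu (Xs E) h) V := rfl

lemma qq_natural {j k : ι} (h : j ≤ k) {V V' : (XX (Xs E) j).Etale} (r : V' ⟶ V) :
    (EtShriek.compEtale (pp E k)).map ((EtCoh.bc (uu (Xs E) h)).map r) ≫ qq E h V =
      qq E h V' ≫ (EtShriek.compEtale (pp E j)).map r := by
  apply MorphismProperty.Over.Hom.ext
  exact bc_map_p1 (uu (Xs E) h) r

variable (F : EtCoh.Ab X)

/-- the transition maps of the system of restrictions -/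
noncomputable def sysθ {j k : ι} (h : j ≤ k) :
    (EtShriek.restrAlong (pp E j)).obj F ⟶
      (EtCoh.push (uu (Xs E) h)).obj ((EtShriek.restrAlong (pp E k)).obj F) :=
  ObjectProperty.homMk
    { app := fun V => F.obj.map (qq E h V.unop).op
      naturality := fun V V' r => by
        change F.obj.map ((EtShriek.compEtale (pp E j)).map r.unop).op ≫
            F.obj.map (qq E h V'.unop).op =
          F.obj.map (qq E h V.unop).op ≫ F.obj.map ((EtShriek.compEtale (pp E k)).map
            ((EtCoh.bc (uu (Xs E) h)).map r.unop)).op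
        rw [← Functor.map_comp, ← Functor.map_comp, ← op_comp, ← op_comp, qq_natural] }

lemma sysθ_app {j k : ι} (h : j ≤ k) (V : (XX (Xs E) j).Etale)
    (x : F.obj.obj (op ((EtShriek.compEtale (pp E j)).obj V))) :
    (sysθ E F h).hom.app (op V) x = F.obj.map (qq E h V).op x := rfl

lemma restr_map_apply (j : ι) {V V' : (XX (Xs E) j).Etale} (r : V' ⟶ V)
    (x : F.obj.obj (op ((EtShriek.compEtale (pp E j)).obj V))) :
    ((EtShriek.restrAlong (pp E j)).obj F).obj.map r.op x =
      F.obj.map ((EtShriek.compEtale (pp E j)).map r).op x := rfl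

lemma sys_cocycle {j k l : ι} (hjk : j ≤ k) (hkl : k ≤ l) :
    sysθ E F hjk ≫ (EtCoh.push (uu (Xs E) hjk)).map (sysθ E F hkl) ≫
      (pc (uu (Xs E) hkl) (uu (Xs E) hjk) (uu (Xs E) (hjk.trans hkl))
        (uu_comp (Xs E) hjk hkl)).hom.app ((EtShriek.restrAlong (pp E l)).obj F) =
      sysθ E F (hjk.trans hkl) := by
  apply Sheaf.hom_ext
  apply NatTrans.ext
  funext V
  obtain ⟨V⟩ := V
  apply ConcreteCategory.hom_ext
  intro x
  have e1 : (sysθ E F hjk ≫ (EtCoh.push (uu (Xs E) hjk)).map (sysθ E F hkl) ≫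
      (pc (uu (Xs E) hkl) (uu (Xs E) hjk) (uu (Xs E) (hjk.trans hkl))
        (uu_comp (Xs E) hjk hkl)).hom.app ((EtShriek.restrAlong (pp E l)).obj F)).hom.app (op V) x =
      ((pc (uu (Xs E) hkl) (uu (Xs E) hjk) (uu (Xs E) (hjk.trans hkl))
        (uu_comp (Xs E) hjk hkl)).hom.app ((EtShriek.restrAlong (pp E l)).obj F)).hom.app (op V)
        ((sysθ E F hkl).hom.app (op ((EtCoh.bc (uu (Xs E) hjk)).obj V))
          ((sysθ E F hjk).hom.app (op V) x)) := rfl
  refine e1.trans ?_
  refine (ConcreteCategory.congr_hom (pc_hom_app (uu (Xs E) hkl) (uu (Xs E) hjk)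
    (uu (Xs E) (hjk.trans hkl)) (uu_comp (Xs E) hjk hkl) ((EtShriek.restrAlong (pp E l)).obj F) V)
    _).trans ?_
  show F.obj.map ((EtShriek.compEtale (pp E l)).map
        (pcMor (uu (Xs E) hkl) (uu (Xs E) hjk) (uu (Xs E) (hjk.trans hkl))
          (uu_comp (Xs E) hjk hkl) V)).op
      (F.obj.map (qq E hkl ((EtCoh.bc (uu (Xs E) hjk)).obj V)).op
        (F.obj.map (qq E hjk V).op x)) = F.obj.map (qq E (hjk.trans hkl) V).op x
  have m1 := map_comp_apply F (qq E hkl ((EtCoh.bc (uu (Xs E) hjk)).obj V)) (qq E hjk V) x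
  have m2 := map_comp_apply F ((EtShriek.compEtale (pp E l)).map
    (pcMor (uu (Xs E) hkl) (uu (Xs E) hjk) (uu (Xs E) (hjk.trans hkl))
      (uu_comp (Xs E) hjk hkl) V)) (qq E hkl ((EtCoh.bc (uu (Xs E) hjk)).obj V) ≫ qq E hjk V) x
  have hgeom : (EtShriek.compEtale (pp E l)).map
      (pcMor (uu (Xs E) hkl) (uu (Xs E) hjk) (uu (Xs E) (hjk.trans hkl))
        (uu_comp (Xs E) hjk hkl) V) ≫ qq E hkl ((EtCoh.bc (uu (Xs E) hjk)).obj V) ≫ qq E hjk V =
      qq E (hjk.trans hkl) V := by
    apply MorphismProperty.Over.Hom.ext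
    exact pcMor_p1_p1 (uu (Xs E) hkl) (uu (Xs E) hjk) (uu (Xs E) (hjk.trans hkl))
      (uu_comp (Xs E) hjk hkl) V
  exact ((congrArg _ m1.symm).trans m2.symm).trans
    (congrArg (fun q => F.obj.map q.op x) hgeom)

/-- the system of restrictions of `F` to the stages -/
noncomputable def sysA : Sys (Xs E) where
  obj j := (EtShriek.restrAlong (pp E j)).obj F
  θ h := sysθ E F h
  cocycle hjk hkl := sys_cocycle E F hjk hkl

variable (c : Cone (Xs E)) (g : c.pt ⟶ X) (hg : ∀ j, cu (Xs E) c j ≫ pp E j = g)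

/-- the morphism `V ×_{X_j} X_∞ ⟶ X_∞ ×_X V` -/
noncomputable def psiV (j : ι) (V : (XX (Xs E) j).Etale) :
    (EtCoh.bc (cu (Xs E) c j)).obj V ⟶
      (EtCoh.bc g).obj ((EtShriek.compEtale (pp E j)).obj V) :=
  MorphismProperty.Over.homMk
    (pLift g ((EtShriek.compEtale (pp E j)).obj V) (p1 (cu (Xs E) c j) V)
      (p2 (cu (Xs E) c j) V) (by
        change p1 (cu (Xs E) c j) V ≫ V.hom ≫ pp E j = p2 (cu (Xs E) c j) V ≫ g
        rw [p_cond_assoc, hg]))
    (pLift_p2 _ _ _ _ _) trivial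

@[reassoc]
lemma psiV_p1 (j : ι) (V : (XX (Xs E) j).Etale) :
    (psiV E c g hg j V).left ≫ p1 g ((EtShriek.compEtale (pp E j)).obj V) =
      p1 (cu (Xs E) c j) V := pLift_p1 _ _ _ _ _

lemma psiV_natural (j : ι) {V V' : (XX (Xs E) j).Etale} (r : V' ⟶ V) :
    psiV E c g hg j V' ≫ (EtCoh.bc g).map ((EtShriek.compEtale (pp E j)).map r) =
      (EtCoh.bc (cu (Xs E) c j)).map r ≫ psiV E c g hg j V := by
  apply bc_hom_ext
  have e1 : (psiV E c g hg j V' ≫ (EtCoh.bc g).map ((EtShriek.compEtale (pp E j)).map r)).left =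
      (psiV E c g hg j V').left ≫
        ((EtCoh.bc g).map ((EtShriek.compEtale (pp E j)).map r)).left := rfl
  have e2 : ((EtCoh.bc (cu (Xs E) c j)).map r ≫ psiV E c g hg j V).left =
      ((EtCoh.bc (cu (Xs E) c j)).map r).left ≫ (psiV E c g hg j V).left := rfl
  rw [e1, e2, Category.assoc, Category.assoc, bc_map_p1, psiV_p1_assoc, psiV_p1, bc_map_p1]
  rfl

/-- the comparison `(g_* M)|_{X_j} ⟶ c_{j*} M` -/
noncomputable def Psi (M : EtCoh.Ab c.pt) (j : ι) :
    (EtShriek.restrAlong (pp E j)).obj ((EtCoh.push g).obj M) ⟶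
      (EtCoh.push (cu (Xs E) c j)).obj M :=
  ObjectProperty.homMk
    { app := fun V => M.obj.map (psiV E c g hg j V.unop).op
      naturality := fun V V' r => by
        change M.obj.map ((EtCoh.bc g).map ((EtShriek.compEtale (pp E j)).map r.unop)).op ≫
            M.obj.map (psiV E c g hg j V'.unop).op =
          M.obj.map (psiV E c g hg j V.unop).op ≫
            M.obj.map ((EtCoh.bc (cu (Xs E) c j)).map r.unop).op
        rw [← Functor.map_comp, ← Functor.map_comp, ← op_comp, ← op_comp, psiV_natural] }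

/-- the components of the morphism from the system of restrictions to the push tower of the
pullback -/
noncomputable def homApp (j : ι) :
    (EtShriek.restrAlong (pp E j)).obj F ⟶
      (EtCoh.push (cu (Xs E) c j)).obj ((EtCoh.pull g).obj F) :=
  (EtShriek.restrAlong (pp E j)).map ((EtCoh.pullPushAdj g).unit.app F) ≫
    Psi E c g hg ((EtCoh.pull g).obj F) j

lemma homApp_app (j : ι) (V : (XX (Xs E) j).Etale)
    (x : F.obj.obj (op ((EtShriek.compEtale (pp E j)).obj V))) :
    (homApp E F c g hg j).hom.app (op V) x =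
      ((EtCoh.pull g).obj F).obj.map (psiV E c g hg j V).op
        (((EtCoh.pullPushAdj g).unit.app F).hom.app
          (op ((EtShriek.compEtale (pp E j)).obj V)) x) := rfl

lemma geom_comm {j k : ι} (h : j ≤ k) (V : (XX (Xs E) j).Etale) :
    psiV E c g hg k ((EtCoh.bc (uu (Xs E) h)).obj V) ≫ (EtCoh.bc g).map (qq E h V) =
      pcInv (cu (Xs E) c k) (uu (Xs E) h) (cu (Xs E) c j) (cu_comp (Xs E) c h) V ≫
        psiV E c g hg j V := by
  apply bc_hom_ext
  have e1 : (psiV E c g hg k ((EtCoh.bc (uu (Xs E) h)).obj V) ≫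
      (EtCoh.bc g).map (qq E h V)).left =
      (psiV E c g hg k ((EtCoh.bc (uu (Xs E) h)).obj V)).left ≫
        ((EtCoh.bc g).map (qq E h V)).left := rfl
  have e2 : (pcInv (cu (Xs E) c k) (uu (Xs E) h) (cu (Xs E) c j) (cu_comp (Xs E) c h) V ≫
      psiV E c g hg j V).left =
      (pcInv (cu (Xs E) c k) (uu (Xs E) h) (cu (Xs E) c j) (cu_comp (Xs E) c h) V).left ≫
        (psiV E c g hg j V).left := rfl
  rw [e1, e2, Category.assoc, Category.assoc, bc_map_p1, psiV_p1_assoc, psiV_p1, pcInv_p1]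
  rfl

lemma sys_comm {j k : ι} (h : j ≤ k) :
    sysθ E F h ≫ (EtCoh.push (uu (Xs E) h)).map (homApp E F c g hg k) =
      homApp E F c g hg j ≫ (RSys c ((EtCoh.pull g).obj F)).θ h := by
  apply Sheaf.hom_ext
  apply NatTrans.ext
  funext V
  obtain ⟨V⟩ := V
  apply ConcreteCategory.hom_ext
  intro x
  have e1 : (sysθ E F h ≫ (EtCoh.push (uu (Xs E) h)).map (homApp E F c g hg k)).hom.app (op V) x =
      (homApp E F c g hg k).hom.app (op ((EtCoh.bc (uu (Xs E) h)).obj V))
        ((sysθ E F h).hom.app (op V) x) := rfl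
  have e2 : (homApp E F c g hg j ≫ (RSys c ((EtCoh.pull g).obj F)).θ h).hom.app (op V) x =
      ((pc (cu (Xs E) c k) (uu (Xs E) h) (cu (Xs E) c j) (cu_comp (Xs E) c h)).inv.app
        ((EtCoh.pull g).obj F)).hom.app (op V) ((homApp E F c g hg j).hom.app (op V) x) := rfl
  refine e1.trans ?_
  refine Eq.trans ?_ e2.symm
  refine Eq.trans ?_ (pc_inv_apply (cu (Xs E) c k) (uu (Xs E) h) (cu (Xs E) c j)
    (cu_comp (Xs E) c h) ((EtCoh.pull g).obj F) V _).symm
  show ((EtCoh.pull g).obj F).obj.map (psiV E c g hg k ((EtCoh.bc (uu (Xs E) h)).obj V)).op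
      (((EtCoh.pullPushAdj g).unit.app F).hom.app
        (op ((EtShriek.compEtale (pp E k)).obj ((EtCoh.bc (uu (Xs E) h)).obj V)))
        (F.obj.map (qq E h V).op x)) =
    ((EtCoh.pull g).obj F).obj.map
      (pcInv (cu (Xs E) c k) (uu (Xs E) h) (cu (Xs E) c j) (cu_comp (Xs E) c h) V).op
      (((EtCoh.pull g).obj F).obj.map (psiV E c g hg j V).op
        (((EtCoh.pullPushAdj g).unit.app F).hom.app
          (op ((EtShriek.compEtale (pp E j)).obj V)) x))
  have u1 := unit_map g F (qq E h V) x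
  have m1 := map_comp_apply ((EtCoh.pull g).obj F)
    (psiV E c g hg k ((EtCoh.bc (uu (Xs E) h)).obj V)) ((EtCoh.bc g).map (qq E h V))
    (((EtCoh.pullPushAdj g).unit.app F).hom.app (op ((EtShriek.compEtale (pp E j)).obj V)) x)
  have m2 := map_comp_apply ((EtCoh.pull g).obj F)
    (pcInv (cu (Xs E) c k) (uu (Xs E) h) (cu (Xs E) c j) (cu_comp (Xs E) c h) V)
    (psiV E c g hg j V)
    (((EtCoh.pullPushAdj g).unit.app F).hom.app (op ((EtShriek.compEtale (pp E j)).obj V)) x)
  have hgeom := geom_comm E c g hg h V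
  exact (congrArg _ u1.symm).trans (m1.symm.trans
    ((congrArg (fun q => ((EtCoh.pull g).obj F).obj.map q.op
      (((EtCoh.pullPushAdj g).unit.app F).hom.app
        (op ((EtShriek.compEtale (pp E j)).obj V)) x)) hgeom).trans m2))

/-- the morphism from the system of restrictions to the push tower of the pullback -/
noncomputable def sysHom : Sys.Hom (sysA E F) (RSys c ((EtCoh.pull g).obj F)) where
  app j := homApp E F c g hg j
  comm h := sys_comm E F c g hg h

end H9FE.StkSys
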