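import Mathlib
import Groth.Agent.Lib.Helper9.FE.StkSys
import Groth.Agent.Lib.Helper9.FE.LimPull4

/-! helper9: the cokernel hypothesis `HC` of the master comparison theorem for the system of
restrictions of a sheaf `F` on `X` to a tower of étale `X`-schemes (`hC_stk`): a section of `g⁻¹ F`
over the base change to the limit of an affine étale scheme over a stage comes, at a later stage
and locally, from sections of `F`; with the needed descent of morphisms to an étale `X`-scheme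
(`exists_hom_descent_base`). -/

set_option autoImplicit false
set_option linter.unusedSectionVars false
set_option linter.style.haveILetI false
set_option backward.isDefEq.respectTransparency false
universe u
open CategoryTheory CategoryTheory.Limits AlgebraicGeometry Opposite Abelian

namespace H9FE.StkSys
open H9FE.LimTower H9FE.LimGeom H9FE.LimPull H9FE.LimSys H9FE.LimNull H9FE.LimLoc H9FE.EtQcClass
  Groth.Agent.Lib.Helper5 Groth.Agent.Lib.Helper5.Misc

variable {X : Scheme.{u}} {ι : Type u} [Preorder ι] [IsDirected ι (· ≤ ·)] (E : ιᵒᵖ ⥤ X.Etale)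
  (haff : ∀ ⦃a b : ιᵒᵖ⦄ (h : a ⟶ b), IsAffineHom ((Xs E).map h))
  (F : EtCoh.Ab X) (c : Cone (Xs E)) (hc : IsLimit c) (g : c.pt ⟶ X)
  (hg : ∀ j, cu (Xs E) c j ≫ pp E j = g)

include haff hg in
/-- descent of morphisms to an étale `X`-scheme along the base-changed tower -/
theorem exists_hom_descent_base (hc : IsLimit c) (j : ι) (W : (XX (Xs E) j).Etale)
    [CompactSpace W.left] [QuasiSeparatedSpace W.left] (U : X.Etale)
    (a : ((EtCoh.bc (cu (Xs E) c j)).obj W).left ⟶ U.left)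
    (ha : a ≫ U.hom = p2 (cu (Xs E) c j) W ≫ g) :
    ∃ (m : ι) (_ : j ≤ m), ∀ (m' : ι) (hm' : j ≤ m') (_ : m ≤ m'),
      ∃ gb : ((EtCoh.bc (uu (Xs E) hm')).obj W).left ⟶ U.left,
        cvπ (Xs E) c j W hm' ≫ gb = a ∧ gb ≫ U.hom = p2 (uu (Xs E) hm') W ≫ pp E m' := by
  haveI : ∀ {a b : (Up j)ᵒᵖ} (t : a ⟶ b), IsAffineHom ((Dv (Xs E) j W).map t) :=
    fun t => dv_affine (Xs E) haff j W t
  haveI : ∀ i, CompactSpace ((Dv (Xs E) j W).obj i) :=
    fun i => (dv_qcqs (Xs E) haff j W i.unop.2).1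
  haveI : ∀ i, QuasiSeparatedSpace ((Dv (Xs E) j W).obj i) :=
    fun i => (dv_qcqs (Xs E) haff j W i.unop.2).2
  let t : Dv (Xs E) j W ⟶ (Functor.const (Up j)ᵒᵖ).obj X :=
    { app := fun k => p2 (uu (Xs E) k.unop.2) W ≫ pp E k.unop.1
      naturality := fun {k l} f => by
        change dvMap (Xs E) j W l.unop.2 (leOfHom f.unop) ≫ _ ≫ _ = (_ ≫ _) ≫ 𝟙 _
        rw [Category.comp_id, dvMap_p2_assoc, uu_pp] }
  haveI : Etale U.hom := U.prop
  haveI : LocallyOfFinitePresentation U.hom := inferInstance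
  have hat : (cv (Xs E) c j W).π ≫ t = (Functor.const _).map (a ≫ U.hom) := by
    ext k
    change cvπ (Xs E) c j W k.unop.2 ≫ p2 (uu (Xs E) k.unop.2) W ≫ pp E k.unop.1 = a ≫ U.hom
    rw [cvπ_p2_assoc, hg, ha]
  obtain ⟨i, gi, hg1, hg2⟩ := Scheme.exists_π_app_comp_eq_of_locallyOfFinitePresentation
    (Dv (Xs E) j W) t U.hom (cv (Xs E) c j W) (cvIsLimit (Xs E) c j W hc) a hat
  obtain ⟨⟨m, hm⟩⟩ := i
  refine ⟨m, hm, ?_⟩
  intro m' hm' hmm'
  refine ⟨dvMap (Xs E) j W hm hmm' ≫ gi, ?_, ?_⟩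
  · have e : cvπ (Xs E) c j W hm' ≫ dvMap (Xs E) j W hm hmm' = cvπ (Xs E) c j W hm := by
      apply p_hom_ext
      · rw [Category.assoc, dvMap_p1, cvπ_p1, cvπ_p1]
      · rw [Category.assoc, dvMap_p2, cvπ_p2_assoc, cvπ_p2, cu_comp]
    rw [← Category.assoc, e]
    exact hg1
  · rw [Category.assoc, hg2]
    change dvMap (Xs E) j W hm hmm' ≫ p2 (uu (Xs E) hm) W ≫ pp E m = _
    rw [dvMap_p2_assoc, uu_pp]

lemma geom_iii {k m : ι} (hkm : k ≤ m) (W' : (XX (Xs E) k).Etale) (U : X.Etale)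
    (φ : (EtCoh.bc (cu (Xs E) c k)).obj W' ⟶ (EtCoh.bc g).obj U)
    (χ : (EtShriek.compEtale (pp E m)).obj ((EtCoh.bc (uu (Xs E) hkm)).obj W') ⟶ U)
    (hg1 : cvπ (Xs E) c k W' hkm ≫ χ.left = φ.left ≫ p1 g U) :
    psiV E c g hg m ((EtCoh.bc (uu (Xs E) hkm)).obj W') ≫ (EtCoh.bc g).map χ =
      pcInv (cu (Xs E) c m) (uu (Xs E) hkm) (cu (Xs E) c k) (cu_comp (Xs E) c hkm) W' ≫ φ := by
  apply bc_hom_ext
  have e1 : (psiV E c g hg m ((EtCoh.bc (uu (Xs E) hkm)).obj W') ≫ (EtCoh.bc g).map χ).left =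
      (psiV E c g hg m ((EtCoh.bc (uu (Xs E) hkm)).obj W')).left ≫
        ((EtCoh.bc g).map χ).left := rfl
  have e2 : (pcInv (cu (Xs E) c m) (uu (Xs E) hkm) (cu (Xs E) c k) (cu_comp (Xs E) c hkm) W' ≫
      φ).left =
      (pcInv (cu (Xs E) c m) (uu (Xs E) hkm) (cu (Xs E) c k) (cu_comp (Xs E) c hkm) W').left ≫
        φ.left := rfl
  rw [e1, e2, Category.assoc, Category.assoc, bc_map_p1, psiV_p1_assoc, ← hg1, ← Category.assoc,
    pcInv_cvπ']

include haff hc in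
/-- the cokernel hypothesis for the system of restrictions -/
theorem hC_stk : HC c ((EtCoh.pull g).obj F) (sysHom E F c g hg) := by
  intro l W hW t
  haveI : IsAffine W.left := hW
  -- the sieve of morphisms on which `t` is a restriction of the image of a section of `F`
  let S : Sieve ((EtCoh.bc (cu (Xs E) c l)).obj W) :=
    { arrows := fun T' r => ∃ (U : X.Etale) (φ : T' ⟶ (EtCoh.bc g).obj U)
        (σ : F.obj.obj (op U)), ((EtCoh.pull g).obj F).obj.map r.op t =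
          ((EtCoh.pull g).obj F).obj.map φ.op
            (((EtCoh.pullPushAdj g).unit.app F).hom.app (op U) σ)
      downward_closed := fun {T' T''} r hr a => by
        obtain ⟨U, φ, σ, e⟩ := hr
        refine ⟨U, a ≫ φ, σ, ?_⟩
        have e1 := map_comp_apply ((EtCoh.pull g).obj F) a r t
        have e2 := map_comp_apply ((EtCoh.pull g).obj F) a φ
          (((EtCoh.pullPushAdj g).unit.app F).hom.app (op U) σ)
        exact e1.trans ((congrArg _ e).trans e2.symm) }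
  have hS : S ∈ c.pt.smallEtaleTopology ((EtCoh.bc (cu (Xs E) c l)).obj W) := by
    rw [EtSiteBasic.mem_smallEtale_iff]
    intro x
    obtain ⟨T', r, x', hx', U, φ, σ, e⟩ := exists_local_unit g F
      ((EtCoh.bc (cu (Xs E) c l)).obj W) t x
    exact ⟨T', r, x', ⟨U, φ, σ, e⟩, hx'⟩
  obtain ⟨k, hk, m1, W', gW, hq, hsurj, hSg⟩ :=
    exists_cover_descent' (Xs E) haff c l W hc S hS
  choose U φ σ e using hSg
  -- descent of the morphisms to the `U b`
  have hE : ∀ b, ∃ (mb : ι) (_ : k ≤ mb), ∀ (m' : ι) (hm' : k ≤ m') (_ : mb ≤ m'),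
      ∃ gb : ((EtCoh.bc (uu (Xs E) hm')).obj (W' b)).left ⟶ (U b).left,
        cvπ (Xs E) c k (W' b) hm' ≫ gb = (φ b).left ≫ p1 g (U b) ∧
          gb ≫ (U b).hom = p2 (uu (Xs E) hm') (W' b) ≫ pp E m' := by
    intro b
    haveI := (hq b).1
    haveI := (hq b).2
    refine exists_hom_descent_base E haff c g hg hc k (W' b) (U b)
      ((φ b).left ≫ p1 g (U b)) ?_
    rw [Category.assoc, p_cond, ← Category.assoc]
    congr 1
    exact MorphismProperty.Over.w (φ b)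
  choose mb hmb hE' using hE
  haveI : Nonempty ι := ⟨l⟩
  obtain ⟨m0, hm0⟩ := Finite.exists_le mb
  obtain ⟨m, hkm, hm0m⟩ := exists_ge_ge k m0
  have hlm : l ≤ m := hk.trans hkm
  refine ⟨m, hlm, m1, fun b => (EtCoh.bc (uu (Xs E) hkm)).obj (W' b), fun b =>
    (EtCoh.bc (uu (Xs E) hkm)).map (gW b) ≫
      pcInv (uu (Xs E) hkm) (uu (Xs E) hk) (uu (Xs E) hlm) (uu_comp (Xs E) hk hkm) W, ?_, ?_⟩
  · intro x
    obtain ⟨z, hz⟩ := pcInv_surj (uu (Xs E) hkm) (uu (Xs E) hk) (uu (Xs E) hlm)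
      (uu_comp (Xs E) hk hkm) W x
    obtain ⟨b, w, hw⟩ := hsurj (p1 (uu (Xs E) hkm) ((EtCoh.bc (uu (Xs E) hk)).obj W) z)
    obtain ⟨z', hz', -⟩ := bc_map_exists_preimage (uu (Xs E) hkm) (gW b) z w hw.symm
    refine ⟨b, z', ?_⟩
    have e1 : ((EtCoh.bc (uu (Xs E) hkm)).map (gW b) ≫
        pcInv (uu (Xs E) hkm) (uu (Xs E) hk) (uu (Xs E) hlm) (uu_comp (Xs E) hk hkm) W).left =
        ((EtCoh.bc (uu (Xs E) hkm)).map (gW b)).left ≫
          (pcInv (uu (Xs E) hkm) (uu (Xs E) hk) (uu (Xs E) hlm)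
            (uu_comp (Xs E) hk hkm) W).left := rfl
    rw [e1, Scheme.Hom.comp_apply, hz', hz]
  · intro b
    obtain ⟨gb, hg1, hg2⟩ := hE' b m hkm ((hm0 b).trans hm0m)
    let χ : (EtShriek.compEtale (pp E m)).obj ((EtCoh.bc (uu (Xs E) hkm)).obj (W' b)) ⟶ U b :=
      MorphismProperty.Over.homMk gb hg2 trivial
    have hχ : χ.left = gb := rfl
    refine ⟨F.obj.map χ.op (σ b), ?_⟩
    have E1 : ((sysHom E F c g hg).app m).hom.app
        (op ((EtCoh.bc (uu (Xs E) hkm)).obj (W' b))) (F.obj.map χ.op (σ b)) =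
        ((EtCoh.pull g).obj F).obj.map
          (psiV E c g hg m ((EtCoh.bc (uu (Xs E) hkm)).obj (W' b))).op
          (((EtCoh.pullPushAdj g).unit.app F).hom.app
            (op ((EtShriek.compEtale (pp E m)).obj ((EtCoh.bc (uu (Xs E) hkm)).obj (W' b))))
            (F.obj.map χ.op (σ b))) := rfl
    have U1 := unit_map g F χ (σ b)
    have M1 := map_comp_apply ((EtCoh.pull g).obj F)
      (psiV E c g hg m ((EtCoh.bc (uu (Xs E) hkm)).obj (W' b))) ((EtCoh.bc g).map χ)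
      (((EtCoh.pullPushAdj g).unit.app F).hom.app (op (U b)) (σ b))
    have E2 := geom_iii E c g hg hkm (W' b) (U b) (φ b) χ (by rw [hχ]; exact hg1)
    have E3 := geom_i (cu (Xs E) c m) (uu (Xs E) hkm) (uu (Xs E) hk) (cu (Xs E) c k)
      (uu (Xs E) hlm) (cu (Xs E) c l) (cu_comp (Xs E) c hkm) (uu_comp (Xs E) hk hkm)
      (cu_comp (Xs E) c hk) (cu_comp (Xs E) c hlm) W (W' b) (gW b)
    have E4 := push_obj_map_apply (cu (Xs E) c m) ((EtCoh.pull g).obj F)
      ((EtCoh.bc (uu (Xs E) hkm)).map (gW b) ≫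
        pcInv (uu (Xs E) hkm) (uu (Xs E) hk) (uu (Xs E) hlm) (uu_comp (Xs E) hk hkm) W)
      (((pc (cu (Xs E) c m) (uu (Xs E) hlm) (cu (Xs E) c l) (cu_comp (Xs E) c hlm)).inv.app
        ((EtCoh.pull g).obj F)).hom.app (op W) t)
    have E5 := pc_inv_apply (cu (Xs E) c m) (uu (Xs E) hlm) (cu (Xs E) c l)
      (cu_comp (Xs E) c hlm) ((EtCoh.pull g).obj F) W t
    refine E1.trans ?_
    refine Eq.trans ?_ E4.symm
    have R1 := congrArg (fun q => ((EtCoh.pull g).obj F).obj.map q.op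
      (((EtCoh.pullPushAdj g).unit.app F).hom.app (op (U b)) (σ b))) E2
    have R2 := map_comp_apply ((EtCoh.pull g).obj F)
      (pcInv (cu (Xs E) c m) (uu (Xs E) hkm) (cu (Xs E) c k) (cu_comp (Xs E) c hkm) (W' b))
      (φ b) (((EtCoh.pullPushAdj g).unit.app F).hom.app (op (U b)) (σ b))
    have R3 := congrArg (((EtCoh.pull g).obj F).obj.map
      (pcInv (cu (Xs E) c m) (uu (Xs E) hkm) (cu (Xs E) c k)
        (cu_comp (Xs E) c hkm) (W' b)).op) (e b)
    have R4 := map_comp_apply ((EtCoh.pull g).obj F)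
      (pcInv (cu (Xs E) c m) (uu (Xs E) hkm) (cu (Xs E) c k) (cu_comp (Xs E) c hkm) (W' b))
      ((EtCoh.bc (cu (Xs E) c k)).map (gW b) ≫
        pcInv (cu (Xs E) c k) (uu (Xs E) hk) (cu (Xs E) c l) (cu_comp (Xs E) c hk) W) t
    have R5 := congrArg (fun q => ((EtCoh.pull g).obj F).obj.map q.op t) E3
    have R6 := map_comp_apply ((EtCoh.pull g).obj F)
      ((EtCoh.bc (cu (Xs E) c m)).map ((EtCoh.bc (uu (Xs E) hkm)).map (gW b) ≫
        pcInv (uu (Xs E) hkm) (uu (Xs E) hk) (uu (Xs E) hlm) (uu_comp (Xs E) hk hkm) W))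
      (pcInv (cu (Xs E) c m) (uu (Xs E) hlm) (cu (Xs E) c l) (cu_comp (Xs E) c hlm) W) t
    have R7 := congrArg (((EtCoh.pull g).obj F).obj.map
      ((EtCoh.bc (cu (Xs E) c m)).map ((EtCoh.bc (uu (Xs E) hkm)).map (gW b) ≫
        pcInv (uu (Xs E) hkm) (uu (Xs E) hk) (uu (Xs E) hlm)
          (uu_comp (Xs E) hk hkm) W)).op) E5
    exact (congrArg _ U1.symm).trans (M1.symm.trans (R1.trans (R2.trans (R3.symm.trans
      (R4.symm.trans (R5.symm.trans (R6.trans R7.symm)))))))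

end H9FE.StkSys
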