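import Mathlib
import Groth.Agent.Lib.Helper9.FE.StkSys
import Groth.Agent.Lib.Helper9.FE.LimPull3

/-! helper9: the kernel hypothesis `HK` of the master comparison theorem for the system of
restrictions of a sheaf `F` on `X` to a tower of étale `X`-schemes (`hK_stk`): a section of `F`
over an affine étale scheme over a stage which dies in `g⁻¹ F` on the limit dies at a later
stage. -/

set_option autoImplicit false
set_option linter.unusedSectionVars false
set_option linter.style.haveILetI false
set_option backward.isDefEq.respectTransparency false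
universe u
open CategoryTheory CategoryTheory.Limits AlgebraicGeometry Opposite Abelian

namespace H9FE.StkSys
open H9FE.LimTower H9FE.LimGeom H9FE.LimPull H9FE.LimSys H9FE.LimNull H9FE.LimLoc
  Groth.Agent.Lib.Helper5 Groth.Agent.Lib.Helper5.Misc

variable {X : Scheme.{u}} {ι : Type u} [Preorder ι] [IsDirected ι (· ≤ ·)] (E : ιᵒᵖ ⥤ X.Etale)
  (haff : ∀ ⦃a b : ιᵒᵖ⦄ (h : a ⟶ b), IsAffineHom ((Xs E).map h))
  (F : EtCoh.Ab X) (c : Cone (Xs E)) (hc : IsLimit c) (g : c.pt ⟶ X)
  (hg : ∀ j, cu (Xs E) c j ≫ pp E j = g)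

include haff hc in
/-- the kernel hypothesis for the system of restrictions -/
theorem hK_stk : HK c ((EtCoh.pull g).obj F) (sysHom E F c g hg) := by
  intro j V hV s hs
  haveI : IsAffine V.left := hV
  have hs' : ((EtCoh.pull g).obj F).obj.map (psiV E c g hg j V).op
      (((EtCoh.pullPushAdj g).unit.app F).hom.app
        (op ((EtShriek.compEtale (pp E j)).obj V)) s) = 0 := hs
  -- the open subset of `V` where `s` is locally killed
  let Sx : Set V.left := {x | ∃ (V' : X.Etale) (k : V' ⟶ (EtShriek.compEtale (pp E j)).obj V)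
    (_ : F.obj.map k.op s = 0) (z : V'.left), k.left z = x}
  have hSx : IsOpen Sx := by
    have e : Sx = ⋃ (V' : X.Etale), ⋃ (k : V' ⟶ (EtShriek.compEtale (pp E j)).obj V),
        ⋃ (_ : F.obj.map k.op s = 0), Set.range k.left := by
      ext x
      simp only [Set.mem_iUnion, Set.mem_range]
      rfl
    rw [e]
    refine isOpen_iUnion fun V' => isOpen_iUnion fun k => isOpen_iUnion fun _ => ?_
    haveI : Etale k.left := inferInstance
    exact k.left.isOpenMap.isOpen_range
  have hA : ∀ y : ((EtCoh.bc (cu (Xs E) c j)).obj V).left,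
      p1 (cu (Xs E) c j) V y ∈ (⟨Sx, hSx⟩ : V.left.Opens) := by
    intro y
    obtain ⟨V', k, z, hk, hz⟩ := exists_local_vanish g F ((EtShriek.compEtale (pp E j)).obj V) s
      ((EtCoh.bc (cu (Xs E) c j)).obj V) (psiV E c g hg j V) hs' y
    refine ⟨V', k, hk, p1 g V' z, ?_⟩
    have e1 : k.left (p1 g V' z) =
        p1 g ((EtShriek.compEtale (pp E j)).obj V) (((EtCoh.bc g).map k).left z) := by
      rw [← Scheme.Hom.comp_apply, ← Scheme.Hom.comp_apply, bc_map_p1]
    rw [e1, hz, ← Scheme.Hom.comp_apply, psiV_p1]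
    rfl
  obtain ⟨m, hm, hB⟩ := exists_stage_mapsTo (Xs E) haff c hc j V ⟨Sx, hSx⟩ hA
  refine ⟨m, hm, ?_⟩
  show F.obj.map (qq E hm V).op s = 0
  let R : Sieve ((EtShriek.compEtale (pp E m)).obj ((EtCoh.bc (uu (Xs E) hm)).obj V)) :=
    { arrows := fun W r => F.obj.map r.op (F.obj.map (qq E hm V).op s) = 0
      downward_closed := fun {W W'} r hr a => by
        change F.obj.map (a ≫ r).op (F.obj.map (qq E hm V).op s) = 0
        rw [map_comp_apply, hr, map_zero] }
  have hR : R ∈ X.smallEtaleTopology _ := by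
    rw [EtSiteBasic.mem_smallEtale_iff]
    intro y
    obtain ⟨V', k, hk, z, hz⟩ := hB y
    obtain ⟨z', hz1, -⟩ := et_pullback_exists_preimage (qq E hm V) k y z hz.symm
    refine ⟨pullback (qq E hm V) k, pullback.fst (qq E hm V) k, z', ?_, hz1⟩
    change F.obj.map (pullback.fst (qq E hm V) k).op (F.obj.map (qq E hm V).op s) = 0
    rw [← map_comp_apply, pullback.condition, map_comp_apply, hk, map_zero]
  apply ab_sect_ext F R hR
  intro W r hr
  rw [map_zero]
  exact hr

end H9FE.StkSys
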