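import Mathlib
import Groth.Prelude.Def_EtCore
import Groth.Prelude.Def_EtLim
import Groth.Agent.Lib.Helper3.EtMV2
import Groth.Agent.Lib.Helper9.FE.LimSys

/-! helper9: the transition maps `tr f θ` on étale cohomology in degree zero in terms of global
sections (`ev_tr`), and the resulting form of the master comparison theorem for limits of schemes
in degree zero in terms of global sections (`sys_sections`). -/

set_option autoImplicit false
set_option linter.unusedSectionVars false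
set_option linter.style.haveILetI false
set_option backward.isDefEq.respectTransparency false
universe u
open CategoryTheory CategoryTheory.Limits AlgebraicGeometry Opposite Abelian

namespace H9FE.StkSec
open H9FE.LimTower H9FE.EtTr H9FE.LimSys H9FE.AdjExt H9FE.ExtFilteredColim
  Groth.Agent.Helper3.EtMV2 EtCore

section TR0

variable {X Y : Scheme.{u}} (f : X ⟶ Y)

lemma ev_push {A B : EtCoh.Ab X} (ψ : A ⟶ B) (y : Ext (EtCoh.const X ℤ) A 0) :
    ev X B (push ψ y) = ψ.hom.app (op (EtCoh.top X)) (ev X A y) :=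
  (Sheaf.H.equiv₀_naturality (topIsTerminal X) ψ y).symm

lemma unit_tp {A : EtCoh.Ab Y} {A' : EtCoh.Ab X} (θ : A ⟶ (EtCoh.push f).obj A') :
    (EtCoh.pullPushAdj f).unit.app A ≫ (EtCoh.push f).map (tp (EtCoh.pull f) (EtCoh.pullPushAdj f) θ) =
      θ := by
  rw [tp_eq]
  have h := (EtCoh.pullPushAdj f).homEquiv_unit (X := A) (Y := A')
    (f := ((EtCoh.pullPushAdj f).homEquiv A A').symm θ)
  rw [Equiv.apply_symm_apply] at h
  exact h.symm

lemma sigma_tp {A : EtCoh.Ab Y} {A' : EtCoh.Ab X} (θ : A ⟶ (EtCoh.push f).obj A') :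
    (σ f).app A ≫ (gsec X).map (tp (EtCoh.pull f) (EtCoh.pullPushAdj f) θ) =
      (gsec Y).map θ ≫ (pushGsecIso f).hom.app A' := by
  have h2 := (pushGsecIso f).hom.naturality (tp (EtCoh.pull f) (EtCoh.pullPushAdj f) θ)
  rw [σ_app, Category.assoc, ← h2, ← Category.assoc]
  congr 1
  have h3 : (gsec Y).map ((EtCoh.pullPushAdj f).unit.app A) ≫
      (EtCoh.push f ⋙ gsec Y).map (tp (EtCoh.pull f) (EtCoh.pullPushAdj f) θ) =
      (gsec Y).map ((EtCoh.pullPushAdj f).unit.app A ≫
        (EtCoh.push f).map (tp (EtCoh.pull f) (EtCoh.pullPushAdj f) θ)) := by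
    rw [Functor.map_comp]
    rfl
  rw [h3, unit_tp]

/-- the transition map in degree zero on global sections -/
theorem ev_tr {A : EtCoh.Ab Y} {A' : EtCoh.Ab X} (θ : A ⟶ (EtCoh.push f).obj A')
    (x : EtCoh.H Y A 0) :
    ev X A' (tr f θ 0 x) =
      ((pushGsecIso f).hom.app A').hom (θ.hom.app (op (EtCoh.top Y)) (ev Y A x)) := by
  have e1 : tr f θ 0 x = push (tp (EtCoh.pull f) (EtCoh.pullPushAdj f) θ)
      (Groth.Agent.Helper3.EtMV1.hp f A 0 x) := rfl
  rw [e1, ev_push, ev_hp]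
  exact ConcreteCategory.congr_hom (sigma_tp f θ) (ev Y A x)

end TR0

section Sys

variable {ι : Type u} [Preorder ι] [IsDirected ι (· ≤ ·)] {Xs : ιᵒᵖ ⥤ Scheme.{u}} (c : Cone Xs)
  {A : Sys Xs} (M : EtCoh.Ab c.pt) (a : Sys.Hom A (RSys c M))
  (hqc : ∀ x, CompactSpace ↥(Xs.obj x)) (hqs : ∀ x, QuasiSeparatedSpace ↥(Xs.obj x))

include hqc hqs in
/-- the master comparison theorem in degree zero, on global sections -/
theorem sys_sections [Nonempty ι] (haff : ∀ ⦃x y : ιᵒᵖ⦄ (h : x ⟶ y), IsAffineHom (Xs.map h))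
    (hc : IsLimit c) (hK : HK c M a) (hC : HC c M a) :
    (∀ t : M.obj.obj (op (EtCoh.top c.pt)),
      ∃ (j : ι) (x : (A.obj j).obj.obj (op (EtCoh.top (XX Xs j)))),
        ((pushGsecIso (cu Xs c j)).hom.app M).hom
          ((a.app j).hom.app (op (EtCoh.top (XX Xs j))) x) = t) ∧
    (∀ (j : ι) (x : (A.obj j).obj.obj (op (EtCoh.top (XX Xs j)))),
      ((pushGsecIso (cu Xs c j)).hom.app M).hom
          ((a.app j).hom.app (op (EtCoh.top (XX Xs j))) x) = 0 →
        ∃ (k : ι) (h : j ≤ k), ((pushGsecIso (uu Xs h)).hom.app (A.obj k)).hom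
          ((A.θ h).hom.app (op (EtCoh.top (XX Xs j))) x) = 0) := by
  obtain ⟨hs, hi⟩ := sys_thm hqc hqs haff hc hK hC 0
  have key : ∀ (j : ι) (α : EtCoh.H (XX Xs j) (A.obj j) 0),
      hJ c M j 0 (((EtCoh.HF _ 0).map (a.app j)).hom α) = tr (cu Xs c j) (a.app j) 0 α :=
    fun j α => (tr_eq_HofPush (cu Xs c j) (a.app j) 0 α).symm
  constructor
  · intro t
    obtain ⟨j, α, hα⟩ := hs ((ev c.pt M).symm t)
    refine ⟨j, ev _ _ α, ?_⟩
    rw [key] at hα
    exact (ev_tr (cu Xs c j) (a.app j) α).symm.trans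
      ((congrArg (ev c.pt M) hα).trans ((ev c.pt M).apply_symm_apply t))
  · intro j x hx
    have e' : (ev (XX Xs j) (A.obj j)) ((ev _ (A.obj j)).symm x) = x :=
      AddEquiv.apply_symm_apply _ x
    have h0 : tr (cu Xs c j) (a.app j) 0 ((ev _ (A.obj j)).symm x) = 0 := by
      apply (ev c.pt M).injective
      have e := ev_tr (cu Xs c j) (a.app j) ((ev _ (A.obj j)).symm x)
      refine e.trans ?_
      refine (congrArg (fun y => ((pushGsecIso (cu Xs c j)).hom.app M).hom
        ((a.app j).hom.app (op (EtCoh.top (XX Xs j))) y)) e').trans ?_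
      exact hx.trans (map_zero _).symm
    rw [← key] at h0
    obtain ⟨k, h, hk⟩ := hi j _ h0
    refine ⟨k, h, ?_⟩
    have e1 : A.T h 0 ((ev _ (A.obj j)).symm x) = tr (uu Xs h) (A.θ h) 0 ((ev _ (A.obj j)).symm x) :=
      rfl
    rw [e1] at hk
    have e2 := ev_tr (uu Xs h) (A.θ h) ((ev _ (A.obj j)).symm x)
    have e3 := e2.symm.trans ((congrArg (ev _ (A.obj k)) hk).trans (map_zero _))
    exact (congrArg (fun y => ((pushGsecIso (uu Xs h)).hom.app (A.obj k)).hom
      ((A.θ h).hom.app (op (EtCoh.top (XX Xs j))) y)) e'.symm).trans e3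

end Sys

end H9FE.StkSec
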