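import Mathlib
import Groth.Agent.Lib.Helper9.FE.StkSec
import Groth.Agent.Lib.Helper9.FE.StkHK
import Groth.Agent.Lib.Helper9.FE.StkHC

/-! helper9: sections and cohomology of `g⁻¹ F` on the limit `X_∞` of a tower of quasi-compact
quasi-separated étale `X`-schemes `E_j` with affine transition maps (`g : X_∞ ⟶ X`): every global
section of `g⁻¹ F` comes from a section of `F` over some `E_j` (`lam_surj`), a section of `F` over
`E_j` dying on the limit dies over some later `E_k` (`lam_inj`), and the higher cohomology of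
`g⁻¹ I` vanishes for injective `I` (`acyclic`). -/

set_option autoImplicit false
set_option linter.unusedSectionVars false
set_option linter.style.haveILetI false
set_option backward.isDefEq.respectTransparency false
universe u
open CategoryTheory CategoryTheory.Limits AlgebraicGeometry Opposite Abelian

namespace H9FE.StkSys
open H9FE.LimTower H9FE.LimGeom H9FE.LimPull H9FE.LimSys H9FE.StkSec EtCore
  Groth.Agent.Lib.Helper5.Misc

variable {X : Scheme.{u}} {ι : Type u} [Preorder ι] [IsDirected ι (· ≤ ·)] (E : ιᵒᵖ ⥤ X.Etale)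
  (haff : ∀ ⦃a b : ιᵒᵖ⦄ (h : a ⟶ b), IsAffineHom ((Xs E).map h))
  (hqc : ∀ x, CompactSpace ↥((Xs E).obj x)) (hqs : ∀ x, QuasiSeparatedSpace ↥((Xs E).obj x))
  (F : EtCoh.Ab X) (c : Cone (Xs E)) (hc : IsLimit c) (g : c.pt ⟶ X)
  (hg : ∀ j, cu (Xs E) c j ≫ pp E j = g)

/-- the canonical morphism `X_∞ ⟶ X_∞ ×_X E_j` -/
noncomputable def mu (j : ι) : EtCoh.top c.pt ⟶ (EtCoh.bc g).obj (E.obj (op j)) :=
  MorphismProperty.Over.homMk
    (pLift g (E.obj (op j)) (cu (Xs E) c j) (𝟙 _) (by rw [Category.id_comp]; exact hg j))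
    (pLift_p2 _ _ _ _ _) trivial

@[reassoc]
lemma mu_p1 (j : ι) : (mu E c g hg j).left ≫ p1 g (E.obj (op j)) = cu (Xs E) c j :=
  pLift_p1 _ _ _ _ _

/-- the canonical map `F(E_j) ⟶ Γ(X_∞, g⁻¹ F)` -/
noncomputable def lam (j : ι) : F.obj.obj (op (E.obj (op j))) ⟶
    ((EtCoh.pull g).obj F).obj.obj (op (EtCoh.top c.pt)) :=
  ((EtCoh.pullPushAdj g).unit.app F).hom.app (op (E.obj (op j))) ≫
    ((EtCoh.pull g).obj F).obj.map (mu E c g hg j).op

lemma lam_apply (j : ι) (x : F.obj.obj (op (E.obj (op j)))) :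
    lam E F c g hg j x = ((EtCoh.pull g).obj F).obj.map (mu E c g hg j).op
      (((EtCoh.pullPushAdj g).unit.app F).hom.app (op (E.obj (op j))) x) := rfl

/-- `E_j ⟶ (X_j ⟶ X)` -/
noncomputable def epsHom (j : ι) :
    E.obj (op j) ⟶ (EtShriek.compEtale (pp E j)).obj (EtCoh.top (XX (Xs E) j)) :=
  MorphismProperty.Over.homMk (𝟙 _) (by
    change 𝟙 _ ≫ 𝟙 _ ≫ pp E j = pp E j
    rw [Category.id_comp, Category.id_comp]) trivial

/-- `(X_j ⟶ X) ⟶ E_j` -/
noncomputable def epsInv (j : ι) :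
    (EtShriek.compEtale (pp E j)).obj (EtCoh.top (XX (Xs E) j)) ⟶ E.obj (op j) :=
  MorphismProperty.Over.homMk (𝟙 _) (by
    change 𝟙 _ ≫ pp E j = 𝟙 _ ≫ pp E j
    rfl) trivial

lemma eps_hom_inv (j : ι) : epsHom E j ≫ epsInv E j = 𝟙 _ := by
  apply MorphismProperty.Over.Hom.ext
  exact Category.id_comp _

lemma bcTopIso_inv_p1 {Y Z : Scheme.{u}} (f : Y ⟶ Z) :
    (bcTopIso f).inv.left ≫ p1 f (EtCoh.top Z) = f := by
  have h : p1 f (EtCoh.top Z) ≫ 𝟙 Z = p2 f (EtCoh.top Z) ≫ f := p_cond f (EtCoh.top Z)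
  have h1 : p1 f (EtCoh.top Z) = p2 f (EtCoh.top Z) ≫ f := (Category.comp_id _).symm.trans h
  have h2 : (bcTopIso f).inv.left ≫ p2 f (EtCoh.top Z) = 𝟙 Y :=
    MorphismProperty.Over.w (bcTopIso f).inv
  exact (congrArg (fun t => (bcTopIso f).inv.left ≫ t) h1).trans
    ((Category.assoc _ _ _).symm.trans ((congrArg (fun t => t ≫ f) h2).trans (Category.id_comp f)))

lemma geom_top (j : ι) :
    mu E c g hg j ≫ (EtCoh.bc g).map (epsHom E j) =
      (bcTopIso (cu (Xs E) c j)).inv ≫ psiV E c g hg j (EtCoh.top (XX (Xs E) j)) := by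
  apply bc_hom_ext
  have e1 : (mu E c g hg j ≫ (EtCoh.bc g).map (epsHom E j)).left =
      (mu E c g hg j).left ≫ ((EtCoh.bc g).map (epsHom E j)).left := rfl
  have e2 : ((bcTopIso (cu (Xs E) c j)).inv ≫ psiV E c g hg j (EtCoh.top (XX (Xs E) j))).left =
      (bcTopIso (cu (Xs E) c j)).inv.left ≫
        (psiV E c g hg j (EtCoh.top (XX (Xs E) j))).left := rfl
  rw [e1, e2, Category.assoc, Category.assoc, bc_map_p1, mu_p1_assoc, psiV_p1, bcTopIso_inv_p1]
  exact Category.comp_id _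

lemma geom_trans {j k : ι} (h : j ≤ k) :
    epsHom E k ≫ (EtShriek.compEtale (pp E k)).map (bcTopIso (uu (Xs E) h)).inv ≫
      qq E h (EtCoh.top (XX (Xs E) j)) ≫ epsInv E j = E.map (homOfLE h).op := by
  apply MorphismProperty.Over.Hom.ext
  change 𝟙 _ ≫ (bcTopIso (uu (Xs E) h)).inv.left ≫ p1 (uu (Xs E) h) (EtCoh.top _) ≫ 𝟙 _ = _
  rw [Category.id_comp, Category.comp_id, bcTopIso_inv_p1]

/-- the value of the morphism of systems on global sections -/
lemma sysHom_top (j : ι)
    (x' : F.obj.obj (op ((EtShriek.compEtale (pp E j)).obj (EtCoh.top (XX (Xs E) j))))) :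
    ((pushGsecIso (cu (Xs E) c j)).hom.app ((EtCoh.pull g).obj F)).hom
      (((sysHom E F c g hg).app j).hom.app (op (EtCoh.top (XX (Xs E) j))) x') =
    lam E F c g hg j (F.obj.map (epsHom E j).op x') := by
  have e1 : ((pushGsecIso (cu (Xs E) c j)).hom.app ((EtCoh.pull g).obj F)).hom
      (((sysHom E F c g hg).app j).hom.app (op (EtCoh.top (XX (Xs E) j))) x') =
      ((EtCoh.pull g).obj F).obj.map (bcTopIso (cu (Xs E) c j)).inv.op
        (((EtCoh.pull g).obj F).obj.map (psiV E c g hg j (EtCoh.top (XX (Xs E) j))).op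
          (((EtCoh.pullPushAdj g).unit.app F).hom.app
            (op ((EtShriek.compEtale (pp E j)).obj (EtCoh.top (XX (Xs E) j)))) x')) := rfl
  have m1 := map_comp_apply ((EtCoh.pull g).obj F) (bcTopIso (cu (Xs E) c j)).inv
    (psiV E c g hg j (EtCoh.top (XX (Xs E) j)))
    (((EtCoh.pullPushAdj g).unit.app F).hom.app
      (op ((EtShriek.compEtale (pp E j)).obj (EtCoh.top (XX (Xs E) j)))) x')
  have m2 := map_comp_apply ((EtCoh.pull g).obj F) (mu E c g hg j)
    ((EtCoh.bc g).map (epsHom E j))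
    (((EtCoh.pullPushAdj g).unit.app F).hom.app
      (op ((EtShriek.compEtale (pp E j)).obj (EtCoh.top (XX (Xs E) j)))) x')
  have u1 := unit_map g F (epsHom E j) x'
  have hgeom := geom_top E c g hg j
  refine e1.trans (m1.symm.trans ?_)
  refine Eq.trans ?_ ((lam_apply E F c g hg j _).symm)
  refine Eq.trans ?_ (congrArg _ u1)
  exact (congrArg (fun q => ((EtCoh.pull g).obj F).obj.map q.op
    (((EtCoh.pullPushAdj g).unit.app F).hom.app
      (op ((EtShriek.compEtale (pp E j)).obj (EtCoh.top (XX (Xs E) j)))) x')) hgeom.symm).trans m2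

include haff hqc hqs hc in
/-- every global section of `g⁻¹ F` on the limit comes from a section of `F` over a stage -/
theorem lam_surj [Nonempty ι] (t : ((EtCoh.pull g).obj F).obj.obj (op (EtCoh.top c.pt))) :
    ∃ (j : ι) (x : F.obj.obj (op (E.obj (op j)))), lam E F c g hg j x = t := by
  obtain ⟨hs, -⟩ := sys_sections c ((EtCoh.pull g).obj F) (sysHom E F c g hg) hqc hqs haff hc
    (hK_stk E haff F c hc g hg) (hC_stk E haff F c hc g hg)
  obtain ⟨j, x', hx'⟩ := hs t
  exact ⟨j, F.obj.map (epsHom E j).op x', (sysHom_top E F c g hg j x').symm.trans hx'⟩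

include haff hqc hqs hc in
/-- a section of `F` over a stage dying on the limit dies at a later stage -/
theorem lam_inj [Nonempty ι] (j : ι) (x : F.obj.obj (op (E.obj (op j))))
    (hx : lam E F c g hg j x = 0) :
    ∃ (k : ι) (h : j ≤ k), F.obj.map (E.map (homOfLE h).op).op x = 0 := by
  obtain ⟨-, hi⟩ := sys_sections c ((EtCoh.pull g).obj F) (sysHom E F c g hg) hqc hqs haff hc
    (hK_stk E haff F c hc g hg) (hC_stk E haff F c hc g hg)
  have ex : F.obj.map (epsHom E j).op (F.obj.map (epsInv E j).op x) = x := by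
    rw [← map_comp_apply, eps_hom_inv]
    simp
  have h0 := (sysHom_top E F c g hg j (F.obj.map (epsInv E j).op x)).trans
    ((congrArg (lam E F c g hg j) ex).trans hx)
  obtain ⟨k, h, hk⟩ := hi j _ h0
  refine ⟨k, h, ?_⟩
  have hk' : F.obj.map ((EtShriek.compEtale (pp E k)).map (bcTopIso (uu (Xs E) h)).inv).op
      (F.obj.map (qq E h (EtCoh.top (XX (Xs E) j))).op (F.obj.map (epsInv E j).op x)) = 0 := hk
  rw [← geom_trans E h, map_comp_apply, map_comp_apply, map_comp_apply, hk', map_zero]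

include haff hqc hqs hc hg in
/-- the higher cohomology of the pullback of an injective sheaf to the limit vanishes -/
theorem acyclic [Nonempty ι] (I : EtCoh.Ab X) [Injective I] (n : ℕ)
    (ξ : EtCoh.H c.pt ((EtCoh.pull g).obj I) (n + 1)) : ξ = 0 := by
  obtain ⟨hs, -⟩ := sys_thm (c := c) (M := (EtCoh.pull g).obj I) (a := sysHom E I c g hg)
    hqc hqs haff hc (hK_stk E haff I c hc g hg) (hC_stk E haff I c hc g hg) (n + 1)
  obtain ⟨j, α, hα⟩ := hs ξ
  haveI : Injective ((sysA E I).obj j) :=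
    (inferInstance : Injective ((EtShriek.restrAlong (pp E j)).obj I))
  have h0 : α = 0 := Ext.eq_zero_of_injective α
  rw [h0, map_zero, map_zero] at hα
  exact hα.symm

end H9FE.StkSys
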