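import Mathlib
import Groth.Agent.Lib.Helper9.FE.StkMain

/-! helper9: for `f : X ⟶ S`, a tower `Us` of étale `S`-schemes and a cone `cU` over it with a
compatible morphism `h : cU.pt ⟶ S`: the tower of base changes `EE f Us` of étale `X`-schemes, the
cone `cX` over it with vertex `X ×_S cU.pt`, which is a limit cone if `cU` is (`cXIsLimit`), and
affineness of the transition maps and quasi-compactness, quasi-separatedness of the stages when
the `U_j` are affine and `f` is quasi-compact and quasi-separated. -/

set_option autoImplicit false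
set_option linter.unusedSectionVars false
set_option linter.style.haveILetI false
set_option backward.isDefEq.respectTransparency false
universe u
open CategoryTheory CategoryTheory.Limits AlgebraicGeometry Opposite

namespace H9FE.StkGeo
open H9FE.LimTower H9FE.StkSys

variable {X S : Scheme.{u}} (f : X ⟶ S) {ι : Type u} [Preorder ι]
  (Us : ιᵒᵖ ⥤ S.Etale) (cU : Cone (Xs Us)) (h : cU.pt ⟶ S)
  (hh : ∀ a : ιᵒᵖ, cU.π.app a ≫ (Us.obj a).hom = h)

/-- the tower of base changes -/
noncomputable abbrev EE : ιᵒᵖ ⥤ X.Etale := Us ⋙ EtCoh.bc f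

/-- the projections from `X ×_S T` to the stages -/
noncomputable def cleg (a : ιᵒᵖ) : pullback f h ⟶ (Xs (EE f Us)).obj a :=
  pLift f (Us.obj a) (pullback.snd f h ≫ cU.π.app a) (pullback.fst f h) (by
    rw [Category.assoc, hh]
    exact pullback.condition.symm)

@[reassoc]
lemma cleg_p1 (a : ιᵒᵖ) :
    cleg f Us cU h hh a ≫ p1 f (Us.obj a) = pullback.snd f h ≫ cU.π.app a := pLift_p1 _ _ _ _ _

@[reassoc]
lemma cleg_p2 (a : ιᵒᵖ) : cleg f Us cU h hh a ≫ p2 f (Us.obj a) = pullback.fst f h :=
  pLift_p2 _ _ _ _ _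

/-- the cone over the tower of base changes with vertex `X ×_S T` -/
noncomputable def cX : Cone (Xs (EE f Us)) where
  pt := pullback f h
  π :=
    { app := cleg f Us cU h hh
      naturality := fun a b m => by
        apply p_hom_ext f (Us.obj b)
        · change (𝟙 _ ≫ cleg f Us cU h hh b) ≫ _ =
            (cleg f Us cU h hh a ≫ ((EtCoh.bc f).map (Us.map m)).left) ≫ _
          rw [Category.id_comp, Category.assoc, bc_map_p1, cleg_p1, cleg_p1_assoc]
          have e := cU.π.naturality m
          have e' : cU.π.app b = cU.π.app a ≫ (Us.map m).left :=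
            (Category.id_comp _).symm.trans e
          rw [e']
        · change (𝟙 _ ≫ cleg f Us cU h hh b) ≫ _ =
            (cleg f Us cU h hh a ≫ ((EtCoh.bc f).map (Us.map m)).left) ≫ _
          rw [Category.id_comp, Category.assoc, bc_map_p2, cleg_p2, cleg_p2] }

lemma cX_hg (j : ι) :
    cu (Xs (EE f Us)) (cX f Us cU h hh) j ≫ pp (EE f Us) j = pullback.fst f h :=
  cleg_p2 f Us cU h hh (op j)

/-- the projections of the tower of base changes to the tower `Us` -/
noncomputable def αX : Xs (EE f Us) ⟶ Xs Us where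
  app a := p1 f (Us.obj a)
  naturality _ _ m := bc_map_p1 f (Us.map m)

/-- the morphism of cones -/
noncomputable def cXHom : (Cone.postcompose (αX f Us)).obj (cX f Us cU h hh) ⟶ cU where
  hom := pullback.snd f h
  w a := (cleg_p1 f Us cU h hh a).symm

lemma cX_isPullback (a : ιᵒᵖ) :
    IsPullback (cleg f Us cU h hh a) (pullback.snd f h) (p1 f (Us.obj a)) (cU.π.app a) := by
  have h1 : IsPullback (p2 f (Us.obj a)) (p1 f (Us.obj a)) f (Us.obj a).hom :=
    (IsPullback.of_hasPullback (Us.obj a).hom f).flip
  have h2 : IsPullback (pullback.fst f h) (pullback.snd f h) f h := IsPullback.of_hasPullback f h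
  have h3 : IsPullback (cleg f Us cU h hh a ≫ p2 f (Us.obj a)) (pullback.snd f h) f
      (cU.π.app a ≫ (Us.obj a).hom) := by
    rw [cleg_p2, hh]
    exact h2
  exact IsPullback.of_right h3 (cleg_p1 f Us cU h hh a) h1

/-- the cone over the tower of base changes is a limit cone -/
noncomputable def cXIsLimit [IsDirected ι (· ≤ ·)] [Nonempty ι] (hcU : IsLimit cU) :
    IsLimit (cX f Us cU h hh) := by
  haveI : IsConnected ιᵒᵖ := IsCofiltered.isConnected _
  exact isLimitOfIsPullbackOfIsConnected (αX f Us) (cX f Us cU h hh) cU (cXHom f Us cU h hh)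
    (fun a => cX_isPullback f Us cU h hh a) hcU

variable (hUaff : ∀ a : ιᵒᵖ, IsAffine (Us.obj a).left)

include hUaff in
lemma xs_affine ⦃a b : ιᵒᵖ⦄ (m : a ⟶ b) : IsAffineHom ((Xs (EE f Us)).map m) := by
  haveI := hUaff a
  haveI := hUaff b
  have hm : IsAffineHom (Us.map m).left := inferInstance
  exact MorphismProperty.of_isPullback (P := @IsAffineHom)
    (EtCoh.isPullback_bc_map f (Us.map m)).flip hm

include hUaff in
lemma xs_qc [QuasiCompact f] (a : ιᵒᵖ) : CompactSpace ↥((Xs (EE f Us)).obj a) := by
  haveI := hUaff a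
  haveI : QuasiCompact (p1 f (Us.obj a)) :=
    (inferInstance : QuasiCompact (pullback.fst (Us.obj a).hom f))
  exact QuasiCompact.compactSpace_of_compactSpace (p1 f (Us.obj a))

include hUaff in
lemma xs_qs [QuasiSeparated f] (a : ιᵒᵖ) : QuasiSeparatedSpace ↥((Xs (EE f Us)).obj a) := by
  haveI := hUaff a
  haveI : QuasiSeparated (p1 f (Us.obj a)) :=
    (inferInstance : QuasiSeparated (pullback.fst (Us.obj a).hom f))
  exact quasiSeparatedSpace_of_quasiSeparated (p1 f (Us.obj a))

end H9FE.StkGeo
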