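import Mathlib
import Groth.Agent.Lib.Helper9.FE.StkGeo
import Groth.Agent.Lib.Helper9.FE.DerCompare
import Groth.Agent.Lib.Helper5.Misc.EtStalk
import Groth.Agent.Lib.Helper3.ExtRD

/-! helper9: stalks of higher direct images at a geometric point `ξ = ξ' ≫ h` which is the limit of
a tower of affine étale neighbourhoods: let `f : X ⟶ S` be quasi-compact and quasi-separated, `Us` a
directed tower of affine étale `S`-schemes with limit `T` (`h : T ⟶ S`), pointed compatibly by
`ξ' : Spec Ω ⟶ T`, such that every étale neighbourhood of `ξ` receives a compatible `S`-morphism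
from `T` (functorially, `lift`) and is dominated by a stage of the tower (`dom`).  Then
`f_* ⋙ stalk_ξ ≅ g⁻¹ ⋙ Γ(X ×_S T, -)` (`thetaIso`) and
`(R^n f_* F)_ξ ≅ H^n(X ×_S T, g⁻¹ F)` (`main`). -/

set_option autoImplicit false
set_option linter.unusedSectionVars false
set_option linter.style.haveILetI false
set_option backward.isDefEq.respectTransparency false
universe u
open CategoryTheory CategoryTheory.Limits AlgebraicGeometry Opposite Abelian

namespace H9FE.StkTheta
open H9FE.LimTower H9FE.StkSys H9FE.StkGeo H9FE.LimPull EtCore Groth.Agent.Lib.Helper5.Misc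
  Groth.Agent.Lib.Helper5

attribute [local instance] EtStalk.ab5' EtStalk.pfc

variable {X S : Scheme.{u}} (f : X ⟶ S) {ι : Type u} [Preorder ι] [IsDirected ι (· ≤ ·)]
  [Nonempty ι] (Us : ιᵒᵖ ⥤ S.Etale) (cU : Cone (Xs Us)) (h : cU.pt ⟶ S)
  (hh : ∀ a : ιᵒᵖ, cU.π.app a ≫ (Us.obj a).hom = h)
  {Ω : Type u} [Field Ω] [IsSepClosed Ω] (ξ' : Spec (CommRingCat.of Ω) ⟶ cU.pt)

/-- the point of the small étale site of `S` -/
noncomputable abbrev Pt : GrothendieckTopology.Point.{u} S.smallEtaleTopology :=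
  Scheme.pointSmallEtale (ξ' ≫ h)

/-- the points of the tower -/
noncomputable def uj (a : ιᵒᵖ) : (Pt Us cU h ξ').fiber.obj (Us.obj a) :=
  Over.homMk (ξ' ≫ cU.π.app a) (by
    change (ξ' ≫ cU.π.app a) ≫ (Us.obj a).hom = ξ' ≫ h
    rw [Category.assoc, hh])

lemma uj_map {a b : ιᵒᵖ} (m : a ⟶ b) :
    (Pt Us cU h ξ').fiber.map (Us.map m) (uj Us cU h hh ξ' a) = uj Us cU h hh ξ' b := by
  apply Over.OverMorphism.ext
  change (ξ' ≫ cU.π.app a) ≫ (Us.map m).left = ξ' ≫ cU.π.app b
  have e := cU.π.naturality m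
  have e' : cU.π.app b = cU.π.app a ≫ (Us.map m).left := (Category.id_comp _).symm.trans e
  rw [e', Category.assoc]

section Nu

/-- the morphism `X_T ⟶ X_T ×_X (X ×_S U)` attached to an `S`-morphism `T ⟶ U` -/
noncomputable def nu (U : S.Etale) (ℓ : cU.pt ⟶ U.left) (hℓ : ℓ ≫ U.hom = h) :
    EtCoh.top (pullback f h) ⟶ (EtCoh.bc (pullback.fst f h)).obj ((EtCoh.bc f).obj U) :=
  MorphismProperty.Over.homMk
    (pLift (pullback.fst f h) ((EtCoh.bc f).obj U)
      (pLift f U (pullback.snd f h ≫ ℓ) (pullback.fst f h) (by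
        rw [Category.assoc, hℓ]
        exact pullback.condition.symm))
      (𝟙 _) (by rw [Category.id_comp]; exact pLift_p2 _ _ _ _ _))
    (pLift_p2 _ _ _ _ _) trivial

@[reassoc]
lemma nu_p1_p1 (U : S.Etale) (ℓ : cU.pt ⟶ U.left) (hℓ : ℓ ≫ U.hom = h) :
    (nu f Us cU h U ℓ hℓ).left ≫ p1 (pullback.fst f h) ((EtCoh.bc f).obj U) ≫ p1 f U =
      pullback.snd f h ≫ ℓ := by
  have e : (nu f Us cU h U ℓ hℓ).left ≫ p1 (pullback.fst f h) ((EtCoh.bc f).obj U) =
      pLift f U (pullback.snd f h ≫ ℓ) (pullback.fst f h) (by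
        rw [Category.assoc, hℓ]
        exact pullback.condition.symm) := pLift_p1 _ _ _ _ _
  rw [← Category.assoc, e, pLift_p1]

@[reassoc]
lemma nu_p1_p2 (U : S.Etale) (ℓ : cU.pt ⟶ U.left) (hℓ : ℓ ≫ U.hom = h) :
    (nu f Us cU h U ℓ hℓ).left ≫ p1 (pullback.fst f h) ((EtCoh.bc f).obj U) ≫ p2 f U =
      pullback.fst f h := by
  have e : (nu f Us cU h U ℓ hℓ).left ≫ p1 (pullback.fst f h) ((EtCoh.bc f).obj U) =
      pLift f U (pullback.snd f h ≫ ℓ) (pullback.fst f h) (by
        rw [Category.assoc, hℓ]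
        exact pullback.condition.symm) := pLift_p1 _ _ _ _ _
  rw [← Category.assoc, e, pLift_p2]

lemma nu_congr (U : S.Etale) (ℓ ℓ' : cU.pt ⟶ U.left) (hℓ : ℓ ≫ U.hom = h) (hℓ' : ℓ' ≫ U.hom = h)
    (e : ℓ = ℓ') : nu f Us cU h U ℓ hℓ = nu f Us cU h U ℓ' hℓ' := by
  subst e
  rfl

lemma nu_map {U U' : S.Etale} (m : U ⟶ U') (ℓ : cU.pt ⟶ U.left) (hℓ : ℓ ≫ U.hom = h)
    (hℓ' : (ℓ ≫ m.left) ≫ U'.hom = h) :
    nu f Us cU h U ℓ hℓ ≫ (EtCoh.bc (pullback.fst f h)).map ((EtCoh.bc f).map m) =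
      nu f Us cU h U' (ℓ ≫ m.left) hℓ' := by
  apply bc_hom_ext
  have e1 : (nu f Us cU h U ℓ hℓ ≫ (EtCoh.bc (pullback.fst f h)).map ((EtCoh.bc f).map m)).left =
      (nu f Us cU h U ℓ hℓ).left ≫
        ((EtCoh.bc (pullback.fst f h)).map ((EtCoh.bc f).map m)).left := rfl
  rw [e1, Category.assoc, bc_map_p1]
  apply p_hom_ext f U'
  · rw [Category.assoc, Category.assoc, bc_map_p1, nu_p1_p1_assoc, Category.assoc, nu_p1_p1]
  · rw [Category.assoc, Category.assoc, bc_map_p2, nu_p1_p2, Category.assoc, nu_p1_p2]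

lemma nu_tower (j : ι) :
    nu f Us cU h (Us.obj (op j)) (cU.π.app (op j)) (hh (op j)) =
      mu (EE f Us) (cX f Us cU h hh) (pullback.fst f h) (cX_hg f Us cU h hh) j := rfl

end Nu

variable (lift : ∀ (U : S.Etale), (Pt Us cU h ξ').fiber.obj U → (cU.pt ⟶ U.left))
  (lift_hom : ∀ U u, lift U u ≫ U.hom = h)
  (lift_nat : ∀ {U U' : S.Etale} (m : U ⟶ U') (u : (Pt Us cU h ξ').fiber.obj U),
    lift U u ≫ m.left = lift U' ((Pt Us cU h ξ').fiber.map m u))
  (lift_tower : ∀ a, lift (Us.obj a) (uj Us cU h hh ξ' a) = cU.π.app a)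
  (dom : ∀ (U : S.Etale) (u : (Pt Us cU h ξ').fiber.obj U), ∃ (a : ιᵒᵖ) (m : Us.obj a ⟶ U),
    (Pt Us cU h ξ').fiber.map m (uj Us cU h hh ξ' a) = u)

section Theta

variable (F : EtCoh.Ab X)

/-- the components of the cocone defining the comparison map -/
noncomputable def phi (U : S.Etale) (u : (Pt Us cU h ξ').fiber.obj U) :
    ((EtCoh.push f).obj F).obj.obj (op U) ⟶
      ((EtCoh.pull (pullback.fst f h)).obj F).obj.obj (op (EtCoh.top (pullback f h))) :=
  ((EtCoh.pullPushAdj (pullback.fst f h)).unit.app F).hom.app (op ((EtCoh.bc f).obj U)) ≫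
    ((EtCoh.pull (pullback.fst f h)).obj F).obj.map (nu f Us cU h U (lift U u) (lift_hom U u)).op

lemma phi_apply (U : S.Etale) (u : (Pt Us cU h ξ').fiber.obj U)
    (z : F.obj.obj (op ((EtCoh.bc f).obj U))) :
    phi f Us cU h ξ' lift lift_hom F U u z =
      ((EtCoh.pull (pullback.fst f h)).obj F).obj.map
        (nu f Us cU h U (lift U u) (lift_hom U u)).op
        (((EtCoh.pullPushAdj (pullback.fst f h)).unit.app F).hom.app
          (op ((EtCoh.bc f).obj U)) z) := rfl

include lift_nat in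
lemma phi_w ⦃U U' : S.Etale⦄ (m : U ⟶ U') (u : (Pt Us cU h ξ').fiber.obj U) :
    ((EtCoh.push f).obj F).obj.map m.op ≫ phi f Us cU h ξ' lift lift_hom F U u =
      phi f Us cU h ξ' lift lift_hom F U' ((Pt Us cU h ξ').fiber.map m u) := by
  apply ConcreteCategory.hom_ext
  intro z
  have e1 : (((EtCoh.push f).obj F).obj.map m.op ≫ phi f Us cU h ξ' lift lift_hom F U u) z =
      phi f Us cU h ξ' lift lift_hom F U u (F.obj.map ((EtCoh.bc f).map m).op z) := rfl
  rw [e1, phi_apply, phi_apply, ← unit_map, ← map_comp_apply]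
  have e2 : nu f Us cU h U (lift U u) (lift_hom U u) ≫
      (EtCoh.bc (pullback.fst f h)).map ((EtCoh.bc f).map m) =
      nu f Us cU h U' (lift U' ((Pt Us cU h ξ').fiber.map m u))
        (lift_hom U' ((Pt Us cU h ξ').fiber.map m u)) := by
    rw [nu_map f Us cU h m (lift U u) (lift_hom U u)
      (by rw [lift_nat m u]; exact lift_hom U' _)]
    exact nu_congr f Us cU h U' _ _ _ _ (lift_nat m u)
  rw [e2]

/-- the comparison map from the stalk of the direct image to the global sections of the pullback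
to `X ×_S T` -/
noncomputable def Theta :
    (EtCoh.push f ⋙ EtCoh.stalk (ξ' ≫ h)).obj F ⟶
      (EtCoh.pull (pullback.fst f h) ⋙ gsec (pullback f h)).obj F :=
  (Pt Us cU h ξ').presheafFiberDesc (phi f Us cU h ξ' lift lift_hom F)
    (phi_w f Us cU h ξ' lift lift_hom lift_nat F)

lemma toPF_Theta (U : S.Etale) (u : (Pt Us cU h ξ').fiber.obj U) :
    (Pt Us cU h ξ').toPresheafFiber U u ((EtCoh.push f).obj F).obj ≫
      Theta f Us cU h ξ' lift lift_hom lift_nat F = phi f Us cU h ξ' lift lift_hom F U u :=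
  (Pt Us cU h ξ').toPresheafFiber_presheafFiberDesc _ _ U u

lemma toPF_Theta_apply (U : S.Etale) (u : (Pt Us cU h ξ').fiber.obj U)
    (z : F.obj.obj (op ((EtCoh.bc f).obj U))) :
    Theta f Us cU h ξ' lift lift_hom lift_nat F
      ((Pt Us cU h ξ').toPresheafFiber U u ((EtCoh.push f).obj F).obj z) =
      phi f Us cU h ξ' lift lift_hom F U u z :=
  ConcreteCategory.congr_hom (toPF_Theta f Us cU h ξ' lift lift_hom lift_nat F U u) z

end Theta

section Nat

include lift_nat in
lemma Theta_nat {F F' : EtCoh.Ab X} (α : F ⟶ F') :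
    (EtCoh.push f ⋙ EtCoh.stalk (ξ' ≫ h)).map α ≫ Theta f Us cU h ξ' lift lift_hom lift_nat F' =
      Theta f Us cU h ξ' lift lift_hom lift_nat F ≫
        (EtCoh.pull (pullback.fst f h) ⋙ gsec (pullback f h)).map α := by
  apply (Pt Us cU h ξ').presheafFiber_hom_ext
  intro U u
  have e1 : (Pt Us cU h ξ').toPresheafFiber U u ((EtCoh.push f).obj F).obj ≫
      (EtCoh.push f ⋙ EtCoh.stalk (ξ' ≫ h)).map α =
      ((EtCoh.push f).map α).hom.app (op U) ≫
        (Pt Us cU h ξ').toPresheafFiber U u ((EtCoh.push f).obj F').obj :=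
    (Pt Us cU h ξ').toPresheafFiber_naturality ((EtCoh.push f).map α).hom U u
  show (Pt Us cU h ξ').toPresheafFiber U u ((EtCoh.push f).obj F).obj ≫
      ((EtCoh.push f ⋙ EtCoh.stalk (ξ' ≫ h)).map α ≫
        Theta f Us cU h ξ' lift lift_hom lift_nat F') =
    (Pt Us cU h ξ').toPresheafFiber U u ((EtCoh.push f).obj F).obj ≫
      (Theta f Us cU h ξ' lift lift_hom lift_nat F ≫
        (EtCoh.pull (pullback.fst f h) ⋙ gsec (pullback f h)).map α)
  rw [← Category.assoc, e1, Category.assoc, toPF_Theta, ← Category.assoc, toPF_Theta]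
  apply ConcreteCategory.hom_ext
  intro z
  have l1 : (((EtCoh.push f).map α).hom.app (op U) ≫
      phi f Us cU h ξ' lift lift_hom F' U u) z =
      phi f Us cU h ξ' lift lift_hom F' U u (α.hom.app (op ((EtCoh.bc f).obj U)) z) := rfl
  have r1 : (phi f Us cU h ξ' lift lift_hom F U u ≫
      (EtCoh.pull (pullback.fst f h) ⋙ gsec (pullback f h)).map α) z =
      ((EtCoh.pull (pullback.fst f h)).map α).hom.app (op (EtCoh.top (pullback f h)))
        (phi f Us cU h ξ' lift lift_hom F U u z) := rfl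
  refine l1.trans ?_
  refine Eq.trans ?_ r1.symm
  show ((EtCoh.pull (pullback.fst f h)).obj F').obj.map
      (nu f Us cU h U (lift U u) (lift_hom U u)).op
      (((EtCoh.pullPushAdj (pullback.fst f h)).unit.app F').hom.app
        (op ((EtCoh.bc f).obj U)) (α.hom.app (op ((EtCoh.bc f).obj U)) z)) =
    ((EtCoh.pull (pullback.fst f h)).map α).hom.app (op (EtCoh.top (pullback f h)))
      (((EtCoh.pull (pullback.fst f h)).obj F).obj.map
        (nu f Us cU h U (lift U u) (lift_hom U u)).op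
        (((EtCoh.pullPushAdj (pullback.fst f h)).unit.app F).hom.app
          (op ((EtCoh.bc f).obj U)) z))
  have n1 := nat_apply ((EtCoh.pull (pullback.fst f h)).map α)
    (nu f Us cU h U (lift U u) (lift_hom U u))
    (((EtCoh.pullPushAdj (pullback.fst f h)).unit.app F).hom.app (op ((EtCoh.bc f).obj U)) z)
  have hn := (EtCoh.pullPushAdj (pullback.fst f h)).unit.naturality α
  have hn2 : ((EtCoh.pullPushAdj (pullback.fst f h)).unit.app F').hom.app
      (op ((EtCoh.bc f).obj U)) (α.hom.app (op ((EtCoh.bc f).obj U)) z) =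
      ((EtCoh.pull (pullback.fst f h)).map α).hom.app
        (op ((EtCoh.bc (pullback.fst f h)).obj ((EtCoh.bc f).obj U)))
        (((EtCoh.pullPushAdj (pullback.fst f h)).unit.app F).hom.app
          (op ((EtCoh.bc f).obj U)) z) :=
    congrArg (fun τ => τ.hom.app (op ((EtCoh.bc f).obj U)) z) hn
  exact (congrArg (((EtCoh.pull (pullback.fst f h)).obj F').obj.map
    (nu f Us cU h U (lift U u) (lift_hom U u)).op) hn2).trans n1.symm

end Nat

section Bij

variable [QuasiCompact f] [QuasiSeparated f] (hcU : IsLimit cU)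
  (hUaff : ∀ a : ιᵒᵖ, IsAffine (Us.obj a).left) (F : EtCoh.Ab X)

include lift_tower in
lemma phi_tower (j : ι) (x : F.obj.obj (op ((EtCoh.bc f).obj (Us.obj (op j))))) :
    phi f Us cU h ξ' lift lift_hom F (Us.obj (op j)) (uj Us cU h hh ξ' (op j)) x =
      lam (EE f Us) F (cX f Us cU h hh) (pullback.fst f h) (cX_hg f Us cU h hh) j x := by
  rw [phi_apply, lam_apply]
  have e := (nu_congr f Us cU h (Us.obj (op j)) _ _ (lift_hom _ _) (hh (op j))
    (lift_tower (op j))).trans (nu_tower f Us cU h hh j)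
  rw [e]
  rfl

include lift_tower hcU hUaff in
theorem Theta_surjective :
    Function.Surjective (Theta f Us cU h ξ' lift lift_hom lift_nat F) := by
  intro t
  obtain ⟨j, x, hx⟩ := lam_surj (EE f Us) (xs_affine f Us hUaff) (xs_qc f Us hUaff)
    (xs_qs f Us hUaff) F (cX f Us cU h hh) (cXIsLimit f Us cU h hh hcU) (pullback.fst f h)
    (cX_hg f Us cU h hh) t
  refine ⟨(Pt Us cU h ξ').toPresheafFiber (Us.obj (op j)) (uj Us cU h hh ξ' (op j))
    ((EtCoh.push f).obj F).obj x, ?_⟩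
  rw [toPF_Theta_apply, phi_tower f Us cU h hh ξ' lift lift_hom lift_tower F j x]
  exact hx

include lift_tower hcU hUaff dom in
theorem Theta_ker (p : ((EtCoh.push f ⋙ EtCoh.stalk (ξ' ≫ h)).obj F : AddCommGrpCat.{u + 1}))
    (hp : Theta f Us cU h ξ' lift lift_hom lift_nat F p = 0) : p = 0 := by
  obtain ⟨U, u, z, rfl⟩ := (Pt Us cU h ξ').toPresheafFiber_jointly_surjective p
  obtain ⟨a, m, hm⟩ := dom U u
  obtain ⟨j⟩ := a
  have e1 : (Pt Us cU h ξ').toPresheafFiber U u ((EtCoh.push f).obj F).obj z =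
      (Pt Us cU h ξ').toPresheafFiber (Us.obj (op j)) (uj Us cU h hh ξ' (op j))
        ((EtCoh.push f).obj F).obj (((EtCoh.push f).obj F).obj.map m.op z) := by
    rw [← hm]
    exact ((Pt Us cU h ξ').toPresheafFiber_w_apply m (uj Us cU h hh ξ' (op j))
      ((EtCoh.push f).obj F).obj z).symm
  have hp' : Theta f Us cU h ξ' lift lift_hom lift_nat F
      ((Pt Us cU h ξ').toPresheafFiber (Us.obj (op j)) (uj Us cU h hh ξ' (op j))
        ((EtCoh.push f).obj F).obj (((EtCoh.push f).obj F).obj.map m.op z)) = 0 :=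
    (congrArg (Theta f Us cU h ξ' lift lift_hom lift_nat F) e1.symm).trans hp
  have hp2 : lam (EE f Us) F (cX f Us cU h hh) (pullback.fst f h) (cX_hg f Us cU h hh) j
      (((EtCoh.push f).obj F).obj.map m.op z) = 0 :=
    ((phi_tower f Us cU h hh ξ' lift lift_hom lift_tower F j _).symm.trans
      (toPF_Theta_apply f Us cU h ξ' lift lift_hom lift_nat F _ _ _).symm).trans hp'
  obtain ⟨k, hjk, hk⟩ := lam_inj (EE f Us) (xs_affine f Us hUaff) (xs_qc f Us hUaff)
    (xs_qs f Us hUaff) F (cX f Us cU h hh) (cXIsLimit f Us cU h hh hcU) (pullback.fst f h)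
    (cX_hg f Us cU h hh) j _ hp2
  have e2 : (Pt Us cU h ξ').toPresheafFiber (Us.obj (op j)) (uj Us cU h hh ξ' (op j))
      ((EtCoh.push f).obj F).obj (((EtCoh.push f).obj F).obj.map m.op z) =
      (Pt Us cU h ξ').toPresheafFiber (Us.obj (op k)) (uj Us cU h hh ξ' (op k))
        ((EtCoh.push f).obj F).obj (((EtCoh.push f).obj F).obj.map (Us.map (homOfLE hjk).op).op
          (((EtCoh.push f).obj F).obj.map m.op z)) := by
    rw [← uj_map Us cU h hh ξ' (homOfLE hjk).op]
    exact ((Pt Us cU h ξ').toPresheafFiber_w_apply (Us.map (homOfLE hjk).op)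
      (uj Us cU h hh ξ' (op k)) ((EtCoh.push f).obj F).obj _).symm
  have e3 : ((EtCoh.push f).obj F).obj.map (Us.map (homOfLE hjk).op).op
      (((EtCoh.push f).obj F).obj.map m.op z) = 0 := hk
  refine e1.trans (e2.trans ?_)
  exact (congrArg ((Pt Us cU h ξ').toPresheafFiber (Us.obj (op k)) (uj Us cU h hh ξ' (op k))
    ((EtCoh.push f).obj F).obj) e3).trans (map_zero _)

include lift_tower hcU hUaff dom in
lemma Theta_isIso : IsIso (Theta f Us cU h ξ' lift lift_hom lift_nat F) := by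
  rw [ConcreteCategory.isIso_iff_bijective]
  refine ⟨?_, Theta_surjective f Us cU h hh ξ' lift lift_hom lift_nat lift_tower hcU hUaff F⟩
  exact (injective_iff_map_eq_zero (Theta f Us cU h ξ' lift lift_hom lift_nat F).hom).2
    (Theta_ker f Us cU h hh ξ' lift lift_hom lift_nat lift_tower dom hcU hUaff F)

end Bij

end H9FE.StkTheta
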