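import Mathlib
import Groth.Agent.Lib.Helper9.FE.BCConn
import Groth.Agent.Lib.Helper9.FE.StkTheta
import Groth.Agent.Lib.Helper9.FE.BC0Germ

/-! helper9: the base change map of a quasi-compact quasi-separated morphism `f : X ⟶ S` along a
"strict localization" `h : T ⟶ S` is bijective on global sections over `T`: in the setting of
`StkTheta` (a tower of affine étale neighbourhoods with limit `T`), with `(T, ξ')` an initial étale
neighbourhood of `ξ'` in `T` (abstractly: sections `σ` through the geometric points and an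
isomorphism `γ` from the stalk at `ξ'` to global sections compatible with them), the composite of
the stalk comparison, `γ`, the base change map on `T` and the identification
`Γ(T, snd_* fst⁻¹ F) = Γ(X ×_S T, fst⁻¹ F)` is the map `Theta` (`Psi_eq`); hence the base change
map is bijective on global sections (`bc_isIso_top`). -/

set_option autoImplicit false
set_option linter.unusedSectionVars false
set_option linter.style.haveILetI false
set_option backward.isDefEq.respectTransparency false
universe u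
open CategoryTheory CategoryTheory.Limits AlgebraicGeometry Opposite

namespace H9FE.BCStrict
open H9FE.LimTower H9FE.StkSys H9FE.StkTheta H9FE.BCConn H9FE.BC0Germ Groth.Agent.Lib.Helper5
  Groth.Agent.S0072.Aux

attribute [local instance] EtStalk.ab5' EtStalk.pfc

variable {X S : Scheme.{u}} (f : X ⟶ S) {ι : Type u} [Preorder ι] [IsDirected ι (· ≤ ·)]
  [Nonempty ι] (Us : ιᵒᵖ ⥤ S.Etale) (cU : Cone (Xs Us)) (h : cU.pt ⟶ S)
  {Ω : Type u} [Field Ω] [IsSepClosed Ω] (ξ' : Spec (CommRingCat.of Ω) ⟶ cU.pt)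
  (lift : ∀ (U : S.Etale), (Pt Us cU h ξ').fiber.obj U → (cU.pt ⟶ U.left))
  (lift_hom : ∀ U u, lift U u ≫ U.hom = h)
  (lift_nat : ∀ {U U' : S.Etale} (m : U ⟶ U') (u : (Pt Us cU h ξ').fiber.obj U),
    lift U u ≫ m.left = lift U' ((Pt Us cU h ξ').fiber.map m u))
  (lift_eq : ∀ (U : S.Etale) (u : (Pt Us cU h ξ').fiber.obj U) (ℓ : cU.pt ⟶ U.left),
    ℓ ≫ U.hom = h → ξ' ≫ ℓ = u.left → ℓ = lift U u)
  (σ : ∀ (Y : cU.pt.Etale), (Scheme.pointSmallEtale ξ').fiber.obj Y → (EtCoh.top cU.pt ⟶ Y))
  (hσ : ∀ Y y, ξ' ≫ (σ Y y).left = y.left)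
  (γ : ∀ N : EtCoh.Ab cU.pt, (EtCoh.stalk ξ').obj N ⟶ N.obj.obj (op (EtCoh.top cU.pt)))
  (hγ : ∀ (N : EtCoh.Ab cU.pt) (Y : cU.pt.Etale) (y : (Scheme.pointSmallEtale ξ').fiber.obj Y),
    (Scheme.pointSmallEtale ξ').toPresheafFiber Y y N.obj ≫ γ N = N.obj.map (σ Y y).op)

/-- the base change map along `h` -/
noncomputable abbrev bcm (F : EtCoh.Ab X) :
    (EtCoh.pull h).obj ((EtCoh.push f).obj F) ⟶
      (EtCoh.push (pullback.snd f h)).obj ((EtCoh.pull (pullback.fst f h)).obj F) :=
  EtCoh.baseChange0 f h (pullback.snd f h) (pullback.fst f h) pullback.condition F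

include lift_hom lift_eq hσ in
/-- the key identity of morphisms of étale `X ×_S T`-schemes -/
lemma nu_eq (U : S.Etale) (u : (Pt Us cU h ξ').fiber.obj U) :
    tb (pullback.snd f h) ≫ (EtCoh.bc (pullback.snd f h)).map
      (σ ((EtCoh.bc h).obj U) (liftPt h (ξ' ≫ h) ξ' rfl U u)) ≫
      kV f h (pullback.snd f h) (pullback.fst f h) pullback.condition U =
    nu f Us cU h U (lift U u) (lift_hom U u) := by
  set s := σ ((EtCoh.bc h).obj U) (liftPt h (ξ' ≫ h) ξ' rfl U u) with hs
  -- the section composed with the first projection is the lift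
  have hs1 : s.left ≫ p1 h U = lift U u := by
    apply lift_eq
    · rw [Category.assoc, p_cond, ← Category.assoc]
      have : s.left ≫ p2 h U = 𝟙 _ := MorphismProperty.Over.w s
      rw [this]
      exact Category.id_comp h
    · rw [← Category.assoc, hσ]
      exact liftPt_fst' h (ξ' ≫ h) ξ' rfl U u
  apply bc_hom_ext
  have e1 : (tb (pullback.snd f h) ≫ (EtCoh.bc (pullback.snd f h)).map s ≫
      kV f h (pullback.snd f h) (pullback.fst f h) pullback.condition U).left =
      (tb (pullback.snd f h)).left ≫ ((EtCoh.bc (pullback.snd f h)).map s).left ≫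
      (kV f h (pullback.snd f h) (pullback.fst f h) pullback.condition U).left := rfl
  rw [e1]
  apply p_hom_ext f U
  · simp only [Category.assoc]
    rw [nu_p1_p1]
    have k1 : (kV f h (pullback.snd f h) (pullback.fst f h) pullback.condition U).left ≫
        p1 (pullback.fst f h) ((EtCoh.bc f).obj U) ≫ p1 f U =
        p1 (pullback.snd f h) ((EtCoh.bc h).obj U) ≫ p1 h U :=
      kV_fst_fst f h (pullback.snd f h) (pullback.fst f h) pullback.condition U
    rw [k1, bc_map_p1_assoc, ← Category.assoc, tb_left_p1, hs1]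
  · simp only [Category.assoc]
    rw [nu_p1_p2]
    have k2 : (kV f h (pullback.snd f h) (pullback.fst f h) pullback.condition U).left ≫
        p2 (pullback.fst f h) ((EtCoh.bc f).obj U) =
        p2 (pullback.snd f h) ((EtCoh.bc h).obj U) :=
      MorphismProperty.Over.w (kV f h (pullback.snd f h) (pullback.fst f h) pullback.condition U)
    have k3 : p1 (pullback.fst f h) ((EtCoh.bc f).obj U) ≫ p2 f U =
        p2 (pullback.fst f h) ((EtCoh.bc f).obj U) ≫ pullback.fst f h :=
      p_cond (pullback.fst f h) ((EtCoh.bc f).obj U)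
    rw [k3, reassoc_of% k2, bc_map_p2_assoc, ← Category.assoc, tb_left_p2]
    exact Category.id_comp (pullback.fst f h)

include lift_eq hσ hγ in
/-- the composite through the base change map is the comparison map `Theta` -/
theorem Psi_eq (F : EtCoh.Ab X) :
    (EtStalkPull.stalkPullIso h ξ').inv.app ((EtCoh.push f).obj F) ≫
      γ ((EtCoh.pull h).obj ((EtCoh.push f).obj F)) ≫
      (bcm f Us cU h F).hom.app (op (EtCoh.top cU.pt)) ≫
      ((EtCoh.pull (pullback.fst f h)).obj F).obj.map (tb (pullback.snd f h)).op =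
    Theta f Us cU h ξ' lift lift_hom lift_nat F := by
  apply (Pt Us cU h ξ').presheafFiber_hom_ext
  intro U u
  change (Pt Us cU h ξ').toPresheafFiber U u ((EtCoh.push f).obj F).obj ≫
      (EtStalkPull.stalkPullIso h ξ').inv.app ((EtCoh.push f).obj F) ≫
      γ ((EtCoh.pull h).obj ((EtCoh.push f).obj F)) ≫
      (bcm f Us cU h F).hom.app (op (EtCoh.top cU.pt)) ≫
      ((EtCoh.pull (pullback.fst f h)).obj F).obj.map (tb (pullback.snd f h)).op =
    (Pt Us cU h ξ').toPresheafFiber U u ((EtCoh.push f).obj F).obj ≫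
      Theta f Us cU h ξ' lift lift_hom lift_nat F
  rw [toPF_Theta]
  have A1 := StalkPullGerm.stalkPullIso_inv_germ h ξ' ((EtCoh.push f).obj F) U u
  rw [reassoc_of% A1]
  have A2 := hγ ((EtCoh.pull h).obj ((EtCoh.push f).obj F)) ((EtCoh.bc h).obj U)
    (liftPt h (ξ' ≫ h) ξ' rfl U u)
  rw [reassoc_of% A2]
  set s := σ ((EtCoh.bc h).obj U) (liftPt h (ξ' ≫ h) ξ' rfl U u) with hs
  have A3 : ((EtCoh.pull h).obj ((EtCoh.push f).obj F)).obj.map s.op ≫
      (bcm f Us cU h F).hom.app (op (EtCoh.top cU.pt)) =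
      (bcm f Us cU h F).hom.app (op ((EtCoh.bc h).obj U)) ≫
        ((EtCoh.pull (pullback.fst f h)).obj F).obj.map
          ((EtCoh.bc (pullback.snd f h)).map s).op :=
    (bcm f Us cU h F).hom.naturality s.op
  rw [reassoc_of% A3]
  have A4 : ((EtCoh.pullPushAdj h).unit.app ((EtCoh.push f).obj F)).hom.app (op U) ≫
      (bcm f Us cU h F).hom.app (op ((EtCoh.bc h).obj U)) =
      (gamma f h (pullback.snd f h) (pullback.fst f h) pullback.condition F).hom.app (op U) :=
    congrArg (fun z => z.hom.app (op U))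
      (unit_baseChange0 f h (pullback.snd f h) (pullback.fst f h) pullback.condition F)
  rw [reassoc_of% A4, gamma_app, Category.assoc, ← Functor.map_comp, ← Functor.map_comp,
    ← op_comp, ← op_comp, Category.assoc,
    nu_eq f Us cU h ξ' lift lift_hom lift_eq σ hσ U u]
  rfl

include lift_eq hσ hγ in
/-- the base change map along `h` is bijective on global sections -/
theorem bc_isIso_top (F : EtCoh.Ab X) (hγiso : ∀ N, IsIso (γ N))
    (hΘ : IsIso (Theta f Us cU h ξ' lift lift_hom lift_nat F)) :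
    IsIso ((bcm f Us cU h F).hom.app (op (EtCoh.top cU.pt))) := by
  have E := Psi_eq f Us cU h ξ' lift lift_hom lift_nat lift_eq σ hσ γ hγ F
  haveI := hγiso ((EtCoh.pull h).obj ((EtCoh.push f).obj F))
  haveI : IsIso ((EtStalkPull.stalkPullIso h ξ').inv.app ((EtCoh.push f).obj F)) := inferInstance
  haveI := isIso_map_tb (pullback.snd f h) ((EtCoh.pull (pullback.fst f h)).obj F)
  haveI := hΘ
  have h1 : IsIso ((EtStalkPull.stalkPullIso h ξ').inv.app ((EtCoh.push f).obj F) ≫
      γ ((EtCoh.pull h).obj ((EtCoh.push f).obj F)) ≫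
      (bcm f Us cU h F).hom.app (op (EtCoh.top cU.pt)) ≫
      ((EtCoh.pull (pullback.fst f h)).obj F).obj.map (tb (pullback.snd f h)).op) := by
    rw [E]; infer_instance
  have h2 : IsIso (γ ((EtCoh.pull h).obj ((EtCoh.push f).obj F)) ≫
      (bcm f Us cU h F).hom.app (op (EtCoh.top cU.pt)) ≫
      ((EtCoh.pull (pullback.fst f h)).obj F).obj.map (tb (pullback.snd f h)).op) :=
    IsIso.of_isIso_comp_left
      ((EtStalkPull.stalkPullIso h ξ').inv.app ((EtCoh.push f).obj F)) _
  have h3 : IsIso ((bcm f Us cU h F).hom.app (op (EtCoh.top cU.pt)) ≫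
      ((EtCoh.pull (pullback.fst f h)).obj F).obj.map (tb (pullback.snd f h)).op) :=
    IsIso.of_isIso_comp_left (γ ((EtCoh.pull h).obj ((EtCoh.push f).obj F))) _
  exact IsIso.of_isIso_comp_right _
    (((EtCoh.pull (pullback.fst f h)).obj F).obj.map (tb (pullback.snd f h)).op)

end H9FE.BCStrict
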