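import Mathlib
import Groth.Prelude.Def_Hensel
import Groth.Agent.Lib.Helper7.SHens.Main
import Groth.Agent.Lib.Helper7.SHens.Unique
import Groth.Agent.Lib.Helper9.FE.SHSpec

/-! helper9: the strict henselization `R` of a localization `A = (B₀)_p` of a ring `B₀` at a prime
is, as a `B₀`-algebra, the colimit `G B₀ κ(R)` of the étale `B₀`-algebras equipped with a
`B₀`-algebra map to the residue field `κ(R)` (compatibly with the maps to `κ(R)`).
Ingredients: simple roots in the field of monic polynomials over `G B K` lift (for any ring `B`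
and field `K` over it), hence `G B K → K` is onto as soon as `K` is separable algebraic over a
subfield contained in the image. -/

set_option autoImplicit false
set_option linter.unusedSectionVars false
set_option linter.style.haveILetI false
set_option backward.isDefEq.respectTransparency false
universe u
open Polynomial IsLocalRing Groth.Agent.Helper7.SHens

namespace H9FE.SHModel

section Root

variable {B : Type u} [CommRing B] {K : Type u} [Field K] [Algebra B K]

/-- simple roots in `K` of monic polynomials over `G B K` lift to roots in `G B K` -/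
theorem lift_root (f : (G B K)[X]) (hf : f.Monic) (ω : K)
    (h0 : (f.map ((σ : G B K →ₐ[B] K) : G B K →+* K)).eval ω = 0)
    (h1 : (f.map ((σ : G B K →ₐ[B] K) : G B K →+* K)).derivative.eval ω ≠ 0) :
    ∃ a : G B K, f.eval a = 0 ∧ σ a = ω := by
  obtain ⟨U, F, α, hFm, rfl, -⟩ := exists_rep_monic f hf 0
  have hσι : ((σ : G B K →ₐ[B] K) : G B K →+* K).comp (ι U) = (U.sec : U.Ring →+* K) := by
    ext x
    exact σ_ι U x
  rw [Polynomial.map_map, hσι] at h0 h1
  let P : StandardEtalePair U.Ring :=
    { f := F
      monic_f := hFm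
      g := derivative F
      cond := ⟨1, 0, 1, by ring⟩ }
  let _ : Algebra B P.Ring := ((algebraMap U.Ring P.Ring).comp (algebraMap B U.Ring)).toAlgebra
  have htower : IsScalarTower B U.Ring P.Ring := IsScalarTower.of_algebraMap_eq (fun _ => rfl)
  let _ : Algebra U.Ring K := U.sec.toRingHom.toAlgebra
  have htower' : IsScalarTower B U.Ring K :=
    IsScalarTower.of_algebraMap_eq (fun a => (U.sec.commutes a).symm)
  have hmap : P.HasMap ω := by
    constructor
    · show eval₂ (U.sec : U.Ring →+* K) ω F = 0
      rw [← Polynomial.eval_map]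
      exact h0
    · show IsUnit (eval₂ (U.sec : U.Ring →+* K) ω (derivative F))
      rw [← Polynomial.eval_map, ← Polynomial.derivative_map, isUnit_iff_ne_zero]
      exact h1
  let τ₀ : P.Ring →ₐ[U.Ring] K := P.lift ω hmap
  let τ : P.Ring →ₐ[B] K := τ₀.restrictScalars B
  have hτ : τ.comp (IsScalarTower.toAlgHom B U.Ring P.Ring) = U.sec := by
    ext y
    exact τ₀.commutes y
  obtain ⟨ψ, hψ, hψσ⟩ := exists_adjoin U P.Ring τ hτ
  refine ⟨ψ P.X, ?_, ?_⟩
  · rw [Polynomial.eval_map]
    have h2 : (ι U : U.Ring →+* G B K) = ψ.toRingHom.comp (algebraMap U.Ring P.Ring) := by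
      ext y
      exact (hψ y).symm
    have h3 : eval₂ (algebraMap U.Ring P.Ring) P.X F = 0 := P.hasMap_X.1
    have h4 := Polynomial.hom_eval₂ F (algebraMap U.Ring P.Ring) (ψ : P.Ring →+* G B K) P.X
    rw [h3, map_zero] at h4
    rw [h2]
    exact h4.symm
  · rw [hψσ]
    exact StandardEtalePair.lift_X P ω hmap

end Root

section Surj

variable {Gr Ω : Type u} [CommRing Gr] [Field Ω] (ev : Gr →+* Ω)
  (h2 : ∀ (P : Gr[X]) (ω : Ω), P.Monic → (P.map ev).eval ω = 0 →
      (P.map ev).derivative.eval ω ≠ 0 → ∃ a, P.eval a = 0 ∧ ev a = ω)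
  (k : Type u) [Field k] [Algebra k Ω] [Algebra.IsSeparable k Ω]
  (hk : ∀ x : k, algebraMap k Ω x ∈ ev.range)

include h2 hk in
/-- a ring map to a field along which simple roots of monic polynomials lift is onto as soon as
the field is separable algebraic over a subfield contained in the image -/
theorem ev_surjective : Function.Surjective ev := by
  intro y
  have hsep : IsSeparable k y := Algebra.IsSeparable.isSeparable k y
  have hint : IsIntegral k y := hsep.isIntegral
  have hm : (minpoly k y).Monic := minpoly.monic hint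
  have hl : (minpoly k y).map (algebraMap k Ω) ∈ Polynomial.lifts ev := by
    rw [Polynomial.lifts_iff_coeff_lifts]
    intro n
    rw [Polynomial.coeff_map]
    exact hk _
  obtain ⟨P, hP, -, hPm⟩ := Polynomial.lifts_and_degree_eq_and_monic hl (hm.map _)
  have e0 : (P.map ev).eval y = 0 := by
    rw [hP, Polynomial.eval_map_algebraMap]
    exact minpoly.aeval k y
  have e1 : (P.map ev).derivative.eval y ≠ 0 := by
    rw [hP, Polynomial.derivative_map, Polynomial.eval_map_algebraMap]
    exact hsep.aeval_derivative_ne_zero (minpoly.aeval k y)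
  obtain ⟨a, -, ha⟩ := h2 P y hPm e0 e1
  exact ⟨a, ha⟩

end Surj

section Main

variable (B₀ : Type u) [CommRing B₀] (A : Type u) [CommRing A] [IsLocalRing A] [Algebra B₀ A]
  (p : Ideal B₀) [p.IsPrime] [hloc : IsLocalization.AtPrime A p]
  (R : Type u) [CommRing R] [IsLocalRing R] [Algebra A R] [hlh : IsLocalHom (algebraMap A R)]
  [hR : Hensel.IsStrictHenselization A R] [Algebra B₀ R] [hst : IsScalarTower B₀ A R]

/-- the canonical map from the model to the residue field, as a ring homomorphism -/
noncomputable abbrev σm : G B₀ (ResidueField R) →+* ResidueField R :=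
  ((σ : G B₀ (ResidueField R) →ₐ[B₀] ResidueField R) : G B₀ (ResidueField R) →+* ResidueField R)

include hst in
lemma algebraMap_resField (b : B₀) :
    algebraMap B₀ (ResidueField R) b = residue R (algebraMap A R (algebraMap B₀ A b)) := by
  rw [IsScalarTower.algebraMap_apply B₀ R (ResidueField R), ResidueField.algebraMap_eq,
    IsScalarTower.algebraMap_apply B₀ A R]

include hloc hst in
lemma algebraMap_resField_ne_zero (s : B₀) (hs : s ∉ p) :
    algebraMap B₀ (ResidueField R) s ≠ 0 := by
  rw [algebraMap_resField B₀ A R]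
  have hu : IsUnit (algebraMap B₀ A s) :=
    IsLocalization.map_units A (⟨s, hs⟩ : p.primeCompl)
  exact ((hu.map (algebraMap A R)).map (residue R)).ne_zero

include hloc hst in
/-- the composite `A → R → κ(R)` agrees with `σ` on `B₀` -/
lemma sigma_comp_eq (f : A →+* G B₀ (ResidueField R))
    (hf : ∀ b, f (algebraMap B₀ A b) = algebraMap B₀ (G B₀ (ResidueField R)) b) :
    (σm B₀ R).comp f = (residue R).comp (algebraMap A R) := by
  apply IsLocalization.ringHom_ext p.primeCompl
  ext b
  show σ (f (algebraMap B₀ A b)) = residue R (algebraMap A R (algebraMap B₀ A b))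
  rw [hf, AlgHom.commutes, algebraMap_resField B₀ A R]

include hloc hst hlh in
/-- the residue field of `A` maps into the image of `σ` -/
lemma resField_mem_range (x : ResidueField A) :
    algebraMap (ResidueField A) (ResidueField R) x ∈ (σm B₀ R).range := by
  obtain ⟨a, rfl⟩ := residue_surjective x
  rw [ResidueField.algebraMap_residue]
  obtain ⟨b, s, hbs⟩ := IsLocalization.exists_mk'_eq p.primeCompl a
  have hspec : a * algebraMap B₀ A s = algebraMap B₀ A b := by
    rw [← hbs]
    exact IsLocalization.mk'_spec A b s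
  have hsne : algebraMap B₀ (ResidueField R) s ≠ 0 :=
    algebraMap_resField_ne_zero B₀ A p R s s.2
  have hsu : IsUnit (algebraMap B₀ (G B₀ (ResidueField R)) (s : B₀)) := by
    apply isUnit_of_isUnit_σ
    rw [AlgHom.commutes]
    exact isUnit_iff_ne_zero.2 hsne
  obtain ⟨v, hv⟩ := hsu
  refine ⟨algebraMap B₀ (G B₀ (ResidueField R)) b *
    ((↑v⁻¹ : (G B₀ (ResidueField R))ˣ) : G B₀ (ResidueField R)), ?_⟩
  have e1 : σ (algebraMap B₀ (G B₀ (ResidueField R)) b *
      ((↑v⁻¹ : (G B₀ (ResidueField R))ˣ) : G B₀ (ResidueField R))) *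
      algebraMap B₀ (ResidueField R) s = algebraMap B₀ (ResidueField R) b := by
    rw [← AlgHom.commutes (σ : G B₀ (ResidueField R) →ₐ[B₀] ResidueField R) (s : B₀), ← map_mul,
      ← hv, mul_assoc, Units.inv_mul, mul_one, AlgHom.commutes]
  have e2 : residue R (algebraMap A R a) * algebraMap B₀ (ResidueField R) s =
      algebraMap B₀ (ResidueField R) b := by
    rw [algebraMap_resField B₀ A R, algebraMap_resField B₀ A R, ← map_mul, ← map_mul, hspec]
  exact mul_right_cancel₀ hsne (e1.trans e2.symm)

include hloc hst hlh hR in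
/-- `σ : G B₀ κ(R) → κ(R)` is onto -/
theorem sigma_surjective : Function.Surjective (σm B₀ R) := by
  haveI : Algebra.IsSeparable (ResidueField A) (ResidueField R) := hR.isSepClosure.separable
  exact ev_surjective (σm B₀ R)
    (fun P ω hP h0 h1 => lift_root P hP ω h0 h1) (ResidueField A)
    (resField_mem_range B₀ A p R)

instance isLocalHom_sigma : IsLocalHom (σm B₀ R) :=
  ⟨fun c hc => (isUnit_iff_σ_ne_zero B₀ (ResidueField R) c).2 hc.ne_zero⟩

/-- the residue field of the model is `κ(R)` -/
noncomputable def resEquiv' (h : Function.Surjective (σm B₀ R)) :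
    ResidueField (G B₀ (ResidueField R)) ≃+* ResidueField R :=
  RingEquiv.ofBijective (ResidueField.lift (σm B₀ R))
    ⟨RingHom.injective _, fun y => by
      obtain ⟨c, rfl⟩ := h y
      exact ⟨residue _ c, ResidueField.lift_residue_apply _ c⟩⟩

lemma resEquiv'_residue (h : Function.Surjective (σm B₀ R)) (c : G B₀ (ResidueField R)) :
    resEquiv' B₀ R h (residue _ c) = σ c :=
  ResidueField.lift_residue_apply _ c

include hloc hst hlh hR in
/-- the strict henselization of a localization of `B₀` is the colimit of the étale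
`B₀`-algebras with a map to its residue field -/
theorem exists_model :
    ∃ e : G B₀ (ResidueField R) ≃ₐ[B₀] R, ∀ c, residue R (e c) = σ c := by
  haveI hRh : HenselianLocalRing R := hR.henselian
  have hsurj := sigma_surjective B₀ A p R
  let eq := resEquiv' B₀ R hsurj
  have heq : ∀ c, eq (residue _ c) = σ c := resEquiv'_residue B₀ R hsurj
  -- the map `A → G`
  have hunits : ∀ y : p.primeCompl, IsUnit (algebraMap B₀ (G B₀ (ResidueField R)) (y : B₀)) := by
    intro y
    apply isUnit_of_isUnit_σ
    rw [AlgHom.commutes]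
    exact isUnit_iff_ne_zero.2 (algebraMap_resField_ne_zero B₀ A p R y y.2)
  let f : A →+* G B₀ (ResidueField R) := IsLocalization.lift hunits
  have hf : ∀ b, f (algebraMap B₀ A b) = algebraMap B₀ (G B₀ (ResidueField R)) b :=
    fun b => IsLocalization.lift_eq hunits b
  have hσf := sigma_comp_eq B₀ A p R f hf
  have hσf' : ∀ a, σ (f a) = residue R (algebraMap A R a) := fun a => RingHom.congr_fun hσf a
  haveI : IsLocalHom f := by
    constructor
    intro a ha
    have h1 : σ (f a) ≠ 0 := (isUnit_iff_σ_ne_zero B₀ (ResidueField R) (f a)).1 ha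
    rw [hσf'] at h1
    have h2 : IsUnit (algebraMap A R a) := (residue_ne_zero_iff_isUnit _).1 h1
    exact isUnit_of_map_unit (algebraMap A R) a h2
  let τ : ResidueField R →+* ResidueField (G B₀ (ResidueField R)) := (eq.symm : _ →+* _)
  have hτ : τ.comp (ResidueField.map (algebraMap A R)) = ResidueField.map f := by
    ext x
    obtain ⟨a, rfl⟩ := residue_surjective x
    apply eq.injective
    show eq (eq.symm (ResidueField.map (algebraMap A R) (residue A a))) =
      eq (ResidueField.map f (residue A a))
    rw [RingEquiv.apply_symm_apply, ResidueField.map_residue, ResidueField.map_residue, heq,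
      hσf']
  obtain ⟨φ, ⟨hφ1, hφ2⟩, -⟩ := hR.universal (G B₀ (ResidueField R)) f τ hτ
  have hφσ : ∀ x, σ (φ x) = residue R x := by
    intro x
    rw [← heq, hφ2]
    exact eq.apply_symm_apply _
  let φa : R →ₐ[B₀] G B₀ (ResidueField R) :=
    { φ with
      commutes' := fun b => by
        show φ (algebraMap B₀ R b) = _
        rw [IsScalarTower.algebraMap_apply B₀ A R, ← hf]
        exact RingHom.congr_fun hφ1 (algebraMap B₀ A b) }
  -- the map `G → R`
  have hex : ∀ U : Nbhd B₀ (ResidueField R), ∃ ψ : U.Ring →ₐ[B₀] R,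
      ∀ x, residue R (ψ x) = U.sec x := fun U =>
    H9FE.SHSpec.exists_lift_algHom (A := B₀) (E := U.Ring) (T := R) U.sec
  choose ψU hψU using hex
  have hcompat : ∀ {U V : Nbhd B₀ (ResidueField R)} (g : U ⟶ V),
      (ψU V).comp (g : Nbhd.Hom U V).toAlgHom = ψU U := by
    intro U V g
    apply H9FE.SHSpec.lift_unique
    intro x
    rw [AlgHom.comp_apply, hψU, hψU, Nbhd.sec_hom]
  let ψ : G B₀ (ResidueField R) →ₐ[B₀] R := descAlg ψU hcompat
  have hψres : ∀ c, residue R (ψ c) = σ c := by
    intro c
    obtain ⟨U, x, rfl⟩ := exists_rep c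
    rw [descAlg_ι, hψU, σ_ι]
  -- `ψ ∘ φ = id`
  have hψf : (ψ : G B₀ (ResidueField R) →+* R).comp f = algebraMap A R := by
    apply IsLocalization.ringHom_ext p.primeCompl
    ext b
    show ψ (f (algebraMap B₀ A b)) = algebraMap A R (algebraMap B₀ A b)
    rw [hf, AlgHom.commutes, IsScalarTower.algebraMap_apply B₀ A R]
  let γ : R →ₐ[A] R :=
    { (ψ : G B₀ (ResidueField R) →+* R).comp φ with
      commutes' := fun a => by
        show ψ (φ (algebraMap A R a)) = algebraMap A R a
        have h1 : φ (algebraMap A R a) = f a := RingHom.congr_fun hφ1 a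
        rw [h1]
        exact RingHom.congr_fun hψf a }
  have hγ : AlgHom.id A R = γ := by
    apply H9FE.SHSpec.algHom_ext_of_residue A R
    intro r
    show residue R r = residue R (ψ (φ r))
    rw [hψres, hφσ]
  have h1 : ψ.comp φa = AlgHom.id B₀ R := by
    ext r
    exact (AlgHom.congr_fun hγ r).symm
  -- `φ ∘ ψ = id`
  have h2 : φa.comp ψ = AlgHom.id B₀ (G B₀ (ResidueField R)) := by
    apply algHom_ext_G
    intro U x
    have hU : (φa.comp ψ).comp (ιAlg U) = ιAlg U := by
      apply H9FE.SHSpec.lift_unique
      intro y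
      apply eq.injective
      show eq (residue _ (φ (ψ (ι U y)))) = eq (residue _ (ι U y))
      rw [heq, heq, hφσ, hψres]
    exact AlgHom.congr_fun hU x
  exact ⟨AlgEquiv.ofAlgHom ψ φa h1 h2, hψres⟩

end Main

end H9FE.SHModel
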