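import Mathlib
import Groth.Prelude.Def_Hens2
import Groth.Agent.Lib.Helper7.SHens.Main
import Groth.Agent.Lib.Helper7.SHens.IndEtale
import Groth.Agent.Lib.Helper9.FE.StkSys

/-! helper9: the tower of affine étale neighbourhoods attached to a model of a strictly henselian
local ring: for an affine open `V` of `S`, an algebra `R` over `B = Γ(S, V)` which is identified
with the colimit `G B κ(R)` of the étale `B`-algebras with a map to `κ(R)` (`e`), and a final functor
`Fα` from a directed poset to the category of these étale algebras: the tower `Us` of étale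
`S`-schemes `Spec E ⟶ V ⟶ S`, the cone `cU` over it with vertex `Spec R`, which is a limit cone
(`cUIsLimit`), and its compatibility with the morphism `hS : Spec R ⟶ S`. -/

set_option autoImplicit false
set_option linter.unusedSectionVars false
set_option linter.style.haveILetI false
set_option backward.isDefEq.respectTransparency false
universe u
open CategoryTheory CategoryTheory.Limits AlgebraicGeometry Opposite IsLocalRing
  Groth.Agent.Helper7.SHens

namespace H9FE.SHNbhd
open H9FE.StkSys H9FE.LimTower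

variable {S : Scheme.{u}} {V : S.Opens} (hV : IsAffineOpen V)
  (R : Type u) [CommRing R] [IsLocalRing R] [Algebra Γ(S, V) R]

/-- the morphism `Spec R ⟶ S` -/
noncomputable def hS : Spec (CommRingCat.of R) ⟶ S :=
  Spec.map (CommRingCat.ofHom (algebraMap Γ(S, V) R)) ≫ hV.fromSpec

instance etale_spec_nbhd (E : Nbhd Γ(S, V) (ResidueField R)) :
    Etale (Spec.map (CommRingCat.ofHom (algebraMap Γ(S, V) E.Ring))) := by
  rw [HasRingHomProperty.Spec_iff (P := @Etale)]
  exact RingHom.etale_algebraMap.2 inferInstance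

/-- the étale `S`-scheme attached to an étale `Γ(S, V)`-algebra -/
noncomputable def nsObj (E : Nbhd Γ(S, V) (ResidueField R)) : S.Etale :=
  Scheme.Etale.mk (Spec.map (CommRingCat.ofHom (algebraMap Γ(S, V) E.Ring)) ≫ hV.fromSpec)

/-- the morphism of étale `S`-schemes attached to a morphism of étale algebras -/
noncomputable def nsMap {E E' : Nbhd Γ(S, V) (ResidueField R)} (φ : E ⟶ E') :
    nsObj hV R E' ⟶ nsObj hV R E :=
  MorphismProperty.Over.homMk
    (Spec.map (CommRingCat.ofHom (Nbhd.Hom.toAlgHom φ).toRingHom)) (by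
      change Spec.map (CommRingCat.ofHom (Nbhd.Hom.toAlgHom φ).toRingHom) ≫
        Spec.map (CommRingCat.ofHom (algebraMap Γ(S, V) E.Ring)) ≫ hV.fromSpec =
        Spec.map (CommRingCat.ofHom (algebraMap Γ(S, V) E'.Ring)) ≫ hV.fromSpec
      rw [← Category.assoc, ← Spec.map_comp]
      congr 2
      ext b
      exact (Nbhd.Hom.toAlgHom φ).commutes b) trivial

/-- the functor from étale algebras to étale `S`-schemes -/
noncomputable def NS : (Nbhd Γ(S, V) (ResidueField R))ᵒᵖ ⥤ S.Etale where
  obj E := nsObj hV R E.unop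
  map φ := nsMap hV R φ.unop
  map_id E := by
    apply MorphismProperty.Over.Hom.ext
    change Spec.map (CommRingCat.ofHom (AlgHom.id _ _).toRingHom) = 𝟙 _
    exact Spec.map_id _
  map_comp φ ψ := by
    apply MorphismProperty.Over.Hom.ext
    change Spec.map (CommRingCat.ofHom ((Nbhd.Hom.toAlgHom φ.unop).comp
      (Nbhd.Hom.toAlgHom ψ.unop)).toRingHom) =
      Spec.map (CommRingCat.ofHom (Nbhd.Hom.toAlgHom φ.unop).toRingHom) ≫
        Spec.map (CommRingCat.ofHom (Nbhd.Hom.toAlgHom ψ.unop).toRingHom)
    rw [← Spec.map_comp]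
    rfl

variable {α : Type u} [PartialOrder α] (Fα : α ⥤ Nbhd Γ(S, V) (ResidueField R))

/-- the tower of affine étale neighbourhoods -/
noncomputable abbrev Us : αᵒᵖ ⥤ S.Etale := Fα.op ⋙ NS hV R

instance us_affine (a : αᵒᵖ) : IsAffine ((Us hV R Fα).obj a).left :=
  inferInstanceAs (IsAffine (Spec (CommRingCat.of (Fα.obj a.unop).Ring)))

variable (e : G Γ(S, V) (ResidueField R) ≃ₐ[Γ(S, V)] R)

/-- the maps from the stages to `R` -/
noncomputable def toR (E : Nbhd Γ(S, V) (ResidueField R)) : E.Ring →ₐ[Γ(S, V)] R :=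
  (e : G Γ(S, V) (ResidueField R) →ₐ[Γ(S, V)] R).comp (ιAlg E)

lemma toR_hom {E E' : Nbhd Γ(S, V) (ResidueField R)} (φ : E ⟶ E') :
    (toR R e E').comp (Nbhd.Hom.toAlgHom φ) = toR R e E := by
  ext x
  exact congrArg e (ι_hom φ x)

/-- the cocone of rings with vertex `R` -/
noncomputable def ccR : Cocone (Nbhd.toRing (A := Γ(S, V)) (Ω := ResidueField R)) where
  pt := CommRingCat.of R
  ι :=
    { app := fun E => CommRingCat.ofHom (toR R e E).toRingHom
      naturality := fun E E' φ => by
        ext x
        exact AlgHom.congr_fun (toR_hom R e φ) x }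

/-- the cocone of rings is a colimit cocone -/
noncomputable def ccRIsColimit : IsColimit (ccR R e) := by
  refine IsColimit.ofIsoColimit
    (colimit.isColimit (Nbhd.toRing (A := Γ(S, V)) (Ω := ResidueField R))) (Cocones.ext ?_ ?_)
  · exact e.toRingEquiv.toCommRingCatIso
  · intro U
    ext x
    rfl

/-- the cone over the tower with vertex `Spec R` -/
noncomputable def cU : Cone (Xs (Us hV R Fα)) where
  pt := Spec (CommRingCat.of R)
  π :=
    { app := fun a => Spec.map (CommRingCat.ofHom (toR R e (Fα.obj a.unop)).toRingHom)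
      naturality := fun a b m => by
        change 𝟙 _ ≫ Spec.map (CommRingCat.ofHom (toR R e (Fα.obj b.unop)).toRingHom) =
          Spec.map (CommRingCat.ofHom (toR R e (Fα.obj a.unop)).toRingHom) ≫
            Spec.map (CommRingCat.ofHom (Nbhd.Hom.toAlgHom (Fα.map m.unop)).toRingHom)
        rw [Category.id_comp, ← Spec.map_comp]
        congr 1
        ext x
        exact (AlgHom.congr_fun (toR_hom R e (Fα.map m.unop)) x).symm }

lemma cU_hh (a : αᵒᵖ) :
    (cU hV R Fα e).π.app a ≫ ((Us hV R Fα).obj a).hom = hS hV R := by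
  change Spec.map (CommRingCat.ofHom (toR R e (Fα.obj a.unop)).toRingHom) ≫
    Spec.map (CommRingCat.ofHom (algebraMap Γ(S, V) (Fα.obj a.unop).Ring)) ≫ hV.fromSpec =
    Spec.map (CommRingCat.ofHom (algebraMap Γ(S, V) R)) ≫ hV.fromSpec
  rw [← Category.assoc, ← Spec.map_comp]
  congr 2
  ext b
  exact (toR R e (Fα.obj a.unop)).commutes b

/-- the comparison of the two descriptions of the tower of schemes -/
noncomputable def towerIso :
    Fα.op ⋙ (Nbhd.toRing (A := Γ(S, V)) (Ω := ResidueField R)).op ⋙ Scheme.Spec ≅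
      Xs (Us hV R Fα) :=
  NatIso.ofComponents (fun a => Iso.refl _) (by
    intro a b m
    change Spec.map _ ≫ 𝟙 _ = 𝟙 _ ≫ Spec.map _
    rw [Category.comp_id, Category.id_comp]
    rfl)

/-- the cone with vertex `Spec R` is a limit cone -/
noncomputable def cUIsLimit [Fα.Final] : IsLimit (cU hV R Fα e) := by
  have h1 : IsLimit (Scheme.Spec.mapCone (ccR R e).op) :=
    isLimitOfPreserves Scheme.Spec (ccRIsColimit R e).op
  have h2 : IsLimit ((Scheme.Spec.mapCone (ccR R e).op).whisker Fα.op) :=
    (Functor.Initial.isLimitWhiskerEquiv Fα.op _).symm h1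
  have h3 := (IsLimit.postcomposeHomEquiv (towerIso hV R Fα) _).symm h2
  refine IsLimit.ofIsoLimit h3 (Cones.ext (Iso.refl _) ?_)
  intro a
  change (Spec.map _ ≫ 𝟙 _) = 𝟙 _ ≫ Spec.map _
  rw [Category.comp_id, Category.id_comp]
  rfl

end H9FE.SHNbhd
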