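import Mathlib
import Groth.Agent.Lib.Helper9.FE.SHNbhd1
import Groth.Agent.Lib.Helper9.FE.SLocSect
import Groth.Agent.Lib.Helper9.FE.StkTheta

/-! helper9: étale neighbourhoods of the closed geometric point of a strictly henselian local
scheme `Spec R ⟶ S`: every étale neighbourhood `(U, u)` of the geometric point receives a unique
`S`-morphism from `Spec R` through the point (`lift`, from the section theorem for strictly
henselian local rings), and is dominated by a stage of the tower of affine étale neighbourhoods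
attached to a model of `R` (`dom`). -/

set_option autoImplicit false
set_option linter.unusedSectionVars false
set_option linter.style.haveILetI false
set_option backward.isDefEq.respectTransparency false
universe u
open CategoryTheory CategoryTheory.Limits AlgebraicGeometry Opposite IsLocalRing
  Groth.Agent.Helper7.SHens

namespace H9FE.SHNbhd
open H9FE.StkSys H9FE.LimTower H9FE.SLocSect H9FE.StkTheta

variable {S : Scheme.{u}} {V : S.Opens} (hV : IsAffineOpen V)
  (R : Type u) [CommRing R] [HenselianLocalRing R] [IsSepClosed (ResidueField R)]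
  [Algebra Γ(S, V) R]

section Lift

variable (U : S.Etale) (v : Spec (CommRingCat.of (ResidueField R)) ⟶ U.left)
  (hv : v ≫ U.hom = cpt R ≫ hS hV R)

include hv in
theorem exists_lift : ∃ ℓ : Spec (CommRingCat.of R) ⟶ U.left,
    ℓ ≫ U.hom = hS hV R ∧ cpt R ≫ ℓ = v := by
  let Y : (Spec (CommRingCat.of R)).Etale := (EtCoh.bc (hS hV R)).obj U
  let y : Spec (CommRingCat.of (ResidueField R)) ⟶ Y.left := pLift (hS hV R) U v (cpt R) hv
  have hy : y ≫ Y.hom = cpt R := pLift_p2 _ _ _ _ _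
  obtain ⟨s, hs1, hs2⟩ := exists_section Y y hy
  refine ⟨s ≫ p1 (hS hV R) U, ?_, ?_⟩
  · rw [Category.assoc, p_cond, ← Category.assoc]
    have : s ≫ p2 (hS hV R) U = 𝟙 _ := hs1
    rw [this, Category.id_comp]
  · rw [← Category.assoc, hs2]
    exact pLift_p1 _ _ _ _ _

theorem lift_unique (ℓ₁ ℓ₂ : Spec (CommRingCat.of R) ⟶ U.left)
    (h1 : ℓ₁ ≫ U.hom = hS hV R) (h2 : ℓ₂ ≫ U.hom = hS hV R)
    (h12 : cpt R ≫ ℓ₁ = cpt R ≫ ℓ₂) : ℓ₁ = ℓ₂ := by
  let Y : (Spec (CommRingCat.of R)).Etale := (EtCoh.bc (hS hV R)).obj U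
  let s₁ : Spec (CommRingCat.of R) ⟶ Y.left :=
    pLift (hS hV R) U ℓ₁ (𝟙 _) (by rw [h1, Category.id_comp])
  let s₂ : Spec (CommRingCat.of R) ⟶ Y.left :=
    pLift (hS hV R) U ℓ₂ (𝟙 _) (by rw [h2, Category.id_comp])
  have hs₁ : s₁ ≫ Y.hom = 𝟙 _ := pLift_p2 _ _ _ _ _
  have hs₂ : s₂ ≫ Y.hom = 𝟙 _ := pLift_p2 _ _ _ _ _
  have e1 : s₁ ≫ p1 (hS hV R) U = ℓ₁ := pLift_p1 _ _ _ _ _
  have e2 : s₂ ≫ p1 (hS hV R) U = ℓ₂ := pLift_p1 _ _ _ _ _
  have hs : cpt R ≫ s₁ = cpt R ≫ s₂ := by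
    apply p_hom_ext (hS hV R) U
    · rw [Category.assoc, Category.assoc, e1, e2, h12]
    · have f1 : s₁ ≫ p2 (hS hV R) U = 𝟙 _ := hs₁
      have f2 : s₂ ≫ p2 (hS hV R) U = 𝟙 _ := hs₂
      rw [Category.assoc, Category.assoc, f1, f2]
  have := section_unique Y s₁ s₂ hs₁ hs₂ hs
  rw [← e1, ← e2, this]

end Lift

variable {α : Type u} [PartialOrder α] (Fα : α ⥤ Nbhd Γ(S, V) (ResidueField R))
  (e : G Γ(S, V) (ResidueField R) ≃ₐ[Γ(S, V)] R)

/-- the point of the étale site of `S` -/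
noncomputable abbrev PtS : GrothendieckTopology.Point.{u} S.smallEtaleTopology :=
  Pt (Us hV R Fα) (cU hV R Fα e) (hS hV R) (cpt R)

/-- the unique `S`-morphism from `Spec R` to an étale neighbourhood of the geometric point -/
noncomputable def lift (U : S.Etale) (u : (PtS hV R Fα e).fiber.obj U) :
    (cU hV R Fα e).pt ⟶ U.left :=
  (exists_lift hV R U u.left (Over.w u)).choose

lemma lift_hom (U : S.Etale) (u : (PtS hV R Fα e).fiber.obj U) :
    lift hV R Fα e U u ≫ U.hom = hS hV R :=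
  (exists_lift hV R U u.left (Over.w u)).choose_spec.1

lemma lift_pt (U : S.Etale) (u : (PtS hV R Fα e).fiber.obj U) :
    cpt R ≫ lift hV R Fα e U u = u.left :=
  (exists_lift hV R U u.left (Over.w u)).choose_spec.2

lemma lift_eq (U : S.Etale) (u : (PtS hV R Fα e).fiber.obj U)
    (ℓ : Spec (CommRingCat.of R) ⟶ U.left) (h1 : ℓ ≫ U.hom = hS hV R)
    (h2 : cpt R ≫ ℓ = u.left) : ℓ = lift hV R Fα e U u :=
  lift_unique hV R U ℓ _ h1 (lift_hom hV R Fα e U u) (h2.trans (lift_pt hV R Fα e U u).symm)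

lemma lift_nat {U U' : S.Etale} (m : U ⟶ U') (u : (PtS hV R Fα e).fiber.obj U) :
    lift hV R Fα e U u ≫ m.left = lift hV R Fα e U' ((PtS hV R Fα e).fiber.map m u) := by
  apply lift_eq
  · rw [Category.assoc]
    have : m.left ≫ U'.hom = U.hom := MorphismProperty.Over.w m
    rw [this, lift_hom]
  · rw [← Category.assoc, lift_pt]
    rfl

lemma lift_tower (a : αᵒᵖ) :
    lift hV R Fα e ((Us hV R Fα).obj a)
      (uj (Us hV R Fα) (cU hV R Fα e) (hS hV R) (cU_hh hV R Fα e) (cpt R) a) =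
      (cU hV R Fα e).π.app a := by
  symm
  apply lift_eq
  · exact cU_hh hV R Fα e a
  · rfl

end H9FE.SHNbhd
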