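import Mathlib
import Groth.Agent.Lib.Helper9.FE.SHNbhd2

/-! helper9: every étale neighbourhood of the closed geometric point of `Spec R ⟶ S` is dominated
by a stage of the tower of affine étale neighbourhoods attached to a model of `R` (`dom`). -/

set_option autoImplicit false
set_option linter.unusedSectionVars false
set_option linter.style.haveILetI false
set_option backward.isDefEq.respectTransparency false
universe u
open CategoryTheory CategoryTheory.Limits AlgebraicGeometry Opposite IsLocalRing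
  Groth.Agent.Helper7.SHens

namespace H9FE.SHNbhd
open H9FE.StkSys H9FE.LimTower H9FE.SLocSect H9FE.StkTheta

variable {S : Scheme.{u}} {V : S.Opens} (hV : IsAffineOpen V)
  (R : Type u) [CommRing R] [HenselianLocalRing R] [IsSepClosed (ResidueField R)]
  [Algebra Γ(S, V) R]

lemma algebraMap_resField' (b : Γ(S, V)) :
    algebraMap Γ(S, V) (ResidueField R) b = residue R (algebraMap Γ(S, V) R b) := by
  rw [IsScalarTower.algebraMap_apply Γ(S, V) R (ResidueField R), ResidueField.algebraMap_eq]

/-- every étale neighbourhood of the geometric point is dominated by an affine one attached to an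
étale algebra -/
theorem exists_nbhd (U : S.Etale) (v : Spec (CommRingCat.of (ResidueField R)) ⟶ U.left)
    (hv : v ≫ U.hom = cpt R ≫ hS hV R) :
    ∃ (E : Nbhd Γ(S, V) (ResidueField R)) (m : nsObj hV R E ⟶ U),
      Spec.map (CommRingCat.ofHom (E.sec : E.Ring →+* ResidueField R)) ≫ m.left = v := by
  classical
  haveI : Etale U.hom := U.prop
  let pt : Spec (CommRingCat.of (ResidueField R)) := default
  have hpt : ∀ a : Spec (CommRingCat.of (ResidueField R)), a = pt := fun a =>
    Subsingleton.elim (α := ↥(Spec (CommRingCat.of (ResidueField R)))) a pt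
  have hx : v pt ∈ U.hom ⁻¹ᵁ V := by
    change U.hom (v pt) ∈ V
    have e0 : U.hom (v pt) = (cpt R ≫ hS hV R) pt :=
      (Scheme.Hom.comp_apply v U.hom pt).symm.trans (congrArg (fun t => t pt) hv)
    rw [e0]
    have h1 : (cpt R ≫ hS hV R) pt ∈ Set.range hV.fromSpec := by
      change (cpt R ≫ Spec.map (CommRingCat.ofHom (algebraMap Γ(S, V) R)) ≫ hV.fromSpec) pt ∈ _
      rw [← Category.assoc, Scheme.Hom.comp_apply]
      exact ⟨_, rfl⟩
    rw [hV.range_fromSpec] at h1
    exact h1
  obtain ⟨C, j, hj, hxj, hrange⟩ := Scheme.exists_affine_mem_range_and_range_subset hx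
  have hvj : Set.range v ⊆ Set.range j := by
    rintro _ ⟨a, rfl⟩
    rw [hpt a]
    exact hxj
  let y' : Spec (CommRingCat.of (ResidueField R)) ⟶ Spec C := IsOpenImmersion.lift j v hvj
  have hy' : y' ≫ j = v := IsOpenImmersion.lift_fac j v hvj
  let φ : C ⟶ CommRingCat.of (ResidueField R) := Spec.preimage y'
  have hφ : Spec.map φ = y' := Spec.map_preimage y'
  have hjU : Set.range (j ≫ U.hom) ⊆ Set.range hV.fromSpec := by
    rw [hV.range_fromSpec]
    rintro _ ⟨a, rfl⟩
    rw [Scheme.Hom.comp_apply]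
    exact hrange ⟨a, rfl⟩
  let jb : Spec C ⟶ Spec Γ(S, V) := IsOpenImmersion.lift hV.fromSpec (j ≫ U.hom) hjU
  have hjb : jb ≫ hV.fromSpec = j ≫ U.hom := IsOpenImmersion.lift_fac _ _ hjU
  let β : Γ(S, V) ⟶ C := Spec.preimage jb
  have hβ : Spec.map β = jb := Spec.map_preimage jb
  have hβ' : Spec.map β ≫ hV.fromSpec = j ≫ U.hom := by rw [hβ, hjb]
  haveI : Etale (Spec.map β ≫ hV.fromSpec) := by
    rw [hβ']
    infer_instance
  haveI : Etale (Spec.map β) := Etale.of_comp (Spec.map β) hV.fromSpec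
  have hβet : β.hom.Etale := (HasRingHomProperty.Spec_iff (P := @Etale)).1 inferInstance
  letI : Algebra Γ(S, V) C := β.hom.toAlgebra
  haveI : Algebra.Etale Γ(S, V) C := hβet
  -- compatibility of `φ` with the algebra structures
  have hcomp : β ≫ φ = CommRingCat.ofHom (algebraMap Γ(S, V) R) ≫
      CommRingCat.ofHom (residue R) := by
    apply Spec.map_injective
    rw [Spec.map_comp, Spec.map_comp, hφ]
    rw [← cancel_mono hV.fromSpec]
    rw [Category.assoc, hβ', ← Category.assoc, hy', hv]
    rfl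
  let φalg : C →ₐ[Γ(S, V)] ResidueField R :=
    { φ.hom with
      commutes' := fun b => by
        have h1 := ConcreteCategory.congr_hom hcomp b
        rw [algebraMap_resField']
        exact h1 }
  let E : Nbhd Γ(S, V) (ResidueField R) := Nbhd.of C φalg
  let eq : E.Ring ≃ₐ[Γ(S, V)] C := Nbhd.ofEquiv C φalg
  have hsec : ∀ x, E.sec x = φalg (eq x) := Nbhd.of_sec_apply C φalg
  refine ⟨E, MorphismProperty.Over.homMk
    (Spec.map (CommRingCat.ofHom (eq.symm : C →+* E.Ring)) ≫ j) ?_ trivial, ?_⟩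
  · change (Spec.map (CommRingCat.ofHom (eq.symm : C →+* E.Ring)) ≫ j) ≫ U.hom =
      Spec.map (CommRingCat.ofHom (algebraMap Γ(S, V) E.Ring)) ≫ hV.fromSpec
    rw [Category.assoc, ← hβ', ← Category.assoc, ← Spec.map_comp]
    congr 2
    ext b
    exact eq.symm.commutes b
  · change Spec.map (CommRingCat.ofHom (E.sec : E.Ring →+* ResidueField R)) ≫
      Spec.map (CommRingCat.ofHom (eq.symm : C →+* E.Ring)) ≫ j = v
    rw [← Category.assoc, ← Spec.map_comp, ← hy', ← hφ]
    congr 2
    ext c
    change E.sec (eq.symm c) = φ.hom c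
    rw [hsec, AlgEquiv.apply_symm_apply]
    rfl

variable {α : Type u} [PartialOrder α] (Fα : α ⥤ Nbhd Γ(S, V) (ResidueField R)) [Fα.Final]
  (e : G Γ(S, V) (ResidueField R) ≃ₐ[Γ(S, V)] R) (he : ∀ c, residue R (e c) = σ c)

include he in
lemma cpt_cU (E : Nbhd Γ(S, V) (ResidueField R)) :
    cpt R ≫ Spec.map (CommRingCat.ofHom (toR R e E).toRingHom) =
      Spec.map (CommRingCat.ofHom (E.sec : E.Ring →+* ResidueField R)) := by
  change Spec.map (CommRingCat.ofHom (residue R)) ≫ _ = _
  rw [← Spec.map_comp]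
  congr 1
  ext x
  change residue R (e (ι E x)) = E.sec x
  rw [he, σ_ι]

include he in
/-- every étale neighbourhood of the geometric point is dominated by a stage of the tower -/
theorem dom (U : S.Etale) (u : (PtS hV R Fα e).fiber.obj U) :
    ∃ (a : αᵒᵖ) (m : (Us hV R Fα).obj a ⟶ U), (PtS hV R Fα e).fiber.map m
      (uj (Us hV R Fα) (cU hV R Fα e) (hS hV R) (cU_hh hV R Fα e) (cpt R) a) = u := by
  obtain ⟨E, m₀, hm₀⟩ := exists_nbhd hV R U u.left (Over.w u)
  haveI : Nonempty (StructuredArrow E Fα) := (Functor.Final.out (F := Fα) E).is_nonempty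
  obtain ⟨sa⟩ := (inferInstance : Nonempty (StructuredArrow E Fα))
  refine ⟨op sa.right, nsMap hV R sa.hom ≫ m₀, ?_⟩
  apply Over.OverMorphism.ext
  change (cpt R ≫ Spec.map (CommRingCat.ofHom (toR R e (Fα.obj sa.right)).toRingHom)) ≫
    Spec.map (CommRingCat.ofHom (Nbhd.Hom.toAlgHom sa.hom).toRingHom) ≫ m₀.left = u.left
  rw [cpt_cU R e he, ← hm₀, ← Category.assoc, ← Spec.map_comp]
  congr 2
  ext x
  exact Nbhd.sec_hom sa.hom x

end H9FE.SHNbhd
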