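import Mathlib
import Groth.Prelude.Def_ProEtS
import Groth.Agent.S0729
import Groth.Agent.S0730
import Groth.Agent.Lib.Helper9.FE.ProEtE4

/-! helper9: for a weakly étale morphism `f : Y ⟶ X`, the functor `V ↦ (V → Y → X)` of small
pro-étale sites is continuous; restriction along it of the pro-étale pullback of an étale sheaf `F`
on `X` is the pro-étale pullback of the étale pullback `f⁻¹ F` (`K`), hence the restriction of
`ε⁻¹ F` to the small étale site of `Y` is `f⁻¹ F` (`kappa`), compatibly with the units
(`kappa_unit`). -/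

set_option autoImplicit false
set_option linter.unusedSectionVars false
set_option linter.style.haveILetI false
set_option backward.isDefEq.respectTransparency false
universe u
open CategoryTheory Limits Opposite AlgebraicGeometry

namespace H9FE.ProEtK

instance epsCont (X : Scheme.{u}) : ProEtS.EpsCont X := Groth.Agent.S0729.result X
instance pCont {X Y : Scheme.{u}} (f : X ⟶ Y) : ProEtS.PCont f := Groth.Agent.S0730.result f

section
variable {Y X : Scheme.{u}} (f : Y ⟶ X) [hf : WeaklyEtale f]

lemma preservesPullbacks_compP : PreservesLimitsOfShape WalkingCospan (ProEtS.compP f) := by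
  have h : PreservesLimitsOfShape WalkingCospan
      (ProEtS.compP f ⋙ (Scheme.ProEt.forget X ⋙ Over.forget X)) := by
    show PreservesLimitsOfShape WalkingCospan (Scheme.ProEt.forget Y ⋙ Over.forget Y)
    infer_instance
  exact preservesLimitsOfShape_of_reflects_of_preserves (ProEtS.compP f)
    (Scheme.ProEt.forget X ⋙ Over.forget X)

theorem jpCont : ProEtS.JPCont f := by
  haveI := preservesPullbacks_compP f
  haveI : (Scheme.ProEt.precoverage Y).IsStableUnderBaseChange := by
    unfold Scheme.ProEt.precoverage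
    infer_instance
  haveI : (Scheme.ProEt.precoverage X).IsStableUnderBaseChange := by
    unfold Scheme.ProEt.precoverage
    infer_instance
  haveI : (Scheme.ProEt.precoverage Y).HasPullbacks := inferInstance
  haveI : (Scheme.ProEt.precoverage X).HasPullbacks := inferInstance
  refine Functor.isContinuous_toGrothendieck_of_pullbacksPreservedBy (F := ProEtS.compP f)
    (Scheme.ProEt.precoverage Y) (Scheme.ProEt.precoverage X) ?_
  intro U R hR
  obtain ⟨ι, V, g, rfl⟩ := R.exists_eq_ofArrows
  rw [Precoverage.mem_comap_iff, Presieve.map_ofArrows]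
  rw [Scheme.ProEt.precoverage, Precoverage.mem_comap_iff, Presieve.map_ofArrows] at hR ⊢
  exact hR

instance : ProEtS.JPCont f := jpCont f

/-- The site-level adjunction between composition with `f` and base change along `f`. -/
noncomputable def siteAdj : ProEtS.compP f ⊣ ProEtS.bcP f :=
  MorphismProperty.Over.mapPullbackAdj (@WeaklyEtale) ⊤ f hf trivial

/-- Restriction along a weakly etale morphism is left adjoint to the direct image. -/
noncomputable def restrPushAdj : ProEtS.restrP f ⊣ ProEtS.pushP f :=
  (siteAdj f).sheafPushforwardContinuous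
    (E := AddCommGrpCat.{u + 1}) (Scheme.ProEt.topology Y) (Scheme.ProEt.topology X)

noncomputable def adj1 :
    ProEtS.epsPull X ⋙ ProEtS.restrP f ⊣ ProEtS.pushP f ⋙ ProEtS.epsPush X :=
  (ProEtS.epsAdj X).comp (restrPushAdj f)

noncomputable def adj2 :
    EtCoh.pull f ⋙ ProEtS.epsPull Y ⊣ ProEtS.epsPush Y ⋙ EtCoh.push f :=
  (EtCoh.pullPushAdj f).comp (ProEtS.epsAdj Y)

noncomputable def K : ProEtS.epsPull X ⋙ ProEtS.restrP f ≅ EtCoh.pull f ⋙ ProEtS.epsPull Y :=
  (adj1 f).leftAdjointUniq (adj2 f)

variable (F : EtCoh.Ab X)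

/-- the restriction of `ε⁻¹ F` to the small étale site of `Y` -/
noncomputable abbrev GY : EtCoh.Ab Y :=
  (ProEtS.epsPush Y).obj ((ProEtS.restrP f).obj ((ProEtS.epsPull X).obj F))

/-- the comparison `f⁻¹ F ⟶ (ε⁻¹ F)|_{Y_et}` -/
noncomputable def kappa : (EtCoh.pull f).obj F ⟶ GY f F :=
  (ProEtS.epsAdj Y).unit.app _ ≫ (ProEtS.epsPush Y).map ((K f).inv.app F)

instance isIso_kappa : IsIso (kappa f F) := by
  haveI := H9FE.ProEtE.main717 Y ((EtCoh.pull f).obj F)
  unfold kappa
  infer_instance

theorem kappa_unit :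
    (EtCoh.pullPushAdj f).unit.app F ≫ (EtCoh.push f).map (kappa f F) = (adj1 f).unit.app F := by
  unfold kappa
  rw [Functor.map_comp, ← Category.assoc]
  have h1 : (EtCoh.pullPushAdj f).unit.app F ≫
      (EtCoh.push f).map ((ProEtS.epsAdj Y).unit.app ((EtCoh.pull f).obj F)) =
        (adj2 f).unit.app F := by
    unfold adj2
    rw [Adjunction.comp_unit_app]
  rw [h1]
  have h2 := Adjunction.unit_leftAdjointUniq_hom_app (adj1 f) (adj2 f) F
  rw [← h2, Category.assoc]
  have h3 : (ProEtS.pushP f ⋙ ProEtS.epsPush X).map (((adj1 f).leftAdjointUniq (adj2 f)).hom.app F) ≫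
      (EtCoh.push f).map ((ProEtS.epsPush Y).map ((K f).inv.app F)) = 𝟙 _ := by
    show (ProEtS.pushP f ⋙ ProEtS.epsPush X).map ((K f).hom.app F) ≫
      (ProEtS.pushP f ⋙ ProEtS.epsPush X).map ((K f).inv.app F) = 𝟙 _
    rw [← Functor.map_comp, Iso.hom_inv_id_app, CategoryTheory.Functor.map_id]
  rw [h3]
  exact Category.comp_id _

theorem adj1_unit_apply (U : X.Etale) (t : F.obj.obj (op U)) :
    ((adj1 f).unit.app F).hom.app (op U) t =
      ((ProEtS.epsPull X).obj F).obj.map ((siteAdj f).counit.app ((ProEtS.eps X).obj U)).op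
        (((ProEtS.epsAdj X).unit.app F).hom.app (op U) t) := by
  unfold adj1
  rw [Adjunction.comp_unit_app]
  rfl

end

end H9FE.ProEtK
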