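import Mathlib
import Groth.Prelude.Def_ProEtS
import Groth.Agent.Lib.Helper9.FE.ProEtK1
import Groth.Agent.Lib.Helper9.FE.LimLoc

/-! helper9: local structure of the sections of the pro-étale pullback `ε⁻¹ F` of an abelian étale
sheaf over an object `Y → X` of the small pro-étale site, étale locally on `Y`: every section is
étale locally on `Y` the restriction of the image under the unit of a section of `F` (a chart), and
a chart giving the zero section factors étale locally through charts with zero section of `F`. -/

set_option autoImplicit false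
set_option linter.unusedSectionVars false
set_option linter.style.haveILetI false
set_option backward.isDefEq.respectTransparency false
universe u
open CategoryTheory Limits Opposite AlgebraicGeometry

namespace H9FE.ProEtK

section
variable {Y X : Scheme.{u}} (f : Y ⟶ X) [hf : WeaklyEtale f] (F : EtCoh.Ab X)

/-- the object `T → Y → X` of the small pro-étale site of `X` -/
noncomputable abbrev gam (T : Y.Etale) : X.ProEt := (ProEtS.compP f).obj ((ProEtS.eps Y).obj T)

/-- the morphism `gam f T' ⟶ gam f T` -/
noncomputable abbrev gamMap {T' T : Y.Etale} (g : T' ⟶ T) : gam f T' ⟶ gam f T :=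
  (ProEtS.compP f).map ((ProEtS.eps Y).map g)

/-- the projection `U ×_X Y ⟶ U` in the small pro-étale site of `X` -/
noncomputable abbrev prj (U : X.Etale) : gam f ((EtCoh.bc f).obj U) ⟶ (ProEtS.eps X).obj U :=
  (siteAdj f).counit.app ((ProEtS.eps X).obj U)

lemma kappa_unit_apply (U : X.Etale) (t : F.obj.obj (op U)) :
    (kappa f F).hom.app (op ((EtCoh.bc f).obj U))
      (((EtCoh.pullPushAdj f).unit.app F).hom.app (op U) t) =
    ((ProEtS.epsPull X).obj F).obj.map (prj f U).op
      (((ProEtS.epsAdj X).unit.app F).hom.app (op U) t) := by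
  have h := congrArg (fun m : F ⟶ (EtCoh.push f).obj (GY f F) => (m.hom.app (op U)) t)
    (kappa_unit f F)
  exact h.trans (adj1_unit_apply f F U t)

lemma kappa_chart (U : X.Etale) (t : F.obj.obj (op U)) (T : Y.Etale)
    (φ : T ⟶ (EtCoh.bc f).obj U) :
    (kappa f F).hom.app (op T) (((EtCoh.pull f).obj F).obj.map φ.op
      (((EtCoh.pullPushAdj f).unit.app F).hom.app (op U) t)) =
    ((ProEtS.epsPull X).obj F).obj.map (gamMap f φ ≫ prj f U).op
      (((ProEtS.epsAdj X).unit.app F).hom.app (op U) t) := by
  have h1 := NatTrans.naturality_apply (kappa f F).hom φ.op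
    (((EtCoh.pullPushAdj f).unit.app F).hom.app (op U) t)
  refine h1.trans ?_
  have h2 := congrArg ((GY f F).obj.map φ.op) (kappa_unit_apply f F U t)
  refine h2.trans ?_
  have h3 : (gamMap f φ ≫ prj f U).op = (prj f U).op ≫ (gamMap f φ).op := op_comp
  rw [h3, Functor.map_comp]
  rfl

/-- sections of `ε⁻¹ F` over `T → Y → X` are étale locally on `T` given by charts -/
theorem star_T (T : Y.Etale) (s : ((ProEtS.epsPull X).obj F).obj.obj (op (gam f T))) (x : T.left) :
    ∃ (T' : Y.Etale) (g : T' ⟶ T) (x' : T'.left), g.left x' = x ∧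
      ∃ (U : X.Etale) (φ : T' ⟶ (EtCoh.bc f).obj U) (t : F.obj.obj (op U)),
        ((ProEtS.epsPull X).obj F).obj.map (gamMap f g).op s =
          ((ProEtS.epsPull X).obj F).obj.map (gamMap f φ ≫ prj f U).op
            (((ProEtS.epsAdj X).unit.app F).hom.app (op U) t) := by
  let s' : ((EtCoh.pull f).obj F).obj.obj (op T) := (inv (kappa f F)).hom.app (op T) s
  have hs' : (kappa f F).hom.app (op T) s' = s := by
    have h : (inv (kappa f F) ≫ kappa f F).hom.app (op T) s = s := by
      rw [IsIso.inv_hom_id]
      rfl
    exact h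
  obtain ⟨T', g, x', hx', U, φ, t, ht⟩ := H9FE.LimLoc.exists_local_unit f F T s' x
  refine ⟨T', g, x', hx', U, φ, t, ?_⟩
  refine Eq.trans ?_ (kappa_chart f F U t T' φ)
  have h1 := NatTrans.naturality_apply (kappa f F).hom g.op s'
  have h2 := congrArg ((kappa f F).hom.app (op T')) ht
  refine Eq.trans ?_ h2
  refine Eq.trans ?_ h1.symm
  exact (congrArg ((GY f F).obj.map g.op) hs').symm

/-- a chart giving the zero section factors étale locally through charts with zero section -/
theorem starstar_T (U : X.Etale) (t : F.obj.obj (op U)) (T : Y.Etale)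
    (φ : T ⟶ (EtCoh.bc f).obj U)
    (h0 : ((ProEtS.epsPull X).obj F).obj.map (gamMap f φ ≫ prj f U).op
      (((ProEtS.epsAdj X).unit.app F).hom.app (op U) t) = 0) (x : T.left) :
    ∃ (U' : X.Etale) (h : U' ⟶ U) (z : ((EtCoh.bc f).obj U').left),
      F.obj.map h.op t = 0 ∧ ((EtCoh.bc f).map h).left z = φ.left x := by
  refine H9FE.LimLoc.exists_local_vanish f F U t T φ ?_ x
  have hinj : Function.Injective ((kappa f F).hom.app (op T)) := by
    intro a b hab
    have h : ∀ c, (kappa f F ≫ inv (kappa f F)).hom.app (op T) c = c := by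
      intro c
      rw [IsIso.hom_inv_id]
      rfl
    rw [← h a, ← h b]
    exact congrArg ((inv (kappa f F)).hom.app (op T)) hab
  apply hinj
  refine (kappa_chart f F U t T φ).trans ?_
  exact h0.trans (map_zero _).symm

end

end H9FE.ProEtK
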