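import Mathlib
import Groth.Prelude.Def_ProEtS
import Groth.Agent.Lib.Helper9.FE.ProEtK2
import Groth.Agent.Lib.Helper9.FE.LimGeom3

/-! helper9: charts for sections of the pro-étale pullback `ε⁻¹ F` of an abelian étale sheaf over
an arbitrary object `W` of the small pro-étale site, étale locally on `W`, with affine étale
neighbourhoods (`star_W`, `starstar_W`). -/

set_option autoImplicit false
set_option linter.unusedSectionVars false
set_option linter.style.haveILetI false
set_option backward.isDefEq.respectTransparency false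
universe u
open CategoryTheory Limits Opposite AlgebraicGeometry

namespace H9FE.ProEtK

open H9FE.LimTower H9FE.LimGeom

section
variable {X : Scheme.{u}}

/-- an étale scheme over an object of the small pro-étale site, as an object -/
noncomputable abbrev etOver (W : X.ProEt) {V : Scheme.{u}} (v : V ⟶ W.left) [Etale v] : X.ProEt :=
  Scheme.ProEt.mk (v ≫ W.hom)

/-- its structure morphism -/
noncomputable abbrev etOverHom (W : X.ProEt) {V : Scheme.{u}} (v : V ⟶ W.left) [Etale v] :
    etOver W v ⟶ W :=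
  MorphismProperty.Over.homMk v rfl trivial

variable (F : EtCoh.Ab X)

/-- the section of `ε⁻¹ F` given by a chart -/
noncomputable abbrev chartSec {W : X.ProEt} {U : X.Etale} (g : W ⟶ (ProEtS.eps X).obj U)
    (t : F.obj.obj (op U)) : ((ProEtS.epsPull X).obj F).obj.obj (op W) :=
  ((ProEtS.epsPull X).obj F).obj.map g.op (((ProEtS.epsAdj X).unit.app F).hom.app (op U) t)

lemma chartSec_comp {W' W : X.ProEt} {U : X.Etale} (a : W' ⟶ W) (g : W ⟶ (ProEtS.eps X).obj U)
    (t : F.obj.obj (op U)) :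
    ((ProEtS.epsPull X).obj F).obj.map a.op (chartSec F g t) = chartSec F (a ≫ g) t := by
  show _ = ((ProEtS.epsPull X).obj F).obj.map (a ≫ g).op _
  rw [op_comp, Functor.map_comp]
  rfl

lemma chartSec_map {W : X.ProEt} {U' U : X.Etale} (g : W ⟶ (ProEtS.eps X).obj U') (h : U' ⟶ U)
    (t : F.obj.obj (op U)) :
    chartSec F (g ≫ (ProEtS.eps X).map h) t = chartSec F g (F.obj.map h.op t) := by
  show ((ProEtS.epsPull X).obj F).obj.map (g ≫ (ProEtS.eps X).map h).op _ = _
  rw [op_comp, Functor.map_comp]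
  have h1 := NatTrans.naturality_apply ((ProEtS.epsAdj X).unit.app F).hom h.op t
  show ((ProEtS.epsPull X).obj F).obj.map g.op (((ProEtS.epsPull X).obj F).obj.map
    ((ProEtS.eps X).map h).op (((ProEtS.epsAdj X).unit.app F).hom.app (op U) t)) = _
  exact congrArg (((ProEtS.epsPull X).obj F).obj.map g.op) h1.symm

lemma chartSec_zero {W : X.ProEt} {U : X.Etale} (g : W ⟶ (ProEtS.eps X).obj U) :
    chartSec F g 0 = 0 := by
  show ((ProEtS.epsPull X).obj F).obj.map g.op (((ProEtS.epsAdj X).unit.app F).hom.app (op U) 0) = 0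
  rw [map_zero, map_zero]

/-- comparison of `W` with the object `W.left → W.left → X` -/
noncomputable def e0 (W : X.ProEt) : gam W.hom (EtCoh.top W.left) ⟶ W :=
  MorphismProperty.Over.homMk (𝟙 _) rfl trivial

/-- the inclusion of an open of an étale `W.left`-scheme, as a morphism of the pro-étale site -/
noncomputable def opIn (W : X.ProEt) (T : W.left.Etale) (O : T.left.Opens) :
    haveI : Etale T.hom := T.prop
    etOver W (O.ι ≫ T.hom) ⟶ gam W.hom T :=
  MorphismProperty.Over.homMk O.ι (Category.assoc _ _ _).symm trivial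

/-- sections of `ε⁻¹ F` are étale locally given by charts -/
theorem star_W (W : X.ProEt) (s : ((ProEtS.epsPull X).obj F).obj.obj (op W)) (x : W.left) :
    ∃ (V : Scheme.{u}) (v : V ⟶ W.left) (_ : Etale v) (_ : IsAffine V) (x' : V), v x' = x ∧
      ∃ (U : X.Etale) (g : etOver W v ⟶ (ProEtS.eps X).obj U) (t : F.obj.obj (op U)),
        ((ProEtS.epsPull X).obj F).obj.map (etOverHom W v).op s = chartSec F g t := by
  obtain ⟨T', g, x', hx', U, φ, t, ht⟩ := star_T W.hom F (EtCoh.top W.left)
    (((ProEtS.epsPull X).obj F).obj.map (e0 W).op s) x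
  haveI : Etale T'.hom := T'.prop
  obtain ⟨O, hO, hxO, -⟩ := exists_isAffineOpen_mem_and_subset (X := T'.left) (x := x')
    (U := ⊤) trivial
  have hw : g.left = T'.hom := by
    have h := MorphismProperty.Over.w g
    exact (Category.comp_id _).symm.trans h
  refine ⟨O.toScheme, O.ι ≫ T'.hom, inferInstance, hO, ⟨x', hxO⟩, ?_, U,
    opIn W T' O ≫ gamMap W.hom φ ≫ prj W.hom U, t, ?_⟩
  · rw [Scheme.Hom.comp_apply, ← hw]
    exact hx'
  · rw [← chartSec_comp]
    refine Eq.trans ?_ (congrArg (((ProEtS.epsPull X).obj F).obj.map (opIn W T' O).op) ht)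
    have hcomp : etOverHom W (O.ι ≫ T'.hom) = opIn W T' O ≫ gamMap W.hom g ≫ e0 W := by
      apply MorphismProperty.Over.Hom.ext
      show O.ι ≫ T'.hom = O.ι ≫ g.left ≫ 𝟙 _
      rw [Category.comp_id, hw]
    rw [hcomp, op_comp, op_comp, Functor.map_comp, Functor.map_comp]
    rfl

/-- the section of `U ×_X W → W` defined by a morphism `W ⟶ ε U` -/
noncomputable def phi0 (W : X.ProEt) {U : X.Etale} (g : W ⟶ (ProEtS.eps X).obj U) :
    EtCoh.top W.left ⟶ (EtCoh.bc W.hom).obj U :=
  MorphismProperty.Over.homMk (pLift W.hom U g.left (𝟙 _) (by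
    rw [Category.id_comp]
    exact MorphismProperty.Over.w g)) (pLift_p2 _ _ _ _ _) trivial

lemma phi0_prj (W : X.ProEt) {U : X.Etale} (g : W ⟶ (ProEtS.eps X).obj U) :
    gamMap W.hom (phi0 W g) ≫ prj W.hom U = e0 W ≫ g := by
  apply MorphismProperty.Over.Hom.ext
  show (phi0 W g).left ≫ p1 W.hom U = 𝟙 _ ≫ g.left
  rw [Category.id_comp]
  exact pLift_p1 _ _ _ _ _

/-- a chart with zero section factors, étale locally, through charts with zero section of `F` -/
theorem starstar_W (W : X.ProEt) (U : X.Etale) (g : W ⟶ (ProEtS.eps X).obj U)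
    (t : F.obj.obj (op U)) (h0 : chartSec F g t = 0) (x : W.left) :
    ∃ (V : Scheme.{u}) (v : V ⟶ W.left) (_ : Etale v) (_ : IsAffine V) (x' : V), v x' = x ∧
      ∃ (U' : X.Etale) (h : U' ⟶ U) (g' : etOver W v ⟶ (ProEtS.eps X).obj U'),
        g' ≫ (ProEtS.eps X).map h = etOverHom W v ≫ g ∧ F.obj.map h.op t = 0 := by
  have h0' : chartSec F (gamMap W.hom (phi0 W g) ≫ prj W.hom U) t = 0 := by
    rw [phi0_prj, ← chartSec_comp, h0, map_zero]
  obtain ⟨U', h, z, hF0, hz⟩ := starstar_T W.hom F U t (EtCoh.top W.left) (phi0 W g) h0' x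
  obtain ⟨x1, hx1a, hx1b⟩ := et_pullback_exists_preimage (phi0 W g) ((EtCoh.bc W.hom).map h)
    x z hz.symm
  let T1 : W.left.Etale := pullback (phi0 W g) ((EtCoh.bc W.hom).map h)
  haveI : Etale T1.hom := T1.prop
  obtain ⟨O, hO, hxO, -⟩ := exists_isAffineOpen_mem_and_subset (X := T1.left) (x := x1)
    (U := ⊤) trivial
  have hw : (pullback.fst (phi0 W g) ((EtCoh.bc W.hom).map h)).left = T1.hom := by
    have h' := MorphismProperty.Over.w (pullback.fst (phi0 W g) ((EtCoh.bc W.hom).map h))
    exact (Category.comp_id _).symm.trans h'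
  refine ⟨O.toScheme, O.ι ≫ T1.hom, inferInstance, hO, ⟨x1, hxO⟩, ?_, U', h,
    opIn W T1 O ≫ gamMap W.hom (pullback.snd (phi0 W g) ((EtCoh.bc W.hom).map h)) ≫
      prj W.hom U', ?_, hF0⟩
  · rw [Scheme.Hom.comp_apply, ← hw]
    exact hx1a
  · apply MorphismProperty.Over.Hom.ext
    show (O.ι ≫ (pullback.snd (phi0 W g) ((EtCoh.bc W.hom).map h)).left ≫ p1 W.hom U') ≫ h.left =
      (O.ι ≫ T1.hom) ≫ g.left
    have hc := congrArg (fun m => m.left ≫ p1 W.hom U)
      (pullback.condition (f := phi0 W g) (g := (EtCoh.bc W.hom).map h))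
    have hc' : (pullback.fst (phi0 W g) ((EtCoh.bc W.hom).map h)).left ≫ (phi0 W g).left ≫
        p1 W.hom U = (pullback.snd (phi0 W g) ((EtCoh.bc W.hom).map h)).left ≫
          ((EtCoh.bc W.hom).map h).left ≫ p1 W.hom U := by
      exact ((Category.assoc _ _ _).symm.trans hc).trans (Category.assoc _ _ _)
    have hp : (phi0 W g).left ≫ p1 W.hom U = g.left := pLift_p1 _ _ _ _ _
    rw [hp, bc_map_p1, hw] at hc'
    rw [Category.assoc, Category.assoc, Category.assoc, ← hc']

end

end H9FE.ProEtK
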