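import Mathlib
import Groth.Prelude.Def_ProEtS
import Groth.Agent.Lib.Helper9.FE.ProEtK3
import Groth.Agent.Lib.Helper9.FE.BCLim

/-! helper9: cofiltered systems of quasi-compact quasi-separated objects of the small pro-étale
site with affine transition maps and a cone which is a limit of schemes (`Good`); their base
changes along a morphism from a quasi-compact quasi-separated object to a stage are again such
systems (`good_bc`); separation and gluing of sections of abelian sheaves along covering sieves. -/

set_option autoImplicit false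
set_option linter.unusedSectionVars false
set_option linter.style.haveILetI false
set_option backward.isDefEq.respectTransparency false
universe u
open CategoryTheory Limits Opposite AlgebraicGeometry

namespace H9FE.ProEtL

open H9FE.ProEtQc H9FE.ProEtK H9FE.BCLim

variable {X : Scheme.{u}}

section Sheaf

variable (G : ProEtS.AbP X)

lemma isSheaf_types : Presieve.IsSheaf (Scheme.ProEt.topology X)
    (G.obj ⋙ forget AddCommGrpCat.{u + 1}) :=
  (isSheaf_iff_isSheaf_of_type _ _).mp
    ((Presheaf.isSheaf_iff_isSheaf_forget _ _ (forget AddCommGrpCat.{u + 1})).mp G.property)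

/-- sections agreeing on a covering sieve are equal -/
lemma sep {W : X.ProEt} (S : Sieve W) (hS : S ∈ Scheme.ProEt.topology X W)
    (s s' : G.obj.obj (op W))
    (h : ∀ ⦃Z : X.ProEt⦄ (f : Z ⟶ W), S f → G.obj.map f.op s = G.obj.map f.op s') : s = s' :=
  ((isSheaf_types G).isSeparated _ hS).ext (fun _ f hf => h f hf)

/-- gluing of a compatible family of sections on a covering sieve -/
lemma glue {W : X.ProEt} (S : Sieve W) (hS : S ∈ Scheme.ProEt.topology X W)
    (x : ∀ ⦃Z : X.ProEt⦄ (f : Z ⟶ W), S f → G.obj.obj (op Z))
    (hx : ∀ ⦃Z Z' : X.ProEt⦄ (f : Z ⟶ W) (hf : S f) (k : Z' ⟶ Z),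
      G.obj.map k.op (x f hf) = x (k ≫ f) (S.downward_closed hf k)) :
    ∃ s : G.obj.obj (op W), ∀ ⦃Z : X.ProEt⦄ (f : Z ⟶ W) (hf : S f), G.obj.map f.op s = x f hf := by
  let fam : Presieve.FamilyOfElements (G.obj ⋙ forget AddCommGrpCat.{u + 1}) S.arrows :=
    fun Z f hf => x f hf
  have hcomp : fam.Compatible := by
    rw [Presieve.compatible_iff_sieveCompatible]
    intro Z Z' f k hf
    exact (hx f hf k).symm
  obtain ⟨s, hs, -⟩ := (isSheaf_types G) S hS fam hcomp
  exact ⟨s, fun Z f hf => hs f hf⟩

end Sheaf

section Sys

variable {I : Type u} [SmallCategory I] [IsCofiltered I]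

/-- a cofiltered system of qcqs objects with affine transition maps and a cone which is a limit of
schemes -/
structure Good (D : I ⥤ X.ProEt) (c : Cone D) : Prop where
  lim : Nonempty (IsLimit ((toSch X).mapCone c))
  aff : ∀ {i j : I} (a : i ⟶ j), IsAffineHom (D.map a).left
  qc : ∀ i, CompactSpace (D.obj i).left
  qs : ∀ i, QuasiSeparatedSpace (D.obj i).left

variable {D : I ⥤ X.ProEt} {c : Cone D}

lemma Good.affine_π (hg : Good D c) (i : I) : IsAffineHom (c.π.app i).left := by
  haveI : ∀ {i j : I} (a : i ⟶ j), IsAffineHom ((D ⋙ toSch X).map a) := fun a => hg.aff a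
  exact isAffineHom_π_app (D ⋙ toSch X) ((toSch X).mapCone c) hg.lim.some i

lemma Good.pt_qc (hg : Good D c) : CompactSpace c.pt.left := by
  obtain ⟨i⟩ := (IsCofiltered.nonempty : Nonempty I)
  haveI := hg.affine_π i
  haveI := hg.qc i
  exact QuasiCompact.compactSpace_of_compactSpace (c.π.app i).left

lemma Good.pt_qs (hg : Good D c) : QuasiSeparatedSpace c.pt.left := by
  obtain ⟨i⟩ := (IsCofiltered.nonempty : Nonempty I)
  haveI := hg.affine_π i
  haveI := hg.qs i
  exact quasiSeparatedSpace_of_quasiSeparated (c.π.app i).left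

lemma isAffineHom_sndD (hg : Good D c) (i : I) {V : X.ProEt} (v : V ⟶ D.obj i) (a : Over i) :
    IsAffineHom (sndD D i v a).left := by
  have hpb : IsPullback (fstD D i v a).left (sndD D i v a).left (D.map a.hom).left v.left :=
    (isPullbackD D i v a).map (toSch X)
  exact MorphismProperty.of_isPullback (P := @IsAffineHom) hpb (hg.aff a.hom)

/-- the base change of a good system along a morphism from a qcqs object is good -/
theorem good_coneOf (hg : Good D c) (i : I) {V : X.ProEt} (v : V ⟶ D.obj i)
    [CompactSpace V.left] [QuasiSeparatedSpace V.left] {P : X.ProEt} (p1 : P ⟶ c.pt) (p2 : P ⟶ V)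
    (w : p1 ≫ c.π.app i = p2 ≫ v)
    (hP : IsPullback p1.left p2.left (c.π.app i).left v.left) :
    Good (bcD D i v) (coneOf D i v c p1 p2 w) where
  lim := ⟨isLimitConeOf D i v c (toSch X) p1 p2 w hP hg.lim.some⟩
  aff := fun {a a'} m => by
    haveI := isAffineHom_sndD hg i v a
    haveI := isAffineHom_sndD hg i v a'
    have e : ((bcD D i v).map m).left ≫ (sndD D i v a').left = (sndD D i v a).left :=
      congrArg (fun t => t.left) (map_sndD D i v m)
    have h1 : IsAffineHom (((bcD D i v).map m).left ≫ (sndD D i v a').left) := by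
      rw [e]; infer_instance
    exact MorphismProperty.of_postcomp (W := @IsAffineHom) (W' := @IsSeparated)
      ((bcD D i v).map m).left (sndD D i v a').left inferInstance h1
  qc := fun a => by
    haveI := isAffineHom_sndD hg i v a
    exact QuasiCompact.compactSpace_of_compactSpace (sndD D i v a).left
  qs := fun a => by
    haveI := isAffineHom_sndD hg i v a
    exact quasiSeparatedSpace_of_quasiSeparated (sndD D i v a).left

/-- the base change of a good system along a morphism from a qcqs object is good -/
theorem good_bc (hg : Good D c) (i : I) {V : X.ProEt} (v : V ⟶ D.obj i)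
    [CompactSpace V.left] [QuasiSeparatedSpace V.left] :
    Good (bcD D i v) (bcCone D i v c) :=
  good_coneOf hg i v (fstC D i v c) (sndC D i v c) (condC D i v c)
    ((isPullbackC D i v c).map (toSch X))

end Sys

end H9FE.ProEtL
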