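import Mathlib
import Groth.Prelude.Def_ProEtS
import Groth.Agent.Lib.Helper9.FE.ProEtL1
import Groth.Agent.Lib.Helper6.IndEtComp

/-! helper9: ind-étale morphisms of affine schemes (the map on global sections is an ind-étale ring
map): identities, composition, base change; and the presentation of an ind-étale affine object
over an affine object `W` of the small pro-étale site as a cofiltered limit of affine objects étale
over `W`. -/

set_option autoImplicit false
set_option linter.unusedSectionVars false
set_option linter.style.haveILetI false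
set_option backward.isDefEq.respectTransparency false
universe u
open CategoryTheory Limits Opposite AlgebraicGeometry

namespace H9FE.PC

open H9FE.ProEtQc H9FE.ProEtL

/-- étale morphisms of commutative rings -/
abbrev rEt : MorphismProperty CommRingCat.{u} := Groth.Agent.Lib.Helper6.IndEtComp.etaleMP.{u}

/-- the map on global sections is ind-étale -/
def IE {Z W : Scheme.{u}} (f : Z ⟶ W) : Prop := MorphismProperty.ind.{u} rEt.{u} f.appTop

instance : (rEt.{u}).ContainsIdentities :=
  ⟨fun _ => RingHom.Etale.containsIdentities _⟩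

instance : (rEt.{u}).RespectsIso :=
  RingHom.toMorphismProperty_respectsIso_iff.mp RingHom.Etale.respectsIso

lemma IE_id (W : Scheme.{u}) : IE (𝟙 W) := by
  unfold IE
  rw [Scheme.Hom.id_appTop]
  exact MorphismProperty.id_mem _ _

lemma IE_comp {Z W T : Scheme.{u}} (f : Z ⟶ W) (g : W ⟶ T) (hf : IE f) (hg : IE g) :
    IE (f ≫ g) := by
  unfold IE at hf hg ⊢
  rw [Scheme.Hom.comp_appTop]
  exact MorphismProperty.comp_mem _ _ _ hg hf

lemma IE_of_isIso {Z W : Scheme.{u}} (f : Z ⟶ W) [IsIso f] : IE f := by
  unfold IE
  exact MorphismProperty.le_ind _ _ (MorphismProperty.of_isIso _ _)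

lemma IE_snd_of_isPullback {P A B S : Scheme.{u}} [IsAffine A] [IsAffine B] [IsAffine S]
    {fst : P ⟶ A} {snd : P ⟶ B} {f : A ⟶ S} {g : B ⟶ S} (h : IsPullback fst snd f g)
    (hf : IE f) : IE snd := by
  have hp := isPushout_appTop_of_isPullback h
  unfold IE at hf ⊢
  exact MorphismProperty.IsStableUnderCobaseChange.of_isPushout
    (P := MorphismProperty.ind.{u} rEt.{u}) hp.flip hf

lemma IE_fst_of_isPullback {P A B S : Scheme.{u}} [IsAffine A] [IsAffine B] [IsAffine S]
    {fst : P ⟶ A} {snd : P ⟶ B} {f : A ⟶ S} {g : B ⟶ S} (h : IsPullback fst snd f g)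
    (hg : IE g) : IE fst := by
  have hp := isPushout_appTop_of_isPullback h
  unfold IE at hg ⊢
  exact MorphismProperty.IsStableUnderCobaseChange.of_isPushout
    (P := MorphismProperty.ind.{u} rEt.{u}) hp hg

section Presentation

variable {X : Scheme.{u}} (W : X.ProEt) [IsAffine W.left] (Zo : Over W) [IsAffine Zo.left.left]
  {J₀ : Type u} [SmallCategory J₀] [IsFiltered J₀] (R : J₀ ⥤ CommRingCat.{u})
  (t : (Functor.const J₀).obj Γ(W.left, ⊤) ⟶ R)
  (s : R ⟶ (Functor.const J₀).obj Γ(Zo.left.left, ⊤))
  (hst : ∀ j, rEt (t.app j) ∧ t.app j ≫ s.app j = Zo.hom.left.appTop)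

/-- the structure map of a stage -/
noncomputable def stHom (j : J₀) : Spec (R.obj j) ⟶ W.left :=
  Spec.map (t.app j) ≫ W.left.isoSpec.inv

include hst in
lemma etale_stHom (j : J₀) : Etale (stHom W R t j) := by
  have h1 : (t.app j).hom.Etale := (hst j).1
  haveI : Etale (Spec.map (t.app j)) := (HasRingHomProperty.Spec_iff (P := @Etale)).mpr h1
  unfold stHom
  infer_instance

include hst in
lemma weaklyEtale_stHom (j : J₀) : WeaklyEtale (stHom W R t j ≫ W.hom) := by
  haveI := etale_stHom W Zo R t s hst j
  haveI : WeaklyEtale W.hom := W.prop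
  infer_instance

/-- a stage as an object of the small pro-étale site -/
noncomputable def stObj (j : J₀) : X.ProEt :=
  haveI := weaklyEtale_stHom W Zo R t s hst j
  Scheme.ProEt.mk (stHom W R t j ≫ W.hom)

/-- a stage as an object over `W` -/
noncomputable def stOver (j : J₀) : Over W :=
  Over.mk (MorphismProperty.Over.homMk (stHom W R t j) rfl trivial :
    stObj W Zo R t s hst j ⟶ W)

lemma spec_map_t {j j' : J₀} (g : j ⟶ j') :
    Spec.map (R.map g) ≫ stHom W R t j = stHom W R t j' := by
  unfold stHom
  rw [← Category.assoc, ← Spec.map_comp]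
  have h := t.naturality g
  simp only [Functor.const_obj_obj, Functor.const_obj_map, Category.id_comp] at h
  rw [← h]

/-- the transition maps -/
noncomputable def stMap {j j' : J₀} (g : j ⟶ j') :
    stOver W Zo R t s hst j' ⟶ stOver W Zo R t s hst j :=
  Over.homMk (MorphismProperty.Over.homMk (Spec.map (R.map g)) (by
    change Spec.map (R.map g) ≫ stHom W R t j ≫ W.hom = stHom W R t j' ≫ W.hom
    rw [← Category.assoc, spec_map_t]) trivial) (by
    apply MorphismProperty.Over.Hom.ext
    exact spec_map_t W R t g)

/-- the diagram of stages -/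
noncomputable def stD : J₀ᵒᵖ ⥤ Over W where
  obj j := stOver W Zo R t s hst j.unop
  map g := stMap W Zo R t s hst g.unop
  map_id j := by
    apply Over.OverMorphism.ext
    apply MorphismProperty.Over.Hom.ext
    change Spec.map (R.map (𝟙 j.unop)) = 𝟙 _
    rw [R.map_id, Spec.map_id]
  map_comp g g' := by
    apply Over.OverMorphism.ext
    apply MorphismProperty.Over.Hom.ext
    change Spec.map (R.map (g'.unop ≫ g.unop)) = Spec.map (R.map g.unop) ≫ Spec.map (R.map g'.unop)
    rw [R.map_comp, Spec.map_comp]

/-- the projection to a stage, on schemes -/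
noncomputable def stProj (j : J₀) : Zo.left.left ⟶ Spec (R.obj j) :=
  Zo.left.left.isoSpec.hom ≫ Spec.map (s.app j)

include hst in
lemma stProj_stHom (j : J₀) : stProj W Zo R s j ≫ stHom W R t j = Zo.hom.left := by
  unfold stProj stHom
  rw [Category.assoc, ← Category.assoc (Spec.map _), ← Spec.map_comp, (hst j).2,
    ← Category.assoc, Scheme.isoSpec_hom_naturality, Category.assoc, Iso.hom_inv_id,
    Category.comp_id]

lemma stProj_map {j j' : J₀} (g : j ⟶ j') :
    stProj W Zo R s j' ≫ Spec.map (R.map g) = stProj W Zo R s j := by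
  unfold stProj
  rw [Category.assoc, ← Spec.map_comp]
  have h := s.naturality g
  simp only [Functor.const_obj_obj, Functor.const_obj_map, Category.comp_id] at h
  rw [h]

/-- the cone of projections -/
noncomputable def stCone : Cone (stD W Zo R t s hst) where
  pt := Zo
  π :=
    { app := fun j => Over.homMk (MorphismProperty.Over.homMk (stProj W Zo R s j.unop) (by
        change stProj W Zo R s j.unop ≫ stHom W R t j.unop ≫ W.hom = Zo.left.hom
        rw [← Category.assoc, stProj_stHom W Zo R t s hst]
        exact MorphismProperty.Over.w Zo.hom) trivial) (by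
        apply MorphismProperty.Over.Hom.ext
        exact stProj_stHom W Zo R t s hst j.unop)
      naturality := fun j j' g => by
        apply Over.OverMorphism.ext
        apply MorphismProperty.Over.Hom.ext
        change 𝟙 _ ≫ stProj W Zo R s j'.unop = stProj W Zo R s j.unop ≫ Spec.map (R.map g.unop)
        rw [Category.id_comp, stProj_map] }

/-- the cone of spectra -/
noncomputable def specCone : Cone (R.op ⋙ Scheme.Spec) :=
  Scheme.Spec.mapCone (Cocone.op (Cocone.mk _ s))

/-- the cone of spectra is a limit cone -/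
noncomputable def isLimitSpecCone (hs : IsColimit (Cocone.mk _ s)) :
    IsLimit (specCone W Zo R s) :=
  isLimitOfPreserves Scheme.Spec hs.op

/-- the cone of projections is a limit cone of schemes -/
noncomputable def isLimitStCone (hs : IsColimit (Cocone.mk _ s)) :
    IsLimit ((toSch X).mapCone ((Over.forget W).mapCone (stCone W Zo R t s hst))) := by
  have h := isLimitSpecCone W Zo R s hs
  refine
    { lift := fun c => h.lift ⟨c.pt, ⟨fun j => c.π.app j, fun j j' g => c.π.naturality g⟩⟩ ≫
        Zo.left.left.isoSpec.inv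
      fac := fun c j => ?_
      uniq := fun c m hm => ?_ }
  · have h1 := h.fac ⟨c.pt, ⟨fun j => c.π.app j, fun j j' g => c.π.naturality g⟩⟩ j
    change (_ ≫ Zo.left.left.isoSpec.inv) ≫ (Zo.left.left.isoSpec.hom ≫ Spec.map (s.app j.unop)) = _
    rw [Category.assoc, Iso.inv_hom_id_assoc]
    exact h1
  · rw [Iso.eq_comp_inv]
    apply h.uniq ⟨c.pt, ⟨fun j => c.π.app j, fun j j' g => c.π.naturality g⟩⟩
    intro j
    have h2 := hm j
    rw [Category.assoc]
    exact h2

end Presentation

/-- an ind-étale affine object over an affine object `W` is a cofiltered limit of affine objects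
étale over `W` -/
theorem exists_presentation {X : Scheme.{u}} (W : X.ProEt) [IsAffine W.left] (Zo : Over W)
    [IsAffine Zo.left.left] (h : IE Zo.hom.left) :
    ∃ (J : Type u) (_ : SmallCategory J) (_ : IsCofiltered J) (Dg : J ⥤ Over W) (c : Cone Dg),
      c.pt = Zo ∧ (∀ j, IsAffine (Dg.obj j).left.left) ∧ (∀ j, Etale (Dg.obj j).hom.left) ∧
        Nonempty (IsLimit ((toSch X).mapCone ((Over.forget W).mapCone c))) := by
  obtain ⟨J₀, _, _, R, t, s, hs, hst⟩ := h
  refine ⟨J₀ᵒᵖ, inferInstance, inferInstance, stD W Zo R t s hst, stCone W Zo R t s hst, rfl,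
    fun j => ?_, fun j => ?_, ⟨isLimitStCone W Zo R t s hst hs⟩⟩
  · change IsAffine (Spec (R.obj j.unop))
    infer_instance
  · exact etale_stHom W Zo R t s hst j.unop


end H9FE.PC
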