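import Mathlib

/-! helper9: limits commute with products, in the form: given diagrams `E k : Λ ⥤ 𝒟` with limit
cones `e k`, a diagram `PE` which is objectwise a product of the `E k`, and a cone over `PE` whose
vertex is a product of the vertices of the `e k` (compatibly), this cone is a limit cone.  Also:
the same for diagrams in an over category, where "limit" is tested after forgetting to the
underlying category (for connected index categories). -/

set_option autoImplicit false
set_option linter.unusedSectionVars false
set_option linter.style.haveILetI false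
set_option backward.isDefEq.respectTransparency false
universe v v₁ v' u u₁ u' w
open CategoryTheory Limits

namespace H9FE.FanLim

section General

variable {𝒟 : Type u} [Category.{v} 𝒟] {Λ : Type u₁} [Category.{v₁} Λ] {κ : Type w}
  (E : κ → (Λ ⥤ 𝒟)) (e : ∀ k, Cone (E k)) (he : ∀ k, IsLimit (e k))
  (PE : Λ ⥤ 𝒟) (p : ∀ k, PE ⟶ E k)
  (hp : ∀ l, IsLimit (Fan.mk (PE.obj l) (fun k => (p k).app l)))
  (pc : Cone PE) (q : ∀ k, pc.pt ⟶ (e k).pt) (hq : IsLimit (Fan.mk pc.pt q))
  (hcompat : ∀ k l, pc.π.app l ≫ (p k).app l = q k ≫ (e k).π.app l)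

/-- the cone over `E k` induced by a cone over `PE` -/
def coneK (s : Cone PE) (k : κ) : Cone (E k) where
  pt := s.pt
  π :=
    { app := fun l => s.π.app l ≫ (p k).app l
      naturality := fun l l' f => by
        simp only [Functor.const_obj_obj, Functor.const_obj_map, Category.id_comp, Category.assoc]
        rw [← (p k).naturality f, ← Category.assoc, s.w f] }

include hcompat in
/-- the product of limit cones is a limit cone -/
noncomputable def isLimit : IsLimit pc where
  lift s := Fan.IsLimit.lift hq (fun k => (he k).lift (coneK E PE p s k))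
  fac s l := by
    apply Fan.IsLimit.hom_ext (hp l)
    intro k
    change (_ ≫ pc.π.app l) ≫ (p k).app l = s.π.app l ≫ (p k).app l
    rw [Category.assoc, hcompat k l, ← Category.assoc]
    have h1 : Fan.IsLimit.lift hq (fun k => (he k).lift (coneK E PE p s k)) ≫ q k =
        (he k).lift (coneK E PE p s k) := Fan.IsLimit.fac hq _ k
    rw [h1]
    exact (he k).fac (coneK E PE p s k) l
  uniq s m hm := by
    apply Fan.IsLimit.hom_ext hq
    intro k
    change m ≫ q k = Fan.IsLimit.lift hq (fun k => (he k).lift (coneK E PE p s k)) ≫ q k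
    have h1 : Fan.IsLimit.lift hq (fun k => (he k).lift (coneK E PE p s k)) ≫ q k =
        (he k).lift (coneK E PE p s k) := Fan.IsLimit.fac hq _ k
    rw [h1]
    apply (he k).uniq (coneK E PE p s k)
    intro l
    change (m ≫ q k) ≫ (e k).π.app l = s.π.app l ≫ (p k).app l
    rw [Category.assoc, ← hcompat k l, ← Category.assoc, hm l]

end General

section Prod

variable {𝒪 : Type u} [Category.{v} 𝒪] {Λ : Type u₁} [Category.{v₁} Λ]
  {κ : Type w} [HasProductsOfShape κ 𝒪]
  (D : κ → (Λ ⥤ 𝒪)) (c : ∀ k, Cone (D k))

/-- the diagram of products -/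
noncomputable def PD : Λ ⥤ 𝒪 where
  obj l := ∏ᶜ fun k => (D k).obj l
  map f := Limits.Pi.map (fun k => (D k).map f)
  map_id l := by
    apply Limits.Pi.hom_ext
    intro k
    simp
  map_comp f g := by
    apply Limits.Pi.hom_ext
    intro k
    simp

/-- the product of the cones -/
noncomputable def Pc : Cone (PD D) where
  pt := ∏ᶜ fun k => (c k).pt
  π :=
    { app := fun l => Limits.Pi.map (fun k => (c k).π.app l)
      naturality := fun l l' f => by
        apply Limits.Pi.hom_ext
        intro k
        simp [PD] }

/-- the projections of the diagram of products -/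
noncomputable def πD (k : κ) : PD D ⟶ D k where
  app l := Pi.π (fun k => (D k).obj l) k
  naturality l l' f := by simp [PD]

/-- the product of limit cones is a limit cone -/
noncomputable def isLimitPc (he : ∀ k, IsLimit (c k)) : IsLimit (Pc D c) :=
  isLimit D c he (PD D) (πD D) (fun l => productIsProduct _) (Pc D c)
    (fun k => Pi.π (fun k => (c k).pt) k) (productIsProduct _)
    (fun k l => by simp [Pc, πD])

variable {𝒮 : Type u'} [Category.{v'} 𝒮] {S : 𝒮} [IsConnected Λ]
  (Ψ : 𝒪 ⥤ Over S) [PreservesLimitsOfShape (Discrete κ) Ψ]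

/-- if the cones `c k` become limit cones after applying a product-preserving functor to an over
category and forgetting the base, so does their product -/
noncomputable def isLimitForgetPc
    (hc : ∀ k, IsLimit ((Over.forget S).mapCone (Ψ.mapCone (c k)))) :
    IsLimit ((Over.forget S).mapCone (Ψ.mapCone (Pc D c))) := by
  have he : ∀ k, IsLimit (Ψ.mapCone (c k)) := fun k => isLimitOfReflects (Over.forget S) (hc k)
  have h : IsLimit (Ψ.mapCone (Pc D c)) :=
    isLimit (fun k => D k ⋙ Ψ) (fun k => Ψ.mapCone (c k)) he (PD D ⋙ Ψ)
      (fun k => Functor.whiskerRight (πD D k) Ψ)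
      (fun l => isLimitFanMkObjOfIsLimit Ψ _ _ (productIsProduct fun k => (D k).obj l))
      (Ψ.mapCone (Pc D c))
      (fun k => Ψ.map (Pi.π (fun k => (c k).pt) k))
      (isLimitFanMkObjOfIsLimit Ψ _ _ (productIsProduct fun k => (c k).pt))
      (fun k l => by
        change Ψ.map _ ≫ Ψ.map _ = Ψ.map _ ≫ Ψ.map _
        rw [← Ψ.map_comp, ← Ψ.map_comp]
        congr 1
        simp [Pc, πD])
  exact isLimitOfPreserves (Over.forget S) h

end Prod

end H9FE.FanLim
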