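import Mathlib
import Groth.Prelude.Def_ProEtS
import Groth.Agent.Lib.Helper9.FE.ProEtL1
import Groth.Agent.Lib.Helper9.FE.FanLim
import Groth.Agent.Lib.Helper3.OverPostProdG

/-! helper9: finite products, in the over category of an affine object of the small pro-étale
site, of cofiltered systems of affine objects with limit cones: the system of products with the
product cone is again a good system (`good_prod`).  Also a general induction principle for
properties of objects of an over category stable under finite products (`pi_mem`). -/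

set_option autoImplicit false
set_option linter.unusedSectionVars false
set_option linter.style.haveILetI false
set_option backward.isDefEq.respectTransparency false
universe v u' u
open CategoryTheory Limits Opposite AlgebraicGeometry

namespace H9FE.ProEtPL

open H9FE.ProEtQc H9FE.ProEtL H9FE.FanLim Groth.Agent.Helper3

section General

variable {C : Type u'} [Category.{v} C] [HasPullbacks C] {V : C} [HasFiniteProducts (Over V)]

/-- a property of objects over `V` which holds for `V`, is invariant under isomorphisms and stable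
under binary products holds for all finite products -/
lemma pi_mem (𝓔 : Over V → Prop) (hiso : ∀ {Z Z' : Over V}, (Z ≅ Z') → 𝓔 Z → 𝓔 Z')
    (hT : 𝓔 (Over.mk (𝟙 V))) (hpb : ∀ Z₁ Z₂ : Over V, 𝓔 Z₁ → 𝓔 Z₂ → 𝓔 (Z₁ ⨯ Z₂)) :
    ∀ (n : ℕ) (Y : Fin n → Over V), (∀ k, 𝓔 (Y k)) → 𝓔 (∏ᶜ Y) := by
  intro n
  induction n with
  | zero =>
    intro Y _
    let t : Over.mk (𝟙 V) ⟶ ∏ᶜ Y := Pi.lift (fun k => k.elim0)
    have h1 : t ≫ (Over.mkIdTerminal.from (∏ᶜ Y)) = 𝟙 _ := Over.mkIdTerminal.hom_ext _ _
    have h2 : (Over.mkIdTerminal.from (∏ᶜ Y)) ≫ t = 𝟙 _ := by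
      apply Limits.Pi.hom_ext
      intro k
      exact k.elim0
    let e : ∏ᶜ Y ≅ Over.mk (𝟙 V) := ⟨Over.mkIdTerminal.from _, t, h2, h1⟩
    exact hiso e.symm hT
  | succ n ih =>
    intro Y hY
    let P₁ : Over V := ∏ᶜ fun i : Fin n => Y i.succ
    have hP₁ : 𝓔 P₁ := ih _ (fun k => hY k.succ)
    let c₁ : Fan fun i : Fin n => Y i.succ := Fan.mk P₁ (Pi.π _)
    have hc₁ : IsLimit c₁ := productIsProduct _
    let c₂ : BinaryFan (Y 0) c₁.pt := BinaryFan.mk (prod.fst : Y 0 ⨯ P₁ ⟶ Y 0) prod.snd
    have hc₂ : IsLimit c₂ := prodIsProd _ _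
    let e : ∏ᶜ Y ≅ Y 0 ⨯ P₁ :=
      (productIsProduct Y).conePointUniqueUpToIso (extendFanIsLimit Y hc₁ hc₂)
    exact hiso e.symm (hpb _ _ (hY 0) hP₁)

end General

variable {X : Scheme.{u}}

/-- the underlying scheme of a binary product over `V` -/
noncomputable def prodLeftIso {V : X.ProEt} (Z₁ Z₂ : Over V) :
    (Z₁ ⨯ Z₂).left.left ≅ pullback Z₁.hom.left Z₂.hom.left :=
  (toSch X).mapIso (Over.prodLeftIsoPullback Z₁ Z₂) ≪≫ pullbackLeftIso Z₁.hom Z₂.hom

/-- finite products of affine objects over an affine object are affine -/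
lemma isAffine_pi {V : X.ProEt} [IsAffine V.left] (n : ℕ) (Y : Fin n → Over V)
    (hY : ∀ k, IsAffine (Y k).left.left) : IsAffine (∏ᶜ Y).left.left := by
  refine pi_mem (fun Z : Over V => IsAffine Z.left.left) ?_ ?_ ?_ n Y hY
  · intro Z Z' e h
    haveI : IsAffine ((toSch X).obj ((Over.forget V).obj Z)) := h
    exact IsAffine.of_isIso ((toSch X).mapIso ((Over.forget V).mapIso e)).inv
  · exact (inferInstance : IsAffine V.left)
  · intro Z₁ Z₂ h₁ h₂
    haveI : IsAffine Z₁.left.left := h₁
    haveI : IsAffine Z₂.left.left := h₂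
    exact IsAffine.of_isIso (prodLeftIso Z₁ Z₂).hom

section Sys

variable {V : X.ProEt} {Λ : Type u} [SmallCategory Λ] [IsCofiltered Λ] {n : ℕ}
  (D : Fin n → (Λ ⥤ Over V)) (c : ∀ k, Cone (D k))

instance : PreservesLimitsOfShape (Discrete (Fin n)) (Over.post (X := V) (toSch X)) := by
  haveI : PreservesFiniteProducts (Over.post (X := V) (toSch X)) :=
    OverPostProdG.preservesFiniteProducts_overPost (toSch X) V
  infer_instance

/-- the system of products of good systems of affine objects over an affine object is good -/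
theorem good_prod [IsAffine V.left]
    (hlim : ∀ k, Nonempty (IsLimit ((toSch X).mapCone ((Over.forget V).mapCone (c k)))))
    (haff : ∀ k l, IsAffine ((D k).obj l).left.left) :
    Good (PD D ⋙ Over.forget V) ((Over.forget V).mapCone (Pc D c)) where
  lim := by
    haveI : IsConnected Λ := IsCofiltered.isConnected Λ
    have h := isLimitForgetPc D c (Over.post (X := V) (toSch X)) (fun k => (hlim k).some)
    exact ⟨h⟩
  aff := fun {l l'} f => by
    haveI : IsAffine ((PD D ⋙ Over.forget V).obj l).left :=
      isAffine_pi n (fun k => (D k).obj l) (fun k => haff k l)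
    haveI : IsAffine ((PD D ⋙ Over.forget V).obj l').left :=
      isAffine_pi n (fun k => (D k).obj l') (fun k => haff k l')
    infer_instance
  qc := fun l => by
    haveI : IsAffine ((PD D ⋙ Over.forget V).obj l).left :=
      isAffine_pi n (fun k => (D k).obj l) (fun k => haff k l)
    infer_instance
  qs := fun l => by
    haveI : IsAffine ((PD D ⋙ Over.forget V).obj l).left :=
      isAffine_pi n (fun k => (D k).obj l) (fun k => haff k l)
    infer_instance

end Sys

end H9FE.ProEtPL
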