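import Mathlib
import Groth.Prelude.Def_ProEtS
import Groth.Agent.Lib.Helper9.FE.IndEtGeom
import Groth.Agent.Lib.Helper9.FE.ProEtPL

/-! helper9: the class `Bp X` of affine objects of the small pro-étale site which are ind-étale
over an affine étale `X`-scheme, and the class `Covp` of finite coverings of its members by
ind-étale affine objects; iterated fibre products of members of such a covering stay in `Bp X`. -/

set_option autoImplicit false
set_option linter.unusedSectionVars false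
set_option linter.style.haveILetI false
set_option backward.isDefEq.respectTransparency false
universe u
open CategoryTheory Limits Opposite AlgebraicGeometry

namespace H9FE.PC

open H9FE.ProEtQc H9FE.ProEtL H9FE.ProEtPL

variable {X : Scheme.{u}}

/-- affine objects ind-étale over an affine étale `X`-scheme -/
def Bp (X : Scheme.{u}) : Set X.ProEt :=
  {V | IsAffine V.left ∧ ∃ U₀ : X.Etale, IsAffine U₀.left ∧
    ∃ g : V ⟶ (ProEtS.eps X).obj U₀, IE g.left}

/-- finite coverings of members of `Bp X` by ind-étale affine objects -/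
def Covp (X : Scheme.{u}) (V : X.ProEt) (ι : Type (u + 1)) (Y : ι → Over V) : Prop :=
  V ∈ Bp X ∧ Finite ι ∧ (∀ i, IsAffine (Y i).left.left ∧ IE (Y i).hom.left) ∧
    Sieve.ofArrows (fun i => (Y i).left) (fun i => (Y i).hom) ∈ Scheme.ProEt.topology X V

/-- the property of objects over `V`: affine and ind-étale over `V` -/
def EV (V : X.ProEt) (Z : Over V) : Prop := IsAffine Z.left.left ∧ IE Z.hom.left

lemma EV_iso {V : X.ProEt} {Z Z' : Over V} (e : Z ≅ Z') (h : EV V Z) : EV V Z' := by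
  obtain ⟨h1, h2⟩ := h
  haveI : IsAffine ((toSch X).obj ((Over.forget V).obj Z)) := h1
  let e' : (toSch X).obj ((Over.forget V).obj Z) ≅ (toSch X).obj ((Over.forget V).obj Z') :=
    (toSch X).mapIso ((Over.forget V).mapIso e)
  refine ⟨IsAffine.of_isIso e'.inv, ?_⟩
  have hw : Z'.hom.left = e'.inv ≫ Z.hom.left := by
    have h3 : e.inv.left ≫ Z.hom = Z'.hom := Over.w e.inv
    exact (congrArg (fun t => t.left) h3).symm
  rw [hw]
  exact IE_comp _ _ (IE_of_isIso e'.inv) h2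

lemma EV_top (V : X.ProEt) [IsAffine V.left] : EV V (Over.mk (𝟙 V)) :=
  ⟨(inferInstance : IsAffine V.left), IE_id V.left⟩

lemma EV_prod {V : X.ProEt} [IsAffine V.left] (Z₁ Z₂ : Over V) (h₁ : EV V Z₁) (h₂ : EV V Z₂) :
    EV V (Z₁ ⨯ Z₂) := by
  haveI : IsAffine Z₁.left.left := h₁.1
  haveI : IsAffine Z₂.left.left := h₂.1
  refine ⟨IsAffine.of_isIso (prodLeftIso Z₁ Z₂).hom, ?_⟩
  have hpb0 : IsPullback (prod.fst (X := Z₁) (Y := Z₂)).left (prod.snd (X := Z₁) (Y := Z₂)).left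
      Z₁.hom Z₂.hom :=
    IsPullback.of_iso_pullback ⟨by rw [Over.w, Over.w]⟩ (Over.prodLeftIsoPullback Z₁ Z₂)
      (Over.prodLeftIsoPullback_hom_fst Z₁ Z₂) (Over.prodLeftIsoPullback_hom_snd Z₁ Z₂)
  have hpb : IsPullback (prod.fst (X := Z₁) (Y := Z₂)).left.left
      (prod.snd (X := Z₁) (Y := Z₂)).left.left Z₁.hom.left Z₂.hom.left := hpb0.map (toSch X)
  have h3 : IE (prod.fst (X := Z₁) (Y := Z₂)).left.left := IE_fst_of_isPullback hpb h₂.2
  have hw : (Z₁ ⨯ Z₂).hom.left = (prod.fst (X := Z₁) (Y := Z₂)).left.left ≫ Z₁.hom.left := by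
    have h4 : (prod.fst (X := Z₁) (Y := Z₂)).left ≫ Z₁.hom = (Z₁ ⨯ Z₂).hom := Over.w prod.fst
    exact (congrArg (fun t => t.left) h4).symm
  rw [hw]
  exact IE_comp _ _ h3 h₁.2

lemma EV_pi {V : X.ProEt} [IsAffine V.left] (n : ℕ) (Y : Fin n → Over V) (hY : ∀ k, EV V (Y k)) :
    EV V (∏ᶜ Y) :=
  pi_mem (EV V) (fun e h => EV_iso e h) (EV_top V) (fun Z₁ Z₂ h₁ h₂ => EV_prod Z₁ Z₂ h₁ h₂) n Y hY

lemma mem_Bp_of_EV {V : X.ProEt} (hV : V ∈ Bp X) (Z : Over V) (hZ : EV V Z) : Z.left ∈ Bp X := by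
  obtain ⟨_, U₀, hU₀, g, hg⟩ := hV
  refine ⟨hZ.1, U₀, hU₀, Z.hom ≫ g, ?_⟩
  exact IE_comp _ _ hZ.2 hg

/-- the first hypothesis of Cartan's criterion -/
lemma covp_h1 (V : X.ProEt) (ι : Type (u + 1)) (Y : ι → Over V) (h : Covp X V ι Y) :
    V ∈ Bp X ∧ Sieve.ofArrows (fun i => (Y i).left) (fun i => (Y i).hom) ∈
        Scheme.ProEt.topology X V ∧
      ∀ (p : ℕ) (a : Fin (p + 1) → ι), (∏ᶜ fun k => Y (a k)).left ∈ Bp X := by
  refine ⟨h.1, h.2.2.2, fun p a => ?_⟩
  haveI : IsAffine V.left := h.1.1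
  exact mem_Bp_of_EV h.1 _ (EV_pi (p + 1) (fun k => Y (a k)) (fun k => h.2.2.1 (a k)))

lemma eps_mem_Bp (U : X.Etale) [IsAffine U.left] : (ProEtS.eps X).obj U ∈ Bp X :=
  ⟨(inferInstance : IsAffine U.left), U, inferInstance, 𝟙 _, IE_id _⟩

end H9FE.PC
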