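import Mathlib
import Groth.Prelude.Def_ProEtS
import Groth.Agent.Lib.Helper9.FE.PCCov
import Groth.Agent.Lib.Helper9.FE.ProEtW3
import Groth.Agent.Lib.Helper9.FE.WStr5
import Groth.Agent.Lib.Helper6.IndEtWeakly

/-! helper9: every covering sieve of a member of `Bp X` contains a covering family in `Covp`
(finite affine refinement, then a faithfully flat ind-étale cover of each member which is ind-étale
over the base, `H9FE.WStr.main176`). -/

set_option autoImplicit false
set_option linter.unusedSectionVars false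
set_option linter.style.haveILetI false
set_option backward.isDefEq.respectTransparency false
universe u
open CategoryTheory Limits Opposite AlgebraicGeometry

namespace H9FE.PC

open H9FE.ProEtQc H9FE.ProEtL H9FE.ProEtPL H9FE.ProEtW

variable {X : Scheme.{u}}

lemma IE_Spec_map {R S : CommRingCat.{u}} (f : R ⟶ S) (h : MorphismProperty.ind.{u} rEt.{u} f) :
    IE (Spec.map f) := by
  unfold IE
  have e : Arrow.mk (Spec.map f).appTop ≅ Arrow.mk f :=
    Arrow.isoMk (Scheme.ΓSpecIso R) (Scheme.ΓSpecIso S) (Scheme.ΓSpecIso_naturality f).symm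
  exact (MorphismProperty.arrow_mk_iso_iff _ e).mpr h

/-- the refinement of a weakly étale affine object over an affine object by an ind-étale one -/
lemma exists_indEtale_refinement (V W : X.ProEt) [IsAffine V.left] [IsAffine W.left] (g : W ⟶ V) :
    ∃ (Y : X.ProEt) (y : Y ⟶ W), IsAffine Y.left ∧ Function.Surjective y.left ∧
      IE (y ≫ g).left := by
  letI algAB : Algebra Γ(V.left, ⊤) Γ(W.left, ⊤) := g.left.appTop.hom.toAlgebra
  haveI hWE : Algebra.WeaklyEtale Γ(V.left, ⊤) Γ(W.left, ⊤) := by
    have h2 : WeaklyEtale (Spec.map g.left.appTop) :=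
      (MorphismProperty.arrow_mk_iso_iff @WeaklyEtale (arrowIsoSpecΓOfIsAffine g.left)).mp
        inferInstance
    exact (Helper5.WEt.weaklyEtale_Spec_iff' g.left.appTop).mp h2
  obtain ⟨B', _, algBB', algAB', tower, hff, hIE, hIE'⟩ :=
    H9FE.WStr.main176 Γ(V.left, ⊤) Γ(W.left, ⊤)
  haveI := hff
  haveI : Algebra.WeaklyEtale Γ(W.left, ⊤) B' :=
    Groth.Agent.Lib.Helper6.IndEt.weaklyEtale_of_isIndEtale _ _ hIE
  refine ⟨specObj W (isAffineOpen_top W.left) B', specHom W (isAffineOpen_top W.left) B', ?_, ?_,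
    ?_⟩
  · change IsAffine (Spec (CommRingCat.of B'))
    infer_instance
  · intro w
    have h := range_specHom W (isAffineOpen_top W.left) B'
    have hw : w ∈ Set.range (specHom W (isAffineOpen_top W.left) B').left := by
      rw [h]
      trivial
    exact hw
  · have h1 : (specHom W (isAffineOpen_top W.left) B' ≫ g).left =
        Spec.map (CommRingCat.ofHom (algebraMap Γ(V.left, ⊤) B')) ≫ V.left.isoSpec.inv := by
      change specMor W (isAffineOpen_top W.left) B' ≫ g.left = _
      unfold specMor
      rw [IsAffineOpen.fromSpec_top, Category.assoc, ← Scheme.isoSpec_inv_naturality g.left,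
        ← Category.assoc, ← Spec.map_comp]
      congr 2
      ext a
      exact (IsScalarTower.algebraMap_apply Γ(V.left, ⊤) Γ(W.left, ⊤) B' a).symm
    rw [h1]
    refine IE_comp _ _ (IE_Spec_map _ ?_) (IE_of_isIso _)
    exact (Groth.Agent.Lib.Helper6.IndEtComp.isIndEtale_iff_indMP _ _).mp hIE'

/-- the second hypothesis of Cartan's criterion -/
lemma covp_h2 (V : X.ProEt) (hV : V ∈ Bp X) (T : Sieve V) (hT : T ∈ Scheme.ProEt.topology X V) :
    ∃ (ι : Type (u + 1)) (Y : ι → Over V), Covp X V ι Y ∧ ∀ i, T.arrows (Y i).hom := by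
  haveI : IsAffine V.left := hV.1
  obtain ⟨n, W, g, haff, hTg, hcov⟩ := exists_finite_affine_refinement V T hT
  have href : ∀ i : Fin n, ∃ (Y : X.ProEt) (y : Y ⟶ W i), IsAffine Y.left ∧
      Function.Surjective y.left ∧ IE (y ≫ g i).left := fun i => by
    haveI := haff i
    exact exists_indEtale_refinement V (W i) (g i)
  choose Y y hYaff hsurj hIE using href
  refine ⟨ULift.{u + 1} (Fin n), fun i => Over.mk (y i.down ≫ g i.down),
    ⟨hV, inferInstance, fun i => ⟨hYaff i.down, hIE i.down⟩, ?_⟩,
    fun i => T.downward_closed (hTg i.down) (y i.down)⟩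
  have h1 : Sieve.ofArrows Y (fun i => y i ≫ g i) ∈ Scheme.ProEt.topology X V := by
    refine ofArrows_mem Y (fun i => y i ≫ g i) (fun i => ?_) (fun v => ?_)
    · haveI := hYaff i
      infer_instance
    · obtain ⟨i, w, hw⟩ := hcov v
      obtain ⟨t, ht⟩ := hsurj i w
      refine ⟨i, t, ?_⟩
      change (y i ≫ g i).left t = v
      rw [← hw, ← ht]
      rfl
  refine (Scheme.ProEt.topology X).superset_covering ?_ h1
  rintro Z f ⟨Y', k, l, hl, rfl⟩
  obtain ⟨i⟩ := hl
  exact ⟨_, k, _, Presieve.ofArrows.mk (ULift.up i), rfl⟩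

end H9FE.PC
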