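import Mathlib
import Groth.Prelude.Def_ProEtS
import Groth.Prelude.Def_PBC
import Groth.Agent.Lib.Helper9.FE.ProEtW6

/-! helper9: finite decompositions into disjoint open pieces are coproducts in the small
pro-étale site; a presheaf of sets turning finite coproducts into products has the same sections
as its sheafification on affine weakly contractible objects (S0725). -/

set_option autoImplicit false
set_option linter.unusedSectionVars false
set_option linter.style.haveILetI false
set_option backward.isDefEq.respectTransparency false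
universe w v u
open CategoryTheory Limits Opposite AlgebraicGeometry

namespace H9FE.ProEtW

open H9FE.ProEtQc

/-- a presheaf of sets which turns finite coproducts into products: unique gluing along a finite
coproduct cocone -/
lemma existsUnique_of_preservesFiniteProducts {C : Type u} [Category.{v} C] {n : ℕ}
    {Z : Fin n → C} (c : Cofan Z) (hc : IsColimit c) (F : Cᵒᵖ ⥤ Type w)
    [PreservesFiniteProducts F] (x : ∀ k, F.obj (op (Z k))) :
    ∃! t : F.obj (op c.pt), ∀ k, F.map (c.inj k).op t = x k := by
  have hl : IsLimit (F.mapCone c.op) := isLimitOfPreserves F (Cofan.IsColimit.op hc)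
  have h1 := (Types.isLimit_iff (F.mapCone c.op)).mp ⟨hl⟩ (fun j => x j.as) (by
    rintro ⟨j⟩ ⟨j'⟩ f
    have hjj : j = j' := Discrete.eq_of_hom f
    subst hjj
    have hf : f = 𝟙 _ := Subsingleton.elim _ _
    subst hf
    simp)
  obtain ⟨t, ht, hu⟩ := h1
  exact ⟨t, fun k => ht ⟨k⟩, fun t' ht' => hu t' (fun ⟨k⟩ => ht' k)⟩

variable {X : Scheme.{u}}

section OpenCofan

/-- morphisms out of pairwise disjoint opens are compatible on overlaps -/
lemma glue_compat (U : Scheme.{u}) {ι : Type*} (W : ι → U.Opens)
    (hdisj : Pairwise (fun k l => Disjoint (W k : Set ↥U) (W l))) {Y : Scheme.{u}}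
    (f : ∀ k, (W k).toScheme ⟶ Y) (k l : ι) :
    pullback.fst (W k).ι (W l).ι ≫ f k = pullback.snd (W k).ι (W l).ι ≫ f l := by
  by_cases hkl : k = l
  · subst hkl
    have h1 : pullback.fst (W k).ι (W k).ι = pullback.snd _ _ :=
      (cancel_mono (W k).ι).mp pullback.condition
    rw [h1]
  · haveI : IsEmpty ↥(pullback (W k).ι (W l).ι) := ⟨fun z => by
      have h1 : (pullback.fst (W k).ι (W l).ι ≫ (W k).ι) z ∈ Set.range (W k).ι :=
        ⟨(pullback.fst (W k).ι (W l).ι) z, (Scheme.Hom.comp_apply _ _ _).symm⟩
      have h2 : (pullback.fst (W k).ι (W l).ι ≫ (W k).ι) z ∈ Set.range (W l).ι := by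
        have hc : pullback.fst (W k).ι (W l).ι ≫ (W k).ι = pullback.snd _ _ ≫ (W l).ι :=
          pullback.condition
        rw [hc]
        exact ⟨(pullback.snd (W k).ι (W l).ι) z, (Scheme.Hom.comp_apply _ _ _).symm⟩
      rw [Scheme.Opens.range_ι] at h1 h2
      exact Set.disjoint_left.mp (hdisj hkl) h1 h2⟩
    exact isInitialOfIsEmpty.hom_ext _ _

lemma isOpenCover_of_iUnion (U : Scheme.{u}) {ι : Type*} (W : ι → U.Opens)
    (hcover : (⋃ k, (W k : Set ↥U)) = Set.univ) : TopologicalSpace.IsOpenCover W := by
  apply TopologicalSpace.Opens.ext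
  rw [TopologicalSpace.Opens.coe_iSup, hcover, TopologicalSpace.Opens.coe_top]

variable (U : X.ProEt) {n : ℕ} (W : Fin n → U.left.Opens)

/-- the cocone of a family of open pieces -/
noncomputable def openCofan : Cofan (fun k => openSub U (W k)) :=
  Cofan.mk U (fun k => openSubι U (W k))

variable (hdisj : Pairwise (fun k l => Disjoint (W k : Set ↥U.left) (W l)))
  (hcover : (⋃ k, (W k : Set ↥U.left)) = Set.univ)

/-- gluing morphisms out of the pieces of a disjoint open decomposition -/
noncomputable def openCofanDesc (hdisj : Pairwise (fun k l => Disjoint (W k : Set ↥U.left) (W l)))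
    (hcover : (⋃ k, (W k : Set ↥U.left)) = Set.univ)
    (t : Cofan (fun k => openSub U (W k))) : U ⟶ t.pt :=
  MorphismProperty.Over.homMk
    ((U.left.openCoverOfIsOpenCover W (isOpenCover_of_iUnion U.left W hcover)).glueMorphisms
      (fun k => (t.inj k).left)
      (fun k l => glue_compat U.left W hdisj (fun k => (t.inj k).left) k l))
    ((U.left.openCoverOfIsOpenCover W (isOpenCover_of_iUnion U.left W hcover)).hom_ext _ _
      (fun k => by
        rw [← Category.assoc, Scheme.Cover.ι_glueMorphisms]
        exact MorphismProperty.Over.w (t.inj k))) trivial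

lemma ι_openCofanDesc_left (t : Cofan (fun k => openSub U (W k))) (k : Fin n) :
    (W k).ι ≫ (openCofanDesc U W hdisj hcover t).left = (t.inj k).left :=
  (U.left.openCoverOfIsOpenCover W (isOpenCover_of_iUnion U.left W hcover)).ι_glueMorphisms
    (fun k => (t.inj k).left)
    (fun k l => glue_compat U.left W hdisj (fun k => (t.inj k).left) k l) k

lemma openCofan_inj_left (k : Fin n) : ((openCofan U W).inj k).left = (W k).ι := rfl

lemma openCofan_fac (t : Cofan (fun k => openSub U (W k))) (k : Fin n) :
    (openCofan U W).inj k ≫ openCofanDesc U W hdisj hcover t = t.inj k := by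
  apply MorphismProperty.Over.Hom.ext
  rw [MorphismProperty.Comma.comp_left, openCofan_inj_left]
  exact ι_openCofanDesc_left U W hdisj hcover t k

lemma openCofan_uniq (t : Cofan (fun k => openSub U (W k))) (m : (openCofan U W).pt ⟶ t.pt)
    (hm : ∀ k, (openCofan U W).inj k ≫ m = t.inj k) :
    m = openCofanDesc U W hdisj hcover t := by
  apply MorphismProperty.Over.Hom.ext
  refine (U.left.openCoverOfIsOpenCover W
    (isOpenCover_of_iUnion U.left W hcover)).hom_ext _ _ (fun k => ?_)
  have h1 : (W k).ι ≫ m.left = (t.inj k).left := congrArg (fun f => f.left) (hm k)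
  exact h1.trans (ι_openCofanDesc_left U W hdisj hcover t k).symm

/-- a finite decomposition into pairwise disjoint opens is a coproduct -/
noncomputable def openCofan_isColimit : IsColimit (openCofan U W) :=
  Cofan.IsColimit.mk _ (fun t => openCofanDesc U W hdisj hcover t)
    (fun t k => openCofan_fac U W hdisj hcover t k)
    (fun t m hm => openCofan_uniq U W hdisj hcover t m hm)

end OpenCofan

/-- the statement of S0725 -/
theorem main725 (F : X.ProEtᵒᵖ ⥤ Type (u + 1)) [PreservesFiniteProducts F] (W : X.ProEt)
    [IsAffine W.left] (hW : ProEtS.IsWC W) :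
    Function.Bijective ((toSheafify (Scheme.ProEt.topology X) F).app (op W)) := by
  have hring := wContractible_of_isWC W hW
  have hsh : Presieve.IsSheaf (Scheme.ProEt.topology X) (sheafify (Scheme.ProEt.topology X) F) :=
    (isSheaf_iff_isSheaf_of_type _ _).mp
      ((presheafToSheaf (Scheme.ProEt.topology X) (Type (u + 1))).obj F).property
  constructor
  · intro t t' htt'
    have hR : Presheaf.equalizerSieve (F := F) (X := op W) t t' ∈ Scheme.ProEt.topology X W :=
      Presheaf.equalizerSieve_mem (Scheme.ProEt.topology X)
        (toSheafify (Scheme.ProEt.topology X) F) (X := op W) t t' htt'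
    obtain ⟨n, Ws, hclopen, hdisj, hcover, hRW⟩ := exists_clopen_decomposition W hring _ hR
    obtain ⟨t0, -, hu⟩ := existsUnique_of_preservesFiniteProducts (openCofan W Ws)
      (openCofan_isColimit W Ws hdisj hcover) F (fun k => F.map (openSubι W (Ws k)).op t)
    exact (hu t (fun k => rfl)).trans (hu t' (fun k => (hRW k).symm)).symm
  · intro s
    have hR : Presheaf.imageSieve (toSheafify (Scheme.ProEt.topology X) F) s ∈
        Scheme.ProEt.topology X W :=
      Presheaf.imageSieve_mem (Scheme.ProEt.topology X)
        (toSheafify (Scheme.ProEt.topology X) F) (U := op W) s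
    obtain ⟨n, Ws, hclopen, hdisj, hcover, hRW⟩ := exists_clopen_decomposition W hring _ hR
    choose tk htk using hRW
    obtain ⟨t, ht, -⟩ := existsUnique_of_preservesFiniteProducts (openCofan W Ws)
      (openCofan_isColimit W Ws hdisj hcover) F tk
    refine ⟨t, ?_⟩
    obtain ⟨S, -, hS⟩ := existsUnique_glue (isDisjointCover_of_clopen W Ws hclopen hdisj hcover)
      hsh (fun k => (sheafify (Scheme.ProEt.topology X) F).map (openSubι W (Ws k)).op s)
    have h1 : (toSheafify (Scheme.ProEt.topology X) F).app (op W) t = S := hS _ (fun k => by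
      have hn := NatTrans.naturality_apply (toSheafify (Scheme.ProEt.topology X) F)
        (openSubι W (Ws k)).op t
      exact hn.symm.trans ((congrArg _ (ht k)).trans (htk k)))
    have h2 : s = S := hS _ (fun k => rfl)
    rw [h1, h2]

end H9FE.ProEtW
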