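import Mathlib
import Groth.Prelude.Def_ProEtS
import Groth.Prelude.Def_PBC
import Groth.Agent.Lib.Helper9.FE.ProEtW7

/-! helper9: the small pro-étale site has enough points (S7284): the points are the germs of
morphisms at a point of an affine object with w-contractible ring of functions, along the
open and closed neighbourhoods of the point. -/

set_option autoImplicit false
set_option linter.unusedSectionVars false
set_option linter.style.haveILetI false
set_option backward.isDefEq.respectTransparency false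
universe u
open CategoryTheory Limits Opposite AlgebraicGeometry

namespace H9FE.ProEtW

open H9FE.ProEtQc

variable {X : Scheme.{u}}

/-! ### restriction morphisms between open pieces -/

section Res

variable (W : X.ProEt)

/-- the inclusion of a smaller open piece into a larger one -/
noncomputable def resHom {U U' : W.left.Opens} (h : U ≤ U') : openSub W U ⟶ openSub W U' :=
  MorphismProperty.Over.homMk (W.left.homOfLE h) (by
    show W.left.homOfLE h ≫ U'.ι ≫ W.hom = U.ι ≫ W.hom
    rw [← Category.assoc, Scheme.homOfLE_ι]) trivial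

lemma resHom_left {U U' : W.left.Opens} (h : U ≤ U') : (resHom W h).left = W.left.homOfLE h := rfl

lemma openSubι_left (U : W.left.Opens) : (openSubι W U).left = U.ι := rfl

lemma resHom_ι {U U' : W.left.Opens} (h : U ≤ U') :
    resHom W h ≫ openSubι W U' = openSubι W U := by
  apply MorphismProperty.Over.Hom.ext
  rw [MorphismProperty.Comma.comp_left, resHom_left, openSubι_left, openSubι_left]
  exact Scheme.homOfLE_ι _ h

lemma resHom_refl (U : W.left.Opens) : resHom W (le_refl U) = 𝟙 _ := by
  apply MorphismProperty.Over.Hom.ext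
  rw [resHom_left]
  exact Scheme.homOfLE_rfl _ _

lemma resHom_comp {U U' U'' : W.left.Opens} (h : U ≤ U') (h' : U' ≤ U'') :
    resHom W h ≫ resHom W h' = resHom W (h.trans h') := by
  apply MorphismProperty.Over.Hom.ext
  rw [MorphismProperty.Comma.comp_left, resHom_left, resHom_left, resHom_left]
  exact Scheme.homOfLE_homOfLE _ h h'

instance mono_openSubι (U : W.left.Opens) : Mono (openSubι W U) := by
  have h1 : Mono ((toSch X).map (openSubι W U)) := (inferInstance : Mono U.ι)
  exact (toSch X).mono_of_mono_map h1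

lemma range_openSubι (U : W.left.Opens) :
    Set.range (openSubι W U).left = (U : Set W.left) := by
  rw [openSubι_left]
  exact Scheme.Opens.range_ι U

/-- a morphism into `W` factoring through the open piece `U` has its image in `U` -/
lemma mem_of_fac {Y : X.ProEt} (m : Y ⟶ W) (U : W.left.Opens) (h : Y ⟶ openSub W U)
    (hm : m = h ≫ openSubι W U) (y : Y.left) : m.left y ∈ U := by
  have h1 : m.left = h.left ≫ U.ι := by
    rw [hm, MorphismProperty.Comma.comp_left, openSubι_left]
  rw [h1, Scheme.Hom.comp_apply]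
  have h2 : U.ι (h.left y) ∈ Set.range U.ι := ⟨_, rfl⟩
  rw [Scheme.Opens.range_ι] at h2
  exact h2

end Res

/-! ### two complementary open and closed pieces cover -/

/-- the complement of an open and closed piece -/
def complOpen {T : Type*} [TopologicalSpace T] (U : TopologicalSpace.Opens T)
    (hU : IsClopen (U : Set T)) : TopologicalSpace.Opens T :=
  ⟨(U : Set T)ᶜ, hU.compl.isOpen⟩

lemma coe_complOpen {T : Type*} [TopologicalSpace T] (U : TopologicalSpace.Opens T)
    (hU : IsClopen (U : Set T)) : ((complOpen U hU : TopologicalSpace.Opens T) : Set T) =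
      (U : Set T)ᶜ := rfl

lemma mem_of_binary_clopen (W : X.ProEt) [IsAffine W.left] (U : W.left.Opens)
    (hU : IsClopen (U : Set W.left)) (T : Sieve W)
    (h1 : T.pullback (openSubι W U) ∈ Scheme.ProEt.topology X (openSub W U))
    (h2 : T.pullback (openSubι W (complOpen U hU)) ∈
      Scheme.ProEt.topology X (openSub W (complOpen U hU))) :
    T ∈ Scheme.ProEt.topology X W := by
  let Ws : Fin 2 → W.left.Opens := fun k => if k = 0 then U else complOpen U hU
  have hWs : ∀ k, Ws k = U ∨ Ws k = complOpen U hU := by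
    intro k
    by_cases hk : k = 0
    · left
      simp [Ws, hk]
    · right
      simp [Ws, hk]
  have hclopen : ∀ k, IsClopen ((Ws k : Set ↥W.left)) := by
    intro k
    rcases hWs k with h | h
    · rw [h]
      exact hU
    · rw [h, coe_complOpen]
      exact hU.compl
  have hdisj : Pairwise (fun k l => Disjoint (Ws k : Set ↥W.left) (Ws l)) := by
    intro k l hkl
    have h01 : ∀ k : Fin 2, k = 0 ∨ k = 1 := by decide
    have hd : Disjoint (U : Set ↥W.left) (complOpen U hU : W.left.Opens) := by
      rw [coe_complOpen]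
      exact disjoint_compl_right
    rcases h01 k with rfl | rfl <;> rcases h01 l with rfl | rfl
    · exact absurd rfl hkl
    · simpa [Ws] using hd
    · simpa [Ws] using hd.symm
    · exact absurd rfl hkl
  have hcover : (⋃ k, (Ws k : Set ↥W.left)) = Set.univ := by
    refine Set.eq_univ_of_forall (fun x => ?_)
    by_cases hx : x ∈ U
    · exact Set.mem_iUnion.mpr ⟨0, by simpa [Ws] using hx⟩
    · refine Set.mem_iUnion.mpr ⟨1, ?_⟩
      have : x ∈ ((complOpen U hU : W.left.Opens) : Set ↥W.left) := by
        rw [coe_complOpen]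
        exact hx
      simpa [Ws] using this
  have hd := isDisjointCover_of_clopen W Ws hclopen hdisj hcover
  have key : ∀ (O : W.left.Opens), (O = U ∨ O = complOpen U hU) →
      T.pullback (openSubι W O) ∈ Scheme.ProEt.topology X (openSub W O) := by
    rintro O (rfl | rfl)
    · exact h1
    · exact h2
  refine (Scheme.ProEt.topology X).transitive hd.mem T (fun Y f hf => ?_)
  obtain ⟨Y', h, g, ⟨k⟩, rfl⟩ := hf
  rw [Sieve.pullback_comp]
  exact (Scheme.ProEt.topology X).pullback_stable h (key (Ws k) (hWs k))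

/-! ### open and closed neighbourhoods of a point -/

section Nb

variable (W : X.ProEt) (w : W.left)

/-- the open and closed neighbourhoods of a point -/
abbrev Nb : Type u := {U : W.left.Opens // IsClopen (U : Set W.left) ∧ w ∈ U}

instance : Nonempty (Nb W w) :=
  ⟨⟨⊤, by rw [TopologicalSpace.Opens.coe_top]; exact isClopen_univ, trivial⟩⟩

instance : IsDirected (Nb W w) (· ≥ ·) :=
  ⟨fun a b => ⟨⟨a.1 ⊓ b.1, by
    refine ⟨?_, a.2.2, b.2.2⟩
    rw [TopologicalSpace.Opens.coe_inf]
    exact a.2.1.inter b.2.1⟩, (inf_le_left : a.1 ⊓ b.1 ≤ a.1), (inf_le_right : a.1 ⊓ b.1 ≤ b.1)⟩⟩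

/-- the diagram of open and closed neighbourhoods -/
noncomputable def nbFunctor : Nb W w ⥤ X.ProEt where
  obj U := openSub W U.1
  map {U U'} f := resHom W (show U.1 ≤ U'.1 from leOfHom f)
  map_id U := resHom_refl W U.1
  map_comp {U U' U''} f g :=
    (resHom_comp W (show U.1 ≤ U'.1 from leOfHom f) (show U'.1 ≤ U''.1 from leOfHom g)).symm

lemma nbFunctor_obj (U : Nb W w) : (nbFunctor W w).obj U = openSub W U.1 := rfl

lemma nbFunctor_map {U U' : Nb W w} (f : U ⟶ U') :
    (nbFunctor W w).map f = resHom W (show U.1 ≤ U'.1 from leOfHom f) := rfl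

variable [IsAffine W.left] (hring : EtPBC.IsWContractible ↥(Γ(W.left, ⊤)))

include hring in
/-- the lifting property which makes germs at `w` a point of the site -/
lemma nb_lifting ⦃V : X.ProEt⦄ (R : Sieve V) (hR : R ∈ Scheme.ProEt.topology X V)
    ⦃U : Nb W w⦄ (f : (nbFunctor W w).obj U ⟶ V) :
    ∃ (Y : X.ProEt) (g : Y ⟶ V) (_ : R g) (U' : Nb W w) (q : U' ⟶ U)
      (a : (nbFunctor W w).obj U' ⟶ Y), a ≫ g = (nbFunctor W w).map q ≫ f := by
  have hU := U.2.1
  -- the sieve on `W`
  let T : Sieve W :=
    { arrows := fun Y m => (∃ h : Y ⟶ openSub W U.1, R (h ≫ f) ∧ m = h ≫ openSubι W U.1) ∨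
        (∃ h : Y ⟶ openSub W (complOpen U.1 hU), m = h ≫ openSubι W (complOpen U.1 hU))
      downward_closed := by
        rintro Y Z m (⟨h, hRh, rfl⟩ | ⟨h, rfl⟩) g
        · refine Or.inl ⟨g ≫ h, ?_, (Category.assoc _ _ _).symm⟩
          rw [Category.assoc]
          exact R.downward_closed hRh g
        · exact Or.inr ⟨g ≫ h, (Category.assoc _ _ _).symm⟩ }
  have hT : T ∈ Scheme.ProEt.topology X W := by
    refine mem_of_binary_clopen W U.1 hU T ?_ ?_
    · refine (Scheme.ProEt.topology X).superset_covering ?_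
        ((Scheme.ProEt.topology X).pullback_stable f hR)
      intro Y h hh
      exact Or.inl ⟨h, hh, rfl⟩
    · refine (Scheme.ProEt.topology X).covering_of_eq_top ?_
      rw [← Sieve.id_mem_iff_eq_top]
      exact Or.inr ⟨𝟙 _, rfl⟩
  obtain ⟨n, Ws, hclopen, hdisj, hcover, hTW⟩ := exists_clopen_decomposition W hring T hT
  have hw : w ∈ ⋃ k, (Ws k : Set ↥W.left) := by
    rw [hcover]
    trivial
  obtain ⟨k, hk⟩ := Set.mem_iUnion.mp hw
  have hk' : w ∈ Ws k := hk
  rcases hTW k with ⟨h, hRh, hm⟩ | ⟨h, hm⟩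
  · -- the piece lies in `U`
    have hle : Ws k ≤ U.1 := by
      intro y hy
      have h1 := mem_of_fac W _ U.1 h hm ⟨y, hy⟩
      exact h1
    let U' : Nb W w := ⟨Ws k, hclopen k, hk'⟩
    have hq : U' ≤ U := hle
    refine ⟨openSub W (Ws k), h ≫ f, hRh, U', homOfLE hq, 𝟙 _, ?_⟩
    rw [Category.id_comp, nbFunctor_map]
    congr 1
    rw [← cancel_mono (openSubι W U.1), resHom_ι]
    exact hm.symm
  · -- the piece lies in the complement of `U`: impossible
    exfalso
    have h1 := mem_of_fac W _ (complOpen U.1 hU) h hm ⟨w, hk'⟩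
    exact h1 U.2.2

end Nb


/-! ### the points -/

section Points

open GrothendieckTopology.Point GrothendieckTopology.Point.ofIsCofiltered

instance locallySmall_proEt : LocallySmall.{u + 1} X.ProEt := locallySmall_max.{u + 1}

instance initiallySmall_nb (W : X.ProEt) (w : W.left) : InitiallySmall.{u + 1} (Nb W w) := by
  haveI : LocallySmall.{u + 1} (Nb W w) := locallySmall_max.{u + 1}
  haveI : EssentiallySmall.{u + 1} (Nb W w) := essentiallySmall_of_small_of_locallySmall _
  exact initiallySmall_of_essentiallySmall _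

/-- the index type of the family of points -/
structure PtIdx (X : Scheme.{u}) : Type (u + 1) where
  /-- an object of the site -/
  W : X.ProEt
  aff : IsAffine W.left
  hring : EtPBC.IsWContractible ↥(Γ(W.left, ⊤))
  /-- a point of the object -/
  w : W.left

/-- germs at `w` of morphisms out of the open and closed neighbourhoods of `w` -/
noncomputable def pt (i : PtIdx X) : GrothendieckTopology.Point.{u + 1} (Scheme.ProEt.topology X) :=
  haveI := i.aff
  GrothendieckTopology.Point.ofIsCofiltered (nbFunctor i.W i.w) (nb_lifting i.W i.w i.hring)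

/-- the whole object as a neighbourhood -/
def topNb (W : X.ProEt) (w : W.left) : Nb W w :=
  ⟨⊤, by rw [TopologicalSpace.Opens.coe_top]; exact isClopen_univ, trivial⟩

lemma exists_nb_of_points (W : X.ProEt) [IsAffine W.left]
    (hring : EtPBC.IsWContractible ↥(Γ(W.left, ⊤))) {V : X.ProEt} (a : W ⟶ V) (Ssv : Sieve V)
    (hS : ∀ (Φ : (ObjectProperty.ofObj (fun i : PtIdx X => pt i)).FullSubcategory)
      (x : Φ.obj.fiber.obj V), ∃ (Y : X.ProEt) (g : Y ⟶ V) (_ : Ssv g) (y : Φ.obj.fiber.obj Y),
        Φ.obj.fiber.map g y = x) (w : W.left) :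
    ∃ (U : Nb W w), Ssv (openSubι W U.1 ≫ a) := by
  let i : PtIdx X := ⟨W, inferInstance, hring, w⟩
  let a₀ : (nbFunctor W w).obj (topNb W w) ⟶ V := openSubι W ⊤ ≫ a
  obtain ⟨Y, g, hg, y, hy⟩ := hS ⟨pt i, ObjectProperty.ofObj.mk i⟩
    (fiberMk.{u + 1} (p := nbFunctor W w) a₀)
  have hy' : (fiber.{u + 1} (nbFunctor W w)).map g y = fiberMk.{u + 1} (p := nbFunctor W w) a₀ := hy
  obtain ⟨U', b, hb⟩ := fiberMk_jointly_surjective.{u + 1} (p := nbFunctor W w)
    (show (fiber.{u + 1} (nbFunctor W w)).obj Y from y)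
  rw [← hb, fiber_map_fiberMk] at hy'
  let q : U' ⟶ topNb W w := homOfLE (show U'.1 ≤ ⊤ from le_top)
  rw [← fiberMk_map_comp.{u + 1} (nbFunctor W w) q a₀] at hy'
  obtain ⟨U'', r, hr⟩ := exists_of_fiberMk_eq_fiberMk.{u + 1} hy'
  refine ⟨U'', ?_⟩
  have h1 : (nbFunctor W w).map r ≫ (nbFunctor W w).map q ≫ a₀ = openSubι W U''.1 ≫ a := by
    rw [nbFunctor_map, nbFunctor_map]
    show resHom W _ ≫ resHom W _ ≫ openSubι W ⊤ ≫ a = _
    rw [← Category.assoc, ← Category.assoc, resHom_comp, resHom_ι]
  rw [← h1, ← hr, ← Category.assoc]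
  exact Ssv.downward_closed hg _

lemma pullback_mem_of_nb (W : X.ProEt) [IsAffine W.left] {V : X.ProEt} (a : W ⟶ V)
    (Ssv : Sieve V) (hS : ∀ w : W.left, ∃ (U : Nb W w), Ssv (openSubι W U.1 ≫ a)) :
    Ssv.pullback a ∈ Scheme.ProEt.topology X W := by
  choose U hU using hS
  obtain ⟨t, ht⟩ := isCompact_univ.elim_finite_subcover
    (fun w : W.left => (((U w).1 : W.left.Opens) : Set W.left)) (fun w => (U w).1.2)
    (fun x _ => Set.mem_iUnion.mpr ⟨x, (U x).2.2⟩)
  let e : Fin t.card → {x // x ∈ t} := t.equivFin.symm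
  have hcov : Sieve.ofArrows (fun k : Fin t.card => openSub W (U (e k).1).1)
      (fun k => openSubι W (U (e k).1).1) ∈ Scheme.ProEt.topology X W := by
    refine ofArrows_mem _ _ (fun k => ?_) (fun v => ?_)
    · show CompactSpace ↥((U (e k).1).1 : W.left.Opens).toScheme
      exact isCompact_iff_compactSpace.mp (U (e k).1).2.1.1.isCompact
    · have hv := ht (Set.mem_univ v)
      simp only [Set.mem_iUnion] at hv
      obtain ⟨x, hxt, hvx⟩ := hv
      refine ⟨t.equivFin ⟨x, hxt⟩, ?_⟩
      rw [range_openSubι]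
      have he : e (t.equivFin ⟨x, hxt⟩) = ⟨x, hxt⟩ := t.equivFin.symm_apply_apply _
      rw [he]
      exact hvx
  refine (Scheme.ProEt.topology X).superset_covering ?_ hcov
  rw [Sieve.ofArrows, Sieve.generate_le_iff]
  rintro Y f ⟨k⟩
  exact hU _

theorem conservative_pt (X : Scheme.{u}) :
    (ObjectProperty.ofObj (fun i : PtIdx X => pt i)).IsConservativeFamilyOfPoints := by
  refine ObjectProperty.IsConservativeFamilyOfPoints.mk' (fun V Ssv hS => ?_)
  obtain ⟨ι, Vs, gs, hcov, hVs⟩ := main7286 V
  refine (Scheme.ProEt.topology X).transitive hcov Ssv (fun Y f hf => ?_)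
  obtain ⟨Y', h, g, ⟨i⟩, rfl⟩ := hf
  rw [Sieve.pullback_comp]
  refine (Scheme.ProEt.topology X).pullback_stable h ?_
  obtain ⟨haff, hring⟩ := hVs i
  haveI := haff
  exact pullback_mem_of_nb (Vs i) (gs i) Ssv
    (fun w => exists_nb_of_points (Vs i) hring (gs i) Ssv hS w)

/-- the statement of S7284 -/
theorem main7284 (S : Scheme.{u}) :
    GrothendieckTopology.HasEnoughPoints.{u + 1} (Scheme.ProEt.topology S) :=
  ⟨⟨ObjectProperty.ofObj (fun i : PtIdx S => pt i), inferInstance, conservative_pt S⟩⟩

end Points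

end H9FE.ProEtW
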