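import Mathlib
import Groth.Prelude.Def_ProEtS
import Groth.Prelude.Def_PBC
import Groth.Agent.Lib.Helper9.FE.ProEtW7
import Groth.Agent.S0730

/-! helper9: coproducts in the small pro-étale site indexed by any small type; the left Kan
extension along base change of a sheaf of sets turns finite coproducts into products, hence has
the same sections as its sheafification on affine weakly contractible objects (S7285). -/

set_option autoImplicit false
set_option linter.unusedSectionVars false
set_option linter.style.haveILetI false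
set_option backward.isDefEq.respectTransparency false
universe w v u v₁ u₁ v₂ u₂
open CategoryTheory Limits Opposite AlgebraicGeometry

namespace H9FE.ProEtW

open H9FE.ProEtQc

/-! ### left Kan extensions of presheaves of sets along a flat functor -/

section Lan

variable {C : Type u₁} [Category.{v₁} C] {D : Type u₂} [Category.{v₂} D] (B : C ⥤ D)
  [∀ P : Cᵒᵖ ⥤ Type w, B.op.HasPointwiseLeftKanExtension P] (P : Cᵒᵖ ⥤ Type w)

lemma isFiltered_costructuredArrow_op [RepresentablyFlat B] (W : D) :
    IsFiltered (CostructuredArrow B.op (op W)) :=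
  IsFiltered.of_equivalence (structuredArrowOpEquivalence B W)

lemma lan_exists_rep (W : D) (ρ : (B.op.lan.obj P).obj (op W)) :
    ∃ (V : C) (b : W ⟶ B.obj V) (r : P.obj (op V)),
      (B.op.lan.obj P).map b.op ((B.op.lanUnit.app P).app (op V) r) = ρ := by
  have hl := Functor.isPointwiseLeftKanExtensionOfIsLeftKanExtension (F := P) (B.op.lan.obj P)
    (B.op.lanUnit.app P) (op W)
  obtain ⟨g, r, hr⟩ := Types.jointly_surjective_of_isColimit hl ρ
  exact ⟨g.left.unop, g.hom.unop, r, hr⟩

lemma lan_map_unit {V V' : C} (a : V' ⟶ V) (r : P.obj (op V)) :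
    (B.op.lan.obj P).map (B.map a).op ((B.op.lanUnit.app P).app (op V) r) =
      (B.op.lanUnit.app P).app (op V') (P.map a.op r) :=
  (NatTrans.naturality_apply (B.op.lanUnit.app P) a.op r).symm

lemma lan_map_comp {W W' : D} {V : C} (c : W' ⟶ W) (b : W ⟶ B.obj V)
    (y : (B.op.lan.obj P).obj (op (B.obj V))) :
    (B.op.lan.obj P).map c.op ((B.op.lan.obj P).map b.op y) =
      (B.op.lan.obj P).map (c ≫ b).op y := by
  rw [op_comp, CategoryTheory.Functor.map_comp_apply]

lemma lan_eq_of_refinement {W : D} {V V' V'' : C} (b : W ⟶ B.obj V) (b' : W ⟶ B.obj V')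
    (b'' : W ⟶ B.obj V'') (a : V'' ⟶ V) (a' : V'' ⟶ V') (h1 : b'' ≫ B.map a = b)
    (h2 : b'' ≫ B.map a' = b') (r : P.obj (op V)) (r' : P.obj (op V'))
    (h3 : P.map a.op r = P.map a'.op r') :
    (B.op.lan.obj P).map b.op ((B.op.lanUnit.app P).app (op V) r) =
      (B.op.lan.obj P).map b'.op ((B.op.lanUnit.app P).app (op V') r') := by
  rw [← h1, ← h2, ← lan_map_comp, ← lan_map_comp, lan_map_unit, lan_map_unit, h3]

lemma lan_exists_refinement [RepresentablyFlat B] {W : D} {V V' : C} (b : W ⟶ B.obj V)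
    (b' : W ⟶ B.obj V') (r : P.obj (op V)) (r' : P.obj (op V'))
    (h : (B.op.lan.obj P).map b.op ((B.op.lanUnit.app P).app (op V) r) =
      (B.op.lan.obj P).map b'.op ((B.op.lanUnit.app P).app (op V') r')) :
    ∃ (V'' : C) (b'' : W ⟶ B.obj V'') (a : V'' ⟶ V) (a' : V'' ⟶ V'),
      b'' ≫ B.map a = b ∧ b'' ≫ B.map a' = b' ∧ P.map a.op r = P.map a'.op r' := by
  haveI := isFiltered_costructuredArrow_op B W
  have hl := Functor.isPointwiseLeftKanExtensionOfIsLeftKanExtension (F := P) (B.op.lan.obj P)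
    (B.op.lanUnit.app P) (op W)
  obtain ⟨k, f, g, hfg⟩ := (Types.FilteredColimit.isColimit_eq_iff _ hl
    (i := CostructuredArrow.mk (S := B.op) (Y := op V) b.op)
    (j := CostructuredArrow.mk (S := B.op) (Y := op V') b'.op) (xi := r) (xj := r')).mp h
  refine ⟨k.left.unop, k.hom.unop, f.left.unop, g.left.unop, ?_, ?_, hfg⟩
  · exact congrArg Quiver.Hom.unop (CostructuredArrow.w f)
  · exact congrArg Quiver.Hom.unop (CostructuredArrow.w g)

end Lan


/-! ### a covering criterion and coproducts, for index types in any universe -/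

variable {X : Scheme.{u}}

lemma ofArrows_mem_of_isCompactOpenCovered' {U : X.ProEt} {ι : Type v} (V : ι → X.ProEt)
    (g : ∀ i, V i ⟶ U)
    (h : ∀ (W : U.left.Opens), IsAffineOpen W →
      IsCompactOpenCovered (fun i => ((g i).left : (V i).left → U.left)) (W : Set U.left)) :
    Sieve.generate (Presieve.ofArrows V g) ∈ Scheme.ProEt.topology X U := by
  refine Precoverage.generate_mem_toGrothendieck ?_
  change (Presieve.ofArrows V g).map (toSch X) ∈ Scheme.propQCPrecoverage @WeaklyEtale U.left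
  rw [Presieve.map_ofArrows]
  have hsurj : ∀ x : U.left, ∃ i, x ∈ Set.range (g i).left := by
    intro x
    obtain ⟨W, hW, hxW, -⟩ := exists_isAffineOpen_mem_and_subset (x := x) (U := ⊤) trivial
    obtain ⟨s, hs, Vv, hc, hcov⟩ := h W hW
    have hx : x ∈ ⋃ (i : ι) (hi : i ∈ s), (g i).left '' (Vv i hi) := by
      rw [hcov]
      exact hxW
    simp only [Set.mem_iUnion] at hx
    obtain ⟨i, hi, y, hy, rfl⟩ := hx
    exact ⟨i, y, rfl⟩
  have hmem : Presieve.ofArrows (fun i => (toSch X).obj (V i)) (fun i => (toSch X).map (g i)) ∈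
      Scheme.precoverage @WeaklyEtale U.left := by
    rw [Scheme.ofArrows_mem_precoverage_iff]
    exact ⟨hsurj, fun i => (inferInstance : WeaklyEtale (g i).left)⟩
  let 𝒰 : Scheme.Cover (Scheme.precoverage @WeaklyEtale) U.left :=
    { I₀ := ι
      X := fun i => (toSch X).obj (V i)
      f := fun i => (toSch X).map (g i)
      mem₀ := hmem }
  have hqc : QuasiCompactCover 𝒰.toPreZeroHypercover := ⟨fun {W} hW => h W hW⟩
  exact ⟨Scheme.presieve₀_mem_qcPrecoverage_iff.2 hqc, hmem⟩

section Coprod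

variable {ι : Type v} [Small.{u} ι] (Vs : ι → X.ProEt)

instance sigmaDesc_weaklyEtale' : WeaklyEtale (Sigma.desc (fun i => (Vs i).hom)) :=
  IsZariskiLocalAtSource.sigmaDesc (fun i => (inferInstance : WeaklyEtale (Vs i).hom))

/-- the coproduct of a small family of objects of the small pro-étale site -/
noncomputable def sigmaObj' : X.ProEt :=
  Scheme.ProEt.mk (Sigma.desc (fun i => (Vs i).hom))

/-- the coprojections -/
noncomputable def sigmaι' (i : ι) : Vs i ⟶ sigmaObj' Vs :=
  MorphismProperty.Over.homMk (Sigma.ι (fun i => (Vs i).left) i)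
    (Sigma.ι_desc (fun i => (Vs i).hom) i) trivial

/-- the morphism out of the coproduct -/
noncomputable def sigmaDesc' {U : X.ProEt} (g : ∀ i, Vs i ⟶ U) : sigmaObj' Vs ⟶ U :=
  MorphismProperty.Over.homMk (Sigma.desc (fun i => (g i).left)) (by
    show Sigma.desc (fun i => (g i).left) ≫ U.hom = Sigma.desc (fun i => (Vs i).hom)
    refine Sigma.hom_ext _ _ (fun i => ?_)
    rw [Sigma.ι_desc_assoc, Sigma.ι_desc]
    exact MorphismProperty.Over.w (g i)) trivial

lemma sigmaι'_desc {U : X.ProEt} (g : ∀ i, Vs i ⟶ U) (i : ι) :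
    sigmaι' Vs i ≫ sigmaDesc' Vs g = g i := by
  apply MorphismProperty.Over.Hom.ext
  show Sigma.ι (fun i => (Vs i).left) i ≫ Sigma.desc (fun i => (g i).left) = (g i).left
  exact Sigma.ι_desc _ _

lemma sigma'_hom_ext {U : X.ProEt} (a b : sigmaObj' Vs ⟶ U)
    (h : ∀ i, sigmaι' Vs i ≫ a = sigmaι' Vs i ≫ b) : a = b := by
  apply MorphismProperty.Over.Hom.ext
  refine Sigma.hom_ext (f := fun i => (Vs i).left) _ _ (fun i => ?_)
  exact congrArg (fun f => f.left) (h i)

lemma sigmaι'_isDisjointCover :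
    IsDisjointCover (Scheme.ProEt.topology X) Vs (sigmaι' Vs) := by
  refine ⟨?_, ?_, ?_⟩
  · refine ofArrows_mem_of_isCompactOpenCovered' _ _ (fun W hW => ?_)
    refine IsCompactOpenCovered.of_isOpenMap (fun i => (sigmaι' Vs i).left.continuous)
      (fun i => ?_) (fun x _ => ?_) W.2 hW.isCompact
    · exact (Sigma.ι (fun i => (Vs i).left) i).isOpenEmbedding.isOpenMap
    · obtain ⟨i, y, hy⟩ := (sigmaOpenCover (fun i => (Vs i).left)).exists_eq x
      exact ⟨i, y, hy⟩
  · intro i
    have h1 : Mono ((toSch X).map (sigmaι' Vs i)) :=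
      (inferInstance : Mono (Sigma.ι (fun i => (Vs i).left) i))
    exact (toSch X).mono_of_mono_map h1
  · intro i j hij Z gi gj hcomm
    have hc : gi.left ≫ Sigma.ι (fun i => (Vs i).left) i =
        gj.left ≫ Sigma.ι (fun i => (Vs i).left) j := congrArg (fun f => f.left) hcomm
    haveI : IsEmpty ↥Z.left := isEmpty_of_commSq_sigmaι_of_ne ⟨hc⟩ hij
    exact Scheme.ProEt.bot_mem_topology Z

/-- the coproduct cocone -/
noncomputable def sigmaCofan' : Cofan Vs := Cofan.mk (sigmaObj' Vs) (sigmaι' Vs)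

/-- the coproduct cocone is a colimit -/
noncomputable def sigmaCofan'_isColimit : IsColimit (sigmaCofan' Vs) :=
  Cofan.IsColimit.mk _ (fun t => sigmaDesc' Vs t.inj)
    (fun t i => sigmaι'_desc Vs t.inj i)
    (fun t _ hm => sigma'_hom_ext Vs _ _ (fun i => (hm i).trans (sigmaι'_desc Vs t.inj i).symm))

end Coprod


/-! ### the left Kan extension along base change -/

section Main

variable {X Y : Scheme.{u}} (f : X ⟶ Y)

theorem lan_preservesFiniteProducts (F : Sheaf (Scheme.ProEt.topology Y) (Type (u + 1))) :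
    PreservesFiniteProducts ((ProEtS.bcP f).op.lan.obj F.obj) := by
  haveI := Groth.Agent.S0730.preservesFiniteLimits_bcP f
  haveI : RepresentablyFlat (ProEtS.bcP f) := flat_of_preservesFiniteLimits _
  have hF : Presieve.IsSheaf (Scheme.ProEt.topology Y) F.obj :=
    (isSheaf_iff_isSheaf_of_type _ _).mp F.property
  refine ⟨fun n => ⟨fun {K} => ?_⟩⟩
  let Ws : Fin n → X.ProEt := fun k => (K.obj ⟨k⟩).unop
  have e : K ≅ Discrete.functor (fun k => op (Ws k)) :=
    Discrete.natIso (fun ⟨k⟩ => Iso.refl _)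
  haveI : PreservesLimit (Discrete.functor (fun k => op (Ws k)))
      ((ProEtS.bcP f).op.lan.obj F.obj) := by
    refine preservesLimit_of_preserves_limit_cone
      (Cofan.IsColimit.op (sigmaCofan'_isColimit Ws)) ?_
    refine ((Types.isLimit_iff _).mpr ?_).some
    intro s hs
    -- existence
    have hrep := fun k => lan_exists_rep (ProEtS.bcP f) F.obj (Ws k) (s ⟨k⟩)
    choose Vk bk rk hk using hrep
    obtain ⟨r, hr, -⟩ := existsUnique_glue (sigmaι'_isDisjointCover Vk) hF rk
    let b : sigmaObj' Ws ⟶ (ProEtS.bcP f).obj (sigmaObj' Vk) :=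
      sigmaDesc' Ws (fun k => bk k ≫ (ProEtS.bcP f).map (sigmaι' Vk k))
    have hex : ∀ k, ((ProEtS.bcP f).op.lan.obj F.obj).map (sigmaι' Ws k).op
        (((ProEtS.bcP f).op.lan.obj F.obj).map b.op
          (((ProEtS.bcP f).op.lanUnit.app F.obj).app (op (sigmaObj' Vk)) r)) = s ⟨k⟩ := by
      intro k
      rw [lan_map_comp, sigmaι'_desc, ← lan_map_comp, lan_map_unit, hr k]
      exact hk k
    refine ⟨((ProEtS.bcP f).op.lan.obj F.obj).map b.op
      (((ProEtS.bcP f).op.lanUnit.app F.obj).app (op (sigmaObj' Vk)) r),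
      fun ⟨k⟩ => hex k, ?_⟩
    -- uniqueness
    intro x' hx'
    obtain ⟨V', b', r', rfl⟩ := lan_exists_rep (ProEtS.bcP f) F.obj (sigmaObj' Ws) x'
    have hx'k : ∀ k, ((ProEtS.bcP f).op.lan.obj F.obj).map (sigmaι' Ws k ≫ b').op
        (((ProEtS.bcP f).op.lanUnit.app F.obj).app (op V') r') =
        ((ProEtS.bcP f).op.lan.obj F.obj).map (sigmaι' Ws k ≫ b).op
          (((ProEtS.bcP f).op.lanUnit.app F.obj).app (op (sigmaObj' Vk)) r) := by
      intro k
      rw [← lan_map_comp, ← lan_map_comp]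
      exact (hx' ⟨k⟩).trans (hex k).symm
    have href := fun k => lan_exists_refinement (ProEtS.bcP f) F.obj _ _ _ _ (hx'k k)
    choose V2 b2 a' a h1 h2 h3 using href
    refine lan_eq_of_refinement (ProEtS.bcP f) F.obj b' b
      (sigmaDesc' Ws (fun k => b2 k ≫ (ProEtS.bcP f).map (sigmaι' V2 k)))
      (sigmaDesc' V2 a') (sigmaDesc' V2 a) ?_ ?_ r' r ?_
    · refine sigma'_hom_ext Ws _ _ (fun k => ?_)
      rw [← Category.assoc, sigmaι'_desc, Category.assoc, ← Functor.map_comp, sigmaι'_desc,
        h1 k]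
    · refine sigma'_hom_ext Ws _ _ (fun k => ?_)
      rw [← Category.assoc, sigmaι'_desc, Category.assoc, ← Functor.map_comp, sigmaι'_desc,
        h2 k]
    · obtain ⟨t, -, ht⟩ := existsUnique_glue (sigmaι'_isDisjointCover V2) hF
        (fun k => F.obj.map (a' k).op r')
      have e1 : F.obj.map (sigmaDesc' V2 a').op r' = t := ht _ (fun k => by
        rw [← CategoryTheory.Functor.map_comp_apply, ← op_comp, sigmaι'_desc])
      have e2 : F.obj.map (sigmaDesc' V2 a).op r = t := ht _ (fun k => by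
        rw [← CategoryTheory.Functor.map_comp_apply, ← op_comp, sigmaι'_desc]
        exact (h3 k).symm)
      rw [e1, e2]
  exact preservesLimit_of_iso_diagram _ e.symm

/-- the statement of S7285 -/
theorem main7285 [ProEtS.PCont f]
    (F : Sheaf (Scheme.ProEt.topology Y) (Type (u + 1))) (W : X.ProEt) [IsAffine W.left]
    (hW : ProEtS.IsWC W) :
    Function.Bijective
      ((toSheafify (Scheme.ProEt.topology X) ((ProEtS.bcP f).op.lan.obj F.obj)).app (op W)) := by
  haveI := lan_preservesFiniteProducts f F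
  exact main725 _ W hW

end Main

end H9FE.ProEtW
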