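import Mathlib
import Groth.Prelude.Def_ProEtS
import Groth.Agent.Lib.Helper9.FE.PCCov2
import Groth.Agent.Lib.Helper9.FE.ProEtW9
import Groth.Agent.Lib.Helper9.FE.ProEtW8
import Groth.Agent.Lib.Helper5.Misc.EtSiteBasic

/-! helper9: the members of `Bp Y` (affine objects ind-étale over an affine étale `Y`-scheme) form
a basis of the small pro-étale site: every covering sieve of any object is refined by members of
`Bp Y`.  Also: a morphism of abelian sheaves which is bijective on sections over a basis is an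
isomorphism. -/

set_option autoImplicit false
set_option linter.unusedSectionVars false
set_option linter.style.haveILetI false
set_option backward.isDefEq.respectTransparency false
universe w v₂ u₂ u
open CategoryTheory Limits Opposite AlgebraicGeometry

namespace H9FE.PBC

section Crit

variable {D : Type u₂} [Category.{v₂} D] {Jd : GrothendieckTopology D}
  [Jd.WEqualsLocallyBijective AddCommGrpCat.{w}]
  [Jd.HasSheafCompose (forget AddCommGrpCat.{w})]

/-- a morphism of abelian sheaves which is bijective on sections over a basis is an isomorphism -/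
theorem isIso_of_bijective_on_basis (B' : Set D)
    (hΦ : ∀ (V : D) (T : Sieve V), T ∈ Jd V →
      Sieve.generate (fun W g => T g ∧ W ∈ B') ∈ Jd V)
    {G G' : Sheaf Jd AddCommGrpCat.{w}} (φ : G ⟶ G')
    (hb : ∀ W ∈ B', Function.Bijective (φ.hom.app (op W)).hom) : IsIso φ := by
  refine (Sheaf.isLocallyBijective_iff_isIso φ).1 ⟨?_, ?_⟩
  · refine ⟨fun {V} x y h => ?_⟩
    have hcov := hΦ V.unop ⊤ (Jd.top_mem _)
    refine Jd.superset_covering ?_ hcov
    rintro W g ⟨W', k, g', ⟨-, hW'⟩, rfl⟩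
    have h1 : (G.obj.map g'.op).hom x = (G.obj.map g'.op).hom y := by
      apply (hb W' hW').1
      have n1 := ConcreteCategory.congr_hom (φ.hom.naturality g'.op) x
      have n2 := ConcreteCategory.congr_hom (φ.hom.naturality g'.op) y
      exact n1.trans ((congrArg (G'.obj.map g'.op).hom h).trans n2.symm)
    show (G.obj.map (k ≫ g').op).hom x = (G.obj.map (k ≫ g').op).hom y
    rw [op_comp, CategoryTheory.Functor.map_comp]
    exact congrArg (G.obj.map k.op).hom h1
  · refine ⟨fun {V} s => ?_⟩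
    have hcov := hΦ V ⊤ (Jd.top_mem _)
    refine Jd.superset_covering ?_ hcov
    rintro W g ⟨W', k, g', ⟨-, hW'⟩, rfl⟩
    obtain ⟨t, ht⟩ := (hb W' hW').2 ((G'.obj.map g'.op).hom s)
    refine ⟨(G.obj.map k.op).hom t, ?_⟩
    have n1 := ConcreteCategory.congr_hom (φ.hom.naturality k.op) t
    refine n1.trans ?_
    show (G'.obj.map k.op).hom ((φ.hom.app (op W')).hom t) = (G'.obj.map (k ≫ g').op).hom s
    rw [ht, op_comp, CategoryTheory.Functor.map_comp]
    rfl

end Crit

section Basis

open H9FE.ProEtQc H9FE.ProEtW H9FE.PC Groth.Agent.Lib.Helper5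

variable {Y : Scheme.{u}}

/-- every object of the small pro-étale site is covered by members of `Bp Y` -/
theorem bp_cover (V : Y.ProEt) :
    Sieve.generate (fun (W : Y.ProEt) (_ : W ⟶ V) => W ∈ Bp Y) ∈
      Scheme.ProEt.topology Y V := by
  classical
  let ι : Type u := {p : V.left.Opens × Y.Opens //
    IsAffineOpen p.1 ∧ IsAffineOpen p.2 ∧ p.1 ≤ V.hom ⁻¹ᵁ p.2}
  have key : ∀ i : ι, ∃ (Z : Y.ProEt) (z : Z ⟶ openSub V i.1.1), Z ∈ Bp Y ∧
      IsAffine Z.left ∧ Function.Surjective z.left := by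
    rintro ⟨⟨O, Y'⟩, hO, hY', hle⟩
    haveI : IsAffine (openSub V O).left := hO
    let E : Y.Etale := EtSiteBasic.ofEtale Y'.ι
    haveI hEaff : IsAffine E.left := hY'
    haveI : IsAffine ((ProEtS.eps Y).obj E).left := hY'
    let g : openSub V O ⟶ (ProEtS.eps Y).obj E :=
      MorphismProperty.Over.homMk (V.hom.resLE Y' O hle) (Scheme.Hom.resLE_comp_ι _ _) trivial
    obtain ⟨Z, z, hZaff, hsurj, hIE⟩ :=
      exists_indEtale_refinement ((ProEtS.eps Y).obj E) (openSub V O) g
    exact ⟨Z, z, ⟨hZaff, E, hEaff, z ≫ g, hIE⟩, hZaff, hsurj⟩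
  choose Z z hZB hZaff hzsurj using key
  have hcov : Sieve.generate (Presieve.ofArrows Z (fun i : ι => z i ≫ openSubι V i.1.1)) ∈
      Scheme.ProEt.topology Y V := by
    refine ofArrows_mem_of_isCompactOpenCovered' Z _ (fun W hW => ?_)
    refine IsCompactOpenCovered.of_isCompact_of_forall_exists_isCompactOpenCovered hW.isCompact
      (fun x hx => ?_)
    obtain ⟨Y', hY', hxY', -⟩ :=
      exists_isAffineOpen_mem_and_subset (x := V.hom x) (U := (⊤ : Y.Opens)) trivial
    obtain ⟨O, hO, hxO, hOle⟩ :=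
      exists_isAffineOpen_mem_and_subset (x := x) (U := W ⊓ V.hom ⁻¹ᵁ Y') ⟨hx, hxY'⟩
    let i : ι := ⟨⟨O, Y'⟩, hO, hY', fun y hy => (hOle hy).2⟩
    refine ⟨(O : Set V.left), fun y hy => (hOle hy).1, hxO, O.2, ?_⟩
    haveI : IsAffine (Z i).left := hZaff i
    have h1 := IsCompactOpenCovered.image
      (f := fun i : ι => ((z i ≫ openSubι V i.1.1).left : (Z i).left → V.left)) (i := i)
      (⊤ : TopologicalSpace.Opens (Z i).left) (by
        rw [TopologicalSpace.Opens.coe_top]
        exact isCompact_univ)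
    have himg : ((z i ≫ openSubι V i.1.1).left : (Z i).left → V.left) ''
        ((⊤ : TopologicalSpace.Opens (Z i).left) : Set (Z i).left) = (O : Set V.left) := by
      rw [TopologicalSpace.Opens.coe_top, Set.image_univ]
      ext v
      constructor
      · rintro ⟨t, rfl⟩
        exact mem_of_fac V (z i ≫ openSubι V O) O (z i) rfl t
      · intro hv
        obtain ⟨t, ht⟩ := hzsurj i ⟨v, hv⟩
        refine ⟨t, ?_⟩
        show (z i ≫ openSubι V O).left t = v
        rw [MorphismProperty.Comma.comp_left, Scheme.Hom.comp_apply, ht]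
        rfl
    rw [himg] at h1
    exact h1
  refine (Scheme.ProEt.topology Y).superset_covering ?_ hcov
  rintro W g ⟨_, k, _, ⟨i⟩, rfl⟩
  exact ⟨Z i, k, _, hZB i, rfl⟩

/-- every covering sieve is refined by members of `Bp Y` -/
theorem hΦ_Bp (V : Y.ProEt) (T : Sieve V) (hT : T ∈ Scheme.ProEt.topology Y V) :
    Sieve.generate (fun W g => T g ∧ W ∈ Bp Y) ∈ Scheme.ProEt.topology Y V := by
  refine (Scheme.ProEt.topology Y).transitive (bp_cover V) _ ?_
  rintro W g ⟨W', k, g', hW', rfl⟩
  rw [Sieve.pullback_comp]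
  refine (Scheme.ProEt.topology Y).pullback_stable k ?_
  obtain ⟨ι, Yf, hc, hT'⟩ := covp_h2 W' hW' (T.pullback g')
    ((Scheme.ProEt.topology Y).pullback_stable g' hT)
  refine (Scheme.ProEt.topology Y).superset_covering ?_ hc.2.2.2
  rintro Z' h ⟨_, l, _, ⟨i⟩, rfl⟩
  exact ⟨(Yf i).left, l, (Yf i).hom ≫ g', ⟨hT' i, mem_Bp_of_EV hW' (Yf i) (hc.2.2.1 i)⟩,
    (Category.assoc _ _ _).symm⟩

end Basis

end H9FE.PBC
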