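import Mathlib
import Groth.Prelude.Def_ProEtS
import Groth.Agent.Lib.Helper9.FE.ProEtL1
import Groth.Agent.S20011

/-! helper9: for a good cofiltered system of objects of the small pro-étale site with limit `Y`:
morphisms from `Y` to an étale `X`-scheme descend to a stage (`exists_hom_descent`,
`exists_hom_descent₀`), and a chart of `ε⁻¹ F` defined on the system whose section vanishes on `Y`
has vanishing section at some stage (`chart_vanish_descent`). -/

set_option autoImplicit false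
set_option linter.unusedSectionVars false
set_option linter.style.haveILetI false
set_option backward.isDefEq.respectTransparency false
universe u
open CategoryTheory Limits Opposite AlgebraicGeometry

namespace H9FE.ProEtL

open H9FE.ProEtQc H9FE.ProEtK H9FE.BCLim

variable {X : Scheme.{u}} {I : Type u} [SmallCategory I] [IsCofiltered I]
  {D : I ⥤ X.ProEt} {c : Cone D}

/-- descent of morphisms to an étale scheme over a chart -/
theorem exists_hom_descent (hg : Good D c) {U U' : X.Etale} (h : U' ⟶ U)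
    (τ : ∀ i, D.obj i ⟶ (ProEtS.eps X).obj U)
    (hτ : ∀ {i j : I} (a : i ⟶ j), D.map a ≫ τ j = τ i)
    (g' : c.pt ⟶ (ProEtS.eps X).obj U')
    (hg' : ∀ i, g' ≫ (ProEtS.eps X).map h = c.π.app i ≫ τ i) :
    ∃ (i : I) (γ : D.obj i ⟶ (ProEtS.eps X).obj U'),
      c.π.app i ≫ γ = g' ∧ γ ≫ (ProEtS.eps X).map h = τ i := by
  haveI : ∀ {i j : I} (a : i ⟶ j), IsAffineHom ((D ⋙ toSch X).map a) := fun a => hg.aff a
  haveI : ∀ i, CompactSpace ((D ⋙ toSch X).obj i) := fun i => hg.qc i
  haveI : ∀ i, QuasiSeparatedSpace ((D ⋙ toSch X).obj i) := fun i => hg.qs i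
  let t : (D ⋙ toSch X) ⟶ (Functor.const I).obj U.left :=
    { app := fun i => (τ i).left
      naturality := fun i j a => by
        show (D.map a).left ≫ (τ j).left = (τ i).left ≫ 𝟙 _
        rw [Category.comp_id]
        exact congrArg (fun m => m.left) (hτ a) }
  obtain ⟨i, γ0, h1, h2⟩ := Scheme.exists_π_app_comp_eq_of_locallyOfFinitePresentation
    (D ⋙ toSch X) t h.left ((toSch X).mapCone c) hg.lim.some g'.left (by
      ext i : 2
      show (c.π.app i).left ≫ (τ i).left = g'.left ≫ h.left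
      exact congrArg (fun m => m.left) (hg' i).symm)
  have hw : γ0 ≫ ((ProEtS.eps X).obj U').hom = (D.obj i).hom := by
    have e1 : h.left ≫ U.hom = U'.hom := MorphismProperty.Over.w h
    have e2 : (τ i).left ≫ U.hom = (D.obj i).hom := MorphismProperty.Over.w (τ i)
    show γ0 ≫ U'.hom = _
    rw [← e1, ← Category.assoc, h2]
    exact e2
  refine ⟨i, MorphismProperty.Over.homMk γ0 hw trivial, ?_, ?_⟩
  · apply MorphismProperty.Over.Hom.ext
    exact h1
  · apply MorphismProperty.Over.Hom.ext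
    exact h2

/-- descent of morphisms to an étale scheme -/
theorem exists_hom_descent₀ (hg : Good D c) {U : X.Etale} (g : c.pt ⟶ (ProEtS.eps X).obj U) :
    ∃ (i : I) (γ : D.obj i ⟶ (ProEtS.eps X).obj U), c.π.app i ≫ γ = g := by
  haveI : ∀ {i j : I} (a : i ⟶ j), IsAffineHom ((D ⋙ toSch X).map a) := fun a => hg.aff a
  haveI : ∀ i, CompactSpace ((D ⋙ toSch X).obj i) := fun i => hg.qc i
  haveI : ∀ i, QuasiSeparatedSpace ((D ⋙ toSch X).obj i) := fun i => hg.qs i
  let t : (D ⋙ toSch X) ⟶ (Functor.const I).obj X :=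
    { app := fun i => (D.obj i).hom
      naturality := fun i j a => by
        show (D.map a).left ≫ (D.obj j).hom = (D.obj i).hom ≫ 𝟙 _
        rw [Category.comp_id]
        exact MorphismProperty.Over.w (D.map a) }
  obtain ⟨i, γ0, h1, h2⟩ := Scheme.exists_π_app_comp_eq_of_locallyOfFinitePresentation
    (D ⋙ toSch X) t U.hom ((toSch X).mapCone c) hg.lim.some g.left (by
      ext i : 2
      show (c.π.app i).left ≫ (D.obj i).hom = g.left ≫ U.hom
      rw [MorphismProperty.Over.w (c.π.app i)]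
      exact (MorphismProperty.Over.w g).symm)
  refine ⟨i, MorphismProperty.Over.homMk γ0 h2 trivial, ?_⟩
  apply MorphismProperty.Over.Hom.ext
  exact h1

/-- a chart on a good system whose section vanishes on the limit has vanishing section at some
stage -/
theorem chart_vanish_descent (hg : Good D c) (F : EtCoh.Ab X) {U : X.Etale}
    (τ : ∀ i, D.obj i ⟶ (ProEtS.eps X).obj U)
    (hτ : ∀ {i j : I} (a : i ⟶ j), D.map a ≫ τ j = τ i)
    (gI : c.pt ⟶ (ProEtS.eps X).obj U) (hgI : ∀ i, c.π.app i ≫ τ i = gI)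
    (t : F.obj.obj (op U)) (h0 : chartSec F gI t = 0) :
    ∃ i, chartSec F (τ i) t = 0 := by
  classical
  haveI hptqc := hg.pt_qc
  haveI hptqs := hg.pt_qs
  choose V v hEt hAff x' hx' U' h g' hgh hF0 using
    fun x : c.pt.left => starstar_W F c.pt U gI t h0 x
  haveI : ∀ x, Etale (v x) := hEt
  haveI : ∀ x, IsAffine (V x) := hAff
  haveI : ∀ x, QuasiCompact (v x) := fun x => inferInstance
  haveI : ∀ x, QuasiSeparated (v x) := fun x => inferInstance
  haveI : ∀ (i j : I) (a : i ⟶ j), IsAffineHom ((D ⋙ toSch X).map a) := fun i j a => hg.aff a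
  obtain ⟨i₀⟩ := (IsCofiltered.nonempty : Nonempty I)
  haveI : CompactSpace ((D ⋙ toSch X).obj i₀) := hg.qc i₀
  haveI : QuasiSeparatedSpace ((D ⋙ toSch X).obj i₀) := hg.qs i₀
  obtain ⟨i1, n, Vd, vd, xd, e, hvd, hsurj, hpb⟩ := Groth.Agent.S20011.result (D ⋙ toSch X)
    ((toSch X).mapCone c) hg.lim.some i₀ V v (fun x => ⟨x, x' x, hx' x⟩)
  haveI : ∀ d, Etale (vd d) := fun d => (hvd d).1
  haveI : ∀ d, QuasiCompact (vd d) := fun d => (hvd d).2.1
  haveI : ∀ d, QuasiSeparated (vd d) := fun d => (hvd d).2.2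
  haveI : CompactSpace (D.obj i1).left := hg.qc i1
  haveI : QuasiSeparatedSpace (D.obj i1).left := hg.qs i1
  haveI : CompactSpace ((D ⋙ toSch X).obj i1) := hg.qc i1
  haveI : QuasiSeparatedSpace ((D ⋙ toSch X).obj i1) := hg.qs i1
  have hVc : ∀ d, CompactSpace (Vd d) := fun d => QuasiCompact.compactSpace_of_compactSpace (vd d)
  have hVq : ∀ d, QuasiSeparatedSpace (Vd d) :=
    fun d => quasiSeparatedSpace_of_quasiSeparated (vd d)
  let Wd : Fin n → X.ProEt := fun d => etOver (D.obj i1) (vd d)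
  let wd : ∀ d, Wd d ⟶ D.obj i1 := fun d => etOverHom (D.obj i1) (vd d)
  haveI : ∀ d, CompactSpace (Wd d).left := hVc
  haveI : ∀ d, QuasiSeparatedSpace (Wd d).left := hVq
  -- the morphisms `etOver c.pt (v (xd d)) ⟶ Wd d`
  have hpbw : ∀ d, e d ≫ vd d = v (xd d) ≫ (c.π.app i1).left := fun d => (hpb d).w
  let ed : ∀ d, etOver c.pt (v (xd d)) ⟶ Wd d := fun d =>
    MorphismProperty.Over.homMk (e d) (by
      have e1 : (c.π.app i1).left ≫ (D.obj i1).hom = c.pt.hom :=
        MorphismProperty.Over.w (c.π.app i1)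
      show e d ≫ vd d ≫ (D.obj i1).hom = v (xd d) ≫ c.pt.hom
      rw [← Category.assoc, hpbw d, Category.assoc, e1]) trivial
  have hw : ∀ d, etOverHom c.pt (v (xd d)) ≫ c.π.app i1 = ed d ≫ wd d := fun d => by
    apply MorphismProperty.Over.Hom.ext
    exact (hpbw d).symm
  let cE : ∀ d, Cone (bcD D i1 (wd d)) := fun d =>
    coneOf D i1 (wd d) c (etOverHom c.pt (v (xd d))) (ed d) (hw d)
  have hgE : ∀ d, Good (bcD D i1 (wd d)) (cE d) := fun d =>
    good_coneOf hg i1 (wd d) _ _ (hw d) (hpb d).flip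
  -- descent of the lifts
  let τE : ∀ d (a : Over i1), (bcD D i1 (wd d)).obj a ⟶ (ProEtS.eps X).obj U :=
    fun d a => fstD D i1 (wd d) a ≫ τ a.left
  have hτE : ∀ d {a a' : Over i1} (m : a ⟶ a'), (bcD D i1 (wd d)).map m ≫ τE d a' = τE d a := by
    intro d a a' m
    show (bcD D i1 (wd d)).map m ≫ fstD D i1 (wd d) a' ≫ τ a'.left = fstD D i1 (wd d) a ≫ τ a.left
    rw [map_fstD_assoc, hτ]
  have hex : ∀ d, ∃ (a : Over i1) (γ : (bcD D i1 (wd d)).obj a ⟶ (ProEtS.eps X).obj (U' (xd d))),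
      (cE d).π.app a ≫ γ = g' (xd d) ∧ γ ≫ (ProEtS.eps X).map (h (xd d)) = τE d a := by
    intro d
    refine exists_hom_descent (hgE d) (h (xd d)) (τE d) (fun m => hτE d m) (g' (xd d)) ?_
    intro a
    rw [hgh (xd d)]
    show _ = (cE d).π.app a ≫ fstD D i1 (wd d) a ≫ τ a.left
    rw [coneOf_π_fstD_assoc, hgI]
  choose a γ hγ1 hγ2 using hex
  have hz : ∀ d, chartSec F (τE d (a d)) t = 0 := by
    intro d
    rw [← hγ2 d, chartSec_map, hF0, chartSec_zero]
  obtain ⟨aS, haS⟩ := IsCofiltered.inf_objs_exists (Finset.univ.image a)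
  have m : ∀ d, aS ⟶ a d := fun d =>
    (haS (Finset.mem_image_of_mem a (Finset.mem_univ d))).some
  have hzS : ∀ d, chartSec F (τE d aS) t = 0 := by
    intro d
    rw [← hτE d (m d), ← chartSec_comp, hz d, map_zero]
  refine ⟨aS.left, ?_⟩
  have hcov : Sieve.ofArrows Wd wd ∈ Scheme.ProEt.topology X (D.obj i1) := by
    refine ofArrows_mem Wd wd inferInstance ?_
    intro y
    obtain ⟨d, z, hz⟩ := hsurj y
    exact ⟨d, z, hz⟩
  have hS := (Scheme.ProEt.topology X).pullback_stable (D.map aS.hom) hcov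
  refine sep ((ProEtS.epsPull X).obj F) _ hS _ _ ?_
  intro Z f hf
  obtain ⟨d, k, hk⟩ := (Sieve.mem_ofArrows_iff _ _ _).1 hf
  rw [map_zero, chartSec_comp]
  have hfac : f = liftD D i1 (wd d) aS f k hk ≫ fstD D i1 (wd d) aS := (liftD_fst _ _ _ _ _ _ _).symm
  rw [hfac, Category.assoc, ← chartSec_comp]
  show ((ProEtS.epsPull X).obj F).obj.map _ (chartSec F (τE d aS) t) = 0
  rw [hzS d, map_zero]

end H9FE.ProEtL
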