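import Mathlib
import Groth.Prelude.Def_ProEtS
import Groth.Agent.Lib.Helper9.FE.ProEtL2

/-! helper9: for a good cofiltered system of objects of the small pro-étale site with limit `Y`, a
section of `ε⁻¹ F` over a stage which vanishes on `Y` vanishes at a later stage
(`section_vanish_descent`). -/

set_option autoImplicit false
set_option linter.unusedSectionVars false
set_option linter.style.haveILetI false
set_option backward.isDefEq.respectTransparency false
universe u
open CategoryTheory Limits Opposite AlgebraicGeometry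

namespace H9FE.ProEtL

open H9FE.ProEtQc H9FE.ProEtK H9FE.BCLim

variable {X : Scheme.{u}} {I : Type u} [SmallCategory I] [IsCofiltered I]
  {D : I ⥤ X.ProEt} {c : Cone D}

/-- a finite étale covering by affines with given data at each point -/
lemma exists_finite_points {Y : Scheme.{u}} [CompactSpace Y] (V : Y → Scheme.{u})
    (v : ∀ x, V x ⟶ Y) [∀ x, Etale (v x)] (x' : ∀ x, V x) (hx' : ∀ x, (v x) (x' x) = x) :
    ∃ (n : ℕ) (pt : Fin n → Y), ∀ y : Y, ∃ d, y ∈ Set.range (v (pt d)) := by
  classical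
  obtain ⟨T, hT⟩ := isCompact_univ.elim_finite_subcover (fun x : Y => Set.range (v x))
    (fun x => (v x).isOpenMap.isOpen_range) (fun y _ => Set.mem_iUnion.2 ⟨y, x' y, hx' y⟩)
  refine ⟨T.card, fun d => (T.equivFin.symm d).1, fun y => ?_⟩
  obtain ⟨x, hx⟩ := Set.mem_iUnion.1 (hT (Set.mem_univ y))
  obtain ⟨hxT, hy⟩ := Set.mem_iUnion.1 hx
  refine ⟨T.equivFin ⟨x, hxT⟩, ?_⟩
  have e : (T.equivFin.symm (T.equivFin ⟨x, hxT⟩)).1 = x := by rw [Equiv.symm_apply_apply]
  show y ∈ Set.range (v (T.equivFin.symm (T.equivFin ⟨x, hxT⟩)).1)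
  rw [e]
  exact hy

theorem section_vanish_descent (hg : Good D c) (F : EtCoh.Ab X) (i : I)
    (s : ((ProEtS.epsPull X).obj F).obj.obj (op (D.obj i)))
    (hs : ((ProEtS.epsPull X).obj F).obj.map (c.π.app i).op s = 0) :
    ∃ (j : I) (a : j ⟶ i), ((ProEtS.epsPull X).obj F).obj.map (D.map a).op s = 0 := by
  classical
  haveI : CompactSpace (D.obj i).left := hg.qc i
  haveI : QuasiSeparatedSpace (D.obj i).left := hg.qs i
  choose V v hEt hAff x' hx' U g t hgt using fun x : (D.obj i).left => star_W F (D.obj i) s x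
  haveI : ∀ x, Etale (v x) := hEt
  haveI : ∀ x, IsAffine (V x) := hAff
  obtain ⟨n, pt, hpt⟩ := exists_finite_points V v x' hx'
  let Wd : Fin n → X.ProEt := fun d => etOver (D.obj i) (v (pt d))
  let wd : ∀ d, Wd d ⟶ D.obj i := fun d => etOverHom (D.obj i) (v (pt d))
  haveI : ∀ d, IsAffine (Wd d).left := fun d => hAff (pt d)
  have hgE : ∀ d, Good (bcD D i (wd d)) (bcCone D i (wd d) c) := fun d => good_bc hg i (wd d)
  let τE : ∀ d (a : Over i), (bcD D i (wd d)).obj a ⟶ (ProEtS.eps X).obj (U (pt d)) :=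
    fun d a => sndD D i (wd d) a ≫ g (pt d)
  have hτE : ∀ d {a a' : Over i} (m : a ⟶ a'), (bcD D i (wd d)).map m ≫ τE d a' = τE d a := by
    intro d a a' m
    show (bcD D i (wd d)).map m ≫ sndD D i (wd d) a' ≫ g (pt d) = sndD D i (wd d) a ≫ g (pt d)
    rw [map_sndD_assoc]
  have hex : ∀ d, ∃ a : Over i, chartSec F (τE d a) (t (pt d)) = 0 := by
    intro d
    refine chart_vanish_descent (hgE d) F (τE d) (fun m => hτE d m)
      (sndC D i (wd d) c ≫ g (pt d)) (fun a => ?_) (t (pt d)) ?_
    · show (bcCone D i (wd d) c).π.app a ≫ sndD D i (wd d) a ≫ g (pt d) = _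
      rw [π_sndD_assoc]
    · rw [← chartSec_comp, ← hgt (pt d)]
      show ((ProEtS.epsPull X).obj F).obj.map (sndC D i (wd d) c).op
        (((ProEtS.epsPull X).obj F).obj.map (wd d).op s) = 0
      have e1 : sndC D i (wd d) c ≫ wd d = fstC D i (wd d) c ≫ c.π.app i :=
        (condC D i (wd d) c).symm
      have e2 : ((ProEtS.epsPull X).obj F).obj.map (sndC D i (wd d) c).op
          (((ProEtS.epsPull X).obj F).obj.map (wd d).op s) =
          ((ProEtS.epsPull X).obj F).obj.map (fstC D i (wd d) c).op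
            (((ProEtS.epsPull X).obj F).obj.map (c.π.app i).op s) := by
        rw [← Functor.map_comp_apply, ← op_comp, e1, op_comp, Functor.map_comp_apply]
        rfl
      exact e2.trans ((congrArg _ hs).trans (map_zero _))
  choose a ha using hex
  obtain ⟨aS, haS⟩ := IsCofiltered.inf_objs_exists (Finset.univ.image a)
  have m : ∀ d, aS ⟶ a d := fun d =>
    (haS (Finset.mem_image_of_mem a (Finset.mem_univ d))).some
  have hzS : ∀ d, chartSec F (τE d aS) (t (pt d)) = 0 := by
    intro d
    rw [← hτE d (m d), ← chartSec_comp, ha d, map_zero]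
  refine ⟨aS.left, aS.hom, ?_⟩
  have hcov : Sieve.ofArrows Wd wd ∈ Scheme.ProEt.topology X (D.obj i) :=
    ofArrows_mem Wd wd inferInstance hpt
  have hS := (Scheme.ProEt.topology X).pullback_stable (D.map aS.hom) hcov
  refine sep ((ProEtS.epsPull X).obj F) _ hS _ _ ?_
  intro Z f hf
  obtain ⟨d, k, hk⟩ := (Sieve.mem_ofArrows_iff _ _ _).1 hf
  rw [map_zero, ← Functor.map_comp_apply, ← op_comp, hk, op_comp, Functor.map_comp_apply]
  show ((ProEtS.epsPull X).obj F).obj.map k.op
    (((ProEtS.epsPull X).obj F).obj.map (etOverHom (D.obj i) (v (pt d))).op s) = 0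
  rw [hgt (pt d), chartSec_comp]
  have hfac : k = liftD D i (wd d) aS f k hk ≫ sndD D i (wd d) aS := (liftD_snd _ _ _ _ _ _ _).symm
  rw [hfac, Category.assoc, ← chartSec_comp]
  show ((ProEtS.epsPull X).obj F).obj.map _ (chartSec F (τE d aS) (t (pt d))) = 0
  rw [hzS d, map_zero]

end H9FE.ProEtL
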