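import Mathlib
import Groth.Prelude.Def_ProEtS
import Groth.Agent.Lib.Helper9.FE.ProEtL3

/-! helper9: for a good cofiltered system of objects of the small pro-étale site with limit `Y`,
every section of `ε⁻¹ F` over `Y` comes from a stage (`section_descent`): auxiliary statements on
a covering family at a stage whose base changes to `Y` carry sections at a stage `a1`. -/

set_option autoImplicit false
set_option linter.unusedSectionVars false
set_option linter.style.haveILetI false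
set_option backward.isDefEq.respectTransparency false
universe u
open CategoryTheory Limits Opposite AlgebraicGeometry

namespace H9FE.ProEtL

open H9FE.ProEtQc H9FE.ProEtK H9FE.BCLim

variable {X : Scheme.{u}} {I : Type u} [SmallCategory I] [IsCofiltered I]
  {D : I ⥤ X.ProEt} {c : Cone D}

/-- the presheaf underlying `ε⁻¹ F` -/
noncomputable abbrev GF (F : EtCoh.Ab X) : X.ProEtᵒᵖ ⥤ AddCommGrpCat.{u + 1} :=
  ((ProEtS.epsPull X).obj F).obj

section Surj

variable (F : EtCoh.Ab X)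

variable (s : (GF F).obj (op c.pt))
  {i1 : I} {n : ℕ} {Wd : Fin n → X.ProEt} (wd : ∀ d, Wd d ⟶ D.obj i1)
  {P : Fin n → X.ProEt} (p1 : ∀ d, P d ⟶ c.pt) (p2 : ∀ d, P d ⟶ Wd d)
  (hw : ∀ d, p1 d ≫ c.π.app i1 = p2 d ≫ wd d)
  (hPB : ∀ d, IsPullback (p1 d) (p2 d) (c.π.app i1) (wd d))
  (a1 : Over i1) (σ1 : ∀ d, (GF F).obj (op ((bcD D i1 (wd d)).obj a1)))
  (hσ1 : ∀ d, (GF F).map ((coneOf D i1 (wd d) c (p1 d) (p2 d) (hw d)).π.app a1).op (σ1 d) =
    (GF F).map (p1 d).op s)

include hPB hσ1 in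
/-- the sections `σ1 d` restrict to `s` on every object over the limit -/
lemma key (d : Fin n) {Z : X.ProEt} (fZ : Z ⟶ c.pt) (q : Z ⟶ (bcD D i1 (wd d)).obj a1)
    (hq : q ≫ fstD D i1 (wd d) a1 = fZ ≫ c.π.app a1.left) :
    (GF F).map q.op (σ1 d) = (GF F).map fZ.op s := by
  have hcomm : fZ ≫ c.π.app i1 = (q ≫ sndD D i1 (wd d) a1) ≫ wd d := by
    rw [Category.assoc, ← condD, ← Category.assoc, hq, Category.assoc, c.w]
  let r : Z ⟶ P d := (hPB d).lift fZ (q ≫ sndD D i1 (wd d) a1) hcomm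
  have hr1 : r ≫ p1 d = fZ := (hPB d).lift_fst _ _ _
  have hr2 : r ≫ p2 d = q ≫ sndD D i1 (wd d) a1 := (hPB d).lift_snd _ _ _
  obtain ⟨πd, hπd⟩ : ∃ πd : P d ⟶ (bcD D i1 (wd d)).obj a1,
      πd = (coneOf D i1 (wd d) c (p1 d) (p2 d) (hw d)).π.app a1 := ⟨_, rfl⟩
  have hπ1 : πd ≫ fstD D i1 (wd d) a1 = p1 d ≫ c.π.app a1.left := by
    rw [hπd]; exact coneOf_π_fstD _ _ _ _ _ _ _ _
  have hπ2 : πd ≫ sndD D i1 (wd d) a1 = p2 d := by
    rw [hπd]; exact coneOf_π_sndD _ _ _ _ _ _ _ _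
  have hσ' : (GF F).map πd.op (σ1 d) = (GF F).map (p1 d).op s := by
    rw [hπd]; exact hσ1 d
  have hrq : r ≫ πd = q := by
    apply hom_extD
    · rw [Category.assoc, hπ1, ← Category.assoc, hr1, hq]
    · rw [Category.assoc, hπ2, hr2]
  rw [← hrq, op_comp, Functor.map_comp_apply, hσ', ← Functor.map_comp_apply, ← op_comp, hr1]

/-- the difference of two of the sections on an overlap -/
noncomputable def delta (d d' : Fin n) :
    (GF F).obj (op (pullback (fstD D i1 (wd d) a1) (fstD D i1 (wd d') a1))) :=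
  (GF F).map (pullback.fst (fstD D i1 (wd d) a1) (fstD D i1 (wd d') a1)).op (σ1 d) -
    (GF F).map (pullback.snd (fstD D i1 (wd d) a1) (fstD D i1 (wd d') a1)).op (σ1 d')

/-- the structure map of an overlap -/
noncomputable def wO (d d' : Fin n) :
    pullback (fstD D i1 (wd d) a1) (fstD D i1 (wd d') a1) ⟶ D.obj a1.left :=
  pullback.fst _ _ ≫ fstD D i1 (wd d) a1

include hPB hσ1 in
/-- the differences on the overlaps vanish after base change to a later stage -/
lemma delta_vanish_stage (hg : Good D c) (hWc : ∀ d, CompactSpace (Wd d).left)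
    (hWq : ∀ d, QuasiSeparatedSpace (Wd d).left) (d d' : Fin n) :
    ∃ a2 : Over a1.left,
      (GF F).map (sndD D a1.left (wO wd a1 d d') a2).op (delta F wd a1 σ1 d d') = 0 := by
  haveI := hWc
  haveI := hWq
  have hV : D.obj a1.left ∈ qcB X := ⟨hg.qc _, hg.qs _⟩
  have h1 : ∀ d, (bcD D i1 (wd d)).obj a1 ∈ qcB X := fun d =>
    ⟨(good_bc hg i1 (wd d)).qc a1, (good_bc hg i1 (wd d)).qs a1⟩
  have hO := pullback_mem_qcB (fstD D i1 (wd d) a1) (fstD D i1 (wd d') a1) hV (h1 d) (h1 d')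
  haveI : CompactSpace (pullback (fstD D i1 (wd d) a1) (fstD D i1 (wd d') a1)).left := hO.1
  haveI : QuasiSeparatedSpace (pullback (fstD D i1 (wd d) a1) (fstD D i1 (wd d') a1)).left := hO.2
  have hgO := good_bc hg a1.left (wO wd a1 d d')
  let a0 : Over a1.left := Over.mk (𝟙 a1.left)
  obtain ⟨π0, hπ0⟩ : ∃ π0 : (bcCone D a1.left (wO wd a1 d d') c).pt ⟶
      (bcD D a1.left (wO wd a1 d d')).obj a0,
      π0 = (bcCone D a1.left (wO wd a1 d d') c).π.app a0 := ⟨_, rfl⟩
  have hπ0s : π0 ≫ sndD D a1.left (wO wd a1 d d') a0 = sndC D a1.left (wO wd a1 d d') c := by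
    rw [hπ0]; exact π_sndD _ _ _ _ _
  have hk1 := key F s wd p1 p2 hw hPB a1 σ1 hσ1 d (fstC D a1.left (wO wd a1 d d') c)
    (sndC D a1.left (wO wd a1 d d') c ≫ pullback.fst _ _) (by
      rw [Category.assoc]
      exact (condC D a1.left (wO wd a1 d d') c).symm)
  have hk2 := key F s wd p1 p2 hw hPB a1 σ1 hσ1 d' (fstC D a1.left (wO wd a1 d d') c)
    (sndC D a1.left (wO wd a1 d d') c ≫ pullback.snd _ _) (by
      rw [Category.assoc, ← pullback.condition]
      exact (condC D a1.left (wO wd a1 d d') c).symm)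
  have hvan : (GF F).map π0.op ((GF F).map (sndD D a1.left (wO wd a1 d d') a0).op
      (delta F wd a1 σ1 d d')) = 0 := by
    rw [← Functor.map_comp_apply, ← op_comp, hπ0s]
    unfold delta
    rw [map_sub, ← Functor.map_comp_apply, ← Functor.map_comp_apply, ← op_comp, ← op_comp,
      hk1, hk2, sub_self]
  have hvan' : (GF F).map ((bcCone D a1.left (wO wd a1 d d') c).π.app a0).op
      ((GF F).map (sndD D a1.left (wO wd a1 d d') a0).op (delta F wd a1 σ1 d d')) = 0 := by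
    rw [← hπ0]; exact hvan
  obtain ⟨a2, mm, h2⟩ := section_vanish_descent hgO F a0 _ hvan'
  refine ⟨a2, ?_⟩
  rw [← Functor.map_comp_apply, ← op_comp, map_sndD] at h2
  exact h2

/-- the composite stage -/
abbrev a3 (a2 : Over a1.left) : Over i1 := Over.mk (a2.hom ≫ a1.hom)

/-- the transition from the composite stage to the stage `a1` -/
abbrev m3 (a2 : Over a1.left) : a3 a1 a2 ⟶ a1 := Over.homMk a2.hom rfl

/-- the sections at the composite stage -/
noncomputable def σ2 (a2 : Over a1.left) (d : Fin n) :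
    (GF F).obj (op ((bcD D i1 (wd d)).obj (a3 a1 a2))) :=
  (GF F).map ((bcD D i1 (wd d)).map (m3 a1 a2)).op (σ1 d)

lemma lift_map_fst (a2 : Over a1.left) {Z : X.ProEt} (f : Z ⟶ D.obj a2.left) (d : Fin n)
    (k : Z ⟶ Wd d) (hk : f ≫ D.map (a2.hom ≫ a1.hom) = k ≫ wd d) :
    (liftD D i1 (wd d) (a3 a1 a2) f k hk ≫ (bcD D i1 (wd d)).map (m3 a1 a2)) ≫
      fstD D i1 (wd d) a1 = f ≫ D.map a2.hom := by
  rw [Category.assoc, map_fstD, ← Category.assoc, liftD_fst]
  rfl

/-- independence of the restriction of the sections of the choice of the member of the covering -/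
lemma wd_indep (a2 : Over a1.left)
    (hO2 : ∀ d d', (GF F).map (sndD D a1.left (wO wd a1 d d') a2).op
      (delta F wd a1 σ1 d d') = 0)
    {Z : X.ProEt} (f : Z ⟶ D.obj a2.left) (d d' : Fin n) (k : Z ⟶ Wd d) (k' : Z ⟶ Wd d')
    (hk : f ≫ D.map (a2.hom ≫ a1.hom) = k ≫ wd d)
    (hk' : f ≫ D.map (a2.hom ≫ a1.hom) = k' ≫ wd d') :
    (GF F).map (liftD D i1 (wd d) (a3 a1 a2) f k hk).op (σ2 F wd a1 σ1 a2 d) =
      (GF F).map (liftD D i1 (wd d') (a3 a1 a2) f k' hk').op (σ2 F wd a1 σ1 a2 d') := by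
  have e1 := lift_map_fst wd a1 a2 f d k hk
  have e1' := lift_map_fst wd a1 a2 f d' k' hk'
  obtain ⟨o, ho1, ho2⟩ : ∃ o : Z ⟶ pullback (fstD D i1 (wd d) a1) (fstD D i1 (wd d') a1),
      o ≫ pullback.fst _ _ = liftD D i1 (wd d) (a3 a1 a2) f k hk ≫
        (bcD D i1 (wd d)).map (m3 a1 a2) ∧
      o ≫ pullback.snd _ _ = liftD D i1 (wd d') (a3 a1 a2) f k' hk' ≫
        (bcD D i1 (wd d')).map (m3 a1 a2) :=
    ⟨pullback.lift _ _ (e1.trans e1'.symm), pullback.lift_fst _ _ _, pullback.lift_snd _ _ _⟩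
  have ho : f ≫ D.map a2.hom = o ≫ wO wd a1 d d' := by
    unfold wO
    rw [← Category.assoc, ho1, e1]
  have hz : (GF F).map o.op (delta F wd a1 σ1 d d') = 0 := by
    have h := congrArg ((GF F).map (liftD D a1.left (wO wd a1 d d') a2 f o ho).op) (hO2 d d')
    rw [map_zero, ← Functor.map_comp_apply, ← op_comp, liftD_snd] at h
    exact h
  unfold delta at hz
  rw [map_sub, ← Functor.map_comp_apply, ← Functor.map_comp_apply, ← op_comp, ← op_comp,
    ho1, ho2, sub_eq_zero] at hz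
  unfold σ2
  rw [← Functor.map_comp_apply, ← Functor.map_comp_apply, ← op_comp, ← op_comp]
  exact hz

end Surj

end H9FE.ProEtL
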