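import Mathlib
import Groth.Prelude.Def_ProEtS
import Groth.Agent.Lib.Helper9.FE.ProEtL4

/-! helper9: for a good cofiltered system of objects of the small pro-étale site with limit `Y`,
every section of `ε⁻¹ F` over `Y` comes from a stage (`section_descent`). -/

set_option autoImplicit false
set_option linter.unusedSectionVars false
set_option linter.style.haveILetI false
set_option backward.isDefEq.respectTransparency false
universe u
open CategoryTheory Limits Opposite AlgebraicGeometry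

namespace H9FE.ProEtL

open H9FE.ProEtQc H9FE.ProEtK H9FE.BCLim

variable {X : Scheme.{u}} {I : Type u} [SmallCategory I] [IsCofiltered I]
  {D : I ⥤ X.ProEt} {c : Cone D}

set_option maxHeartbeats 1600000 in
theorem section_descent (hg : Good D c) (F : EtCoh.Ab X) (s : (GF F).obj (op c.pt)) :
    ∃ (i : I) (si : (GF F).obj (op (D.obj i))), (GF F).map (c.π.app i).op si = s := by
  classical
  haveI hptqc := hg.pt_qc
  haveI hptqs := hg.pt_qs
  choose V v hEt hAff x' hx' U g t hgt using fun x : c.pt.left => star_W F c.pt s x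
  haveI : ∀ x, Etale (v x) := hEt
  haveI : ∀ x, IsAffine (V x) := hAff
  haveI : ∀ x, QuasiCompact (v x) := fun x => inferInstance
  haveI : ∀ x, QuasiSeparated (v x) := fun x => inferInstance
  haveI : ∀ (i j : I) (a : i ⟶ j), IsAffineHom ((D ⋙ toSch X).map a) := fun i j a => hg.aff a
  obtain ⟨i₀⟩ := (IsCofiltered.nonempty : Nonempty I)
  haveI : CompactSpace ((D ⋙ toSch X).obj i₀) := hg.qc i₀
  haveI : QuasiSeparatedSpace ((D ⋙ toSch X).obj i₀) := hg.qs i₀
  obtain ⟨i1, n, Vd, vd, xd, e, hvd, hsurj, hpb⟩ := Groth.Agent.S20011.result (D ⋙ toSch X)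
    ((toSch X).mapCone c) hg.lim.some i₀ V v (fun x => ⟨x, x' x, hx' x⟩)
  haveI : ∀ d, Etale (vd d) := fun d => (hvd d).1
  haveI : ∀ d, QuasiCompact (vd d) := fun d => (hvd d).2.1
  haveI : ∀ d, QuasiSeparated (vd d) := fun d => (hvd d).2.2
  haveI : CompactSpace (D.obj i1).left := hg.qc i1
  haveI : QuasiSeparatedSpace (D.obj i1).left := hg.qs i1
  haveI : CompactSpace ((D ⋙ toSch X).obj i1) := hg.qc i1
  haveI : QuasiSeparatedSpace ((D ⋙ toSch X).obj i1) := hg.qs i1
  have hVc : ∀ d, CompactSpace (Vd d) := fun d => QuasiCompact.compactSpace_of_compactSpace (vd d)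
  have hVq : ∀ d, QuasiSeparatedSpace (Vd d) :=
    fun d => quasiSeparatedSpace_of_quasiSeparated (vd d)
  let Wd : Fin n → X.ProEt := fun d => etOver (D.obj i1) (vd d)
  let wd : ∀ d, Wd d ⟶ D.obj i1 := fun d => etOverHom (D.obj i1) (vd d)
  have hWc : ∀ d, CompactSpace (Wd d).left := hVc
  have hWq : ∀ d, QuasiSeparatedSpace (Wd d).left := hVq
  haveI := hWc
  haveI := hWq
  have hpbw : ∀ d, e d ≫ vd d = v (xd d) ≫ (c.π.app i1).left := fun d => (hpb d).w
  let ed : ∀ d, etOver c.pt (v (xd d)) ⟶ Wd d := fun d =>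
    MorphismProperty.Over.homMk (e d) (by
      have e1 : (c.π.app i1).left ≫ (D.obj i1).hom = c.pt.hom :=
        MorphismProperty.Over.w (c.π.app i1)
      show e d ≫ vd d ≫ (D.obj i1).hom = v (xd d) ≫ c.pt.hom
      rw [← Category.assoc, hpbw d, Category.assoc, e1]) trivial
  have hw : ∀ d, etOverHom c.pt (v (xd d)) ≫ c.π.app i1 = ed d ≫ wd d := fun d => by
    apply MorphismProperty.Over.Hom.ext
    exact (hpbw d).symm
  have hPB : ∀ d, IsPullback (etOverHom c.pt (v (xd d))) (ed d) (c.π.app i1) (wd d) :=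
    fun d => IsPullback.of_map (toSch X) (hw d) (hpb d).flip
  have hgE : ∀ d, Good (bcD D i1 (wd d))
      (coneOf D i1 (wd d) c (etOverHom c.pt (v (xd d))) (ed d) (hw d)) := fun d =>
    good_coneOf hg i1 (wd d) _ _ (hw d) (hpb d).flip
  -- descent of the charts
  choose a γ hγ using fun d => exists_hom_descent₀ (hgE d) (g (xd d))
  obtain ⟨a1, ha1⟩ := IsCofiltered.inf_objs_exists (Finset.univ.image a)
  have m : ∀ d, a1 ⟶ a d := fun d =>
    (ha1 (Finset.mem_image_of_mem a (Finset.mem_univ d))).some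
  let σ1 : ∀ d, (GF F).obj (op ((bcD D i1 (wd d)).obj a1)) := fun d =>
    chartSec F ((bcD D i1 (wd d)).map (m d) ≫ γ d) (t (xd d))
  have hσ1 : ∀ d, (GF F).map
      ((coneOf D i1 (wd d) c (etOverHom c.pt (v (xd d))) (ed d) (hw d)).π.app a1).op (σ1 d) =
      (GF F).map (etOverHom c.pt (v (xd d))).op s := by
    intro d
    rw [hgt (xd d)]
    show (GF F).map _ (chartSec F _ _) = _
    rw [chartSec_comp, ← Category.assoc,
      (coneOf D i1 (wd d) c (etOverHom c.pt (v (xd d))) (ed d) (hw d)).w (m d), hγ d]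
    rfl
  -- the overlaps
  have hO : ∀ d d', ∃ a2 : Over a1.left,
      (GF F).map (sndD D a1.left (wO wd a1 d d') a2).op (delta F wd a1 σ1 d d') = 0 :=
    fun d d' => delta_vanish_stage F s wd _ _ hw hPB a1 σ1 hσ1 hg hWc hWq d d'
  choose a2' ha2' using hO
  obtain ⟨a2, ha2⟩ := IsCofiltered.inf_objs_exists
    (Finset.univ.image (fun p : Fin n × Fin n => a2' p.1 p.2))
  have hO2 : ∀ d d', (GF F).map (sndD D a1.left (wO wd a1 d d') a2).op
      (delta F wd a1 σ1 d d') = 0 := by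
    intro d d'
    obtain ⟨mm⟩ := ha2 (Finset.mem_image_of_mem (fun p : Fin n × Fin n => a2' p.1 p.2)
      (Finset.mem_univ (d, d')))
    have h := congrArg ((GF F).map ((bcD D a1.left (wO wd a1 d d')).map mm).op) (ha2' d d')
    rw [map_zero, ← Functor.map_comp_apply, ← op_comp, map_sndD] at h
    exact h
  -- gluing
  have hcov : Sieve.ofArrows Wd wd ∈ Scheme.ProEt.topology X (D.obj i1) := by
    refine ofArrows_mem Wd wd inferInstance ?_
    intro y
    obtain ⟨d, z, hz⟩ := hsurj y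
    exact ⟨d, z, hz⟩
  have hS2 := (Scheme.ProEt.topology X).pullback_stable (D.map (a2.hom ≫ a1.hom)) hcov
  have hmem : ∀ {Z : X.ProEt} (f : Z ⟶ D.obj a2.left),
      (Sieve.pullback (D.map (a2.hom ≫ a1.hom)) (Sieve.ofArrows Wd wd)) f →
      ∃ (d : Fin n) (k : Z ⟶ Wd d), f ≫ D.map (a2.hom ≫ a1.hom) = k ≫ wd d :=
    fun f hf => (Sieve.mem_ofArrows_iff _ _ _).1 hf
  obtain ⟨s2, hs2⟩ := glue ((ProEtS.epsPull X).obj F) _ hS2
    (fun Z f hf => (GF F).map (liftD D i1 (wd (hmem f hf).choose) (a3 a1 a2) f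
      (hmem f hf).choose_spec.choose (hmem f hf).choose_spec.choose_spec).op
        (σ2 F wd a1 σ1 a2 (hmem f hf).choose))
    (by
      intro Z Z' f hf k0
      have hk := (hmem f hf).choose_spec.choose_spec
      have hk0 : (k0 ≫ f) ≫ D.map (a2.hom ≫ a1.hom) =
          (k0 ≫ (hmem f hf).choose_spec.choose) ≫ wd (hmem f hf).choose :=
        (Category.assoc k0 f _).trans ((congrArg (fun z => k0 ≫ z) hk).trans
          (Category.assoc k0 _ _).symm)
      have e0 : k0 ≫ liftD D i1 (wd (hmem f hf).choose) (a3 a1 a2) f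
          (hmem f hf).choose_spec.choose hk =
          liftD D i1 (wd (hmem f hf).choose) (a3 a1 a2) (k0 ≫ f)
            (k0 ≫ (hmem f hf).choose_spec.choose) hk0 := by
        apply hom_extD
        · rw [Category.assoc, liftD_fst, liftD_fst]
        · rw [Category.assoc, liftD_snd, liftD_snd]
      rw [← Functor.map_comp_apply, ← op_comp, e0]
      exact wd_indep F wd a1 σ1 a2 hO2 (k0 ≫ f) _ _ _ _ hk0 _)
  refine ⟨a2.left, s2, ?_⟩
  obtain ⟨πi1, hπi1⟩ : ∃ π : c.pt ⟶ D.obj i1, π = c.π.app i1 := ⟨_, rfl⟩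
  obtain ⟨πa2, hπa2⟩ : ∃ π : c.pt ⟶ D.obj a2.left, π = c.π.app a2.left := ⟨_, rfl⟩
  have hw2 : πa2 ≫ D.map (a2.hom ≫ a1.hom) = πi1 := by
    rw [hπa2, hπi1]; exact c.w (a2.hom ≫ a1.hom)
  have hw1 : πa2 ≫ D.map a2.hom = c.π.app a1.left := by
    rw [hπa2]; exact c.w a2.hom
  have hSinf := (Scheme.ProEt.topology X).pullback_stable πi1 hcov
  show (GF F).map (c.π.app a2.left).op s2 = s
  rw [← hπa2]
  refine sep ((ProEtS.epsPull X).obj F) _ hSinf _ _ ?_
  intro Z f hf
  obtain ⟨d, k, hk⟩ := (Sieve.mem_ofArrows_iff _ _ _).1 hf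
  have hk2 : (f ≫ πa2) ≫ D.map (a2.hom ≫ a1.hom) = k ≫ wd d := by
    rw [Category.assoc, hw2, hk]
  have hf2 : (Sieve.pullback (D.map (a2.hom ≫ a1.hom)) (Sieve.ofArrows Wd wd)) (f ≫ πa2) :=
    (Sieve.mem_ofArrows_iff _ _ _).2 ⟨d, k, hk2⟩
  have h1 := hs2 (f ≫ πa2) hf2
  show (GF F).map f.op ((GF F).map πa2.op s2) = (GF F).map f.op s
  rw [← Functor.map_comp_apply, ← op_comp]
  refine h1.trans ?_
  refine (wd_indep F wd a1 σ1 a2 hO2 (f ≫ πa2) _ d _ k _ hk2).trans ?_
  unfold σ2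
  rw [← Functor.map_comp_apply, ← op_comp]
  refine key F s wd _ _ hw hPB a1 σ1 hσ1 d f _ ?_
  rw [lift_map_fst, Category.assoc, hw1]

end H9FE.ProEtL
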