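import Mathlib
import Groth.Prelude.Def_ProEtS
import Groth.Agent.Lib.Helper9.FE.ProEtL5
import Groth.Agent.Lib.Helper9.FE.ProEtE2

/-! helper9: base change of objects over a stage of a cofiltered system of étale objects, as
functors of the object: for `De : Λ ⥤ X.Etale`, a cone `c` over `De ⋙ ε` and a stage `j`, the
functors `Φ b : Over (De j) ⥤ X.ProEt`, `W ↦ ε(De b) ×_{ε(De j)} εW` (functorial in `b : Over j`),
`Φ∞ : W ↦ c.pt ×_{ε(De j)} εW`, the induced filtered system of presheaves `W ↦ P(Φ b W)` with its
cocone to `W ↦ P(Φ∞ W)`, and the comparison isomorphisms with the base change functors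
`Over.pullback`. -/

set_option autoImplicit false
set_option linter.unusedSectionVars false
set_option linter.style.haveILetI false
set_option backward.isDefEq.respectTransparency false
universe u
open CategoryTheory Limits Opposite AlgebraicGeometry

namespace H9FE.PCBase

open H9FE.ProEtQc H9FE.ProEtK H9FE.BCLim H9FE.ProEtL H9FE.ProEtE

variable {X : Scheme.{u}} {Λ : Type u} [SmallCategory Λ] (De : Λ ⥤ X.Etale)
  (c : Cone (De ⋙ ProEtS.eps X)) (j : Λ)

/-- the system in the pro-étale site -/
noncomputable abbrev Dp : Λ ⥤ X.ProEt := De ⋙ ProEtS.eps X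

/-- the structure map of `εW` -/
noncomputable abbrev vW (W : Over (De.obj j)) : (ProEtS.eps X).obj W.left ⟶ (Dp De).obj j :=
  (ProEtS.eps X).map W.hom

lemma vW_w {W W' : Over (De.obj j)} (g : W ⟶ W') :
    (ProEtS.eps X).map g.left ≫ vW De j W' = vW De j W := by
  rw [← (ProEtS.eps X).map_comp, Over.w g]

/-- base change to the stage `b` -/
noncomputable def Φobj (b : Over j) : Over (De.obj j) ⥤ X.ProEt where
  obj W := (bcD (Dp De) j (vW De j W)).obj b
  map {W W'} g := liftD (Dp De) j (vW De j W') b (fstD (Dp De) j (vW De j W) b)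
    (sndD (Dp De) j (vW De j W) b ≫ (ProEtS.eps X).map g.left) (by
      rw [condD, Category.assoc, vW_w])
  map_id W := by
    apply hom_extD
    · simp
    · simp
  map_comp g g' := by
    apply hom_extD
    · simp
    · simp

/-- the transition between stages -/
noncomputable def Φmap {b b' : Over j} (f : b ⟶ b') : Φobj De j b ⟶ Φobj De j b' where
  app W := (bcD (Dp De) j (vW De j W)).map f
  naturality W W' g := by
    apply hom_extD
    · simp [Φobj]
    · simp [Φobj]

/-- base change to the stages, as a functor of the stage -/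
noncomputable def Φ : Over j ⥤ (Over (De.obj j) ⥤ X.ProEt) where
  obj b := Φobj De j b
  map f := Φmap De j f
  map_id b := by
    ext W
    exact (bcD (Dp De) j (vW De j W)).map_id b
  map_comp f f' := by
    ext W
    exact (bcD (Dp De) j (vW De j W)).map_comp f f'

/-- base change to the vertex of the cone -/
noncomputable def Φinf : Over (De.obj j) ⥤ X.ProEt where
  obj W := (bcCone (Dp De) j (vW De j W) c).pt
  map {W W'} g := liftC (Dp De) j (vW De j W') c (fstC (Dp De) j (vW De j W) c)
    (sndC (Dp De) j (vW De j W) c ≫ (ProEtS.eps X).map g.left) (by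
      rw [condC, Category.assoc, vW_w])
  map_id W := by
    apply pullback.hom_ext
    · simp [liftC, fstC, sndC, bcCone]
    · simp [liftC, fstC, sndC, bcCone]
  map_comp g g' := by
    apply pullback.hom_ext
    · simp [liftC, fstC, sndC, bcCone]
    · simp [liftC, fstC, sndC, bcCone]

/-- the projection from the vertex to a stage -/
noncomputable def κ (b : Over j) : Φinf De c j ⟶ Φobj De j b where
  app W := (bcCone (Dp De) j (vW De j W) c).π.app b
  naturality W W' g := by
    apply hom_extD
    · simp [Φobj, Φinf]
    · simp [Φobj, Φinf]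

lemma κ_Φmap {b b' : Over j} (f : b ⟶ b') : κ De c j b ≫ Φmap De j f = κ De c j b' := by
  ext W
  exact (bcCone (Dp De) j (vW De j W) c).w f

variable (P : X.ProEtᵒᵖ ⥤ AddCommGrpCat.{u + 1})

/-- the filtered system of presheaves `W ↦ P(Φ b W)` -/
noncomputable def Rf : (Over j)ᵒᵖ ⥤ ((Over (De.obj j))ᵒᵖ ⥤ AddCommGrpCat.{u + 1}) :=
  (Φ De j).op ⋙ Functor.opHom _ _ ⋙ (Functor.whiskeringRight _ _ _).obj P

/-- its cocone with vertex `W ↦ P(Φ∞ W)` -/
noncomputable def cR : Cocone (Rf De j P) where
  pt := (Φinf De c j).op ⋙ P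
  ι :=
    { app := fun b => Functor.whiskerRight (NatTrans.op (κ De c j b.unop)) P
      naturality := fun b b' f => by
        apply NatTrans.ext
        funext W
        change P.map ((Φmap De j f.unop).app W.unop).op ≫ P.map ((κ De c j b'.unop).app W.unop).op =
          P.map ((κ De c j b.unop).app W.unop).op ≫ 𝟙 _
        rw [Category.comp_id, ← P.map_comp, ← op_comp]
        congr 2
        exact congrArg (fun t => t.app W.unop) (κ_Φmap De c j f.unop) }

lemma Rf_obj (b : Over j) : (Rf De j P).obj (op b) = (Φobj De j b).op ⋙ P := rfl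

lemma Rf_map_app {b b' : Over j} (f : b ⟶ b') (W : Over (De.obj j)) :
    ((Rf De j P).map f.op).app (op W) = P.map ((bcD (Dp De) j (vW De j W)).map f).op := rfl

lemma cR_ι_app (b : Over j) (W : Over (De.obj j)) :
    ((cR De c j P).ι.app (op b)).app (op W) =
      P.map ((bcCone (Dp De) j (vW De j W) c).π.app b).op := rfl

end H9FE.PCBase
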