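import Mathlib
import Groth.Prelude.Def_ProEtS
import Groth.Agent.Lib.Helper9.FE.PCBase

/-! helper9: base change of a good cofiltered system of étale `Y`-schemes along a quasi-compact
quasi-separated morphism `f : X ⟶ Y` is a good system of étale `X`-schemes, whose limit is the base
change of the limit; the cartesian square of base change on the small pro-étale sites. -/

set_option autoImplicit false
set_option linter.unusedSectionVars false
set_option linter.style.haveILetI false
set_option backward.isDefEq.respectTransparency false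
universe u
open CategoryTheory Limits Opposite AlgebraicGeometry

namespace H9FE.PBC

open H9FE.ProEtQc H9FE.ProEtL H9FE.PCBase

variable {X Y : Scheme.{u}} (f : X ⟶ Y)

/-- for `g : V ⟶ U` in `Y.ProEt`, the square with corners `V ×_Y X, U ×_Y X, V, U` is cartesian -/
theorem isPullback_bcP_map {U V : Y.ProEt} (g : V ⟶ U) :
    IsPullback ((ProEtS.bcP f).map g).left
      (pullback.fst V.hom f : ((ProEtS.bcP f).obj V).left ⟶ V.left)
      (pullback.fst U.hom f : ((ProEtS.bcP f).obj U).left ⟶ U.left) g.left := by
  have e1 : ((ProEtS.bcP f).map g).left ≫ pullback.snd U.hom f = pullback.snd V.hom f :=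
    pullback.lift_snd _ _ _
  have e2 : g.left ≫ U.hom = V.hom := MorphismProperty.Over.w g
  refine IsPullback.of_right (h₁₂ := pullback.snd U.hom f) (v₁₃ := f) (h₂₂ := U.hom) ?_ ?_
    (IsPullback.of_hasPullback U.hom f).flip
  · exact (congrArg₂ (fun a d => IsPullback a (pullback.fst V.hom f) f d) e1 e2).mpr
      (IsPullback.of_hasPullback V.hom f).flip
  · exact pullback.lift_fst _ _ _

variable {Λ : Type u} [SmallCategory Λ] [IsCofiltered Λ]
  (De : Λ ⥤ Y.Etale) (c : Cone (De ⋙ ProEtS.eps Y))

/-- the base-changed system of étale objects -/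
noncomputable abbrev DeX : Λ ⥤ X.Etale := De ⋙ EtCoh.bc f

/-- the base-changed cone -/
noncomputable def cX : Cone (DeX f De ⋙ ProEtS.eps X) := (ProEtS.bcP f).mapCone c

lemma cX_pt : (cX f De c).pt = (ProEtS.bcP f).obj c.pt := rfl

lemma cX_π (j : Λ) : (cX f De c).π.app j = (ProEtS.bcP f).map (c.π.app j) := rfl

variable [QuasiCompact f] [QuasiSeparated f]

theorem good_cX (hg : Good (Dp De) c) : Good (Dp (DeX f De)) (cX f De c) where
  lim := by
    obtain ⟨hl⟩ := hg.lim
    haveI : IsConnected Λ := IsCofiltered.isConnected Λ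
    have h1 : IsLimit ((Over.forget Y).mapCone ((Scheme.ProEt.forget Y).mapCone c)) := hl
    have h2 : IsLimit ((Scheme.ProEt.forget Y).mapCone c) := isLimitOfReflects (Over.forget Y) h1
    haveI : PreservesLimitsOfSize.{u, u} (Over.pullback f) :=
      (Over.mapPullbackAdj f).rightAdjoint_preservesLimits
    have h3 : IsLimit ((Over.pullback f).mapCone ((Scheme.ProEt.forget Y).mapCone c)) :=
      isLimitOfPreserves (Over.pullback f) h2
    have h4 : IsLimit ((Over.forget X).mapCone
        ((Over.pullback f).mapCone ((Scheme.ProEt.forget Y).mapCone c))) :=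
      isLimitOfPreserves (Over.forget X) h3
    exact ⟨h4⟩
  aff := fun {i j} a =>
    MorphismProperty.of_isPullback (P := @IsAffineHom)
      (EtCoh.isPullback_bc_map f (De.map a)).flip (hg.aff a)
  qc := fun j => by
    haveI : CompactSpace (De.obj j).left := hg.qc j
    haveI : CompactSpace ↥((𝟭 Scheme).obj (De.obj j).left) := hg.qc j
    exact QuasiCompact.compactSpace_of_compactSpace
      (pullback.fst (De.obj j).hom f : ((EtCoh.bc f).obj (De.obj j)).left ⟶ (De.obj j).left)
  qs := fun j => by
    haveI : QuasiSeparatedSpace (De.obj j).left := hg.qs j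
    haveI : QuasiSeparatedSpace ↥((𝟭 Scheme).obj (De.obj j).left) := hg.qs j
    exact quasiSeparatedSpace_of_quasiSeparated
      (pullback.fst (De.obj j).hom f : ((EtCoh.bc f).obj (De.obj j)).left ⟶ (De.obj j).left)

end H9FE.PBC
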