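import Mathlib
import Groth.Prelude.Def_EtCech
import Groth.Agent.Lib.Helper9.FE.CechCartanG
import Groth.Agent.Lib.Helper9.FE.SiteHUColim

/-! helper9: Leray's acyclic covering theorem on an arbitrary site, in its vanishing form: if a
covering family of `U` has all iterated fibre products acyclic for a sheaf `F` and the positive
Čech cohomology of `F` for the family vanishes, then `Ext^{p+1}(Z, F) = 0` for the sheaf `Z`
corepresenting sections over `U`. Also the transport of corepresentations along isomorphisms. -/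

set_option autoImplicit false
set_option linter.unusedSectionVars false
set_option linter.style.haveILetI false
universe w' w v u
open CategoryTheory Limits Opposite Abelian

namespace H9FE.CechLeray

open Groth.Agent.Helper3 Groth.Agent.Helper3.CechDeltaG H9FE.CechCartanG H9FE.SiteHUColim

section ReprIso

variable {C : Type u} [Category.{v} C] {Jt : GrothendieckTopology C}

/-- transport of a corepresentation along an isomorphism -/
def reprOfIso {Z : Sheaf Jt AddCommGrpCat.{w}} {U U' : C} (R : Repr Z U) (e : U ≅ U') :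
    Repr Z U' where
  e G := (R.e G).trans
    { toFun := fun x => (G.obj.map e.inv.op).hom x
      invFun := fun x => (G.obj.map e.hom.op).hom x
      left_inv := fun x => by
        have h : G.obj.map e.inv.op ≫ G.obj.map e.hom.op = 𝟙 _ := by
          rw [← CategoryTheory.Functor.map_comp, ← op_comp, e.hom_inv_id, op_id, CategoryTheory.Functor.map_id]
        exact ConcreteCategory.congr_hom h x
      right_inv := fun x => by
        have h : G.obj.map e.hom.op ≫ G.obj.map e.inv.op = 𝟙 _ := by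
          rw [← CategoryTheory.Functor.map_comp, ← op_comp, e.inv_hom_id, op_id, CategoryTheory.Functor.map_id]
        exact ConcreteCategory.congr_hom h x }
  nat {G G'} φ ψ := by
    show (G'.obj.map e.inv.op).hom (R.e G' (ψ ≫ φ)) =
      φ.hom.app (op U') ((G.obj.map e.inv.op).hom (R.e G ψ))
    rw [R.nat]
    exact (ConcreteCategory.congr_hom (φ.hom.naturality e.inv.op) (R.e G ψ)).symm

end ReprIso

section Leray

variable {C : Type u} [Category.{v} C] [LocallySmall.{w} C] [∀ U : C, HasFiniteProducts (Over U)]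
  (J : GrothendieckTopology C)
  [HasSheafify J AddCommGrpCat.{w}] [J.WEqualsLocallyBijective AddCommGrpCat.{w}]
  [J.HasSheafCompose (forget AddCommGrpCat.{w})]
  [HasExt.{w'} (Sheaf J AddCommGrpCat.{w})] [EnoughInjectives (Sheaf J AddCommGrpCat.{w})]

/-- **Leray's acyclic covering theorem** (vanishing form) -/
theorem leray (Z : Sheaf J AddCommGrpCat.{w}) (U : C) (R : Repr Z U) {ι : Type w}
    (Y : ι → Over U)
    (hY : Sieve.ofArrows (fun i => (Y i).left) (fun i => (Y i).hom) ∈ J U)
    (F : Sheaf J AddCommGrpCat.{w})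
    (hW : ∀ (n : ℕ) (a : Fin (n + 1) → ι), ∃ (Zw : Sheaf J AddCommGrpCat.{w})
      (_ : Repr Zw (YY Y a)), ∀ (p : ℕ) (x : Ext.{w'} Zw F (p + 1)), x = 0)
    (hcech : ∀ p : ℕ, IsZero (EtCech.cechH Y F.obj (p + 1)))
    (p : ℕ) (x : Ext.{w'} Z F (p + 1)) : x = 0 := by
  -- the corepresenting sheaves of the iterated fibre products depend on `F` only through
  -- the vanishing statement; we choose them once and for all
  have hW' : ∀ (n : ℕ) (a : Fin (n + 1) → ι), ∃ (Zw : Sheaf J AddCommGrpCat.{w}),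
      Nonempty (Repr Zw (YY Y a)) ∧ ∀ (p : ℕ) (x : Ext.{w'} Zw F (p + 1)), x = 0 := by
    intro n a
    obtain ⟨Zw, Rw, h⟩ := hW n a
    exact ⟨Zw, ⟨Rw⟩, h⟩
  choose Zw Rw' hacy using hW'
  let Rw : ∀ (n : ℕ) (a : Fin (n + 1) → ι), Repr (Zw n a) (YY Y a) := fun n a => (Rw' n a).some
  have hsurjW : ∀ (S : ShortComplex (Sheaf J AddCommGrpCat.{w})) (hS : S.ShortExact),
      (∀ (n : ℕ) (a : Fin (n + 1) → ι) (x : Ext.{w'} (Zw n a) S.X₁ 1), x = 0) →
      ∀ (n : ℕ) (a : Fin (n + 1) → ι),
        Function.Surjective (S.g.hom.app (op (YY Y a))).hom := by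
    intro S hS h n a s
    let ψ : Zw n a ⟶ S.X₃ := ((Rw n a).e S.X₃).symm s
    have h0 : (Ext.mk₀ ψ).comp hS.extClass (zero_add 1) = 0 := h n a _
    obtain ⟨x₂, hx₂⟩ := Ext.covariant_sequence_exact₃ (Zw n a) hS (Ext.mk₀ ψ) (zero_add 1) h0
    obtain ⟨ψ', rfl⟩ := (Ext.mk₀_bijective (Zw n a) S.X₂).2 x₂
    rw [Ext.mk₀_comp_mk₀] at hx₂
    have hψ : ψ' ≫ S.g = ψ := (Ext.mk₀_bijective _ _).1 hx₂
    refine ⟨(Rw n a).e S.X₂ ψ', ?_⟩
    have h1 := (Rw n a).nat S.g ψ'
    rw [hψ] at h1
    exact h1.symm.trans (Equiv.apply_symm_apply _ s)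
  exact AcyClass.ext_eq_zero Z
    (fun M : Sheaf J AddCommGrpCat.{w} =>
      (∀ (n : ℕ) (a : Fin (n + 1) → ι) (p : ℕ) (x : Ext.{w'} (Zw n a) M (p + 1)), x = 0) ∧
        ∀ p : ℕ, IsZero (EtCech.cechH Y M.obj (p + 1))) (by
      intro S hS hX1 hinj
      have := hinj
      have hsW := hsurjW S hS (fun n a x => hX1.1 n a 0 x)
      refine ⟨⟨?_, ?_⟩, ?_⟩
      · intro n a p x
        have h0 : x.comp hS.extClass (rfl : p + 1 + 1 = p + 2) = 0 := hX1.1 n a (p + 1) _
        obtain ⟨x₂, hx₂⟩ := Ext.covariant_sequence_exact₃ (Zw n a) hS x rfl h0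
        rw [← hx₂, Ext.eq_zero_of_injective x₂, Ext.zero_comp]
      · intro p
        exact isZero_cechH_quotient Y S.f.hom S.g.hom (fun V x => zero_apply V x)
          (fun n a => injective_f hS _) (fun n a y hy => exact_sections hS _ y hy)
          hsW (p + 1) (isZero_cechH_of_injective J S.X₂ Y p) (hX1.2 (p + 1))
      · intro ψ
        refine R.lift S ?_ ψ
        intro s
        refine exists_lift Y hS hY (hX1.2 0) s (fun i => ?_)
        obtain ⟨t', ht'⟩ := hsW 0 (fun _ => i)
          ((S.X₃.obj.map (∏ᶜ fun _ : Fin 1 => Y i).hom.op).hom s)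
        refine ⟨(S.X₂.obj.map (dg Y i).op).hom t', ?_⟩
        have hn := ConcreteCategory.congr_hom (S.g.hom.naturality (dg Y i).op) t'
        refine hn.trans ?_
        show (S.X₃.obj.map (dg Y i).op).hom ((S.g.hom.app _).hom t') = _
        rw [ht']
        have h3 : (∏ᶜ fun _ : Fin 1 => Y i).hom.op ≫ (dg Y i).op = (Y i).hom.op := by
          rw [← op_comp, dg_hom]
        rw [← h3, CategoryTheory.Functor.map_comp]
        rfl) p F ⟨hacy, hcech⟩ x

end Leray

end H9FE.CechLeray
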