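import Mathlib
import Groth.Agent.Lib.Helper3.FCFreeG

/-! helper9: the Čech complex of an abelian presheaf with respect to a family of objects of a
category with finite products (Mathlib's `cechComplexFunctor`): components of cochains,
functoriality in the presheaf (`KKmap`) and in the family (`famMap`), and the elementwise form of
exactness. -/

set_option autoImplicit false
set_option linter.unusedSectionVars false
set_option linter.style.haveILetI false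
set_option backward.isDefEq.respectTransparency false
universe w v u
open CategoryTheory Limits Opposite

namespace H9FE.CechGen

open Groth.Agent.Helper3

variable {𝒞 : Type u} [Category.{v} 𝒞] [HasFiniteProducts 𝒞] {ι : Type w}

/-- the family as a formal coproduct -/
abbrev fc (Y : ι → 𝒞) : FormalCoproduct.{w} 𝒞 := FormalCoproduct.mk ι Y

/-- the Čech complex -/
noncomputable abbrev KK (Y : ι → 𝒞) (Q : 𝒞ᵒᵖ ⥤ AddCommGrpCat.{w}) :
    CochainComplex AddCommGrpCat.{w} ℕ :=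
  (cechComplexFunctor Y).obj Q

/-- the iterated product -/
noncomputable abbrev PP (Y : ι → 𝒞) {n : ℕ} (a : Fin (n + 1) → ι) : 𝒞 := ∏ᶜ fun k => Y (a k)

/-- the components of a cochain -/
noncomputable def prj (Y : ι → 𝒞) (Q : 𝒞ᵒᵖ ⥤ AddCommGrpCat.{w}) (n : ℕ) (a : Fin (n + 1) → ι) :
    (KK Y Q).X n ⟶ Q.obj (op (PP Y a)) :=
  Pi.π (fun a : Fin (n + 1) → ι => Q.obj (op (PP Y a))) a

lemma ext (Y : ι → 𝒞) (Q : 𝒞ᵒᵖ ⥤ AddCommGrpCat.{w}) (n : ℕ) (x y : (KK Y Q).X n)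
    (h : ∀ a, (prj Y Q n a).hom x = (prj Y Q n a).hom y) : x = y :=
  FCFreeG.pi_ext (fun a : Fin (n + 1) → ι => Q.obj (op (PP Y a))) x y h

lemma exists_cochain (Y : ι → 𝒞) (Q : 𝒞ᵒᵖ ⥤ AddCommGrpCat.{w}) (n : ℕ)
    (f : ∀ a : Fin (n + 1) → ι, Q.obj (op (PP Y a))) :
    ∃ x : (KK Y Q).X n, ∀ a, (prj Y Q n a).hom x = f a :=
  ⟨(FCFreeG.piIso (fun a : Fin (n + 1) → ι => Q.obj (op (PP Y a)))).inv f,
    fun a => FCFreeG.π_piIso_inv_apply _ f a⟩

/-- functoriality in the presheaf -/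
noncomputable abbrev KKmap (Y : ι → 𝒞) {Q Q' : 𝒞ᵒᵖ ⥤ AddCommGrpCat.{w}} (φ : Q ⟶ Q') :
    KK Y Q ⟶ KK Y Q' :=
  (cechComplexFunctor Y).map φ

lemma KKmap_prj (Y : ι → 𝒞) {Q Q' : 𝒞ᵒᵖ ⥤ AddCommGrpCat.{w}} (φ : Q ⟶ Q') (n : ℕ)
    (a : Fin (n + 1) → ι) :
    (KKmap Y φ).f n ≫ prj Y Q' n a = prj Y Q n a ≫ φ.app (op (PP Y a)) := by
  have h : (KKmap Y φ).f n = Limits.Pi.map (fun a : Fin (n + 1) → ι => φ.app (op (PP Y a))) := rfl
  rw [h]
  exact Pi.map_π _ a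

lemma KKmap_prj_apply (Y : ι → 𝒞) {Q Q' : 𝒞ᵒᵖ ⥤ AddCommGrpCat.{w}} (φ : Q ⟶ Q') (n : ℕ)
    (a : Fin (n + 1) → ι) (x : (KK Y Q).X n) :
    (prj Y Q' n a).hom (((KKmap Y φ).f n).hom x) =
      (φ.app (op (PP Y a))).hom ((prj Y Q n a).hom x) :=
  ConcreteCategory.congr_hom (KKmap_prj Y φ n a) x

/-- a morphism of families as a morphism of formal coproducts -/
def fcHom {Y Y' : ι → 𝒞} (f : ∀ i, Y i ⟶ Y' i) : fc Y ⟶ fc Y' where
  f := id
  φ := f

/-- the map of cosimplicial objects induced by a map of simplicial formal coproducts -/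
noncomputable def cosMap {E E' : SimplicialObject (FormalCoproduct.{w} 𝒞)} (φ : E ⟶ E')
    (Q : 𝒞ᵒᵖ ⥤ AddCommGrpCat.{w}) :
    (FormalCoproduct.cosimplicialObjectFunctor E').obj Q ⟶
      (FormalCoproduct.cosimplicialObjectFunctor E).obj Q :=
  Functor.whiskerRight (NatTrans.rightOp φ)
    ((FormalCoproduct.evalOp.{w} 𝒞 AddCommGrpCat.{w}).obj Q)

/-- functoriality in the family (contravariant) -/
noncomputable def famMap {Y Y' : ι → 𝒞} (f : ∀ i, Y i ⟶ Y' i)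
    (Q : 𝒞ᵒᵖ ⥤ AddCommGrpCat.{w}) : KK Y' Q ⟶ KK Y Q :=
  (AlgebraicTopology.alternatingCofaceMapComplex AddCommGrpCat.{w}).map
    (cosMap (FormalCoproduct.cechFunctor.map (fcHom f)) Q)

lemma famMap_prj {Y Y' : ι → 𝒞} (f : ∀ i, Y i ⟶ Y' i) (Q : 𝒞ᵒᵖ ⥤ AddCommGrpCat.{w}) (n : ℕ)
    (a : Fin (n + 1) → ι) :
    (famMap f Q).f n ≫ prj Y Q n a =
      prj Y' Q n a ≫ Q.map (Limits.Pi.map (fun k => f (a k))).op := by
  have h : (famMap f Q).f n = Pi.lift (fun a : Fin (n + 1) → ι =>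
      Pi.π (fun a : Fin (n + 1) → ι => Q.obj (op (PP Y' a))) a ≫
        Q.map (Limits.Pi.map (fun k => f (a k))).op) := rfl
  rw [h]
  exact Pi.lift_π _ a

lemma famMap_prj_apply {Y Y' : ι → 𝒞} (f : ∀ i, Y i ⟶ Y' i) (Q : 𝒞ᵒᵖ ⥤ AddCommGrpCat.{w})
    (n : ℕ) (a : Fin (n + 1) → ι) (x : (KK Y' Q).X n) :
    (prj Y Q n a).hom (((famMap f Q).f n).hom x) =
      (Q.map (Limits.Pi.map (fun k => f (a k))).op).hom ((prj Y' Q n a).hom x) :=
  ConcreteCategory.congr_hom (famMap_prj f Q n a) x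

lemma hom_ext' {Y : ι → 𝒞} {Q : 𝒞ᵒᵖ ⥤ AddCommGrpCat.{w}} {K : CochainComplex AddCommGrpCat.{w} ℕ}
    (α β : K ⟶ KK Y Q)
    (h : ∀ (n : ℕ) (a : Fin (n + 1) → ι), α.f n ≫ prj Y Q n a = β.f n ≫ prj Y Q n a) : α = β := by
  ext n : 1
  exact Pi.hom_ext _ _ (fun a => h n a)

lemma famMap_comp {Y Y' Y'' : ι → 𝒞} (f : ∀ i, Y i ⟶ Y' i) (g : ∀ i, Y' i ⟶ Y'' i)
    (Q : 𝒞ᵒᵖ ⥤ AddCommGrpCat.{w}) :
    famMap (fun i => f i ≫ g i) Q = famMap g Q ≫ famMap f Q := by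
  apply hom_ext'
  intro n a
  rw [famMap_prj, HomologicalComplex.comp_f, Category.assoc, famMap_prj, ← Category.assoc,
    famMap_prj, Category.assoc, ← Q.map_comp, ← op_comp]
  congr 3
  apply Limits.Pi.hom_ext
  intro k
  simp

lemma famMap_id (Y : ι → 𝒞) (Q : 𝒞ᵒᵖ ⥤ AddCommGrpCat.{w}) :
    famMap (fun i => 𝟙 (Y i)) Q = 𝟙 _ := by
  apply hom_ext'
  intro n a
  rw [famMap_prj, HomologicalComplex.id_f, Category.id_comp]
  have : Limits.Pi.map (fun k => 𝟙 (Y (a k))) = 𝟙 _ := by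
    apply Limits.Pi.hom_ext
    intro k
    simp
  rw [this, op_id, Q.map_id, Category.comp_id]

/-- isomorphic families have isomorphic Čech complexes -/
noncomputable def famIso {Y Y' : ι → 𝒞} (e : ∀ i, Y i ≅ Y' i) (Q : 𝒞ᵒᵖ ⥤ AddCommGrpCat.{w}) :
    KK Y Q ≅ KK Y' Q where
  hom := famMap (fun i => (e i).inv) Q
  inv := famMap (fun i => (e i).hom) Q
  hom_inv_id := by
    rw [← famMap_comp]
    simp only [Iso.hom_inv_id]
    exact famMap_id Y Q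
  inv_hom_id := by
    rw [← famMap_comp]
    simp only [Iso.inv_hom_id]
    exact famMap_id Y' Q

/-- vanishing of Čech cohomology in degree `p + 1`: cocycles are coboundaries -/
lemma exists_of_isZero (Y : ι → 𝒞) (Q : 𝒞ᵒᵖ ⥤ AddCommGrpCat.{w}) (p : ℕ)
    (hQ : IsZero ((KK Y Q).homology (p + 1)))
    (e : (KK Y Q).X (p + 1)) (he : ((KK Y Q).d (p + 1) (p + 2)).hom e = 0) :
    ∃ b : (KK Y Q).X p, ((KK Y Q).d p (p + 1)).hom b = e := by
  have h1 : (KK Y Q).ExactAt (p + 1) := (HomologicalComplex.exactAt_iff_isZero_homology _ _).2 hQ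
  rw [(KK Y Q).exactAt_iff' p (p + 1) (p + 2) (by simp) (by simp), ShortComplex.ab_exact_iff] at h1
  exact h1 e he

/-- conversely -/
lemma isZero_of_exists (Y : ι → 𝒞) (Q : 𝒞ᵒᵖ ⥤ AddCommGrpCat.{w}) (p : ℕ)
    (h : ∀ e : (KK Y Q).X (p + 1), ((KK Y Q).d (p + 1) (p + 2)).hom e = 0 →
      ∃ b : (KK Y Q).X p, ((KK Y Q).d p (p + 1)).hom b = e) :
    IsZero ((KK Y Q).homology (p + 1)) := by
  have h1 : (KK Y Q).ExactAt (p + 1) := by
    rw [(KK Y Q).exactAt_iff' p (p + 1) (p + 2) (by simp) (by simp), ShortComplex.ab_exact_iff]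
    exact h
  exact (HomologicalComplex.exactAt_iff_isZero_homology _ _).1 h1

/-- transport of vanishing along an isomorphism of complexes -/
lemma isZero_homology_of_iso {K L : CochainComplex AddCommGrpCat.{w} ℕ} (e : K ≅ L) (n : ℕ)
    (h : IsZero (K.homology n)) : IsZero (L.homology n) :=
  IsZero.of_iso h ((HomologicalComplex.homologyFunctor _ _ n).mapIso e).symm

end H9FE.CechGen
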