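import Mathlib
import Groth.Agent.Lib.Helper9.FE.CechGen

/-! helper9: variant of `CechPost` for functors `G : 𝒞' ⥤ 𝒞` which preserve only the products
indexed by the nonempty finite types `Fin (n + 1)` (for instance `Over.map` of a monomorphism):
the Čech complex of `G.op ⋙ Q` with respect to a family `Y'` is isomorphic to the Čech complex of
`Q` with respect to the image family `G ∘ Y'`.  Also: `Over.map` of a monomorphism preserves
products indexed by nonempty types. -/

set_option autoImplicit false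
set_option linter.unusedSectionVars false
set_option linter.style.haveILetI false
set_option backward.isDefEq.respectTransparency false
universe w v v' u u'
open CategoryTheory Limits Opposite

namespace H9FE.CechPostNE

open H9FE.CechGen

variable {𝒞 : Type u} [Category.{v} 𝒞] [HasFiniteProducts 𝒞]
  {𝒞' : Type u'} [Category.{v'} 𝒞'] [HasFiniteProducts 𝒞']
  (G : 𝒞' ⥤ 𝒞)
  [∀ n : SimplexCategory, PreservesLimitsOfShape (Discrete (ToType n)) G] {ι : Type w} (Y' : ι → 𝒞')
  (Q : 𝒞ᵒᵖ ⥤ AddCommGrpCat.{w})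

/-- the comparison morphism for a finite product -/
noncomputable abbrev cmp {n : SimplexCategory} (a : ToType n → ι) :
    G.obj (∏ᶜ fun k => Y' (a k)) ⟶ ∏ᶜ fun k => G.obj (Y' (a k)) :=
  piComparison G (fun k => Y' (a k))

instance {n : SimplexCategory} (a : ToType n → ι) : IsIso (cmp G Y' a) := by
  haveI : PreservesLimitsOfShape (Discrete (ToType n)) G := inferInstance
  haveI : PreservesLimit (Discrete.functor fun k => Y' (a k)) G := inferInstance
  infer_instance

/-- the two cosimplicial objects -/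
noncomputable abbrev A₁ : CosimplicialObject AddCommGrpCat.{w} :=
  (FormalCoproduct.cosimplicialObjectFunctor (fc Y').cech).obj (G.op ⋙ Q)

noncomputable abbrev A₂ : CosimplicialObject AddCommGrpCat.{w} :=
  (FormalCoproduct.cosimplicialObjectFunctor (fc (fun i => G.obj (Y' i))).cech).obj Q

/-- the comparison of cosimplicial objects in degree `n` -/
noncomputable def θ (n : SimplexCategory) : (A₂ G Y' Q).obj n ⟶ (A₁ G Y' Q).obj n :=
  Limits.Pi.map (fun a : ToType n → ι => Q.map (cmp G Y' a).op)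

instance (n : SimplexCategory) : IsIso (θ G Y' Q n) := by
  unfold θ
  infer_instance

lemma θ_naturality {m n : SimplexCategory} (g : m ⟶ n) :
    (A₂ G Y' Q).map g ≫ θ G Y' Q n = θ G Y' Q m ≫ (A₁ G Y' Q).map g := by
  apply Limits.Pi.hom_ext
  intro b
  have h2 : (A₂ G Y' Q).map g = Pi.lift (fun b : ToType n → ι =>
      Pi.π (fun a : ToType m → ι => Q.obj (op (∏ᶜ fun k => G.obj (Y' (a k)))))
        (b ∘ g.toOrderHom) ≫
      Q.map (Pi.lift (fun k : ToType m => Pi.π (fun k => G.obj (Y' (b k)))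
        (g.toOrderHom k))).op) := rfl
  have h1 : (A₁ G Y' Q).map g = Pi.lift (fun b : ToType n → ι =>
      Pi.π (fun a : ToType m → ι => Q.obj (op (G.obj (∏ᶜ fun k => Y' (a k)))))
        (b ∘ g.toOrderHom) ≫
      Q.map (G.map (Pi.lift (fun k : ToType m => Pi.π (fun k => Y' (b k))
        (g.toOrderHom k)))).op) := rfl
  have e1 : θ G Y' Q n ≫ Pi.π (fun a : ToType n → ι =>
      (G.op ⋙ Q).obj (op (∏ᶜ fun k => Y' (a k)))) b =
      Pi.π (fun a : ToType n → ι => Q.obj (op (∏ᶜ fun k => G.obj (Y' (a k))))) b ≫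
        Q.map (cmp G Y' b).op := Limits.Pi.map_π _ b
  have e2 : θ G Y' Q m ≫ Pi.π (fun a : ToType m → ι =>
      (G.op ⋙ Q).obj (op (∏ᶜ fun k => Y' (a k)))) (b ∘ g.toOrderHom) =
      Pi.π (fun a : ToType m → ι => Q.obj (op (∏ᶜ fun k => G.obj (Y' (a k)))))
        (b ∘ g.toOrderHom) ≫ Q.map (cmp G Y' (b ∘ g.toOrderHom)).op :=
    Limits.Pi.map_π _ (b ∘ g.toOrderHom)
  have e3 : (A₂ G Y' Q).map g ≫ Pi.π (fun a : ToType n → ι =>
      Q.obj (op (∏ᶜ fun k => G.obj (Y' (a k))))) b =
      Pi.π (fun a : ToType m → ι => Q.obj (op (∏ᶜ fun k => G.obj (Y' (a k)))))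
        (b ∘ g.toOrderHom) ≫
      Q.map (Pi.lift (fun k : ToType m => Pi.π (fun k => G.obj (Y' (b k)))
        (g.toOrderHom k))).op := by
    rw [h2]
    exact Pi.lift_π _ b
  have e4 : (A₁ G Y' Q).map g ≫ Pi.π (fun a : ToType n → ι =>
      (G.op ⋙ Q).obj (op (∏ᶜ fun k => Y' (a k)))) b =
      Pi.π (fun a : ToType m → ι => Q.obj (op (G.obj (∏ᶜ fun k => Y' (a k)))))
        (b ∘ g.toOrderHom) ≫
      Q.map (G.map (Pi.lift (fun k : ToType m => Pi.π (fun k => Y' (b k))
        (g.toOrderHom k)))).op := by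
    rw [h1]
    exact Pi.lift_π _ b
  have e5 : cmp G Y' b ≫ Pi.lift (fun k : ToType m => Pi.π (fun k => G.obj (Y' (b k)))
        (g.toOrderHom k)) =
      G.map (Pi.lift (fun k : ToType m => Pi.π (fun k => Y' (b k)) (g.toOrderHom k))) ≫
        cmp G Y' (b ∘ g.toOrderHom) := by
    apply Limits.Pi.hom_ext
    intro k
    rw [Category.assoc, Category.assoc, Pi.lift_π]
    refine (piComparison_comp_π G (fun k => Y' (b k)) (g.toOrderHom k)).trans ?_
    refine Eq.trans ?_ (congrArg (G.map _ ≫ ·)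
      (piComparison_comp_π G (fun k => Y' ((b ∘ g.toOrderHom) k)) k)).symm
    rw [← G.map_comp]
    exact congrArg G.map (Pi.lift_π (fun k : ToType m => Pi.π (fun k => Y' (b k))
      (g.toOrderHom k)) k).symm
  refine (Category.assoc _ _ _).trans ?_
  refine (congrArg ((A₂ G Y' Q).map g ≫ ·) e1).trans ?_
  refine (Category.assoc _ _ _).symm.trans ?_
  refine (congrArg (· ≫ Q.map (cmp G Y' b).op) e3).trans ?_
  refine Eq.symm ?_
  refine (Category.assoc _ _ _).trans ?_
  refine (congrArg (θ G Y' Q m ≫ ·) e4).trans ?_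
  refine (Category.assoc _ _ _).symm.trans ?_
  refine (congrArg (· ≫ Q.map (G.map (Pi.lift (fun k : ToType m => Pi.π (fun k => Y' (b k))
        (g.toOrderHom k)))).op) e2).trans ?_
  refine (Category.assoc _ _ _).trans ?_
  refine Eq.trans ?_ (Category.assoc _ _ _).symm
  congr 1
  rw [← Q.map_comp, ← Q.map_comp, ← op_comp, ← op_comp, e5]

/-- the isomorphism of cosimplicial objects -/
noncomputable def cosIso : A₂ G Y' Q ≅ A₁ G Y' Q :=
  NatIso.ofComponents (fun n => asIso (θ G Y' Q n)) (fun g => θ_naturality G Y' Q g)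

/-- the Čech complex of `G.op ⋙ Q` with respect to `Y'` is the Čech complex of `Q` with respect to
the image family -/
noncomputable def postIso : KK (fun i => G.obj (Y' i)) Q ≅ KK Y' (G.op ⋙ Q) :=
  (AlgebraicTopology.alternatingCofaceMapComplex AddCommGrpCat.{w}).mapIso (cosIso G Y' Q)

variable {G Y' Q}

/-- transfer of Čech vanishing along a product-preserving functor and an isomorphism of families -/
theorem isZero_of_post {Y : ι → 𝒞} (e : ∀ i, Y i ≅ G.obj (Y' i)) (n : ℕ)
    (h : IsZero ((KK Y' (G.op ⋙ Q)).homology n)) : IsZero ((KK Y Q).homology n) :=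
  isZero_homology_of_iso ((postIso G Y' Q).symm ≪≫ (famIso e Q).symm) n h

theorem isZero_post_of {Y : ι → 𝒞} (e : ∀ i, Y i ≅ G.obj (Y' i)) (n : ℕ)
    (h : IsZero ((KK Y Q).homology n)) : IsZero ((KK Y' (G.op ⋙ Q)).homology n) :=
  isZero_homology_of_iso ((famIso e Q) ≪≫ postIso G Y' Q) n h

end H9FE.CechPostNE
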