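import Mathlib

/-! helper9: for a monomorphism `m : A ⟶ B`, the functor `Over.map m : Over A ⥤ Over B` preserves
products indexed by nonempty types (a fibre product over `A` is a fibre product over `B`). -/

set_option autoImplicit false
set_option linter.unusedSectionVars false
set_option linter.style.haveILetI false
universe w v u
open CategoryTheory Limits

namespace H9FE.OverMapMono

variable {𝒟 : Type u} [Category.{v} 𝒟] {A B : 𝒟} (m : A ⟶ B) [Mono m]

/-- `Over.map m` sends a product cone of a nonempty family to a product cone -/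
noncomputable def isLimitMapCone {K : Type w} [Nonempty K] (f : K → Over A)
    (t : Cone (Discrete.functor f)) (ht : IsLimit t) : IsLimit ((Over.map m).mapCone t) := by
  classical
  let k₀ : K := Classical.arbitrary K
  have hw : ∀ (s : Cone (Discrete.functor f ⋙ Over.map m)) (k : K),
      (s.π.app ⟨k⟩).left ≫ (f k).hom = (s.π.app ⟨k₀⟩).left ≫ (f k₀).hom := by
    intro s k
    rw [← cancel_mono m, Category.assoc, Category.assoc]
    exact (Over.w (s.π.app ⟨k⟩)).trans (Over.w (s.π.app ⟨k₀⟩)).symm
  let s' : ∀ (_ : Cone (Discrete.functor f ⋙ Over.map m)), Cone (Discrete.functor f) := fun s =>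
    { pt := Over.mk ((s.π.app ⟨k₀⟩).left ≫ (f k₀).hom)
      π := Discrete.natTrans (fun k => Over.homMk (s.π.app k).left (hw s k.as)) }
  refine
    { lift := fun s => Over.homMk (ht.lift (s' s)).left ?_
      fac := fun s k => ?_
      uniq := fun s m' hm' => ?_ }
  · show (ht.lift (s' s)).left ≫ t.pt.hom ≫ m = s.pt.hom
    rw [← Category.assoc, Over.w (ht.lift (s' s))]
    show ((s.π.app ⟨k₀⟩).left ≫ (f k₀).hom) ≫ m = s.pt.hom
    rw [Category.assoc]
    exact Over.w (s.π.app ⟨k₀⟩)
  · apply Over.OverMorphism.ext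
    exact congrArg (fun φ => φ.left) (ht.fac (s' s) k)
  · have h0 : m'.left ≫ (t.π.app ⟨k₀⟩).left = (s.π.app ⟨k₀⟩).left :=
      congrArg (fun φ => φ.left) (hm' ⟨k₀⟩)
    have h : m'.left ≫ t.pt.hom = (s.π.app ⟨k₀⟩).left ≫ (f k₀).hom := by
      have hw' : (t.π.app ⟨k₀⟩).left ≫ (f k₀).hom = t.pt.hom := Over.w (t.π.app ⟨k₀⟩)
      rw [← hw', ← Category.assoc, h0]
    let m'' : (s' s).pt ⟶ t.pt := Over.homMk m'.left h
    have h1 := ht.uniq (s' s) m'' (fun k => by
      apply Over.OverMorphism.ext
      exact congrArg (fun φ => φ.left) (hm' k))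
    apply Over.OverMorphism.ext
    exact congrArg (fun φ => φ.left) h1

instance preservesLimitsOfShape_discrete (K : Type w) [Nonempty K]
    [HasLimitsOfShape (Discrete K) (Over A)] :
    PreservesLimitsOfShape (Discrete K) (Over.map m) := by
  haveI : ∀ f : K → Over A, PreservesLimit (Discrete.functor f) (Over.map m) := fun f =>
    preservesLimit_of_preserves_limit_cone (limit.isLimit _)
      (isLimitMapCone m f _ (limit.isLimit _))
  exact preservesLimitsOfShape_of_discrete _

end H9FE.OverMapMono
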