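import Mathlib
import Groth.Agent.Lib.Helper9.FE.CechGen
import Groth.Agent.Lib.Helper9.FE.SiteSectColim

/-! helper9: Čech cohomology of a fixed presheaf with respect to a cofiltered system of finite
families with a cone, in elementwise form: if the presheaf turns the cones of iterated products
into "elementwise colimits" and Čech cohomology in degree `p + 1` vanishes for all the families of
the system, it vanishes for the family of vertices. -/

set_option autoImplicit false
set_option linter.unusedSectionVars false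
set_option linter.style.haveILetI false
set_option backward.isDefEq.respectTransparency false
universe w v u v₁ u₁
open CategoryTheory Limits Opposite

namespace H9FE.CechColimF

open H9FE.CechGen H9FE.SiteSectColim

variable {𝒞 : Type u} [Category.{v} 𝒞] [HasFiniteProducts 𝒞] {ι : Type w} [Finite ι]
  {Λ : Type u₁} [Category.{v₁} Λ] [IsCofiltered Λ]
  (D : ι → (Λ ⥤ 𝒞)) (c : ∀ i, Cone (D i)) (Q : 𝒞ᵒᵖ ⥤ AddCommGrpCat.{w})

/-- the stage family -/
abbrev Yl (l : Λ) : ι → 𝒞 := fun i => (D i).obj l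

/-- the limit family -/
abbrev Yc : ι → 𝒞 := fun i => (c i).pt

/-- the projection of iterated products -/
noncomputable abbrev πl {n : ℕ} (a : Fin (n + 1) → ι) (l : Λ) : PP (Yc D c) a ⟶ PP (Yl D l) a :=
  Limits.Pi.map (fun k => (c (a k)).π.app l)

/-- the transition of iterated products -/
noncomputable abbrev τl {n : ℕ} (a : Fin (n + 1) → ι) {m l : Λ} (f : m ⟶ l) :
    PP (Yl D m) a ⟶ PP (Yl D l) a :=
  Limits.Pi.map (fun k => (D (a k)).map f)

lemma πl_τl {n : ℕ} (a : Fin (n + 1) → ι) {m l : Λ} (f : m ⟶ l) :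
    πl D c a m ≫ τl D a f = πl D c a l := by
  apply Limits.Pi.hom_ext
  intro k
  simp

lemma τl_comp {n : ℕ} (a : Fin (n + 1) → ι) {m' m l : Λ} (g : m' ⟶ m) (f : m ⟶ l) :
    τl D a (g ≫ f) = τl D a g ≫ τl D a f := by
  apply Limits.Pi.hom_ext
  intro k
  simp

theorem isZero_limit (p : ℕ)
    (hs : ∀ (n : ℕ) (a : Fin (n + 1) → ι) (s : Q.obj (op (PP (Yc D c) a))),
      ∃ (l : Λ) (y : Q.obj (op (PP (Yl D l) a))), (Q.map (πl D c a l).op).hom y = s)
    (hi : ∀ (n : ℕ) (a : Fin (n + 1) → ι) (l : Λ) (y : Q.obj (op (PP (Yl D l) a))),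
      (Q.map (πl D c a l).op).hom y = 0 →
        ∃ (m : Λ) (f : m ⟶ l), (Q.map (τl D a f).op).hom y = 0)
    (hK : ∀ l, IsZero ((KK (Yl D l) Q).homology (p + 1))) :
    IsZero ((KK (Yc D c) Q).homology (p + 1)) := by
  classical
  apply isZero_of_exists
  intro e he
  let _i1 : Fintype (Fin (p + 1 + 1) → ι) := Fintype.ofFinite _
  let _i2 : Fintype (Fin (p + 2 + 1) → ι) := Fintype.ofFinite _
  -- the chain maps
  let T : ∀ l : Λ, KK (Yl D l) Q ⟶ KK (Yc D c) Q := fun l => famMap (fun i => (c i).π.app l) Q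
  let Tf : ∀ {m l : Λ} (f : m ⟶ l), KK (Yl D l) Q ⟶ KK (Yl D m) Q :=
    fun {m l} f => famMap (fun i => (D i).map f) Q
  have hT : ∀ {m l : Λ} (f : m ⟶ l), Tf f ≫ T m = T l := by
    intro m l f
    have h1 := famMap_comp (fun i => (c i).π.app m) (fun i => (D i).map f) Q
    have h2 : (fun i => (c i).π.app m ≫ (D i).map f) = fun i => (c i).π.app l := by
      funext i
      exact (c i).w f
    rw [h2] at h1
    exact h1.symm
  have hTprj : ∀ (l : Λ) (n : ℕ) (a : Fin (n + 1) → ι) (x : (KK (Yl D l) Q).X n),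
      (prj (Yc D c) Q n a).hom (((T l).f n).hom x) =
        (Q.map (πl D c a l).op).hom ((prj (Yl D l) Q n a).hom x) :=
    fun l n a x => famMap_prj_apply (fun i => (c i).π.app l) Q n a x
  have hTfprj : ∀ {m l : Λ} (f : m ⟶ l) (n : ℕ) (a : Fin (n + 1) → ι)
      (x : (KK (Yl D l) Q).X n),
      (prj (Yl D m) Q n a).hom (((Tf f).f n).hom x) =
        (Q.map (τl D a f).op).hom ((prj (Yl D l) Q n a).hom x) :=
    fun {m l} f n a x => famMap_prj_apply (fun i => (D i).map f) Q n a x
  -- represent the components of `e` at a common stage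
  choose la ya hya using fun a : Fin (p + 1 + 1) → ι =>
    hs (p + 1) a ((prj (Yc D c) Q (p + 1) a).hom e)
  obtain ⟨l, hl⟩ := IsCofiltered.inf_objs_exists (Finset.univ.image la)
  have hl' : ∀ a, Nonempty (l ⟶ la a) := fun a =>
    hl (Finset.mem_image_of_mem la (Finset.mem_univ a))
  obtain ⟨ε, hε⟩ := exists_cochain (Yl D l) Q (p + 1)
    (fun a => (Q.map (τl D a (hl' a).some).op).hom (ya a))
  have hεe : ((T l).f (p + 1)).hom ε = e := by
    apply CechGen.ext (Yc D c) Q (p + 1)
    intro a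
    refine (hTprj l (p + 1) a ε).trans ?_
    rw [hε, ← hya a]
    have hw := πl_τl D c a (hl' a).some
    rw [← hw, op_comp, Q.map_comp]
    rfl
  -- the differential of `ε` dies at a later stage
  have hdε : ((T l).f (p + 2)).hom (((KK (Yl D l) Q).d (p + 1) (p + 2)).hom ε) = 0 := by
    have := ConcreteCategory.congr_hom ((T l).comm (p + 1) (p + 2)) ε
    refine this.symm.trans ?_
    change ((KK (Yc D c) Q).d (p + 1) (p + 2)).hom (((T l).f (p + 1)).hom ε) = 0
    rw [hεe]
    exact he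
  have hex : ∀ b ∈ (Finset.univ : Finset (Fin (p + 2 + 1) → ι)),
      ∃ (k : Λᵒᵖ) (f : op l ⟶ k), (Q.map (τl D b f.unop).op).hom
        ((prj (Yl D l) Q (p + 2) b).hom (((KK (Yl D l) Q).d (p + 1) (p + 2)).hom ε)) = 0 := by
    intro b _
    obtain ⟨m, f, hf⟩ := hi (p + 2) b l
      ((prj (Yl D l) Q (p + 2) b).hom (((KK (Yl D l) Q).d (p + 1) (p + 2)).hom ε)) (by
        refine (hTprj l (p + 2) b _).symm.trans ?_
        rw [hdε, map_zero])
    exact ⟨op m, f.op, hf⟩
  obtain ⟨k, f, hk⟩ := eventually_all (op l) Finset.univ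
    (fun (b : Fin (p + 2 + 1) → ι) (k : Λᵒᵖ) (f : op l ⟶ k) => (Q.map (τl D b f.unop).op).hom
        ((prj (Yl D l) Q (p + 2) b).hom (((KK (Yl D l) Q).d (p + 1) (p + 2)).hom ε)) = 0)
    (by
      intro b k f k' g' h
      have e1 : τl D b (f ≫ g').unop = τl D b g'.unop ≫ τl D b f.unop := τl_comp D b g'.unop f.unop
      rw [e1, op_comp, Q.map_comp]
      change (Q.map (τl D b g'.unop).op).hom ((Q.map (τl D b f.unop).op).hom _) = 0
      rw [h, map_zero]) hex
  -- so the image of `ε` at stage `k` is a cocycle, hence a coboundary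
  let ε' := ((Tf f.unop).f (p + 1)).hom ε
  have hdε' : ((KK (Yl D k.unop) Q).d (p + 1) (p + 2)).hom ε' = 0 := by
    have := ConcreteCategory.congr_hom ((Tf f.unop).comm (p + 1) (p + 2)) ε
    refine this.trans ?_
    change ((Tf f.unop).f (p + 2)).hom (((KK (Yl D l) Q).d (p + 1) (p + 2)).hom ε) = 0
    apply CechGen.ext (Yl D k.unop) Q (p + 2)
    intro b
    refine (hTfprj f.unop (p + 2) b _).trans ?_
    rw [map_zero]
    exact hk b (Finset.mem_univ b)
  obtain ⟨β, hβ⟩ := exists_of_isZero (Yl D k.unop) Q p (hK k.unop) ε' hdε'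
  refine ⟨((T k.unop).f p).hom β, ?_⟩
  have h1 := ConcreteCategory.congr_hom ((T k.unop).comm p (p + 1)) β
  refine Eq.trans h1 ?_
  change ((T k.unop).f (p + 1)).hom (((KK (Yl D k.unop) Q).d p (p + 1)).hom β) = e
  rw [hβ, ← hεe, ← hT f.unop]
  rfl

end H9FE.CechColimF
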