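import Mathlib
import Groth.Prelude.Def_ProEtS
import Groth.Prelude.Def_EtCech
import Groth.Agent.Lib.Helper9.FE.IndEtGeom
import Groth.Agent.Lib.Helper9.FE.ProEtPL
import Groth.Agent.Lib.Helper9.FE.CechColimF
import Groth.Agent.Lib.Helper9.FE.ProEtL5

/-! helper9: Čech cohomology of `ε⁻¹ F` with respect to a finite family of ind-étale affine objects
over an affine object `V` of the small pro-étale site vanishes in positive degrees as soon as it
does for all finite families of étale quasi-compact quasi-separated objects over `V` (the Čech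
complex is a filtered colimit of Čech complexes of such families). -/

set_option autoImplicit false
set_option linter.unusedSectionVars false
set_option linter.style.haveILetI false
set_option backward.isDefEq.respectTransparency false
universe u
open CategoryTheory Limits Opposite AlgebraicGeometry

namespace H9FE.PCLevel1

open H9FE.ProEtQc H9FE.ProEtL H9FE.PC H9FE.ProEtPL H9FE.FanLim H9FE.CechGen H9FE.CechColimF

variable {X : Scheme.{u}} [ProEtS.EpsCont X] (V : X.ProEt) [IsAffine V.left] (F : EtCoh.Ab X)

set_option maxHeartbeats 1600000 in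
theorem isZero_cechH
    (hL2 : ∀ {ι' : Type (u + 1)} [Finite ι'] (Y : ι' → Over V),
      (∀ i, Etale (Y i).hom.left ∧ QuasiCompact (Y i).hom.left ∧ QuasiSeparated (Y i).hom.left) →
        ∀ p : ℕ, IsZero (EtCech.cechH Y (GF F) (p + 1)))
    {ι : Type (u + 1)} [Finite ι] (Y : ι → Over V)
    (hY : ∀ i, IsAffine (Y i).left.left ∧ IE (Y i).hom.left) (p : ℕ) :
    IsZero (EtCech.cechH Y (GF F) (p + 1)) := by
  classical
  obtain ⟨n, ⟨e⟩⟩ := Finite.exists_equiv_fin ι
  have hpres : ∀ k : Fin n, ∃ (J : Type u) (_ : SmallCategory J) (_ : IsCofiltered J)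
      (Dg : J ⥤ Over V) (c : Cone Dg), c.pt = Y (e.symm k) ∧
        (∀ j, IsAffine (Dg.obj j).left.left) ∧ (∀ j, Etale (Dg.obj j).hom.left) ∧
          Nonempty (IsLimit ((toSch X).mapCone ((Over.forget V).mapCone c))) := by
    intro k
    haveI := (hY (e.symm k)).1
    exact exists_presentation V (Y (e.symm k)) (hY (e.symm k)).2
  choose J cat cof Dg cg hpt haff het hlim using hpres
  letI : ∀ k, SmallCategory (J k) := cat
  haveI : ∀ k, IsCofiltered (J k) := cof
  let D : ι → ((∀ k, J k) ⥤ Over V) := fun i => Pi.eval J (e i) ⋙ Dg (e i)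
  let c : ∀ i, Cone (D i) := fun i => (cg (e i)).whisker (Pi.eval J (e i))
  have hYc : Yc D c = Y := by
    funext i
    exact (hpt (e i)).trans (congrArg Y (e.symm_apply_apply i))
  have hlimc : ∀ i, Nonempty (IsLimit ((toSch X).mapCone ((Over.forget V).mapCone (c i)))) := by
    intro i
    exact ⟨(Functor.Initial.isLimitWhiskerEquiv (Pi.eval J (e i))
      ((toSch X).mapCone ((Over.forget V).mapCone (cg (e i))))).symm (hlim (e i)).some⟩
  have haffc : ∀ i l, IsAffine ((D i).obj l).left.left := fun i l => haff (e i) (l (e i))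
  have hgood : ∀ (m : ℕ) (a : Fin (m + 1) → ι),
      Good (PD (fun k => D (a k)) ⋙ Over.forget V)
        ((Over.forget V).mapCone (Pc (fun k => D (a k)) (fun k => c (a k)))) :=
    fun m a => good_prod (fun k => D (a k)) (fun k => c (a k)) (fun k => hlimc (a k))
      (fun k l => haffc (a k) l)
  rw [← hYc]
  change IsZero ((KK (Yc D c) ((Over.forget V).op ⋙ GF F)).homology (p + 1))
  refine isZero_limit D c ((Over.forget V).op ⋙ GF F) p ?_ ?_ ?_
  · intro m a s
    obtain ⟨l, sl, hsl⟩ := section_descent (hgood m a) F s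
    exact ⟨l, sl, hsl⟩
  · intro m a l y hy
    obtain ⟨l', f, hf⟩ := section_vanish_descent (hgood m a) F l y hy
    exact ⟨l', f, hf⟩
  · intro l
    refine hL2 (Yl D l) (fun i => ?_) p
    haveI : IsAffine ((D i).obj l).left.left := haffc i l
    refine ⟨het (e i) (l (e i)), ?_, ?_⟩
    · exact (inferInstance : QuasiCompact ((D i).obj l).hom.left)
    · exact (inferInstance : QuasiSeparated ((D i).obj l).hom.left)

end H9FE.PCLevel1
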