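import Mathlib
import Groth.Agent.Lib.Helper9.FE.CechGen
import Groth.Agent.Lib.Helper9.FE.SiteSectColim

/-! helper9: Čech cohomology with respect to a fixed finite family and filtered colimits of
presheaves, in elementwise form: if a cocone of abelian presheaves over a filtered diagram is
"elementwise a colimit" on the iterated products of the family, and all members of the diagram have
vanishing Čech cohomology in degree `p + 1`, so has the vertex. -/

set_option autoImplicit false
set_option linter.unusedSectionVars false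
set_option linter.style.haveILetI false
set_option backward.isDefEq.respectTransparency false
universe w v u v₁ u₁
open CategoryTheory Limits Opposite

namespace H9FE.CechColimP

open H9FE.CechGen H9FE.SiteSectColim

variable {𝒞 : Type u} [Category.{v} 𝒞] [HasFiniteProducts 𝒞] {ι : Type w} [Finite ι]
  (Y : ι → 𝒞) {J : Type u₁} [Category.{v₁} J] [IsFiltered J]
  (Rf : J ⥤ (𝒞ᵒᵖ ⥤ AddCommGrpCat.{w})) (c : Cocone Rf)

theorem isZero_colimit (p : ℕ)
    (hs : ∀ (n : ℕ) (a : Fin (n + 1) → ι) (s : c.pt.obj (op (PP Y a))),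
      ∃ (j : J) (y : (Rf.obj j).obj (op (PP Y a))), ((c.ι.app j).app (op (PP Y a))).hom y = s)
    (hi : ∀ (n : ℕ) (a : Fin (n + 1) → ι) (j : J) (y : (Rf.obj j).obj (op (PP Y a))),
      ((c.ι.app j).app (op (PP Y a))).hom y = 0 →
        ∃ (k : J) (f : j ⟶ k), ((Rf.map f).app (op (PP Y a))).hom y = 0)
    (hK : ∀ j, IsZero ((KK Y (Rf.obj j)).homology (p + 1))) :
    IsZero ((KK Y c.pt).homology (p + 1)) := by
  classical
  apply isZero_of_exists
  intro e he
  let _i1 : Fintype (Fin (p + 1 + 1) → ι) := Fintype.ofFinite _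
  let _i2 : Fintype (Fin (p + 2 + 1) → ι) := Fintype.ofFinite _
  -- represent the components of `e` at a common stage
  choose ja ya hya using fun a : Fin (p + 1 + 1) → ι =>
    hs (p + 1) a ((prj Y c.pt (p + 1) a).hom e)
  obtain ⟨j, hj⟩ := IsFiltered.sup_objs_exists (Finset.univ.image ja)
  have hj' : ∀ a, Nonempty (ja a ⟶ j) := fun a =>
    hj (Finset.mem_image_of_mem ja (Finset.mem_univ a))
  obtain ⟨ε, hε⟩ := exists_cochain Y (Rf.obj j) (p + 1)
    (fun a => ((Rf.map (hj' a).some).app (op (PP Y a))).hom (ya a))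
  have hεe : ((KKmap Y (c.ι.app j)).f (p + 1)).hom ε = e := by
    apply CechGen.ext Y c.pt (p + 1)
    intro a
    refine (KKmap_prj_apply Y (c.ι.app j) (p + 1) a ε).trans ?_
    rw [hε, ← hya a]
    have hw : Rf.map (hj' a).some ≫ c.ι.app j = c.ι.app (ja a) := c.w (hj' a).some
    rw [← hw]
    rfl
  -- the differential of `ε` dies at a later stage
  have hdε : ((KKmap Y (c.ι.app j)).f (p + 2)).hom
      (((KK Y (Rf.obj j)).d (p + 1) (p + 2)).hom ε) = 0 := by
    have := ConcreteCategory.congr_hom ((KKmap Y (c.ι.app j)).comm (p + 1) (p + 2)) ε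
    refine this.symm.trans ?_
    change ((KK Y c.pt).d (p + 1) (p + 2)).hom (((KKmap Y (c.ι.app j)).f (p + 1)).hom ε) = 0
    rw [hεe]
    exact he
  have hex : ∀ b ∈ (Finset.univ : Finset (Fin (p + 2 + 1) → ι)), ∃ (k : J) (f : j ⟶ k),
      ((Rf.map f).app (op (PP Y b))).hom
        ((prj Y (Rf.obj j) (p + 2) b).hom (((KK Y (Rf.obj j)).d (p + 1) (p + 2)).hom ε)) = 0 := by
    intro b _
    apply hi (p + 2) b j
    refine (KKmap_prj_apply Y (c.ι.app j) (p + 2) b _).symm.trans ?_
    rw [hdε, map_zero]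
  obtain ⟨k, f, hk⟩ := eventually_all j Finset.univ
    (fun (b : Fin (p + 2 + 1) → ι) k f => ((Rf.map f).app (op (PP Y b))).hom
        ((prj Y (Rf.obj j) (p + 2) b).hom (((KK Y (Rf.obj j)).d (p + 1) (p + 2)).hom ε)) = 0)
    (by
      intro b k f k' g' h
      have e1 : Rf.map (f ≫ g') = Rf.map f ≫ Rf.map g' := Rf.map_comp f g'
      rw [e1]
      change ((Rf.map g').app (op (PP Y b))).hom (((Rf.map f).app (op (PP Y b))).hom _) = 0
      rw [h, map_zero]) hex
  -- so the image of `ε` at stage `k` is a cocycle, hence a coboundary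
  let ε' := ((KKmap Y (Rf.map f)).f (p + 1)).hom ε
  have hdε' : ((KK Y (Rf.obj k)).d (p + 1) (p + 2)).hom ε' = 0 := by
    have := ConcreteCategory.congr_hom ((KKmap Y (Rf.map f)).comm (p + 1) (p + 2)) ε
    refine this.trans ?_
    change ((KKmap Y (Rf.map f)).f (p + 2)).hom
      (((KK Y (Rf.obj j)).d (p + 1) (p + 2)).hom ε) = 0
    apply CechGen.ext Y (Rf.obj k) (p + 2)
    intro b
    refine (KKmap_prj_apply Y (Rf.map f) (p + 2) b _).trans ?_
    rw [map_zero]
    exact hk b (Finset.mem_univ b)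
  obtain ⟨β, hβ⟩ := exists_of_isZero Y (Rf.obj k) p (hK k) ε' hdε'
  refine ⟨((KKmap Y (c.ι.app k)).f p).hom β, ?_⟩
  have h1 := ConcreteCategory.congr_hom ((KKmap Y (c.ι.app k)).comm p (p + 1)) β
  refine Eq.trans h1 ?_
  change ((KKmap Y (c.ι.app k)).f (p + 1)).hom (((KK Y (Rf.obj k)).d p (p + 1)).hom β) = e
  rw [hβ, ← hεe]
  have hw : Rf.map f ≫ c.ι.app k = c.ι.app j := c.w f
  have h2 : KKmap Y (Rf.map f) ≫ KKmap Y (c.ι.app k) = KKmap Y (c.ι.app j) := by
    rw [← hw]
    exact ((cechComplexFunctor Y).map_comp _ _).symm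
  rw [← h2]
  rfl

end H9FE.CechColimP
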