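import Mathlib
import Groth.Prelude.Def_ProEtS
import Groth.Agent.Lib.Helper9.FE.PCBase
import Groth.Agent.Lib.Helper3.OverPostProdG

/-! helper9: comparison of the base change functors `Φ b`, `Φ∞` of `PCBase` with Mathlib's
`Over.pullback`: `Φ∞ ≅ (Over.post ε ⋙ Over.pullback (c.π j)) ⋙ forget` and
`Φ b ≅ Over.pullback (De b → De j) ⋙ forget ⋙ ε`. -/

set_option autoImplicit false
set_option linter.unusedSectionVars false
set_option linter.style.haveILetI false
set_option backward.isDefEq.respectTransparency false
universe u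
open CategoryTheory Limits Opposite AlgebraicGeometry

namespace H9FE.PCBase

open H9FE.ProEtQc H9FE.ProEtK H9FE.BCLim H9FE.ProEtL H9FE.ProEtE Groth.Agent.Helper3

variable {X : Scheme.{u}} {Λ : Type u} [SmallCategory Λ] (De : Λ ⥤ X.Etale)
  (c : Cone (De ⋙ ProEtS.eps X)) (j : Λ)

/-- base change to the vertex, as a functor to the over category of the vertex -/
noncomputable def Hinf : Over (De.obj j) ⥤ Over c.pt :=
  Over.post (X := De.obj j) (ProEtS.eps X) ⋙
    Over.pullback (X := c.pt) (Y := (ProEtS.eps X).obj (De.obj j)) (c.π.app j)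

instance : PreservesFiniteProducts (Hinf De c j) := by
  haveI : PreservesFiniteProducts (Over.post (X := De.obj j) (ProEtS.eps X)) :=
    OverPostProdG.preservesFiniteProducts_overPost (ProEtS.eps X) (De.obj j)
  unfold Hinf
  infer_instance

/-- comparison of `Hinf` with `Φinf` -/
noncomputable def αinf : Hinf De c j ⋙ Over.forget c.pt ≅ Φinf De c j :=
  NatIso.ofComponents
    (fun W => pullbackSymmetry ((ProEtS.eps X).map W.hom) (c.π.app j))
    (fun {W W'} g => by
      apply pullback.hom_ext
      · simp [Hinf, Φinf, liftC, fstC, sndC, bcCone]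
        exact pullback.lift_snd _ _ _
      · simp [Hinf, Φinf, liftC, fstC, sndC, bcCone]
        exact pullback.lift_fst _ _ _)

/-- base change to a stage, in the étale site -/
noncomputable def Hb (b : Over j) : Over (De.obj j) ⥤ Over (De.obj b.left) :=
  Over.pullback (De.map b.hom)

/-- comparison of `Hb` with `Φobj` -/
noncomputable def βb (b : Over j) :
    Hb De j b ⋙ Over.forget (De.obj b.left) ⋙ ProEtS.eps X ≅ Φobj De j b :=
  NatIso.ofComponents
    (fun W => PreservesPullback.iso (ProEtS.eps X) W.hom (De.map b.hom) ≪≫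
      pullbackSymmetry ((ProEtS.eps X).map W.hom) ((ProEtS.eps X).map (De.map b.hom)))
    (fun {W W'} g => by
      apply pullback.hom_ext
      · simp [Hb, Φobj, liftD, fstD, sndD, bcD]
      · simp [Hb, Φobj, liftD, fstD, sndD, bcD])

end H9FE.PCBase
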