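import Mathlib
import Groth.Prelude.Def_ProEtS
import Groth.Prelude.Def_EtCech
import Groth.Agent.Lib.Helper9.FE.PCBase2
import Groth.Agent.Lib.Helper9.FE.CechPost
import Groth.Agent.Lib.Helper9.FE.CechColimP
import Groth.Agent.Lib.Helper9.FE.EtQcClass
import Groth.Agent.Lib.Helper9.FE.ProEtE4
import Groth.Agent.Lib.Helper7.LimDesc6
import Groth.Agent.Lib.Helper3.CechG
import Groth.Agent.Lib.Helper5.Misc.EtSiteBasic

/-! helper9: Čech cohomology of `ε⁻¹ I`, for an injective abelian étale sheaf `I`, with respect to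
a finite family of étale quasi-compact quasi-separated objects over the limit of a good cofiltered
system of étale objects vanishes in positive degrees (descent of the family to a stage, and the
Čech complex as a filtered colimit of Čech complexes of `I` on the étale site). -/

set_option autoImplicit false
set_option linter.unusedSectionVars false
set_option linter.style.haveILetI false
set_option backward.isDefEq.respectTransparency false
universe u
open CategoryTheory Limits Opposite AlgebraicGeometry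

namespace H9FE.PCLevel2

open H9FE.ProEtQc H9FE.ProEtK H9FE.BCLim H9FE.ProEtL H9FE.ProEtE H9FE.PCBase H9FE.CechGen
  Groth.Agent.Helper3 Groth.Agent.Lib.Helper5

variable {X : Scheme.{u}} [ProEtS.EpsCont X] {Λ : Type u} [SmallCategory Λ] [IsCofiltered Λ]
  (De : Λ ⥤ X.Etale) (c : Cone (De ⋙ ProEtS.eps X))

section Models

variable (hg : Good (Dp De) c) {ι : Type (u + 1)} [Finite ι] (Y : ι → Over c.pt)
  (hY : ∀ i, Etale (Y i).hom.left ∧ QuasiCompact (Y i).hom.left ∧ QuasiSeparated (Y i).hom.left)

include hg hY in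
/-- a finite family of étale qcqs objects over the limit descends to a stage -/
theorem exists_models :
    ∃ (j : Λ) (Y' : ι → Over (De.obj j)), (∀ i, (Y' i).left ∈ H9FE.EtQcClass.qcB X) ∧
      ∀ i, Nonempty (Y i ≅ (Hinf De c j).obj (Y' i)) := by
  classical
  let _ : Fintype ι := Fintype.ofFinite ι
  let Ds : Λ ⥤ Scheme.{u} := Dp De ⋙ toSch X
  let cs : Cone Ds := (toSch X).mapCone c
  have hc : IsLimit cs := hg.lim.some
  haveI : ∀ {a b : Λ} (f : a ⟶ b), IsAffineHom (Ds.map f) := fun f => hg.aff f
  obtain ⟨i₀⟩ := (IsCofiltered.nonempty : Nonempty Λ)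
  haveI : CompactSpace (Ds.obj i₀) := hg.qc i₀
  haveI : QuasiSeparatedSpace (Ds.obj i₀) := hg.qs i₀
  have hmod : ∀ i, ∃ (ji : Λ) (_ : ji ⟶ i₀)
      (M : Groth.Agent.Helper7.LimDesc.Model Ds cs (Y i).hom.left ji), Etale M.zj := by
    intro i
    haveI := (hY i).1
    haveI := (hY i).2.1
    haveI := (hY i).2.2
    exact Groth.Agent.Helper7.LimDesc.exists_model_etale_over hc i₀ (Y i).hom.left
  choose ji φi M hEt using hmod
  obtain ⟨j, hj⟩ := IsCofiltered.inf_objs_exists (Finset.univ.image ji)
  have ψ : ∀ i, j ⟶ ji i := fun i =>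
    (hj (Finset.mem_image_of_mem ji (Finset.mem_univ i))).some
  let M' : ∀ i, Groth.Agent.Helper7.LimDesc.Model Ds cs (Y i).hom.left j := fun i =>
    (M i).stage (ψ i)
  have hEt' : ∀ i, Etale (M' i).zj := fun i =>
    Groth.Agent.Helper7.LimDesc.Model.stage_property (M i) @Etale (hEt i) (ψ i)
  haveI : Etale (De.obj j).hom := (De.obj j).prop
  let W : ι → X.Etale := fun i =>
    haveI := hEt' i
    EtSiteBasic.ofEtale ((M' i).zj ≫ (De.obj j).hom)
  let w : ∀ i, W i ⟶ De.obj j := fun i => MorphismProperty.Over.homMk (M' i).zj rfl trivial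
  let Y' : ι → Over (De.obj j) := fun i => Over.mk (w i)
  refine ⟨j, Y', fun i => ?_, fun i => ?_⟩
  · haveI : CompactSpace (Ds.obj j) := hg.qc j
    haveI : QuasiSeparatedSpace (Ds.obj j) := hg.qs j
    haveI := (M' i).qc
    haveI := (M' i).qs
    exact ⟨QuasiCompact.compactSpace_of_compactSpace (M' i).zj,
      quasiSeparatedSpace_of_quasiSeparated (M' i).zj⟩
  · have hw1 : (M' i).q ≫ (M' i).zj = (Y i).hom.left ≫ (c.π.app j).left := (M' i).isPullback.w
    let q : (Y i).left ⟶ (ProEtS.eps X).obj (W i) :=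
      MorphismProperty.Over.homMk (M' i).q (by
        change (M' i).q ≫ (M' i).zj ≫ (De.obj j).hom = (Y i).left.hom
        rw [← Category.assoc, hw1, Category.assoc]
        have h1 : (c.π.app j).left ≫ (De.obj j).hom = c.pt.hom :=
          MorphismProperty.Over.w (c.π.app j)
        have h2 : (Y i).hom.left ≫ c.pt.hom = (Y i).left.hom := MorphismProperty.Over.w (Y i).hom
        rw [h1, h2]) trivial
    have hcomm : q ≫ (ProEtS.eps X).map (w i) = (Y i).hom ≫ c.π.app j := by
      apply MorphismProperty.Over.Hom.ext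
      exact hw1
    have hpb : IsPullback q (Y i).hom ((ProEtS.eps X).map (w i)) (c.π.app j) :=
      IsPullback.of_map (toSch X) hcomm (M' i).isPullback
    exact ⟨Over.isoMk hpb.isoPullback (by
      change hpb.isoPullback.hom ≫ pullback.snd _ _ = (Y i).hom
      exact hpb.isoPullback_hom_snd)⟩

end Models

section Inj

variable (I : EtCoh.Ab X)

/-- the restriction of `ε⁻¹ I` to the étale site -/
noncomputable abbrev MI : X.Etaleᵒᵖ ⥤ AddCommGrpCat.{u + 1} := (ProEtS.eps X).op ⋙ GF I

/-- `I ≅ ε_* ε⁻¹ I` on underlying presheaves -/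
noncomputable def unitIso : I.obj ≅ MI I :=
  haveI := main717 X I
  (sheafToPresheaf _ _).mapIso (asIso ((ProEtS.epsAdj X).unit.app I))

instance [Injective I] : Injective (MI I) := by
  haveI : Injective I.obj := H9FE.CechCartanG.injective_sheaf_obj X.smallEtaleTopology I
  exact Injective.of_iso (unitIso I) inferInstance

end Inj

section Main

variable (hg : Good (Dp De) c) {ι : Type (u + 1)} [Finite ι] (I : EtCoh.Ab X) [Injective I]

/-- Čech cohomology at a stage vanishes -/
lemma isZero_stage (j : Λ) (Y' : ι → Over (De.obj j)) (b : Over j) (p : ℕ) :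
    IsZero ((KK Y' ((Rf De j (GF I)).obj (op b))).homology (p + 1)) := by
  have h0 : IsZero ((KK (fun i => (Hb De j b).obj (Y' i))
      ((Over.forget (De.obj b.left)).op ⋙ MI I)).homology (p + 1)) := by
    have : PreservesFiniteProducts (Over.post (X := De.obj b.left) (𝟭 X.Etale)) :=
      OverPostProdG.preservesFiniteProducts_overPost (𝟭 X.Etale) (De.obj b.left)
    exact CechG.isZero_cech_of_injective (𝟭 X.Etale) (fun i => (Hb De j b).obj (Y' i)) (MI I) p
  haveI : PreservesFiniteProducts (Hb De j b) := by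
    unfold Hb
    infer_instance
  have h1 : IsZero ((KK Y' ((Hb De j b).op ⋙ (Over.forget (De.obj b.left)).op ⋙ MI I)).homology
      (p + 1)) :=
    H9FE.CechPost.isZero_post_of (G := Hb De j b) (Y' := Y')
      (Q := (Over.forget (De.obj b.left)).op ⋙ MI I) (fun i => Iso.refl _) (p + 1) h0
  have e : (Hb De j b).op ⋙ (Over.forget (De.obj b.left)).op ⋙ MI I ≅
      (Rf De j (GF I)).obj (op b) :=
    Functor.isoWhiskerRight (NatIso.op (βb De j b)).symm (GF I)
  exact isZero_homology_of_iso ((cechComplexFunctor Y').mapIso e) (p + 1) h1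

include hg in
/-- Čech cohomology of `ε⁻¹ I` with respect to a finite family of étale qcqs objects over the limit
of a good system of étale objects vanishes in positive degrees -/
theorem isZero_cechH (Y : ι → Over c.pt)
    (hY : ∀ i, Etale (Y i).hom.left ∧ QuasiCompact (Y i).hom.left ∧ QuasiSeparated (Y i).hom.left)
    (p : ℕ) : IsZero (EtCech.cechH Y (GF I) (p + 1)) := by
  obtain ⟨j, Y', hqc, he⟩ := exists_models De c hg Y hY
  have hj : De.obj j ∈ H9FE.EtQcClass.qcB X := ⟨hg.qc j, hg.qs j⟩
  -- reduce to the family `Y'` and the presheaf `Φ∞.op ⋙ P`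
  change IsZero ((KK Y ((Over.forget c.pt).op ⋙ GF I)).homology (p + 1))
  refine H9FE.CechPost.isZero_of_post (G := Hinf De c j) (Y' := Y') (fun i => (he i).some)
    (p + 1) ?_
  have e : (cR De c j (GF I)).pt ≅ (Hinf De c j).op ⋙ (Over.forget c.pt).op ⋙ GF I :=
    Functor.isoWhiskerRight (NatIso.op (αinf De c j)) (GF I)
  refine isZero_homology_of_iso ((cechComplexFunctor Y').mapIso e) (p + 1) ?_
  haveI : IsFiltered (Over j)ᵒᵖ := inferInstance
  refine H9FE.CechColimP.isZero_colimit Y' (Rf De j (GF I)) (cR De c j (GF I)) p ?_ ?_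
    (fun b => isZero_stage De I j Y' b.unop p)
  · intro n a s
    have hW := H9FE.EtQcClass.cech_obj_mem_qcB hj Y' hqc n a
    haveI : CompactSpace ((ProEtS.eps X).obj (PP Y' a).left).left := hW.1
    haveI : QuasiSeparatedSpace ((ProEtS.eps X).obj (PP Y' a).left).left := hW.2
    obtain ⟨b, sb, hsb⟩ := section_descent (good_bc hg j (vW De j (PP Y' a))) I s
    exact ⟨op b, sb, hsb⟩
  · intro n a b y hy
    have hW := H9FE.EtQcClass.cech_obj_mem_qcB hj Y' hqc n a
    haveI : CompactSpace ((ProEtS.eps X).obj (PP Y' a).left).left := hW.1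
    haveI : QuasiSeparatedSpace ((ProEtS.eps X).obj (PP Y' a).left).left := hW.2
    obtain ⟨b', f, hf⟩ := section_vanish_descent (good_bc hg j (vW De j (PP Y' a))) I b.unop y hy
    exact ⟨op b', f.op, hf⟩

end Main

end H9FE.PCLevel2
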