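import Mathlib
import Groth.Prelude.Def_ProEtS
import Groth.Agent.Lib.Helper9.FE.PCCov2
import Groth.Agent.Lib.Helper9.FE.PCLevel1
import Groth.Agent.Lib.Helper9.FE.PCLevel2
import Groth.Agent.Lib.Helper9.FE.CechCartanG
import Groth.Agent.Lib.Helper9.FE.SiteHUColim

/-! helper9: vanishing of the higher cohomology of `ε⁻¹ I` (for an injective abelian étale sheaf
`I`) over the members of `Bp X` (affine objects of the small pro-étale site which are ind-étale
over an affine étale `X`-scheme), by Cartan's criterion. -/

set_option autoImplicit false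
set_option linter.unusedSectionVars false
set_option linter.style.haveILetI false
set_option backward.isDefEq.respectTransparency false
universe u
open CategoryTheory Limits Opposite AlgebraicGeometry Abelian

namespace H9FE.PC

open H9FE.ProEtQc H9FE.ProEtL H9FE.ProEtPL H9FE.SiteHUColim H9FE.CechCartanG
  Groth.Agent.Lib.Helper5

variable {X : Scheme.{u}}

/-- the free abelian sheaf on the representable presheaf of `V` -/
noncomputable abbrev ZV (V : X.ProEt) : ProEtS.AbP X :=
  (presheafToSheaf (Scheme.ProEt.topology X) AddCommGrpCat.{u + 1}).obj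
    (uliftYoneda.{u + 1}.obj V ⋙ AddCommGrpCat.free)

/-- `ZV V` corepresents sections over `V` -/
noncomputable def reprZV (V : X.ProEt) : Repr (ZV V) V where
  e G := ((sheafificationAdjunction (Scheme.ProEt.topology X) AddCommGrpCat.{u + 1}).homEquiv
      (uliftYoneda.{u + 1}.obj V ⋙ AddCommGrpCat.free) G).trans
    (((Adjunction.whiskerRight X.ProEtᵒᵖ AddCommGrpCat.adj).homEquiv
      (uliftYoneda.{u + 1}.obj V) G.obj).trans uliftYonedaEquiv)
  nat {G G'} φ ψ := by
    let a1 := sheafificationAdjunction (Scheme.ProEt.topology X) AddCommGrpCat.{u + 1}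
    let a2 := Adjunction.whiskerRight X.ProEtᵒᵖ AddCommGrpCat.adj.{u + 1}
    let P : X.ProEtᵒᵖ ⥤ AddCommGrpCat.{u + 1} := uliftYoneda.{u + 1}.obj V ⋙ AddCommGrpCat.free
    have h1 : a1.homEquiv P G' (ψ ≫ φ) = a1.homEquiv P G ψ ≫ φ.hom :=
      a1.homEquiv_naturality_right ψ φ
    have h2 : a2.homEquiv (uliftYoneda.{u + 1}.obj V) G'.obj (a1.homEquiv P G ψ ≫ φ.hom) =
        a2.homEquiv (uliftYoneda.{u + 1}.obj V) G.obj (a1.homEquiv P G ψ) ≫
          Functor.whiskerRight φ.hom (forget AddCommGrpCat.{u + 1}) :=
      a2.homEquiv_naturality_right _ _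
    exact (congrArg (fun t => uliftYonedaEquiv
      (a2.homEquiv (uliftYoneda.{u + 1}.obj V) G'.obj t)) h1).trans
        ((congrArg uliftYonedaEquiv h2).trans rfl)

/-- a member of `Bp X` is the limit of a good cofiltered system of affine étale `X`-schemes -/
theorem exists_etale_presentation (V : X.ProEt) (hV : V ∈ Bp X) :
    ∃ (Λ : Type u) (_ : SmallCategory Λ) (_ : IsCofiltered Λ) (De : Λ ⥤ X.Etale)
      (c : Cone (De ⋙ ProEtS.eps X)), c.pt = V ∧ Good (De ⋙ ProEtS.eps X) c := by
  obtain ⟨hVaff, U₀, hU₀, g, hg⟩ := hV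
  haveI : IsAffine ((ProEtS.eps X).obj U₀).left := hU₀
  let Zo : Over ((ProEtS.eps X).obj U₀) := Over.mk g
  haveI : IsAffine Zo.left.left := hVaff
  obtain ⟨J, _, _, Dg, cg, hpt, haff, het, hlim⟩ :=
    exists_presentation ((ProEtS.eps X).obj U₀) Zo hg
  haveI hEtU : Etale U₀.hom := U₀.prop
  have hEt : ∀ j, Etale (Dg.obj j).left.hom := fun j => by
    haveI := het j
    have h1 : (Dg.obj j).hom.left ≫ U₀.hom = (Dg.obj j).left.hom :=
      MorphismProperty.Over.w (Dg.obj j).hom
    rw [← h1]
    infer_instance
  let De : J ⥤ X.Etale :=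
    { obj := fun j =>
        haveI := hEt j
        EtSiteBasic.ofEtale (Dg.obj j).left.hom
      map := fun {j j'} f => MorphismProperty.Over.homMk (Dg.map f).left.left
        (MorphismProperty.Over.w (Dg.map f).left) trivial
      map_id := fun j => by
        apply MorphismProperty.Over.Hom.ext
        change (Dg.map (𝟙 j)).left.left = 𝟙 _
        rw [Dg.map_id]
        rfl
      map_comp := fun f f' => by
        apply MorphismProperty.Over.Hom.ext
        change (Dg.map (f ≫ f')).left.left = (Dg.map f).left.left ≫ (Dg.map f').left.left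
        rw [Dg.map_comp]
        rfl }
  let c : Cone (De ⋙ ProEtS.eps X) :=
    { pt := cg.pt.left
      π :=
        { app := fun j => MorphismProperty.Over.homMk (cg.π.app j).left.left
            (MorphismProperty.Over.w (cg.π.app j).left) trivial
          naturality := fun j j' f => by
            apply MorphismProperty.Over.Hom.ext
            have h1 := congrArg (fun t => t.left.left) (cg.π.naturality f)
            exact h1 } }
  refine ⟨J, inferInstance, inferInstance, De, c, congrArg (fun t => t.left) hpt, ?_⟩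
  have haff' : ∀ j, IsAffine ((De ⋙ ProEtS.eps X).obj j).left := fun j => haff j
  exact
    { lim := hlim
      aff := fun {j j'} f => by
        haveI := haff' j
        haveI := haff' j'
        infer_instance
      qc := fun j => by
        haveI := haff' j
        infer_instance
      qs := fun j => by
        haveI := haff' j
        infer_instance }

section Vanish

variable [ProEtS.EpsCont X] (I : EtCoh.Ab X) [Injective I]

/-- Čech cohomology of `ε⁻¹ I` vanishes for the coverings in `Covp` -/
theorem isZero_cechH_covp (V : X.ProEt) (ι : Type (u + 1)) (Y : ι → Over V) (h : Covp X V ι Y)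
    (p : ℕ) : IsZero (EtCech.cechH Y ((ProEtS.epsPull X).obj I).obj (p + 1)) := by
  obtain ⟨Λ, _, _, De, c, hpt, hg⟩ := exists_etale_presentation V h.1
  subst hpt
  haveI : Finite ι := h.2.1
  haveI : IsAffine c.pt.left := h.1.1
  exact H9FE.PCLevel1.isZero_cechH c.pt I
    (fun {ι'} _ Y' hY' p' => H9FE.PCLevel2.isZero_cechH De c hg I Y' hY' p') Y h.2.2.1 p

/-- the higher cohomology of `ε⁻¹ I` over a member of `Bp X` vanishes -/
theorem ext_eq_zero {Z : ProEtS.AbP X} {V : X.ProEt} (R : Repr Z V) (hV : V ∈ Bp X) (p : ℕ)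
    (x : Ext.{u + 1} Z ((ProEtS.epsPull X).obj I) (p + 1)) : x = 0 :=
  cartan.{u + 1, u, u + 1, u + 1} (Scheme.ProEt.topology X) (Bp X) (Covp X) covp_h1 covp_h2 Z V hV R.lift
    ((ProEtS.epsPull X).obj I) (isZero_cechH_covp I) p x

end Vanish

end H9FE.PC
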