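import Mathlib
import Groth.Prelude.Def_ProEtS
import Groth.Prelude.Def_EtCech
import Groth.Agent.Lib.Helper9.FE.PCCartan
import Groth.Agent.Lib.Helper9.FE.CechLeray
import Groth.Agent.Lib.Helper9.FE.CechPostNE
import Groth.Agent.Lib.Helper9.FE.OverMapMono
import Groth.Agent.Lib.Helper9.FE.ProEtW8

/-! helper9: Leray's acyclic covering theorem for Zariski coverings of open pieces of the limit of a
good cofiltered system of étale objects in the small pro-étale site: if an open piece `O` of the
limit `T` is a finite union of quasi-compact open pieces `O_a` all of whose finite intersections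
are acyclic for `ε⁻¹ I` (`I` injective), then `O` is acyclic for `ε⁻¹ I`. -/

set_option autoImplicit false
set_option linter.unusedSectionVars false
set_option linter.style.haveILetI false
set_option backward.isDefEq.respectTransparency false
universe u
open CategoryTheory Limits Opposite AlgebraicGeometry Abelian

namespace H9FE.PBC

open H9FE.ProEtQc H9FE.ProEtW H9FE.ProEtL H9FE.PC H9FE.PCBase H9FE.SiteHUColim H9FE.CechLeray
  H9FE.CechGen Groth.Agent.Helper3 Groth.Agent.Helper3.CechDeltaG

variable {X : Scheme.{u}}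

section OpenLift

variable (T : X.ProEt)

/-- a morphism into `T` with image in the open piece `O` factors through it -/
noncomputable def liftOpen {Z : X.ProEt} (m : Z ⟶ T) (O : T.left.Opens)
    (h : ∀ z : Z.left, m.left z ∈ O) : Z ⟶ openSub T O :=
  MorphismProperty.Over.homMk (IsOpenImmersion.lift O.ι m.left (by
      rintro _ ⟨z, rfl⟩
      have hr : Set.range O.ι = (O : Set T.left) := Scheme.Opens.range_ι O
      exact (Set.ext_iff.mp hr _).mpr (h z))) (by
      show IsOpenImmersion.lift O.ι m.left _ ≫ O.ι ≫ T.hom = Z.hom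
      rw [IsOpenImmersion.lift_fac_assoc]
      exact MorphismProperty.Over.w m) trivial

lemma liftOpen_ι {Z : X.ProEt} (m : Z ⟶ T) (O : T.left.Opens)
    (h : ∀ z : Z.left, m.left z ∈ O) : liftOpen T m O h ≫ openSubι T O = m := by
  apply MorphismProperty.Over.Hom.ext
  show IsOpenImmersion.lift O.ι m.left _ ≫ O.ι = m.left
  exact IsOpenImmersion.lift_fac _ _ _

/-- iterated fibre products of open pieces over an open piece are intersections -/
lemma nonempty_prod_iso (O : T.left.Opens) {ι : Type*} (Os : ι → T.left.Opens)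
    (hle : ∀ a, Os a ≤ O) {m : ℕ} (b : Fin (m + 1) → ι) :
    Nonempty ((∏ᶜ fun k => (Over.mk (resHom T (hle (b k))) : Over (openSub T O))).left ≅
      openSub T (⨅ k, Os (b k))) := by
  let Oinf : T.left.Opens := ⨅ k, Os (b k)
  have hinf : Oinf ≤ O := (iInf_le _ 0).trans (hle (b 0))
  let Yb : Fin (m + 1) → Over (openSub T O) := fun k => Over.mk (resHom T (hle (b k)))
  let t : Fan Yb := Fan.mk (Over.mk (resHom T hinf))
    (fun k => Over.homMk (resHom T (iInf_le (fun k => Os (b k)) k)) (resHom_comp T _ _))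
  -- the composite to `T` of a fan lands in every `Os (b k)`
  have hμ : ∀ (s : Fan Yb) (k : Fin (m + 1)),
      (s.proj k).left ≫ openSubι T (Os (b k)) = s.pt.hom ≫ openSubι T O := by
    intro s k
    have h1 : (s.proj k).left ≫ resHom T (hle (b k)) = s.pt.hom := Over.w (s.proj k)
    rw [← h1, Category.assoc, resHom_ι]
  have hmem : ∀ (s : Fan Yb) (z : s.pt.left.left), (s.pt.hom ≫ openSubι T O).left z ∈ Oinf := by
    intro s z
    rw [← SetLike.mem_coe, TopologicalSpace.Opens.coe_iInf, Set.mem_iInter]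
    intro k
    exact mem_of_fac T (s.pt.hom ≫ openSubι T O) (Os (b k)) (s.proj k).left (hμ s k).symm z
  have ht : IsLimit t := by
    refine Fan.IsLimit.mk t
      (fun s => Over.homMk (liftOpen T (s.pt.hom ≫ openSubι T O) Oinf (hmem s)) ?_) ?_ ?_
    · show liftOpen T (s.pt.hom ≫ openSubι T O) Oinf (hmem s) ≫ resHom T hinf = s.pt.hom
      rw [← cancel_mono (openSubι T O), Category.assoc, resHom_ι, liftOpen_ι]
    · intro s k
      apply Over.OverMorphism.ext
      show liftOpen T (s.pt.hom ≫ openSubι T O) Oinf (hmem s) ≫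
        resHom T (iInf_le (fun k => Os (b k)) k) = (s.proj k).left
      rw [← cancel_mono (openSubι T (Os (b k))), Category.assoc, resHom_ι, liftOpen_ι, hμ]
    · intro s m' hm'
      apply Over.OverMorphism.ext
      show m'.left = liftOpen T (s.pt.hom ≫ openSubι T O) Oinf (hmem s)
      rw [← cancel_mono (openSubι T Oinf), liftOpen_ι]
      have h1 : m'.left ≫ resHom T hinf = s.pt.hom := Over.w m'
      rw [← h1, Category.assoc, resHom_ι]
  exact ⟨(Over.forget (openSub T O)).mapIso
    (IsLimit.conePointUniqueUpToIso (limit.isLimit _) ht)⟩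

end OpenLift

section Acy

variable [ProEtS.EpsCont X] (I : EtCoh.Ab X)

/-- acyclicity of an object for `ε⁻¹ I` -/
def Acy (W : X.ProEt) : Prop :=
  ∃ (Z : ProEtS.AbP X) (_ : Repr Z W),
    ∀ (p : ℕ) (x : Ext.{u + 1} Z ((ProEtS.epsPull X).obj I) (p + 1)), x = 0

lemma Acy.of_iso {W W' : X.ProEt} (e : W ≅ W') (h : Acy I W) : Acy I W' := by
  obtain ⟨Z, R, hZ⟩ := h
  exact ⟨Z, reprOfIso R e, hZ⟩

lemma acy_of_mem_Bp [Injective I] {W : X.ProEt} (hW : W ∈ Bp X) : Acy I W :=
  ⟨ZV W, reprZV W, fun p x => ext_eq_zero I (reprZV W) hW p x⟩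

end Acy

section Step

variable [ProEtS.EpsCont X] {Λ : Type u} [SmallCategory Λ] [IsCofiltered Λ]
  (De : Λ ⥤ X.Etale) (c : Cone (De ⋙ ProEtS.eps X))

set_option maxHeartbeats 1000000 in
/-- the Leray step -/
theorem leray_step (hg : Good (Dp De) c) (I : EtCoh.Ab X) [Injective I]
    (O : c.pt.left.Opens) {κ : Type u} [Finite κ] (Os : κ → c.pt.left.Opens)
    (hle : ∀ a, Os a ≤ O) (hcov : ∀ x ∈ O, ∃ a, x ∈ Os a)
    (hqc : ∀ a, IsCompact (Os a : Set c.pt.left))
    (𝔖 : Set c.pt.left.Opens) (h𝔖 : InfClosed 𝔖) (hOs : ∀ a, Os a ∈ 𝔖)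
    (hacy : ∀ O' ∈ 𝔖, Acy I (openSub c.pt O')) : Acy I (openSub c.pt O) := by
  classical
  haveI hqs : QuasiSeparatedSpace c.pt.left := hg.pt_qs
  let Y' : ULift.{u + 1} κ → Over (openSub c.pt O) := fun a => Over.mk (resHom c.pt (hle a.down))
  let Yt : ULift.{u + 1} κ → Over c.pt := fun a => Over.mk (openSubι c.pt (Os a.down))
  haveI hcs : ∀ a, CompactSpace (openSub c.pt (Os a)).left := fun a =>
    isCompact_iff_compactSpace.mp (hqc a)
  haveI hqsO : QuasiSeparatedSpace (openSub c.pt O).left :=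
    QuasiSeparatedSpace.of_isOpenEmbedding O.ι.isOpenEmbedding
  refine ⟨ZV (openSub c.pt O), reprZV (openSub c.pt O), fun p x => ?_⟩
  refine leray (Scheme.ProEt.topology X) (ZV (openSub c.pt O)) (openSub c.pt O)
    (reprZV (openSub c.pt O)) Y' ?_ ((ProEtS.epsPull X).obj I) ?_ ?_ p x
  · -- covering
    obtain ⟨n, ⟨e⟩⟩ := Finite.exists_equiv_fin κ
    have h1 : Sieve.ofArrows (fun k : Fin n => openSub c.pt (Os (e.symm k)))
        (fun k => resHom c.pt (hle (e.symm k))) ∈
          Scheme.ProEt.topology X (openSub c.pt O) := by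
      refine ofArrows_mem _ _ (fun k => hcs (e.symm k)) (fun v => ?_)
      obtain ⟨a, ha⟩ := hcov v.1 v.2
      refine ⟨e a, ⟨⟨v.1, by rw [e.symm_apply_apply]; exact ha⟩, ?_⟩⟩
      apply Subtype.ext
      rw [resHom_left]
      exact Scheme.homOfLE_apply _ _
    refine (Scheme.ProEt.topology X).superset_covering ?_ h1
    rintro Z f ⟨_, l, _, ⟨k⟩, rfl⟩
    exact ⟨_, l, _, Presieve.ofArrows.mk (ULift.up (e.symm k)), rfl⟩
  · -- iterated fibre products
    intro m a
    have hmem : (⨅ k, Os (a k).down) ∈ 𝔖 :=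
      h𝔖.iInf_mem_of_nonempty (fun k => hOs (a k).down)
    obtain ⟨Z, R, hZ⟩ := hacy _ hmem
    obtain ⟨e⟩ := nonempty_prod_iso c.pt O (fun a : ULift.{u + 1} κ => Os a.down)
      (fun a => hle a.down) a
    exact ⟨Z, reprOfIso R e.symm, hZ⟩
  · -- Čech cohomology
    intro p
    have hYt : ∀ i, Etale (Yt i).hom.left ∧ QuasiCompact (Yt i).hom.left ∧
        QuasiSeparated (Yt i).hom.left := by
      intro i
      haveI := hcs i.down
      refine ⟨(inferInstance : Etale (Os i.down).ι), ?_, (inferInstance : QuasiSeparated (Os i.down).ι)⟩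
      haveI : CompactSpace ↥((Os i.down).toScheme) := hcs i.down
      exact (inferInstance : QuasiCompact (Os i.down).ι)
    have h0 := H9FE.PCLevel2.isZero_cechH De c hg I Yt hYt p
    have h1 : IsZero ((KK Yt ((Over.forget c.pt).op ⋙ GF I)).homology (p + 1)) := h0
    haveI : ∀ n : SimplexCategory, PreservesLimitsOfShape (Discrete (ToType n))
        (Over.map (openSubι c.pt O)) := fun n => by
      haveI : Nonempty (ToType n) := (inferInstance : Nonempty (Fin (n.len + 1)))
      exact H9FE.OverMapMono.preservesLimitsOfShape_discrete (openSubι c.pt O) (ToType n)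
    have h2 := H9FE.CechPostNE.isZero_post_of (G := Over.map (openSubι c.pt O)) (Y' := Y')
      (Q := (Over.forget c.pt).op ⋙ GF I) (Y := Yt)
      (fun i => Over.isoMk (Iso.refl _) (by
        show 𝟙 _ ≫ (resHom c.pt (hle i.down) ≫ openSubι c.pt O) = openSubι c.pt (Os i.down)
        rw [Category.id_comp, resHom_ι])) (p + 1) h1
    exact h2

end Step

end H9FE.PBC
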