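import Mathlib
import Groth.Prelude.Def_ProEtS
import Groth.Agent.Lib.Helper9.FE.PBCGood
import Groth.Agent.Lib.Helper9.FE.PBCLeray
import Groth.Agent.Lib.Helper9.FE.PBCBasis
import Groth.Agent.Lib.Helper9.FE.PCRpush
import Groth.Agent.Lib.Helper5.Misc.EtSiteBasic

/-! helper9: for a quasi-compact quasi-separated morphism `f : X ⟶ Y`, an injective abelian étale
sheaf `I` on `X` and a member `V` of `Bp Y`, the base change `V ×_Y X` is acyclic for `ε⁻¹ I`
(Leray's theorem, twice, for Zariski coverings of quasi-compact open pieces); hence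
`R^{q+1} f_{proet,*} (ε⁻¹ I) = 0`. -/

set_option autoImplicit false
set_option linter.unusedSectionVars false
set_option linter.style.haveILetI false
set_option backward.isDefEq.respectTransparency false
universe u
open CategoryTheory Limits Opposite AlgebraicGeometry Abelian

namespace H9FE.PBC

open H9FE.ProEtQc H9FE.ProEtW H9FE.ProEtL H9FE.PC H9FE.PCBase H9FE.SiteHUColim
  Groth.Agent.Lib.Helper5

variable {X Y : Scheme.{u}} (f : X ⟶ Y)

/-- base change of an object -/
noncomputable abbrev bT (V : Y.ProEt) : X.ProEt := (ProEtS.bcP f).obj V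

/-- base change of a morphism -/
noncomputable abbrev bπ {V E₀ : Y.ProEt} (g : V ⟶ E₀) : bT f V ⟶ bT f E₀ := (ProEtS.bcP f).map g

/-- the open piece of `V ×_Y X` over an open piece of `E₀ ×_Y X` -/
noncomputable abbrev OW {V E₀ : Y.ProEt} (g : V ⟶ E₀) (W : (bT f E₀).left.Opens) :
    (bT f V).left.Opens := (bπ f g).left ⁻¹ᵁ W

section Fix

variable {V E₀ : Y.ProEt} (g : V ⟶ E₀) [IsAffine V.left] [IsAffine E₀.left] [Etale E₀.hom]

lemma isAffineHom_bπ : IsAffineHom (bπ f g).left :=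
  MorphismProperty.of_isPullback (P := @IsAffineHom) (isPullback_bcP_map f g).flip
    (inferInstance : IsAffineHom g.left)

/-- the piece over an affine open is a member of `Bp X` -/
theorem mem_Bp_of_affine (hg : IE g.left) (W : (bT f E₀).left.Opens) (hW : IsAffineOpen W) :
    openSub (bT f V) (OW f g W) ∈ Bp X := by
  haveI hπ : IsAffineHom (bπ f g).left := isAffineHom_bπ f g
  have hO : IsAffineOpen (OW f g W) := hW.preimage (bπ f g).left
  haveI : Etale (bT f E₀).hom := (inferInstance : Etale (pullback.snd E₀.hom f))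
  let E : X.Etale := EtSiteBasic.ofEtale (W.ι ≫ (bT f E₀).hom)
  have hEaff : IsAffine E.left := hW
  refine ⟨hO, E, hEaff, MorphismProperty.Over.homMk ((bπ f g).left ∣_ W) ?_ trivial, ?_⟩
  · show ((bπ f g).left ∣_ W) ≫ W.ι ≫ (bT f E₀).hom = (OW f g W).ι ≫ (bT f V).hom
    rw [← Category.assoc, morphismRestrict_ι, Category.assoc, MorphismProperty.Over.w (bπ f g)]
  · show IE ((bπ f g).left ∣_ W)
    haveI : IsAffine W.toScheme := hW
    haveI : IsAffine ((𝟭 Scheme).obj V.left) := (inferInstance : IsAffine V.left)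
    haveI : IsAffine ((𝟭 Scheme).obj E₀.left) := (inferInstance : IsAffine E₀.left)
    have sq := (isPullback_morphismRestrict (bπ f g).left W).paste_vert (isPullback_bcP_map f g)
    exact IE_fst_of_isPullback sq hg

end Fix

section Acyclic

variable [QuasiCompact f] [QuasiSeparated f] [ProEtS.EpsCont X]
  {Λ : Type u} [SmallCategory Λ] [IsCofiltered Λ]
  (De : Λ ⥤ Y.Etale) (c : Cone (De ⋙ ProEtS.eps Y)) (hgd : Good (Dp De) c)
  {E₀ : Y.ProEt} (g : c.pt ⟶ E₀) [IsAffine c.pt.left] [IsAffine E₀.left] [Etale E₀.hom]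
  (hg : IE g.left) (I : EtCoh.Ab X) [Injective I]

include hgd hg in
/-- the piece over a quasi-compact open contained in an affine open is acyclic -/
theorem acy_of_le_affine (W₀ : (bT f E₀).left.Opens) (hW₀ : IsAffineOpen W₀)
    (W : (bT f E₀).left.Opens) (hWc : IsCompact (W : Set (bT f E₀).left)) (hWle : W ≤ W₀) :
    Acy I (openSub (bT f c.pt) (OW f g W)) := by
  classical
  haveI hπ : IsAffineHom (bπ f g).left := isAffineHom_bπ f g
  have hex : ∀ x : W, ∃ r : Γ((bT f E₀).left, W₀),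
      (bT f E₀).left.basicOpen r ≤ W ∧ (x : (bT f E₀).left) ∈ (bT f E₀).left.basicOpen r :=
    fun x => hW₀.exists_basicOpen_le x (hWle x.2)
  choose r hrle hrmem using hex
  obtain ⟨t, ht⟩ := hWc.elim_finite_subcover
    (fun x : W => (((bT f E₀).left.basicOpen (r x) : (bT f E₀).left.Opens) : Set (bT f E₀).left))
    (fun x => ((bT f E₀).left.basicOpen (r x)).isOpen)
    (fun y hy => Set.mem_iUnion.2 ⟨⟨y, hy⟩, hrmem ⟨y, hy⟩⟩)
  refine leray_step (DeX f De) (cX f De c) (good_cX f De c hgd) I (OW f g W)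
    (κ := ↥t) (fun a => OW f g ((bT f E₀).left.basicOpen (r a.1)))
    (fun a z hz => hrle a.1 hz) ?_ (fun a => ?_)
    {O' | ∃ r' : Γ((bT f E₀).left, W₀), O' = OW f g ((bT f E₀).left.basicOpen r')} ?_
    (fun a => ⟨r a.1, rfl⟩) ?_
  · intro x hx
    have h1 := ht hx
    simp only [Set.mem_iUnion] at h1
    obtain ⟨a, ha, hxa⟩ := h1
    exact ⟨⟨a, ha⟩, hxa⟩
  · exact ((hW₀.basicOpen (r a.1)).preimage (bπ f g).left).isCompact
  · rintro _ ⟨r₁, rfl⟩ _ ⟨r₂, rfl⟩
    refine ⟨r₁ * r₂, ?_⟩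
    rw [Scheme.basicOpen_mul]
    rfl
  · rintro _ ⟨r', rfl⟩
    exact acy_of_mem_Bp I (mem_Bp_of_affine f g hg _ (hW₀.basicOpen r'))

include hgd hg in
/-- the base change of the limit is acyclic -/
theorem acy_bT : Acy I (bT f c.pt) := by
  classical
  haveI hπ : IsAffineHom (bπ f g).left := isAffineHom_bπ f g
  haveI : CompactSpace ↥((𝟭 Scheme).obj E₀.left) := (inferInstance : CompactSpace E₀.left)
  haveI : QuasiSeparatedSpace ↥((𝟭 Scheme).obj E₀.left) :=
    (inferInstance : QuasiSeparatedSpace E₀.left)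
  haveI : CompactSpace (bT f E₀).left :=
    QuasiCompact.compactSpace_of_compactSpace
      (pullback.fst E₀.hom f : (bT f E₀).left ⟶ E₀.left)
  haveI : QuasiSeparatedSpace (bT f E₀).left :=
    quasiSeparatedSpace_of_quasiSeparated
      (pullback.fst E₀.hom f : (bT f E₀).left ⟶ E₀.left)
  obtain ⟨s, hs, hstop⟩ := (isCompact_iff_finite_and_eq_biUnion_affineOpens
    (U := (⊤ : (bT f E₀).left.Opens))).mp isCompact_univ
  haveI : Finite ↥s := hs.to_subtype
  have htop : Acy I (openSub (bT f c.pt) (⊤ : (bT f c.pt).left.Opens)) := by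
    refine leray_step (DeX f De) (cX f De c) (good_cX f De c hgd) I ⊤
      (κ := ↥s) (fun a => OW f g (a.1 : (bT f E₀).left.Opens))
      (fun a => le_top) ?_ (fun a => ?_)
      {O' | ∃ (W W₀ : (bT f E₀).left.Opens), IsAffineOpen W₀ ∧
        IsCompact (W : Set (bT f E₀).left) ∧ W ≤ W₀ ∧ O' = OW f g W} ?_
      (fun a => ⟨a.1, a.1, a.1.2, a.1.2.isCompact, le_rfl, rfl⟩) ?_
    · intro x _
      have h1 : (bπ f g).left x ∈ (⊤ : (bT f E₀).left.Opens) := trivial
      rw [hstop] at h1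
      simp only [TopologicalSpace.Opens.mem_iSup] at h1
      obtain ⟨a, ha, hxa⟩ := h1
      exact ⟨⟨a, ha⟩, hxa⟩
    · exact (a.1.2.preimage (bπ f g).left).isCompact
    · rintro _ ⟨W₁, W₀₁, h₀₁, hc₁, hle₁, rfl⟩ _ ⟨W₂, W₀₂, h₀₂, hc₂, hle₂, rfl⟩
      refine ⟨W₁ ⊓ W₂, W₀₁, h₀₁, ?_, inf_le_left.trans hle₁, rfl⟩
      exact QuasiSeparatedSpace.inter_isCompact _ _ W₁.isOpen hc₁ W₂.isOpen hc₂
    · rintro _ ⟨W, W₀, h₀, hc, hle, rfl⟩
      exact acy_of_le_affine f De c hgd g hg I W₀ h₀ W hc hle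
  refine Acy.of_iso I ?_ htop
  exact
    { hom := openSubι (bT f c.pt) ⊤
      inv := liftOpen (bT f c.pt) (𝟙 _) ⊤ (fun _ => trivial)
      hom_inv_id := by
        rw [← cancel_mono (openSubι (bT f c.pt) ⊤), Category.assoc, liftOpen_ι, Category.comp_id,
          Category.id_comp]
      inv_hom_id := liftOpen_ι _ _ _ _ }

end Acyclic

section Main

variable [QuasiCompact f] [QuasiSeparated f] [ProEtS.EpsCont X] [ProEtS.PCont f]

instance preservesFiniteLimits_pushP : PreservesFiniteLimits (ProEtS.pushP f) := by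
  haveI : PreservesLimitsOfSize.{0, 0} (ProEtS.pushP f) :=
    (ProEtS.pullPushAdjP f).rightAdjoint_preservesLimits
  exact PreservesLimitsOfSize.preservesFiniteLimits _

/-- the base change of a member of `Bp Y` is acyclic for `ε⁻¹ I` -/
theorem acy_of_mem_Bp_base (I : EtCoh.Ab X) [Injective I] (V : Y.ProEt) (hV : V ∈ Bp Y) :
    Acy I (bT f V) := by
  obtain ⟨Λ, _, _, De, c, hpt, hgd⟩ := exists_etale_presentation V hV
  subst hpt
  obtain ⟨hVaff, U₀, hU₀, g, hg⟩ := hV
  haveI : IsAffine c.pt.left := hVaff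
  haveI : IsAffine ((ProEtS.eps Y).obj U₀).left := hU₀
  haveI : Etale ((ProEtS.eps Y).obj U₀).hom := U₀.prop
  exact acy_bT f De c hgd g hg I

/-- `R^{q+1} f_{proet,*} (ε⁻¹ I) = 0` for an injective abelian étale sheaf `I` -/
theorem isZero_RpushP_injective (I : EtCoh.Ab X) [Injective I] (q : ℕ) :
    IsZero ((ProEtS.RpushP f (q + 1)).obj ((ProEtS.epsPull X).obj I)) :=
  H9FE.PCRpush.isZero_rightDerived.{u + 1} (ProEtS.bcP f) (Bp Y) hΦ_Bp
    ((ProEtS.epsPull X).obj I) (fun W' hW' => acy_of_mem_Bp_base f I W' hW') q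

end Main

end H9FE.PBC
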