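import Mathlib
import Groth.Prelude.Def_ProEtS
import Groth.Agent.Lib.Helper9.FE.PBCGood
import Groth.Agent.Lib.Helper9.FE.PBCBasis
import Groth.Agent.Lib.Helper9.FE.PCCartan
import Groth.Agent.Lib.Helper9.FE.ProEtE4
import Groth.Agent.Lib.Helper9.FE.ProEtL5
import Groth.Agent.Lib.Helper9.FE.ProEtL3

/-! helper9: the base change morphism `ε_Y⁻¹ f_* F ⟶ f_{proet,*} ε_X⁻¹ F` for a quasi-compact
quasi-separated morphism `f : X ⟶ Y` is an isomorphism, natural in the abelian étale sheaf `F`
(sections over a member of `Bp Y`, the limit of a good system, are computed on both sides as the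
same filtered colimit). -/

set_option autoImplicit false
set_option linter.unusedSectionVars false
set_option linter.style.haveILetI false
set_option backward.isDefEq.respectTransparency false
universe u
open CategoryTheory Limits Opposite AlgebraicGeometry

namespace H9FE.PBC

open H9FE.ProEtQc H9FE.ProEtL H9FE.PC H9FE.PCBase

variable {X Y : Scheme.{u}} (f : X ⟶ Y) [ProEtS.EpsCont X] [ProEtS.EpsCont Y] [ProEtS.PCont f]

/-- `f_* F ⟶ f_* ε_* ε⁻¹ F = ε_* f_{proet,*} ε⁻¹ F` -/
noncomputable def mF (F : EtCoh.Ab X) : (EtCoh.push f).obj F ⟶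
    (ProEtS.epsPush Y).obj ((ProEtS.pushP f).obj ((ProEtS.epsPull X).obj F)) :=
  (EtCoh.push f).map ((ProEtS.epsAdj X).unit.app F)

/-- the base change morphism -/
noncomputable def θapp (F : EtCoh.Ab X) : (ProEtS.epsPull Y).obj ((EtCoh.push f).obj F) ⟶
    (ProEtS.pushP f).obj ((ProEtS.epsPull X).obj F) :=
  ((ProEtS.epsAdj Y).homEquiv _ _).symm (mF f F)

lemma θapp_naturality {F F' : EtCoh.Ab X} (φ : F ⟶ F') :
    (ProEtS.epsPull Y).map ((EtCoh.push f).map φ) ≫ θapp f F' =
      θapp f F ≫ (ProEtS.pushP f).map ((ProEtS.epsPull X).map φ) := by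
  apply ((ProEtS.epsAdj Y).homEquiv _ _).injective
  rw [Adjunction.homEquiv_naturality_left, Adjunction.homEquiv_naturality_right]
  unfold θapp
  rw [Equiv.apply_symm_apply, Equiv.apply_symm_apply]
  have h := congrArg (fun t => (EtCoh.push f).map t) ((ProEtS.epsAdj X).unit.naturality φ)
  have h' : (EtCoh.push f).map φ ≫ (EtCoh.push f).map ((ProEtS.epsAdj X).unit.app F') =
      (EtCoh.push f).map ((ProEtS.epsAdj X).unit.app F) ≫
        (EtCoh.push f).map ((ProEtS.epsPush X).map ((ProEtS.epsPull X).map φ)) := by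
    rw [← CategoryTheory.Functor.map_comp, ← CategoryTheory.Functor.map_comp]
    exact h
  exact h'

/-- the base change morphism composed with the unit is the unit -/
lemma θapp_unit (F : EtCoh.Ab X) (U : Y.Etale) (s : ((EtCoh.push f).obj F).obj.obj (op U)) :
    ((θapp f F).hom.app (op ((ProEtS.eps Y).obj U))).hom
      ((((ProEtS.epsAdj Y).unit.app ((EtCoh.push f).obj F)).hom.app (op U)).hom s) =
    (((ProEtS.epsAdj X).unit.app F).hom.app (op ((EtCoh.bc f).obj U))).hom s := by
  have h1 : (ProEtS.epsAdj Y).unit.app _ ≫ (ProEtS.epsPush Y).map (θapp f F) = mF f F := by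
    refine (Adjunction.homEquiv_unit (adj := ProEtS.epsAdj Y) (f := θapp f F)).symm.trans ?_
    exact Equiv.apply_symm_apply _ _
  exact congrArg (fun t => (t.hom.app (op U)).hom s) h1

omit [ProEtS.EpsCont Y] [ProEtS.PCont f] in
/-- the unit is bijective on sections -/
lemma unit_bijective (F : EtCoh.Ab X) (U : X.Etale) :
    Function.Bijective (((ProEtS.epsAdj X).unit.app F).hom.app (op U)).hom := by
  haveI : IsIso ((ProEtS.epsAdj X).unit.app F) := H9FE.ProEtE.main717 X F
  haveI : IsIso (((ProEtS.epsAdj X).unit.app F).hom.app (op U)) :=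
    (inferInstance : IsIso ((sheafToPresheaf _ _ ⋙ (evaluation _ _).obj (op U)).map
      ((ProEtS.epsAdj X).unit.app F)))
  exact ConcreteCategory.bijective_of_isIso _

variable [QuasiCompact f] [QuasiSeparated f]

set_option maxHeartbeats 1000000 in
/-- the base change morphism is bijective on sections over the members of `Bp Y` -/
theorem θapp_bijective (F : EtCoh.Ab X) (V : Y.ProEt) (hV : V ∈ Bp Y) :
    Function.Bijective ((θapp f F).hom.app (op V)).hom := by
  obtain ⟨Λ, _, _, De, c, hpt, hgd⟩ := exists_etale_presentation V hV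
  subst hpt
  have hgX := good_cX f De c hgd
  let G : EtCoh.Ab Y := (EtCoh.push f).obj F
  let A : ProEtS.AbP Y := (ProEtS.epsPull Y).obj G
  let B : ProEtS.AbP Y := (ProEtS.pushP f).obj ((ProEtS.epsPull X).obj F)
  have hcompat : ∀ (i : Λ) (s : G.obj.obj (op (De.obj i))),
      ((θapp f F).hom.app (op c.pt)).hom ((A.obj.map (c.π.app i).op).hom
        ((((ProEtS.epsAdj Y).unit.app G).hom.app (op (De.obj i))).hom s)) =
      ((GF F).map ((cX f De c).π.app i).op).hom
        ((((ProEtS.epsAdj X).unit.app F).hom.app (op ((EtCoh.bc f).obj (De.obj i)))).hom s) := by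
    intro i s
    have n1 := ConcreteCategory.congr_hom ((θapp f F).hom.naturality (c.π.app i).op)
      ((((ProEtS.epsAdj Y).unit.app G).hom.app (op (De.obj i))).hom s)
    refine n1.trans ?_
    exact congrArg (fun t => (B.obj.map (c.π.app i).op).hom t) (θapp_unit f F (De.obj i) s)
  constructor
  · rw [injective_iff_map_eq_zero]
    intro a ha
    obtain ⟨i, ai, hai⟩ := section_descent hgd G a
    obtain ⟨s, hs⟩ := (unit_bijective G (De.obj i)).2 ai
    let b : (GF F).obj (op ((Dp (DeX f De)).obj i)) :=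
      (((ProEtS.epsAdj X).unit.app F).hom.app (op ((EtCoh.bc f).obj (De.obj i)))).hom s
    have hb : (GF F).map ((cX f De c).π.app i).op b = 0 := by
      have h1 := hcompat i s
      rw [hs] at h1
      have hai' : (A.obj.map (c.π.app i).op).hom ai = a := hai
      rw [hai', ha] at h1
      exact h1.symm
    obtain ⟨j, α, hα⟩ := section_vanish_descent hgX F i b hb
    -- naturality of the unit on `X`
    have n2 := ConcreteCategory.congr_hom
      (((ProEtS.epsAdj X).unit.app F).hom.naturality ((EtCoh.bc f).map (De.map α)).op) s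
    have hsj : (((ProEtS.epsAdj X).unit.app F).hom.app (op ((EtCoh.bc f).obj (De.obj j)))).hom
        ((F.obj.map ((EtCoh.bc f).map (De.map α)).op).hom s) = 0 := n2.trans hα
    have hs0 : (F.obj.map ((EtCoh.bc f).map (De.map α)).op).hom s = 0 := by
      apply (unit_bijective F ((EtCoh.bc f).obj (De.obj j))).1
      rw [hsj, map_zero]
    -- naturality of the unit on `Y`
    have n3 := ConcreteCategory.congr_hom
      (((ProEtS.epsAdj Y).unit.app G).hom.naturality (De.map α).op) s
    have hGs : (G.obj.map (De.map α).op).hom s = 0 := hs0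
    have h5 : (A.obj.map ((Dp De).map α).op).hom ai = 0 := by
      rw [← hs]
      refine n3.symm.trans ?_
      show (((ProEtS.epsAdj Y).unit.app G).hom.app (op (De.obj j))).hom
        ((G.obj.map (De.map α).op).hom s) = 0
      rw [hGs, map_zero]
    have hw : c.π.app j ≫ (Dp De).map α = c.π.app i := c.w α
    have h6 : (A.obj.map (c.π.app i).op).hom ai =
        (A.obj.map (c.π.app j).op).hom ((A.obj.map ((Dp De).map α).op).hom ai) := by
      rw [← hw, op_comp, CategoryTheory.Functor.map_comp]
      rfl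
    have hai' : (A.obj.map (c.π.app i).op).hom ai = a := hai
    rw [← hai', h6, h5, map_zero]
  · intro t
    obtain ⟨i, ti, hti⟩ := section_descent hgX F t
    obtain ⟨s, hs⟩ := (unit_bijective F ((EtCoh.bc f).obj (De.obj i))).2 ti
    refine ⟨(A.obj.map (c.π.app i).op).hom
      ((((ProEtS.epsAdj Y).unit.app G).hom.app (op (De.obj i))).hom s), ?_⟩
    refine (hcompat i s).trans ?_
    rw [hs]
    exact hti

/-- the base change isomorphism `ε_Y⁻¹ f_* ≅ f_{proet,*} ε_X⁻¹` -/
noncomputable def θiso : EtCoh.push f ⋙ ProEtS.epsPull Y ≅ ProEtS.epsPull X ⋙ ProEtS.pushP f :=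
  haveI : ∀ F, IsIso (θapp f F) := fun F =>
    isIso_of_bijective_on_basis (Bp Y) hΦ_Bp (θapp f F) (fun V hV => θapp_bijective f F V hV)
  NatIso.ofComponents (fun F => asIso (θapp f F)) (fun φ => θapp_naturality f φ)

end H9FE.PBC
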