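import Mathlib
import Groth.Prelude.Def_ProEtS
import Groth.Agent.Lib.Helper9.FE.PCCartan
import Groth.Agent.Lib.Helper9.FE.PCRpush
import Groth.Agent.Lib.Helper5.Misc.EtSiteBasic

/-! helper9: `R^{q+1} ε_* (ε⁻¹ I) = 0` for an injective abelian étale sheaf `I`. -/

set_option autoImplicit false
set_option linter.unusedSectionVars false
set_option linter.style.haveILetI false
set_option backward.isDefEq.respectTransparency false
universe u
open CategoryTheory Limits Opposite AlgebraicGeometry Abelian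

namespace H9FE.PC

open Groth.Agent.Lib.Helper5

variable {X : Scheme.{u}}

/-- every covering sieve of the small étale site is refined by affine objects -/
lemma hΦ_aff (V : X.Etale) (T : Sieve V) (hT : T ∈ X.smallEtaleTopology V) :
    Sieve.generate (fun W g => T g ∧ W ∈ {W' : X.Etale | IsAffine W'.left}) ∈
      X.smallEtaleTopology V := by
  rw [EtSiteBasic.mem_smallEtale_iff] at hT ⊢
  intro y
  obtain ⟨W, g, w, hg, hw⟩ := hT y
  have haff : ∃ U : W.left.Opens, IsAffineOpen U ∧ w ∈ U := by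
    obtain ⟨_, ⟨U, hU, rfl⟩, hwU, -⟩ := W.left.isBasis_affineOpens.exists_subset_of_mem_open
      (Set.mem_univ w) isOpen_univ
    exact ⟨U, hU, hwU⟩
  obtain ⟨U, hU, hwU⟩ := haff
  haveI : Etale W.hom := W.prop
  let W' : X.Etale := EtSiteBasic.ofEtale (U.ι ≫ W.hom)
  let k : W' ⟶ W := MorphismProperty.Over.homMk U.ι rfl trivial
  have hW' : IsAffine W'.left := hU
  refine ⟨W', k ≫ g, ⟨w, hwU⟩, ?_, ?_⟩
  · exact ⟨W', 𝟙 _, k ≫ g, ⟨T.downward_closed hg k, hW'⟩, Category.id_comp _⟩
  · exact hw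

variable [ProEtS.EpsCont X]

instance : PreservesFiniteLimits (ProEtS.epsPush X) := by
  haveI : PreservesLimitsOfSize.{0, 0} (ProEtS.epsPush X) :=
    (ProEtS.epsAdj X).rightAdjoint_preservesLimits
  exact PreservesLimitsOfSize.preservesFiniteLimits _

/-- `R^{q+1} ε_* (ε⁻¹ I) = 0` for an injective abelian étale sheaf `I` -/
theorem isZero_RepsPush_injective (I : EtCoh.Ab X) [Injective I] (q : ℕ) :
    IsZero ((ProEtS.RepsPush X (q + 1)).obj ((ProEtS.epsPull X).obj I)) :=
  H9FE.PCRpush.isZero_rightDerived.{u + 1} (ProEtS.eps X) {W' : X.Etale | IsAffine W'.left}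
    hΦ_aff ((ProEtS.epsPull X).obj I)
    (fun W' hW' => by
      haveI : IsAffine W'.left := hW'
      exact ⟨ZV ((ProEtS.eps X).obj W'), reprZV ((ProEtS.eps X).obj W'),
        fun p x => ext_eq_zero I (reprZV ((ProEtS.eps X).obj W')) (eps_mem_Bp W') p x⟩) q

end H9FE.PC
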