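import Mathlib
import Groth.Prelude.Def_ProEtS
import Groth.Agent.Lib.Helper9.FE.PCRInj
import Groth.Agent.Lib.Helper9.FE.ProEtE4
import Groth.Agent.Lib.Helper9.FE.ProEtE2
import Groth.Agent.Lib.Helper5.Misc.LanFlat
import Groth.Agent.Lib.Helper3.RDerL

/-! helper9: `R^{q+1} ε_* (ε⁻¹ F) = 0` for every abelian étale sheaf `F`, by dimension shifting from
the case of injective sheaves; exactness of `ε⁻¹`. -/

set_option autoImplicit false
set_option linter.unusedSectionVars false
set_option linter.style.haveILetI false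
set_option backward.isDefEq.respectTransparency false
universe v u v' u'
open CategoryTheory Limits Opposite AlgebraicGeometry Abelian

namespace H9FE.PC

section Gen

variable {C : Type u} [Category.{v} C] [Abelian C] [EnoughInjectives C]
  {D : Type u'} [Category.{v'} D] [Abelian D] (F : C ⥤ D) [F.Additive]

/-- dimension shifting for right derived functors -/
lemma isZero_rightDerived_of_ses (S : ShortComplex C) (hS : S.ShortExact) (n : ℕ)
    (h2 : IsZero ((F.rightDerived (n + 1)).obj S.X₂)) (hg : Epi ((F.rightDerived n).map S.g)) :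
    IsZero ((F.rightDerived (n + 1)).obj S.X₁) := by
  let L := Groth.Agent.Helper3.RDerL.derivedLES F
  have e1 := L.exact₁ S hS n (n + 1) rfl
  have e3 := L.exact₃ S hS n (n + 1) rfl
  have hδ0 : L.δ S hS n (n + 1) rfl = 0 := (e3.epi_f_iff).1 hg
  haveI : Epi (L.δ S hS n (n + 1) rfl) := e1.epi_f (h2.eq_of_tgt _ _)
  exact IsZero.of_epi_eq_zero _ hδ0

omit [Abelian C] [EnoughInjectives C] [Abelian D] [F.Additive] in
lemma epi_map_of_natIso {G G' : C ⥤ D} (e : G ≅ G') {A B : C} (g : A ⟶ B) [Epi (G.map g)] :
    Epi (G'.map g) := by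
  rw [← NatIso.naturality_1 e g]
  infer_instance

end Gen

variable {X : Scheme.{u}} [ProEtS.EpsCont X]

open Groth.Agent.Lib.Helper5.Misc H9FE.ProEtE in
instance preservesFiniteLimits_epsPull : PreservesFiniteLimits (ProEtS.epsPull X) := by
  have : AB5OfSize.{u, u + 1} AddCommGrpCat.{u + 1} :=
    AB5OfSize_shrink.{u, u + 1, u + 1, u + 1} AddCommGrpCat.{u + 1}
  exact LanFlat.preservesFiniteLimits_sheafPullback (ProEtS.eps X) AddCommGrpCat.{u + 1} _ _

instance preservesFiniteColimits_epsPull : PreservesFiniteColimits (ProEtS.epsPull X) := by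
  haveI : PreservesColimitsOfSize.{0, 0} (ProEtS.epsPull X) :=
    (ProEtS.epsAdj X).leftAdjoint_preservesColimits
  exact PreservesColimitsOfSize.preservesFiniteColimits _

instance : (ProEtS.epsPull X).Additive := Functor.additive_of_preserves_binary_products _

/-- the unit of `ε⁻¹ ⊣ ε_*` as a natural isomorphism -/
noncomputable def unitIso (X : Scheme.{u}) [ProEtS.EpsCont X] :
    𝟭 (EtCoh.Ab X) ≅ ProEtS.epsPull X ⋙ ProEtS.epsPush X :=
  haveI : ∀ F, IsIso ((ProEtS.epsAdj X).unit.app F) := fun F => H9FE.ProEtE.main717 X F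
  haveI : IsIso (ProEtS.epsAdj X).unit := NatIso.isIso_of_isIso_app _
  asIso (ProEtS.epsAdj X).unit

/-- `R^{q+1} ε_* (ε⁻¹ F) = 0` -/
theorem isZero_RepsPush (q : ℕ) : ∀ F : EtCoh.Ab X,
    IsZero ((ProEtS.RepsPush X (q + 1)).obj ((ProEtS.epsPull X).obj F)) := by
  induction q with
  | zero =>
    intro F
    let ι : F ⟶ Injective.under F := Injective.ι F
    let S : ShortComplex (EtCoh.Ab X) := ShortComplex.mk ι (cokernel.π ι) (cokernel.condition ι)
    have hS : S.ShortExact :=
      { exact := ShortComplex.exact_cokernel ι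
        mono_f := (inferInstance : Mono ι)
        epi_g := (inferInstance : Epi (cokernel.π ι)) }
    have hS' : (S.map (ProEtS.epsPull X)).ShortExact := hS.map_of_exact (ProEtS.epsPull X)
    refine isZero_rightDerived_of_ses (ProEtS.epsPush X) (S.map (ProEtS.epsPull X)) hS' 0
      (isZero_RepsPush_injective (Injective.under F) 0) ?_
    haveI : Epi ((𝟭 (EtCoh.Ab X)).map (cokernel.π ι)) := (inferInstance : Epi (cokernel.π ι))
    haveI : Epi ((ProEtS.epsPull X ⋙ ProEtS.epsPush X).map (cokernel.π ι)) :=
      epi_map_of_natIso (unitIso X) (cokernel.π ι)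
    haveI : Epi ((ProEtS.epsPush X).map ((ProEtS.epsPull X).map (cokernel.π ι))) := this
    exact epi_map_of_natIso (ProEtS.epsPush X).rightDerivedZeroIsoSelf.symm
      ((ProEtS.epsPull X).map (cokernel.π ι))
  | succ q ih =>
    intro F
    let ι : F ⟶ Injective.under F := Injective.ι F
    let S : ShortComplex (EtCoh.Ab X) := ShortComplex.mk ι (cokernel.π ι) (cokernel.condition ι)
    have hS : S.ShortExact :=
      { exact := ShortComplex.exact_cokernel ι
        mono_f := (inferInstance : Mono ι)
        epi_g := (inferInstance : Epi (cokernel.π ι)) }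
    have hS' : (S.map (ProEtS.epsPull X)).ShortExact := hS.map_of_exact (ProEtS.epsPull X)
    refine isZero_rightDerived_of_ses (ProEtS.epsPush X) (S.map (ProEtS.epsPull X)) hS' (q + 1)
      (isZero_RepsPush_injective (Injective.under F) (q + 1)) ?_
    have hZ : IsZero (((ProEtS.epsPush X).rightDerived (q + 1)).obj
        ((ProEtS.epsPull X).obj (cokernel ι))) := ih (cokernel ι)
    exact ⟨fun g h _ => hZ.eq_of_src g h⟩

end H9FE.PC
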