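import Mathlib
import Groth.Prelude.Def_ProEtS
import Groth.Agent.Lib.Helper9.FE.PBCTheta
import Groth.Agent.Lib.Helper9.FE.PBCAcy
import Groth.Agent.Lib.Helper9.FE.DerCompare
import Groth.Agent.Lib.Helper9.FE.PCShift

/-! helper9: for a quasi-compact quasi-separated morphism `f : X ⟶ Y` and an abelian étale sheaf
`F` on `X`, `R^q f_{proet,*} (ε⁻¹ F) ≅ ε⁻¹ (R^q f_{et,*} F)` (S0720): the base change isomorphism
in degree `0`, acyclicity of `ε⁻¹ I` for injective `I`, and dimension shifting. -/

set_option autoImplicit false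
set_option linter.unusedSectionVars false
set_option linter.style.haveILetI false
set_option backward.isDefEq.respectTransparency false
universe u
open CategoryTheory Limits Opposite AlgebraicGeometry

namespace H9FE.PBC

variable {X Y : Scheme.{u}} (f : X ⟶ Y)

instance preservesFiniteLimits_push : PreservesFiniteLimits (EtCoh.push f) := by
  haveI : PreservesLimitsOfSize.{0, 0} (EtCoh.push f) :=
    (EtCoh.pullPushAdj f).rightAdjoint_preservesLimits
  exact PreservesLimitsOfSize.preservesFiniteLimits _

theorem main720 [QuasiCompact f] [QuasiSeparated f] [ProEtS.EpsCont X] [ProEtS.EpsCont Y]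
    [ProEtS.PCont f] (F : EtCoh.Ab X) (q : ℕ) :
    Nonempty ((ProEtS.RpushP f q).obj ((ProEtS.epsPull X).obj F) ≅
      (ProEtS.epsPull Y).obj ((EtCoh.Rpush f q).obj F)) :=
  H9FE.DerCompare.main (ProEtS.epsPull X) (ProEtS.pushP f) (EtCoh.push f) (ProEtS.epsPull Y)
    (θiso f) (fun I hI n => by
      haveI := hI
      exact isZero_RpushP_injective f I n) q F

end H9FE.PBC
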