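import Mathlib
import Groth.Agent.Lib.Helper9.FE.StkTheta
import Groth.Agent.Lib.Helper9.FE.PBCMain

/-! helper9: stalks of higher direct images at a geometric point which is the limit of a tower of
affine étale neighbourhoods (continuation of `StkTheta`): the isomorphism of functors
`f_* ⋙ stalk_ξ ≅ g⁻¹ ⋙ Γ(X ×_S T, -)` (`thetaIso`), global sections as `Hom(ℤ, -)` (`coyonedaIsoGsec`),
and `(R^n f_* F)_ξ ≅ H^n(X ×_S T, g⁻¹ F)` (`main`). -/

set_option autoImplicit false
set_option linter.unusedSectionVars false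
set_option linter.style.haveILetI false
set_option backward.isDefEq.respectTransparency false
universe u
open CategoryTheory CategoryTheory.Limits AlgebraicGeometry Opposite Abelian

namespace H9FE.StkTheta
open H9FE.LimTower H9FE.StkSys H9FE.StkGeo H9FE.LimPull EtCore Groth.Agent.Lib.Helper5.Misc
  Groth.Agent.Lib.Helper5 Groth.Agent.Helper3

attribute [local instance] EtStalk.ab5' EtStalk.pfc

section Gsec

variable (Y : Scheme.{u})

instance gsec_additive : (gsec Y).Additive where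

/-- `Hom(ℤ_Y, -) ≅ Γ(Y, -)` -/
noncomputable def coyonedaIsoGsec : preadditiveCoyoneda.obj (op (EtCoh.const Y ℤ)) ≅ gsec Y :=
  NatIso.ofComponents (fun F => AddEquiv.toAddCommGrpIso
      (X := AddCommGrpCat.of (EtCoh.const Y ℤ ⟶ F)) (Y := F.obj.obj (op (EtCoh.top Y)))
      (((constAdj Y).homAddEquiv _ F).trans (AddCommGrpCat.uliftZMultiplesAddEquiv _)))
    (fun {F G} φ => by
      ext ψ
      rfl)

instance gsec_preservesFiniteLimits : PreservesFiniteLimits (gsec Y) :=
  preservesFiniteLimits_of_natIso (coyonedaIsoGsec Y)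

/-- `RⁿΓ(Y, -)(F) ≅ Hⁿ(Y, F)` -/
noncomputable def rightDerivedGsecIso (F : EtCoh.Ab Y) (n : ℕ) :
    ((gsec Y).rightDerived n).obj F ≅ AddCommGrpCat.of (EtCoh.H Y F n) :=
  ExtRD.rightDerivedIsoExt (gsec Y) (EtCoh.const Y ℤ) (coyonedaIsoGsec Y).symm F n

end Gsec

variable {X S : Scheme.{u}} (f : X ⟶ S) {ι : Type u} [Preorder ι] [IsDirected ι (· ≤ ·)]
  [Nonempty ι] (Us : ιᵒᵖ ⥤ S.Etale) (cU : Cone (Xs Us)) (h : cU.pt ⟶ S)
  (hh : ∀ a : ιᵒᵖ, cU.π.app a ≫ (Us.obj a).hom = h)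
  {Ω : Type u} [Field Ω] [IsSepClosed Ω] (ξ' : Spec (CommRingCat.of Ω) ⟶ cU.pt)
  (lift : ∀ (U : S.Etale), (Pt Us cU h ξ').fiber.obj U → (cU.pt ⟶ U.left))
  (lift_hom : ∀ U u, lift U u ≫ U.hom = h)
  (lift_nat : ∀ {U U' : S.Etale} (m : U ⟶ U') (u : (Pt Us cU h ξ').fiber.obj U),
    lift U u ≫ m.left = lift U' ((Pt Us cU h ξ').fiber.map m u))
  (lift_tower : ∀ a, lift (Us.obj a) (uj Us cU h hh ξ' a) = cU.π.app a)
  (dom : ∀ (U : S.Etale) (u : (Pt Us cU h ξ').fiber.obj U), ∃ (a : ιᵒᵖ) (m : Us.obj a ⟶ U),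
    (Pt Us cU h ξ').fiber.map m (uj Us cU h hh ξ' a) = u)
  [QuasiCompact f] [QuasiSeparated f] (hcU : IsLimit cU)
  (hUaff : ∀ a : ιᵒᵖ, IsAffine (Us.obj a).left)

include lift_tower hcU hUaff dom in
/-- the stalk of the direct image is the module of global sections of the pullback to
`X ×_S T`, functorially -/
noncomputable def thetaIso :
    EtCoh.push f ⋙ EtCoh.stalk (ξ' ≫ h) ≅
      EtCoh.pull (pullback.fst f h) ⋙ gsec (pullback f h) :=
  NatIso.ofComponents (fun F =>
    @asIso _ _ _ _ (Theta f Us cU h ξ' lift lift_hom lift_nat F)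
      (Theta_isIso f Us cU h hh ξ' lift lift_hom lift_nat lift_tower dom hcU hUaff F))
    (fun {_ _} α => Theta_nat f Us cU h ξ' lift lift_hom lift_nat α)

instance stalk_additive' {Y : Scheme.{u}} (ζ : Spec (CommRingCat.of Ω) ⟶ Y) :
    (EtCoh.stalk ζ).Additive :=
  haveI : PreservesFiniteLimits (EtCoh.stalk ζ) :=
    inferInstanceAs (PreservesFiniteLimits (Scheme.pointSmallEtale ζ).sheafFiber)
  haveI := preservesBinaryBiproducts_of_preservesBinaryProducts (EtCoh.stalk ζ)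
  Functor.additive_of_preservesBinaryBiproducts _

include lift lift_hom lift_nat lift_tower hcU hUaff dom in
/-- the stalk of `R^n f_* F` at the limit point is the cohomology of `X ×_S T` -/
theorem main (F : EtCoh.Ab X) (n : ℕ) :
    Nonempty ((EtCoh.stalk (ξ' ≫ h)).obj ((EtCoh.Rpush f n).obj F) ≅
      AddCommGrpCat.of (EtCoh.H (pullback f h) ((EtCoh.pull (pullback.fst f h)).obj F) n)) := by
  have hacy : ∀ (I : EtCoh.Ab X), Injective I → ∀ m : ℕ,
      IsZero (((gsec (pullback f h)).rightDerived (m + 1)).obj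
        ((EtCoh.pull (pullback.fst f h)).obj I)) := by
    intro I hI m
    haveI := hI
    refine IsZero.of_iso ?_ (rightDerivedGsecIso (pullback f h) _ (m + 1))
    haveI : Subsingleton (EtCoh.H (pullback f h) ((EtCoh.pull (pullback.fst f h)).obj I) (m + 1)) :=
      ⟨fun a b => (acyclic (EE f Us) (xs_affine f Us hUaff) (xs_qc f Us hUaff) (xs_qs f Us hUaff)
        (cX f Us cU h hh) (cXIsLimit f Us cU h hh hcU) (pullback.fst f h) (cX_hg f Us cU h hh)
        I m a).trans (acyclic (EE f Us) (xs_affine f Us hUaff) (xs_qc f Us hUaff)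
        (xs_qs f Us hUaff) (cX f Us cU h hh) (cXIsLimit f Us cU h hh hcU) (pullback.fst f h)
        (cX_hg f Us cU h hh) I m b).symm⟩
    exact AddCommGrpCat.isZero_of_subsingleton _
  obtain ⟨e⟩ := H9FE.DerCompare.main (EtCoh.pull (pullback.fst f h)) (gsec (pullback f h))
    (EtCoh.push f) (EtCoh.stalk (ξ' ≫ h))
    (thetaIso f Us cU h hh ξ' lift lift_hom lift_nat lift_tower dom hcU hUaff) hacy n F
  exact ⟨e.symm ≪≫ rightDerivedGsecIso (pullback f h) _ n⟩

end H9FE.StkTheta
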