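import Mathlib
import Groth.Agent.Lib.Helper9.FE.BCStrict
import Groth.Agent.Lib.Helper9.FE.SHNbhd3
import Groth.Agent.Lib.Helper9.FE.SLocFib
import Groth.Agent.Lib.Helper9.FE.SHModel
import Groth.Agent.S0620

/-! helper9: the base change map of a quasi-compact quasi-separated morphism `f : X ⟶ S` along
the strict localization `Spec R ⟶ S` at a point (`R` a strict henselization of the local ring) is
bijective on global sections over `Spec R` (`bc_isIso_strict`, `bc_isIso_specOf`): instantiation of
`BCStrict.bc_isIso_top` with the tower of affine étale neighbourhoods of `SHNbhd`. -/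

set_option autoImplicit false
set_option linter.unusedSectionVars false
set_option linter.style.haveILetI false
set_option backward.isDefEq.respectTransparency false
universe u
open CategoryTheory CategoryTheory.Limits AlgebraicGeometry Opposite IsLocalRing

namespace H9FE.BCStrict
open H9FE.LimTower H9FE.StkSys H9FE.StkTheta H9FE.BCConn H9FE.SHNbhd H9FE.SLocSect
  Groth.Agent.Helper7.SHens Groth.Agent.Lib.Helper5

attribute [local instance] EtStalk.ab5' EtStalk.pfc

section Sec

variable (R : Type u) [CommRing R] [HenselianLocalRing R] [IsSepClosed (ResidueField R)]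

/-- the section of an étale `Spec R`-scheme through a geometric point over the closed point -/
noncomputable def sec (Y : (Spec (CommRingCat.of R)).Etale) (y : (Φ R).fiber.obj Y) :
    EtCoh.top (Spec (CommRingCat.of R)) ⟶ Y :=
  ((terminalOpOfInitial (e₀IsInitial R)).from (op ⟨Y, y⟩)).unop.1

lemma sec_pt (Y : (Spec (CommRingCat.of R)).Etale) (y : (Φ R).fiber.obj Y) :
    cpt R ≫ (sec R Y y).left = y.left :=
  congrArg (fun f => f.left) ((terminalOpOfInitial (e₀IsInitial R)).from (op ⟨Y, y⟩)).unop.2

lemma toPF_iso (N : EtCoh.Ab (Spec (CommRingCat.of R))) (Y : (Spec (CommRingCat.of R)).Etale)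
    (y : (Φ R).fiber.obj Y) :
    (Φ R).toPresheafFiber Y y N.obj ≫ (presheafFiberIso R N.obj).hom = N.obj.map (sec R Y y).op :=
  toPresheafFiber_presheafFiberIso_hom R N.obj Y y

end Sec

section Concrete

variable {X S : Scheme.{u}} (f : X ⟶ S) [QuasiCompact f] [QuasiSeparated f] {V : S.Opens}
  (hV : IsAffineOpen V)
  (R : Type u) [CommRing R] [HenselianLocalRing R] [IsSepClosed (ResidueField R)]
  [Algebra Γ(S, V) R]
  {α : Type u} [PartialOrder α] [IsDirected α (· ≤ ·)] [Nonempty α]
  (Fα : α ⥤ Nbhd Γ(S, V) (ResidueField R)) [Fα.Final]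
  (e : G Γ(S, V) (ResidueField R) ≃ₐ[Γ(S, V)] R) (he : ∀ c, residue R (e c) = σ c)

include Fα e he in
theorem bc_isIso_tower (F : EtCoh.Ab X) :
    IsIso ((EtCoh.baseChange0 f (hS hV R) (pullback.snd f (hS hV R)) (pullback.fst f (hS hV R))
      pullback.condition F).hom.app (op (EtCoh.top (Spec (CommRingCat.of R))))) :=
  bc_isIso_top f (Us hV R Fα) (cU hV R Fα e) (hS hV R) (cpt R) (lift hV R Fα e)
    (lift_hom hV R Fα e) (lift_nat hV R Fα e)
    (fun U u ℓ h1 h2 => lift_eq hV R Fα e U u ℓ h1 h2) (sec R) (sec_pt R)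
    (fun N => (presheafFiberIso R N.obj).hom) (fun N Y y => toPF_iso R N Y y) F
    (fun _ => inferInstance)
    (Theta_isIso f (Us hV R Fα) (cU hV R Fα e) (hS hV R) (cU_hh hV R Fα e) (cpt R)
      (lift hV R Fα e) (lift_hom hV R Fα e) (lift_nat hV R Fα e) (lift_tower hV R Fα e)
      (dom hV R Fα e he) (cUIsLimit hV R Fα e) (us_affine hV R Fα) F)

end Concrete

/-- the base change map along the strict localization at a point is bijective on global
sections -/
theorem bc_isIso_specOf {X S : Scheme.{u}} (f : X ⟶ S) [QuasiCompact f] [QuasiSeparated f]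
    (F : EtCoh.Ab X) (s : S) (R : Type u) [CommRing R] [IsLocalRing R]
    [Algebra (S.presheaf.stalk s) R] [IsLocalHom (algebraMap (S.presheaf.stalk s) R)]
    [Hensel.IsStrictHenselization (S.presheaf.stalk s) R]
    [IsSepClosed (IsLocalRing.ResidueField R)] :
    IsIso ((EtCoh.baseChange0 f (Hens2.specOf S s R) (pullback.snd f (Hens2.specOf S s R))
      (pullback.fst f (Hens2.specOf S s R)) pullback.condition F).hom.app
        (op (EtCoh.top (Spec (CommRingCat.of R))))) := by
  classical
  haveI hRh : HenselianLocalRing R :=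
    (inferInstance : Hensel.IsStrictHenselization (S.presheaf.stalk s) R).henselian
  obtain ⟨V₀, hV₀, hs, -⟩ := exists_isAffineOpen_mem_and_subset (x := s) (U := ⊤) trivial
  letI algStalk : Algebra Γ(S, V₀) (S.presheaf.stalk s) :=
    TopCat.Presheaf.algebra_section_stalk S.presheaf ⟨s, hs⟩
  letI algR : Algebra Γ(S, V₀) R :=
    ((algebraMap (S.presheaf.stalk s) R).comp
      (algebraMap Γ(S, V₀) (S.presheaf.stalk s))).toAlgebra
  haveI : IsScalarTower Γ(S, V₀) (S.presheaf.stalk s) R :=
    IsScalarTower.of_algebraMap_eq (fun _ => rfl)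
  haveI hloc : IsLocalization.AtPrime (S.presheaf.stalk s)
      (hV₀.primeIdealOf ⟨s, hs⟩).asIdeal := hV₀.isLocalization_stalk ⟨s, hs⟩
  obtain ⟨e, he⟩ := H9FE.SHModel.exists_model Γ(S, V₀) (S.presheaf.stalk s)
    (hV₀.primeIdealOf ⟨s, hs⟩).asIdeal R
  obtain ⟨α, _, _, _, Fα, _⟩ := IsFiltered.exists_directed (Nbhd Γ(S, V₀) (ResidueField R))
  have hSeq : H9FE.SHNbhd.hS hV₀ R = Hens2.specOf S s R :=
    Groth.Agent.S0620.Aux.hS_eq s hV₀ hs R rfl
  have key : ∀ h' : Spec (CommRingCat.of R) ⟶ S, H9FE.SHNbhd.hS hV₀ R = h' →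
      IsIso ((EtCoh.baseChange0 f h' (pullback.snd f h') (pullback.fst f h')
        pullback.condition F).hom.app (op (EtCoh.top (Spec (CommRingCat.of R))))) := by
    rintro _ rfl
    exact bc_isIso_tower f hV₀ R Fα e he F
  exact key _ hSeq

end H9FE.BCStrict
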