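import Mathlib
import Groth.Prelude.Def_RDer
import Groth.Agent.Lib.Helper5.RDerPaste.Paste2
import Groth.Agent.Lib.Helper5.Misc.RDComp

/-! helper9: the abstract "exact base change" theorem.  For a square of right adjoints
`Φg' ⋙ Φf ≅ Φf' ⋙ Φg` with left adjoints `Lg' ⊣ Φg'`, `Lg ⊣ Φg` such that `Lg`, `Lg'` are exact,
`Lg'` preserves injectives and the degree zero base change maps `Lg Φf M ⟶ Φf' Lg' M` are
isomorphisms, the base change map `Lg (R^q Φf F) ⟶ R^q Φf' (Lg' F)` (the transpose of helper5's
`bcAdj`) is an isomorphism in every degree `q`. -/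

set_option autoImplicit false
set_option linter.unusedSectionVars false
set_option linter.style.haveILetI false
set_option backward.isDefEq.respectTransparency false
universe v₁ v₂ v₃ v₄ u₁ u₂ u₃ u₄
open CategoryTheory CategoryTheory.Limits HomologicalComplex

namespace H9FE.BcQAbs
open Groth.Agent.Lib.Helper5 Groth.Agent.Lib.Helper5.RDerPaste

section HC

variable {B : Type u₂} [Category.{v₂} B] [Abelian B] {C : Type u₃} [Category.{v₃} C] [Abelian C]
  (Ψ : B ⥤ C) [Ψ.Additive] [PreservesFiniteLimits Ψ]
  {ι' : Type*} {c : ComplexShape ι'} (K : HomologicalComplex B c) (i : ι')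

theorem isIso_cyclesComparison : IsIso (RDer.cyclesComparison Ψ K i) := by
  let K' := (Ψ.mapHomologicalComplex c).obj K
  have hw : Ψ.map (K.iCycles i) ≫ K'.d i (c.next i) = 0 := by
    change Ψ.map (K.iCycles i) ≫ Ψ.map (K.d i (c.next i)) = 0
    rw [← Ψ.map_comp, K.iCycles_d, Ψ.map_zero]
  haveI : Mono (Ψ.map (K.iCycles i)) := inferInstance
  refine ⟨K'.liftCycles (Ψ.map (K.iCycles i)) (c.next i) rfl hw, ?_, ?_⟩
  · rw [← cancel_mono (K'.iCycles i), Category.assoc, K'.liftCycles_i, Category.id_comp]
    exact RDer.cyclesComparison_i Ψ K i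
  · rw [← cancel_mono (Ψ.map (K.iCycles i)), Category.assoc, RDer.cyclesComparison_i,
      Category.id_comp]
    exact K'.liftCycles_i _ _ _ _

/-- for an exact functor the comparison `H^i (Ψ K) ⟶ Ψ (H^i K)` is an isomorphism -/
theorem isIso_homologyComparison [PreservesFiniteColimits Ψ] :
    IsIso (RDer.homologyComparison Ψ K i) := by
  let K' := (Ψ.mapHomologicalComplex c).obj K
  haveI := isIso_cyclesComparison Ψ K i
  let hcok := CokernelCofork.mapIsColimit _ (K.homologyIsCokernel (c.prev i) i rfl) Ψ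
  have hz : Ψ.map (K.toCycles (c.prev i) i) ≫ inv (RDer.cyclesComparison Ψ K i) ≫
      K'.homologyπ i = 0 := by
    rw [← RDer.toCycles_cyclesComparison, Category.assoc, IsIso.hom_inv_id_assoc]
    exact K'.toCycles_comp_homologyπ _ _
  let iv : Ψ.obj (K.homology i) ⟶ K'.homology i :=
    hcok.desc (CokernelCofork.ofπ (inv (RDer.cyclesComparison Ψ K i) ≫ K'.homologyπ i) hz)
  have hiv : Ψ.map (K.homologyπ i) ≫ iv = inv (RDer.cyclesComparison Ψ K i) ≫ K'.homologyπ i :=
    hcok.fac _ WalkingParallelPair.one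
  haveI : Epi (Ψ.map (K.homologyπ i)) := inferInstance
  refine ⟨iv, ?_, ?_⟩
  · rw [← cancel_epi (K'.homologyπ i), RDer.homologyπ_homologyComparison_assoc, hiv,
      IsIso.hom_inv_id_assoc, Category.comp_id]
  · rw [← cancel_epi (Ψ.map (K.homologyπ i)), ← Category.assoc, hiv, Category.assoc,
      RDer.homologyπ_homologyComparison, IsIso.inv_hom_id_assoc, Category.comp_id]

end HC


section U

variable {B : Type u₂} [Category.{v₂} B] [Abelian B] {C : Type u₃} [Category.{v₃} C] [Abelian C]
  {L : B ⥤ C} {R : C ⥤ B} (adj : L ⊣ R) [L.Additive] [R.Additive]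
  [PreservesFiniteLimits L] [PreservesFiniteLimits R]
  {ι' : Type*} {c : ComplexShape ι'} (K : HomologicalComplex B c) (i : ι')

/-- the unit of an adjunction, termwise on a complex -/
@[simps]
def uC : K ⟶ (R.mapHomologicalComplex c).obj ((L.mapHomologicalComplex c).obj K) where
  f n := adj.unit.app (K.X n)
  comm' i j _ := (adj.unit.naturality (K.d i j)).symm

lemma cycles_unit :
    cyclesMap (uC adj K) i ≫ RDer.cyclesComparison R ((L.mapHomologicalComplex c).obj K) i ≫
      R.map (RDer.cyclesComparison L K i) = adj.unit.app (K.cycles i) := by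
  haveI : Mono (R.map (L.map (K.iCycles i))) := inferInstance
  rw [← cancel_mono (R.map (L.map (K.iCycles i)))]
  have h1 : (cyclesMap (uC adj K) i ≫
      RDer.cyclesComparison R ((L.mapHomologicalComplex c).obj K) i ≫
      R.map (RDer.cyclesComparison L K i)) ≫ R.map (L.map (K.iCycles i)) =
      K.iCycles i ≫ adj.unit.app (K.X i) := by
    rw [Category.assoc, Category.assoc, ← R.map_comp, RDer.cyclesComparison_i,
      RDer.cyclesComparison_i, cyclesMap_i]
    rfl
  rw [h1]
  exact (adj.unit.naturality (K.iCycles i))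

/-- Lemma U: the unit on homology, through the two comparison maps -/
lemma homology_unit :
    homologyMap (uC adj K) i ≫ RDer.homologyComparison R ((L.mapHomologicalComplex c).obj K) i ≫
      R.map (RDer.homologyComparison L K i) = adj.unit.app (K.homology i) := by
  rw [← cancel_epi (K.homologyπ i), homologyπ_naturality_assoc,
    RDer.homologyπ_homologyComparison_assoc, ← R.map_comp, RDer.homologyπ_homologyComparison,
    R.map_comp, ← Category.assoc, ← Category.assoc, Category.assoc (cyclesMap _ _),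
    cycles_unit]
  exact (adj.unit.naturality (K.homologyπ i)).symm

/-- transposing a map which factors through a unit -/
lemma transpose_eq {P H : B} {Q : C} (p : P ⟶ H) (y : L.obj H ⟶ Q) :
    (adj.homEquiv _ _).symm (p ≫ adj.unit.app H ≫ R.map y) = L.map p ≫ y := by
  apply (adj.homEquiv _ _).injective
  rw [Equiv.apply_symm_apply, Adjunction.homEquiv_unit, R.map_comp]
  have := adj.unit.naturality p
  simp only [Functor.id_obj, Functor.id_map, Functor.comp_obj, Functor.comp_map] at this
  rw [← Category.assoc, this, Category.assoc]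

end U


section Main

variable {A : Type u₁} [Category.{v₁} A] [Abelian A] [HasInjectiveResolutions A]
  {B : Type u₂} [Category.{v₂} B] [Abelian B] [HasInjectiveResolutions B]
  {A' : Type u₃} [Category.{v₃} A'] [Abelian A'] [HasInjectiveResolutions A']
  {B' : Type u₄} [Category.{v₄} B'] [Abelian B'] [HasInjectiveResolutions B']
  (Φf : A ⥤ B) [Φf.Additive] (Φg' : A' ⥤ A) [Φg'.Additive] [Φg'.PreservesInjectiveObjects]
  (Φf' : A' ⥤ B') [Φf'.Additive] (Φg : B' ⥤ B) [Φg.Additive] [PreservesFiniteLimits Φg]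
  {Lg' : A ⥤ A'} (adj' : Lg' ⊣ Φg') {Lg : B ⥤ B'} (adj : Lg ⊣ Φg)
  (α : Φg' ⋙ Φf ≅ Φf' ⋙ Φg)

/-- the degree zero base change transformation -/
def bc0N : Φf ⋙ Lg ⟶ Lg' ⋙ Φf' where
  app M := (adj.homEquiv _ _).symm (Φf.map (adj'.unit.app M) ≫ α.hom.app (Lg'.obj M))
  naturality M N φ := by
    dsimp only [Functor.comp_map, Functor.comp_obj]
    rw [← Adjunction.homEquiv_naturality_left_symm, ← Adjunction.homEquiv_naturality_right_symm]
    congr 1
    have h1 := adj'.unit.naturality φ
    have h2 := α.hom.naturality (Lg'.map φ)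
    simp only [Functor.id_obj, Functor.id_map, Functor.comp_obj, Functor.comp_map] at h1 h2
    rw [← Category.assoc, ← Φf.map_comp, h1, Φf.map_comp, Category.assoc, Category.assoc, h2]

lemma homEquiv_bc0N (M : A) :
    adj.unit.app (Φf.obj M) ≫ Φg.map ((bc0N Φf Φg' Φf' Φg adj' adj α).app M) =
      Φf.map (adj'.unit.app M) ≫ α.hom.app (Lg'.obj M) := by
  exact (Adjunction.homEquiv_unit adj _ _ _).symm.trans
    (Equiv.apply_symm_apply (adj.homEquiv _ _) _)

variable [Lg.Additive] [PreservesFiniteLimits Lg] [PreservesFiniteColimits Lg]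
  [Lg'.Additive] [Lg'.PreservesInjectiveObjects] [Lg'.PreservesHomology]

theorem isIso_transpose_bcAdj
    (hbc : ∀ M : A, IsIso ((bc0N Φf Φg' Φf' Φg adj' adj α).app M)) (q : ℕ) (F : A) :
    IsIso ((adj.homEquiv _ _).symm (bcAdj Φf Φg' Φf' Φg adj' α q F)) := by
  let I := injectiveResolution F
  let I' := injectiveResolution (Lg'.obj F)
  let J : InjectiveResolution (Lg'.obj F) := Misc.RDComp.mapInjectiveResolution Lg' I
  let e := InjectiveResolution.homotopyEquiv J I'
  let cc : (Lg'.mapHomologicalComplex _).obj I.cocomplex ⟶ I'.cocomplex := e.hom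
  have hcc : J.ι ≫ cc = I'.ι := by
    have := InjectiveResolution.desc_commutes (𝟙 (Lg'.obj F)) I' J
    rw [(CochainComplex.single₀ A').map_id, Category.id_comp] at this
    exact this
  let a : I.cocomplex ⟶ (Φg'.mapHomologicalComplex _).obj I'.cocomplex :=
    uC adj' I.cocomplex ≫ (Φg'.mapHomologicalComplex _).map cc
  have ha : IsLift Φg' (adj'.unit.app F) a := by
    rw [isLift_iff']
    have h0 := HomologicalComplex.congr_hom hcc 0
    have hJ : J.ι.f 0 = Lg'.map (I.ι.f 0) := mapAug_f_zero Lg' I
    rw [HomologicalComplex.comp_f, hJ] at h0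
    have h1 : ι0 I ≫ a.f 0 = adj'.unit.app F ≫ Φg'.map (Lg'.map (I.ι.f 0) ≫ cc.f 0) := by
      have hn := adj'.unit.naturality (I.ι.f 0)
      simp only [Functor.id_obj, Functor.id_map, Functor.comp_obj, Functor.comp_map] at hn
      change I.ι.f 0 ≫ adj'.unit.app (I.cocomplex.X 0) ≫ Φg'.map (cc.f 0) = _
      rw [← Category.assoc, hn, Category.assoc, ← Φg'.map_comp]
      rfl
    rw [h0] at h1
    exact h1
  -- the complex level identity
  let C := (Φf.mapHomologicalComplex _).obj I.cocomplex
  let bcC : (Lg.mapHomologicalComplex _).obj C ⟶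
      (Φf'.mapHomologicalComplex _).obj ((Lg'.mapHomologicalComplex _).obj I.cocomplex) :=
    tw (bc0N Φf Φg' Φf' Φg adj' adj α) I.cocomplex
  let m : (Lg.mapHomologicalComplex _).obj C ⟶ (Φf'.mapHomologicalComplex _).obj I'.cocomplex :=
    bcC ≫ (Φf'.mapHomologicalComplex _).map cc
  have KC : (Φf.mapHomologicalComplex _).map a ≫ tw α.hom I'.cocomplex =
      uC adj C ≫ (Φg.mapHomologicalComplex _).map m := by
    ext n
    have hn := α.hom.naturality (cc.f n)
    simp only [Functor.comp_obj, Functor.comp_map] at hn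
    change Φf.map (adj'.unit.app (I.cocomplex.X n) ≫ Φg'.map (cc.f n)) ≫ α.hom.app _ =
      adj.unit.app (Φf.obj (I.cocomplex.X n)) ≫
        Φg.map ((bc0N Φf Φg' Φf' Φg adj' adj α).app (I.cocomplex.X n) ≫ Φf'.map (cc.f n))
    rw [Φg.map_comp, ← Category.assoc, homEquiv_bc0N, Φf.map_comp, Category.assoc, Category.assoc,
      hn]
    rfl
  -- homology level
  haveI hv := isIso_homologyComparison Lg C q
  let v := RDer.homologyComparison Lg C q
  haveI : IsIso v := hv
  have e1 := bcAdj_eq' Φf Φg' Φf' Φg adj' α q F a ha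
  have e2 : homologyMap ((Φf.mapHomologicalComplex _).map a) q ≫
      homologyMap (tw α.hom I'.cocomplex) q =
      homologyMap (uC adj C) q ≫ homologyMap ((Φg.mapHomologicalComplex _).map m) q := by
    rw [← homologyMap_comp, ← homologyMap_comp, KC]
  have e3 := homologyMap_homologyComparison Φg m q
  have e4 := homology_unit adj C q
  have e5 : homologyMap (uC adj C) q ≫
      RDer.homologyComparison Φg ((Lg.mapHomologicalComplex _).obj C) q =
      adj.unit.app (C.homology q) ≫ Φg.map (inv v) := by
    rw [← e4, Category.assoc, Category.assoc, ← Φg.map_comp, IsIso.hom_inv_id, Φg.map_id,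
      Category.comp_id]
  have e6 : bcAdj Φf Φg' Φf' Φg adj' α q F =
      (rdIso Φf q F).hom ≫ adj.unit.app (C.homology q) ≫
        Φg.map (inv v ≫ homologyMap m q ≫ (rdIso Φf' q (Lg'.obj F)).inv) := by
    rw [e1, ← Category.assoc (homologyMap _ q), e2, Category.assoc,
      ← Category.assoc (homologyMap ((Φg.mapHomologicalComplex _).map m) q), e3, Category.assoc,
      ← Category.assoc (homologyMap (uC adj C) q), e5]
    simp only [Category.assoc, Functor.map_comp]
  rw [e6, transpose_eq]
  haveI : IsIso (homologyMap m q) := by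
    haveI : ∀ n, IsIso (bcC.f n) := fun n => hbc (I.cocomplex.X n)
    haveI : IsIso bcC := HomologicalComplex.Hom.isIso_of_components bcC
    have hq : QuasiIsoAt ((Φf'.mapHomologicalComplex _).map cc) q :=
      (Φf'.mapHomotopyEquiv e).quasiIsoAt_hom q
    rw [homologyMap_comp]
    infer_instance
  infer_instance

end Main

end H9FE.BcQAbs
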