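import Mathlib
import Groth.Prelude.Def_EtBase
import Groth.Prelude.Def_EtCore
import Groth.Agent.S0623
import Groth.Agent.Lib.Helper5.Misc.EtShriekBC
import Groth.Agent.Lib.Helper9.FE.BC0Germ
import Groth.Agent.Lib.Helper9.FE.FEtTraceSum

/-! helper9: étale base change in degree zero: for a cartesian square with `w` étale, the base change
map `w⁻¹ f_* G ⟶ f'_* j'⁻¹ G` is an isomorphism (it is identified with the site-level comparison
`rightIso` of Helper5). -/

set_option autoImplicit false
set_option linter.unusedSectionVars false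
set_option linter.style.haveILetI false
set_option backward.isDefEq.respectTransparency false
universe u
open CategoryTheory CategoryTheory.Limits AlgebraicGeometry Opposite

namespace H9FE.EtBC0Et
open EtShriek H9FE.FEtTraceSum Groth.Agent.Lib.Helper5

attribute [local instance] Groth.Agent.Lib.Helper5.Misc.JContGen.jCont

variable {X Y W X' : Scheme.{u}} (f : X ⟶ Y) (w : W ⟶ Y) [Etale w] (f' : X' ⟶ W) (j' : X' ⟶ X)
  [Etale j'] (h : IsPullback j' f' f w)

/-- the site-level identity behind étale base change -/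
lemma site_eq (V : Y.Etale) :
    (compEtale j').map (H9FE.BC0Germ.kV f w f' j' h.w V) ≫ proj j' ((EtCoh.bc f).obj V) =
      (EtShriekBC.siteIso w f j' f' h).hom.app ((EtCoh.bc w).obj V) ≫
        (EtCoh.bc f).map (proj w V) := by
  apply MorphismProperty.Over.Hom.ext
  change (H9FE.BC0Germ.kV f w f' j' h.w V).left ≫ (proj j' ((EtCoh.bc f).obj V)).left =
    (EtShriekBC.pasteIso w f j' f' h ((EtCoh.bc w).obj V).hom).hom ≫
      ((EtCoh.bc f).map (proj w V)).left
  rw [proj_left, EtGlue.bc_map_left]
  apply pullback.hom_ext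
  · rw [Category.assoc, Category.assoc, pullback.lift_fst, proj_left]
    have h1 := H9FE.BC0Germ.kV_fst_fst f w f' j' h.w V
    have h2 := EtShriekBC.pasteIso_hom_fst_assoc w f j' f' h ((EtCoh.bc w).obj V).hom
      (pullback.fst V.hom w)
    exact h1.trans h2.symm
  · rw [Category.assoc, Category.assoc, pullback.lift_snd]
    have h2 := EtShriekBC.pasteIso_hom_snd w f j' f' h ((EtCoh.bc w).obj V).hom
    have h3 : (H9FE.BC0Germ.kV f w f' j' h.w V).left ≫
        pullback.snd ((EtCoh.bc f).obj V).hom j' =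
        pullback.snd ((EtCoh.bc w).obj V).hom f' :=
      Over.w (H9FE.BC0Germ.kV f w f' j' h.w V).hom
    have h4 : pullback.fst ((EtCoh.bc f).obj V).hom j' ≫ pullback.snd V.hom f =
        pullback.snd ((EtCoh.bc f).obj V).hom j' ≫ j' := pullback.condition
    rw [h4, ← Category.assoc, h3]
    exact h2.symm

lemma res_eq {U Z : Scheme.{u}} (j : U ⟶ Z) [Etale j] (F : EtCoh.Ab Z) :
    res j F = (EtCoh.pullPushAdj j).unit.app F ≫
      (EtCoh.push j).map ((Groth.Agent.S0623.pullIso j).hom.app F) :=
  (Adjunction.unit_leftAdjointUniq_hom_app (EtCoh.pullPushAdj j)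
    (Groth.Agent.S0623.restrPushAdj j) F).symm

/-- the base change map transported to the restriction functors -/
noncomputable def rho (G : EtCoh.Ab X) :
    (restrAlong w).obj ((EtCoh.push f).obj G) ⟶ (EtCoh.push f').obj ((restrAlong j').obj G) :=
  (Groth.Agent.S0623.pullIso w).inv.app ((EtCoh.push f).obj G) ≫
    EtCoh.baseChange0 f w f' j' h.w G ≫
    (EtCoh.push f').map ((Groth.Agent.S0623.pullIso j').hom.app G)

lemma unit_rho (G : EtCoh.Ab X) :
    res w ((EtCoh.push f).obj G) ≫ (EtCoh.push w).map (rho f w f' j' h G) =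
      H9FE.BC0Germ.gamma f w f' j' h.w G ≫
        (EtCoh.push w).map ((EtCoh.push f').map ((Groth.Agent.S0623.pullIso j').hom.app G)) := by
  rw [res_eq, rho, Functor.map_comp, Functor.map_comp, Category.assoc,
    ← Category.assoc ((EtCoh.push w).map ((Groth.Agent.S0623.pullIso w).hom.app _)),
    ← Functor.map_comp, Iso.hom_inv_id_app, CategoryTheory.Functor.map_id, Category.id_comp,
    ← Category.assoc, H9FE.BC0Germ.unit_baseChange0]

lemma L_app (G : EtCoh.Ab X) (V : Y.Etale) :
    (H9FE.BC0Germ.gamma f w f' j' h.w G ≫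
      (EtCoh.push w).map ((EtCoh.push f').map
        ((Groth.Agent.S0623.pullIso j').hom.app G))).hom.app (op V) =
      G.obj.map (proj j' ((EtCoh.bc f).obj V)).op ≫
        G.obj.map ((compEtale j').map (H9FE.BC0Germ.kV f w f' j' h.w V)).op := by
  have h1 : (H9FE.BC0Germ.gamma f w f' j' h.w G ≫
      (EtCoh.push w).map ((EtCoh.push f').map
        ((Groth.Agent.S0623.pullIso j').hom.app G))).hom.app (op V) =
      (H9FE.BC0Germ.gamma f w f' j' h.w G).hom.app (op V) ≫
        ((Groth.Agent.S0623.pullIso j').hom.app G).hom.app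
          (op ((EtCoh.bc f').obj ((EtCoh.bc w).obj V))) := rfl
  rw [h1, H9FE.BC0Germ.gamma_app, Category.assoc]
  have nat := ((Groth.Agent.S0623.pullIso j').hom.app G).hom.naturality
    (H9FE.BC0Germ.kV f w f' j' h.w V).op
  rw [nat, ← Category.assoc]
  have h2 : ((EtCoh.pullPushAdj j').unit.app G).hom.app (op ((EtCoh.bc f).obj V)) ≫
      ((Groth.Agent.S0623.pullIso j').hom.app G).hom.app
        (op ((EtCoh.bc j').obj ((EtCoh.bc f).obj V))) =
      (res j' G).hom.app (op ((EtCoh.bc f).obj V)) := by
    rw [res_eq]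
    rfl
  rw [h2]
  rfl

lemma R_app (G : EtCoh.Ab X) (V : Y.Etale) :
    (res w ((EtCoh.push f).obj G) ≫
      (EtCoh.push w).map ((EtShriekBC.rightIso w f j' f' h).inv.app G)).hom.app (op V) =
      G.obj.map ((EtCoh.bc f).map (proj w V)).op ≫
        G.obj.map ((EtShriekBC.siteIso w f j' f' h).hom.app ((EtCoh.bc w).obj V)).op := by
  rfl

theorem rho_eq (G : EtCoh.Ab X) :
    rho f w f' j' h G = (EtShriekBC.rightIso w f j' f' h).inv.app G := by
  apply ((Groth.Agent.S0623.restrPushAdj w).homEquiv _ _).injective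
  rw [Adjunction.homEquiv_unit, Adjunction.homEquiv_unit]
  change res w _ ≫ _ = res w _ ≫ _
  rw [unit_rho]
  apply Sheaf.hom_ext
  apply NatTrans.ext
  funext V
  obtain ⟨V⟩ := V
  rw [L_app f w f' j' h G V, R_app f w f' j' h G V, ← G.obj.map_comp, ← G.obj.map_comp, ← op_comp, ← op_comp, site_eq f w f' j' h V]

/-- étale base change in degree zero -/
theorem isIso_baseChange0 (G : EtCoh.Ab X) : IsIso (EtCoh.baseChange0 f w f' j' h.w G) := by
  have h1 : IsIso (rho f w f' j' h G) := by
    rw [rho_eq]
    infer_instance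
  have e : EtCoh.baseChange0 f w f' j' h.w G =
      (Groth.Agent.S0623.pullIso w).hom.app ((EtCoh.push f).obj G) ≫ rho f w f' j' h G ≫
        (EtCoh.push f').map ((Groth.Agent.S0623.pullIso j').inv.app G) := by
    unfold rho
    simp only [Category.assoc, Iso.hom_inv_id_app_assoc, ← Functor.map_comp, Iso.hom_inv_id_app,
      CategoryTheory.Functor.map_id, Category.comp_id]
  rw [e]
  infer_instance

end H9FE.EtBC0Et
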