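import Mathlib
import Groth.Prelude.Def_EtBase
import Groth.Prelude.Def_EtCore
import Groth.Agent.Lib.Helper9.FE.EtHColim
import Groth.Agent.Lib.Helper9.FE.SiteTorsColim

/-! helper9: étale cohomology over quasi-compact quasi-separated objects of the small étale site:
the sheaf `ZU U` corepresenting sections over `U`, commutation of `Ext(ZU U, -)` with filtered
colimits, and torsion-ness of the cohomology of torsion sheaves. -/

set_option autoImplicit false
set_option linter.unusedSectionVars false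
set_option linter.style.haveILetI false
set_option backward.isDefEq.respectTransparency false
universe u
open CategoryTheory Limits Opposite AlgebraicGeometry Abelian

namespace H9FE.EtTorsH

open H9FE.SiteSectColim H9FE.EtQcClass H9FE.ExtFilteredColim H9FE.SiteHUColim H9FE.SiteTorsColim
  H9FE.EtHColim Groth.Agent.Lib.Helper5

variable (X : Scheme.{u})

/-- the free abelian sheaf on the representable presheaf of `U` -/
noncomputable abbrev ZU (U : X.Etale) : EtCoh.Ab X :=
  (presheafToSheaf X.smallEtaleTopology AddCommGrpCat.{u + 1}).obj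
    (uliftYoneda.{u + 1}.obj U ⋙ AddCommGrpCat.free)

/-- `ZU U` corepresents sections over `U` -/
noncomputable def reprZU (U : X.Etale) : Repr (ZU X U) U where
  e G := ((sheafificationAdjunction X.smallEtaleTopology AddCommGrpCat.{u + 1}).homEquiv
      (uliftYoneda.{u + 1}.obj U ⋙ AddCommGrpCat.free) G).trans
    (((Adjunction.whiskerRight X.Etaleᵒᵖ AddCommGrpCat.adj).homEquiv
      (uliftYoneda.{u + 1}.obj U) G.obj).trans uliftYonedaEquiv)
  nat {G G'} φ ψ := by
    let a1 := sheafificationAdjunction X.smallEtaleTopology AddCommGrpCat.{u + 1}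
    let a2 := Adjunction.whiskerRight X.Etaleᵒᵖ AddCommGrpCat.adj.{u + 1}
    let P : X.Etaleᵒᵖ ⥤ AddCommGrpCat.{u + 1} := uliftYoneda.{u + 1}.obj U ⋙ AddCommGrpCat.free
    have h1 : a1.homEquiv P G' (ψ ≫ φ) = a1.homEquiv P G ψ ≫ φ.hom :=
      a1.homEquiv_naturality_right ψ φ
    have h2 : a2.homEquiv (uliftYoneda.{u + 1}.obj U) G'.obj (a1.homEquiv P G ψ ≫ φ.hom) =
        a2.homEquiv (uliftYoneda.{u + 1}.obj U) G.obj (a1.homEquiv P G ψ) ≫
          Functor.whiskerRight φ.hom (forget AddCommGrpCat.{u + 1}) :=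
      a2.homEquiv_naturality_right _ _
    exact (congrArg (fun t => uliftYonedaEquiv
      (a2.homEquiv (uliftYoneda.{u + 1}.obj U) G'.obj t)) h1).trans
        ((congrArg uliftYonedaEquiv h2).trans rfl)

/-- the constant sheaf `ℤ` corepresents global sections -/
noncomputable def reprZZ : Repr (ZZ X) (EtCoh.top X) where
  e G := (Ext.homEquiv₀ (X := ZZ X) (Y := G)).symm.trans
    (Sheaf.H.equiv₀ G (EtCore.topIsTerminal X)).toEquiv
  nat {G G'} φ ψ := by
    have h1 : Ext.mk₀ (ψ ≫ φ) = Sheaf.H.map φ 0 (Ext.mk₀ ψ) := by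
      rw [Sheaf.H.map_apply, Ext.mk₀_comp_mk₀]
    change Sheaf.H.equiv₀ G' (EtCore.topIsTerminal X) (Ext.mk₀ (ψ ≫ φ)) = _
    rw [h1]
    exact (Sheaf.H.equiv₀_naturality (hT := EtCore.topIsTerminal X) φ (Ext.mk₀ ψ)).symm

lemma qcB_iso {V W : X.Etale} (e : V ≅ W) (h : V ∈ qcB X) : W ∈ qcB X :=
  mem_qcB_of_iso e.symm h

section Main

variable {J : Type (u + 1)} [SmallCategory J] [IsFiltered J]

/-- cohomology over a quasi-compact quasi-separated object commutes with filtered colimits -/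
theorem hsurj_hinj_U {Z : EtCoh.Ab X} {U : X.Etale} (R : Repr Z U) (hU : U ∈ qcB X) (n : ℕ)
    (D : J ⥤ EtCoh.Ab X) : HSurj.{u + 1} Z D n ∧ HInj.{u + 1} Z D n :=
  hsurj_hinj_site (qcClass X) (fun e h => qcB_iso X e h) R hU n D

end Main

/-- the positive integers -/
def posM : Submonoid ℕ where
  carrier := {m | 0 < m}
  one_mem' := Nat.one_pos
  mul_mem' ha hb := Nat.mul_pos ha hb

/-- the positive integers all of whose prime factors lie in `L` -/
def primesM (L : Set ℕ) : Submonoid ℕ where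
  carrier := {m | 0 < m ∧ ∀ p : ℕ, p.Prime → p ∣ m → p ∈ L}
  one_mem' := ⟨Nat.one_pos, fun _ hp h => absurd (Nat.dvd_one.1 h) hp.ne_one⟩
  mul_mem' ha hb := ⟨Nat.mul_pos ha.1 hb.1, fun p hp h =>
    ((Nat.Prime.dvd_mul hp).1 h).elim (ha.2 p hp) (hb.2 p hp)⟩

variable {X}

/-- a sheaf all of whose sections are killed by members of `M` locally around every point is
locally killed by `M` -/
lemma locKilled_of_pointwise (M : Submonoid ℕ) (F : EtCoh.Ab X)
    (h : ∀ (U : X.Etale) (s : F.obj.obj (op U)) (x : U.left), ∃ (V : X.Etale) (g : V ⟶ U) (m : ℕ),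
      (∃ v : V.left, g.left.base v = x) ∧ m ∈ M ∧ m • F.obj.map g.op s = 0) :
    LocKilled M F := by
  intro U s
  let T : Sieve U :=
    { arrows := fun W g => ∃ m ∈ M, m • (F.obj.map g.op).hom s = 0
      downward_closed := by
        rintro W W' g ⟨m, hm, hms⟩ k
        refine ⟨m, hm, ?_⟩
        have e : (F.obj.map (k ≫ g).op).hom s = (F.obj.map k.op).hom ((F.obj.map g.op).hom s) := by
          rw [op_comp, Functor.map_comp]
          rfl
        rw [e, ← map_nsmul, hms, map_zero] }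
  refine ⟨T, ?_, fun W g hg => hg⟩
  rw [EtSiteBasic.mem_smallEtale_iff]
  intro x
  obtain ⟨V, g, m, ⟨v, hv⟩, hm, hms⟩ := h U s x
  exact ⟨V, g, v, ⟨m, hm, hms⟩, hv⟩

lemma locKilled_of_isTorsion (F : EtCoh.Ab X) (hF : EtCoh.IsTorsion F) : LocKilled posM F := by
  apply locKilled_of_pointwise
  intro U s x
  obtain ⟨V, g, hv, hs⟩ := hF U s x
  obtain ⟨m, hm, hms⟩ := isOfFinAddOrder_iff_nsmul_eq_zero.1 hs
  exact ⟨V, g, m, hv, hm, hms⟩

/-- cohomology of a torsion sheaf on a qcqs scheme is torsion -/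
theorem isAddTorsion_H [CompactSpace X] [QuasiSeparatedSpace X] (F : EtCoh.Ab X)
    (hF : EtCoh.IsTorsion F) (n : ℕ) : IsAddTorsion (EtCoh.H X F n) := by
  intro ξ
  obtain ⟨m, hm, hξ⟩ := ext_killed.{u + 1} (qcClass X) (fun e h => qcB_iso X e h) posM
    (reprZZ X) (top_mem X) F (locKilled_of_isTorsion F hF) n ξ
  exact isOfFinAddOrder_iff_nsmul_eq_zero.2 ⟨m, hm, hξ⟩

end H9FE.EtTorsH
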