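import Mathlib
import Groth.Prelude.Def_EtBase
import Groth.Prelude.Def_EtCore
import Groth.Agent.S0623
import Groth.Agent.Lib.Helper9.FE.EtTorsH

/-! helper9: sections of an abelian étale sheaf `A` on `Y` over an étale `W → Y` are the morphisms
`ℤ_W ⟶ w⁻¹ A`, naturally in `A`; detection of monomorphisms, isomorphisms and zero sheaves. -/

set_option autoImplicit false
set_option linter.unusedSectionVars false
set_option linter.style.haveILetI false
set_option backward.isDefEq.respectTransparency false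
universe u
open CategoryTheory CategoryTheory.Limits AlgebraicGeometry Opposite

namespace H9FE.EtSecW
open EtShriek H9FE.EtTorsH H9FE.SiteHUColim

attribute [local instance] Groth.Agent.Lib.Helper5.Misc.JContGen.jCont

variable {Y : Scheme.{u}}

instance etale_hom (W : Y.Etale) : Etale W.hom := W.prop

/-- `W` as the image of the terminal object of its own small étale site -/
noncomputable def iotaW (W : Y.Etale) : (compEtale W.hom).obj (EtCoh.top W.left) ≅ W :=
  MorphismProperty.Over.isoMk (Iso.refl _) (by rfl)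

/-- the section over `W` attached to a morphism `ℤ_W ⟶ w⁻¹ A` -/
noncomputable def sec (W : Y.Etale) (A : EtCoh.Ab Y)
    (ψ : EtCoh.const W.left ℤ ⟶ (EtCoh.pull W.hom).obj A) : A.obj.obj (op W) :=
  A.obj.map (iotaW W).inv.op
    ((reprZZ W.left).e ((restrAlong W.hom).obj A)
      (ψ ≫ (Groth.Agent.S0623.pullIso W.hom).hom.app A))

lemma sec_bijective (W : Y.Etale) (A : EtCoh.Ab Y) : Function.Bijective (sec W A) := by
  have h1 : Function.Bijective (fun ψ : EtCoh.const W.left ℤ ⟶ (EtCoh.pull W.hom).obj A =>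
      ψ ≫ (Groth.Agent.S0623.pullIso W.hom).hom.app A) := by
    constructor
    · intro a b hab
      exact (cancel_mono _).1 hab
    · intro c
      exact ⟨c ≫ (Groth.Agent.S0623.pullIso W.hom).inv.app A, by simp⟩
  have h2 : Function.Bijective ((reprZZ W.left).e ((restrAlong W.hom).obj A)) :=
    Equiv.bijective _
  have h3 : Function.Bijective (A.obj.map (iotaW W).inv.op) := by
    have : IsIso (A.obj.map (iotaW W).inv.op) := inferInstance
    exact (ConcreteCategory.isIso_iff_bijective _).1 this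
  exact h3.comp (h2.comp h1)

lemma sec_nat (W : Y.Etale) {A B : EtCoh.Ab Y} (φ : A ⟶ B)
    (ψ : EtCoh.const W.left ℤ ⟶ (EtCoh.pull W.hom).obj A) :
    sec W B (ψ ≫ (EtCoh.pull W.hom).map φ) = φ.hom.app (op W) (sec W A ψ) := by
  unfold sec
  have n1 : (EtCoh.pull W.hom).map φ ≫ (Groth.Agent.S0623.pullIso W.hom).hom.app B =
      (Groth.Agent.S0623.pullIso W.hom).hom.app A ≫ (restrAlong W.hom).map φ :=
    (Groth.Agent.S0623.pullIso W.hom).hom.naturality φ
  rw [Category.assoc, n1, ← Category.assoc, (reprZZ W.left).nat]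
  have n2 := φ.hom.naturality (iotaW W).inv.op
  exact (ConcreteCategory.congr_hom n2 _).symm

/-- a morphism is a monomorphism if it is injective on `Hom(ℤ_W, w⁻¹ -)` for all `W` -/
theorem mono_of_sec {A B : EtCoh.Ab Y} (φ : A ⟶ B)
    (h : ∀ (W : Y.Etale) (ψ₁ ψ₂ : EtCoh.const W.left ℤ ⟶ (EtCoh.pull W.hom).obj A),
      ψ₁ ≫ (EtCoh.pull W.hom).map φ = ψ₂ ≫ (EtCoh.pull W.hom).map φ → ψ₁ = ψ₂) : Mono φ := by
  have hinj : ∀ W : Y.Etale, Function.Injective (φ.hom.app (op W)) := by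
    intro W s₁ s₂ hs
    obtain ⟨ψ₁, rfl⟩ := (sec_bijective W A).2 s₁
    obtain ⟨ψ₂, rfl⟩ := (sec_bijective W A).2 s₂
    rw [← sec_nat, ← sec_nat] at hs
    rw [h W ψ₁ ψ₂ ((sec_bijective W B).1 hs)]
  have hm : ∀ X : Y.Etaleᵒᵖ, Mono (φ.hom.app X) := fun X =>
    ConcreteCategory.mono_of_injective _ (hinj X.unop)
  have : Mono φ.hom := NatTrans.mono_of_mono_app φ.hom
  exact (sheafToPresheaf _ _).mono_of_mono_map this

/-- a morphism is an isomorphism if it is bijective on `Hom(ℤ_W, w⁻¹ -)` for all `W` -/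
theorem isIso_of_sec {A B : EtCoh.Ab Y} (φ : A ⟶ B)
    (hi : ∀ (W : Y.Etale) (ψ₁ ψ₂ : EtCoh.const W.left ℤ ⟶ (EtCoh.pull W.hom).obj A),
      ψ₁ ≫ (EtCoh.pull W.hom).map φ = ψ₂ ≫ (EtCoh.pull W.hom).map φ → ψ₁ = ψ₂)
    (hs : ∀ (W : Y.Etale) (χ : EtCoh.const W.left ℤ ⟶ (EtCoh.pull W.hom).obj B),
      ∃ ψ : EtCoh.const W.left ℤ ⟶ (EtCoh.pull W.hom).obj A,
        ψ ≫ (EtCoh.pull W.hom).map φ = χ) : IsIso φ := by
  have hbij : ∀ W : Y.Etale, Function.Bijective (φ.hom.app (op W)) := by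
    intro W
    constructor
    · intro s₁ s₂ hs'
      obtain ⟨ψ₁, rfl⟩ := (sec_bijective W A).2 s₁
      obtain ⟨ψ₂, rfl⟩ := (sec_bijective W A).2 s₂
      rw [← sec_nat, ← sec_nat] at hs'
      rw [hi W ψ₁ ψ₂ ((sec_bijective W B).1 hs')]
    · intro t
      obtain ⟨χ, rfl⟩ := (sec_bijective W B).2 t
      obtain ⟨ψ, rfl⟩ := hs W χ
      exact ⟨sec W A ψ, (sec_nat W φ ψ).symm⟩
  have hm : ∀ X : Y.Etaleᵒᵖ, IsIso (φ.hom.app X) := fun X =>
    (ConcreteCategory.isIso_iff_bijective _).2 (hbij X.unop)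
  have h1 : IsIso φ.hom := NatIso.isIso_of_isIso_app φ.hom
  haveI : IsIso ((sheafToPresheaf Y.smallEtaleTopology AddCommGrpCat.{u + 1}).map φ) := h1
  exact isIso_of_reflects_iso φ (sheafToPresheaf Y.smallEtaleTopology AddCommGrpCat.{u + 1})

/-- a sheaf is zero if `Hom(ℤ_W, w⁻¹ H) = 0` for all `W` -/
theorem isZero_of_sec (H : EtCoh.Ab Y)
    (h : ∀ (W : Y.Etale) (ψ : EtCoh.const W.left ℤ ⟶ (EtCoh.pull W.hom).obj H), ψ = 0) :
    IsZero H := by
  have hsub : ∀ W : Y.Etale, Subsingleton (H.obj.obj (op W)) := fun W => ⟨fun a b => by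
    obtain ⟨ψ₁, rfl⟩ := (sec_bijective W H).2 a
    obtain ⟨ψ₂, rfl⟩ := (sec_bijective W H).2 b
    rw [h W ψ₁, h W ψ₂]⟩
  rw [IsZero.iff_id_eq_zero]
  apply Sheaf.hom_ext
  apply NatTrans.ext
  funext X
  apply ConcreteCategory.hom_ext
  intro x
  exact (hsub X.unop).elim _ _

end H9FE.EtSecW
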