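import Mathlib
import Groth.Agent.Lib.Helper9.FE.AdjExt
import Groth.Agent.Lib.Helper3.RDerL
import Groth.Agent.Lib.Helper3.EdgeOutIso1

/-! helper9: truncated Leray comparison for an adjunction `L ⊣ R` of abelian categories with `L`
exact: if `R^q R (A') = 0` for `1 ≤ q ≤ n` then the edge maps
`htr 𝟙 : Ext^q(Z, R A') → Ext^q(Z', A')` are bijective for `q ≤ n` and injective for `q = n + 1`
(`main`); and the next term: if moreover the edge map is surjective in degree `n + 1` and injective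
in degree `n + 2` then `Hom(Z, R^{n+1} R (A')) = 0` (`next`). -/

set_option autoImplicit false
set_option linter.unusedSectionVars false
set_option linter.style.haveILetI false
universe w w' v v' u u'
open CategoryTheory Limits Abelian

namespace H9FE.TrLeray
open H9FE.ExtFilteredColim H9FE.AdjExt Groth.Agent.Helper3

section Gen

variable {C : Type u} [Category.{v} C] [Abelian C] [HasExt.{w} C]

lemma sub_comp' {X Y T : C} {a b c : ℕ} (x y : Ext.{w} X Y a) (β : Ext.{w} Y T b)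
    (h : a + b = c) : (x - y).comp β h = x.comp β h - y.comp β h := by
  rw [sub_eq_add_neg, Ext.add_comp, Ext.neg_comp, sub_eq_add_neg]

end Gen

section Abs

variable {𝒜 : Type u} [Category.{v} 𝒜] [Abelian 𝒜] [HasExt.{w} 𝒜]
  {ℬ : Type u'} [Category.{v'} ℬ] [Abelian ℬ] [HasExt.{w'} ℬ] [EnoughInjectives ℬ]
  (L : 𝒜 ⥤ ℬ) [L.Additive] [PreservesFiniteLimits L] [PreservesFiniteColimits L]
  {Z : 𝒜} {Z' : ℬ} (e : L.obj Z ≅ Z')
  {R : ℬ ⥤ 𝒜} [R.Additive] (adj : L ⊣ R)

lemma htr_mk₀ {A : 𝒜} {A' : ℬ} (θ : A ⟶ R.obj A') (φ : Z ⟶ A) :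
    htr L e adj θ 0 (Ext.mk₀ φ) = Ext.mk₀ (e.inv ≫ L.map φ ≫ tp L adj θ) := by
  rw [htr_apply, hp_apply, Ext.mapExactFunctor_mk₀]
  unfold push
  rw [Ext.mk₀_comp_mk₀, Ext.mk₀_comp_mk₀, Category.assoc]

lemma htr_zero_injective_of_mono {A : 𝒜} {A' : ℬ} (θ : A ⟶ R.obj A') [Mono θ] :
    Function.Injective (htr L e adj θ 0) := by
  intro x y h
  obtain ⟨φ, rfl⟩ := (Ext.mk₀_bijective _ _).2 x
  obtain ⟨ψ, rfl⟩ := (Ext.mk₀_bijective _ _).2 y
  rw [htr_mk₀, htr_mk₀] at h
  have h1 := (Ext.mk₀_bijective _ _).1 h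
  have h2 : L.map φ ≫ tp L adj θ = L.map ψ ≫ tp L adj θ := (cancel_epi e.inv).1 h1
  rw [← tp_comp_left, ← tp_comp_left, tp_eq, tp_eq] at h2
  have h3 := (adj.homEquiv _ _).symm.injective h2
  rw [(cancel_mono θ).1 h3]

lemma htr_zero_surjective (A' : ℬ) : Function.Surjective (htr L e adj (𝟙 (R.obj A')) 0) := by
  intro y
  obtain ⟨ψ, rfl⟩ := (Ext.mk₀_bijective _ _).2 y
  refine ⟨Ext.mk₀ ((adj.homEquiv _ _) (e.hom ≫ ψ)), ?_⟩
  rw [htr_mk₀]
  congr 1
  rw [← tp_comp_left, Category.comp_id, tp_eq, Equiv.symm_apply_apply, Iso.inv_hom_id_assoc]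

lemma htr_zero_bijective (A' : ℬ) : Function.Bijective (htr L e adj (𝟙 (R.obj A')) 0) :=
  ⟨htr_zero_injective_of_mono L e adj _, htr_zero_surjective L e adj A'⟩

section Step

variable {S : ShortComplex 𝒜} (hS : S.ShortExact) {S' : ShortComplex ℬ} (hS' : S'.ShortExact)
  (θ₁ : S.X₁ ⟶ R.obj S'.X₁) (θ₂ : S.X₂ ⟶ R.obj S'.X₂) (θ₃ : S.X₃ ⟶ R.obj S'.X₃)
  (c₁ : S.f ≫ θ₂ = θ₁ ≫ R.map S'.f) (c₂ : S.g ≫ θ₃ = θ₂ ≫ R.map S'.g)

include hS hS' c₁ c₂ in
lemma step_inj (q : ℕ) (h3 : Function.Injective (htr L e adj θ₃ q))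
    (h2 : Function.Surjective (htr L e adj θ₂ q))
    (hv : ∀ x : Ext.{w} Z S.X₂ (q + 1), x = 0) :
    Function.Injective (htr L e adj θ₁ (q + 1)) := by
  rw [injective_iff_map_eq_zero]
  intro x hx
  obtain ⟨z, rfl⟩ := Ext.covariant_sequence_exact₁ Z hS x (hv _) rfl
  rw [htr_delta L e adj hS hS' θ₁ θ₂ θ₃ c₁ c₂ rfl z] at hx
  obtain ⟨y, hy⟩ := Ext.covariant_sequence_exact₃ Z' hS' _ rfl hx
  obtain ⟨y', rfl⟩ := h2 y
  have h4 : htr L e adj θ₃ q (push S.g y') = htr L e adj θ₃ q z := by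
    rw [← htr_comp_left, c₂, htr_comp_right]
    exact hy
  rw [← h3 h4]
  exact push_g_delta hS rfl y'

include hS hS' c₁ c₂ in
lemma step_surj (q : ℕ) (h3 : Function.Surjective (htr L e adj θ₃ q))
    (hv : ∀ y : Ext.{w'} Z' S'.X₂ (q + 1), y = 0) :
    Function.Surjective (htr L e adj θ₁ (q + 1)) := by
  intro y
  obtain ⟨y₃, rfl⟩ := Ext.covariant_sequence_exact₁ Z' hS' y (hv _) rfl
  obtain ⟨z, rfl⟩ := h3 y₃
  exact ⟨z.comp hS.extClass rfl, htr_delta L e adj hS hS' θ₁ θ₂ θ₃ c₁ c₂ rfl z⟩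

end Step

section Main

/-- the canonical embedding into an injective object, with its cokernel -/
noncomputable def ses (A' : ℬ) : ShortComplex ℬ :=
  ShortComplex.mk (Injective.ι A') (cokernel.π (Injective.ι A')) (cokernel.condition _)

lemma ses_shortExact (A' : ℬ) : (ses A').ShortExact :=
  ShortComplex.ShortExact.mk' (ShortComplex.exact_of_g_is_cokernel _ (cokernelIsCokernel _))
    (inferInstanceAs (Mono (Injective.ι A'))) (inferInstanceAs (Epi (cokernel.π (Injective.ι A'))))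

instance (A' : ℬ) : Injective (ses A').X₂ := inferInstanceAs (Injective (Injective.under A'))

include adj in
lemma injective_R (I : ℬ) [Injective I] : Injective (R.obj I) := adj.map_injective I inferInstance

include adj in
lemma lexR : PreservesFiniteLimits R :=
  ⟨fun _ _ _ => adj.rightAdjoint_preservesLimits.preservesLimitsOfShape⟩

lemma isZero_rd_X₃ {S' : ShortComplex ℬ} (hS' : S'.ShortExact) [Injective S'.X₂] (q : ℕ)
    (h : IsZero ((R.rightDerived (q + 2)).obj S'.X₁)) :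
    IsZero ((R.rightDerived (q + 1)).obj S'.X₃) :=
  ((RDerL.derivedLES R).exact₃ S' hS' (q + 1) (q + 2) rfl).isZero_of_both_zeros
    ((R.isZero_rightDerived_obj_injective_succ q S'.X₂).eq_of_src _ _) (h.eq_of_tgt _ _)

lemma map_shortExact [PreservesFiniteLimits R] {S' : ShortComplex ℬ} (hS' : S'.ShortExact)
    (h : IsZero ((R.rightDerived 1).obj S'.X₁)) : (S'.map R).ShortExact := by
  haveI := hS'.mono_f
  haveI : Epi (R.map S'.g) := EdgeOutIso.epi_map_g R hS' h
  exact ShortComplex.ShortExact.mk'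
    (hS'.exact.map_of_mono_of_preservesKernel R inferInstance inferInstance)
    (inferInstanceAs (Mono (R.map S'.f))) (inferInstanceAs (Epi (R.map S'.g)))

/-- the short exact sequence `0 → R A' → R I → K → 0`, `K` the cokernel -/
noncomputable abbrev sesK (S' : ShortComplex ℬ) : ShortComplex 𝒜 :=
  ShortComplex.mk (R.map S'.f) (cokernel.π (R.map S'.f)) (cokernel.condition _)

lemma sesK_shortExact [PreservesFiniteLimits R] {S' : ShortComplex ℬ} (hS' : S'.ShortExact) :
    (sesK (R := R) S').ShortExact := by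
  haveI := hS'.mono_f
  exact ShortComplex.ShortExact.mk' (ShortComplex.exact_of_g_is_cokernel _ (cokernelIsCokernel _))
    (inferInstanceAs (Mono (R.map S'.f))) (inferInstanceAs (Epi (cokernel.π (R.map S'.f))))

/-- the inclusion `K ⟶ R Q` -/
noncomputable def iK (S' : ShortComplex ℬ) : (sesK (R := R) S').X₃ ⟶ R.obj S'.X₃ :=
  cokernel.desc (R.map S'.f) (R.map S'.g) (by rw [← R.map_comp, S'.zero, R.map_zero])

lemma mono_iK [PreservesFiniteLimits R] {S' : ShortComplex ℬ} (hS' : S'.ShortExact) :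
    Mono (iK (R := R) S') := by
  haveI := hS'.mono_f
  exact (hS'.exact.map_of_mono_of_preservesKernel R inferInstance inferInstance).mono_cokernelDesc

lemma sesK_c₁ (S' : ShortComplex ℬ) :
    (sesK (R := R) S').f ≫ 𝟙 (R.obj S'.X₂) = 𝟙 (R.obj S'.X₁) ≫ R.map S'.f := by
  simp [sesK]

lemma sesK_c₂ (S' : ShortComplex ℬ) :
    (sesK (R := R) S').g ≫ iK (R := R) S' = 𝟙 (R.obj S'.X₂) ≫ R.map S'.g := by
  simp [sesK, iK]

theorem main [PreservesFiniteLimits R] (n : ℕ) : ∀ (A' : ℬ),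
    (∀ q, 1 ≤ q → q ≤ n → IsZero ((R.rightDerived q).obj A')) →
    (∀ q, q ≤ n → Function.Bijective (htr L e adj (𝟙 (R.obj A')) q)) ∧
      Function.Injective (htr L e adj (𝟙 (R.obj A')) (n + 1)) := by
  induction n with
  | zero =>
    intro A' _
    refine ⟨fun q hq => ?_, ?_⟩
    · obtain rfl : q = 0 := by omega
      exact htr_zero_bijective L e adj A'
    · have hS' : (ses A').ShortExact := ses_shortExact A'
      have hS := sesK_shortExact (R := R) hS'
      haveI := mono_iK (R := R) hS'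
      haveI : Injective (R.obj (ses A').X₂) := injective_R L adj (ses A').X₂
      exact step_inj L e adj hS hS' (𝟙 _) (𝟙 _) (iK (ses A')) (sesK_c₁ _) (sesK_c₂ _) 0
        (htr_zero_injective_of_mono L e adj _) (htr_zero_surjective L e adj (ses A').X₂)
        (fun x => Ext.eq_zero_of_injective (I := R.obj (ses A').X₂) x)
  | succ n ih =>
    intro A' hA'
    have hS' := ses_shortExact A'
    have h1 : IsZero ((R.rightDerived 1).obj (ses A').X₁) := hA' 1 le_rfl (by omega)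
    have hS : ((ses A').map R).ShortExact := map_shortExact hS' h1
    have hQ : ∀ q, 1 ≤ q → q ≤ n → IsZero ((R.rightDerived q).obj (ses A').X₃) := by
      intro q hq1 hqn
      obtain ⟨k, rfl⟩ : ∃ k, q = k + 1 := ⟨q - 1, by omega⟩
      exact isZero_rd_X₃ hS' k (hA' (k + 2) (by omega) (by omega))
    obtain ⟨ihb, ihi⟩ := ih (ses A').X₃ hQ
    haveI : Injective (R.obj (ses A').X₂) := injective_R L adj (ses A').X₂
    have c₁ : ((ses A').map R).f ≫ 𝟙 (R.obj (ses A').X₂) =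
        𝟙 (R.obj (ses A').X₁) ≫ R.map (ses A').f :=
      (Category.comp_id _).trans (Category.id_comp _).symm
    have c₂ : ((ses A').map R).g ≫ 𝟙 (R.obj (ses A').X₃) =
        𝟙 (R.obj (ses A').X₂) ≫ R.map (ses A').g :=
      (Category.comp_id _).trans (Category.id_comp _).symm
    have h2surj : ∀ q, Function.Surjective (htr L e adj (𝟙 (R.obj (ses A').X₂)) q) := by
      intro q
      cases q with
      | zero => exact htr_zero_surjective L e adj (ses A').X₂
      | succ k =>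
        intro y
        exact ⟨0, by rw [map_zero]; exact (Ext.eq_zero_of_injective y).symm⟩
    have hinj : ∀ q, q ≤ n + 1 →
        Function.Injective (htr L e adj (𝟙 (R.obj A')) (q + 1)) := by
      intro q hq
      refine step_inj L e adj hS hS' (𝟙 _) (𝟙 _) (𝟙 _) c₁ c₂ q ?_ (h2surj q)
        (fun x => Ext.eq_zero_of_injective (I := R.obj (ses A').X₂) x)
      rcases Nat.lt_or_ge q (n + 1) with h | h
      · exact (ihb q (by omega)).1
      · obtain rfl : q = n + 1 := by omega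
        exact ihi
    have hsurj : ∀ q, q ≤ n →
        Function.Surjective (htr L e adj (𝟙 (R.obj A')) (q + 1)) := by
      intro q hq
      exact step_surj L e adj hS hS' (𝟙 _) (𝟙 _) (𝟙 _) c₁ c₂ q (ihb q hq).2
        (fun y => Ext.eq_zero_of_injective (I := (ses A').X₂) y)
    refine ⟨fun q hq => ?_, hinj (n + 1) le_rfl⟩
    cases q with
    | zero => exact htr_zero_bijective L e adj A'
    | succ k => exact ⟨hinj k (by omega), hsurj k (by omega)⟩

end Main

section Next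

variable [PreservesFiniteLimits R]

/-- the map `R Q ⟶ R¹R (A')` -/
noncomputable def dR {S' : ShortComplex ℬ} (hS' : S'.ShortExact) :
    R.obj S'.X₃ ⟶ (R.rightDerived 1).obj S'.X₁ :=
  (R.rightDerivedZeroIsoSelf).inv.app S'.X₃ ≫ (RDerL.derivedLES R).δ S' hS' 0 1 rfl

lemma epi_dR {S' : ShortComplex ℬ} (hS' : S'.ShortExact) [Injective S'.X₂] :
    Epi (dR (R := R) hS') := by
  haveI : Epi ((RDerL.derivedLES R).δ S' hS' 0 1 rfl) :=
    ((RDerL.derivedLES R).exact₁ S' hS' 0 1 rfl).epi_f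
      ((R.isZero_rightDerived_obj_injective_succ 0 S'.X₂).eq_of_tgt _ _)
  unfold dR
  infer_instance

lemma R_g_dR {S' : ShortComplex ℬ} (hS' : S'.ShortExact) :
    R.map S'.g ≫ dR (R := R) hS' = 0 := by
  unfold dR
  rw [← Category.assoc, (R.rightDerivedZeroIsoSelf).inv.naturality S'.g, Category.assoc,
    (RDerL.derivedLES R).comp_δ, comp_zero]

lemma exact_Rg_dR {S' : ShortComplex ℬ} (hS' : S'.ShortExact) :
    (ShortComplex.mk (R.map S'.g) (dR (R := R) hS') (R_g_dR hS')).Exact := by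
  refine (ShortComplex.exact_iff_of_iso ?_).1 ((RDerL.derivedLES R).exact₃ S' hS' 0 1 rfl)
  refine ShortComplex.isoMk ((R.rightDerivedZeroIsoSelf).app S'.X₂)
    ((R.rightDerivedZeroIsoSelf).app S'.X₃) (Iso.refl _) ?_ ?_
  · exact ((R.rightDerivedZeroIsoSelf).hom.naturality S'.g).symm
  · change (R.rightDerivedZeroIsoSelf).hom.app S'.X₃ ≫ dR (R := R) hS' = _ ≫ 𝟙 _
    unfold dR
    rw [Iso.hom_inv_id_app_assoc, Category.comp_id]

lemma iK_dR {S' : ShortComplex ℬ} (hS' : S'.ShortExact) :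
    iK (R := R) S' ≫ dR (R := R) hS' = 0 := by
  have h : cokernel.π (R.map S'.f) ≫ iK (R := R) S' ≫ dR (R := R) hS' =
      cokernel.π (R.map S'.f) ≫ 0 := by
    unfold iK
    rw [cokernel.π_desc_assoc, R_g_dR, comp_zero]
  exact (cancel_epi (cokernel.π (R.map S'.f))).1 h

lemma exact_iK_dR {S' : ShortComplex ℬ} (hS' : S'.ShortExact) :
    (ShortComplex.mk (iK (R := R) S') (dR (R := R) hS') (iK_dR hS')).Exact := by
  let φ : ShortComplex.mk (R.map S'.g) (dR (R := R) hS') (R_g_dR hS') ⟶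
      ShortComplex.mk (iK (R := R) S') (dR (R := R) hS') (iK_dR hS') :=
    { τ₁ := cokernel.π (R.map S'.f)
      τ₂ := 𝟙 _
      τ₃ := 𝟙 _
      comm₁₂ := by
        change cokernel.π (R.map S'.f) ≫ iK (R := R) S' = R.map S'.g ≫ 𝟙 _
        rw [Category.comp_id]
        exact cokernel.π_desc _ _ _
      comm₂₃ := by simp }
  haveI : Epi φ.τ₁ := inferInstanceAs (Epi (cokernel.π (R.map S'.f)))
  haveI : IsIso φ.τ₂ := inferInstanceAs (IsIso (𝟙 _))
  haveI : Mono φ.τ₃ := inferInstanceAs (Mono (𝟙 _))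
  exact (ShortComplex.exact_iff_of_epi_of_isIso_of_mono φ).1 (exact_Rg_dR hS')

lemma htr_iK {S' : ShortComplex ℬ} (n : ℕ) (k : Ext.{w} Z (sesK (R := R) S').X₃ n) :
    htr L e adj (iK (R := R) S') n k =
      htr L e adj (𝟙 (R.obj S'.X₃)) n (push (iK (R := R) S') k) := by
  rw [← htr_comp_left, Category.comp_id]

lemma push_zero_map {A B : 𝒜} {n : ℕ} (x : Ext.{w} Z A n) : push (0 : A ⟶ B) x = 0 := by
  unfold push
  rw [Ext.mk₀_zero, Ext.comp_zero]

theorem next_zero (A' : ℬ) (hs : Function.Surjective (htr L e adj (𝟙 (R.obj A')) 1))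
    (hi : Function.Injective (htr L e adj (𝟙 (R.obj A')) 2))
    (φ : Z ⟶ (R.rightDerived 1).obj A') : φ = 0 := by
  have hS' := ses_shortExact A'
  have hS := sesK_shortExact (R := R) hS'
  haveI := mono_iK (R := R) hS'
  haveI : Injective (R.obj (ses A').X₂) := injective_R L adj (ses A').X₂
  haveI := epi_dR (R := R) hS'
  have hD : (ShortComplex.mk (iK (R := R) (ses A')) (dR (R := R) hS') (iK_dR hS')).ShortExact :=
    ShortComplex.ShortExact.mk' (exact_iK_dR hS') inferInstance inferInstance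
  have hI : Function.Injective (htr L e adj (iK (R := R) (ses A')) 1) := by
    rw [injective_iff_map_eq_zero]
    intro z hz
    have h1 := htr_delta L e adj hS hS' (𝟙 _) (𝟙 _) (iK (ses A')) (sesK_c₁ _) (sesK_c₂ _)
      (rfl : 1 + 1 = 2) z
    rw [hz, Ext.zero_comp] at h1
    have h2 : z.comp hS.extClass (rfl : 1 + 1 = 2) = 0 := hi (h1.trans (map_zero _).symm)
    obtain ⟨w, hw⟩ := Ext.covariant_sequence_exact₃ Z hS z rfl h2
    rw [← hw, Ext.eq_zero_of_injective (I := R.obj (ses A').X₂) w]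
    exact Ext.zero_comp _ _ _ _ _
  have hII : ∀ y : Ext.{w} Z (R.obj (ses A').X₃) 0,
      ∃ k : Ext.{w} Z (sesK (R := R) (ses A')).X₃ 0, push (iK (R := R) (ses A')) k = y := by
    intro y
    obtain ⟨x, hx⟩ := hs ((htr L e adj (𝟙 (R.obj (ses A').X₃)) 0 y).comp hS'.extClass
      (rfl : 0 + 1 = 1))
    obtain ⟨k₀, hk₀⟩ := Ext.covariant_sequence_exact₁ Z hS x
      (Ext.eq_zero_of_injective (I := R.obj (ses A').X₂) _) (rfl : 0 + 1 = 1)
    have h1 : htr L e adj (𝟙 (R.obj A')) 1 (k₀.comp hS.extClass (rfl : 0 + 1 = 1)) =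
        (htr L e adj (iK (R := R) (ses A')) 0 k₀).comp hS'.extClass (rfl : 0 + 1 = 1) :=
      htr_delta L e adj hS hS' (𝟙 _) (𝟙 _) (iK (ses A')) (sesK_c₁ _) (sesK_c₂ _)
        (rfl : 0 + 1 = 1) k₀
    rw [hk₀, hx] at h1
    have h2 : (htr L e adj (𝟙 (R.obj (ses A').X₃)) 0 y -
        htr L e adj (iK (R := R) (ses A')) 0 k₀).comp hS'.extClass (rfl : 0 + 1 = 1) = 0 := by
      rw [sub_comp', h1, sub_self]
    obtain ⟨w, hw⟩ := Ext.covariant_sequence_exact₃ Z' hS' _ rfl h2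
    obtain ⟨w', rfl⟩ := htr_zero_surjective L e adj (ses A').X₂ w
    have h3 : htr L e adj (iK (R := R) (ses A')) 0 (push (sesK (R := R) (ses A')).g w') =
        push (ses A').g (htr L e adj (𝟙 (R.obj (ses A').X₂)) 0 w') := by
      rw [← htr_comp_left, sesK_c₂, htr_comp_right]
    refine ⟨k₀ + push (sesK (R := R) (ses A')).g w', ?_⟩
    apply (htr_zero_bijective L e adj (ses A').X₃).1
    rw [← htr_iK, map_add, h3]
    have hw' : push (ses A').g (htr L e adj (𝟙 (R.obj (ses A').X₂)) 0 w') =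
        htr L e adj (𝟙 (R.obj (ses A').X₃)) 0 y -
          htr L e adj (iK (R := R) (ses A')) 0 k₀ := hw
    rw [hw']
    abel
  have hx : (Ext.mk₀ φ).comp hD.extClass (rfl : 0 + 1 = 1) = 0 := by
    apply hI
    rw [map_zero, htr_iK]
    have h0 : push (iK (R := R) (ses A')) ((Ext.mk₀ φ).comp hD.extClass (rfl : 0 + 1 = 1)) = 0 := by
      unfold push
      refine (Ext.comp_assoc_of_third_deg_zero _ _ _ _).trans ?_
      have h00 : hD.extClass.comp (Ext.mk₀ (iK (R := R) (ses A'))) (add_zero 1) = 0 :=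
        hD.extClass_comp
      have h01 := congrArg (fun t => (Ext.mk₀ φ).comp t (rfl : 0 + 1 = 1)) h00
      exact h01.trans (Ext.comp_zero _ _ _ _ _)
    rw [h0, map_zero]
  obtain ⟨y, hy⟩ := Ext.covariant_sequence_exact₃ Z hD (Ext.mk₀ φ) rfl hx
  obtain ⟨k, rfl⟩ := hII y
  have h5 : push (dR (R := R) hS') (push (iK (R := R) (ses A')) k) = Ext.mk₀ φ := hy
  rw [← push_comp, iK_dR, push_zero_map] at h5
  exact (Ext.mk₀_bijective _ _).1 (h5.symm.trans (Ext.mk₀_zero _ _).symm)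

theorem next (q : ℕ) : ∀ (A' : ℬ),
    (∀ i, 1 ≤ i → i ≤ q → IsZero ((R.rightDerived i).obj A')) →
    Function.Surjective (htr L e adj (𝟙 (R.obj A')) (q + 1)) →
    Function.Injective (htr L e adj (𝟙 (R.obj A')) (q + 2)) →
    ∀ φ : Z ⟶ (R.rightDerived (q + 1)).obj A', φ = 0 := by
  induction q with
  | zero =>
    intro A' _ hs hi φ
    exact next_zero L e adj A' hs hi φ
  | succ q ih =>
    intro A' hA' hs hi φ
    have hS' := ses_shortExact A'
    have h1 : IsZero ((R.rightDerived 1).obj (ses A').X₁) := hA' 1 le_rfl (by omega)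
    have hS : ((ses A').map R).ShortExact := map_shortExact hS' h1
    have hQ : ∀ i, 1 ≤ i → i ≤ q → IsZero ((R.rightDerived i).obj (ses A').X₃) := by
      intro i hi1 hiq
      obtain ⟨k, rfl⟩ : ∃ k, i = k + 1 := ⟨i - 1, by omega⟩
      exact isZero_rd_X₃ hS' k (hA' (k + 2) (by omega) (by omega))
    haveI : Injective (R.obj (ses A').X₂) := injective_R L adj (ses A').X₂
    have c₁ : ((ses A').map R).f ≫ 𝟙 (R.obj (ses A').X₂) =
        𝟙 (R.obj (ses A').X₁) ≫ R.map (ses A').f :=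
      (Category.comp_id _).trans (Category.id_comp _).symm
    have c₂ : ((ses A').map R).g ≫ 𝟙 (R.obj (ses A').X₃) =
        𝟙 (R.obj (ses A').X₂) ≫ R.map (ses A').g :=
      (Category.comp_id _).trans (Category.id_comp _).symm
    have hsQ : Function.Surjective (htr L e adj (𝟙 (R.obj (ses A').X₃)) (q + 1)) := by
      intro y
      obtain ⟨x, hx⟩ := hs (y.comp hS'.extClass (rfl : q + 1 + 1 = q + 1 + 1))
      obtain ⟨z, hz⟩ := Ext.covariant_sequence_exact₁ Z hS x
        (Ext.eq_zero_of_injective (I := R.obj (ses A').X₂) _) (rfl : q + 1 + 1 = q + 1 + 1)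
      have h2 : htr L e adj (𝟙 (R.obj A')) (q + 1 + 1)
          (z.comp hS.extClass (rfl : q + 1 + 1 = q + 1 + 1)) =
          (htr L e adj (𝟙 (R.obj (ses A').X₃)) (q + 1) z).comp hS'.extClass
            (rfl : q + 1 + 1 = q + 1 + 1) :=
        htr_delta L e adj hS hS' (𝟙 _) (𝟙 _) (𝟙 _) c₁ c₂ (rfl : q + 1 + 1 = q + 1 + 1) z
      rw [hz, hx] at h2
      have h3 : (htr L e adj (𝟙 (R.obj (ses A').X₃)) (q + 1) z - y).comp hS'.extClass
          (rfl : q + 1 + 1 = q + 1 + 1) = 0 := by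
        rw [sub_comp', ← h2, sub_self]
      obtain ⟨w, hw⟩ := Ext.covariant_sequence_exact₃ Z' hS' _ rfl h3
      rw [Ext.eq_zero_of_injective (I := (ses A').X₂) w, Ext.zero_comp] at hw
      exact ⟨z, sub_eq_zero.1 hw.symm⟩
    have hiQ : Function.Injective (htr L e adj (𝟙 (R.obj (ses A').X₃)) (q + 2)) := by
      rw [injective_iff_map_eq_zero]
      intro z hz
      have h2 : htr L e adj (𝟙 (R.obj A')) (q + 1 + 2)
          (z.comp hS.extClass (rfl : q + 2 + 1 = q + 1 + 2)) =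
          (htr L e adj (𝟙 (R.obj (ses A').X₃)) (q + 2) z).comp hS'.extClass
            (rfl : q + 2 + 1 = q + 1 + 2) :=
        htr_delta L e adj hS hS' (𝟙 _) (𝟙 _) (𝟙 _) c₁ c₂ (rfl : q + 2 + 1 = q + 1 + 2) z
      rw [hz, Ext.zero_comp] at h2
      have h3 : z.comp hS.extClass (rfl : q + 2 + 1 = q + 1 + 2) = 0 :=
        hi (h2.trans (map_zero _).symm)
      obtain ⟨w, hw⟩ := Ext.covariant_sequence_exact₃ Z hS z rfl h3
      rw [← hw, Ext.eq_zero_of_injective (I := R.obj (ses A').X₂) w]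
      exact Ext.zero_comp _ _ _ _ _
    have hz := ih (ses A').X₃ hQ hsQ hiQ
    have hδ0 : IsIso ((RDerL.derivedLES R).δ (ses A') hS' (q + 1) (q + 2) rfl) := by
      haveI : Mono ((RDerL.derivedLES R).δ (ses A') hS' (q + 1) (q + 2) rfl) :=
        ((RDerL.derivedLES R).exact₃ (ses A') hS' (q + 1) (q + 2) rfl).mono_g
          ((R.isZero_rightDerived_obj_injective_succ q (ses A').X₂).eq_of_src _ _)
      haveI : Epi ((RDerL.derivedLES R).δ (ses A') hS' (q + 1) (q + 2) rfl) :=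
        ((RDerL.derivedLES R).exact₁ (ses A') hS' (q + 1) (q + 2) rfl).epi_f
          ((R.isZero_rightDerived_obj_injective_succ (q + 1) (ses A').X₂).eq_of_tgt _ _)
      exact isIso_of_mono_of_epi _
    obtain ⟨δ, hδ⟩ : ∃ δ : (R.rightDerived (q + 1)).obj (ses A').X₃ ⟶
        (R.rightDerived (q + 1 + 1)).obj A', IsIso δ := ⟨_, hδ0⟩
    haveI := hδ
    have h6 := hz (φ ≫ inv δ)
    rw [← cancel_mono (inv δ), h6, zero_comp]

end Next

end Abs

end H9FE.TrLeray
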