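import Mathlib
import Groth.Prelude.Def_EtCore
import Groth.Agent.Lib.Helper9.FE.TrLeray
import Groth.Agent.Lib.Helper9.FE.EtTr
import Groth.Agent.S0623

/-! helper9: the abstract transition-map/Leray lemmas of `TrLeray` specialised to a morphism of
schemes `f : X ⟶ Y` and abelian étale sheaves: the conditions `PA` (unit iso and vanishing of
higher direct images of `f⁻¹F`) and `PB` (pull-back on cohomology bijective up to degree `n`,
injective in degree `n+1`). -/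

set_option autoImplicit false
set_option linter.unusedSectionVars false
set_option linter.style.haveILetI false
set_option backward.isDefEq.respectTransparency false
universe u
open CategoryTheory Limits Opposite AlgebraicGeometry Abelian

namespace H9FE.EtTrLeray
open H9FE.AdjExt H9FE.EtTr H9FE.ExtFilteredColim

attribute [local instance] Groth.Agent.S0623.lexPull

variable {X Y : Scheme.{u}} (f : X ⟶ Y)

/-- form (i): the unit is an isomorphism and the higher direct images of `f⁻¹F` vanish up to `n` -/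
def PA (F : EtCoh.Ab Y) (n : ℕ) : Prop :=
  IsIso ((EtCoh.pullPushAdj f).unit.app F) ∧
    ∀ q : ℕ, 1 ≤ q → q ≤ n → IsZero ((EtCoh.Rpush f q).obj ((EtCoh.pull f).obj F))

/-- form (ii): pull-back on cohomology is bijective up to degree `n`, injective in degree `n+1` -/
def PB (F : EtCoh.Ab Y) (n : ℕ) : Prop :=
  (∀ q : ℕ, q ≤ n → Function.Bijective (EtCore.Hpull f F q)) ∧
    Function.Injective (EtCore.Hpull f F (n + 1))

instance lexPush : PreservesFiniteLimits (EtCoh.push f) :=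
  H9FE.TrLeray.lexR (EtCoh.pull f) (EtCoh.pullPushAdj f)

lemma Hpull_eq_tr_id (F : EtCoh.Ab Y) (q : ℕ) (x : EtCoh.H Y F q) :
    EtCore.Hpull f F q x = tr f (𝟙 ((EtCoh.push f).obj ((EtCoh.pull f).obj F))) q
      (((EtCoh.HF Y q).map ((EtCoh.pullPushAdj f).unit.app F)).hom x) := by
  have h1 := tr_comp_left f ((EtCoh.pullPushAdj f).unit.app F)
    (𝟙 ((EtCoh.push f).obj ((EtCoh.pull f).obj F))) q x
  rw [Hpull_eq_tr]
  exact (congrArg (fun θ => tr f θ q x) (Category.comp_id _).symm).trans h1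

lemma HF_map_bijective {A B : EtCoh.Ab Y} (φ : A ⟶ B) [IsIso φ] (q : ℕ) :
    Function.Bijective (((EtCoh.HF Y q).map φ).hom) := by
  have : IsIso ((EtCoh.HF Y q).map φ) := inferInstance
  exact (ConcreteCategory.isIso_iff_bijective ((EtCoh.HF Y q).map φ)).1 this

theorem PB_of_PA (F : EtCoh.Ab Y) (n : ℕ) (h : PA f F n) : PB f F n := by
  obtain ⟨hu, hv⟩ := h
  have hm := H9FE.TrLeray.main (EtCoh.pull f) (EtCore.pullConst f ℤ) (EtCoh.pullPushAdj f) n
    ((EtCoh.pull f).obj F) hv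
  have e : ∀ q, ⇑(EtCore.Hpull f F q) =
      ⇑(tr f (𝟙 ((EtCoh.push f).obj ((EtCoh.pull f).obj F))) q) ∘
        ⇑(((EtCoh.HF Y q).map ((EtCoh.pullPushAdj f).unit.app F)).hom) := by
    intro q
    funext x
    exact Hpull_eq_tr_id f F q x
  refine ⟨fun q hq => ?_, ?_⟩
  · rw [e q]
    exact (hm.1 q hq).comp (HF_map_bijective _ q)
  · rw [e (n + 1)]
    exact hm.2.comp (HF_map_bijective _ (n + 1)).1

lemma Hpull0_injective_of_mono (F : EtCoh.Ab Y) [Mono ((EtCoh.pullPushAdj f).unit.app F)] :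
    Function.Injective (EtCore.Hpull f F 0) := by
  have h := H9FE.TrLeray.htr_zero_injective_of_mono (EtCoh.pull f) (EtCore.pullConst f ℤ)
    (EtCoh.pullPushAdj f) ((EtCoh.pullPushAdj f).unit.app F)
  intro x y hxy
  rw [Hpull_eq_tr, Hpull_eq_tr] at hxy
  exact h hxy

lemma push_mk₀ {A B : EtCoh.Ab Y} (φ : A ⟶ B) (ψ : EtCoh.const Y ℤ ⟶ A) :
    ((EtCoh.HF Y 0).map φ).hom (Ext.mk₀ ψ) = Ext.mk₀ (ψ ≫ φ) := by
  rw [HF_map_apply]
  unfold push
  rw [Ext.mk₀_comp_mk₀]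

lemma unit_inj_of_Hpull0 (F : EtCoh.Ab Y) (h : Function.Injective (EtCore.Hpull f F 0))
    (φ ψ : EtCoh.const Y ℤ ⟶ F)
    (e : φ ≫ (EtCoh.pullPushAdj f).unit.app F = ψ ≫ (EtCoh.pullPushAdj f).unit.app F) : φ = ψ := by
  apply (Ext.mk₀_bijective _ _).1
  apply h
  rw [Hpull_eq_tr_id, Hpull_eq_tr_id, push_mk₀, push_mk₀, e]

lemma unit_surj_of_Hpull0 (F : EtCoh.Ab Y) (h : Function.Surjective (EtCore.Hpull f F 0))
    (χ : EtCoh.const Y ℤ ⟶ (EtCoh.push f).obj ((EtCoh.pull f).obj F)) :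
    ∃ φ : EtCoh.const Y ℤ ⟶ F, φ ≫ (EtCoh.pullPushAdj f).unit.app F = χ := by
  have hb := H9FE.TrLeray.htr_zero_bijective (EtCoh.pull f) (EtCore.pullConst f ℤ)
    (EtCoh.pullPushAdj f) ((EtCoh.pull f).obj F)
  obtain ⟨x, hx⟩ := h (tr f (𝟙 ((EtCoh.push f).obj ((EtCoh.pull f).obj F))) 0 (Ext.mk₀ χ))
  obtain ⟨φ, rfl⟩ := (Ext.mk₀_bijective _ _).2 x
  refine ⟨φ, ?_⟩
  rw [Hpull_eq_tr_id, push_mk₀] at hx
  exact (Ext.mk₀_bijective _ _).1 (hb.1 hx)

theorem tr_of_PB (F : EtCoh.Ab Y) (n : ℕ) [IsIso ((EtCoh.pullPushAdj f).unit.app F)]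
    (h : PB f F n) :
    (∀ q : ℕ, q ≤ n → Function.Bijective
        (tr f (𝟙 ((EtCoh.push f).obj ((EtCoh.pull f).obj F))) q)) ∧
      Function.Injective (tr f (𝟙 ((EtCoh.push f).obj ((EtCoh.pull f).obj F))) (n + 1)) := by
  have e : ∀ q, ⇑(EtCore.Hpull f F q) =
      ⇑(tr f (𝟙 ((EtCoh.push f).obj ((EtCoh.pull f).obj F))) q) ∘
        ⇑(((EtCoh.HF Y q).map ((EtCoh.pullPushAdj f).unit.app F)).hom) := by
    intro q
    funext x
    exact Hpull_eq_tr_id f F q x
  refine ⟨fun q hq => ?_, ?_⟩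
  · have h1 := h.1 q hq
    rw [e q] at h1
    exact (Function.Bijective.of_comp_iff _ (HF_map_bijective _ q)).1 h1
  · have h1 := h.2
    rw [e (n + 1)] at h1
    intro a b hab
    obtain ⟨a', rfl⟩ := (HF_map_bijective ((EtCoh.pullPushAdj f).unit.app F) (n + 1)).2 a
    obtain ⟨b', rfl⟩ := (HF_map_bijective ((EtCoh.pullPushAdj f).unit.app F) (n + 1)).2 b
    rw [h1 hab]

/-- the inductive step: global sections of the next higher direct image vanish -/
theorem next_et (q : ℕ) (G : EtCoh.Ab X)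
    (hv : ∀ i : ℕ, 1 ≤ i → i ≤ q → IsZero ((EtCoh.Rpush f i).obj G))
    (hs : Function.Surjective (tr f (𝟙 ((EtCoh.push f).obj G)) (q + 1)))
    (hi : Function.Injective (tr f (𝟙 ((EtCoh.push f).obj G)) (q + 2)))
    (φ : EtCoh.const Y ℤ ⟶ (EtCoh.Rpush f (q + 1)).obj G) : φ = 0 :=
  H9FE.TrLeray.next (EtCoh.pull f) (EtCore.pullConst f ℤ) (EtCoh.pullPushAdj f) q G hv hs hi φ

end H9FE.EtTrLeray
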