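import Mathlib
import Groth.Prelude.Def_EtBase
import Groth.Prelude.Def_EtCore
import Groth.Agent.Lib.Helper9.FE.BCPaste

/-! helper9: compatibility of the units of `f⁻¹ ⊣ f_*` with base change: for a commutative square
`j' ≫ f = f' ≫ w`, the unit of `f'` at `w⁻¹F` is `w⁻¹` of the unit of `f` at `F` followed by the
base change map and the canonical isomorphism `j'⁻¹ f⁻¹ F ≅ f'⁻¹ w⁻¹ F`. -/

set_option autoImplicit false
set_option linter.unusedSectionVars false
set_option linter.style.haveILetI false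
set_option backward.isDefEq.respectTransparency false
universe u
open CategoryTheory CategoryTheory.Limits AlgebraicGeometry Opposite

namespace H9FE.EtUnitBC
open H9FE.LimTower H9FE.LimPull H9FE.BCPaste

variable {X Y W X' : Scheme.{u}} (f : X ⟶ Y) (w : W ⟶ Y) (f' : X' ⟶ W) (j' : X' ⟶ X)
  (hw : j' ≫ f = f' ≫ w) (F : EtCoh.Ab Y)

/-- the canonical isomorphism `f'⁻¹ w⁻¹ F ≅ j'⁻¹ f⁻¹ F` -/
noncomputable def alpha :
    (EtCoh.pull f').obj ((EtCoh.pull w).obj F) ≅ (EtCoh.pull j').obj ((EtCoh.pull f).obj F) :=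
  kap f' w (f' ≫ w) rfl F ≪≫ (kap j' f (f' ≫ w) hw F).symm

lemma A1 :
    (EtCoh.pullPushAdj f).unit.app F ≫
      (EtCoh.push f).map ((EtCoh.pullPushAdj j').unit.app ((EtCoh.pull f).obj F)) ≫
      (pc j' f (f' ≫ w) hw).hom.app ((EtCoh.pull j').obj ((EtCoh.pull f).obj F)) =
    (EtCoh.pullPushAdj (f' ≫ w)).unit.app F ≫
      (EtCoh.push (f' ≫ w)).map (kap j' f (f' ≫ w) hw F).inv := by
  have h0 := unit_psi_hom j' f (f' ≫ w) hw F
  rw [psi_def] at h0
  have n1 : (EtCoh.push f).map ((EtCoh.push j').map (kap j' f (f' ≫ w) hw F).hom) ≫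
      (pc j' f (f' ≫ w) hw).hom.app ((EtCoh.pull (f' ≫ w)).obj F) =
      (pc j' f (f' ≫ w) hw).hom.app ((EtCoh.pull j').obj ((EtCoh.pull f).obj F)) ≫
        (EtCoh.push (f' ≫ w)).map (kap j' f (f' ≫ w) hw F).hom :=
    (pc j' f (f' ≫ w) hw).hom.naturality (kap j' f (f' ≫ w) hw F).hom
  rw [Functor.map_comp, Category.assoc, n1] at h0
  have h1 : ((EtCoh.pullPushAdj f).unit.app F ≫
      (EtCoh.push f).map ((EtCoh.pullPushAdj j').unit.app ((EtCoh.pull f).obj F)) ≫
      (pc j' f (f' ≫ w) hw).hom.app ((EtCoh.pull j').obj ((EtCoh.pull f).obj F))) ≫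
        (EtCoh.push (f' ≫ w)).map (kap j' f (f' ≫ w) hw F).hom =
      (EtCoh.pullPushAdj (f' ≫ w)).unit.app F := by
    simp only [Category.assoc]
    exact h0
  rw [← h1]
  simp only [Category.assoc, ← Functor.map_comp, Iso.hom_inv_id, CategoryTheory.Functor.map_id,
    Category.comp_id]

lemma A2 :
    (EtCoh.pullPushAdj w).unit.app F ≫
      (EtCoh.push w).map ((EtCoh.pullPushAdj f').unit.app ((EtCoh.pull w).obj F)) =
    (EtCoh.pullPushAdj (f' ≫ w)).unit.app F ≫
      (pc f' w (f' ≫ w) rfl).inv.app ((EtCoh.pull (f' ≫ w)).obj F) ≫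
      (EtCoh.push w).map ((EtCoh.push f').map (kap f' w (f' ≫ w) rfl F).inv) := by
  have h0 := unit_psi f' w (f' ≫ w) rfl F
  rw [psi_def, Functor.map_comp] at h0
  have h1 : (EtCoh.pullPushAdj w).unit.app F ≫
      (EtCoh.push w).map ((EtCoh.pullPushAdj f').unit.app ((EtCoh.pull w).obj F)) =
      ((EtCoh.pullPushAdj w).unit.app F ≫
        (EtCoh.push w).map ((EtCoh.pullPushAdj f').unit.app ((EtCoh.pull w).obj F)) ≫
        (EtCoh.push w).map ((EtCoh.push f').map (kap f' w (f' ≫ w) rfl F).hom)) ≫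
      (EtCoh.push w).map ((EtCoh.push f').map (kap f' w (f' ≫ w) rfl F).inv) := by
    have e : (EtCoh.push w).map ((EtCoh.push f').map (kap f' w (f' ≫ w) rfl F).hom) ≫
        (EtCoh.push w).map ((EtCoh.push f').map (kap f' w (f' ≫ w) rfl F).inv) = 𝟙 _ := by
      rw [← Functor.map_comp, ← Functor.map_comp, Iso.hom_inv_id,
        CategoryTheory.Functor.map_id, CategoryTheory.Functor.map_id]
    rw [Category.assoc, Category.assoc, e]
    exact (congrArg (fun t => (EtCoh.pullPushAdj w).unit.app F ≫ t) (Category.comp_id _)).symm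
  rw [h1, h0]
  simp only [Category.assoc]

/-- the unit of `f'` at `w⁻¹F` through the unit of `f` at `F` and base change -/
theorem unit_bc_unit :
    (EtCoh.pull w).map ((EtCoh.pullPushAdj f).unit.app F) ≫
      EtCoh.baseChange0 f w f' j' hw ((EtCoh.pull f).obj F) ≫
      (EtCoh.push f').map (alpha f w f' j' hw F).inv =
    (EtCoh.pullPushAdj f').unit.app ((EtCoh.pull w).obj F) := by
  apply ((EtCoh.pullPushAdj w).homEquiv _ _).injective
  rw [Adjunction.homEquiv_unit, Adjunction.homEquiv_unit]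
  refine Eq.trans ?_ (A2 w f' F).symm
  rw [Functor.map_comp, Functor.map_comp]
  have n0 : (EtCoh.pullPushAdj w).unit.app F ≫
      (EtCoh.push w).map ((EtCoh.pull w).map ((EtCoh.pullPushAdj f).unit.app F)) =
      (EtCoh.pullPushAdj f).unit.app F ≫
        (EtCoh.pullPushAdj w).unit.app ((EtCoh.push f).obj ((EtCoh.pull f).obj F)) :=
    ((EtCoh.pullPushAdj w).unit.naturality ((EtCoh.pullPushAdj f).unit.app F)).symm
  have ub := unit_bc f w f' j' ((EtCoh.pull f).obj F) hw
  unfold gam at ub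
  have n2 : (EtCoh.push (f' ≫ w)).map (kap j' f (f' ≫ w) hw F).inv ≫
      (pc f' w (f' ≫ w) rfl).inv.app ((EtCoh.pull j').obj ((EtCoh.pull f).obj F)) =
      (pc f' w (f' ≫ w) rfl).inv.app ((EtCoh.pull (f' ≫ w)).obj F) ≫
        (EtCoh.push w).map ((EtCoh.push f').map (kap j' f (f' ≫ w) hw F).inv) :=
    (pc f' w (f' ≫ w) rfl).inv.naturality (kap j' f (f' ≫ w) hw F).inv
  have a1 := A1 f w f' j' hw F
  calc (EtCoh.pullPushAdj w).unit.app F ≫
        (EtCoh.push w).map ((EtCoh.pull w).map ((EtCoh.pullPushAdj f).unit.app F)) ≫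
        (EtCoh.push w).map (EtCoh.baseChange0 f w f' j' hw ((EtCoh.pull f).obj F)) ≫
        (EtCoh.push w).map ((EtCoh.push f').map (alpha f w f' j' hw F).inv)
      = ((EtCoh.pullPushAdj w).unit.app F ≫
        (EtCoh.push w).map ((EtCoh.pull w).map ((EtCoh.pullPushAdj f).unit.app F))) ≫
        (EtCoh.push w).map (EtCoh.baseChange0 f w f' j' hw ((EtCoh.pull f).obj F)) ≫
        (EtCoh.push w).map ((EtCoh.push f').map (alpha f w f' j' hw F).inv) := by
          simp only [Category.assoc]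
    _ = (EtCoh.pullPushAdj f).unit.app F ≫
        ((EtCoh.pullPushAdj w).unit.app ((EtCoh.push f).obj ((EtCoh.pull f).obj F)) ≫
        (EtCoh.push w).map (EtCoh.baseChange0 f w f' j' hw ((EtCoh.pull f).obj F))) ≫
        (EtCoh.push w).map ((EtCoh.push f').map (alpha f w f' j' hw F).inv) := by
          rw [n0]
          simp only [Category.assoc]
    _ = ((EtCoh.pullPushAdj f).unit.app F ≫
        (EtCoh.push f).map ((EtCoh.pullPushAdj j').unit.app ((EtCoh.pull f).obj F)) ≫
        (pc j' f (f' ≫ w) hw).hom.app ((EtCoh.pull j').obj ((EtCoh.pull f).obj F))) ≫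
        (pc f' w (f' ≫ w) rfl).inv.app ((EtCoh.pull j').obj ((EtCoh.pull f).obj F)) ≫
        (EtCoh.push w).map ((EtCoh.push f').map (alpha f w f' j' hw F).inv) := by
          rw [ub]
          simp only [Category.assoc]
    _ = (EtCoh.pullPushAdj (f' ≫ w)).unit.app F ≫
        ((EtCoh.push (f' ≫ w)).map (kap j' f (f' ≫ w) hw F).inv ≫
        (pc f' w (f' ≫ w) rfl).inv.app ((EtCoh.pull j').obj ((EtCoh.pull f).obj F))) ≫
        (EtCoh.push w).map ((EtCoh.push f').map (alpha f w f' j' hw F).inv) := by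
          rw [a1]
          simp only [Category.assoc]
    _ = (EtCoh.pullPushAdj (f' ≫ w)).unit.app F ≫
        (pc f' w (f' ≫ w) rfl).inv.app ((EtCoh.pull (f' ≫ w)).obj F) ≫
        (EtCoh.push w).map ((EtCoh.push f').map (kap f' w (f' ≫ w) rfl F).inv) := by
          rw [n2]
          simp only [Category.assoc]
          congr 2
          rw [← Functor.map_comp, ← Functor.map_comp]
          congr 2
          unfold alpha
          rw [Iso.trans_inv, Iso.symm_inv, Iso.inv_hom_id_assoc]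

end H9FE.EtUnitBC
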