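import Mathlib
import Groth.Prelude.Def_EtBase
import Groth.Prelude.Def_EtCore
import Groth.Agent.S0623
import Groth.Agent.Lib.Helper5.Misc.RDComp
import Groth.Agent.Lib.Helper9.FE.EtTrLeray
import Groth.Agent.Lib.Helper9.FE.EtBC0Et
import Groth.Agent.Lib.Helper9.FE.EtUnitBC
import Groth.Agent.Lib.Helper9.FE.EtSecW

/-! helper9: the local-to-global direction of the acyclicity criterion: if for every étale `W → Y`
the pull-back maps `H^q(W, F|W) → H^q(X_W, f_W⁻¹ F|W)` are bijective for `q ≤ n` and injective for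
`q = n+1`, then `F → f_* f⁻¹F` is an isomorphism and `R^q f_* f⁻¹F = 0` for `1 ≤ q ≤ n`. -/

set_option autoImplicit false
set_option linter.unusedSectionVars false
set_option linter.style.haveILetI false
set_option backward.isDefEq.respectTransparency false
universe u
open CategoryTheory CategoryTheory.Limits AlgebraicGeometry Opposite

namespace H9FE.EtLG
open EtShriek Groth.Agent.Lib.Helper5 H9FE.EtTrLeray H9FE.EtTr

attribute [local instance] Groth.Agent.Lib.Helper5.Misc.JContGen.jCont
attribute [local instance] Groth.Agent.S0623.lexPull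

section Square

variable {X Y W X' : Scheme.{u}} (f : X ⟶ Y) (w : W ⟶ Y) [Etale w] (f' : X' ⟶ W) (j' : X' ⟶ X)
  [Etale j'] (h : IsPullback j' f' f w)

/-- `f_*` then `w⁻¹` is `j'⁻¹` then `f'_*` -/
noncomputable def pushPullIso : EtCoh.push f ⋙ EtCoh.pull w ≅ EtCoh.pull j' ⋙ EtCoh.push f' :=
  Functor.isoWhiskerLeft (EtCoh.push f) (Groth.Agent.S0623.pullIso w) ≪≫
    (EtShriekBC.rightIso w f j' f' h).symm ≪≫
    Functor.isoWhiskerRight (Groth.Agent.S0623.pullIso j').symm (EtCoh.push f')

include h in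
/-- higher direct images commute with étale localisation -/
theorem Rpush_pull_iso (G : EtCoh.Ab X) (q : ℕ) :
    Nonempty ((EtCoh.pull w).obj ((EtCoh.Rpush f q).obj G) ≅
      (EtCoh.Rpush f' q).obj ((EtCoh.pull j').obj G)) := by
  haveI : (EtCoh.pull j').PreservesInjectiveObjects :=
    ⟨fun {I} hI => by haveI := hI; exact Groth.Agent.S0623.injective_pull j' I⟩
  haveI : (EtCoh.pull w).PreservesHomology := inferInstance
  haveI : (EtCoh.pull j').PreservesHomology := inferInstance
  exact ⟨(Misc.RDComp.postIso (EtCoh.push f) (EtCoh.pull w) G q).symm ≪≫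
    (Misc.RDComp.natIso (pushPullIso f w f' j' h) q).app G ≪≫
    Misc.RDComp.preIso (EtCoh.pull j') (EtCoh.push f') G q⟩

end Square

section LG

open H9FE.EtSecW H9FE.EtUnitBC

variable {X Y : Scheme.{u}} (f : X ⟶ Y) (F : EtCoh.Ab Y)

/-- the cartesian square over an étale `W → Y` -/
lemma sq (W : Y.Etale) : IsPullback (pullback.snd W.hom f) (pullback.fst W.hom f) f W.hom :=
  (IsPullback.of_hasPullback W.hom f).flip

instance etale_snd (W : Y.Etale) : Etale (pullback.snd W.hom f) := inferInstance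

/-- base change followed by the canonical isomorphism -/
noncomputable def cmp (W : Y.Etale) :
    (EtCoh.pull W.hom).obj ((EtCoh.push f).obj ((EtCoh.pull f).obj F)) ⟶
      (EtCoh.push (pullback.fst W.hom f)).obj
        ((EtCoh.pull (pullback.fst W.hom f)).obj ((EtCoh.pull W.hom).obj F)) :=
  EtCoh.baseChange0 f W.hom (pullback.fst W.hom f) (pullback.snd W.hom f) (sq f W).w
      ((EtCoh.pull f).obj F) ≫
    (EtCoh.push (pullback.fst W.hom f)).map
      (alpha f W.hom (pullback.fst W.hom f) (pullback.snd W.hom f) (sq f W).w F).inv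

instance isIso_cmp (W : Y.Etale) : IsIso (cmp f F W) := by
  haveI := H9FE.EtBC0Et.isIso_baseChange0 f W.hom _ _ (sq f W) ((EtCoh.pull f).obj F)
  unfold cmp
  infer_instance

lemma unit_cmp (W : Y.Etale) :
    (EtCoh.pull W.hom).map ((EtCoh.pullPushAdj f).unit.app F) ≫ cmp f F W =
      (EtCoh.pullPushAdj (pullback.fst W.hom f)).unit.app ((EtCoh.pull W.hom).obj F) :=
  unit_bc_unit f W.hom _ _ (sq f W).w F

theorem mono_unit_of_local
    (h0 : ∀ W : Y.Etale, Function.Injective
      (EtCore.Hpull (pullback.fst W.hom f) ((EtCoh.pull W.hom).obj F) 0)) :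
    Mono ((EtCoh.pullPushAdj f).unit.app F) := by
  apply mono_of_sec
  intro W ψ₁ ψ₂ e
  apply unit_inj_of_Hpull0 (pullback.fst W.hom f) _ (h0 W)
  rw [← unit_cmp f F W, ← Category.assoc, ← Category.assoc, e]

theorem isIso_unit_of_local
    (h0 : ∀ W : Y.Etale, Function.Bijective
      (EtCore.Hpull (pullback.fst W.hom f) ((EtCoh.pull W.hom).obj F) 0)) :
    IsIso ((EtCoh.pullPushAdj f).unit.app F) := by
  apply isIso_of_sec
  · intro W ψ₁ ψ₂ e
    apply unit_inj_of_Hpull0 (pullback.fst W.hom f) _ (h0 W).1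
    rw [← unit_cmp f F W, ← Category.assoc, ← Category.assoc, e]
  · intro W χ
    obtain ⟨ψ, hψ⟩ := unit_surj_of_Hpull0 (pullback.fst W.hom f) _ (h0 W).2 (χ ≫ cmp f F W)
    refine ⟨ψ, ?_⟩
    rw [← unit_cmp f F W, ← Category.assoc] at hψ
    exact (cancel_mono (cmp f F W)).1 hψ

lemma isIso_unit_W [IsIso ((EtCoh.pullPushAdj f).unit.app F)] (W : Y.Etale) :
    IsIso ((EtCoh.pullPushAdj (pullback.fst W.hom f)).unit.app ((EtCoh.pull W.hom).obj F)) := by
  rw [← unit_cmp f F W]
  infer_instance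

lemma mono_unit_W [Mono ((EtCoh.pullPushAdj f).unit.app F)] (W : Y.Etale) :
    Mono ((EtCoh.pullPushAdj (pullback.fst W.hom f)).unit.app ((EtCoh.pull W.hom).obj F)) := by
  rw [← unit_cmp f F W]
  haveI : Mono ((EtCoh.pull W.hom).map ((EtCoh.pullPushAdj f).unit.app F)) := inferInstance
  exact mono_comp _ _

lemma isZero_Rpush_W (q : ℕ)
    (hz : IsZero ((EtCoh.Rpush f q).obj ((EtCoh.pull f).obj F))) (W : Y.Etale) :
    IsZero ((EtCoh.Rpush (pullback.fst W.hom f) q).obj
      ((EtCoh.pull (pullback.fst W.hom f)).obj ((EtCoh.pull W.hom).obj F))) := by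
  obtain ⟨θ⟩ := Rpush_pull_iso f W.hom (pullback.fst W.hom f) (pullback.snd W.hom f) (sq f W)
    ((EtCoh.pull f).obj F) q
  have h1 : IsZero ((EtCoh.pull W.hom).obj ((EtCoh.Rpush f q).obj ((EtCoh.pull f).obj F))) :=
    (EtCoh.pull W.hom).map_isZero hz
  have h2 := IsZero.of_iso h1 θ.symm
  exact IsZero.of_iso h2 ((EtCoh.Rpush (pullback.fst W.hom f) q).mapIso
    (alpha f W.hom (pullback.fst W.hom f) (pullback.snd W.hom f) (sq f W).w F))

/-- local-to-global: form (ii) for all étale localisations implies form (i) -/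
theorem PA_of_local (n : ℕ)
    (hyp : ∀ W : Y.Etale, PB (pullback.fst W.hom f) ((EtCoh.pull W.hom).obj F) n) :
    PA f F n := by
  have hu : IsIso ((EtCoh.pullPushAdj f).unit.app F) :=
    isIso_unit_of_local f F (fun W => (hyp W).1 0 (Nat.zero_le _))
  refine ⟨hu, ?_⟩
  intro q
  induction q using Nat.strong_induction_on with
  | _ q ih =>
    intro hq1 hqn
    obtain ⟨q', rfl⟩ : ∃ q', q = q' + 1 := ⟨q - 1, by omega⟩
    apply isZero_of_sec
    intro W ψ
    obtain ⟨θ⟩ := Rpush_pull_iso f W.hom (pullback.fst W.hom f) (pullback.snd W.hom f) (sq f W)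
      ((EtCoh.pull f).obj F) (q' + 1)
    let θ' := θ ≪≫ ((EtCoh.Rpush (pullback.fst W.hom f) (q' + 1)).mapIso
      (alpha f W.hom (pullback.fst W.hom f) (pullback.snd W.hom f) (sq f W).w F).symm)
    haveI hW := isIso_unit_W f F W
    have htr := tr_of_PB (pullback.fst W.hom f) ((EtCoh.pull W.hom).obj F) n (hyp W)
    have hi : Function.Injective (tr (pullback.fst W.hom f)
        (𝟙 ((EtCoh.push (pullback.fst W.hom f)).obj
          ((EtCoh.pull (pullback.fst W.hom f)).obj ((EtCoh.pull W.hom).obj F)))) (q' + 2)) := by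
      rcases Nat.lt_or_ge n (q' + 2) with h | h
      · have e : q' + 2 = n + 1 := by omega
        rw [e]
        exact htr.2
      · exact (htr.1 _ h).1
    have key := next_et (pullback.fst W.hom f) q'
      ((EtCoh.pull (pullback.fst W.hom f)).obj ((EtCoh.pull W.hom).obj F))
      (fun i hi1 hiq => isZero_Rpush_W f F i (ih i (by omega) hi1 (by omega)) W)
      (htr.1 (q' + 1) hqn).2 hi (ψ ≫ θ'.hom)
    exact (cancel_mono θ'.hom).1 (key.trans zero_comp.symm)

end LG

end H9FE.EtLG
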