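import Mathlib
import Groth.Prelude.Def_EtBase
import Groth.Prelude.Def_PBC
import Groth.Agent.S0623
import Groth.Agent.Lib.Helper9.FE.CsColim
import Groth.Agent.Lib.Helper9.FE.CsPb
import Groth.Agent.Lib.Helper5.Misc.EtStalkPull

/-! helper9: for a surjective morphism `f : X ⟶ Y` of quasi-compact quasi-separated schemes an
abelian étale sheaf `F` on `Y` is constructible as soon as `f⁻¹ F` is: `F` is torsion, hence a
filtered colimit of constructible sheaves; by compactness of `f⁻¹ F` a stage surjects onto `F`, and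
the same argument applied to the kernel presents `F` as a cokernel of constructible sheaves. -/

set_option autoImplicit false
set_option linter.unusedSectionVars false
set_option linter.style.haveILetI false
set_option backward.isDefEq.respectTransparency false
universe u
open CategoryTheory CategoryTheory.Limits AlgebraicGeometry Opposite ZeroObject

namespace H9FE.CsSurjPull
open H9FE.CsStrata H9FE.CsSub H9FE.CsGen H9FE.CsCompact H9FE.CsColim Groth.Agent.Lib.Helper5

attribute [local instance] EtStalk.ab5' EtStalk.pfc Groth.Agent.S0623.lexPull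

variable {X Y : Scheme.{u}} (f : X ⟶ Y)

section Refl

variable [Surjective f]

/-- the geometric points of `Y` coming from points of `X` -/
noncomputable def Pt (x : X) : EtStalk.GeomPt Y where
  Ω := (EtStalk.geomPtAt x).Ω
  ξ := (EtStalk.geomPtAt x).ξ ≫ f

theorem Pt_cov (y : Y) :
    ∃ x : X, (Pt f x).ξ (default : Spec (CommRingCat.of (Pt f x).Ω)) = y := by
  obtain ⟨x, rfl⟩ := f.surjective y
  refine ⟨x, ?_⟩
  show f ((EtStalk.geomPtAt x).ξ default) = f x
  rw [EtStalk.geomPtAt_default]

/-- inverse image along a surjective morphism reflects zero objects -/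
theorem isZero_of_isZero_pull (G : EtCoh.Ab Y) (h : IsZero ((EtCoh.pull f).obj G)) :
    IsZero G := by
  apply EtStalk.isZero_of_stalks_family (Pt f) (Pt_cov f) G
  intro x
  haveI : (EtCoh.stalk (EtStalk.geomPtAt x).ξ).PreservesZeroMorphisms := inferInstance
  have hz : IsZero ((EtCoh.stalk (EtStalk.geomPtAt x).ξ).obj ((EtCoh.pull f).obj G)) :=
    (EtCoh.stalk (EtStalk.geomPtAt x).ξ).map_isZero h
  exact IsZero.of_iso hz ((EtStalkPull.stalkPullIso f (EtStalk.geomPtAt x).ξ).app G).symm

/-- inverse image along a surjective morphism reflects epimorphisms -/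
theorem epi_of_epi_pull {A B : EtCoh.Ab Y} (φ : A ⟶ B) [Epi ((EtCoh.pull f).map φ)] : Epi φ := by
  haveI : PreservesColimitsOfSize.{u + 1, u + 1} (EtCoh.pull f) :=
    (EtCoh.pullPushAdj f).leftAdjoint_preservesColimits
  haveI : (EtCoh.pull f).Additive := (EtCoh.pullPushAdj f).left_adjoint_additive
  have hz : IsZero ((EtCoh.pull f).obj (cokernel φ)) :=
    IsZero.of_iso (isZero_cokernel_of_epi ((EtCoh.pull f).map φ))
      (PreservesCokernel.iso (EtCoh.pull f) φ)
  exact Preadditive.epi_of_isZero_cokernel φ (isZero_of_isZero_pull f _ hz)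

end Refl

theorem nsmul_id_of_killedBy {Z : Scheme.{u}} (N : ℕ) (G : EtCoh.Ab Z)
    (h : EtCoh.KilledBy N G) : N • 𝟙 G = 0 := by
  ext U s
  exact h U.unop s

theorem torsion_of_killedBy {Z : Scheme.{u}} (N : ℕ) (hN : 0 < N) (G : EtCoh.Ab Z)
    (h : EtCoh.KilledBy N G) : EtCoh.IsTorsion G := by
  intro U s x
  refine ⟨U, 𝟙 U, ⟨x, rfl⟩, ?_⟩
  rw [isOfFinAddOrder_iff_nsmul_eq_zero]
  exact ⟨N, hN, h U _⟩

section Main

variable [CompactSpace X] [QuasiSeparatedSpace X] [CompactSpace Y] [QuasiSeparatedSpace Y]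
  [Surjective f]

/-- a torsion sheaf whose inverse image is constructible is a quotient of a constructible sheaf -/
theorem exists_epi_of_pull_constructible (G : EtCoh.Ab Y) (hG : EtCoh.IsTorsion G)
    (hpull : EtPBC.IsConstructible ((EtCoh.pull f).obj G)) :
    ∃ (C : EtCoh.Ab Y) (a : C ⟶ G), EtPBC.IsConstructible C ∧ Epi a := by
  obtain ⟨hc⟩ := isColimit_cocone hG
  haveI : PreservesColimitsOfSize.{u + 1, u + 1} (EtCoh.pull f) :=
    (EtCoh.pullPushAdj f).leftAdjoint_preservesColimits
  have hc' : IsColimit ((EtCoh.pull f).mapCocone (cocone G)) :=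
    isColimitOfPreserves (EtCoh.pull f) hc
  obtain ⟨hs, -⟩ := hs_hi_of_constructible hc' _ hpull
  obtain ⟨j, γ, hγ⟩ := hs (𝟙 _)
  refine ⟨j.P.obj, j.a, j.P.constructible, ?_⟩
  haveI : Epi ((EtCoh.pull f).map j.a) := by
    have h1 : γ ≫ (EtCoh.pull f).map j.a = 𝟙 _ := hγ
    exact epi_of_epi_fac h1
  exact epi_of_epi_pull f j.a

/-- constructibility descends along surjective morphisms of qcqs schemes -/
theorem constructible_of_pull (F : EtCoh.Ab Y)
    (hpull : EtPBC.IsConstructible ((EtCoh.pull f).obj F)) : EtPBC.IsConstructible F := by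
  haveI : (EtCoh.pull f).Additive := (EtCoh.pullPushAdj f).left_adjoint_additive
  haveI : PreservesColimitsOfSize.{u + 1, u + 1} (EtCoh.pull f) :=
    (EtCoh.pullPushAdj f).leftAdjoint_preservesColimits
  obtain ⟨N, hN, hk⟩ := CsKill.exists_killing X _ hpull
  have hFN : EtCoh.KilledBy N F := by
    apply killedBy_of_nsmul_id
    obtain ⟨μ, hμdef⟩ : ∃ μ : F ⟶ F, μ = N • 𝟙 F := ⟨_, rfl⟩
    rw [← hμdef]
    have hμ : (EtCoh.pull f).map μ = 0 := by
      rw [hμdef, Functor.map_nsmul, CategoryTheory.Functor.map_id]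
      exact nsmul_id_of_killedBy N _ hk
    have hfac : Abelian.factorThruImage μ ≫ Abelian.image.ι μ = μ := Abelian.image.fac μ
    have h1 : (EtCoh.pull f).map (Abelian.factorThruImage μ) = 0 := by
      apply (cancel_mono ((EtCoh.pull f).map (Abelian.image.ι μ))).1
      rw [← Functor.map_comp, hfac, hμ, zero_comp]
    have hz : IsZero ((EtCoh.pull f).obj (Abelian.image μ)) :=
      IsZero.of_epi_eq_zero _ h1
    have hz' := isZero_of_isZero_pull f _ hz
    rw [← hfac, hz'.eq_of_tgt (Abelian.factorThruImage μ) 0, zero_comp]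
  have hF : EtCoh.IsTorsion F := torsion_of_killedBy N hN F hFN
  obtain ⟨C, a, hC, ha⟩ := exists_epi_of_pull_constructible f F hF hpull
  haveI := ha
  have hKpull : EtPBC.IsConstructible ((EtCoh.pull f).obj (kernel a)) :=
    constructible_of_iso (PreservesKernel.iso (EtCoh.pull f) a).symm
      (constructible_kernel_cokernel ((EtCoh.pull f).map a)
        (pullback_constructible f C hC) hpull).1
  obtain ⟨N', hN', hk'⟩ := CsKill.exists_killing Y C hC
  have hKN : EtCoh.KilledBy N' (kernel a) := by
    intro U s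
    have hinj := (EtStalk.mono_iff_ab (kernel.ι a)).1 inferInstance U
    apply hinj
    rw [map_nsmul, hk' U _, map_zero]
  have hK : EtCoh.IsTorsion (kernel a) := torsion_of_killedBy N' hN' _ hKN
  obtain ⟨D, b, hD, hb⟩ := exists_epi_of_pull_constructible f (kernel a) hK hKpull
  haveI := hb
  have e1 : cokernel (b ≫ kernel.ι a) ≅ cokernel (kernel.ι a) := cokernelEpiComp b (kernel.ι a)
  have e2 : cokernel (kernel.ι a) ≅ F :=
    IsColimit.coconePointUniqueUpToIso (cokernelIsCokernel (kernel.ι a))
      (Abelian.epiIsCokernelOfKernel (limit.cone (parallelPair a 0)) (limit.isLimit _))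
  exact constructible_of_iso (e1 ≪≫ e2)
    (constructible_kernel_cokernel (b ≫ kernel.ι a) hD hC).2

end Main

/-- constructibility can be tested after inverse image along a surjective morphism of qcqs
schemes -/
theorem main {X Y : Scheme.{u}} [CompactSpace X] [QuasiSeparatedSpace X]
    [CompactSpace Y] [QuasiSeparatedSpace Y] (f : X ⟶ Y) [Surjective f]
    (F : EtCoh.Ab Y) :
    EtPBC.IsConstructible F ↔ EtPBC.IsConstructible ((EtCoh.pull f).obj F) :=
  ⟨pullback_constructible f F, constructible_of_pull f F⟩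

end H9FE.CsSurjPull
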