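import Mathlib
import Groth.Prelude.Def_EtBase
import Groth.Prelude.Def_EtCore
import Groth.Prelude.Def_EtDual
import Groth.Agent.S14454
import Groth.Agent.Lib.Helper9.FE.CsSurjPull
import Groth.Agent.Lib.Helper5.Misc.EtStalkPull
import Groth.Agent.Lib.Helper5.Misc.RDComp

/-! helper9: the local cohomology sheaves `H^p_Y(F)` (right derived functors of
`F ↦ ker (F ⟶ j_* j⁻¹ F)`) commute with étale localisation: for `g : V ⟶ X` étale and
`j' : U' ⟶ V` an open immersion with image `g⁻¹(U)`,
`H^p_{Y'}(g⁻¹ F) ≅ g⁻¹ H^p_Y(F)`.  Also: vanishing of a sheaf is étale local. -/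

set_option autoImplicit false
set_option linter.unusedSectionVars false
set_option linter.style.haveILetI false
set_option backward.isDefEq.respectTransparency false
universe u
open CategoryTheory CategoryTheory.Limits AlgebraicGeometry Opposite

namespace H9FE.LocCohEt
open EtShriek H9FE.FEtTraceSum Groth.Agent.Lib.Helper5

attribute [local instance] Groth.Agent.Lib.Helper5.Misc.JContGen.jCont
attribute [local instance] EtStalk.ab5' EtStalk.pfc Groth.Agent.S0623.lexPull

section Unit

variable {X U : Scheme.{u}} (j : U ⟶ X) [hjo : IsOpenImmersion j]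

/-- the unit of `pull ⊣ push` and the restriction map have the same kernel on sections -/
lemma unit_app_eq_zero_iff (F : EtCoh.Ab X) (Z : X.Etale) (s : F.obj.obj (op Z)) :
    (EtDual.unitApp j F).hom.app (op Z) s = 0 ↔ F.obj.map (proj j Z).op s = 0 := by
  have h1 : EtDual.unitApp j F ≫
      (EtCoh.push j).map ((Groth.Agent.S0623.pullIso j).hom.app F) = res j F :=
    Adjunction.unit_leftAdjointUniq_hom_app (EtCoh.pullPushAdj j)
      (Groth.Agent.S0623.restrPushAdj j) F
  have h3 : (EtCoh.push j).map ((Groth.Agent.S0623.pullIso j).hom.app F) ≫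
      (EtCoh.push j).map ((Groth.Agent.S0623.pullIso j).inv.app F) = 𝟙 _ := by
    rw [← CategoryTheory.Functor.map_comp, Iso.hom_inv_id_app, CategoryTheory.Functor.map_id]
  have key : F.obj.map (proj j Z).op s =
      ((EtCoh.push j).map ((Groth.Agent.S0623.pullIso j).hom.app F)).hom.app (op Z)
        ((EtDual.unitApp j F).hom.app (op Z) s) := by
    rw [← res_app j F Z s, ← h1]
    rfl
  rw [key]
  constructor
  · intro h
    rw [h, map_zero]
  · intro h4
    have h5 := congrArg (fun η => η.hom.app (op Z) ((EtDual.unitApp j F).hom.app (op Z) s)) h3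
    have h6 : ((EtCoh.push j).map ((Groth.Agent.S0623.pullIso j).inv.app F)).hom.app (op Z)
        (((EtCoh.push j).map ((Groth.Agent.S0623.pullIso j).hom.app F)).hom.app (op Z)
          ((EtDual.unitApp j F).hom.app (op Z) s)) = (EtDual.unitApp j F).hom.app (op Z) s := h5
    rw [h4, map_zero] at h6
    exact h6.symm

end Unit

section Ker

variable {Y : Scheme.{u}} {A B : EtCoh.Ab Y}

/-- a composite of sheaf morphisms vanishes when it does on sections -/
lemma comp_zero_of_sections {K : EtCoh.Ab Y} (k : K ⟶ A) (f : A ⟶ B)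
    (h : ∀ (W : Y.Etale) (t : K.obj.obj (op W)), f.hom.app (op W) (k.hom.app (op W) t) = 0) :
    k ≫ f = 0 := by
  apply Sheaf.hom_ext
  apply NatTrans.ext
  funext W
  apply AddCommGrpCat.hom_ext
  apply AddMonoidHom.ext
  intro t
  exact h W.unop t

end Ker

section BC

variable {X U V U' : Scheme.{u}} (j : U ⟶ X) [hjo : IsOpenImmersion j]
  (g : V ⟶ X) [hg : Etale g] (j' : U' ⟶ V) [hjo' : IsOpenImmersion j']

/-- the units for `j` and for its base change `j'` have the same kernel on sections -/
lemma unit_restr_iff (hU' : Set.range j' = g ⁻¹' Set.range j) (F : EtCoh.Ab X) (W : V.Etale)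
    (s : F.obj.obj (op ((compEtale g).obj W))) :
    (EtDual.unitApp j F).hom.app (op ((compEtale g).obj W)) s = 0 ↔
      (EtDual.unitApp j' ((restrAlong g).obj F)).hom.app (op W) s = 0 := by
  refine (unit_app_eq_zero_iff j F _ s).trans
    (Iff.trans ?_ (unit_app_eq_zero_iff j' ((restrAlong g).obj F) W s).symm)
  refine (Groth.Agent.S14454.Aux.van_iff j F _ s).trans
    (Iff.trans ?_ (Groth.Agent.S14454.Aux.van_iff j' ((restrAlong g).obj F) W s).symm)
  constructor
  · intro h N' n' hN'
    refine h ((compEtale g).obj N') ((compEtale g).map n') ?_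
    rintro _ ⟨y, rfl⟩
    have hy : N'.hom y ∈ Set.range j' := hN' ⟨y, rfl⟩
    rw [hU'] at hy
    exact hy
  · intro h N n hN
    haveI : Etale W.hom := W.prop
    let N' : V.Etale := EtSiteBasic.ofEtale (n.left ≫ W.hom)
    let n' : N' ⟶ W := MorphismProperty.Over.homMk n.left rfl trivial
    have hw : n.left ≫ (W.hom ≫ g) = N.hom := Over.w n.hom
    let h' : N ⟶ (compEtale g).obj N' := MorphismProperty.Over.homMk (𝟙 N.left) (by
      change 𝟙 _ ≫ ((n.left ≫ W.hom) ≫ g) = N.hom
      rw [← hw, Category.id_comp, Category.assoc]) trivial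
    have hh : h' ≫ (compEtale g).map n' = n := by
      apply MorphismProperty.Over.Hom.ext
      change 𝟙 _ ≫ n.left = n.left
      simp
    have hN' : Set.range N'.hom ⊆ Set.range j' := by
      rintro _ ⟨y, rfl⟩
      have hy : N.hom y ∈ Set.range j := hN ⟨y, rfl⟩
      have e : g ((n.left ≫ W.hom) y) = N.hom y := by
        rw [← hw]
        rfl
      rw [hU', Set.mem_preimage]
      change g ((n.left ≫ W.hom) y) ∈ Set.range j
      rw [e]
      exact hy
    have h0 := h N' n' hN'
    have h0' : F.obj.map ((compEtale g).map n').op s = 0 := h0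
    rw [← hh, op_comp, CategoryTheory.Functor.map_comp, ConcreteCategory.comp_apply, h0', map_zero]

variable (hU' : Set.range j' = g ⁻¹' Set.range j)

instance : PreservesFiniteLimits (restrAlong g) :=
  ⟨fun _ _ _ => (extZeroAdj g).rightAdjoint_preservesLimits.preservesLimitsOfShape⟩

include hU' in
lemma alpha_cond (F : EtCoh.Ab X) :
    (restrAlong g).map (kernel.ι (EtDual.unitApp j F)) ≫
      EtDual.unitApp j' ((restrAlong g).obj F) = 0 := by
  apply comp_zero_of_sections
  intro W t
  refine (unit_restr_iff j g j' hU' F W _).1 ?_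
  exact congrArg (fun η => η.hom.app (op ((compEtale g).obj W)) t)
    (kernel.condition (EtDual.unitApp j F))

include hU' in
lemma beta_cond (F : EtCoh.Ab X) :
    kernel.ι (EtDual.unitApp j' ((restrAlong g).obj F)) ≫
      (restrAlong g).map (EtDual.unitApp j F) = 0 := by
  apply comp_zero_of_sections
  intro W t
  show (EtDual.unitApp j F).hom.app (op ((compEtale g).obj W)) _ = 0
  refine (unit_restr_iff j g j' hU' F W _).2 ?_
  exact congrArg (fun η => η.hom.app (op W) t)
    (kernel.condition (EtDual.unitApp j' ((restrAlong g).obj F)))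

/-- the comparison map `g⁻¹ Γ_Y F ⟶ Γ_{Y'} g⁻¹ F` -/
noncomputable def alpha (F : EtCoh.Ab X) :
    (restrAlong g).obj ((EtDual.secSupp j).obj F) ⟶
      (EtDual.secSupp j').obj ((restrAlong g).obj F) :=
  kernel.lift _ ((restrAlong g).map (kernel.ι (EtDual.unitApp j F))) (alpha_cond j g j' hU' F)

/-- the comparison map `Γ_{Y'} g⁻¹ F ⟶ g⁻¹ Γ_Y F` -/
noncomputable def beta (F : EtCoh.Ab X) :
    (EtDual.secSupp j').obj ((restrAlong g).obj F) ⟶
      (restrAlong g).obj ((EtDual.secSupp j).obj F) :=
  kernel.lift ((restrAlong g).map (EtDual.unitApp j F))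
    (kernel.ι (EtDual.unitApp j' ((restrAlong g).obj F))) (beta_cond j g j' hU' F) ≫
    inv (kernelComparison (EtDual.unitApp j F) (restrAlong g))

lemma alpha_ι (F : EtCoh.Ab X) :
    alpha j g j' hU' F ≫ kernel.ι (EtDual.unitApp j' ((restrAlong g).obj F)) =
      (restrAlong g).map (kernel.ι (EtDual.unitApp j F)) :=
  kernel.lift_ι _ _ _

lemma beta_ι (F : EtCoh.Ab X) :
    beta j g j' hU' F ≫ (restrAlong g).map (kernel.ι (EtDual.unitApp j F)) =
      kernel.ι (EtDual.unitApp j' ((restrAlong g).obj F)) := by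
  have h : inv (kernelComparison (EtDual.unitApp j F) (restrAlong g)) ≫
      (restrAlong g).map (kernel.ι (EtDual.unitApp j F)) =
      kernel.ι ((restrAlong g).map (EtDual.unitApp j F)) := by
    rw [IsIso.inv_comp_eq, kernelComparison_comp_ι]
  unfold beta
  rw [Category.assoc, h, kernel.lift_ι]

lemma secSupp_map_ι {Y T : Scheme.{u}} (i : T ⟶ Y) {F F' : EtCoh.Ab Y} (φ : F ⟶ F') :
    (EtDual.secSupp i).map φ ≫ kernel.ι (EtDual.unitApp i F') =
      kernel.ι (EtDual.unitApp i F) ≫ φ := by
  simp

/-- `Γ_Y` commutes with restriction along an étale morphism -/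
noncomputable def secSuppRestrIso :
    EtDual.secSupp j ⋙ restrAlong g ≅ restrAlong g ⋙ EtDual.secSupp j' :=
  NatIso.ofComponents
    (fun F =>
      { hom := alpha j g j' hU' F
        inv := beta j g j' hU' F
        hom_inv_id := by
          apply (cancel_mono ((restrAlong g).map (kernel.ι (EtDual.unitApp j F)))).1
          rw [Category.assoc, beta_ι, alpha_ι, Category.id_comp]
        inv_hom_id := by
          apply (cancel_mono (kernel.ι (EtDual.unitApp j' ((restrAlong g).obj F)))).1
          rw [Category.assoc, alpha_ι, beta_ι, Category.id_comp] })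
    (by
      intro F F' φ
      apply (cancel_mono (kernel.ι (EtDual.unitApp j' ((restrAlong g).obj F')))).1
      show ((restrAlong g).map ((EtDual.secSupp j).map φ) ≫ alpha j g j' hU' F') ≫ _ =
        (alpha j g j' hU' F ≫ (EtDual.secSupp j').map ((restrAlong g).map φ)) ≫ _
      rw [Category.assoc, alpha_ι, Category.assoc, secSupp_map_ι, ← Category.assoc, alpha_ι,
        ← CategoryTheory.Functor.map_comp, ← CategoryTheory.Functor.map_comp, secSupp_map_ι])

/-- `Γ_Y` commutes with inverse image along an étale morphism -/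
noncomputable def secSuppPullIso :
    EtDual.secSupp j ⋙ EtCoh.pull g ≅ EtCoh.pull g ⋙ EtDual.secSupp j' :=
  Functor.isoWhiskerLeft (EtDual.secSupp j) (Groth.Agent.S0623.pullIso g) ≪≫
    secSuppRestrIso j g j' hU' ≪≫
    Functor.isoWhiskerRight (Groth.Agent.S0623.pullIso g).symm (EtDual.secSupp j')

include hU' in
/-- local cohomology sheaves commute with étale localisation -/
theorem locCoh_pull_iso (F : EtCoh.Ab X) (p : ℕ) :
    Nonempty ((EtDual.locCoh j' p).obj ((EtCoh.pull g).obj F) ≅
      (EtCoh.pull g).obj ((EtDual.locCoh j p).obj F)) := by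
  haveI : (EtCoh.pull g).PreservesInjectiveObjects :=
    ⟨fun {I} hI => by haveI := hI; exact Groth.Agent.S0623.injective_pull g I⟩
  haveI : (EtCoh.pull g).Additive := (EtCoh.pullPushAdj g).left_adjoint_additive
  haveI : PreservesFiniteLimits (EtCoh.pull g) := Groth.Agent.S0623.lexPull g
  haveI : PreservesFiniteColimits (EtCoh.pull g) :=
    ⟨fun _ _ _ => (EtCoh.pullPushAdj g).leftAdjoint_preservesColimits.preservesColimitsOfShape⟩
  haveI : (EtCoh.pull g).PreservesHomology := inferInstance
  unfold EtDual.locCoh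
  exact ⟨(Misc.RDComp.preIso (EtCoh.pull g) (EtDual.secSupp j') F p).symm ≪≫
    ((Misc.RDComp.natIso (secSuppPullIso j g j' hU') p).app F).symm ≪≫
    Misc.RDComp.postIso (EtDual.secSupp j) (EtCoh.pull g) F p⟩

end BC

section Local

/-- vanishing of an abelian étale sheaf is étale local -/
theorem isZero_of_cover {X : Scheme.{u}} (G : EtCoh.Ab X) {ι : Type u} (U : ι → X.Etale)
    (hU : EtCoh.Covers U) (h : ∀ i, IsZero ((EtCoh.pull (U i).hom).obj G)) : IsZero G := by
  let P : (Σ i, (U i).left) → EtStalk.GeomPt X := fun q =>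
    { Ω := (EtStalk.geomPtAt q.2).Ω, ξ := (EtStalk.geomPtAt q.2).ξ ≫ (U q.1).hom }
  apply EtStalk.isZero_of_stalks_family P ?_ G
  · intro q
    haveI : (EtCoh.stalk (EtStalk.geomPtAt q.2).ξ).PreservesZeroMorphisms := inferInstance
    have hz : IsZero ((EtCoh.stalk (EtStalk.geomPtAt q.2).ξ).obj
        ((EtCoh.pull (U q.1).hom).obj G)) :=
      (EtCoh.stalk (EtStalk.geomPtAt q.2).ξ).map_isZero (h q.1)
    exact IsZero.of_iso hz
      ((EtStalkPull.stalkPullIso (U q.1).hom (EtStalk.geomPtAt q.2).ξ).app G).symm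
  · intro x
    obtain ⟨i, y, hy⟩ := hU x
    refine ⟨⟨i, y⟩, ?_⟩
    show (U i).hom ((EtStalk.geomPtAt y).ξ default) = x
    rw [EtStalk.geomPtAt_default]
    exact hy

end Local

end H9FE.LocCohEt
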