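import Mathlib
import Groth.Prelude.Def_EtBC2
import Groth.Agent.S0623
import Groth.Agent.Lib.Helper5.RDerPaste.Concrete
import Groth.Agent.Lib.Helper9.FE.BcQAbs
import Groth.Agent.Lib.Helper9.FE.BcQPaste
import Groth.Agent.Lib.Helper9.FE.EtBC0Et
import Groth.Agent.Lib.Helper9.FE.EtLG
import Groth.Agent.Lib.Helper9.FE.LocCohEt

/-! helper9: étale base change for the maps `EtBC.bcQ` in every degree, and cancellation in a
vertical pasting. -/

set_option autoImplicit false
set_option linter.unusedSectionVars false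
set_option linter.style.haveILetI false
set_option backward.isDefEq.respectTransparency false
universe u
open CategoryTheory CategoryTheory.Limits AlgebraicGeometry Opposite

namespace H9FE.BcQEt
open Groth.Agent.Lib.Helper5 Groth.Agent.Lib.Helper5.RDerPaste EtCoh

attribute [local instance] Groth.Agent.Lib.Helper5.Misc.JContGen.jCont
attribute [local instance] Groth.Agent.S0623.lexPull


section Et

variable {X S X' S' : Scheme.{u}} (f : X ⟶ S) (g : S' ⟶ S) [Etale g] (f' : X' ⟶ S')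
  (g' : X' ⟶ X) [Etale g'] (h : IsPullback g' f' f g)

/-- **étale base change** for higher direct images, for the map `EtBC.bcQ` -/
theorem bcQ_isIso_of_etale (q : ℕ) (F : EtCoh.Ab X) :
    IsIso (EtBC.bcQ f g f' g' h.w q F) := by
  haveI : (EtCoh.pull g').PreservesInjectiveObjects :=
    ⟨fun {I} hI => by haveI := hI; exact Groth.Agent.S0623.injective_pull g' I⟩
  haveI : (EtCoh.pull g).PreservesHomology := inferInstance
  haveI : (EtCoh.pull g').PreservesHomology := inferInstance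
  exact H9FE.BcQAbs.isIso_transpose_bcAdj (push f) (push g') (push f') (push g) (pullPushAdj g')
    (pullPushAdj g) (pushComp f g' ≪≫ pushCongr h.w ≪≫ (pushComp g f').symm)
    (fun M => H9FE.EtBC0Et.isIso_baseChange0 f g f' g' h M) q F

end Et


section Cancel

/-- cancellation in a vertical pasting of base change maps -/
theorem bcQ_vcomp_cancel {X S Y T W Z : Scheme.{u}} (f : X ⟶ S) (g : T ⟶ S) (h : Y ⟶ X)
    (e : Y ⟶ T) (w : e ≫ g = h ≫ f) (i : W ⟶ X) (j : Z ⟶ W) (k : Z ⟶ Y) (w' : k ≫ h = j ≫ i)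
    (w'' : (k ≫ e) ≫ g = j ≫ (i ≫ f))
    [PreservesFiniteLimits (EtCoh.pull e)] [PreservesFiniteLimits (EtCoh.pull k)]
    [PreservesFiniteLimits (EtCoh.pull (k ≫ e))] (F : EtCoh.Ab T) (q : ℕ)
    (h3 : IsIso (EtBC.bcQ g (i ≫ f) j (k ≫ e) w'' q F))
    (h2 : IsIso (EtBC.bcQ h i j k w' q ((EtCoh.pull e).obj F))) :
    IsIso ((EtCoh.pull i).map (EtBC.bcQ g f h e w q F)) := by
  let adj' : pull e ⋙ pull k ⊣ push (k ≫ e) :=
    ((pullPushAdj e).comp (pullPushAdj k)).ofNatIsoRight (pushComp e k)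
  let κ : pull (k ≫ e) ≅ pull e ⋙ pull k := (pullPushAdj (k ≫ e)).leftAdjointUniq adj'
  let κF : (pull (k ≫ e)).obj F ⟶ (pull k).obj ((pull e).obj F) := κ.hom.app F
  haveI : IsIso κF := inferInstanceAs (IsIso (κ.hom.app F))
  have hC1 : (pullPushAdj (k ≫ e)).unit.app F ≫ (push (k ≫ e)).map κF =
      (pullPushAdj e).unit.app F ≫ (push e).map ((pullPushAdj k).unit.app ((pull e).obj F)) ≫
        (pushComp e k).hom.app ((pull k).obj ((pull e).obj F)) := by
    have := Adjunction.unit_leftAdjointUniq_hom_app (pullPushAdj (k ≫ e)) adj' F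
    refine this.trans ?_
    simp [adj']
  have hp := bcAdj_paste (push g) (push f) (push h) (push e) (push i) (push j) (push k)
    (push (k ≫ e)) (push (i ≫ f)) (pullPushAdj e) (pullPushAdj k) (pullPushAdj (k ≫ e))
    (pushComp g e ≪≫ pushCongr w ≪≫ (pushComp f h).symm)
    (pushComp h k ≪≫ pushCongr w' ≪≫ (pushComp i j).symm)
    (pushComp g (k ≫ e) ≪≫ pushCongr w'' ≪≫ (pushComp (i ≫ f) j).symm)
    (pushComp e k) (pushComp f i) q F κF hC1 (fun M => c2 f g h e w i j k w' w'' M)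
  exact H9FE.BcQPaste.isIso_map_of_paste (pullPushAdj f) (pullPushAdj i) (pullPushAdj (i ≫ f))
    (pushComp f i)
    (EtBC.bcQAdj g f h e w q F) (EtBC.bcQAdj h i j k w' q ((EtCoh.pull e).obj F))
    (EtBC.bcQAdj g (i ≫ f) j (k ≫ e) w'' q F) (((push j).rightDerived q).map κF) hp h3 h2

/-- the base change map only depends on the morphisms -/
lemma bcQ_isIso_congr {X S X' S' : Scheme.{u}} (f : X ⟶ S) (g₁ g₂ : S' ⟶ S) (f' : X' ⟶ S')
    (g'₁ g'₂ : X' ⟶ X) (hg : g₁ = g₂) (hg' : g'₁ = g'₂) (w₁ : g'₁ ≫ f = f' ≫ g₁)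
    (w₂ : g'₂ ≫ f = f' ≫ g₂) (q : ℕ) (F : EtCoh.Ab X)
    (h : IsIso (EtBC.bcQ f g₁ f' g'₁ w₁ q F)) : IsIso (EtBC.bcQ f g₂ f' g'₂ w₂ q F) := by
  subst hg hg'
  exact h

end Cancel

section Local

/-- being an isomorphism is étale local -/
theorem isIso_of_cover {X : Scheme.{u}} {ι : Type u} (U : ι → X.Etale) (hU : EtCoh.Covers U)
    {F G : EtCoh.Ab X} (φ : F ⟶ G) (hφ : ∀ i, IsIso ((EtCoh.pull (U i).hom).map φ)) :
    IsIso φ := by
  have hk : IsZero (kernel φ) := by
    apply H9FE.LocCohEt.isZero_of_cover _ U hU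
    intro i
    haveI := hφ i
    exact IsZero.of_iso (isZero_kernel_of_mono _) (PreservesKernel.iso (EtCoh.pull (U i).hom) φ)
  have hc : IsZero (cokernel φ) := by
    apply H9FE.LocCohEt.isZero_of_cover _ U hU
    intro i
    haveI := hφ i
    exact IsZero.of_iso (isZero_cokernel_of_epi _)
      (PreservesCokernel.iso (EtCoh.pull (U i).hom) φ)
  haveI : Mono φ := Preadditive.mono_of_isZero_kernel φ hk
  haveI : Epi φ := Preadditive.epi_of_isZero_cokernel φ hc
  exact isIso_of_mono_of_epi φ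

end Local

end H9FE.BcQEt
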