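import Mathlib
import Groth.Prelude.Def_RDer
import Groth.Agent.Lib.Helper5.RDerPaste.Paste2
import Groth.Agent.Lib.Helper9.FE.BcQAbs

/-! helper9: **horizontal pasting** of base change maps in adjoint form: the base change map of
a composite `Φg ⋙ Φπ` (with `Φπ` left exact) against the base change map of `Φg`, on the level of
right derived functors. -/

set_option autoImplicit false
set_option linter.unusedSectionVars false
set_option linter.style.haveILetI false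
open CategoryTheory CategoryTheory.Limits HomologicalComplex

namespace H9FE.BcQHPaste
open Groth.Agent.Lib.Helper5.RDerPaste

section Generic

variable {𝒜 : Type*} [Category 𝒜] [Abelian 𝒜] {ℬ₁ : Type*} [Category ℬ₁] [Abelian ℬ₁]
  {ℬ₂ : Type*} [Category ℬ₂] [Abelian ℬ₂] {𝒞 : Type*} [Category 𝒞] [Abelian 𝒞]
  {ι' : Type*} {c : ComplexShape ι'}

/-- compatibility of the homology comparison maps with a termwise natural transformation between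
two composites -/
lemma hC_tw {Φ₁ : 𝒜 ⥤ ℬ₁} {Ψ₁ : ℬ₁ ⥤ 𝒞} {Φ₂ : 𝒜 ⥤ ℬ₂} {Ψ₂ : ℬ₂ ⥤ 𝒞} [Φ₁.Additive] [Ψ₁.Additive]
    [Φ₂.Additive] [Ψ₂.Additive] [PreservesFiniteLimits Φ₁] [PreservesFiniteLimits Ψ₁]
    [PreservesFiniteLimits Φ₂] [PreservesFiniteLimits Ψ₂]
    (τ : Φ₁ ⋙ Ψ₁ ⟶ Φ₂ ⋙ Ψ₂) (K : HomologicalComplex 𝒜 c) (i : ι') :
    RDer.homologyComparison Ψ₁ ((Φ₁.mapHomologicalComplex c).obj K) i ≫
        Ψ₁.map (RDer.homologyComparison Φ₁ K i) ≫ τ.app (K.homology i) =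
      homologyMap (tw τ K) i ≫
        RDer.homologyComparison Ψ₂ ((Φ₂.mapHomologicalComplex c).obj K) i ≫
          Ψ₂.map (RDer.homologyComparison Φ₂ K i) := by
  have h1 := homologyMap_app_homologyComparison τ K i
  rw [homologyComparison_comp Φ₁ Ψ₁ K i, homologyComparison_comp Φ₂ Ψ₂ K i] at h1
  exact (Category.assoc _ _ _).symm.trans h1.symm

end Generic


section GenericPaste

variable {A : Type*} [Category A] [Abelian A] {A' : Type*} [Category A'] [Abelian A']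
  {B₂ : Type*} [Category B₂] [Abelian B₂] {B₁ : Type*} [Category B₁] [Abelian B₁]
  {C₂ : Type*} [Category C₂] [Abelian C₂] {C₁ : Type*} [Category C₁] [Abelian C₁]
  (Φg : A ⥤ B₂) (Φπ : B₂ ⥤ B₁) (Φgπ : A ⥤ B₁) (Φe : A' ⥤ A) (Φh : A' ⥤ C₂) (Φπ' : C₂ ⥤ C₁)
  (Φhπ : A' ⥤ C₁) (Φf₂ : C₂ ⥤ B₂) (Φf₁ : C₁ ⥤ B₁)
  [Φg.Additive] [Φπ.Additive] [Φgπ.Additive] [Φe.Additive] [Φh.Additive] [Φπ'.Additive]
  [Φhπ.Additive] [Φf₂.Additive] [Φf₁.Additive]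
  [PreservesFiniteLimits Φf₂] [PreservesFiniteLimits Φf₁] [PreservesFiniteLimits Φπ]
  [PreservesFiniteLimits Φπ']
  (α₂ : Φe ⋙ Φg ≅ Φh ⋙ Φf₂) (α₁ : Φe ⋙ Φgπ ≅ Φhπ ⋙ Φf₁) (σ : Φf₂ ⋙ Φπ ≅ Φπ' ⋙ Φf₁)
  (γ : Φg ⋙ Φπ ≅ Φgπ) (γ' : Φh ⋙ Φπ' ≅ Φhπ)
  {ι' : Type*} {c : ComplexShape ι'}

omit [PreservesFiniteLimits Φf₂] [PreservesFiniteLimits Φf₁] [PreservesFiniteLimits Φπ]
  [PreservesFiniteLimits Φπ'] [Abelian A] [Abelian A'] [Abelian B₂] [Abelian B₁] [Abelian C₂]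
  [Abelian C₁] [Φg.Additive] [Φπ.Additive] [Φgπ.Additive] [Φe.Additive] [Φh.Additive]
  [Φπ'.Additive] [Φhπ.Additive] [Φf₂.Additive] [Φf₁.Additive] in
lemma term_h (hC : ∀ G : A', α₁.hom.app G ≫ Φf₁.map (γ'.inv.app G) =
      γ.inv.app (Φe.obj G) ≫ Φπ.map (α₂.hom.app G) ≫ σ.hom.app (Φh.obj G))
    {X : A} {G : A'} (x : X ⟶ Φe.obj G) :
    Φgπ.map x ≫ α₁.hom.app G ≫ Φf₁.map (γ'.inv.app G) =
      γ.inv.app X ≫ Φπ.map (Φg.map x) ≫ Φπ.map (α₂.hom.app G) ≫ σ.hom.app (Φh.obj G) := by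
  have hn := γ.inv.naturality x
  simp only [Functor.comp_obj, Functor.comp_map] at hn
  rw [hC G, ← Category.assoc, hn, Category.assoc]

/-- the chain level identity behind the horizontal pasting -/
lemma chain_h (hC : ∀ G : A', α₁.hom.app G ≫ Φf₁.map (γ'.inv.app G) =
      γ.inv.app (Φe.obj G) ≫ Φπ.map (α₂.hom.app G) ≫ σ.hom.app (Φh.obj G))
    (I : HomologicalComplex A c) (J : HomologicalComplex A' c)
    (a : I ⟶ (Φe.mapHomologicalComplex c).obj J) :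
    (Φgπ.mapHomologicalComplex c).map a ≫ tw α₁.hom J ≫
        (Φf₁.mapHomologicalComplex c).map (tw2 γ'.inv J) =
      tw2 γ.inv I ≫ (Φπ.mapHomologicalComplex c).map ((Φg.mapHomologicalComplex c).map a) ≫
        (Φπ.mapHomologicalComplex c).map (tw α₂.hom J) ≫
          tw σ.hom ((Φh.mapHomologicalComplex c).obj J) := by
  ext n
  exact term_h Φg Φπ Φgπ Φe Φh Φπ' Φhπ Φf₂ Φf₁ α₂ α₁ σ γ γ' hC (a.f n)

/-- **horizontal pasting**, generic homology level form -/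
theorem hpaste_generic (hC : ∀ G : A', α₁.hom.app G ≫ Φf₁.map (γ'.inv.app G) =
      γ.inv.app (Φe.obj G) ≫ Φπ.map (α₂.hom.app G) ≫ σ.hom.app (Φh.obj G))
    (I : HomologicalComplex A c) (J : HomologicalComplex A' c)
    (a : I ⟶ (Φe.mapHomologicalComplex c).obj J) (q : ι')
    {P₁ : B₁} {P₂ : B₂} {Q₁ : C₁} {Q₂ : C₂}
    (rgπ : P₁ ≅ ((Φgπ.mapHomologicalComplex c).obj I).homology q)
    (rg : P₂ ≅ ((Φg.mapHomologicalComplex c).obj I).homology q)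
    (rhπ : Q₁ ≅ ((Φhπ.mapHomologicalComplex c).obj J).homology q)
    (rh : Q₂ ≅ ((Φh.mapHomologicalComplex c).obj J).homology q) :
    (rgπ.hom ≫ homologyMap ((Φgπ.mapHomologicalComplex c).map a) q ≫
        homologyMap (tw α₁.hom J) q ≫
        RDer.homologyComparison Φf₁ ((Φhπ.mapHomologicalComplex c).obj J) q ≫
        Φf₁.map rhπ.inv) ≫
      Φf₁.map (rhπ.hom ≫ homologyMap (tw2 γ'.inv J) q ≫
        RDer.homologyComparison Φπ' ((Φh.mapHomologicalComplex c).obj J) q ≫ Φπ'.map rh.inv) =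
    (rgπ.hom ≫ homologyMap (tw2 γ.inv I) q ≫
        RDer.homologyComparison Φπ ((Φg.mapHomologicalComplex c).obj I) q ≫ Φπ.map rg.inv) ≫
      Φπ.map (rg.hom ≫ homologyMap ((Φg.mapHomologicalComplex c).map a) q ≫
        homologyMap (tw α₂.hom J) q ≫
        RDer.homologyComparison Φf₂ ((Φh.mapHomologicalComplex c).obj J) q ≫
        Φf₂.map rh.inv) ≫
      σ.hom.app Q₂ := by
  -- left hand side
  have L1 : Φf₁.map rhπ.inv ≫ Φf₁.map (rhπ.hom ≫ homologyMap (tw2 γ'.inv J) q ≫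
        RDer.homologyComparison Φπ' ((Φh.mapHomologicalComplex c).obj J) q ≫ Φπ'.map rh.inv) =
      Φf₁.map (homologyMap (tw2 γ'.inv J) q) ≫
        Φf₁.map (RDer.homologyComparison Φπ' ((Φh.mapHomologicalComplex c).obj J) q) ≫
        Φf₁.map (Φπ'.map rh.inv) := by
    rw [← Φf₁.map_comp, Iso.inv_hom_id_assoc, Φf₁.map_comp, Φf₁.map_comp]
  have L2 := homologyMap_homologyComparison Φf₁ (tw2 γ'.inv J) q
  -- right hand side
  have R1 : Φπ.map rg.inv ≫ Φπ.map (rg.hom ≫ homologyMap ((Φg.mapHomologicalComplex c).map a) q ≫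
        homologyMap (tw α₂.hom J) q ≫
        RDer.homologyComparison Φf₂ ((Φh.mapHomologicalComplex c).obj J) q ≫
        Φf₂.map rh.inv) =
      Φπ.map (homologyMap ((Φg.mapHomologicalComplex c).map a) q) ≫
        Φπ.map (homologyMap (tw α₂.hom J) q) ≫
        Φπ.map (RDer.homologyComparison Φf₂ ((Φh.mapHomologicalComplex c).obj J) q) ≫
        Φπ.map (Φf₂.map rh.inv) := by
    rw [← Φπ.map_comp, Iso.inv_hom_id_assoc, Φπ.map_comp, Φπ.map_comp, Φπ.map_comp]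
  have R2 := homologyMap_homologyComparison Φπ ((Φg.mapHomologicalComplex c).map a) q
  have R3 := homologyMap_homologyComparison Φπ (tw α₂.hom J) q
  have R4 : Φπ.map (Φf₂.map rh.inv) ≫ σ.hom.app Q₂ =
      σ.hom.app (((Φh.mapHomologicalComplex c).obj J).homology q) ≫ Φf₁.map (Φπ'.map rh.inv) :=
    σ.hom.naturality rh.inv
  have R5 := hC_tw σ.hom ((Φh.mapHomologicalComplex c).obj J) q
  have CH := chain_h Φg Φπ Φgπ Φe Φh Φπ' Φhπ Φf₂ Φf₁ α₂ α₁ σ γ γ' hC I J a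
  have CH' := congrArg (fun φ => homologyMap φ q) CH
  simp only [homologyMap_comp] at CH'
  simp only [Category.assoc]
  rw [L1, reassoc_of% L2.symm, reassoc_of% R1, reassoc_of% R2.symm, reassoc_of% R3.symm, R4,
    reassoc_of% R5, reassoc_of% CH']

end GenericPaste


section Main

variable {A : Type*} [Category A] [Abelian A] [HasInjectiveResolutions A]
  {A' : Type*} [Category A'] [Abelian A'] [HasInjectiveResolutions A']
  {B₂ : Type*} [Category B₂] [Abelian B₂] [HasInjectiveResolutions B₂]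
  {B₁ : Type*} [Category B₁] [Abelian B₁] [HasInjectiveResolutions B₁]
  {C₂ : Type*} [Category C₂] [Abelian C₂] [HasInjectiveResolutions C₂]
  {C₁ : Type*} [Category C₁] [Abelian C₁] [HasInjectiveResolutions C₁]

/-- the comparison `R^q Φ₁₂ F ⟶ Ψ (R^q Φ₁ F)` for `Φ₁ ⋙ Ψ ≅ Φ₁₂` with `Ψ` left exact -/
noncomputable def cmp (Φ₁ : A ⥤ B₂) (Ψ : B₂ ⥤ B₁) (Φ₁₂ : A ⥤ B₁) [Φ₁.Additive] [Ψ.Additive]
    [Φ₁₂.Additive] [PreservesFiniteLimits Ψ] (γ : Φ₁ ⋙ Ψ ≅ Φ₁₂) (q : ℕ) (F : A) :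
    (Φ₁₂.rightDerived q).obj F ⟶ Ψ.obj ((Φ₁.rightDerived q).obj F) :=
  (rdIso Φ₁₂ q F).hom ≫ homologyMap (tw2 γ.inv (injectiveResolution F).cocomplex) q ≫
    RDer.homologyComparison Ψ
      ((Φ₁.mapHomologicalComplex _).obj (injectiveResolution F).cocomplex) q ≫
    Ψ.map (rdIso Φ₁ q F).inv

/-- for an exact `Ψ` the comparison is an isomorphism -/
theorem isIso_cmp (Φ₁ : A ⥤ B₂) (Ψ : B₂ ⥤ B₁) (Φ₁₂ : A ⥤ B₁) [Φ₁.Additive] [Ψ.Additive]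
    [Φ₁₂.Additive] [PreservesFiniteLimits Ψ] [PreservesFiniteColimits Ψ] (γ : Φ₁ ⋙ Ψ ≅ Φ₁₂)
    (q : ℕ) (F : A) : IsIso (cmp Φ₁ Ψ Φ₁₂ γ q F) := by
  haveI : ∀ n, IsIso ((tw2 γ.inv (injectiveResolution F).cocomplex).f n) := fun n =>
    inferInstanceAs (IsIso (γ.inv.app ((injectiveResolution F).cocomplex.X n)))
  haveI : IsIso (tw2 γ.inv (injectiveResolution F).cocomplex) :=
    HomologicalComplex.Hom.isIso_of_components _
  haveI : IsIso (homologyMap (tw2 γ.inv (injectiveResolution F).cocomplex) q) :=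
    inferInstanceAs (IsIso ((homologyFunctor B₁ (ComplexShape.up ℕ) q).map
      (tw2 γ.inv (injectiveResolution F).cocomplex)))
  haveI := H9FE.BcQAbs.isIso_homologyComparison Ψ
    ((Φ₁.mapHomologicalComplex _).obj (injectiveResolution F).cocomplex) q
  unfold cmp
  infer_instance

variable (Φg : A ⥤ B₂) (Φπ : B₂ ⥤ B₁) (Φgπ : A ⥤ B₁) (Φe : A' ⥤ A) (Φh : A' ⥤ C₂) (Φπ' : C₂ ⥤ C₁)
  (Φhπ : A' ⥤ C₁) (Φf₂ : C₂ ⥤ B₂) (Φf₁ : C₁ ⥤ B₁)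
  [Φg.Additive] [Φπ.Additive] [Φgπ.Additive] [Φe.Additive] [Φh.Additive] [Φπ'.Additive]
  [Φhπ.Additive] [Φf₂.Additive] [Φf₁.Additive] [Φe.PreservesInjectiveObjects]
  [PreservesFiniteLimits Φf₂] [PreservesFiniteLimits Φf₁] [PreservesFiniteLimits Φπ]
  [PreservesFiniteLimits Φπ']
  {Le : A ⥤ A'} (adj : Le ⊣ Φe)
  (α₂ : Φe ⋙ Φg ≅ Φh ⋙ Φf₂) (α₁ : Φe ⋙ Φgπ ≅ Φhπ ⋙ Φf₁) (σ : Φf₂ ⋙ Φπ ≅ Φπ' ⋙ Φf₁)
  (γ : Φg ⋙ Φπ ≅ Φgπ) (γ' : Φh ⋙ Φπ' ≅ Φhπ)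

/-- **horizontal pasting** of base change maps in adjoint form -/
theorem bcAdj_hpaste (hC : ∀ G : A', α₁.hom.app G ≫ Φf₁.map (γ'.inv.app G) =
      γ.inv.app (Φe.obj G) ≫ Φπ.map (α₂.hom.app G) ≫ σ.hom.app (Φh.obj G)) (q : ℕ) (F : A) :
    bcAdj Φgπ Φe Φhπ Φf₁ adj α₁ q F ≫ Φf₁.map (cmp Φh Φπ' Φhπ γ' q (Le.obj F)) =
      cmp Φg Φπ Φgπ γ q F ≫ Φπ.map (bcAdj Φg Φe Φh Φf₂ adj α₂ q F) ≫
        σ.hom.app ((Φh.rightDerived q).obj (Le.obj F)) := by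
  obtain ⟨a, ha⟩ := exists_isLift Φe (adj.unit.app F)
  rw [bcAdj_eq' Φgπ Φe Φhπ Φf₁ adj α₁ q F a ha, bcAdj_eq' Φg Φe Φh Φf₂ adj α₂ q F a ha]
  exact hpaste_generic Φg Φπ Φgπ Φe Φh Φπ' Φhπ Φf₂ Φf₁ α₂ α₁ σ γ γ' hC
    (injectiveResolution F).cocomplex (injectiveResolution (Le.obj F)).cocomplex a q
    (rdIso Φgπ q F) (rdIso Φg q F) (rdIso Φhπ q (Le.obj F)) (rdIso Φh q (Le.obj F))

end Main

section Transpose

variable {B₂ : Type*} [Category B₂] {B₁ : Type*} [Category B₁] {C₂ : Type*} [Category C₂]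
  {C₁ : Type*} [Category C₁]
  {Φπ : B₂ ⥤ B₁} {Φπ' : C₂ ⥤ C₁} {Φf₂ : C₂ ⥤ B₂} {Φf₁ : C₁ ⥤ B₁}
  {Lf₂ : B₂ ⥤ C₂} {Lf₁ : B₁ ⥤ C₁} (adj₂ : Lf₂ ⊣ Φf₂) (adj₁ : Lf₁ ⊣ Φf₁)
  (σ : Φf₂ ⋙ Φπ ≅ Φπ' ⋙ Φf₁)

/-- the degree zero base change map of the square `σ` -/
def bc0 (P : B₂) : Lf₁.obj (Φπ.obj P) ⟶ Φπ'.obj (Lf₂.obj P) :=
  (adj₁.homEquiv _ _).symm (Φπ.map (adj₂.unit.app P) ≫ σ.hom.app (Lf₂.obj P))

/-- transposing `Φπ u ≫ σ` -/
lemma transpose_map_comp {P : B₂} {Q : C₂} (u : P ⟶ Φf₂.obj Q) :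
    (adj₁.homEquiv _ _).symm (Φπ.map u ≫ σ.hom.app Q) =
      bc0 adj₂ adj₁ σ P ≫ Φπ'.map ((adj₂.homEquiv _ _).symm u) := by
  apply (adj₁.homEquiv _ _).injective
  rw [Equiv.apply_symm_apply, bc0, Adjunction.homEquiv_naturality_right, Equiv.apply_symm_apply,
    Category.assoc]
  have h1 : u = adj₂.unit.app P ≫ Φf₂.map ((adj₂.homEquiv _ _).symm u) :=
    ((Equiv.apply_symm_apply (adj₂.homEquiv _ _) u).symm.trans
      (Adjunction.homEquiv_unit adj₂ _ _ _))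
  have h2 := σ.hom.naturality ((adj₂.homEquiv _ _).symm u)
  simp only [Functor.comp_obj, Functor.comp_map] at h2
  rw [← h2, ← Category.assoc, ← Φπ.map_comp, ← h1]

/-- **the deduction**: if the outer base change map and the degree zero base change maps of `σ`
are isomorphisms and `Φπ'` reflects isomorphisms, the inner base change map is an isomorphism -/
theorem isIso_inner_of_outer {P₁ : B₁} {P₂ : B₂} {Q₁ : C₁} {Q₂ : C₂}
    (b₁ : P₁ ⟶ Φf₁.obj Q₁) (b₂ : P₂ ⟶ Φf₂.obj Q₂) (cA : P₁ ⟶ Φπ.obj P₂) (cB : Q₁ ⟶ Φπ'.obj Q₂)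
    [IsIso cA] [IsIso cB]
    (hp : b₁ ≫ Φf₁.map cB = cA ≫ Φπ.map b₂ ≫ σ.hom.app Q₂)
    (h1 : IsIso ((adj₁.homEquiv _ _).symm b₁)) (h0 : IsIso (bc0 adj₂ adj₁ σ P₂))
    [Φπ'.ReflectsIsomorphisms] :
    IsIso ((adj₂.homEquiv _ _).symm b₂) := by
  have e1 : (adj₁.homEquiv _ _).symm (b₁ ≫ Φf₁.map cB) = (adj₁.homEquiv _ _).symm b₁ ≫ cB := by
    rw [Adjunction.homEquiv_naturality_right_symm]
  have e2 : (adj₁.homEquiv _ _).symm (cA ≫ Φπ.map b₂ ≫ σ.hom.app Q₂) =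
      Lf₁.map cA ≫ bc0 adj₂ adj₁ σ P₂ ≫ Φπ'.map ((adj₂.homEquiv _ _).symm b₂) := by
    rw [Adjunction.homEquiv_naturality_left_symm, transpose_map_comp]
  have key : (adj₁.homEquiv _ _).symm b₁ ≫ cB =
      Lf₁.map cA ≫ bc0 adj₂ adj₁ σ P₂ ≫ Φπ'.map ((adj₂.homEquiv _ _).symm b₂) := by
    rw [← e1, hp, e2]
  haveI := h1
  haveI := h0
  have hiso : IsIso (Lf₁.map cA ≫ bc0 adj₂ adj₁ σ P₂ ≫ Φπ'.map ((adj₂.homEquiv _ _).symm b₂)) := by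
    rw [← key]; infer_instance
  have h3 : IsIso (bc0 adj₂ adj₁ σ P₂ ≫ Φπ'.map ((adj₂.homEquiv _ _).symm b₂)) :=
    IsIso.of_isIso_comp_left (Lf₁.map cA) _
  have h4 : IsIso (Φπ'.map ((adj₂.homEquiv _ _).symm b₂)) :=
    IsIso.of_isIso_comp_left (bc0 adj₂ adj₁ σ P₂) _
  exact isIso_of_reflects_iso _ Φπ'

end Transpose

end H9FE.BcQHPaste
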