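import Mathlib
import Groth.Prelude.Def_EtBC2
import Groth.Agent.Lib.Helper5.RDerPaste.Concrete
import Groth.Agent.Lib.Helper9.FE.BcQHPaste

set_option autoImplicit false
universe u
open CategoryTheory CategoryTheory.Limits AlgebraicGeometry Opposite

namespace H9FE.BcQHConcrete
open EtCoh Groth.Agent.Lib.Helper5.RDerPaste

lemma etale_hom_ext2 {S T Y : Scheme.{u}} (p : T ⟶ S) (e : Y ⟶ T) (U : S.Etale)
    {A : Y.Etale} (Φ Ψ : A ⟶ (bc e).obj ((bc p).obj U))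
    (h : Φ.left ≫ pr e ((bc p).obj U) ≫ pr p U = Ψ.left ≫ pr e ((bc p).obj U) ≫ pr p U) :
    Φ = Ψ := by
  apply MorphismProperty.Over.Hom.ext
  have hw : Φ.left ≫ ((bc e).obj ((bc p).obj U)).hom =
      Ψ.left ≫ ((bc e).obj ((bc p).obj U)).hom :=
    (MorphismProperty.Over.w Φ).trans (MorphismProperty.Over.w Ψ).symm
  refine hom_ext_pr e _ _ _ ?_ hw
  refine hom_ext_pr p _ _ _ ?_ ?_
  · simpa only [Category.assoc] using h
  · simp only [Category.assoc, pr_hom]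
    rw [reassoc_of% hw]

lemma c2h_aux {S' X' S'' X'' T Y : Scheme.{u}} (f' : X' ⟶ S') (π : S'' ⟶ S') (f'' : X'' ⟶ S'')
    (π' : X'' ⟶ X') (wπ : f'' ≫ π = π' ≫ f') (g' : T ⟶ S'') (h' : Y ⟶ X'') (e : Y ⟶ T)
    (w : e ≫ g' = h' ≫ f'') (w' : e ≫ (g' ≫ π) = (h' ≫ π') ≫ f') (M : EtCoh.Ab Y) (V : S'.Etale) :
    M.obj.map (pcHom e (g' ≫ π) V).op ≫ M.obj.map (pgInv w' V).op ≫
      M.obj.map (pcInv (h' ≫ π') f' V).op ≫ M.obj.map (pcInv h' π' ((bc f').obj V)).op =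
    M.obj.map ((bc e).map (pcInv g' π V)).op ≫ M.obj.map (pcHom e g' ((bc π).obj V)).op ≫
      M.obj.map (pgInv w ((bc π).obj V)).op ≫ M.obj.map (pcInv h' f'' ((bc π).obj V)).op ≫
      M.obj.map ((bc h').map (pcHom f'' π V)).op ≫ M.obj.map ((bc h').map (pgInv wπ V)).op ≫
      M.obj.map ((bc h').map (pcInv π' f' V)).op := by
  simp only [← Functor.map_comp, ← op_comp]
  congr 2
  apply etale_hom_ext2 (g' ≫ π) e V
  simp only [etale_comp_left, Category.assoc, pcHom_pr, pcHom_pr_assoc,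
    pcInv_pr, pcInv_pr_assoc, pgInv_pr, pgInv_pr_assoc, bc_map_left_pr, bc_map_left_pr_assoc]

theorem c2h {S' X' S'' X'' T Y : Scheme.{u}} (f' : X' ⟶ S') (π : S'' ⟶ S') (f'' : X'' ⟶ S'')
    (π' : X'' ⟶ X') (wπ : f'' ≫ π = π' ≫ f') (g' : T ⟶ S'') (h' : Y ⟶ X'') (e : Y ⟶ T)
    (w : e ≫ g' = h' ≫ f'') (w' : e ≫ (g' ≫ π) = (h' ≫ π') ≫ f') (M : EtCoh.Ab Y) :
    (pushComp (g' ≫ π) e ≪≫ pushCongr w' ≪≫ (pushComp f' (h' ≫ π')).symm).hom.app M ≫
        (push f').map ((pushComp π' h').inv.app M) =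
      (pushComp π g').inv.app ((push e).obj M) ≫
        (push π).map ((pushComp g' e ≪≫ pushCongr w ≪≫ (pushComp f'' h').symm).hom.app M) ≫
        (pushComp π f'' ≪≫ pushCongr wπ ≪≫ (pushComp f' π').symm).hom.app ((push h').obj M) := by
  ext U : 3
  simp [pushComp, pushCongr]
  exact c2h_aux f' π f'' π' wπ g' h' e w w' M (unop U)

end H9FE.BcQHConcrete
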