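import Mathlib
import Groth.Prelude.Def_EtBC2
import Groth.Agent.Lib.Helper5.RDerPaste.Concrete

/-! helper9: coherence of the composition isomorphisms of étale direct images needed for the
source side pasting of base change maps. -/

set_option autoImplicit false
universe u
open CategoryTheory CategoryTheory.Limits AlgebraicGeometry Opposite

namespace H9FE.BcQSConcrete
open EtCoh Groth.Agent.Lib.Helper5.RDerPaste

lemma c2s_aux {S' X' T Y T' Y' : Scheme.{u}} (f' : X' ⟶ S') (g : T ⟶ S') (h : Y ⟶ X')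
    (e : Y ⟶ T) (w : e ≫ g = h ≫ f') (π : T' ⟶ T) (π' : Y' ⟶ Y) (e' : Y' ⟶ T')
    (w' : e' ≫ π = π' ≫ e) (w'' : e' ≫ (π ≫ g) = (π' ≫ h) ≫ f') (M : EtCoh.Ab Y')
    (V : S'.Etale) :
    M.obj.map ((bc e').map (pcHom π g V)).op ≫ M.obj.map (pcHom e' (π ≫ g) V).op ≫
      M.obj.map (pgInv w'' V).op ≫ M.obj.map (pcInv (π' ≫ h) f' V).op =
    M.obj.map (pcHom e' π ((bc g).obj V)).op ≫ M.obj.map (pgInv w' ((bc g).obj V)).op ≫
      M.obj.map (pcInv π' e ((bc g).obj V)).op ≫ M.obj.map ((bc π').map (pcHom e g V)).op ≫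
      M.obj.map ((bc π').map (pgInv w V)).op ≫ M.obj.map ((bc π').map (pcInv h f' V)).op ≫
      M.obj.map (pcHom π' h ((bc f').obj V)).op := by
  simp only [← Functor.map_comp, ← op_comp]
  congr 2
  apply etale_hom_ext3 g π e' V
  simp only [etale_comp_left, Category.assoc, pcHom_pr, pcHom_pr_assoc,
    pcInv_pr, pcInv_pr_assoc, pgInv_pr, pgInv_pr_assoc, bc_map_left_pr, bc_map_left_pr_assoc]

theorem c2s {S' X' T Y T' Y' : Scheme.{u}} (f' : X' ⟶ S') (g : T ⟶ S') (h : Y ⟶ X') (e : Y ⟶ T)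
    (w : e ≫ g = h ≫ f') (π : T' ⟶ T) (π' : Y' ⟶ Y) (e' : Y' ⟶ T') (w' : e' ≫ π = π' ≫ e)
    (w'' : e' ≫ (π ≫ g) = (π' ≫ h) ≫ f') (M : EtCoh.Ab Y') :
    (pushComp g π).hom.app ((push e').obj M) ≫
        (pushComp (π ≫ g) e' ≪≫ pushCongr w'' ≪≫ (pushComp f' (π' ≫ h)).symm).hom.app M =
      (push g).map ((pushComp π e' ≪≫ pushCongr w' ≪≫ (pushComp e π').symm).hom.app M) ≫
        (pushComp g e ≪≫ pushCongr w ≪≫ (pushComp f' h).symm).hom.app ((push π').obj M) ≫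
        (push f').map ((pushComp h π').hom.app M) := by
  ext U : 3
  simp [pushComp, pushCongr]
  exact c2s_aux f' g h e w π π' e' w' w'' M (unop U)

end H9FE.BcQSConcrete
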