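import Mathlib
import Groth.Prelude.Def_RDer

/-! helper9: for a left exact functor `Ψ` and a short exact sequence of complexes `S` which stays
short exact after applying `Ψ` termwise, the canonical comparison `H (Ψ K) ⟶ Ψ (H K)`
(`RDer.homologyComparison`) is compatible with the connecting morphisms of the two homology
sequences. -/

set_option autoImplicit false
set_option linter.unusedSectionVars false
set_option linter.style.haveILetI false
set_option backward.isDefEq.respectTransparency false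
open CategoryTheory CategoryTheory.Limits HomologicalComplex

namespace H9FE.DeltaCmp

variable {C : Type*} [Category C] [Abelian C] {B : Type*} [Category B] [Abelian B]
  (Ψ : C ⥤ B) [Ψ.Additive] [PreservesFiniteLimits Ψ]
  {ι : Type*} {c : ComplexShape ι}

lemma map_comp_d_eq_zero (K : HomologicalComplex C c) {A : C} (i j : ι)
    (x : A ⟶ K.X i) (hx : x ≫ K.d i j = 0) :
    Ψ.map x ≫ ((Ψ.mapHomologicalComplex c).obj K).d i j = 0 := by
  show Ψ.map x ≫ Ψ.map (K.d i j) = 0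
  rw [← Ψ.map_comp, hx, Ψ.map_zero]

/-- `liftCycles` and the comparison of cycles -/
lemma liftCycles_cyclesComparison (K : HomologicalComplex C c) {A : C} (i j : ι)
    (hj : c.next i = j) (x : A ⟶ K.X i) (hx : x ≫ K.d i j = 0) :
    ((Ψ.mapHomologicalComplex c).obj K).liftCycles (Ψ.map x) j hj
        (map_comp_d_eq_zero Ψ K i j x hx) ≫ RDer.cyclesComparison Ψ K i =
      Ψ.map (K.liftCycles x j hj hx) := by
  haveI : Mono (Ψ.map (K.iCycles i)) := inferInstance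
  rw [← cancel_mono (Ψ.map (K.iCycles i)), Category.assoc, RDer.cyclesComparison_i, liftCycles_i,
    ← Ψ.map_comp, liftCycles_i]

/-- `liftCycles ≫ homologyπ` and the comparison of homology -/
lemma liftCycles_homologyπ_homologyComparison (K : HomologicalComplex C c) {A : C} (i j : ι)
    (hj : c.next i = j) (x : A ⟶ K.X i) (hx : x ≫ K.d i j = 0) :
    ((Ψ.mapHomologicalComplex c).obj K).liftCycles (Ψ.map x) j hj
        (map_comp_d_eq_zero Ψ K i j x hx) ≫
        ((Ψ.mapHomologicalComplex c).obj K).homologyπ i ≫ RDer.homologyComparison Ψ K i =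
      Ψ.map (K.liftCycles x j hj hx ≫ K.homologyπ i) := by
  rw [RDer.homologyπ_homologyComparison, ← Category.assoc, liftCycles_cyclesComparison,
    ← Ψ.map_comp]

/-- the key computation on a generalized element -/
lemma δ_homologyComparison_aux (S : ShortComplex (HomologicalComplex C c)) (hS : S.ShortExact)
    (hΨ : (S.map (Ψ.mapHomologicalComplex c)).ShortExact) (i j : ι) (hij : c.Rel i j)
    {P : C} (x₃ : P ⟶ S.X₃.X i) (hx₃ : x₃ ≫ S.X₃.d i j = 0)
    (x₂ : P ⟶ S.X₂.X i) (hx₂ : x₂ ≫ S.g.f i = x₃) :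
    ((Ψ.mapHomologicalComplex c).obj S.X₃).liftCycles (Ψ.map x₃) j (c.next_eq' hij)
        (map_comp_d_eq_zero Ψ S.X₃ i j x₃ hx₃) ≫
      ((Ψ.mapHomologicalComplex c).obj S.X₃).homologyπ i ≫
        hΨ.δ i j hij ≫ RDer.homologyComparison Ψ S.X₁ j =
    ((Ψ.mapHomologicalComplex c).obj S.X₃).liftCycles (Ψ.map x₃) j (c.next_eq' hij)
        (map_comp_d_eq_zero Ψ S.X₃ i j x₃ hx₃) ≫
      ((Ψ.mapHomologicalComplex c).obj S.X₃).homologyπ i ≫
        RDer.homologyComparison Ψ S.X₃ i ≫ Ψ.map (hS.δ i j hij) := by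
  have hexj : (S.map (eval C c j)).ShortExact := hS.map_of_exact _
  haveI : Mono (S.f.f j) := hexj.mono_f
  have h0 : (x₂ ≫ S.X₂.d i j) ≫ (S.map (eval C c j)).g = 0 := by
    show (x₂ ≫ S.X₂.d i j) ≫ S.g.f j = 0
    rw [Category.assoc, ← S.g.comm, reassoc_of% hx₂, hx₃]
  haveI : Mono (S.map (eval C c j)).f := hexj.mono_f
  obtain ⟨x₁, hx₁⟩ : ∃ x₁ : P ⟶ S.X₁.X j, x₁ ≫ S.f.f j = x₂ ≫ S.X₂.d i j :=
    ⟨hexj.exact.lift (x₂ ≫ S.X₂.d i j) h0, hexj.exact.lift_f _ _⟩
  haveI : Mono (S.f.f (c.next j)) :=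
    (hS.map_of_exact (eval C c (c.next j))).mono_f
  have hx₁d : x₁ ≫ S.X₁.d j (c.next j) = 0 := by
    rw [← cancel_mono (S.f.f (c.next j)), Category.assoc, ← S.f.comm, reassoc_of% hx₁,
      d_comp_d, comp_zero, zero_comp]
  have e1 := hS.δ_eq i j hij x₃ hx₃ x₂ hx₂ x₁ hx₁ (c.next j) rfl
  have e2 := hΨ.δ_eq i j hij (Ψ.map x₃) (map_comp_d_eq_zero Ψ S.X₃ i j x₃ hx₃) (Ψ.map x₂)
    (by show Ψ.map x₂ ≫ Ψ.map (S.g.f i) = Ψ.map x₃; rw [← Ψ.map_comp, hx₂]) (Ψ.map x₁)
    (by show Ψ.map x₁ ≫ Ψ.map (S.f.f j) = Ψ.map x₂ ≫ Ψ.map (S.X₂.d i j)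
        rw [← Ψ.map_comp, ← Ψ.map_comp, hx₁]) (c.next j) rfl
  have L := liftCycles_homologyπ_homologyComparison Ψ S.X₁ j (c.next j) rfl x₁ hx₁d
  have R := liftCycles_homologyπ_homologyComparison Ψ S.X₃ i j (c.next_eq' hij) x₃ hx₃
  have e2' := congrArg (fun t => t ≫ RDer.homologyComparison Ψ S.X₁ j) e2
  simp only [Category.assoc] at e2'
  refine e2'.trans ?_
  refine L.trans ?_
  rw [← e1]
  have R' := congrArg (fun t => t ≫ Ψ.map (hS.δ i j hij)) R
  simp only [Category.assoc, ← Ψ.map_comp] at R'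
  exact R'.symm

/-- **compatibility of the comparison `H (Ψ K) ⟶ Ψ (H K)` with connecting morphisms** -/
theorem δ_homologyComparison (S : ShortComplex (HomologicalComplex C c)) (hS : S.ShortExact)
    (hΨ : (S.map (Ψ.mapHomologicalComplex c)).ShortExact) (i j : ι) (hij : c.Rel i j) :
    hΨ.δ i j hij ≫ RDer.homologyComparison Ψ S.X₁ j =
      RDer.homologyComparison Ψ S.X₃ i ≫ Ψ.map (hS.δ i j hij) := by
  have hexi : (S.map (eval C c i)).ShortExact := hS.map_of_exact _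
  haveI : Epi (S.g.f i) := hexi.epi_g
  have hΨi : ((S.map (Ψ.mapHomologicalComplex c)).map (eval B c i)).ShortExact :=
    hΨ.map_of_exact _
  haveI : Epi (Ψ.map (S.g.f i)) := hΨi.epi_g
  have hnext : c.next i = j := c.next_eq' hij
  have hx₃ : (pullback.fst (S.X₃.iCycles i) (S.g.f i) ≫ S.X₃.iCycles i) ≫ S.X₃.d i j = 0 := by
    simp only [Category.assoc, iCycles_d, comp_zero]
  have key := δ_homologyComparison_aux Ψ S hS hΨ i j hij
    (pullback.fst (S.X₃.iCycles i) (S.g.f i) ≫ S.X₃.iCycles i) hx₃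
    (pullback.snd (S.X₃.iCycles i) (S.g.f i)) pullback.condition.symm
  have hz : S.X₃.liftCycles (pullback.fst (S.X₃.iCycles i) (S.g.f i) ≫ S.X₃.iCycles i) j hnext hx₃ =
      pullback.fst (S.X₃.iCycles i) (S.g.f i) := by
    rw [← cancel_mono (S.X₃.iCycles i), liftCycles_i]
  have hpb : IsPullback (Ψ.map (pullback.fst (S.X₃.iCycles i) (S.g.f i)))
      (Ψ.map (pullback.snd (S.X₃.iCycles i) (S.g.f i))) (Ψ.map (S.X₃.iCycles i))
      (Ψ.map (S.g.f i)) :=
    (IsPullback.of_hasPullback (S.X₃.iCycles i) (S.g.f i)).map Ψ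
  haveI : Epi (Ψ.map (pullback.fst (S.X₃.iCycles i) (S.g.f i))) :=
    Abelian.epi_fst_of_isLimit _ _ hpb.isLimit
  have hlz : ((Ψ.mapHomologicalComplex c).obj S.X₃).liftCycles
      (Ψ.map (pullback.fst (S.X₃.iCycles i) (S.g.f i) ≫ S.X₃.iCycles i)) j hnext
      (map_comp_d_eq_zero Ψ S.X₃ i j _ hx₃) ≫ RDer.cyclesComparison Ψ S.X₃ i =
        Ψ.map (pullback.fst (S.X₃.iCycles i) (S.g.f i)) := by
    rw [liftCycles_cyclesComparison Ψ S.X₃ i j hnext _ hx₃, hz]
  haveI : Mono (RDer.cyclesComparison Ψ S.X₃ i) := by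
    have h := RDer.cyclesComparison_i Ψ S.X₃ i
    haveI : Mono (RDer.cyclesComparison Ψ S.X₃ i ≫ Ψ.map (S.X₃.iCycles i)) := by
      rw [h]; infer_instance
    exact mono_of_mono _ (Ψ.map (S.X₃.iCycles i))
  haveI : Epi (RDer.cyclesComparison Ψ S.X₃ i) := by
    haveI : Epi (((Ψ.mapHomologicalComplex c).obj S.X₃).liftCycles
      (Ψ.map (pullback.fst (S.X₃.iCycles i) (S.g.f i) ≫ S.X₃.iCycles i)) j hnext
      (map_comp_d_eq_zero Ψ S.X₃ i j _ hx₃) ≫ RDer.cyclesComparison Ψ S.X₃ i) := by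
      rw [hlz]; infer_instance
    exact epi_of_epi (((Ψ.mapHomologicalComplex c).obj S.X₃).liftCycles
      (Ψ.map (pullback.fst (S.X₃.iCycles i) (S.g.f i) ≫ S.X₃.iCycles i)) j hnext
      (map_comp_d_eq_zero Ψ S.X₃ i j _ hx₃)) _
  haveI : IsIso (RDer.cyclesComparison Ψ S.X₃ i) := isIso_of_mono_of_epi _
  haveI : Epi (((Ψ.mapHomologicalComplex c).obj S.X₃).liftCycles
      (Ψ.map (pullback.fst (S.X₃.iCycles i) (S.g.f i) ≫ S.X₃.iCycles i)) j hnext
      (map_comp_d_eq_zero Ψ S.X₃ i j _ hx₃)) := by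
    have : ((Ψ.mapHomologicalComplex c).obj S.X₃).liftCycles
      (Ψ.map (pullback.fst (S.X₃.iCycles i) (S.g.f i) ≫ S.X₃.iCycles i)) j hnext
      (map_comp_d_eq_zero Ψ S.X₃ i j _ hx₃) =
        Ψ.map (pullback.fst (S.X₃.iCycles i) (S.g.f i)) ≫
          inv (RDer.cyclesComparison Ψ S.X₃ i) := by
      rw [← hlz, Category.assoc, IsIso.hom_inv_id, Category.comp_id]
    rw [this]
    infer_instance
  rw [← cancel_epi (((Ψ.mapHomologicalComplex c).obj S.X₃).homologyπ i),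
    ← cancel_epi (((Ψ.mapHomologicalComplex c).obj S.X₃).liftCycles
      (Ψ.map (pullback.fst (S.X₃.iCycles i) (S.g.f i) ≫ S.X₃.iCycles i)) j hnext
      (map_comp_d_eq_zero Ψ S.X₃ i j _ hx₃))]
  exact key

end H9FE.DeltaCmp
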