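import Mathlib
import Groth.Prelude.Def_RDer
import Groth.Prelude.Def_RDerDelta
import Groth.Agent.Lib.Helper5.RDerPaste.Paste2
import Groth.Agent.Lib.Helper3.RDerS
import Groth.Agent.Lib.Helper9.FE.DeltaCmp

/-! helper9: the abstract base change map in adjoint form (`bcAdj` of helper5) is compatible with
the connecting morphisms of the right derived functors, and is natural. -/

set_option autoImplicit false
set_option linter.unusedSectionVars false
set_option linter.style.haveILetI false
set_option backward.isDefEq.respectTransparency false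
open CategoryTheory CategoryTheory.Limits HomologicalComplex
open Groth.Agent.Helper3.RDerS Groth.Agent.Lib.Helper5.RDerPaste

namespace H9FE.DeltaBc

universe v₁ v₂ v₃ v₄ u₁ u₂ u₃ u₄

section StrictLift

variable {A : Type u₁} [Category.{v₁} A] [Abelian A] {A' : Type u₂} [Category.{v₂} A'] [Abelian A']
  (Φ : A' ⥤ A) [Φ.Additive] [Φ.PreservesInjectiveObjects]
  {S : ShortComplex A} (T : RDer.SESRes S) {S' : ShortComplex A'} (T' : RDer.SESRes S')
  (φ : S ⟶ S'.map Φ)

lemma mapShortComplex_map_zero (X Y : ShortComplex A') :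
    Φ.mapShortComplex.map (0 : X ⟶ Y) = 0 := by
  ext
  · exact Φ.map_zero _ _
  · exact Φ.map_zero _ _
  · exact Φ.map_zero _ _

/-- `Φ` applied termwise to the resolution `T'`, a cochain complex of short complexes -/
def KΦ : CochainComplex (ShortComplex A) ℕ where
  X n := (Kx T' n).map Φ
  d i j := Φ.mapShortComplex.map ((K T').d i j)
  shape i j h := by
    rw [(K T').shape i j h]
    exact mapShortComplex_map_zero Φ _ _
  d_comp_d' i j k _ _ := by
    have h : Φ.mapShortComplex.map ((K T').d i j ≫ (K T').d j k) =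
        Φ.mapShortComplex.map 0 := by rw [(K T').d_comp_d]
    rw [Functor.map_comp, mapShortComplex_map_zero] at h
    exact h

instance KΦ_injective (n : ℕ) : Injective ((KΦ Φ T').X n) := by
  haveI : Injective ((Kx T' n).map Φ).X₁ := by
    haveI := T'.I₁.injective n
    exact Φ.injective_obj (T'.I₁.cocomplex.X n)
  haveI : Injective ((Kx T' n).map Φ).X₃ := by
    haveI := T'.I₃.injective n
    exact Φ.injective_obj (T'.I₃.cocomplex.X n)
  exact injective_of_splitting ((Kx T' n).map Φ) ((T'.splitting n).map Φ)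

/-- the augmentation of `KΦ` over `φ` -/
def ηΦ : S ⟶ (KΦ Φ T').X 0 := φ ≫ Φ.mapShortComplex.map (η T')

lemma ηΦ_d : ηΦ Φ T' φ ≫ (KΦ Φ T').d 0 1 = 0 := by
  unfold ηΦ
  rw [Category.assoc]
  have h : Φ.mapShortComplex.map (η T' ≫ (K T').d 0 1) = Φ.mapShortComplex.map 0 := by
    rw [η_d]
  rw [Functor.map_comp, mapShortComplex_map_zero] at h
  show φ ≫ Φ.mapShortComplex.map (η T') ≫ Φ.mapShortComplex.map ((K T').d 0 1) = 0
  rw [h, comp_zero]

/-- the augmentation of `K T` -/
noncomputable def ιK : (CochainComplex.single₀ (ShortComplex A)).obj S ⟶ K T := (toRes T).ι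

instance : QuasiIso (ιK T) := (toRes T).quasiIso

lemma ιK_f_zero : (ιK T).f 0 = η T := toRes_ι_f_zero T

/-- the strict lift, as a cochain map of complexes of short complexes -/
noncomputable def sl : K T ⟶ KΦ Φ T' :=
  RDer.descToInjectives (𝟙 S) (K T) (ιK T) (KΦ Φ T')
    ((CochainComplex.fromSingle₀Equiv (KΦ Φ T') S).symm ⟨ηΦ Φ T' φ, ηΦ_d Φ T' φ⟩)

lemma η_sl : η T ≫ (sl Φ T T' φ).f 0 = ηΦ Φ T' φ := by
  have h := RDer.ι_descToInjectives_f_zero (𝟙 S) (K T) (ιK T) (KΦ Φ T')
    ((CochainComplex.fromSingle₀Equiv (KΦ Φ T') S).symm ⟨ηΦ Φ T' φ, ηΦ_d Φ T' φ⟩)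
  rw [ιK_f_zero, Category.id_comp,
    CochainComplex.fromSingle₀Equiv_symm_apply_f_zero] at h
  exact h

noncomputable def sl₁ : T.I₁.cocomplex ⟶ (Φ.mapHomologicalComplex _).obj T'.I₁.cocomplex where
  f n := ((sl Φ T T' φ).f n).τ₁
  comm' i j _ := congrArg ShortComplex.Hom.τ₁ ((sl Φ T T' φ).comm i j)

noncomputable def sl₂ : T.I₂.cocomplex ⟶ (Φ.mapHomologicalComplex _).obj T'.I₂.cocomplex where
  f n := ((sl Φ T T' φ).f n).τ₂
  comm' i j _ := congrArg ShortComplex.Hom.τ₂ ((sl Φ T T' φ).comm i j)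

noncomputable def sl₃ : T.I₃.cocomplex ⟶ (Φ.mapHomologicalComplex _).obj T'.I₃.cocomplex where
  f n := ((sl Φ T T' φ).f n).τ₃
  comm' i j _ := congrArg ShortComplex.Hom.τ₃ ((sl Φ T T' φ).comm i j)

/-- the strict lift as a morphism of short complexes of complexes -/
noncomputable def slCx : T.cx ⟶ T'.cx.map (Φ.mapHomologicalComplex (ComplexShape.up ℕ)) where
  τ₁ := sl₁ Φ T T' φ
  τ₂ := sl₂ Φ T T' φ
  τ₃ := sl₃ Φ T T' φ
  comm₁₂ := by
    ext n
    exact ((sl Φ T T' φ).f n).comm₁₂
  comm₂₃ := by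
    ext n
    exact ((sl Φ T T' φ).f n).comm₂₃

lemma ι_sl₁ : T.I₁.ι.f 0 ≫ (sl₁ Φ T T' φ).f 0 = φ.τ₁ ≫ Φ.map (T'.I₁.ι.f 0) :=
  congrArg ShortComplex.Hom.τ₁ (η_sl Φ T T' φ)

lemma ι_sl₃ : T.I₃.ι.f 0 ≫ (sl₃ Φ T T' φ).f 0 = φ.τ₃ ≫ Φ.map (T'.I₃.ι.f 0) :=
  congrArg ShortComplex.Hom.τ₃ (η_sl Φ T T' φ)

end StrictLift

section Formula

variable {A : Type u₁} [Category.{v₁} A] [Abelian A] [HasInjectiveResolutions A]
  {B : Type u₂} [Category.{v₂} B] [Abelian B] [HasInjectiveResolutions B]
  {A' : Type u₃} [Category.{v₃} A'] [Abelian A'] [HasInjectiveResolutions A']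
  {B' : Type u₄} [Category.{v₄} B'] [Abelian B'] [HasInjectiveResolutions B']
  (Φf : A ⥤ B) [Φf.Additive] (Φg' : A' ⥤ A) [Φg'.Additive]
  [Φg'.PreservesInjectiveObjects] (Φf' : A' ⥤ B') [Φf'.Additive] (Φg : B' ⥤ B) [Φg.Additive]
  [PreservesFiniteLimits Φg] {Lg' : A ⥤ A'} (adj : Lg' ⊣ Φg') (α : Φg' ⋙ Φf ≅ Φf' ⋙ Φg)

/-- the middle part of the formula for `bcAdj` is natural in the complex -/
lemma mid_natural {J J' : CochainComplex A' ℕ} (v : J ⟶ J') (q : ℕ) :
    homologyMap ((Φf.mapHomologicalComplex _).map ((Φg'.mapHomologicalComplex _).map v)) q ≫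
      homologyMap ((NatTrans.mapHomologicalComplex α.hom _).app J') q ≫
      RDer.homologyComparison Φg ((Φf'.mapHomologicalComplex _).obj J') q =
    homologyMap ((NatTrans.mapHomologicalComplex α.hom _).app J) q ≫
      RDer.homologyComparison Φg ((Φf'.mapHomologicalComplex _).obj J) q ≫
      Φg.map (homologyMap ((Φf'.mapHomologicalComplex _).map v) q) := by
  have e3 : homologyMap ((Φf.mapHomologicalComplex _).map ((Φg'.mapHomologicalComplex _).map v)) q ≫
      homologyMap ((NatTrans.mapHomologicalComplex α.hom _).app J') q =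
      homologyMap ((NatTrans.mapHomologicalComplex α.hom _).app J) q ≫
        homologyMap ((Φg.mapHomologicalComplex _).map ((Φf'.mapHomologicalComplex _).map v)) q := by
    rw [← homologyMap_comp, ← homologyMap_comp]
    congr 1
    ext n
    exact α.hom.naturality (v.f n)
  have e4 := homologyMap_homologyComparison Φg ((Φf'.mapHomologicalComplex _).map v) q
  rw [reassoc_of% e3, e4]

/-- complex level formula for `bcAdj`, for arbitrary injective resolutions -/
theorem bcAdj_eqG (q : ℕ) (F : A) (I : InjectiveResolution F)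
    (J : InjectiveResolution (Lg'.obj F))
    (a : I.cocomplex ⟶ (Φg'.mapHomologicalComplex _).obj J.cocomplex)
    (ha : I.ι.f 0 ≫ a.f 0 = adj.unit.app F ≫ Φg'.map (J.ι.f 0)) :
    bcAdj Φf Φg' Φf' Φg adj α q F =
      (I.isoRightDerivedObj Φf q).hom ≫
        homologyMap ((Φf.mapHomologicalComplex _).map a) q ≫
        homologyMap ((NatTrans.mapHomologicalComplex α.hom _).app J.cocomplex) q ≫
        RDer.homologyComparison Φg ((Φf'.mapHomologicalComplex _).obj J.cocomplex) q ≫
        Φg.map (J.isoRightDerivedObj Φf' q).inv := by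
  have hu : (injectiveResolution F).ι.f 0 ≫
      (InjectiveResolution.desc (𝟙 F) I (injectiveResolution F)).f 0 = I.ι.f 0 :=
    (InjectiveResolution.desc_commutes_zero _ _ _).trans (Category.id_comp _)
  have hv : J.ι.f 0 ≫
      (InjectiveResolution.desc (𝟙 (Lg'.obj F)) (injectiveResolution (Lg'.obj F)) J).f 0 =
        (injectiveResolution (Lg'.obj F)).ι.f 0 :=
    (InjectiveResolution.desc_commutes_zero _ _ _).trans (Category.id_comp _)
  have ha₀ : IsLift Φg' (adj.unit.app F)
      (InjectiveResolution.desc (𝟙 F) I (injectiveResolution F) ≫ a ≫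
        (Φg'.mapHomologicalComplex _).map
          (InjectiveResolution.desc (𝟙 (Lg'.obj F)) (injectiveResolution (Lg'.obj F)) J)) := by
    rw [isLift_iff]
    simp only [HomologicalComplex.comp_f, Functor.mapHomologicalComplex_map_f]
    rw [reassoc_of% hu, reassoc_of% ha, ← Φg'.map_comp, hv]
  rw [bcAdj_eq Φf Φg' Φf' Φg adj α q F _ ha₀]
  have e1 : ((injectiveResolution F).isoRightDerivedObj Φf q).hom ≫
      homologyMap ((Φf.mapHomologicalComplex _).map
        (InjectiveResolution.desc (𝟙 F) I (injectiveResolution F))) q =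
      (I.isoRightDerivedObj Φf q).hom := by
    have := InjectiveResolution.isoRightDerivedObj_hom_naturality (𝟙 F) (injectiveResolution F) I
      _ (hu.trans (Category.id_comp _).symm) Φf q
    rw [CategoryTheory.Functor.map_id, Category.id_comp] at this
    exact this.symm
  have e2 : homologyMap ((Φf'.mapHomologicalComplex _).map
      (InjectiveResolution.desc (𝟙 (Lg'.obj F)) (injectiveResolution (Lg'.obj F)) J)) q ≫
      ((injectiveResolution (Lg'.obj F)).isoRightDerivedObj Φf' q).inv =
      (J.isoRightDerivedObj Φf' q).inv := by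
    have := InjectiveResolution.isoRightDerivedObj_inv_naturality (𝟙 (Lg'.obj F)) J
      (injectiveResolution (Lg'.obj F)) _ (hv.trans (Category.id_comp _).symm) Φf' q
    rw [CategoryTheory.Functor.map_id, Category.comp_id] at this
    exact this.symm
  rw [← e1, ← e2, Φg.map_comp, Functor.map_comp, Functor.map_comp, homologyMap_comp,
    homologyMap_comp]
  simp only [Category.assoc]
  rw [reassoc_of% (mid_natural Φf Φg' Φf' Φg α
    (InjectiveResolution.desc (𝟙 (Lg'.obj F)) (injectiveResolution (Lg'.obj F)) J) q)]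

/-- naturality of `bcAdj` -/
theorem bcAdj_naturality (q : ℕ) {F G : A} (φ : F ⟶ G) :
    (Φf.rightDerived q).map φ ≫ bcAdj Φf Φg' Φf' Φg adj α q G =
      bcAdj Φf Φg' Φf' Φg adj α q F ≫
        Φg.map ((Φf'.rightDerived q).map (Lg'.map φ)) := by
  obtain ⟨aF, haF⟩ : ∃ a : (injectiveResolution F).cocomplex ⟶
      (Φg'.mapHomologicalComplex _).obj (injectiveResolution (Lg'.obj F)).cocomplex,
      IsLift Φg' (adj.unit.app F) a := exists_isLift Φg' (adj.unit.app F)
  obtain ⟨aG, haG⟩ : ∃ a : (injectiveResolution G).cocomplex ⟶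
      (Φg'.mapHomologicalComplex _).obj (injectiveResolution (Lg'.obj G)).cocomplex,
      IsLift Φg' (adj.unit.app G) a := exists_isLift Φg' (adj.unit.app G)
  rw [isLift_iff] at haF haG
  have hu : (injectiveResolution F).ι.f 0 ≫
      (InjectiveResolution.desc φ (injectiveResolution G) (injectiveResolution F)).f 0 =
        φ ≫ (injectiveResolution G).ι.f 0 :=
    InjectiveResolution.desc_commutes_zero _ _ _
  have hv : (injectiveResolution (Lg'.obj F)).ι.f 0 ≫
      (InjectiveResolution.desc (Lg'.map φ) (injectiveResolution (Lg'.obj G))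
        (injectiveResolution (Lg'.obj F))).f 0 =
        Lg'.map φ ≫ (injectiveResolution (Lg'.obj G)).ι.f 0 :=
    InjectiveResolution.desc_commutes_zero _ _ _
  rw [bcAdj_eqG Φf Φg' Φf' Φg adj α q G _ _ aG haG, bcAdj_eqG Φf Φg' Φf' Φg adj α q F _ _ aF haF]
  have e1 : (Φf.rightDerived q).map φ ≫ ((injectiveResolution G).isoRightDerivedObj Φf q).hom =
      ((injectiveResolution F).isoRightDerivedObj Φf q).hom ≫
        homologyMap ((Φf.mapHomologicalComplex _).map
          (InjectiveResolution.desc φ (injectiveResolution G) (injectiveResolution F))) q :=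
    InjectiveResolution.isoRightDerivedObj_hom_naturality φ (injectiveResolution F)
      (injectiveResolution G) _ hu Φf q
  have e2 : ((injectiveResolution (Lg'.obj F)).isoRightDerivedObj Φf' q).inv ≫
      (Φf'.rightDerived q).map (Lg'.map φ) =
      homologyMap ((Φf'.mapHomologicalComplex _).map
        (InjectiveResolution.desc (Lg'.map φ) (injectiveResolution (Lg'.obj G))
          (injectiveResolution (Lg'.obj F)))) q ≫
        ((injectiveResolution (Lg'.obj G)).isoRightDerivedObj Φf' q).inv :=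
    InjectiveResolution.isoRightDerivedObj_inv_naturality (Lg'.map φ)
      (injectiveResolution (Lg'.obj F)) (injectiveResolution (Lg'.obj G)) _ hv Φf' q
  have e2' : Φg.map ((injectiveResolution (Lg'.obj F)).isoRightDerivedObj Φf' q).inv ≫
      Φg.map ((Φf'.rightDerived q).map (Lg'.map φ)) =
      Φg.map (homologyMap ((Φf'.mapHomologicalComplex _).map
        (InjectiveResolution.desc (Lg'.map φ) (injectiveResolution (Lg'.obj G))
          (injectiveResolution (Lg'.obj F)))) q) ≫
        Φg.map ((injectiveResolution (Lg'.obj G)).isoRightDerivedObj Φf' q).inv := by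
    rw [← Φg.map_comp, ← Φg.map_comp, e2]
  have e5 : homologyMap ((Φf.mapHomologicalComplex _).map
      (InjectiveResolution.desc φ (injectiveResolution G) (injectiveResolution F))) q ≫
        homologyMap ((Φf.mapHomologicalComplex _).map aG) q =
      homologyMap ((Φf.mapHomologicalComplex _).map aF) q ≫
        homologyMap ((Φf.mapHomologicalComplex _).map ((Φg'.mapHomologicalComplex _).map
          (InjectiveResolution.desc (Lg'.map φ) (injectiveResolution (Lg'.obj G))
            (injectiveResolution (Lg'.obj F))))) q := by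
    rw [← homologyMap_comp, ← homologyMap_comp, ← Functor.map_comp, ← Functor.map_comp]
    apply homologyMap_map_eq (injectiveResolution F)
    apply HomologicalComplex.from_single_hom_ext
    simp only [HomologicalComplex.comp_f, Functor.mapHomologicalComplex_map_f]
    rw [reassoc_of% hu, haG, reassoc_of% haF, ← Φg'.map_comp, hv, Φg'.map_comp]
    exact (adj.unit.naturality_assoc φ _)
  rw [reassoc_of% e1, reassoc_of% e5,
    reassoc_of% (mid_natural Φf Φg' Φf' Φg α
      (InjectiveResolution.desc (Lg'.map φ) (injectiveResolution (Lg'.obj G))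
        (injectiveResolution (Lg'.obj F))) q)]
  simp only [Category.assoc]
  rw [e2']

/-- the unit as a morphism of short complexes -/
def unitSC [Lg'.Additive] (S : ShortComplex A) : S ⟶ (S.map Lg').map Φg' where
  τ₁ := adj.unit.app S.X₁
  τ₂ := adj.unit.app S.X₂
  τ₃ := adj.unit.app S.X₃
  comm₁₂ := (adj.unit.naturality S.f).symm
  comm₂₃ := (adj.unit.naturality S.g).symm

/-- the morphism of short complexes of complexes induced by `α` -/
def αSC {S' : ShortComplex A'} (T' : RDer.SESRes S') :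
    (T'.cx.map (Φg'.mapHomologicalComplex _)).map (Φf.mapHomologicalComplex _) ⟶
      (T'.cx.map (Φf'.mapHomologicalComplex _)).map (Φg.mapHomologicalComplex _) where
  τ₁ := (NatTrans.mapHomologicalComplex α.hom _).app T'.I₁.cocomplex
  τ₂ := (NatTrans.mapHomologicalComplex α.hom _).app T'.I₂.cocomplex
  τ₃ := (NatTrans.mapHomologicalComplex α.hom _).app T'.I₃.cocomplex
  comm₁₂ := by
    ext n
    exact (α.hom.naturality (T'.f.f n)).symm
  comm₂₃ := by
    ext n
    exact (α.hom.naturality (T'.g.f n)).symm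

lemma shortExact_map_map {S' : ShortComplex A'} (T' : RDer.SESRes S')
    {X : Type*} [Category X] [Abelian X] {Y : Type*} [Category Y] [Abelian Y]
    (P : A' ⥤ X) [P.Additive] (Q : X ⥤ Y) [Q.Additive] :
    ((T'.cx.map (P.mapHomologicalComplex (ComplexShape.up ℕ))).map
      (Q.mapHomologicalComplex (ComplexShape.up ℕ))).ShortExact := by
  apply HomologicalComplex.shortExact_of_degreewise_shortExact
  intro n
  exact (((T'.splitting n).map P).map Q).shortExact

/-- **the base change map in adjoint form is compatible with the connecting morphisms** -/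
theorem delta_bcAdj [Lg'.Additive] {S : ShortComplex A} (T : RDer.SESRes S)
    (T' : RDer.SESRes (S.map Lg')) (q q' : ℕ) (h : q + 1 = q') :
    T.delta Φf q q' h ≫ bcAdj Φf Φg' Φf' Φg adj α q' S.X₁ =
      bcAdj Φf Φg' Φf' Φg adj α q S.X₃ ≫ Φg.map (T'.delta Φf' q q' h) := by
  have ha₁ : T.I₁.ι.f 0 ≫ (sl₁ Φg' T T' (unitSC Φg' adj S)).f 0 =
      adj.unit.app S.X₁ ≫ Φg'.map (T'.I₁.ι.f 0) := ι_sl₁ Φg' T T' (unitSC Φg' adj S)
  have ha₃ : T.I₃.ι.f 0 ≫ (sl₃ Φg' T T' (unitSC Φg' adj S)).f 0 =
      adj.unit.app S.X₃ ≫ Φg'.map (T'.I₃.ι.f 0) := ι_sl₃ Φg' T T' (unitSC Φg' adj S)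
  rw [bcAdj_eqG Φf Φg' Φf' Φg adj α q' S.X₁ T.I₁ T'.I₁ _ ha₁,
    bcAdj_eqG Φf Φg' Φf' Φg adj α q S.X₃ T.I₃ T'.I₃ _ ha₃,
    RDer.SESRes.delta_comp_isoRightDerivedObj_hom_assoc]
  have hS₂ := shortExact_map_map T' Φg' Φf
  have hS₃ := shortExact_map_map T' Φf' Φg
  have nat1 : (T.map_shortExact Φf).δ q q' h ≫
      homologyMap ((Φf.mapHomologicalComplex _).map (sl₁ Φg' T T' (unitSC Φg' adj S))) q' =
      homologyMap ((Φf.mapHomologicalComplex _).map (sl₃ Φg' T T' (unitSC Φg' adj S))) q ≫
        hS₂.δ q q' h :=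
    HomologySequence.δ_naturality
      ((Φf.mapHomologicalComplex _).mapShortComplex.map (slCx Φg' T T' (unitSC Φg' adj S)))
      (T.map_shortExact Φf) hS₂ q q' h
  have nat2 : hS₂.δ q q' h ≫
      homologyMap ((NatTrans.mapHomologicalComplex α.hom _).app T'.I₁.cocomplex) q' =
      homologyMap ((NatTrans.mapHomologicalComplex α.hom _).app T'.I₃.cocomplex) q ≫
        hS₃.δ q q' h :=
    HomologySequence.δ_naturality (αSC Φf Φg' Φf' Φg α T') hS₂ hS₃ q q' h
  have cmp : hS₃.δ q q' h ≫ RDer.homologyComparison Φg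
      ((Φf'.mapHomologicalComplex _).obj T'.I₁.cocomplex) q' =
      RDer.homologyComparison Φg ((Φf'.mapHomologicalComplex _).obj T'.I₃.cocomplex) q ≫
        Φg.map ((T'.map_shortExact Φf').δ q q' h) :=
    H9FE.DeltaCmp.δ_homologyComparison Φg (T'.cx.map (Φf'.mapHomologicalComplex _))
      (T'.map_shortExact Φf') hS₃ q q' h
  simp only [Category.assoc]
  rw [reassoc_of% nat1, reassoc_of% nat2, reassoc_of% cmp]
  congr 4
  rw [← Φg.map_comp, ← Φg.map_comp]
  congr 1
  unfold RDer.SESRes.delta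
  rw [Iso.inv_hom_id_assoc]

end Formula

end H9FE.DeltaBc
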