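import Mathlib
import Groth.Prelude.Def_RDer
import Groth.Agent.Lib.Helper5.RDerPaste.Paste2
import Groth.Agent.Lib.Helper5.Misc.RDComp
import Groth.Agent.Lib.Helper9.FE.DeltaBc

/-! helper9: **source side pasting** of base change maps in adjoint form: for an exact functor
`Φπ` preserving injectives, the base change map of `Φπ ⋙ Φf` at `G` against the base change map of
`Φf` at `Φπ G`. -/

set_option autoImplicit false
set_option linter.unusedSectionVars false
set_option linter.style.haveILetI false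
set_option backward.isDefEq.respectTransparency false
open CategoryTheory CategoryTheory.Limits HomologicalComplex

namespace H9FE.BcQSPaste
open Groth.Agent.Lib.Helper5.RDerPaste Groth.Agent.Lib.Helper5.Misc.RDComp

universe v₁ v₂ v₃ v₄ v₅ v₆ u₁ u₂ u₃ u₄ u₅ u₆

section

variable {A : Type u₁} [Category.{v₁} A] [Abelian A] [HasInjectiveResolutions A]
  {B : Type u₂} [Category.{v₂} B] [Abelian B] [HasInjectiveResolutions B]
  {A' : Type u₃} [Category.{v₃} A'] [Abelian A'] [HasInjectiveResolutions A']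
  {B' : Type u₄} [Category.{v₄} B'] [Abelian B'] [HasInjectiveResolutions B']
  (Φf : A ⥤ B) [Φf.Additive] (Φg' : A' ⥤ A) [Φg'.Additive]
  [Φg'.PreservesInjectiveObjects] (Φf' : A' ⥤ B') [Φf'.Additive] (Φg : B' ⥤ B) [Φg.Additive]
  [PreservesFiniteLimits Φg] {Lg' : A ⥤ A'} (adj : Lg' ⊣ Φg') (α : Φg' ⋙ Φf ≅ Φf' ⋙ Φg)

/-- variant of `bcAdj_eqG`: the base change map followed by the map induced by a morphism out of
`Lg' F`, computed on arbitrary resolutions -/
theorem bcAdj_comp_map_eq (q : ℕ) (F : A) (I : InjectiveResolution F) {N : A'}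
    (φ : Lg'.obj F ⟶ N) (J : InjectiveResolution N)
    (a : I.cocomplex ⟶ (Φg'.mapHomologicalComplex _).obj J.cocomplex)
    (ha : I.ι.f 0 ≫ a.f 0 = adj.unit.app F ≫ Φg'.map (φ ≫ J.ι.f 0)) :
    bcAdj Φf Φg' Φf' Φg adj α q F ≫ Φg.map ((Φf'.rightDerived q).map φ) =
      (I.isoRightDerivedObj Φf q).hom ≫
        homologyMap ((Φf.mapHomologicalComplex _).map a) q ≫
        homologyMap ((NatTrans.mapHomologicalComplex α.hom _).app J.cocomplex) q ≫
        RDer.homologyComparison Φg ((Φf'.mapHomologicalComplex _).obj J.cocomplex) q ≫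
        Φg.map (J.isoRightDerivedObj Φf' q).inv := by
  let a₀ : I.cocomplex ⟶ (Φg'.mapHomologicalComplex _).obj
      (injectiveResolution (Lg'.obj F)).cocomplex :=
    RDer.descToInjectives (adj.unit.app F) I.cocomplex I.ι _
      (RDer.mapAug Φg' (injectiveResolution (Lg'.obj F)).ι)
  have ha₀ : I.ι.f 0 ≫ a₀.f 0 =
      adj.unit.app F ≫ Φg'.map ((injectiveResolution (Lg'.obj F)).ι.f 0) := by
    have := RDer.ι_descToInjectives_f_zero (adj.unit.app F) I.cocomplex I.ι _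
      (RDer.mapAug Φg' (injectiveResolution (Lg'.obj F)).ι)
    rw [mapAug_f_zero] at this
    exact this
  have hv : (injectiveResolution (Lg'.obj F)).ι.f 0 ≫
      (InjectiveResolution.desc φ J (injectiveResolution (Lg'.obj F))).f 0 = φ ≫ J.ι.f 0 :=
    InjectiveResolution.desc_commutes_zero _ _ _
  rw [H9FE.DeltaBc.bcAdj_eqG Φf Φg' Φf' Φg adj α q F I _ a₀ ha₀]
  have e2 : ((injectiveResolution (Lg'.obj F)).isoRightDerivedObj Φf' q).inv ≫
      (Φf'.rightDerived q).map φ =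
      homologyMap ((Φf'.mapHomologicalComplex _).map
        (InjectiveResolution.desc φ J (injectiveResolution (Lg'.obj F)))) q ≫
        (J.isoRightDerivedObj Φf' q).inv :=
    InjectiveResolution.isoRightDerivedObj_inv_naturality φ
      (injectiveResolution (Lg'.obj F)) J _ hv Φf' q
  have e2' : Φg.map ((injectiveResolution (Lg'.obj F)).isoRightDerivedObj Φf' q).inv ≫
      Φg.map ((Φf'.rightDerived q).map φ) =
      Φg.map (homologyMap ((Φf'.mapHomologicalComplex _).map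
        (InjectiveResolution.desc φ J (injectiveResolution (Lg'.obj F)))) q) ≫
        Φg.map (J.isoRightDerivedObj Φf' q).inv := by
    rw [← Φg.map_comp, ← Φg.map_comp, e2]
  have e5 : homologyMap ((Φf.mapHomologicalComplex _).map a) q =
      homologyMap ((Φf.mapHomologicalComplex _).map a₀) q ≫
        homologyMap ((Φf.mapHomologicalComplex _).map ((Φg'.mapHomologicalComplex _).map
          (InjectiveResolution.desc φ J (injectiveResolution (Lg'.obj F))))) q := by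
    rw [← homologyMap_comp, ← Functor.map_comp]
    apply homologyMap_map_eq I
    apply HomologicalComplex.from_single_hom_ext
    simp only [HomologicalComplex.comp_f, Functor.mapHomologicalComplex_map_f]
    rw [ha, reassoc_of% ha₀, ← Φg'.map_comp, hv]
  rw [e5]
  simp only [Category.assoc]
  rw [reassoc_of% (H9FE.DeltaBc.mid_natural Φf Φg' Φf' Φg α
      (InjectiveResolution.desc φ J (injectiveResolution (Lg'.obj F))) q), e2']

end

section Paste

variable {A : Type u₁} [Category.{v₁} A] [Abelian A] [HasInjectiveResolutions A]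
  {B : Type u₂} [Category.{v₂} B] [Abelian B] [HasInjectiveResolutions B]
  {A' : Type u₃} [Category.{v₃} A'] [Abelian A'] [HasInjectiveResolutions A']
  {B' : Type u₄} [Category.{v₄} B'] [Abelian B'] [HasInjectiveResolutions B']
  {A₂ : Type u₅} [Category.{v₅} A₂] [Abelian A₂] [HasInjectiveResolutions A₂]
  {A₂' : Type u₆} [Category.{v₆} A₂'] [Abelian A₂'] [HasInjectiveResolutions A₂']
  (Φf : A ⥤ B) [Φf.Additive] (Φg' : A' ⥤ A) [Φg'.Additive]
  [Φg'.PreservesInjectiveObjects] (Φf' : A' ⥤ B') [Φf'.Additive] (Φg : B' ⥤ B) [Φg.Additive]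
  [PreservesFiniteLimits Φg] {Lg' : A ⥤ A'} (adj : Lg' ⊣ Φg') (α : Φg' ⋙ Φf ≅ Φf' ⋙ Φg)
  (Φπ : A₂ ⥤ A) [Φπ.Additive] [Φπ.PreservesInjectiveObjects] [Φπ.PreservesHomology]
  (Φπ' : A₂' ⥤ A') [Φπ'.Additive] [Φπ'.PreservesInjectiveObjects] [Φπ'.PreservesHomology]
  (Φfπ : A₂ ⥤ B) [Φfπ.Additive] (Φf'π : A₂' ⥤ B') [Φf'π.Additive]
  (Φg₂ : A₂' ⥤ A₂) [Φg₂.Additive] [Φg₂.PreservesInjectiveObjects]
  {Lg₂ : A₂ ⥤ A₂'} (adj₂ : Lg₂ ⊣ Φg₂) (α₂ : Φg₂ ⋙ Φfπ ≅ Φf'π ⋙ Φg)
  (β : Φg₂ ⋙ Φπ ≅ Φπ' ⋙ Φg') (γ : Φπ ⋙ Φf ≅ Φfπ) (γ' : Φπ' ⋙ Φf' ≅ Φf'π)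
  {Lg : B ⥤ B'} (adjg : Lg ⊣ Φg)

/-- the degree zero base change map of the square `β` -/
def bS (G : A₂) : Lg'.obj (Φπ.obj G) ⟶ Φπ'.obj (Lg₂.obj G) :=
  (adj.homEquiv _ _).symm (Φπ.map (adj₂.unit.app G) ≫ β.hom.app (Lg₂.obj G))

lemma unit_bS (G : A₂) : adj.unit.app (Φπ.obj G) ≫ Φg'.map (bS Φg' adj Φπ Φπ' Φg₂ adj₂ β G) =
    Φπ.map (adj₂.unit.app G) ≫ β.hom.app (Lg₂.obj G) :=
  (Adjunction.homEquiv_unit adj _ _ _).symm.trans (Equiv.apply_symm_apply (adj.homEquiv _ _) _)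

/-- **source side pasting**: if the base change map of the outer square is an isomorphism at `G`
and the degree zero base change map of the square `β` is an isomorphism at `G`, then the base
change map of the inner square is an isomorphism at `Φπ G`. -/
theorem isIso_transpose_inner
    (hC : ∀ M : A₂', γ.hom.app (Φg₂.obj M) ≫ α₂.hom.app M =
      Φf.map (β.hom.app M) ≫ α.hom.app (Φπ'.obj M) ≫ Φg.map (γ'.hom.app M))
    (q : ℕ) (G : A₂) [IsIso (bS Φg' adj Φπ Φπ' Φg₂ adj₂ β G)]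
    (hout : IsIso ((adjg.homEquiv _ _).symm (bcAdj Φfπ Φg₂ Φf'π Φg adj₂ α₂ q G))) :
    IsIso ((adjg.homEquiv _ _).symm (bcAdj Φf Φg' Φf' Φg adj α q (Φπ.obj G))) := by
  obtain ⟨a₂, ha₂⟩ : ∃ a : (injectiveResolution G).cocomplex ⟶
      (Φg₂.mapHomologicalComplex _).obj (injectiveResolution (Lg₂.obj G)).cocomplex,
      IsLift Φg₂ (adj₂.unit.app G) a := exists_isLift Φg₂ (adj₂.unit.app G)
  have ha₂' := (isLift_iff Φg₂ (adj₂.unit.app G) a₂).1 ha₂
  let I := injectiveResolution G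
  let J := injectiveResolution (Lg₂.obj G)
  let PI : InjectiveResolution (Φπ.obj G) := mapInjectiveResolution Φπ I
  let PJ : InjectiveResolution (Φπ'.obj (Lg₂.obj G)) := mapInjectiveResolution Φπ' J
  let b := bS Φg' adj Φπ Φπ' Φg₂ adj₂ β G
  let a : PI.cocomplex ⟶ (Φg'.mapHomologicalComplex _).obj PJ.cocomplex :=
    (Φπ.mapHomologicalComplex _).map a₂ ≫ tw β.hom J.cocomplex
  have hPI : PI.ι.f 0 = Φπ.map (I.ι.f 0) := mapAug_f_zero Φπ I
  have hPJ : PJ.ι.f 0 = Φπ'.map (J.ι.f 0) := mapAug_f_zero Φπ' J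
  have ha : PI.ι.f 0 ≫ a.f 0 = adj.unit.app (Φπ.obj G) ≫ Φg'.map (b ≫ PJ.ι.f 0) := by
    rw [hPI, hPJ, Φg'.map_comp, ← Category.assoc (adj.unit.app (Φπ.obj G)),
      unit_bS Φg' adj Φπ Φπ' Φg₂ adj₂ β G]
    show Φπ.map (I.ι.f 0) ≫ Φπ.map (a₂.f 0) ≫ β.hom.app (J.cocomplex.X 0) = _
    rw [← Category.assoc, ← Φπ.map_comp, ha₂', Φπ.map_comp, Category.assoc, Category.assoc]
    congr 1
    exact β.hom.naturality (J.ι.f 0)
  have E1 := bcAdj_comp_map_eq Φf Φg' Φf' Φg adj α q (Φπ.obj G) PI b PJ a ha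
  have E2 : bcAdj Φfπ Φg₂ Φf'π Φg adj₂ α₂ q G =
      (I.isoRightDerivedObj Φfπ q).hom ≫
        homologyMap ((Φfπ.mapHomologicalComplex _).map a₂) q ≫
        homologyMap ((NatTrans.mapHomologicalComplex α₂.hom _).app J.cocomplex) q ≫
        RDer.homologyComparison Φg ((Φf'π.mapHomologicalComplex _).obj J.cocomplex) q ≫
        Φg.map (J.isoRightDerivedObj Φf'π q).inv :=
    bcAdj_eq Φfπ Φg₂ Φf'π Φg adj₂ α₂ q G a₂ ha₂
  -- the chain level identity
  have CH : (Φf.mapHomologicalComplex _).map a ≫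
      (NatTrans.mapHomologicalComplex α.hom _).app PJ.cocomplex ≫
      (Φg.mapHomologicalComplex _).map (tw3 γ'.hom J.cocomplex) =
      tw3 γ.hom I.cocomplex ≫ (Φfπ.mapHomologicalComplex _).map a₂ ≫
        (NatTrans.mapHomologicalComplex α₂.hom _).app J.cocomplex := by
    ext n
    have hγ : γ.hom.app (I.cocomplex.X n) ≫ Φfπ.map (a₂.f n) =
        Φf.map (Φπ.map (a₂.f n)) ≫ γ.hom.app (Φg₂.obj (J.cocomplex.X n)) :=
      (γ.hom.naturality (a₂.f n)).symm
    show Φf.map (Φπ.map (a₂.f n) ≫ β.hom.app (J.cocomplex.X n)) ≫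
        α.hom.app (Φπ'.obj (J.cocomplex.X n)) ≫ Φg.map (γ'.hom.app (J.cocomplex.X n)) =
      γ.hom.app (I.cocomplex.X n) ≫ Φfπ.map (a₂.f n) ≫ α₂.hom.app (J.cocomplex.X n)
    rw [← Category.assoc (γ.hom.app _), hγ, Category.assoc, hC, Φf.map_comp, Category.assoc]
  have CHh : homologyMap ((Φf.mapHomologicalComplex _).map a) q ≫
      homologyMap ((NatTrans.mapHomologicalComplex α.hom _).app PJ.cocomplex) q ≫
      homologyMap ((Φg.mapHomologicalComplex _).map (tw3 γ'.hom J.cocomplex)) q =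
      homologyMap (tw3 γ.hom I.cocomplex) q ≫
        homologyMap ((Φfπ.mapHomologicalComplex _).map a₂) q ≫
        homologyMap ((NatTrans.mapHomologicalComplex α₂.hom _).app J.cocomplex) q := by
    rw [← homologyMap_comp, ← homologyMap_comp, ← homologyMap_comp, ← homologyMap_comp, CH]
  have NC : RDer.homologyComparison Φg ((Φf'.mapHomologicalComplex _).obj PJ.cocomplex) q ≫
      Φg.map (homologyMap (tw3 γ'.hom J.cocomplex) q) =
      homologyMap ((Φg.mapHomologicalComplex _).map (tw3 γ'.hom J.cocomplex)) q ≫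
        RDer.homologyComparison Φg ((Φf'π.mapHomologicalComplex _).obj J.cocomplex) q :=
    (homologyMap_homologyComparison Φg (tw3 γ'.hom J.cocomplex) q).symm
  -- the comparison isomorphisms
  haveI : ∀ n, IsIso ((tw3 γ.hom I.cocomplex).f n) := fun n =>
    inferInstanceAs (IsIso (γ.hom.app (I.cocomplex.X n)))
  haveI : IsIso (tw3 γ.hom I.cocomplex) := HomologicalComplex.Hom.isIso_of_components _
  haveI : IsIso (homologyMap (tw3 γ.hom I.cocomplex) q) :=
    inferInstanceAs (IsIso ((homologyFunctor B (ComplexShape.up ℕ) q).map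
      (tw3 γ.hom I.cocomplex)))
  haveI : ∀ n, IsIso ((tw3 γ'.hom J.cocomplex).f n) := fun n =>
    inferInstanceAs (IsIso (γ'.hom.app (J.cocomplex.X n)))
  haveI : IsIso (tw3 γ'.hom J.cocomplex) := HomologicalComplex.Hom.isIso_of_components _
  haveI : IsIso (homologyMap (tw3 γ'.hom J.cocomplex) q) :=
    inferInstanceAs (IsIso ((homologyFunctor B' (ComplexShape.up ℕ) q).map
      (tw3 γ'.hom J.cocomplex)))
  let θ : (Φf.rightDerived q).obj (Φπ.obj G) ⟶ (Φfπ.rightDerived q).obj G :=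
    (PI.isoRightDerivedObj Φf q).hom ≫ homologyMap (tw3 γ.hom I.cocomplex) q ≫
      (I.isoRightDerivedObj Φfπ q).inv
  let θ' : (Φf'.rightDerived q).obj (Φπ'.obj (Lg₂.obj G)) ⟶ (Φf'π.rightDerived q).obj (Lg₂.obj G) :=
    (PJ.isoRightDerivedObj Φf' q).hom ≫ homologyMap (tw3 γ'.hom J.cocomplex) q ≫
      (J.isoRightDerivedObj Φf'π q).inv
  haveI : IsIso θ := by dsimp only [θ]; infer_instance
  haveI : IsIso θ' := by dsimp only [θ']; infer_instance
  have key : bcAdj Φf Φg' Φf' Φg adj α q (Φπ.obj G) ≫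
      Φg.map ((Φf'.rightDerived q).map b ≫ θ') = θ ≫ bcAdj Φfπ Φg₂ Φf'π Φg adj₂ α₂ q G := by
    rw [Φg.map_comp, ← Category.assoc, E1, E2]
    dsimp only [θ, θ']
    simp only [Category.assoc, Functor.map_comp, Iso.inv_hom_id_assoc]
    rw [← Φg.map_comp_assoc, Iso.inv_hom_id, Φg.map_id, Category.id_comp,
      reassoc_of% NC, reassoc_of% CHh]
  haveI : IsIso ((Φf'.rightDerived q).map b) := inferInstance
  have e1 := Adjunction.homEquiv_naturality_right_symm adjg
    (bcAdj Φf Φg' Φf' Φg adj α q (Φπ.obj G)) ((Φf'.rightDerived q).map b ≫ θ')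
  have e2 := Adjunction.homEquiv_naturality_left_symm adjg θ
    (bcAdj Φfπ Φg₂ Φf'π Φg adj₂ α₂ q G)
  have e3 : (adjg.homEquiv _ _).symm (bcAdj Φf Φg' Φf' Φg adj α q (Φπ.obj G)) ≫
      ((Φf'.rightDerived q).map b ≫ θ') =
      Lg.map θ ≫ (adjg.homEquiv _ _).symm (bcAdj Φfπ Φg₂ Φf'π Φg adj₂ α₂ q G) :=
    e1.symm.trans ((congrArg _ key).trans e2)
  haveI := hout
  have e4 : (adjg.homEquiv _ _).symm (bcAdj Φf Φg' Φf' Φg adj α q (Φπ.obj G)) =
      (Lg.map θ ≫ (adjg.homEquiv _ _).symm (bcAdj Φfπ Φg₂ Φf'π Φg adj₂ α₂ q G)) ≫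
        inv ((Φf'.rightDerived q).map b ≫ θ') := by
    rw [← e3, Category.assoc, IsIso.hom_inv_id, Category.comp_id]
  rw [e4]
  infer_instance

end Paste

end H9FE.BcQSPaste
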