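import Mathlib
import Groth.Agent.Lib.Helper9.FE.CechCartanG
import Groth.Agent.Lib.Helper9.FE.SiteSectColim
import Groth.Agent.Lib.Helper9.FE.HomologyFiltered

/-! helper9: on a site with a class `B` of quasi-compact quasi-separated objects (`QcClass`), the
Čech complex and Čech cohomology functors with respect to a finite family all of whose iterated
fibre products lie in `B` preserve filtered colimits of abelian sheaves. -/

set_option autoImplicit false
set_option linter.unusedSectionVars false
universe w v u
open CategoryTheory Limits Opposite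

namespace H9FE.CechFilteredColim

open Groth.Agent.Helper3 Groth.Agent.Helper3.CechDeltaG H9FE.CechCartanG H9FE.SiteSectColim

variable {C : Type u} [Category.{v} C] [HasPullbacks C] {Jt : GrothendieckTopology C}
  [HasSheafify Jt AddCommGrpCat.{w}] [Jt.WEqualsLocallyBijective AddCommGrpCat.{w}]
  [Jt.HasSheafCompose (forget AddCommGrpCat.{w})]
  {J : Type w} [SmallCategory J] [IsFiltered J]
  {B : Set C} (hB : QcClass Jt B)
  {V : C} [HasFiniteProducts (Over V)] {ι : Type w} [Finite ι] (Y : ι → Over V)

include hB in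
theorem preservesColimitsOfShape_cx
    (hYB : ∀ (p : ℕ) (a : Fin (p + 1) → ι), (∏ᶜ fun k => Y (a k)).left ∈ B) :
    PreservesColimitsOfShape J (sheafToPresheaf Jt AddCommGrpCat.{w} ⋙ cxFunctor Y) := by
  classical
  constructor
  intro D
  constructor
  intro c hc
  refine ⟨HomologicalComplex.isColimitOfEval _ _ (fun p => ?_)⟩
  have : ReflectsColimitsOfShape J (forget Ab.{w}) :=
    reflectsColimitsOfShape_of_reflectsIsomorphisms
  refine isColimitOfReflects (forget Ab.{w}) ?_
  let _i1 : Fintype (Fin (p + 1) → ι) := Fintype.ofFinite _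
  apply Types.FilteredColimit.isColimitOf'
  · intro (e : (K Y c.pt.obj).X p)
    choose ja ya hya using fun a : Fin (p + 1) → ι =>
      sect_surj D hB c hc (hYB p a) ((proj Y c.pt.obj p a).hom e)
    obtain ⟨j, hj⟩ := IsFiltered.sup_objs_exists (Finset.univ.image ja)
    have hj' : ∀ a, Nonempty (ja a ⟶ j) := fun a =>
      hj (Finset.mem_image_of_mem ja (Finset.mem_univ a))
    obtain ⟨ε, hε⟩ := exists_cochain Y (D.obj j).obj p
      (fun a => (D.map (hj' a).some).hom.app (op (YY Y a)) (ya a))
    refine ⟨j, ε, ?_⟩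
    change e = ((Kmap Y (c.ι.app j).hom).f p).hom ε
    apply CechDeltaG.ext Y c.pt.obj p
    intro a
    rw [Kmap_proj_apply, hε, ← hya a]
    have hw : D.map (hj' a).some ≫ c.ι.app j = c.ι.app (ja a) := c.w (hj' a).some
    rw [← hw]
    rfl
  · intro j (ε : (K Y (D.obj j).obj).X p) (ε' : (K Y (D.obj j).obj).X p) h
    have h' : ((Kmap Y (c.ι.app j).hom).f p).hom ε = ((Kmap Y (c.ι.app j).hom).f p).hom ε' := h
    have hex : ∀ a ∈ (Finset.univ : Finset (Fin (p + 1) → ι)), ∃ (k : J) (f : j ⟶ k),
        (D.map f).hom.app (op (YY Y a)) ((proj Y (D.obj j).obj p a).hom (ε - ε')) = 0 := by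
      intro a _
      apply sect_inj D hB c hc (hYB p a) j
      rw [← Kmap_proj_apply, map_sub, h', sub_self, map_zero]
    obtain ⟨k, f, hk⟩ := eventually_all j Finset.univ
      (fun (a : Fin (p + 1) → ι) k f => (D.map f).hom.app (op (YY Y a))
          ((proj Y (D.obj j).obj p a).hom (ε - ε')) = 0)
      (by
        intro a k f k' g' h
        rw [map_comp_apply, h, map_zero]) hex
    refine ⟨k, f, ?_⟩
    change ((Kmap Y (D.map f).hom).f p).hom ε = ((Kmap Y (D.map f).hom).f p).hom ε'
    rw [← sub_eq_zero, ← map_sub]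
    apply CechDeltaG.ext Y (D.obj k).obj p
    intro a
    rw [Kmap_proj_apply, map_zero]
    exact hk a (Finset.mem_univ a)

include hB in
/-- Čech cohomology with respect to a finite family with quasi-compact quasi-separated iterated
fibre products commutes with filtered colimits of abelian sheaves -/
theorem preservesColimitsOfShape_cechH
    (hYB : ∀ (p : ℕ) (a : Fin (p + 1) → ι), (∏ᶜ fun k => Y (a k)).left ∈ B) (q : ℕ) :
    PreservesColimitsOfShape J
      (sheafToPresheaf Jt AddCommGrpCat.{w} ⋙ EtCech.cechHFunctor Y q) := by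
  have := preservesColimitsOfShape_cx (J := J) hB Y hYB
  exact inferInstanceAs (PreservesColimitsOfShape J
    ((sheafToPresheaf Jt AddCommGrpCat.{w} ⋙ cxFunctor Y) ⋙
      HomologicalComplex.homologyFunctor _ _ q))

end H9FE.CechFilteredColim
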