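import Mathlib
import Groth.Prelude.Def_FEt
import Groth.Agent.Lib.Helper9.FE.FetColim
import Groth.Agent.Lib.Helper9.FE.FixedRing
/-! helper9: equalizers of finite étale algebras are finite étale. -/

open CategoryTheory CategoryTheory.Limits AlgebraicGeometry MorphismProperty
universe u
set_option linter.style.haveILetI false
set_option linter.unusedSectionVars false
set_option backward.isDefEq.respectTransparency false
namespace H9FE
open H9SF

section Prod
variable (R : Type u) [CommRing R] (B C : Type u) [CommRing B] [CommRing C] [Algebra R B] [Algebra R C]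

/-- the family with two members -/
abbrev twoFam : Bool → Type u := fun b => Bool.rec C B b

instance twoFamCommRing : ∀ b, CommRing (twoFam B C b) := fun b => by
  cases b
  · exact (inferInstance : CommRing C)
  · exact (inferInstance : CommRing B)

instance twoFamAlgebra : ∀ b, Algebra R (twoFam B C b) := fun b => by
  cases b
  · exact (inferInstance : Algebra R C)
  · exact (inferInstance : Algebra R B)

/-- binary products as products over `Bool` -/
def prodEquivPi : (∀ b, twoFam B C b) ≃ₐ[R] B × C where
  toFun x := (x true, x false)
  invFun p := fun b => Bool.rec p.2 p.1 b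
  left_inv x := by
    funext b
    cases b <;> rfl
  right_inv p := rfl
  map_mul' x y := rfl
  map_add' x y := rfl
  commutes' r := rfl

theorem etale_prod [Algebra.Etale R B] [Algebra.Etale R C] : Algebra.Etale R (B × C) := by
  haveI : ∀ b, Algebra.Etale R (twoFam B C b) := fun b => by
    cases b
    · exact (inferInstance : Algebra.Etale R C)
    · exact (inferInstance : Algebra.Etale R B)
  exact Algebra.Etale.of_equiv (prodEquivPi R B C)

end Prod

section EqRing
variable {R B C : Type u} [CommRing R] [CommRing B] [CommRing C] [Algebra R B] [Algebra R C]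
  (f g : B →ₐ[R] C)

/-- the two endomorphisms of `B × C` whose invariants are the equalizer of `f` and `g` -/
def eqσ : Bool → (B × C →ₐ[R] B × C) := fun b =>
  AlgHom.prod (AlgHom.fst R B C) ((cond b f g).comp (AlgHom.fst R B C))

theorem mem_fixedSub_eqσ (x : B × C) :
    x ∈ fixedSub (eqσ f g) ↔ f x.1 = x.2 ∧ g x.1 = x.2 := by
  rw [mem_fixedSub]
  constructor
  · intro h
    exact ⟨congrArg Prod.snd (h true), congrArg Prod.snd (h false)⟩
  · rintro ⟨h1, h2⟩ b
    cases b
    · exact Prod.ext rfl h2
    · exact Prod.ext rfl h1

end EqRing



section EqCone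
variable {R : CommRingCat.{u}} (K : WalkingParallelPairᵒᵖ ⥤ Under R)

/-- source algebra of the parallel pair -/
abbrev KB : Type u := (K.obj (Opposite.op WalkingParallelPair.one)).right
/-- target algebra of the parallel pair -/
abbrev KC : Type u := (K.obj (Opposite.op WalkingParallelPair.zero)).right

noncomputable instance : Algebra R (KB K) :=
  (K.obj (Opposite.op WalkingParallelPair.one)).hom.hom.toAlgebra
noncomputable instance : Algebra R (KC K) :=
  (K.obj (Opposite.op WalkingParallelPair.zero)).hom.hom.toAlgebra

/-- an arrow of the parallel pair as an algebra map -/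
noncomputable def Karr (a : WalkingParallelPair.zero ⟶ WalkingParallelPair.one) :
    KB K →ₐ[R] KC K :=
  { (K.map a.op).right.hom with
    commutes' := fun r => by
      have h := Under.w (K.map a.op)
      exact congrArg (fun k => k.hom r) h }

/-- the endomorphisms -/
noncomputable abbrev Keq : Bool → (KB K × KC K →ₐ[R] KB K × KC K) :=
  eqσ (Karr K WalkingParallelPairHom.left) (Karr K WalkingParallelPairHom.right)

/-- the projection from the invariants to an object of the diagram -/
noncomputable def eqProj : ∀ j : WalkingParallelPairᵒᵖ,
    Under.mk (CommRingCat.ofHom (algebraMap R (fixedSub (Keq K)))) ⟶ K.obj j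
  | ⟨WalkingParallelPair.zero⟩ => Under.homMk (CommRingCat.ofHom
      ((RingHom.snd (KB K) (KC K)).comp (fixedSub (Keq K)).val.toRingHom)) (by
        ext r
        rfl)
  | ⟨WalkingParallelPair.one⟩ => Under.homMk (CommRingCat.ofHom
      ((RingHom.fst (KB K) (KC K)).comp (fixedSub (Keq K)).val.toRingHom)) (by
        ext r
        rfl)

end EqCone



section EqCone2
variable {R : CommRingCat.{u}} (K : WalkingParallelPairᵒᵖ ⥤ Under R)

theorem eqProj_zero_apply (x : fixedSub (Keq K)) :
    (eqProj K (Opposite.op WalkingParallelPair.zero)).right.hom x = (x : KB K × KC K).2 := rfl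

theorem eqProj_one_apply (x : fixedSub (Keq K)) :
    (eqProj K (Opposite.op WalkingParallelPair.one)).right.hom x = (x : KB K × KC K).1 := rfl

theorem Karr_apply (a : WalkingParallelPair.zero ⟶ WalkingParallelPair.one) (b : KB K) :
    Karr K a b = (K.map a.op).right.hom b := rfl

/-- the cone on the equalizer -/
noncomputable def eqCone : Cone K where
  pt := Under.mk (CommRingCat.ofHom (algebraMap R (fixedSub (Keq K))))
  π :=
    { app := eqProj K
      naturality := by
        rintro ⟨j⟩ ⟨j'⟩ ⟨a⟩
        change WalkingParallelPairHom j' j at a
        apply Under.UnderMorphism.ext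
        apply CommRingCat.hom_ext
        apply RingHom.ext
        intro (x : fixedSub (Keq K))
        have hx := (mem_fixedSub_eqσ _ _ _).mp x.2
        cases a with
        | left =>
          show (x : KB K × KC K).2 =
            (K.map (Quiver.Hom.op (WalkingParallelPairHom.left : WalkingParallelPair.zero ⟶ WalkingParallelPair.one))).right.hom
              (x : KB K × KC K).1
          exact hx.1.symm
        | right =>
          show (x : KB K × KC K).2 =
            (K.map (Quiver.Hom.op (WalkingParallelPairHom.right : WalkingParallelPair.zero ⟶ WalkingParallelPair.one))).right.hom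
              (x : KB K × KC K).1
          exact hx.2.symm
        | id j0 =>
          have h1 : (Opposite.op (WalkingParallelPairHom.id j) : Opposite.op j ⟶ Opposite.op j) =
            𝟙 (Opposite.op j) := rfl
          rw [h1, K.map_id]
          simp }

end EqCone2



section EqCone3
variable {R : CommRingCat.{u}} (K : WalkingParallelPairᵒᵖ ⥤ Under R)

/-- the arrows of the opposite parallel pair -/
abbrev opL : (Opposite.op WalkingParallelPair.one : WalkingParallelPairᵒᵖ) ⟶
    Opposite.op WalkingParallelPair.zero :=
  Quiver.Hom.op (WalkingParallelPairHom.left : WalkingParallelPair.zero ⟶ WalkingParallelPair.one)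
abbrev opR : (Opposite.op WalkingParallelPair.one : WalkingParallelPairᵒᵖ) ⟶
    Opposite.op WalkingParallelPair.zero :=
  Quiver.Hom.op (WalkingParallelPairHom.right : WalkingParallelPair.zero ⟶ WalkingParallelPair.one)

theorem cone_w_apply (s : Cone K) (x : s.pt.right) :
    (K.map opL).right.hom ((s.π.app (Opposite.op WalkingParallelPair.one)).right.hom x) =
      (s.π.app (Opposite.op WalkingParallelPair.zero)).right.hom x := by
  have h := s.w opL
  exact congrArg (fun k => k.right.hom x) h

theorem cone_w_apply' (s : Cone K) (x : s.pt.right) :
    (K.map opR).right.hom ((s.π.app (Opposite.op WalkingParallelPair.one)).right.hom x) =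
      (s.π.app (Opposite.op WalkingParallelPair.zero)).right.hom x := by
  have h := s.w opR
  exact congrArg (fun k => k.right.hom x) h

/-- the lift as a ring map -/
noncomputable def eqLiftRing (s : Cone K) : s.pt.right →+* fixedSub (Keq K) :=
  RingHom.codRestrict
    (RingHom.prod (s.π.app (Opposite.op WalkingParallelPair.one)).right.hom
      (s.π.app (Opposite.op WalkingParallelPair.zero)).right.hom)
    (fixedSub (Keq K)).toSubring (fun x => by
      show _ ∈ fixedSub (Keq K)
      rw [mem_fixedSub_eqσ]
      exact ⟨cone_w_apply K s x, cone_w_apply' K s x⟩)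

/-- the cone on the equalizer is a limit cone -/
noncomputable def eqConeIsLimit : IsLimit (eqCone K) where
  lift s := Under.homMk (CommRingCat.ofHom (eqLiftRing K s)) (by
      ext r
      apply Subtype.ext
      apply Prod.ext
      · have h := Under.w (s.π.app (Opposite.op WalkingParallelPair.one))
        exact congrArg (fun k => k.hom r) h
      · have h := Under.w (s.π.app (Opposite.op WalkingParallelPair.zero))
        exact congrArg (fun k => k.hom r) h)
  fac s j := by
    obtain ⟨j⟩ := j
    apply Under.UnderMorphism.ext
    ext x
    cases j
    · rfl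
    · rfl
  uniq s m hm := by
    apply Under.UnderMorphism.ext
    ext x
    apply Subtype.ext
    apply Prod.ext
    · exact congrArg (fun k => k.right.hom x) (hm (Opposite.op WalkingParallelPair.one))
    · exact congrArg (fun k => k.right.hom x) (hm (Opposite.op WalkingParallelPair.zero))

end EqCone3



theorem limFE_parallelPair : LimFE.{u} WalkingParallelPairᵒᵖ := by
  intro R K c hc hK
  have e : c.pt ≅ (eqCone K).pt := hc.conePointUniqueUpToIso (eqConeIsLimit K)
  refine IsFE.of_iso e.symm ?_
  have h1 := hK (Opposite.op WalkingParallelPair.one)
  have h0 := hK (Opposite.op WalkingParallelPair.zero)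
  haveI : Module.Finite R (KB K) := h1.1
  haveI : Algebra.Etale R (KB K) := RingHom.etale_algebraMap.mp h1.2
  haveI : Module.Finite R (KC K) := h0.1
  haveI : Algebra.Etale R (KC K) := RingHom.etale_algebraMap.mp h0.2
  haveI : Algebra.Etale R (KB K × KC K) := etale_prod R (KB K) (KC K)
  have h2 := fixedSub_finite_gen (Keq K)
  have h3 := fixedSub_etale_gen (Keq K)
  exact ⟨RingHom.finite_algebraMap.mpr h2, RingHom.etale_algebraMap.mpr h3⟩


end H9FE
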