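import Mathlib
import Groth.Agent.Lib.Helper9.SF.FixedDescent
import Groth.Agent.Lib.Helper9.FE.PointsRing
import Groth.Agent.Lib.Helper9.FE.FixedRing
/-! helper9: points of a finite étale algebra which agree on the invariants of a finite family of
endomorphisms are connected by a zigzag of translates. -/

universe u
set_option linter.style.haveILetI false
set_option linter.unusedSectionVars false
namespace H9FE
open H9SF TensorProduct

/-- one step of the relation on points attached to a family of endomorphisms -/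
def ptStep {R A Ω : Type*} [CommRing R] [CommRing A] [Algebra R A] [CommRing Ω] [Algebra R Ω]
    {Γ : Type*} (σ : Γ → (A →ₐ[R] A)) (α β : A →ₐ[R] Ω) : Prop := ∃ g, β = α.comp (σ g)

/-- idempotents go to `0` or `1` in a field -/
theorem map_idem_eq {B Ω : Type*} [CommRing B] [Field Ω] (φ : B →+* Ω) {e : B} (he : IsIdempotentElem e) : φ e = 0 ∨ φ e = 1 := by
  have h : φ e * φ e = φ e := by rw [← map_mul, he.eq]
  have h2 : φ e * (φ e - 1) = 0 := by rw [mul_sub, h, mul_one, sub_self]
  rcases mul_eq_zero.mp h2 with h3 | h3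
  · exact Or.inl h3
  · exact Or.inr (sub_eq_zero.mp h3)

section Split
variable {B : Type*} [CommRing B] {n : ℕ} {Γ : Type*} [Fintype Γ] [DecidableEq Γ]
  (τ : Γ → ((Fin n → B) →ₐ[B] (Fin n → B)))
  {Ω : Type*} [Field Ω] [Algebra B Ω]

/-- the evaluation points of a split algebra -/
def evPt (i : Fin n) : (Fin n → B) →ₐ[B] Ω :=
  (Algebra.ofId B Ω).comp (Pi.evalAlgHom B (fun _ : Fin n => B) i)

theorem evPt_apply (i : Fin n) (s : Fin n → B) : evPt (Ω := Ω) i s = algebraMap B Ω (s i) := rfl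

/-- every point of a split algebra is an evaluation -/
theorem exists_evPt (α : (Fin n → B) →ₐ[B] Ω) : ∃ i, α = evPt i := by
  classical
  have hsum : ∑ i, α (Pi.single i 1) = 1 := by
    rw [← map_sum, Finset.univ_sum_single]
    exact map_one α
  have hex : ∃ i, α (Pi.single i 1) ≠ 0 := by
    by_contra h
    push Not at h
    rw [Finset.sum_eq_zero (fun i _ => h i)] at hsum
    exact zero_ne_one hsum
  obtain ⟨i, hi⟩ := hex
  have hidem : IsIdempotentElem (Pi.single i (1 : B) : Fin n → B) := by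
    show (Pi.single i (1 : B) : Fin n → B) * (Pi.single i (1 : B) : Fin n → B) = _
    rw [← Pi.single_mul, mul_one]
  have h1 : α (Pi.single i 1) = 1 := (map_idem_eq (α : (Fin n → B) →+* Ω) hidem).resolve_left hi
  refine ⟨i, ?_⟩
  apply AlgHom.ext
  intro s
  have hs : s * Pi.single i 1 = s i • (Pi.single i (1 : B) : Fin n → B) := by
    funext l
    by_cases hl : l = i
    · subst hl
      simp
    · simp [Pi.single_eq_of_ne hl]
  calc α s = α s * α (Pi.single i 1) := by rw [h1, mul_one]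
    _ = α (s * Pi.single i 1) := (map_mul α _ _).symm
    _ = α (s i • (Pi.single i (1 : B) : Fin n → B)) := by rw [hs]
    _ = s i • α (Pi.single i 1) := map_smul α _ _
    _ = evPt i s := by rw [h1, evPt_apply, Algebra.smul_def, mul_one]

end Split



section Split2
variable {B : Type*} [CommRing B] {n : ℕ} {Γ : Type*} [Fintype Γ] [DecidableEq Γ]
  (τ : Γ → ((Fin n → B) →ₐ[B] (Fin n → B)))
  (Ω : Type*) [Field Ω] [Algebra B Ω]

open Classical in
/-- the atom of the structural point -/
noncomputable def ptAtom : Finset (Γ × Fin n × Fin n) :=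
  Finset.univ.filter (fun k => algebraMap B Ω (umat τ k) = 1)

theorem map_atom_ptAtom : algebraMap B Ω (atom (umat τ) (ptAtom τ Ω)) = 1 := by
  classical
  unfold atom
  rw [map_mul, map_prod, map_prod]
  rw [Finset.prod_eq_one, Finset.prod_eq_one, mul_one]
  · intro k hk
    have hk' : k ∉ ptAtom τ Ω := (Finset.mem_sdiff.mp hk).2
    have h0 : algebraMap B Ω (umat τ k) = 0 := by
      rcases map_idem_eq (algebraMap B Ω) (umat_idem τ k) with h | h
      · exact h
      · exfalso
        apply hk'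
        unfold ptAtom
        exact Finset.mem_filter.mpr ⟨Finset.mem_univ k, h⟩
    rw [map_sub, map_one, h0, sub_zero]
  · intro k hk
    exact (Finset.mem_filter.mp hk).2

theorem rel_of_evPt_eqOn (i j : Fin n)
    (h : ∀ s ∈ fixedSub τ, evPt (Ω := Ω) i s = evPt j s) : (cls (Γ := Γ) (ptAtom τ Ω)).r i j := by
  classical
  have h1 := h _ (basicFn_mem τ (ptAtom τ Ω) (Quotient.mk _ i))
  rw [evPt_apply, evPt_apply] at h1
  unfold basicFn at h1
  rw [if_pos rfl, map_atom_ptAtom] at h1
  by_cases hc : Quotient.mk (cls (Γ := Γ) (ptAtom τ Ω)) j = Quotient.mk _ i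
  · exact (Quotient.exact hc).symm
  · rw [if_neg hc, map_zero] at h1
    exact absurd h1 one_ne_zero

theorem ptStep_of_step (i j : Fin n) (h : step (ptAtom τ Ω) i j) :
    ptStep τ (evPt (Ω := Ω) i) (evPt j) := by
  classical
  obtain ⟨g, hg⟩ := h
  have h1 : algebraMap B Ω (umat τ (g, i, j)) = 1 := (Finset.mem_filter.mp hg).2
  refine ⟨g, ?_⟩
  apply AlgHom.ext
  intro s
  show algebraMap B Ω (s j) = algebraMap B Ω (τ g s i)
  rw [apply_eq_sum, map_sum, Finset.sum_eq_single j]
  · rw [map_mul, h1, one_mul]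
  · intro k _ hk
    have h2 : algebraMap B Ω (umat τ (g, i, k)) = 0 := by
      have h3 := congrArg (algebraMap B Ω) (umat_row_orth τ g i (Ne.symm hk))
      rw [map_mul, h1, one_mul, map_zero] at h3
      exact h3
    rw [map_mul, h2, zero_mul]
  · intro hj
    exact absurd (Finset.mem_univ j) hj

theorem zigzag_split (α β : (Fin n → B) →ₐ[B] Ω) (h : ∀ s ∈ fixedSub τ, α s = β s) :
    Relation.EqvGen (ptStep τ) α β := by
  obtain ⟨i, rfl⟩ := exists_evPt α
  obtain ⟨j, rfl⟩ := exists_evPt β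
  have hr := rel_of_evPt_eqOn τ Ω i j h
  clear h
  induction hr with
  | rel x y hxy => exact Relation.EqvGen.rel _ _ (ptStep_of_step τ Ω x y hxy)
  | refl x => exact Relation.EqvGen.refl _
  | symm x y _ ih => exact Relation.EqvGen.symm _ _ ih
  | trans x y z _ _ ih1 ih2 => exact Relation.EqvGen.trans _ _ _ ih1 ih2

end Split2



theorem eqvGen_map {X Y : Type*} {r : X → X → Prop} {r' : Y → Y → Prop} (Φ : X → Y)
    (h : ∀ a b, r a b → Relation.EqvGen r' (Φ a) (Φ b)) {a b : X} (hab : Relation.EqvGen r a b) :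
    Relation.EqvGen r' (Φ a) (Φ b) := by
  induction hab with
  | rel x y hxy => exact h x y hxy
  | refl x => exact Relation.EqvGen.refl _
  | symm x y _ ih => exact Relation.EqvGen.symm _ _ ih
  | trans x y z _ _ ih1 ih2 => exact Relation.EqvGen.trans _ _ _ ih1 ih2

section Equiv
variable {B : Type*} [CommRing B] {n : ℕ} {Γ : Type*} [Fintype Γ] [DecidableEq Γ]
  {S' : Type*} [CommRing S'] [Algebra B S'] (e : S' ≃ₐ[B] (Fin n → B)) (σ : Γ → (S' →ₐ[B] S'))
  {Ω : Type*} [Field Ω] [Algebra B Ω]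

include e in
theorem zigzag_of_equiv (α β : S' →ₐ[B] Ω) (h : ∀ s ∈ fixedSub σ, α s = β s) :
    Relation.EqvGen (ptStep σ) α β := by
  let τ : Γ → ((Fin n → B) →ₐ[B] (Fin n → B)) := fun g =>
    (e : S' →ₐ[B] (Fin n → B)).comp ((σ g).comp (e.symm : (Fin n → B) →ₐ[B] S'))
  let α' : (Fin n → B) →ₐ[B] Ω := α.comp (e.symm : (Fin n → B) →ₐ[B] S')
  let β' : (Fin n → B) →ₐ[B] Ω := β.comp (e.symm : (Fin n → B) →ₐ[B] S')
  have h' : ∀ s ∈ fixedSub τ, α' s = β' s := by
    intro s hs
    apply h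
    intro g
    have := congrArg e.symm (hs g)
    simpa [τ] using this
  have hz := zigzag_split τ Ω α' β' h'
  have hα : α = α'.comp (e : S' →ₐ[B] (Fin n → B)) := by
    apply AlgHom.ext; intro s; simp [α']
  have hβ : β = β'.comp (e : S' →ₐ[B] (Fin n → B)) := by
    apply AlgHom.ext; intro s; simp [β']
  rw [hα, hβ]
  refine eqvGen_map (fun γ : (Fin n → B) →ₐ[B] Ω => γ.comp (e : S' →ₐ[B] (Fin n → B))) ?_ hz
  rintro a b ⟨g, rfl⟩
  refine Relation.EqvGen.rel _ _ ⟨g, ?_⟩
  apply AlgHom.ext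
  intro s
  simp [τ]

end Equiv



section Descent
variable {R A S : Type*} [CommRing R] [CommRing A] [Algebra R A] [CommRing S] [Algebra R S]
  {Γ : Type*} (σ : Γ → (A →ₐ[R] A))
  {Ω : Type*} [Field Ω] [Algebra R Ω] [Algebra S Ω] [IsScalarTower R S Ω]

/-- extension of a point to the base change -/
noncomputable def ptExt (α : A →ₐ[R] Ω) : S ⊗[R] A →ₐ[S] Ω :=
  Algebra.TensorProduct.lift (Algebra.ofId S Ω) α (fun _ _ => Commute.all _ _)

theorem ptExt_tmul (α : A →ₐ[R] Ω) (s : S) (a : A) :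
    ptExt (S := S) α (s ⊗ₜ a) = algebraMap S Ω s * α a := by
  simp [ptExt, Algebra.ofId_apply]

/-- restriction of a point of the base change -/
noncomputable def ptRes (β : S ⊗[R] A →ₐ[S] Ω) : A →ₐ[R] Ω :=
  (β.restrictScalars R).comp Algebra.TensorProduct.includeRight

theorem ptRes_apply (β : S ⊗[R] A →ₐ[S] Ω) (a : A) : ptRes β a = β (1 ⊗ₜ a) := rfl

theorem ptRes_ptExt (α : A →ₐ[R] Ω) : ptRes (ptExt (S := S) α) = α := by
  apply AlgHom.ext
  intro a
  rw [ptRes_apply, ptExt_tmul, map_one, one_mul]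

theorem ptRes_comp_bcFam (β : S ⊗[R] A →ₐ[S] Ω) (g : Γ) :
    ptRes (β.comp (bcFam (B := S) σ g)) = (ptRes β).comp (σ g) := by
  apply AlgHom.ext
  intro a
  rfl

theorem ptExt_eqOn [Module.Flat R S] [Finite Γ] (α β : A →ₐ[R] Ω)
    (h : ∀ a ∈ fixedSub σ, α a = β a) :
    ∀ x ∈ fixedSub (bcFam (B := S) σ), ptExt (S := S) α x = ptExt β x := by
  intro x hx
  obtain ⟨t, ht⟩ := (fixedComparison_bijective (B := S) σ).2 ⟨x, hx⟩
  have hx' : x = Algebra.TensorProduct.map (AlgHom.id S S) (fixedSub σ).val t :=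
    (congrArg Subtype.val ht).symm
  rw [hx']
  clear ht hx' hx
  induction t using TensorProduct.induction_on with
  | zero => simp
  | tmul s m =>
    show ptExt α (s ⊗ₜ (m : A)) = ptExt β (s ⊗ₜ (m : A))
    rw [ptExt_tmul, ptExt_tmul, h _ m.2]
  | add x y hx hy => rw [map_add, map_add, map_add, hx, hy]

theorem zigzag_descent [Module.Flat R S] [Finite Γ]
    (H : ∀ α' β' : S ⊗[R] A →ₐ[S] Ω, (∀ x ∈ fixedSub (bcFam (B := S) σ), α' x = β' x) →
      Relation.EqvGen (ptStep (bcFam (B := S) σ)) α' β')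
    (α β : A →ₐ[R] Ω) (h : ∀ a ∈ fixedSub σ, α a = β a) :
    Relation.EqvGen (ptStep σ) α β := by
  have hz := H (ptExt α) (ptExt β) (ptExt_eqOn σ α β h)
  have := eqvGen_map (r' := ptStep σ) (fun γ : S ⊗[R] A →ₐ[S] Ω => ptRes γ) (by
    rintro a b ⟨g, rfl⟩
    exact Relation.EqvGen.rel _ _ ⟨g, ptRes_comp_bcFam σ a g⟩) hz
  rwa [ptRes_ptExt, ptRes_ptExt] at this

end Descent



section General
variable {R A : Type u} [CommRing R] [CommRing A] [Algebra R A] [Module.Finite R A]
  [Algebra.Etale R A] {Γ : Type*} [Finite Γ] (σ : Γ → (A →ₐ[R] A))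
  {Ω : Type*} [Field Ω] [IsAlgClosed Ω] [Algebra R Ω]

/-- the zigzag statement for finite étale algebras of constant rank -/
theorem zigzag_of_rank {n : ℕ} (hn : Module.rankAtStalk (R := R) A = n)
    (α β : A →ₐ[R] Ω) (h : ∀ a ∈ fixedSub σ, α a = β a) :
    Relation.EqvGen (ptStep σ) α β := by
  classical
  haveI := Fintype.ofFinite Γ
  obtain ⟨T, _, _, _, _, _, hT⟩ := Algebra.IsFiniteSplit.exists_tensorProduct_of_etale hn
  obtain ⟨m, ⟨e⟩⟩ := hT.nonempty_algEquiv_fun
  have hinj : Function.Injective (Algebra.ofId R T) :=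
    FaithfulSMul.algebraMap_injective R T
  obtain ⟨ψ, -⟩ := exists_pt_extension (Ω := Ω) (Algebra.ofId R T) hinj (Algebra.ofId R Ω)
  letI : Algebra T Ω := ψ.toRingHom.toAlgebra
  haveI : IsScalarTower R T Ω := IsScalarTower.of_algebraMap_eq (fun r => (ψ.commutes r).symm)
  exact zigzag_descent (S := T) σ (fun α' β' h' => zigzag_of_equiv e _ α' β' h') α β h

end General



section General2
variable {R A : Type u} [CommRing R] [CommRing A] [Algebra R A] [Module.Finite R A]
  [Algebra.Etale R A] {Γ : Type*} [Finite Γ] (σ : Γ → (A →ₐ[R] A))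
  {Ω : Type*} [Field Ω] [IsAlgClosed Ω] [Algebra R Ω]

/-- points of a finite étale algebra which agree on the invariants of a finite family of
endomorphisms are connected by a zigzag of translates -/
theorem zigzag (α β : A →ₐ[R] Ω) (h : ∀ a ∈ fixedSub σ, α a = β a) :
    Relation.EqvGen (ptStep σ) α β := by
  let p : Ideal R := RingHom.ker (algebraMap R Ω)
  haveI hp : p.IsPrime := RingHom.ker_isPrime _
  obtain ⟨f, hf, hq⟩ := exists_rank_const (A := A) ⟨p, hp⟩
  let Rr := Localization.Away f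
  have hu : IsUnit (algebraMap R Ω f) := by
    rw [isUnit_iff_ne_zero]
    intro h0
    exact hf ((RingHom.mem_ker).mpr h0)
  letI : Algebra Rr Ω := (IsLocalization.Away.lift f hu).toAlgebra
  haveI : IsScalarTower R Rr Ω := IsScalarTower.of_algebraMap_eq (fun r =>
    (IsLocalization.Away.lift_eq f hu r).symm)
  have hrank : Module.rankAtStalk (R := Rr) (Rr ⊗[R] A) =
      (Module.rankAtStalk (R := R) A ⟨p, hp⟩ : ℕ) := by
    funext q
    rw [Module.rankAtStalk_baseChange]
    apply hq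
    intro hmem
    have hu' : IsUnit (algebraMap R Rr f) := IsLocalization.Away.algebraMap_isUnit f
    exact q.isPrime.ne_top (Ideal.eq_top_of_isUnit_mem _ hmem hu')
  exact zigzag_descent (S := Rr) σ
    (fun α' β' h' => zigzag_of_rank (bcFam (B := Rr) σ) hrank α' β' h') α β h

end General2


end H9FE
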