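import Mathlib
import Groth.Agent.Lib.Helper9.FE.EqRing
import Groth.Agent.Lib.Helper9.FE.Zigzag
/-! helper9: geometric points of finite étale algebras and equalizers. -/

universe u
set_option linter.style.haveILetI false
set_option linter.unusedSectionVars false
namespace H9FE
open H9SF TensorProduct

section Coeq
variable {R B C : Type*} [CommRing R] [CommRing B] [CommRing C] [Algebra R B] [Algebra R C]
  (f g : B →ₐ[R] C) {Ω : Type*} [Field Ω] [Algebra R Ω]

/-- the relation on points of `B` generating the coequalizer -/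
def coeqRel (β β' : B →ₐ[R] Ω) : Prop := ∃ γ : C →ₐ[R] Ω, β = γ.comp f ∧ β' = γ.comp g

/-- a point of a product which does not factor through the first factor factors through the
second -/
noncomputable def ptSnd (δ : B × C →ₐ[R] Ω) (h : δ (0, 1) = 1) : C →ₐ[R] Ω where
  toFun c := δ (0, c)
  map_one' := h
  map_mul' c c' := by
    rw [← map_mul]
    congr 1
    ext <;> simp
  map_zero' := by
    have : ((0, 0) : B × C) = 0 := rfl
    rw [this, map_zero]
  map_add' c c' := by
    rw [← map_add]
    congr 1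
    ext <;> simp
  commutes' r := by
    have h1 : ((0, algebraMap R C r) : B × C) = algebraMap R (B × C) r * (0, 1) := by
      ext <;> simp
    rw [h1, map_mul, h, mul_one, AlgHom.commutes]

theorem pt_prod_cases (δ : B × C →ₐ[R] Ω) :
    (δ (1, 0) = 1 ∧ δ (0, 1) = 0) ∨ (δ (1, 0) = 0 ∧ δ (0, 1) = 1) := by
  have hidem : IsIdempotentElem ((1, 0) : B × C) := by
    show ((1, 0) : B × C) * (1, 0) = (1, 0)
    ext <;> simp
  have hsum : δ (1, 0) + δ (0, 1) = 1 := by
    rw [← map_add]
    have : ((1, 0) : B × C) + (0, 1) = 1 := by ext <;> simp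
    rw [this, map_one]
  rcases map_idem_eq (δ : B × C →+* Ω) hidem with h | h
  · right
    refine ⟨h, ?_⟩
    have h' : δ (1, 0) = 0 := h
    rw [h', zero_add] at hsum
    exact hsum
  · left
    refine ⟨h, ?_⟩
    have h' : δ (1, 0) = 1 := h
    rw [h'] at hsum
    exact add_eq_left.mp hsum

end Coeq



section Coeq2
variable {R B C : Type u} [CommRing R] [CommRing B] [CommRing C] [Algebra R B] [Algebra R C]
  [Module.Finite R B] [Algebra.Etale R B] [Module.Finite R C] [Algebra.Etale R C]
  (f g : B →ₐ[R] C) {Ω : Type*} [Field Ω] [IsAlgClosed Ω] [Algebra R Ω]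

/-- points of `B` which agree on the equalizer of `f, g : B ⇉ C` are connected by a zigzag of
points of `C` -/
theorem coeq_zigzag (β β' : B →ₐ[R] Ω) (h : ∀ b, f b = g b → β b = β' b) :
    Relation.EqvGen (coeqRel f g) β β' := by
  haveI : Algebra.Etale R (B × C) := etale_prod R B C
  let α : B × C →ₐ[R] Ω := β.comp (AlgHom.fst R B C)
  let α' : B × C →ₐ[R] Ω := β'.comp (AlgHom.fst R B C)
  have hα : ∀ x ∈ fixedSub (eqσ f g), α x = α' x := by
    intro x hx
    have hx' := (mem_fixedSub_eqσ f g x).mp hx
    exact h x.1 (hx'.1.trans hx'.2.symm)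
  have hz := zigzag (eqσ f g) α α' hα
  let ιf : B →ₐ[R] B × C := AlgHom.prod (AlgHom.id R B) f
  let ιg : B →ₐ[R] B × C := AlgHom.prod (AlgHom.id R B) g
  have h1 : α.comp ιf = β := by apply AlgHom.ext; intro b; rfl
  have h2 : α'.comp ιf = β' := by apply AlgHom.ext; intro b; rfl
  rw [← h1, ← h2]
  refine eqvGen_map (fun δ : B × C →ₐ[R] Ω => δ.comp ιf) ?_ hz
  rintro δ δ' ⟨b, rfl⟩
  cases b
  · -- the step along `g`
    have h3 : ((δ.comp (eqσ f g false)).comp ιf) = δ.comp ιg := by
      apply AlgHom.ext; intro b; rfl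
    show Relation.EqvGen (coeqRel f g) (δ.comp ιf) ((δ.comp (eqσ f g false)).comp ιf)
    rw [h3]
    rcases pt_prod_cases δ with ⟨h10, h01⟩ | ⟨h10, h01⟩
    · have hδ : ∀ x : B × C, δ x = δ (x.1, 0) := by
        intro x
        have hx : x = (x.1, 0) + (0, x.2) * (0, 1) := by ext <;> simp
        conv_lhs => rw [hx]
        rw [map_add, map_mul, h01, mul_zero, add_zero]
      have h4 : δ.comp ιf = δ.comp ιg := by
        apply AlgHom.ext
        intro b
        show δ (b, f b) = δ (b, g b)
        rw [hδ (b, f b), hδ (b, g b)]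
      rw [h4]
      exact Relation.EqvGen.refl _
    · have hδ : ∀ x : B × C, δ x = δ (0, x.2) := by
        intro x
        have hx : x = (x.1, 0) * (1, 0) + (0, x.2) := by ext <;> simp
        conv_lhs => rw [hx]
        rw [map_add, map_mul, h10, mul_zero, zero_add]
      refine Relation.EqvGen.rel _ _ ⟨ptSnd δ h01, ?_, ?_⟩
      · apply AlgHom.ext
        intro b
        exact hδ (b, f b)
      · apply AlgHom.ext
        intro b
        exact hδ (b, g b)
  · have h3 : ((δ.comp (eqσ f g true)).comp ιf) = δ.comp ιf := by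
      apply AlgHom.ext; intro b; rfl
    show Relation.EqvGen (coeqRel f g) (δ.comp ιf) ((δ.comp (eqσ f g true)).comp ιf)
    rw [h3]
    exact Relation.EqvGen.refl _

end Coeq2


end H9FE
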