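import Mathlib
import Groth.Prelude
import Groth.Agent.Lib.Helper9.FE.PCRpush
import Groth.Agent.Lib.Helper5.WEt.Scheme

/-! helper9: a finite commutative group scheme `I` over a reduced base `S` with connected fibres has
no non-trivial points with values in reduced `S`-schemes: the unit section `e : S ⟶ I` is a
surjective closed immersion (each fibre is a finite discrete connected space, hence a point), so its
kernel lies in the nilradical of `I`, which dies on any reduced scheme; hence every `x : U ⟶ I`
factors through `e`.  Consequently the restriction of the sheaf of points of `I` to the small etale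
site of `S` is zero. -/

set_option autoImplicit false
set_option linter.unusedSectionVars false
set_option linter.style.haveILetI false
set_option backward.isDefEq.respectTransparency false

universe u

open CategoryTheory CategoryTheory.Limits AlgebraicGeometry Opposite MonObj

namespace H9FE.ConnFinGrp

/-- the nilradical of `Y` is contained in the kernel of every morphism from a reduced scheme -/
lemma nilradical_le_ker {U Y : Scheme.{u}} [IsReduced U] (x : U ⟶ Y) :
    Y.nilradical ≤ x.ker := by
  unfold Scheme.Hom.ker
  rw [Scheme.IdealSheafData.le_ofIdeals_iff]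
  intro V a ha
  have ha' : IsNilpotent a := by
    have : a ∈ (⊥ : Ideal Γ(Y, V.1)).radical := ha
    obtain ⟨n, hn⟩ := this
    exact ⟨n, Ideal.mem_bot.1 hn⟩
  have h2 : IsNilpotent ((x.app V.1).hom a) := ha'.map _
  exact RingHom.mem_ker.2 h2.eq_zero

/-- a surjective closed immersion has kernel inside the nilradical -/
lemma ker_le_nilradical {S Y : Scheme.{u}} (e : S ⟶ Y) [QuasiCompact e]
    (hs : Function.Surjective e) :
    e.ker ≤ Y.nilradical := by
  rw [← Scheme.IdealSheafData.vanishingIdeal_top,
    ← Scheme.IdealSheafData.le_support_iff_le_vanishingIdeal]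
  intro y _
  show y ∈ ((Scheme.Hom.ker e).support : Set Y)
  rw [Scheme.Hom.support_ker]
  apply subset_closure
  exact hs y

/-- a morphism from a reduced scheme into the target of a surjective closed immersion factors
through it -/
lemma exists_lift {S Y U : Scheme.{u}} [IsReduced U] (e : S ⟶ Y) [IsClosedImmersion e]
    (hs : Function.Surjective e) (x : U ⟶ Y) : ∃ x' : U ⟶ S, x' ≫ e = x :=
  ⟨IsClosedImmersion.lift e x ((ker_le_nilradical e hs).trans (nilradical_le_ker x)),
    IsClosedImmersion.lift_fac _ _ _⟩

/-- a section of a finite morphism with connected fibres is surjective -/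
lemma section_surjective {S Y : Scheme.{u}} (p : Y ⟶ S) [IsFinite p]
    (hconn : ∀ s : S, ConnectedSpace ↥(p.fiber s)) (e : S ⟶ Y) (he : e ≫ p = 𝟙 S) :
    Function.Surjective e := by
  intro y
  refine ⟨p y, ?_⟩
  set s := p y with hs
  have : Subsingleton ↥(p.fiber s) := by
    haveI := hconn s
    exact PreconnectedSpace.trivial_of_discrete
  have h1 : y ∈ Set.range (p.fiberι s) := by
    rw [Scheme.Hom.range_fiberι]; exact hs.symm
  have h2 : e s ∈ Set.range (p.fiberι s) := by
    rw [Scheme.Hom.range_fiberι]
    change p (e s) = s
    have : (e ≫ p) s = s := by rw [he]; rfl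
    exact this
  obtain ⟨a, ha⟩ := h1
  obtain ⟨b, hb⟩ := h2
  rw [← ha, ← hb, Subsingleton.elim a b]

/-- all morphisms from a reduced `S`-scheme to `I` coincide -/
theorem subsingleton_hom {S : Scheme.{u}} (I : Over S) [IsFinite I.hom]
    (hconn : ∀ s : S, ConnectedSpace ↥(I.hom.fiber s)) (e : S ⟶ I.left) (he : e ≫ I.hom = 𝟙 S)
    (T : Over S) [IsReduced T.left] : Subsingleton (T ⟶ I) := by
  haveI : IsClosedImmersion (e ≫ I.hom) := by rw [he]; infer_instance
  haveI : IsClosedImmersion e := IsClosedImmersion.of_comp e I.hom
  have hs := section_surjective I.hom hconn e he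
  have key : ∀ x : T ⟶ I, x.left = T.hom ≫ e := by
    intro x
    obtain ⟨x', hx'⟩ := exists_lift e hs x.left
    have : x' = T.hom := by
      have h1 : x' ≫ e ≫ I.hom = T.hom := by
        rw [← Category.assoc, hx', Over.w]
      rwa [he, Category.comp_id] at h1
    rw [← hx', this]
  refine ⟨fun x y => ?_⟩
  apply Over.OverMorphism.ext
  rw [key x, key y]

end H9FE.ConnFinGrp
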