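import Mathlib
import Groth.Agent.Lib.Helper9.FE.ConstSite

/-! helper9: isomorphic finite constant sheaves on a non-empty site have isomorphic value groups. -/

universe w v₁ u₁
open CategoryTheory CategoryTheory.Limits Opposite

namespace H9FE
namespace ConstSite

set_option linter.style.haveILetI false
set_option linter.unusedSectionVars false

variable {C : Type u₁} [Category.{v₁} C] (J : GrothendieckTopology C)
  [HasSheafify J AddCommGrpCat.{w}] [J.WEqualsLocallyBijective AddCommGrpCat.{w}]
  [J.HasSheafCompose (forget AddCommGrpCat.{w})]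

/-- a covering sieve of an object not covered by the empty sieve contains an arrow whose source
is not covered by the empty sieve -/
theorem exists_arrow_not_bot {V : C} (hV : (⊥ : Sieve V) ∉ J V) (S : Sieve V) (hS : S ∈ J V) :
    ∃ (W : C) (g : W ⟶ V), S g ∧ (⊥ : Sieve W) ∉ J W := by
  by_contra hcon
  push Not at hcon
  apply hV
  refine J.transitive hS ⊥ ?_
  intro W g hg
  have := hcon W g hg
  convert this using 1
  ext Z k
  simp

/-- isomorphic constant sheaves with finite values on a non-empty site have isomorphic values -/
theorem nonempty_addEquiv_of_iso {M N : AddCommGrpCat.{w}} [Finite M] [Finite N]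
    (θ : cS J M ≅ cS J N) {V : C} (hV : (⊥ : Sieve V) ∉ J V) : Nonempty (M ≃+ N) := by
  have h1 := goodSieve_mem J θ.hom V
  have h2 := goodSieve_mem J θ.inv V
  obtain ⟨W, g, ⟨⟨h, hh⟩, ⟨h', hh'⟩⟩, hW⟩ := exists_arrow_not_bot J hV _ (J.intersection_covering h1 h2)
  have e1 : ∀ m, h' (h m) = m := by
    intro m
    have : ts J M W (h' (h m)) = ts J M W m := by
      rw [← hh', ← hh]
      have := congrArg (fun η => η.hom.app (op W) (ts J M W m)) θ.hom_inv_id
      exact this
    rcases ts_eq_or_bot J M W _ _ this with h3 | h3
    · exact h3
    · exact absurd h3 hW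
  have e2 : ∀ n, h (h' n) = n := by
    intro n
    have : ts J N W (h (h' n)) = ts J N W n := by
      rw [← hh, ← hh']
      have := congrArg (fun η => η.hom.app (op W) (ts J N W n)) θ.inv_hom_id
      exact this
    rcases ts_eq_or_bot J N W _ _ this with h3 | h3
    · exact h3
    · exact absurd h3 hW
  exact ⟨{ toFun := h, invFun := h', left_inv := e1, right_inv := e2, map_add' := h.map_add }⟩

end ConstSite
end H9FE
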