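import Mathlib
import Groth.Prelude.Def_EtCore
import Groth.Agent.Lib.Helper9.FE.ConstUnit

/-! helper9: sections of `j_* const` for an open immersion `j`: constancy on opens, gluing. -/

universe u w
open CategoryTheory CategoryTheory.Limits AlgebraicGeometry Opposite

namespace H9FE
namespace ConstUnit

set_option backward.isDefEq.respectTransparency false
set_option linter.style.haveILetI false
set_option linter.unusedSectionVars false

open Groth.Agent.S14453.Aux Groth.Agent.S0088.Aux

/-- separatedness of étale sheaves with respect to jointly surjective families -/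
theorem sep_family {Y : Scheme.{u}} (F : Y.Etaleᵒᵖ ⥤ Type w)
    (hF : Presieve.IsSheaf Y.smallEtaleTopology F)
    {W : Y.Etale} {K : Type*} (T : K → Y.Etale) (π : ∀ k, T k ⟶ W)
    (hsurj : ∀ z : W.left, ∃ k, ∃ y : (T k).left, (π k).left y = z) (s₁ s₂ : F.obj (op W))
    (h : ∀ k, F.map (π k).op s₁ = F.map (π k).op s₂) : s₁ = s₂ := by
  have hmem : Sieve.ofArrows T π ∈ Y.smallEtaleTopology W := by
    rw [mem_et_iff]
    intro z
    obtain ⟨k, y, hy⟩ := hsurj z
    exact ⟨T k, π k, y, Sieve.ofArrows_mk _ _ k, inferInstance, hy⟩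
  refine (hF _ hmem).isSeparatedFor.ext ?_
  rintro Z f ⟨Z', a, b, ⟨k⟩, rfl⟩
  rw [op_comp, F.map_comp]
  change F.map a.op (F.map (π k).op s₁) = F.map a.op (F.map (π k).op s₂)
  rw [h k]

variable {X : Scheme.{u}}

noncomputable def opIncl (V : X.Etale) {O O' : V.left.Opens} (h : O' ≤ O) :
    opObj V O' ⟶ opObj V O :=
  MorphismProperty.Over.homMk (V.left.homOfLE h) (by
    show V.left.homOfLE h ≫ (O.ι ≫ V.hom) = O'.ι ≫ V.hom
    rw [← Category.assoc, Scheme.homOfLE_ι])

theorem opIncl_ι (V : X.Etale) {O O' : V.left.Opens} (h : O' ≤ O) :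
    opIncl V h ≫ opι V O = opι V O' := by
  apply MorphismProperty.Over.Hom.ext
  exact Scheme.homOfLE_ι _ h

variable {U : Scheme.{u}} (j : U ⟶ X) (A : AddCommGrpCat.{u+1}) (V : X.Etale)
  (s : ((EtCoh.push j).obj (cS U A)).obj.obj (op V))

/-- the section `s` of `j_* const` is the constant `a` over the open `O` -/
def IsConstOn (O : V.left.Opens) (a : A) : Prop :=
  ((EtCoh.push j).obj (cS U A)).obj.map (opι V O).op s = (phi j A).app (op (opObj V O)) a

theorem isConstOn_mono {O O' : V.left.Opens} (h : O' ≤ O) {a : A}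
    (hc : IsConstOn j A V s O a) : IsConstOn j A V s O' a := by
  unfold IsConstOn at *
  have h1 : (opι V O').op = (opι V O).op ≫ (opIncl V h).op := by rw [← op_comp, opIncl_ι]
  rw [h1, Functor.map_comp, ConcreteCategory.comp_apply, hc]
  exact (NatTrans.naturality_apply (phi j A) (opIncl V h).op a).symm

/-- a point of the base change over a given point -/
theorem exists_bc_point (W : X.Etale) (w : W.left) (hw : W.hom w ∈ Set.range j) :
    ∃ z : ((EtCoh.bc j).obj W).left,
      (pullback.fst W.hom j : ((EtCoh.bc j).obj W).left ⟶ W.left) z = w := by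
  obtain ⟨u, hu⟩ := hw
  obtain ⟨z, hz, -⟩ := Scheme.Pullback.exists_preimage_pullback (f := W.hom) (g := j) w u hu.symm
  exact ⟨z, hz⟩

theorem isConstOn_unique {O : V.left.Opens} {a b : A} (ha : IsConstOn j A V s O a)
    (hb : IsConstOn j A V s O b) (hne : ∃ w ∈ O, V.hom w ∈ Set.range j) : a = b := by
  unfold IsConstOn at *
  have h1 := ha.symm.trans hb
  rw [phi_app, phi_app] at h1
  obtain ⟨w, hwO, hw⟩ := hne
  obtain ⟨z, -⟩ := exists_bc_point j (opObj V O) ⟨w, hwO⟩ hw
  haveI : Nonempty ((EtCoh.bc j).obj (opObj V O)).left := ⟨z⟩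
  exact ts_injective U A _ a b h1

/-- lifting points along base-changed maps -/
theorem exists_bc_map_point {W W' : X.Etale} (g : W' ⟶ W) (z : ((EtCoh.bc j).obj W).left)
    (w' : W'.left)
    (h : g.left w' = (pullback.fst W.hom j : ((EtCoh.bc j).obj W).left ⟶ W.left) z) :
    ∃ y : ((EtCoh.bc j).obj W').left, ((EtCoh.bc j).map g).left y = z := by
  have sq := EtCoh.isPullback_bc_map j g
  obtain ⟨y, hy, -⟩ := Scheme.Pullback.exists_preimage_pullback
    (f := (pullback.fst W.hom j : ((EtCoh.bc j).obj W).left ⟶ W.left)) (g := g.left) z w' h.symm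
  refine ⟨sq.isoPullback.inv y, ?_⟩
  rw [← hy, ← Scheme.Hom.comp_apply, IsPullback.isoPullback_inv_fst]
  rfl

theorem fst_bc (W : X.Etale) (z : ((EtCoh.bc j).obj W).left) :
    W.hom ((pullback.fst W.hom j : ((EtCoh.bc j).obj W).left ⟶ W.left) z) ∈ Set.range j := by
  refine ⟨(pullback.snd W.hom j : ((EtCoh.bc j).obj W).left ⟶ U) z, ?_⟩
  rw [← Scheme.Hom.comp_apply, ← Scheme.Hom.comp_apply, pullback.condition]
  rfl

theorem isConstOn_glue (O : V.left.Opens) (a : A) (𝒪 : Set V.left.Opens)
    (hle : ∀ O' ∈ 𝒪, O' ≤ O) (hP : ∀ O' ∈ 𝒪, IsConstOn j A V s O' a)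
    (hcov : ∀ w ∈ O, V.hom w ∈ Set.range j → ∃ O' ∈ 𝒪, w ∈ O') : IsConstOn j A V s O a := by
  unfold IsConstOn
  refine sep_family ((cS U A).obj ⋙ forget _) (isSheaf_type U A)
    (W := (EtCoh.bc j).obj (opObj V O)) (K := 𝒪)
    (fun O' => (EtCoh.bc j).obj (opObj V O'.1))
    (fun O' => (EtCoh.bc j).map (opIncl V (hle O'.1 O'.2))) ?_ _ _ ?_
  · intro z
    let w : (O : Scheme.{u}) :=
      (pullback.fst (opObj V O).hom j : ((EtCoh.bc j).obj (opObj V O)).left ⟶ (opObj V O).left) z
    have hw : V.hom w.1 ∈ Set.range j := fst_bc j (opObj V O) z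
    obtain ⟨O', hO', hwO'⟩ := hcov w.1 w.2 hw
    have hw' : (opIncl V (hle O' hO')).left ⟨w.1, hwO'⟩ = w := by
      apply Subtype.ext
      exact Scheme.homOfLE_apply (X := V.left) (hle O' hO') ⟨w.1, hwO'⟩
    obtain ⟨y, hy⟩ := exists_bc_map_point j (opIncl V (hle O' hO')) z ⟨w.1, hwO'⟩ hw'
    exact ⟨⟨O', hO'⟩, y, hy⟩
  · rintro ⟨O', hO'⟩
    have h1 := hP O' hO'
    unfold IsConstOn at h1
    have h2 : (opι V O').op = (opι V O).op ≫ (opIncl V (hle O' hO')).op := by
      rw [← op_comp, opIncl_ι]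
    rw [h2, Functor.map_comp, ConcreteCategory.comp_apply] at h1
    refine h1.trans ?_
    exact NatTrans.naturality_apply (phi j A) (opIncl V (hle O' hO')).op a

theorem exists_isConstOn [IsOpenImmersion j] (w : V.left) (hw : V.hom w ∈ Set.range j) :
    ∃ O : V.left.Opens, w ∈ O ∧ ∃ a, IsConstOn j A V s O a := by
  obtain ⟨z, hz⟩ := exists_bc_point j V w hw
  have hW := U.smallEtaleTopology.W_toSheafify (cP U A)
  haveI := hW.isLocallySurjective
  have hmem := Presheaf.imageSieve_mem U.smallEtaleTopology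
    (toSheafify U.smallEtaleTopology (cP U A)) s
  rw [mem_et_iff] at hmem
  obtain ⟨T', τ, y, ⟨a, ha⟩, -, hy⟩ := hmem z
  let fstV : ((EtCoh.bc j).obj V).left ⟶ V.left := pullback.fst V.hom j
  haveI : IsOpenImmersion fstV := inferInstanceAs (IsOpenImmersion (pullback.fst V.hom j))
  let ρ : T'.left ⟶ V.left := τ.left ≫ fstV
  have hρ : IsOpenMap ρ := ρ.isOpenMap
  let O : V.left.Opens := ⟨Set.range ρ, hρ.isOpen_range⟩
  have hwO : w ∈ O := ⟨y, by
    show fstV (τ.left y) = w
    rw [hy]
    exact hz⟩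
  refine ⟨O, hwO, a, ?_⟩
  unfold IsConstOn
  rw [phi_app]
  let β : (EtCoh.bc j).obj (opObj V O) ⟶ (EtCoh.bc j).obj V := (EtCoh.bc j).map (opι V O)
  refine sep_family ((cS U A).obj ⋙ forget _) (isSheaf_type U A)
    (W := (EtCoh.bc j).obj (opObj V O)) (K := Unit)
    (fun _ => prodObj U τ β) (fun _ => prodSnd U τ β) ?_ _ _ ?_
  · intro z''
    have sq := EtCoh.isPullback_bc_map j (opι V O)
    let w'' : (O : Scheme.{u}) := (pullback.fst (opObj V O).hom j :
      ((EtCoh.bc j).obj (opObj V O)).left ⟶ (opObj V O).left) z''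
    have h1 : fstV (β.left z'') = w''.1 := by
      have := congrArg (fun φ : ((EtCoh.bc j).obj (opObj V O)).left ⟶ V.left => φ z'') sq.w
      exact this
    obtain ⟨y', hy'⟩ := w''.2
    have h2 : τ.left y' = β.left z'' := by
      apply fstV.isOpenEmbedding.injective
      rw [h1]
      exact hy'
    obtain ⟨t, -, ht⟩ := Scheme.Pullback.exists_preimage_pullback (f := τ.left) (g := β.left)
      y' z'' h2
    exact ⟨(), t, ht⟩
  · intro _
    change (cS U A).obj.map (prodSnd U τ β).op ((cS U A).obj.map β.op s) =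
      (cS U A).obj.map (prodSnd U τ β).op
        ((toSheafify U.smallEtaleTopology (cP U A)).app (op ((EtCoh.bc j).obj (opObj V O))) a)
    rw [toSheafify_map]
    rw [← ConcreteCategory.comp_apply, ← Functor.map_comp, ← op_comp, ← prod_condition, op_comp,
      Functor.map_comp, ConcreteCategory.comp_apply]
    have ha' : (cS U A).obj.map τ.op s =
      (toSheafify U.smallEtaleTopology (cP U A)).app (op T') a := ha.symm
    exact (congrArg _ ha').trans (toSheafify_map A (prodFst U τ β) a)

theorem isIso_unit_of_isConstOn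
    (H1 : ∀ V : X.Etale, Nonempty V.left → Nonempty ((EtCoh.bc j).obj V).left)
    (H2 : ∀ (V : X.Etale) (s : ((EtCoh.push j).obj (cS U A)).obj.obj (op V)) (v : V.left),
        ∃ O : V.left.Opens, v ∈ O ∧ ∃ a, IsConstOn j A V s O a) :
    IsIso ((EtCoh.pullPushAdj j).unit.app (cS X A)) := by
  apply isIso_unit_of_W
  haveI : Presheaf.IsLocallyInjective X.smallEtaleTopology (phi j A) := by
    constructor
    intro V a b hab
    by_cases hV : Nonempty V.unop.left
    · haveI := H1 V.unop hV
      have hab' : (phi j A).app (op V.unop) a = (phi j A).app (op V.unop) b := hab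
      rw [phi_app, phi_app] at hab'
      have : a = b := ts_injective U A _ a b hab'
      subst this
      rw [Presheaf.equalizerSieve_self_eq_top]
      exact X.smallEtaleTopology.top_mem _
    · rw [not_nonempty_iff] at hV
      rw [mem_et_iff]
      intro x
      exact isEmptyElim x
  haveI : Presheaf.IsLocallySurjective X.smallEtaleTopology (phi j A) := by
    constructor
    intro V s
    rw [mem_et_iff]
    intro v
    obtain ⟨O, hvO, a, ha⟩ := H2 V s v
    refine ⟨opObj V O, opι V O, ⟨v, hvO⟩, ⟨a, ha.symm⟩, ?_, rfl⟩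
    change Etale O.ι
    infer_instance
  exact X.smallEtaleTopology.W_of_isLocallyBijective _

end ConstUnit
end H9FE
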