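import Mathlib

/-! helper9: a functor which preserves finite coproducts and the filtered colimits indexed by the
finite subsets of `α` preserves coproducts indexed by `α`. -/

set_option autoImplicit false
set_option linter.unusedSectionVars false
set_option backward.isDefEq.respectTransparency false
universe w v₁ v₂ u₁ u₂
open CategoryTheory Limits Opposite

namespace H9FE.CoprodFiltered

open CoproductsFromFiniteFiltered

variable {C : Type u₁} [Category.{v₁} C] {D : Type u₂} [Category.{v₂} D] {α : Type w}
  [HasFiniteCoproducts C] [HasColimitsOfShape (Finset (Discrete α)) C]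
  (H : C ⥤ D) [PreservesFiniteCoproducts H] [PreservesColimitsOfShape (Finset (Discrete α)) H]

lemma ι_map (F : Discrete α ⥤ C) {s s' : Finset (Discrete α)} (h : s ⟶ s') (x : s) :
    Sigma.ι (fun y : s => F.obj y) x ≫ (liftToFinsetObj F).map h =
      Sigma.ι (fun y : s' => F.obj y) ⟨x.1, h.down.down x.2⟩ := by
  simp [liftToFinsetObj]

/-- a functor preserving finite coproducts and the filtered colimits over finite subsets
preserves coproducts -/
theorem preservesColimitDiscrete (F : Discrete α ⥤ C) : PreservesColimit F H := by
  apply preservesColimit_of_preserves_colimit_cocone (liftToFinsetColimitCocone F).isColimit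
  let G := liftToFinsetObj F
  have hG : IsColimit (H.mapCocone (colimit.cocone G)) :=
    isColimitOfPreserves H (colimit.isColimit G)
  have hs : ∀ s : Finset (Discrete α),
      IsColimit (H.mapCocone (colimit.cocone (Discrete.functor fun x : s => F.obj x))) :=
    fun s => isColimitOfPreserves H (colimit.isColimit _)
  -- the cocone under `G ⋙ H` attached to a cocone under `F ⋙ H`
  let ts : ∀ (t : Cocone (F ⋙ H)) (s : Finset (Discrete α)),
      Cocone (Discrete.functor (fun x : s => F.obj x) ⋙ H) := fun t s =>
    { pt := t.pt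
      ι := Discrete.natTrans fun x => t.ι.app x.as.1 }
  have hts : ∀ (t : Cocone (F ⋙ H)) (s : Finset (Discrete α)) (x : s),
      H.map (Sigma.ι (fun y : s => F.obj y) x) ≫ (hs s).desc (ts t s) = t.ι.app x.1 :=
    fun t s x => (hs s).fac (ts t s) ⟨x⟩
  let tG : ∀ t : Cocone (F ⋙ H), Cocone (G ⋙ H) := fun t =>
    { pt := t.pt
      ι :=
        { app := fun s => (hs s).desc (ts t s)
          naturality := by
            intro s s' h
            apply (hs s).hom_ext
            rintro ⟨x⟩
            change H.map (Sigma.ι (fun y : s => F.obj y) x) ≫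
              (H.map (G.map h) ≫ (hs s').desc (ts t s')) =
                H.map (Sigma.ι (fun y : s => F.obj y) x) ≫ ((hs s).desc (ts t s) ≫ 𝟙 _)
            rw [Category.comp_id, hts, ← Category.assoc, ← H.map_comp, ι_map, hts] } }
  have htG : ∀ (t : Cocone (F ⋙ H)) (s : Finset (Discrete α)),
      H.map (colimit.ι G s) ≫ hG.desc (tG t) = (hs s).desc (ts t s) :=
    fun t s => hG.fac (tG t) s
  refine
    { desc := fun t => hG.desc (tG t)
      fac := ?_
      uniq := ?_ }
  · rintro t ⟨j⟩
    change H.map (Sigma.ι (fun x : ({⟨j⟩} : Finset (Discrete α)) => F.obj x) ⟨⟨j⟩, by simp⟩ ≫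
      colimit.ι G {⟨j⟩}) ≫ hG.desc (tG t) = t.ι.app ⟨j⟩
    rw [H.map_comp, Category.assoc, htG, hts]
  · intro t m hm
    apply hG.hom_ext
    intro s
    change H.map (colimit.ι G s) ≫ m = H.map (colimit.ι G s) ≫ hG.desc (tG t)
    rw [htG]
    apply (hs s).hom_ext
    rintro ⟨x⟩
    change H.map (Sigma.ι (fun y : s => F.obj y) x) ≫ (H.map (colimit.ι G s) ≫ m) =
      H.map (Sigma.ι (fun y : s => F.obj y) x) ≫ (hs s).desc (ts t s)
    rw [hts, ← hm x.1]
    have hx : ({x.1} : Finset (Discrete α)) ≤ s := Finset.singleton_subset_iff.2 x.2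
    have e1 : Sigma.ι (fun y : s => F.obj y) x ≫ colimit.ι G s =
        Sigma.ι (fun y : ({x.1} : Finset (Discrete α)) => F.obj y) ⟨x.1, by simp⟩ ≫
          colimit.ι G {x.1} := by
      rw [← colimit.w G (homOfLE hx), ← Category.assoc, ι_map]
    rw [← Category.assoc, ← H.map_comp, e1]
    rfl

/-- a functor preserving finite coproducts and the filtered colimits over finite subsets
preserves coproducts -/
theorem preservesColimitsOfShape_discrete : PreservesColimitsOfShape (Discrete α) H :=
  ⟨fun {F} => preservesColimitDiscrete H F⟩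

end H9FE.CoprodFiltered
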