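import Mathlib
import Groth.Prelude.Def_ARSys
import Groth.Agent.Lib.Helper9.FE.CsNoeth

/-! helper9: dévissage along powers of an integer in an abelian category, and constructibility of
the members of an `ℓ`-adic system of étale sheaves on a locally Noetherian scheme. -/

set_option autoImplicit false
set_option linter.unusedSectionVars false
set_option linter.style.haveILetI false
set_option backward.isDefEq.respectTransparency false
universe u
open CategoryTheory CategoryTheory.Limits AlgebraicGeometry Opposite Topology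

namespace H9FE.CsAdic
open H9FE.CsStrata H9FE.CsSub

section Abstract
variable {C : Type*} [Category C] [Abelian C]

theorem prop_of_pow_smul_eq_zero (P : C → Prop) (hiso : ∀ {A B : C}, (A ≅ B) → P A → P B)
    (hquot : ∀ {A B : C} (π : A ⟶ B) [Epi π], P A → P B)
    (hext : ∀ (S : ShortComplex C), S.ShortExact → P S.X₁ → P S.X₃ → P S.X₂)
    (ℓ : ℤ) (N : ℕ) : ∀ (A : C), (ℓ ^ N) • 𝟙 A = 0 → P (cokernel (ℓ • 𝟙 A)) → P A := by
  induction N with
  | zero =>
    intro A h0 hP
    have h1 : 𝟙 A = 0 := by simpa using h0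
    have hA : IsZero A := (IsZero.iff_id_eq_zero A).2 h1
    have hc : IsZero (cokernel (ℓ • 𝟙 A)) := by
      refine (IsZero.iff_id_eq_zero _).2 ?_
      rw [← cancel_epi (cokernel.π (ℓ • 𝟙 A))]
      exact hA.eq_of_src _ _
    exact hiso (hc.iso hA) hP
  | succ N ih =>
    intro A hA hP
    let f : A ⟶ A := ℓ • 𝟙 A
    let B := Abelian.image f
    let p : A ⟶ B := Abelian.factorThruImage f
    let i : B ⟶ A := Abelian.image.ι f
    have hpi : p ≫ i = f := Abelian.image.fac f
    have hB : (ℓ ^ N) • 𝟙 B = 0 := by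
      rw [← cancel_mono i, ← cancel_epi p]
      rw [zero_comp, comp_zero, Preadditive.zsmul_comp, Category.id_comp, Preadditive.comp_zsmul,
        hpi]
      show (ℓ ^ N) • (ℓ • 𝟙 A) = 0
      rw [smul_smul, ← pow_succ]
      exact hA
    have hcomm : f ≫ p = p ≫ (ℓ • 𝟙 B) := by
      show (ℓ • 𝟙 A) ≫ p = _
      rw [Preadditive.zsmul_comp, Category.id_comp, Preadditive.comp_zsmul, Category.comp_id]
    let q : cokernel f ⟶ cokernel (ℓ • 𝟙 B) :=
      cokernel.desc f (p ≫ cokernel.π (ℓ • 𝟙 B)) (by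
        rw [← Category.assoc, hcomm, Category.assoc, cokernel.condition, comp_zero])
    haveI : Epi q := by
      have h1 : cokernel.π f ≫ q = p ≫ cokernel.π (ℓ • 𝟙 B) := cokernel.π_desc _ _ _
      haveI : Epi (cokernel.π f ≫ q) := by
        rw [h1]
        infer_instance
      exact epi_of_epi (cokernel.π f) q
    have hPB : P B := ih B hB (hquot q hP)
    let S : ShortComplex C := ShortComplex.mk i (cokernel.π f) (kernel.condition _)
    have hS : S.ShortExact :=
      { exact := ShortComplex.exact_of_f_is_kernel S (kernelIsKernel (cokernel.π f))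
        mono_f := inferInstanceAs (Mono (kernel.ι (cokernel.π f)))
        epi_g := inferInstanceAs (Epi (cokernel.π f)) }
    exact hext S hS hPB hP

end Abstract

theorem adic_constructible (ℓ : ℕ) (X : Scheme.{u}) [IsLocallyNoetherian X]
    (F : ARSys.PS (EtCoh.Ab X)) (hF : ARSys.IsAdic (Ideal.span {(ℓ : ℤ)}) F)
    (h0 : EtPBC.IsConstructible (F.obj (op 0))) (n : ℕ) :
    EtPBC.IsConstructible (F.obj (op n)) := by
  let A := F.obj (op n)
  have hkill : ((ℓ : ℤ) ^ (n + 1)) • 𝟙 A = 0 :=
    hF.1 n _ (Ideal.pow_mem_pow (Ideal.mem_span_singleton_self _) _)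
  obtain ⟨hk0, huniv⟩ := hF.2 0 n (Nat.zero_le n)
  let t : A ⟶ F.obj (op 0) := ARSys.tr F (Nat.zero_le n)
  let f : A ⟶ A := (ℓ : ℤ) • 𝟙 A
  have hmem : ∀ a ∈ Ideal.span {(ℓ : ℤ)} ^ (0 + 1), ∃ b : ℤ, a = b * ℓ := by
    intro a ha
    rw [zero_add, pow_one] at ha
    obtain ⟨b, hb⟩ := Ideal.mem_span_singleton'.1 ha
    exact ⟨b, hb.symm⟩
  have hℓ0 : (ℓ : ℤ) • 𝟙 (F.obj (op 0)) = 0 := hk0 _ (by
    rw [zero_add, pow_one]
    exact Ideal.mem_span_singleton_self _)
  have hπk : ARSys.HomKilledBy (Ideal.span {(ℓ : ℤ)} ^ (0 + 1)) (cokernel.π f) := by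
    intro a ha
    obtain ⟨b, rfl⟩ := hmem a ha
    have h1 : (ℓ : ℤ) • cokernel.π f = 0 := by
      have := cokernel.condition f
      show (ℓ : ℤ) • cokernel.π f = 0
      rw [← this]
      show _ = ((ℓ : ℤ) • 𝟙 A) ≫ cokernel.π f
      rw [Preadditive.zsmul_comp, Category.id_comp]
    rw [mul_smul, h1, smul_zero]
  obtain ⟨ψ, hψ, hψu⟩ := huniv _ (cokernel.π f) hπk
  have hft : f ≫ t = 0 := by
    show ((ℓ : ℤ) • 𝟙 A) ≫ t = 0
    rw [Preadditive.zsmul_comp, Category.id_comp, ← Category.comp_id t, ← Preadditive.comp_zsmul,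
      hℓ0, comp_zero]
  let χ : cokernel f ⟶ F.obj (op 0) := cokernel.desc f t hft
  have htk : ARSys.HomKilledBy (Ideal.span {(ℓ : ℤ)} ^ (0 + 1)) t := by
    intro a ha
    have := hk0 a ha
    rw [← Category.comp_id t, ← Preadditive.comp_zsmul, this, comp_zero]
  have e : cokernel f ≅ F.obj (op 0) :=
    { hom := χ
      inv := ψ
      hom_inv_id := by
        rw [← cancel_epi (cokernel.π f), ← Category.assoc, cokernel.π_desc, hψ, Category.comp_id]
      inv_hom_id := by
        refine (huniv _ t htk).unique ?_ (Category.comp_id t)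
        rw [← Category.assoc, hψ, cokernel.π_desc] }
  refine constructible_of_open_cover A (fun U : X.affineOpens => U.1) (iSup_affineOpens_eq_top X) ?_
  intro U
  haveI : IsAffine U.1.toScheme := U.2
  haveI : IsLocallyNoetherian U.1.toScheme := isLocallyNoetherian_of_isOpenImmersion U.1.ι
  haveI : IsNoetherian U.1.toScheme := { }
  haveI := Groth.Agent.S0101.result U.1.ι
  apply prop_of_pow_smul_eq_zero (fun G : EtCoh.Ab U.1.toScheme => EtPBC.IsConstructible G)
    (fun e h => constructible_of_iso e h)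
    (fun π _ h => quotient_constructible _ π h)
    (fun S hS h1 h3 => constructible_extension S hS h1 h3) (ℓ : ℤ) (n + 1)
    ((EtCoh.pull U.1.ι).obj A)
  · rw [← (EtCoh.pull U.1.ι).map_id, ← Functor.map_zsmul, hkill, Functor.map_zero]
  · have h1 : EtPBC.IsConstructible ((EtCoh.pull U.1.ι).obj (F.obj (op 0))) :=
      pullback_constructible _ _ h0
    have h2 : EtPBC.IsConstructible ((EtCoh.pull U.1.ι).obj (cokernel f)) :=
      constructible_of_iso ((EtCoh.pull U.1.ι).mapIso e.symm) h1
    have h3 : EtPBC.IsConstructible (cokernel ((EtCoh.pull U.1.ι).map f)) :=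
      constructible_of_iso (PreservesCokernel.iso (EtCoh.pull U.1.ι) f) h2
    have : (EtCoh.pull U.1.ι).map f = (ℓ : ℤ) • 𝟙 ((EtCoh.pull U.1.ι).obj A) := by
      show (EtCoh.pull U.1.ι).map ((ℓ : ℤ) • 𝟙 A) = _
      rw [Functor.map_zsmul, (EtCoh.pull U.1.ι).map_id]
    exact constructible_of_iso (cokernelIsoOfEq this) h3

end H9FE.CsAdic
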