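import Mathlib
import Groth.Prelude.Def_EtBase
import Groth.Prelude.Def_PBC
import Groth.Agent.Lib.Helper9.FE.CsCompact

/-! helper9: a filtered system of constructible abelian étale sheaves on a quasi-compact
quasi-separated scheme whose colimit is constructible is essentially constant. -/

set_option autoImplicit false
set_option linter.unusedSectionVars false
set_option linter.style.haveILetI false
set_option backward.isDefEq.respectTransparency false
universe u
open CategoryTheory CategoryTheory.Limits AlgebraicGeometry Opposite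

namespace H9FE.CsEssConst

theorem main (X : Scheme.{u}) [CompactSpace X] [QuasiSeparatedSpace X]
    {J : Type u} [SmallCategory J] [IsFiltered J] (D : J ⥤ EtCoh.Ab X)
    (c : Cocone D) (hc : IsColimit c)
    (hD : ∀ j, EtPBC.IsConstructible (D.obj j)) (hF : EtPBC.IsConstructible c.pt) :
    ∃ (i : J) (s : c.pt ⟶ D.obj i), s ≫ c.ι.app i = 𝟙 c.pt ∧
      ∀ j : J, ∃ (k : J) (a : i ⟶ k) (b : j ⟶ k), D.map b = c.ι.app j ≫ s ≫ D.map a := by
  haveI := CsCompact.preserves_small X c.pt hF J
  have ht : IsColimit ((coyoneda.obj (op c.pt)).mapCocone c) := isColimitOfPreserves _ hc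
  obtain ⟨i, s, hs⟩ := Types.jointly_surjective_of_isColimit ht (𝟙 c.pt)
  have hs' : s ≫ c.ι.app i = 𝟙 c.pt := hs
  refine ⟨i, s, hs', fun j => ?_⟩
  haveI := CsCompact.preserves_small X (D.obj j) (hD j) J
  have htj : IsColimit ((coyoneda.obj (op (D.obj j))).mapCocone c) := isColimitOfPreserves _ hc
  let m := IsFiltered.max i j
  let x₁ : D.obj j ⟶ D.obj m := D.map (IsFiltered.rightToMax i j)
  let x₂ : D.obj j ⟶ D.obj m := c.ι.app j ≫ s ≫ D.map (IsFiltered.leftToMax i j)
  have hx : x₁ ≫ c.ι.app m = x₂ ≫ c.ι.app m := by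
    have h1 : x₁ ≫ c.ι.app m = c.ι.app j := c.w (IsFiltered.rightToMax i j)
    have h2 : x₂ ≫ c.ι.app m = c.ι.app j := by
      show (c.ι.app j ≫ s ≫ D.map (IsFiltered.leftToMax i j)) ≫ c.ι.app m = c.ι.app j
      rw [Category.assoc, Category.assoc, c.w (IsFiltered.leftToMax i j), hs']
      exact Category.comp_id _
    rw [h1, h2]
  obtain ⟨k, e, he⟩ := (Types.FilteredColimit.isColimit_eq_iff' htj x₁ x₂).1 hx
  have he' : x₁ ≫ D.map e = x₂ ≫ D.map e := he
  refine ⟨k, IsFiltered.leftToMax i j ≫ e, IsFiltered.rightToMax i j ≫ e, ?_⟩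
  rw [D.map_comp, D.map_comp]
  refine he'.trans ?_
  show (c.ι.app j ≫ s ≫ D.map (IsFiltered.leftToMax i j)) ≫ D.map e = _
  rw [Category.assoc, Category.assoc]

end H9FE.CsEssConst
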