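import Mathlib
import Groth.Prelude.Def_PBC
import Groth.Prelude.Def_EtShriek2
import Groth.Agent.S0654
import Groth.Agent.S0648
import Groth.Agent.S0623
import Groth.Agent.Lib.Helper9.FE.ShriekDecomp
import Groth.Agent.Lib.Helper9.FE.ShriekEtIso
import Groth.Agent.Lib.Helper9.FE.CsCons
import Groth.Agent.Lib.Helper9.FE.CsGlue

/-! helper9: a constructible abelian sheaf on a qcqs scheme has a finite filtration whose graded
pieces are extensions by zero of finite locally constant sheaves on constructible locally closed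
subschemes.  The filtration is `j_{k!} (F|_{U_k})` for a chain of quasi-compact opens adapted to a
stratification. -/

set_option autoImplicit false
set_option linter.unusedSectionVars false
set_option linter.style.haveILetI false
set_option backward.isDefEq.respectTransparency false

universe u

open CategoryTheory CategoryTheory.Limits AlgebraicGeometry Opposite

namespace H9FE.CsFilt

open EtShriek Groth.Agent.Lib.Helper5 H9FE.CsStrata

attribute [local instance] EtStalk.ab5' EtStalk.pfc

attribute [local instance] preservesBinaryBiproducts_of_preservesBinaryCoproducts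

section Basic

variable {X : Scheme.{u}}

/-- abelian sheaves on an empty scheme vanish -/
theorem isZero_of_isEmpty [IsEmpty X] (F : EtCoh.Ab X) : IsZero F := by
  apply EtStalk.isZero_of_stalks_family (fun x : X => EtStalk.geomPtAt x)
    (fun x => ⟨x, EtStalk.geomPtAt_default x⟩) F
  intro x
  exact (IsEmpty.false x).elim

/-- the counit `a_! a⁻¹ G ⟶ G` of a surjective open immersion is an isomorphism -/
theorem isIso_counit_of_surjective {A P : Scheme.{u}} (a : A ⟶ P) [IsOpenImmersion a]
    (hs : Function.Surjective a) (G : EtCoh.Ab P) :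
    IsIso ((extZeroAdj a).counit.app G) := by
  let Pt : A → EtStalk.GeomPt P := fun x =>
    { Ω := (EtStalk.geomPtAt x).Ω, ξ := (EtStalk.geomPtAt x).ξ ≫ a }
  apply ShriekEtIso.isIso_of_stalks_family Pt
  · intro p
    obtain ⟨x, hx⟩ := hs p
    refine ⟨x, ?_⟩
    show ((EtStalk.geomPtAt x).ξ ≫ a) default = p
    rw [← hx]
    exact congrArg (fun z => a z) (EtStalk.geomPtAt_default x)
  · intro x
    exact (ConcreteCategory.isIso_iff_bijective _).1 (ShriekDecomp.isIso_stalk_counit a G _)

/-- `a_! a⁻¹ F` -/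
noncomputable def K' {A : Scheme.{u}} (a : A ⟶ X) [IsOpenImmersion a] (F : EtCoh.Ab X) :
    EtCoh.Ab X :=
  (extZero a).obj ((restrAlong a).obj F)

/-- `a_! a⁻¹ F` only depends on the open subscheme up to isomorphism -/
theorem K'_iso {A B : Scheme.{u}} (a : A ⟶ X) (b : B ⟶ X) [IsOpenImmersion a]
    [IsOpenImmersion b] (θ : A ⟶ B) [IsIso θ] (h : θ ≫ b = a) (F : EtCoh.Ab X) :
    Nonempty (K' a F ≅ K' b F) := by
  subst h
  obtain ⟨ε⟩ := ShriekDecomp.extZeroComp θ b
  let ρ := ShriekDecomp.restrComp θ b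
  haveI : IsIso ((extZeroAdj θ).counit.app ((restrAlong b).obj F)) :=
    isIso_counit_of_surjective θ (ConcreteCategory.bijective_of_isIso θ.base).2 _
  refine ⟨?_⟩
  refine (ε.app _).symm ≪≫ (extZero b).mapIso ?_
  exact (extZero θ).mapIso ((ρ.app F).symm) ≪≫
    asIso ((extZeroAdj θ).counit.app ((restrAlong b).obj F))

end Basic

section Step

variable {X : Scheme.{u}} (F : EtCoh.Ab X)

/-- `j_! (F|_V)` for an open `V` -/
noncomputable abbrev K (V : X.Opens) : EtCoh.Ab X := K' V.ι F

/-- one step of the filtration -/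
def StepOK {A B : EtCoh.Ab X} (f : A ⟶ B) : Prop :=
  ∃ (U W : Scheme.{u}) (j : U ⟶ X) (_ : IsOpenImmersion j) (c : W ⟶ U)
    (_ : IsClosedImmersion c) (G : EtCoh.Ab W)
    (π : B ⟶ (EtShriek.extZero j).obj ((EtCoh.push c).obj G)) (hz : f ≫ π = 0),
    Topology.IsConstructible (Set.range (c ≫ j)) ∧ EtCoh.IsFiniteLocallyConstant G ∧
    (ShortComplex.mk f π hz).ShortExact

theorem step_exists [QuasiSeparatedSpace X] (U U' : X.Opens) (hle : U ≤ U')
    (hUc : IsCompact (U : Set X)) (hU'c : IsCompact (U' : Set X))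
    {T : Scheme.{u}} (g : T ⟶ X) [IsImmersion g] (hr : Set.range g = (U' : Set X) \ U)
    (hflc : flcP F g) : ∃ f : K F U ⟶ K F U', StepOK f := by
  let j' := U'.ι
  have hsub : Set.range g ⊆ Set.range j' := by
    rw [hr, Scheme.Opens.range_ι]
    exact Set.sdiff_subset
  let c : T ⟶ (U' : Scheme) := IsOpenImmersion.lift j' g hsub
  have hc : c ≫ j' = g := IsOpenImmersion.lift_fac _ _ _
  have hcpt : ∀ t : T, j' (c t) = g t := fun t => congrArg (fun m : T ⟶ X => m t) hc
  let A : (U' : Scheme).Opens := j' ⁻¹ᵁ U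
  have hrange : Set.range c.base = (A : Set (U' : Scheme))ᶜ := by
    ext x
    constructor
    · rintro ⟨t, rfl⟩ hxA
      have h1 : g t ∈ (U' : Set X) \ U := hr ▸ Set.mem_range_self t
      have h2 : j' (c t) ∈ (U : Set X) := hxA
      rw [hcpt t] at h2
      exact h1.2 h2
    · intro hx
      have h1 : j' x ∈ Set.range g := by
        rw [hr]
        exact ⟨x.2, hx⟩
      obtain ⟨t, ht⟩ := h1
      refine ⟨t, ?_⟩
      apply j'.isOpenEmbedding.injective
      exact (hcpt t).trans ht
  haveI : IsPreimmersion (c ≫ j') := by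
    rw [hc]
    infer_instance
  haveI : IsPreimmersion c := .of_comp c j'
  haveI : IsClosedImmersion c :=
    .of_isPreimmersion _ (by rw [hrange]; exact A.isOpen.isClosed_compl)
  let H : EtCoh.Ab (U' : Scheme) := (restrAlong j').obj F
  obtain ⟨w, hS⟩ := Groth.Agent.S0654.result c A (by rw [hrange, compl_compl]) H
  haveI : (extZero j').Additive := by
    haveI : (extZero j').IsLeftAdjoint := (extZeroAdj j').isLeftAdjoint
    exact Functor.additive_of_preservesBinaryBiproducts _
  haveI : PreservesFiniteLimits (extZero j') := Groth.Agent.S0648.result j'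
  haveI : PreservesFiniteColimits (extZero j') := by
    haveI : PreservesColimitsOfSize.{0, 0} (extZero j') :=
      (extZeroAdj j').leftAdjoint_preservesColimits
    exact PreservesColimitsOfSize.preservesFiniteColimits _
  have hS' := hS.map_of_exact (extZero j')
  obtain ⟨Φ0⟩ := ShriekDecomp.extZeroComp A.ι j'
  let ρ := ShriekDecomp.restrComp A.ι j'
  obtain ⟨Φ1⟩ := K'_iso (A.ι ≫ j') U.ι (Scheme.Opens.isoOfLE hle).hom
    (Scheme.Opens.isoOfLE_hom_ι hle) F
  let Φ : K F U ≅ (extZero j').obj ((extZero A.ι).obj ((restrAlong A.ι).obj H)) :=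
    Φ1.symm ≪≫ (extZero (A.ι ≫ j')).mapIso (ρ.app F).symm ≪≫ (Φ0.app _).symm
  let f : K F U ⟶ K F U' := Φ.hom ≫ (extZero j').map ((extZeroAdj A.ι).counit.app H)
  let π : K F U' ⟶ (extZero j').obj ((EtCoh.push c).obj ((EtCoh.pull c).obj H)) :=
    (extZero j').map ((EtCoh.pullPushAdj c).unit.app H)
  have hz : f ≫ π = 0 := by
    show (Φ.hom ≫ _) ≫ _ = 0
    rw [Category.assoc, ← Functor.map_comp, w, Functor.map_zero, comp_zero]
  refine ⟨f, (U' : Scheme), T, j', inferInstance, c, inferInstance, (EtCoh.pull c).obj H, π, hz,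
    ?_, ?_, ?_⟩
  · rw [hc, hr]
    exact (hU'c.isConstructible U'.isOpen).sdiff (hUc.isConstructible U.isOpen)
  · refine flc_of_iso ?_ hflc
    exact (EtCore.pullCongr hc.symm).app F ≪≫ (EtCore.pullComp c j').app F ≪≫
      (EtCoh.pull c).mapIso ((Groth.Agent.S0623.pullIso j').app F)
  · refine ShortComplex.shortExact_of_iso ?_ hS'
    exact ShortComplex.isoMk Φ.symm (Iso.refl _) (Iso.refl _) (by simp [f]) (by simp [π])

end Step

section Chain

variable {Y : Type*} [TopologicalSpace Y]

/-- a chain of quasi-compact opens `∅ = U 0 ⊆ U 1 ⊆ … ⊆ U n = univ` whose successive differences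
are each contained in or disjoint from every member of a given finite list of quasi-compact
opens -/
theorem exists_chain [CompactSpace Y] [QuasiSeparatedSpace Y] (L : List (Set Y))
    (hL : ∀ W ∈ L, IsOpen W ∧ IsCompact W) :
    ∃ (n : ℕ) (U : ℕ → Set Y), U 0 = ∅ ∧ (∀ m, n ≤ m → U m = Set.univ) ∧
      (∀ m, IsOpen (U m) ∧ IsCompact (U m)) ∧ (∀ m, U m ⊆ U (m + 1)) ∧
      ∀ m, ∀ W ∈ L, (U (m + 1) \ U m ⊆ W) ∨ Disjoint (U (m + 1) \ U m) W := by
  induction L with
  | nil =>
    refine ⟨1, fun m => if m = 0 then ∅ else Set.univ, by simp, ?_, ?_, ?_, ?_⟩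
    · intro m hm
      have : m ≠ 0 := by omega
      simp [this]
    · intro m
      by_cases h : m = 0
      · simp [h]
      · simp [h, isCompact_univ]
    · intro m
      simp
    · intro m W hW
      simp at hW
  | cons W L ih =>
    obtain ⟨n, U, h0, hn, hoc, hmono, hdiff⟩ :=
      ih (fun W' hW' => hL W' (List.mem_cons_of_mem _ hW'))
    obtain ⟨hWo, hWc⟩ := hL W List.mem_cons_self
    let U' : ℕ → Set Y := fun k => if k ≤ n then U k ∩ W else W ∪ U (k - n)
    have hU'le : ∀ k, k ≤ n → U' k = U k ∩ W := fun k hk => if_pos hk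
    have hU'gt : ∀ k, ¬ k ≤ n → U' k = W ∪ U (k - n) := fun k hk => if_neg hk
    have key : ∀ m, ∃ m', U' (m + 1) \ U' m ⊆ U (m' + 1) \ U m' ∧
        (U' (m + 1) \ U' m ⊆ W ∨ Disjoint (U' (m + 1) \ U' m) W) := by
      intro m
      by_cases h1 : m + 1 ≤ n
      · refine ⟨m, ?_, Or.inl ?_⟩
        · rw [hU'le _ h1, hU'le m (by omega)]
          rintro x ⟨⟨hx1, hx2⟩, hx3⟩
          exact ⟨hx1, fun h => hx3 ⟨h, hx2⟩⟩
        · rw [hU'le _ h1, hU'le m (by omega)]
          rintro x ⟨⟨hx1, hx2⟩, hx3⟩
          exact hx2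
      · by_cases h2 : m ≤ n
        · refine ⟨0, ?_, Or.inr ?_⟩
          · rw [hU'gt _ h1, hU'le m h2, hn m (by omega), h0]
            have h11 : m + 1 - n = 1 := by omega
            rw [h11]
            rintro x ⟨hx1, hx3⟩
            have hxW : x ∉ W := fun h => hx3 ⟨Set.mem_univ x, h⟩
            rcases hx1 with hx1 | hx1
            · exact (hxW hx1).elim
            · exact ⟨hx1, Set.notMem_empty x⟩
          · rw [hU'gt _ h1, hU'le m h2, hn m (by omega), Set.disjoint_left]
            rintro x ⟨hx1, hx3⟩ hxW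
            exact hx3 ⟨Set.mem_univ x, hxW⟩
        · refine ⟨m - n, ?_, Or.inr ?_⟩
          · rw [hU'gt _ h1, hU'gt m h2]
            have h11 : m + 1 - n = m - n + 1 := by omega
            rw [h11]
            rintro x ⟨hx1, hx3⟩
            rcases hx1 with hx1 | hx1
            · exact (hx3 (Or.inl hx1)).elim
            · exact ⟨hx1, fun h => hx3 (Or.inr h)⟩
          · rw [hU'gt _ h1, hU'gt m h2, Set.disjoint_left]
            rintro x ⟨hx1, hx3⟩ hxW
            exact hx3 (Or.inl hxW)
    refine ⟨2 * n + 1, U', ?_, ?_, ?_, ?_, ?_⟩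
    · rw [hU'le 0 (Nat.zero_le n), h0, Set.empty_inter]
    · intro m hm
      rw [hU'gt m (by omega), hn (m - n) (by omega), Set.union_univ]
    · intro m
      by_cases h : m ≤ n
      · rw [hU'le m h]
        exact ⟨(hoc m).1.inter hWo,
          QuasiSeparatedSpace.inter_isCompact _ _ (hoc m).1 (hoc m).2 hWo hWc⟩
      · rw [hU'gt m h]
        exact ⟨hWo.union (hoc _).1, hWc.union (hoc _).2⟩
    · intro m
      by_cases h1 : m + 1 ≤ n
      · rw [hU'le _ h1, hU'le m (by omega)]
        exact Set.inter_subset_inter_left _ (hmono m)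
      · by_cases h2 : m ≤ n
        · rw [hU'gt _ h1, hU'le m h2]
          exact Set.inter_subset_right.trans Set.subset_union_left
        · rw [hU'gt _ h1, hU'gt m h2]
          have h11 : m + 1 - n = m - n + 1 := by omega
          rw [h11]
          exact Set.union_subset_union_right _ (hmono _)
    · intro m W' hW'
      obtain ⟨m', hsub, hW⟩ := key m
      rcases List.mem_cons.1 hW' with h | hW'L
      · rw [h]
        exact hW
      · rcases hdiff m' W' hW'L with h | h
        · exact Or.inl (hsub.trans h)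
        · exact Or.inr (h.mono_left hsub)

end Chain

section Main

variable {X : Scheme.{u}} [CompactSpace X] [QuasiSeparatedSpace X]

/-- the filtration of a constructible sheaf -/
theorem exists_filtration (F : EtCoh.Ab X) (hF : EtPBC.IsConstructible F) :
    ∃ (n : ℕ) (E : Fin (n + 1) → EtCoh.Ab X) (ι : ∀ k : Fin n, E k.castSucc ⟶ E k.succ),
      IsZero (E 0) ∧ Nonempty (E (Fin.last n) ≅ F) ∧ ∀ k : Fin n, StepOK (ι k) := by
  classical
  by_cases hX : IsEmpty X
  · exact ⟨0, fun _ => F, fun k => k.elim0, isZero_of_isEmpty F, ⟨Iso.refl _⟩, fun k => k.elim0⟩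
  rw [not_isEmpty_iff] at hX
  obtain ⟨ι, hι, T, h, h1, h2, h3, h4, h5⟩ := strat_univ_of_constructible F hF
  haveI := hι
  haveI : ∀ i, IsImmersion (h i) := h1
  have hr : ∀ i, Topology.IsConstructible (Set.range (h i)) := by
    intro i
    have := (h2 i).image_of_isOpenEmbedding isOpen_univ.isOpenEmbedding_subtypeVal (by
      rw [Subtype.range_coe]
      exact IsRetrocompact.univ)
    rwa [Subtype.image_preimage_coe, Set.univ_inter] at this
  have hlc : ∀ i, IsLocallyClosed (Set.range (h i)) := fun i => (h i).isLocallyClosed_range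
  choose O G hOo hOc hGo hGc hOG using fun i => exists_compact_open_decomp (hr i) (hlc i)
  haveI : Fintype ι := Fintype.ofFinite ι
  let L : List (Set X) :=
    (Finset.univ : Finset ι).toList.map O ++ (Finset.univ : Finset ι).toList.map G
  have hL : ∀ W ∈ L, IsOpen W ∧ IsCompact W := by
    intro W hW
    rcases List.mem_append.1 hW with hW | hW
    · obtain ⟨i, -, rfl⟩ := List.mem_map.1 hW
      exact ⟨hOo i, hOc i⟩
    · obtain ⟨i, -, rfl⟩ := List.mem_map.1 hW
      exact ⟨hGo i, hGc i⟩
  have hOL : ∀ i, O i ∈ L := fun i => List.mem_append_left _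
    (List.mem_map.2 ⟨i, Finset.mem_toList.2 (Finset.mem_univ i), rfl⟩)
  have hGL : ∀ i, G i ∈ L := fun i => List.mem_append_right _
    (List.mem_map.2 ⟨i, Finset.mem_toList.2 (Finset.mem_univ i), rfl⟩)
  obtain ⟨n, U, hU0, hUn, hUoc, hUmono, hUdiff⟩ := exists_chain L hL
  have hstr : ∀ m, ∃ i, U (m + 1) \ U m ⊆ Set.range (h i) := by
    intro m
    by_cases hD : (U (m + 1) \ U m).Nonempty
    · obtain ⟨x, hx⟩ := hD
      have hxu : x ∈ ⋃ i, Set.range (h i) := by
        rw [h4]
        trivial
      obtain ⟨i, hi⟩ := Set.mem_iUnion.1 hxu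
      refine ⟨i, ?_⟩
      have hi' := hi
      rw [hOG i] at hi'
      have hO : U (m + 1) \ U m ⊆ O i := by
        rcases hUdiff m (O i) (hOL i) with h | h
        · exact h
        · exact (Set.disjoint_left.1 h hx hi'.1).elim
      have hG : Disjoint (U (m + 1) \ U m) (G i) := by
        rcases hUdiff m (G i) (hGL i) with h | h
        · exact (hi'.2 (h hx)).elim
        · exact h
      rw [hOG i]
      intro y hy
      exact ⟨hO hy, fun hyG => Set.disjoint_left.1 hG hy hyG⟩
    · obtain ⟨x⟩ := hX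
      have hxu : x ∈ ⋃ i, Set.range (h i) := by
        rw [h4]
        trivial
      obtain ⟨i, -⟩ := Set.mem_iUnion.1 hxu
      refine ⟨i, ?_⟩
      rw [Set.not_nonempty_iff_eq_empty.1 hD]
      exact Set.empty_subset _
  have himm : ∀ m, ∃ (T' : Scheme.{u}) (g : T' ⟶ X), IsImmersion g ∧
      Set.range g = U (m + 1) \ U m ∧ flcP F g := by
    intro m
    obtain ⟨i, hi⟩ := hstr m
    have hlcD0 : IsLocallyClosed (U (m + 1) \ U m) := by
      rw [Set.sdiff_eq]
      exact (hUoc (m + 1)).1.isLocallyClosed.inter (hUoc m).1.isClosed_compl.isLocallyClosed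
    have hlcD : IsLocallyClosed ((h i) ⁻¹' (U (m + 1) \ U m)) := hlcD0.preimage (h i).continuous
    obtain ⟨T', k, hk, hkr⟩ := exists_immersion_of_isLocallyClosed (T i) _ hlcD
    haveI := hk
    refine ⟨T', k ≫ h i, inferInstance, ?_, flcP_comp F k (h i) (h5 i)⟩
    rw [range_comp, hkr, Set.image_preimage_eq_inter_range, Set.inter_eq_left.2 hi]
  choose T' g hg hgr hgf using himm
  let V : ℕ → X.Opens := fun m => ⟨U m, (hUoc m).1⟩
  have hVle : ∀ m, V m ≤ V (m + 1) := fun m => hUmono m
  have hstep : ∀ k : Fin n, ∃ f : K F (V k.castSucc.val) ⟶ K F (V k.succ.val), StepOK f := by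
    intro k
    haveI := hg k.val
    exact step_exists F (V k.val) (V (k.val + 1)) (hVle k.val) (hUoc k.val).2
      (hUoc (k.val + 1)).2 (g k.val) (hgr k.val) (hgf k.val)
  choose f hf using hstep
  refine ⟨n, fun k => K F (V k.val), f, ?_, ?_, hf⟩
  · show IsZero (K F (V 0))
    haveI : IsEmpty ↥(V 0 : Scheme) := ⟨fun x => by
      have hx : x.1 ∈ U 0 := x.2
      rw [hU0] at hx
      exact hx⟩
    haveI : (extZero (V 0).ι).IsLeftAdjoint := (extZeroAdj (V 0).ι).isLeftAdjoint
    exact Functor.map_isZero (extZero (V 0).ι) (isZero_of_isEmpty _)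
  · show Nonempty (K F (V n) ≅ F)
    have hs : Function.Surjective (V n).ι := by
      intro x
      have hx : x ∈ Set.range (V n).ι := by
        rw [Scheme.Opens.range_ι]
        show x ∈ U n
        rw [hUn n le_rfl]
        trivial
      exact hx
    haveI := isIso_counit_of_surjective (V n).ι hs F
    exact ⟨asIso ((extZeroAdj (V n).ι).counit.app F)⟩

/-- a constructible abelian sheaf on a quasi-compact quasi-separated scheme has a finite filtration
whose successive quotients are `j_! c_* G` with `G` finite locally constant -/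
theorem main (F : EtCoh.Ab X) (hF : EtPBC.IsConstructible F) :
    ∃ (n : ℕ) (E : Fin (n + 1) → EtCoh.Ab X) (ι : ∀ k : Fin n, E k.castSucc ⟶ E k.succ),
      IsZero (E 0) ∧ Nonempty (E (Fin.last n) ≅ F) ∧
      ∀ k : Fin n, ∃ (U W : Scheme.{u}) (j : U ⟶ X) (_ : IsOpenImmersion j) (c : W ⟶ U)
        (_ : IsClosedImmersion c) (G : EtCoh.Ab W)
        (π : E k.succ ⟶ (EtShriek.extZero j).obj ((EtCoh.push c).obj G)) (hz : ι k ≫ π = 0),
        Topology.IsConstructible (Set.range (c ≫ j)) ∧ EtCoh.IsFiniteLocallyConstant G ∧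
        (ShortComplex.mk (ι k) π hz).ShortExact :=
  exists_filtration F hF

end Main

end H9FE.CsFilt
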