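import Mathlib
import Groth.Agent.Lib.Helper9.FE.AdjExt

/-! helper9: homological lemmas for Gabber's criterion: a positive-degree `Ext` class dies on an
epimorphism onto its source; `mapExactFunctor` along the identity functor and along functors
isomorphic to it; vanishing of `hp` of a class killed by an epimorphism that splits after applying
the functor. -/

set_option autoImplicit false
set_option linter.unusedSectionVars false
set_option linter.style.haveILetI false
universe w w' v v' u u'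
open CategoryTheory Limits Abelian

namespace H9FE.GabA
open H9FE.AdjExt H9FE.HpullComp H9FE.HpullCompEq

section LemmaE

variable {𝒜 : Type u} [Category.{v} 𝒜] [Abelian 𝒜] [HasExt.{w} 𝒜] [EnoughInjectives 𝒜]

/-- a positive-degree `Ext` class dies on an epimorphism onto its source -/
theorem exists_epi_comp_eq_zero : ∀ (n : ℕ) {A G : 𝒜} (ξ : Ext.{w} A G (n + 1)),
    ∃ (B : 𝒜) (π : B ⟶ A), Epi π ∧ (Ext.mk₀ π).comp ξ (zero_add (n + 1)) = 0 := by
  intro n
  induction n with
  | zero =>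
    intro A G ξ
    let I : InjectivePresentation G := Classical.arbitrary _
    let S : ShortComplex 𝒜 := ShortComplex.mk I.f (cokernel.π I.f) (cokernel.condition I.f)
    haveI : Mono I.f := I.mono
    have hS : S.ShortExact := { exact := ShortComplex.exact_cokernel I.f }
    have h0 : ξ.comp (Ext.mk₀ S.f) (add_zero (0 + 1)) = 0 := by
      haveI : Injective S.X₂ := I.injective
      exact Ext.eq_zero_of_injective _
    obtain ⟨x₁, rfl⟩ := Ext.covariant_sequence_exact₁ A hS ξ h0 (rfl : 0 + 1 = 0 + 1)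
    obtain ⟨φ, rfl⟩ := (Ext.mk₀_bijective A S.X₃).2 x₁
    haveI : Epi S.g := hS.epi_g
    refine ⟨pullback φ S.g, pullback.fst φ S.g, inferInstance, ?_⟩
    rw [mk₀_comp_mk₀_comp, pullback.condition, ← mk₀_comp_mk₀_comp, hS.comp_extClass,
      Ext.comp_zero]
  | succ n ih =>
    intro A G ξ
    let I : InjectivePresentation G := Classical.arbitrary _
    let S : ShortComplex 𝒜 := ShortComplex.mk I.f (cokernel.π I.f) (cokernel.condition I.f)
    haveI : Mono I.f := I.mono
    have hS : S.ShortExact := { exact := ShortComplex.exact_cokernel I.f }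
    have h0 : ξ.comp (Ext.mk₀ S.f) (add_zero (n + 1 + 1)) = 0 := by
      haveI : Injective S.X₂ := I.injective
      exact Ext.eq_zero_of_injective _
    obtain ⟨x₁, rfl⟩ := Ext.covariant_sequence_exact₁ A hS ξ h0 (rfl : n + 1 + 1 = n + 1 + 1)
    obtain ⟨B, π, hπ, h⟩ := ih x₁
    refine ⟨B, π, hπ, ?_⟩
    have e := Ext.comp_assoc (a₁ := 0) (a₂ := n + 1) (a₃ := 1) (Ext.mk₀ π) x₁ hS.extClass
      (zero_add (n + 1)) (rfl : n + 1 + 1 = n + 1 + 1) (by omega : 0 + (n + 1) + 1 = n + 1 + 1)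
    rw [← e, h, Ext.zero_comp]

end LemmaE

section IdFunctor

variable {𝒜 : Type u} [Category.{v} 𝒜] [Abelian 𝒜] [HasExt.{w} 𝒜] [EnoughInjectives 𝒜]

theorem mapExactFunctor_id : ∀ (n : ℕ) {X Y : 𝒜} (x : Ext.{w} X Y n),
    x.mapExactFunctor (𝟭 𝒜) = x := by
  intro n
  induction n with
  | zero =>
    intro X Y x
    obtain ⟨f, rfl⟩ := (Ext.mk₀_bijective X Y).2 x
    rw [Ext.mapExactFunctor_mk₀]
    rfl
  | succ n ih =>
    intro X Y x
    let I : InjectivePresentation Y := Classical.arbitrary _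
    let S : ShortComplex 𝒜 := ShortComplex.mk I.f (cokernel.π I.f) (cokernel.condition I.f)
    haveI : Mono I.f := I.mono
    have hS : S.ShortExact := { exact := ShortComplex.exact_cokernel I.f }
    have h0 : x.comp (Ext.mk₀ S.f) (add_zero (n + 1)) = 0 := by
      haveI : Injective S.X₂ := I.injective
      exact Ext.eq_zero_of_injective _
    obtain ⟨x₁, rfl⟩ := Ext.covariant_sequence_exact₁ X hS x h0 (rfl : n + 1 = n + 1)
    have e1 : (x₁.comp hS.extClass (rfl : n + 1 = n + 1)).mapExactFunctor (𝟭 𝒜) =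
        (x₁.mapExactFunctor (𝟭 𝒜)).comp (hS.map_of_exact (𝟭 𝒜)).extClass
          (rfl : n + 1 = n + 1) := by
      refine (Ext.mapExactFunctor_comp (𝟭 𝒜) _ _ _).trans ?_
      exact congrArg (fun z => (x₁.mapExactFunctor (𝟭 𝒜)).comp z
        (rfl : n + 1 = n + 1)) (Ext.mapExactFunctor_extClass (𝟭 𝒜) hS)
    rw [e1, ih x₁]
    rfl

/-- `mapExactFunctor` along a functor isomorphic to the identity is injective -/
theorem eq_zero_of_mapExactFunctor_eq_zero (L : 𝒜 ⥤ 𝒜) [L.Additive] [PreservesFiniteLimits L]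
    [PreservesFiniteColimits L] (τ : L ≅ 𝟭 𝒜) {n : ℕ} {X Y : 𝒜} (x : Ext.{w} X Y n)
    (h : x.mapExactFunctor L = 0) : x = 0 := by
  have hn := mapExactFunctor_naturality L (𝟭 𝒜) τ.hom n x
  rw [h, Ext.zero_comp, mapExactFunctor_id] at hn
  exact (mk₀_iso_comp_eq_zero_iff (τ.app X) x).1 hn.symm

end IdFunctor

section Split

variable {𝒜 : Type u} [Category.{v} 𝒜] [Abelian 𝒜] [HasExt.{w} 𝒜]
  {ℬ : Type u'} [Category.{v'} ℬ] [Abelian ℬ] [HasExt.{w'} ℬ]
  (L : 𝒜 ⥤ ℬ) [L.Additive] [PreservesFiniteLimits L] [PreservesFiniteColimits L]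
  {Z : 𝒜} {Z' : ℬ} (e : L.obj Z ≅ Z')

/-- if `ξ` dies on `π : B ⟶ Z` and `L π` admits a section compatible with `Z' ≅ L Z`, then
`hp ξ = 0` -/
theorem hp_eq_zero_of_section {B G : 𝒜} (π : B ⟶ Z) {n : ℕ} (ξ : Ext.{w} Z G n)
    (hξ : (Ext.mk₀ π).comp ξ (zero_add n) = 0) (σ : Z' ⟶ L.obj B)
    (hσ : σ ≫ L.map π = e.inv) : hp L e G n ξ = 0 := by
  rw [hp_apply, ← hσ, ← mk₀_comp_mk₀_comp]
  have h1 : (Ext.mk₀ (L.map π)).comp (ξ.mapExactFunctor L) (zero_add n) =
      ((Ext.mk₀ π).comp ξ (zero_add n)).mapExactFunctor L := by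
    rw [Ext.mapExactFunctor_comp, Ext.mapExactFunctor_mk₀]
  rw [h1, hξ, Ext.mapExactFunctor_zero, Ext.comp_zero]

end Split

end H9FE.GabA
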