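import Mathlib
import Groth.Prelude.Def_EtCore
import Groth.Prelude.Def_EtLim
import Groth.Agent.Lib.Helper9.FE.LimPull1

/-! helper9: calculus of `HpullThen` (pull back a cohomology class, then push along a morphism of
sheaves): transposes of composites (`flat_comp`), compatibility with pre- and post-composition
(`HpullThen_pre`, `HpullThen_post`) and with composition of morphisms of schemes
(`HpullThen_comp`). -/

set_option autoImplicit false
set_option linter.unusedSectionVars false
set_option linter.style.haveILetI false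
set_option backward.isDefEq.respectTransparency false
universe u
open CategoryTheory CategoryTheory.Limits AlgebraicGeometry Opposite Abelian

namespace H9FE.LimPull
open H9FE.LimTower H9FE.EtTr

section TC

variable {X Y Z : Scheme.{u}} (f : X ⟶ Y) (g : Y ⟶ Z) (h : X ⟶ Z) (w : f ≫ g = h)
  (F : EtCoh.Ab Z)

/-- the transpose of a morphism out of a pullback -/
noncomputable def flat {Y Z : Scheme.{u}} (g : Y ⟶ Z) {F : EtCoh.Ab Z} {A' : EtCoh.Ab Y}
    (α : (EtCoh.pull g).obj F ⟶ A') : F ⟶ (EtCoh.push g).obj A' :=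
  (EtCoh.pullPushAdj g).unit.app F ≫ (EtCoh.push g).map α

/-- transposes of composites -/
theorem flat_comp {A' : EtCoh.Ab Y} {A'' : EtCoh.Ab X} (α : (EtCoh.pull g).obj F ⟶ A')
    (β : (EtCoh.pull f).obj A' ⟶ A'') :
    flat h ((kap f g h w F).inv ≫ (EtCoh.pull f).map α ≫ β) =
      flat g α ≫ (EtCoh.push g).map (flat f β) ≫ (pc f g h w).hom.app A'' := by
  unfold flat
  have e1 := unit_psi_hom f g h w F
  rw [psi_def] at e1
  have n1 := (pc f g h w).hom.naturality ((kap f g h w F).inv ≫ (EtCoh.pull f).map α ≫ β)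
  have n2 := (EtCoh.pullPushAdj f).unit.naturality α
  simp only [Functor.comp_obj, Functor.comp_map, Functor.id_obj, Functor.id_map] at n1 n2
  have k1 : ((EtCoh.pullPushAdj f).unit.app ((EtCoh.pull g).obj F) ≫
      (EtCoh.push f).map (kap f g h w F).hom) ≫
      (EtCoh.push f).map ((kap f g h w F).inv ≫ (EtCoh.pull f).map α ≫ β) =
      α ≫ (EtCoh.pullPushAdj f).unit.app A' ≫ (EtCoh.push f).map β := by
    rw [Category.assoc, ← Functor.map_comp, Iso.hom_inv_id_assoc, Functor.map_comp,
      ← Category.assoc, ← n2, Category.assoc]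
  calc (EtCoh.pullPushAdj h).unit.app F ≫
        (EtCoh.push h).map ((kap f g h w F).inv ≫ (EtCoh.pull f).map α ≫ β)
      = ((EtCoh.pullPushAdj g).unit.app F ≫ (EtCoh.push g).map
          ((EtCoh.pullPushAdj f).unit.app ((EtCoh.pull g).obj F) ≫
            (EtCoh.push f).map (kap f g h w F).hom) ≫
          (pc f g h w).hom.app ((EtCoh.pull h).obj F)) ≫
        (EtCoh.push h).map ((kap f g h w F).inv ≫ (EtCoh.pull f).map α ≫ β) := by rw [e1]
    _ = (EtCoh.pullPushAdj g).unit.app F ≫ (EtCoh.push g).map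
          (((EtCoh.pullPushAdj f).unit.app ((EtCoh.pull g).obj F) ≫
            (EtCoh.push f).map (kap f g h w F).hom) ≫
            (EtCoh.push f).map ((kap f g h w F).inv ≫ (EtCoh.pull f).map α ≫ β)) ≫
          (pc f g h w).hom.app A'' := by
        rw [Category.assoc, Category.assoc, ← n1]
        simp only [Functor.map_comp, Category.assoc]
    _ = ((EtCoh.pullPushAdj g).unit.app F ≫ (EtCoh.push g).map α) ≫
          (EtCoh.push g).map ((EtCoh.pullPushAdj f).unit.app A' ≫ (EtCoh.push f).map β) ≫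
          (pc f g h w).hom.app A'' := by
        rw [k1, Functor.map_comp (EtCoh.push g), Category.assoc, Category.assoc]

end TC

section HT

variable {X Y : Scheme.{u}} (f : X ⟶ Y) [PreservesFiniteLimits (EtCoh.pull f)]

lemma HpullThen_flat (F : EtCoh.Ab Y) {M : EtCoh.Ab X} (α : (EtCoh.pull f).obj F ⟶ M) (n : ℕ)
    (x : EtCoh.H Y F n) : EtLim.HpullThen f F α n x = tr f (flat f α) n x :=
  HpullThen_eq f F α n x

lemma HpullThen_post (F : EtCoh.Ab Y) {M M' : EtCoh.Ab X} (α : (EtCoh.pull f).obj F ⟶ M)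
    (m : M ⟶ M') (n : ℕ) (x : EtCoh.H Y F n) :
    EtLim.HpullThen f F (α ≫ m) n x = ((EtCoh.HF X n).map m).hom (EtLim.HpullThen f F α n x) := by
  rw [HpullThen_flat, HpullThen_flat]
  have e : flat f (α ≫ m) = flat f α ≫ (EtCoh.push f).map m := by
    unfold flat
    rw [Functor.map_comp, Category.assoc]
  rw [e]
  exact tr_comp_right f (flat f α) m n x

lemma HpullThen_pre {F F' : EtCoh.Ab Y} (m : F ⟶ F') {M : EtCoh.Ab X}
    (β : (EtCoh.pull f).obj F' ⟶ M) (n : ℕ) (x : EtCoh.H Y F n) :
    EtLim.HpullThen f F' β n (((EtCoh.HF Y n).map m).hom x) =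
      EtLim.HpullThen f F ((EtCoh.pull f).map m ≫ β) n x := by
  rw [HpullThen_flat, HpullThen_flat]
  have e : flat f ((EtCoh.pull f).map m ≫ β) = m ≫ flat f β := by
    unfold flat
    have n2 := (EtCoh.pullPushAdj f).unit.naturality m
    simp only [Functor.comp_obj, Functor.comp_map, Functor.id_obj, Functor.id_map] at n2
    rw [Functor.map_comp, ← Category.assoc, ← n2, Category.assoc]
  rw [e]
  exact (tr_comp_left f m (flat f β) n x).symm

lemma Hpull_eq_HpullThen (F : EtCoh.Ab Y) (n : ℕ) (x : EtCoh.H Y F n) :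
    EtCore.Hpull f F n x = EtLim.HpullThen f F (𝟙 _) n x := by
  rw [HpullThen_flat, Hpull_eq_tr]
  congr 1

end HT

section HTC

variable {X Y Z : Scheme.{u}} (f : X ⟶ Y) (g : Y ⟶ Z) (h : X ⟶ Z) (w : f ≫ g = h)
  [PreservesFiniteLimits (EtCoh.pull f)] [PreservesFiniteLimits (EtCoh.pull g)]
  [PreservesFiniteLimits (EtCoh.pull h)] (F : EtCoh.Ab Z)

/-- composition of `HpullThen` -/
theorem HpullThen_comp {A' : EtCoh.Ab Y} {A'' : EtCoh.Ab X} (α : (EtCoh.pull g).obj F ⟶ A')
    (β : (EtCoh.pull f).obj A' ⟶ A'') (n : ℕ) (x : EtCoh.H Z F n) :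
    EtLim.HpullThen f A' β n (EtLim.HpullThen g F α n x) =
      EtLim.HpullThen h F ((kap f g h w F).inv ≫ (EtCoh.pull f).map α ≫ β) n x := by
  rw [HpullThen_flat, HpullThen_flat, HpullThen_flat, flat_comp,
    tr_comp' f g w (flat g α) (flat f β) n x]
  rfl

end HTC

end H9FE.LimPull
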