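import Mathlib
import Groth.Prelude.Def_EtCore
import Groth.Prelude.Def_EtLim
import Groth.Agent.Lib.Helper9.FE.LimPull6

/-! helper9: two-stage forms of the `HpullThen` calculus used for systems of sheaves on a tower
(`two_stage_mid`, `two_stage_bot`), the generic form `ptcG` of the isomorphisms `pullTrans` and
`pullTransCone`, and iterated pullbacks (`HpullVia_Hpull`, `Hpull_Hpull_eq_zero`). -/

set_option autoImplicit false
set_option linter.unusedSectionVars false
set_option linter.style.haveILetI false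
set_option backward.isDefEq.respectTransparency false
universe u
open CategoryTheory CategoryTheory.Limits AlgebraicGeometry Opposite Abelian

namespace H9FE.LimPull
open H9FE.LimTower H9FE.EtTr

section Two

variable {X Y Z : Scheme.{u}} (f : X ⟶ Y) (g : Y ⟶ Z) (h : X ⟶ Z) (w : f ≫ g = h)
  [PreservesFiniteLimits (EtCoh.pull f)] [PreservesFiniteLimits (EtCoh.pull g)]
  [PreservesFiniteLimits (EtCoh.pull h)] (F : EtCoh.Ab Z)

lemma HpullVia_eq_HpullThen (n : ℕ) :
    EtCore.HpullVia f g h w F n =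
      EtLim.HpullThen f ((EtCoh.pull g).obj F) (kap f g h w F).hom n := rfl

/-- generic form of `pullTrans` and `pullTransCone` -/
noncomputable def ptcG (w' : h = f ≫ g) : EtCoh.pull h ≅ EtCoh.pull g ⋙ EtCoh.pull f :=
  EtCore.pullCongr w' ≪≫ EtCore.pullComp f g

lemma ptcG_eq (w' : h = f ≫ g) :
    (ptcG f g h w').hom.app F = (kap f g h w F).inv := by
  subst w
  unfold kap ptcG
  simp [EtCore.pullCongr]

variable {F' : EtCoh.Ab Y} {M : EtCoh.Ab X} (φ : (EtCoh.pull g).obj F ⟶ F')
  (β : (EtCoh.pull f).obj F' ⟶ M) (γ : (EtCoh.pull h).obj F ⟶ M)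
  (κ : (EtCoh.pull h).obj F ⟶ (EtCoh.pull f).obj ((EtCoh.pull g).obj F))
  (hκ : κ = (kap f g h w F).inv) (hγ : γ = κ ≫ (EtCoh.pull f).map φ ≫ β)

include hκ hγ in
/-- two-stage pullback of a class on the middle stage -/
theorem two_stage_mid (n : ℕ) (α : EtCoh.H Y ((EtCoh.pull g).obj F) n) :
    EtLim.HpullThen f F' β n (((EtCoh.HF Y n).map φ).hom α) =
      ((EtCoh.HF X n).map γ).hom (EtCore.HpullVia f g h w F n α) := by
  have e1 : (EtCoh.pull f).map φ ≫ β = (kap f g h w F).hom ≫ γ := by
    rw [hγ, hκ, Iso.hom_inv_id_assoc]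
  rw [HpullThen_pre, e1, HpullThen_post, HpullVia_eq_HpullThen]

include hκ hγ in
/-- two-stage pullback of a class on the bottom stage -/
theorem two_stage_bot (n : ℕ) (x : EtCoh.H Z F n) :
    EtLim.HpullThen h F γ n x =
      EtLim.HpullThen f F' β n (EtLim.HpullThen g F φ n x) := by
  rw [HpullThen_comp f g h w F φ β n x, hγ, hκ]

/-- pulling back along an endomorphism of the middle stage first does not change the pullback -/
theorem HpullVia_Hpull (n : ℕ) (z : EtCoh.H Z F n) :
    EtCore.HpullVia f g h w F n (EtCore.Hpull g F n z) = EtCore.Hpull h F n z := by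
  rw [HpullVia_eq_HpullThen, Hpull_eq_HpullThen g F n z, Hpull_eq_HpullThen h F n z,
    HpullThen_comp f g h w F (𝟙 _) (kap f g h w F).hom n z]
  congr 2
  rw [CategoryTheory.Functor.map_id, Category.id_comp, Iso.inv_hom_id]

include w in
/-- iterated pullback vanishes iff the pullback along the composite does -/
theorem Hpull_Hpull_eq_zero (n : ℕ) (z : EtCoh.H Z F n)
    (hz : EtCore.Hpull f ((EtCoh.pull g).obj F) n (EtCore.Hpull g F n z) = 0) :
    EtCore.Hpull h F n z = 0 := by
  rw [Hpull_eq_HpullThen f _ n, Hpull_eq_HpullThen g F n z,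
    HpullThen_comp f g h w F (𝟙 _) (𝟙 _) n z] at hz
  have e : (kap f g h w F).inv ≫ (EtCoh.pull f).map (𝟙 ((EtCoh.pull g).obj F)) ≫ 𝟙 _ =
      𝟙 _ ≫ (kap f g h w F).inv := by
    rw [CategoryTheory.Functor.map_id, Category.id_comp, Category.comp_id, Category.id_comp]
  rw [e, HpullThen_post, ← Hpull_eq_HpullThen h F n z] at hz
  have h2 := congrArg ((EtCoh.HF X n).map (kap f g h w F).hom).hom hz
  rw [map_zero] at h2
  rw [← h2]
  have e1 : (EtCoh.HF X n).map (kap f g h w F).inv ≫ (EtCoh.HF X n).map (kap f g h w F).hom =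
      𝟙 _ := by
    rw [← Functor.map_comp, Iso.inv_hom_id, CategoryTheory.Functor.map_id]
  exact (ConcreteCategory.congr_hom e1 _).symm

end Two

end H9FE.LimPull
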