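import Mathlib
import Groth.Prelude.Def_EtCore
import Groth.Agent.S0101
import Groth.Agent.S0088
import Groth.Agent.Lib.Helper9.FE.GabA
import Groth.Agent.Lib.Helper9.FE.LimPull8

/-! helper9: pullback of étale cohomology along the identity and along isomorphisms is injective;
cohomology of the empty scheme vanishes; transfer of vanishing along isomorphisms. -/

set_option autoImplicit false
set_option linter.unusedSectionVars false
set_option linter.style.haveILetI false
set_option backward.isDefEq.respectTransparency false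
universe u
open CategoryTheory CategoryTheory.Limits AlgebraicGeometry Opposite Abelian

namespace H9FE.GabB
open H9FE.GabA H9FE.HpullComp H9FE.LimPull H9FE.EtTr

/-- pullback of abelian étale sheaves is exact -/
theorem pullLex {X Y : Scheme.{u}} (f : X ⟶ Y) : PreservesFiniteLimits (EtCoh.pull f) :=
  Groth.Agent.S0101.result f

attribute [local instance] pullLex

/-- base change along the identity -/
noncomputable def bcIdIso (Y : Scheme.{u}) : EtCoh.bc (𝟙 Y) ≅ 𝟭 Y.Etale :=
  NatIso.ofComponents (fun A => MorphismProperty.Over.isoMk (asIso (pullback.fst A.hom (𝟙 Y))) (by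
    simp [EtCoh.bc, pullback.condition])) (by
    intro A B g
    apply MorphismProperty.Over.Hom.ext
    show ((EtCoh.bc (𝟙 Y)).map g).left ≫ pullback.fst B.hom (𝟙 Y) =
      pullback.fst A.hom (𝟙 Y) ≫ g.left
    exact pullback.lift_fst _ _ _)

/-- direct image along the identity -/
noncomputable def pushId (Y : Scheme.{u}) : EtCoh.push (𝟙 Y) ≅ 𝟭 (EtCoh.Ab Y) :=
  Functor.sheafPushforwardContinuousId' (bcIdIso Y) AddCommGrpCat.{u + 1} Y.smallEtaleTopology

/-- inverse image along the identity -/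
noncomputable def pullId (Y : Scheme.{u}) : EtCoh.pull (𝟙 Y) ≅ 𝟭 (EtCoh.Ab Y) :=
  (EtCoh.pullPushAdj (𝟙 Y)).leftAdjointUniq
    ((Adjunction.id (C := EtCoh.Ab Y)).ofNatIsoRight (pushId Y).symm)

theorem Hpull_id_eq_zero {Y : Scheme.{u}} (G : EtCoh.Ab Y) (n : ℕ) (α : EtCoh.H Y G n)
    (h : EtCore.Hpull (𝟙 Y) G n α = 0) : α = 0 := by
  rw [Hpull_eq_zero_iff] at h
  exact eq_zero_of_mapExactFunctor_eq_zero (EtCoh.pull (𝟙 Y)) (pullId Y) α h

theorem Hpull_eq_zero_of_eq_id {Y : Scheme.{u}} (f : Y ⟶ Y) (hf : f = 𝟙 Y) (G : EtCoh.Ab Y)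
    (n : ℕ) (α : EtCoh.H Y G n) (h : EtCore.Hpull f G n α = 0) : α = 0 := by
  subst hf
  exact Hpull_id_eq_zero G n α h

/-- pullback along an isomorphism is injective on cohomology -/
theorem Hpull_eq_zero_of_isIso {X Y : Scheme.{u}} (f : X ⟶ Y) [IsIso f] (G : EtCoh.Ab Y) (n : ℕ)
    (α : EtCoh.H Y G n) (h : EtCore.Hpull f G n α = 0) : α = 0 := by
  apply Hpull_id_eq_zero G n α
  refine Hpull_Hpull_eq_zero (inv f) f (𝟙 Y) (IsIso.inv_hom_id f) G n α ?_
  rw [h, map_zero]

/-- the cohomology of the empty scheme vanishes -/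
theorem subsingleton_H_of_isEmpty (Y : Scheme.{u}) [IsEmpty Y] (G : EtCoh.Ab Y) (n : ℕ) :
    Subsingleton (EtCoh.H Y G n) := by
  apply Sheaf.subsingleton_H_of_isZero
  rw [IsZero.iff_id_eq_zero]
  apply Sheaf.hom_ext
  ext V x
  haveI : IsEmpty (unop V).left := ⟨fun v => IsEmpty.false (α := Y) ((unop V).hom v)⟩
  have hP : Presieve.IsSheaf Y.smallEtaleTopology (G.obj ⋙ forget _) :=
    (isSheaf_iff_isSheaf_of_type _ _).1
      (Presheaf.isSheaf_comp_of_isSheaf _ G.obj (forget _) G.2)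
  haveI := Groth.Agent.S0088.Aux.subsingleton_of_isEmpty (G.obj ⋙ forget _) hP (unop V)
  exact Subsingleton.elim (α := (G.obj ⋙ forget _).obj (op (unop V))) _ _

theorem subsingleton_H_of_iso {V : Scheme.{u}} {M M' : EtCoh.Ab V} (e : M ≅ M') (n : ℕ)
    (h : Subsingleton (EtCoh.H V M' n)) : Subsingleton (EtCoh.H V M n) := by
  refine ⟨fun a b => ?_⟩
  have h1 : ((EtCoh.HF V n).map e.hom).hom a = ((EtCoh.HF V n).map e.hom).hom b :=
    @Subsingleton.elim _ h _ _
  have h2 := congrArg ((EtCoh.HF V n).map e.inv).hom h1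
  have e1 : (EtCoh.HF V n).map e.hom ≫ (EtCoh.HF V n).map e.inv = 𝟙 _ := by
    rw [← Functor.map_comp, Iso.hom_inv_id, CategoryTheory.Functor.map_id]
  have ha := ConcreteCategory.congr_hom e1 a
  have hb := ConcreteCategory.congr_hom e1 b
  exact ha.symm.trans (h2.trans hb)

theorem subsingleton_H_of_isIso {A B : Scheme.{u}} (c : A ⟶ B) [IsIso c] (N : EtCoh.Ab B) (n : ℕ)
    (h : Subsingleton (EtCoh.H A ((EtCoh.pull c).obj N) n)) : Subsingleton (EtCoh.H B N n) := by
  refine ⟨fun a b => ?_⟩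
  have h0 : a - b = 0 := Hpull_eq_zero_of_isIso c N n (a - b) (Subsingleton.elim _ _)
  exact sub_eq_zero.1 h0

end H9FE.GabB
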