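import Mathlib
import Groth.Prelude.Def_EtBase
import Groth.Prelude.Def_EtShriek2
import Groth.Prelude.Def_PBC
import Groth.Agent.S0623
import Groth.Agent.S0686
import Groth.Agent.S0727
import Groth.Agent.Lib.Helper9.FE.CsColim
import Groth.Agent.Lib.Helper9.FE.CsPb
import Groth.Agent.Lib.Helper9.FE.CsGlue
import Groth.Agent.Lib.Helper9.FE.GabB
import Groth.Agent.Lib.Helper5.Misc.EtShriekBC

/-! helper9: extension by zero along an étale morphism of quasi-compact quasi-separated schemes
preserves constructible sheaves (via the presentation by the sheaves `j_! ℤ/n`); for a finite étale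
morphism `f` the direct image `f_*` agrees with `f_!`, hence preserves constructible sheaves (the
general case reduces to affine opens of the target by base change along open immersions). -/

set_option autoImplicit false
set_option linter.unusedSectionVars false
set_option linter.style.haveILetI false
set_option backward.isDefEq.respectTransparency false
universe u
open CategoryTheory CategoryTheory.Limits AlgebraicGeometry Opposite ZeroObject

namespace H9FE.CsFinEtPush
open EtShriek H9FE.CsStrata H9FE.CsSub H9FE.CsGen H9FE.ShriekConst H9FE.ShriekDecomp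
  Groth.Agent.Lib.Helper5

attribute [local instance] preservesBinaryBiproducts_of_preservesBinaryCoproducts

section ExtZero

variable {X Y : Scheme.{u}} [CompactSpace X] [QuasiSeparatedSpace X] [CompactSpace Y]
  [QuasiSeparatedSpace Y] (f : X ⟶ Y) [Etale f]

theorem constructible_extZero_gen (U : X.Etale) [IsAffine U.left] (M : Type) [AddCommGroup M]
    [Finite M] : EtPBC.IsConstructible ((extZero f).obj (EtPBC.extZeroConst U M)) := by
  haveI : Etale U.hom := U.prop
  obtain ⟨ec⟩ := extZeroComp U.hom f
  have e1 : EtPBC.extZeroConst U M ≅ (extZero U.hom).obj (EtCoh.const U.left M) :=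
    (constIso U).app (AddCommGrpCat.of (ULift.{u + 1} M))
  have e2 : (extZero f).obj (EtPBC.extZeroConst U M) ≅
      (extZero (U.hom ≫ f)).obj (EtCoh.const U.left M) :=
    (extZero f).mapIso e1 ≪≫ ec.app _
  refine constructible_of_iso e2.symm ?_
  exact ShriekFLC.main (U := U.left) (X := Y) (U.hom ≫ f) (EtCoh.const U.left M)
    (flc_const U.left M)

/-- extension by zero along an étale morphism of qcqs schemes preserves constructibility -/
theorem constructible_extZero (G : EtCoh.Ab X) (hG : EtPBC.IsConstructible G) :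
    EtPBC.IsConstructible ((extZero f).obj G) := by
  obtain ⟨a, b, U, V, n, m, hU, hV, φ, ⟨e⟩⟩ := (CsKill.main X G).1 hG
  haveI : (extZero f).IsLeftAdjoint := (extZeroAdj f).isLeftAdjoint
  haveI : (extZero f).Additive := Functor.additive_of_preservesBinaryBiproducts _
  have e1 : (extZero f).obj G ≅ cokernel ((extZero f).map φ) :=
    (extZero f).mapIso e ≪≫ PreservesCokernel.iso (extZero f) φ
  refine constructible_of_iso e1.symm ?_
  have hsrc : EtPBC.IsConstructible
      ((extZero f).obj (⨁ fun j => EtPBC.extZeroConst (V j) (ZMod (m j)))) := by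
    refine constructible_of_iso ((extZero f).mapBiproduct _).symm ?_
    exact constructible_biproduct _ (fun j => by
      haveI := (hV j).2
      haveI : NeZero (m j) := ⟨(hV j).1.ne'⟩
      exact constructible_extZero_gen f (V j) (ZMod (m j)))
  have htgt : EtPBC.IsConstructible
      ((extZero f).obj (⨁ fun i => EtPBC.extZeroConst (U i) (ZMod (n i)))) := by
    refine constructible_of_iso ((extZero f).mapBiproduct _).symm ?_
    exact constructible_biproduct _ (fun i => by
      haveI := (hU i).2
      haveI : NeZero (n i) := ⟨(hU i).1.ne'⟩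
      exact constructible_extZero_gen f (U i) (ZMod (n i)))
  exact (constructible_kernel_cokernel ((extZero f).map φ) hsrc htgt).2

end ExtZero

section Push

variable {X Y : Scheme.{u}} (f : X ⟶ Y) [IsFinite f] [Etale f]

/-- extension by zero along the identity is the identity -/
noncomputable def extZeroId (X : Scheme.{u}) : extZero (𝟙 X) ≅ 𝟭 (EtCoh.Ab X) :=
  ((extZeroAdj (𝟙 X)).ofNatIsoRight
    ((Groth.Agent.S0623.pullIso (𝟙 X)).symm ≪≫ H9FE.GabB.pullId X)).leftAdjointUniq Adjunction.id

/-- for a finite étale morphism, `f_! ≅ f_*` -/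
theorem extZero_iso_push : Nonempty (extZero f ≅ EtCoh.push f) := by
  obtain ⟨e1⟩ := Groth.Agent.S0727.result f
  obtain ⟨e2⟩ := Groth.Agent.S0686.result (𝟙 X) f f (Category.id_comp f).symm
  exact ⟨e1 ≪≫ e2 ≪≫ Functor.isoWhiskerRight (extZeroId X) (EtCoh.push f) ≪≫ Functor.leftUnitor _⟩

theorem push_constructible_qcqs [CompactSpace X] [QuasiSeparatedSpace X] [CompactSpace Y]
    [QuasiSeparatedSpace Y] (G : EtCoh.Ab X) (hG : EtPBC.IsConstructible G) :
    EtPBC.IsConstructible ((EtCoh.push f).obj G) := by
  obtain ⟨e⟩ := extZero_iso_push f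
  exact constructible_of_iso (e.app G) (constructible_extZero f G hG)

end Push

/-- direct image along a finite étale morphism preserves constructibility -/
theorem main {X Y : Scheme.{u}} (f : X ⟶ Y) [IsFinite f] [Etale f] (F : EtCoh.Ab X)
    (hF : EtPBC.IsConstructible F) : EtPBC.IsConstructible ((EtCoh.push f).obj F) := by
  apply constructible_of_open_cover _ (fun V : Y.affineOpens => V.1) (iSup_affineOpens_eq_top Y)
  intro V
  have h : IsPullback (f ⁻¹ᵁ V.1).ι (f ∣_ V.1) f V.1.ι := (isPullback_morphismRestrict f V.1).flip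
  haveI : IsFinite (f ∣_ V.1) := MorphismProperty.of_isPullback (P := @IsFinite) h inferInstance
  haveI : Etale (f ∣_ V.1) := MorphismProperty.of_isPullback (P := @Etale) h inferInstance
  haveI : IsAffine (V.1 : Scheme.{u}) := V.2
  haveI : IsAffine ((f ⁻¹ᵁ V.1 : X.Opens) : Scheme.{u}) := V.2.preimage f
  have e : (EtCoh.pull V.1.ι).obj ((EtCoh.push f).obj F) ≅
      (EtCoh.push (f ∣_ V.1)).obj ((EtCoh.pull (f ⁻¹ᵁ V.1).ι).obj F) :=
    (Groth.Agent.S0623.pullIso V.1.ι).app _ ≪≫
      ((EtShriekBC.rightIso V.1.ι f (f ⁻¹ᵁ V.1).ι (f ∣_ V.1) h).app F).symm ≪≫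
      (EtCoh.push (f ∣_ V.1)).mapIso ((Groth.Agent.S0623.pullIso (f ⁻¹ᵁ V.1).ι).app F).symm
  exact constructible_of_iso e.symm
    (push_constructible_qcqs (f ∣_ V.1) _ (pullback_constructible (f ⁻¹ᵁ V.1).ι F hF))

end H9FE.CsFinEtPush
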