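import Mathlib
import Groth.Prelude.Def_PBC
import Groth.Agent.Lib.Helper7.Spectral
import Groth.Agent.Lib.Helper9.FE.CsSurjPull

/-! helper9: constructibility of an abelian étale sheaf can be tested after inverse image along a
surjective morphism locally of finite presentation (no quasi-compactness hypotheses): Chevalley's
theorem and compactness of the constructible topology reduce to the case of qcqs schemes. -/

set_option autoImplicit false
set_option linter.unusedSectionVars false
set_option linter.style.haveILetI false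
set_option backward.isDefEq.respectTransparency false

universe u

open CategoryTheory CategoryTheory.Limits AlgebraicGeometry Opposite

namespace H9FE.CsLfpPull

open H9FE.CsStrata H9FE.CsSub

section Top

variable {X : Type u} [TopologicalSpace X]

theorem isClopen_cons_of_isConstructible [SpectralSpace X] {E : Set X}
    (hE : Topology.IsConstructible E) : @IsClopen X (constructibleTopology X) E := by
  induction hE using Topology.IsConstructible.empty_union_induction with
  | open_retrocompact U hUo hUc =>
    exact Groth.Agent.Helper7.isClopen_cons_of_isCompact_isOpen hUo hUc.isCompact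
  | union s hs t ht hs' ht' => exact @IsClopen.union X (constructibleTopology X) s t hs' ht'
  | compl s hs hs' => exact @IsClopen.compl X (constructibleTopology X) s hs'

theorem exists_finite_subcover_of_constructible [SpectralSpace X] {ι : Type*}
    (E : ι → Set X) (hE : ∀ i, Topology.IsConstructible (E i)) (hcov : ⋃ i, E i = Set.univ) :
    ∃ s : Finset ι, ⋃ i ∈ s, E i = Set.univ := by
  have hc := Groth.Agent.Helper7.compactSpace_cons (X := X)
  obtain ⟨s, hs⟩ := @IsCompact.elim_finite_subcover X (constructibleTopology X) Set.univ ι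
    (@CompactSpace.isCompact_univ X (constructibleTopology X) hc) E
    (fun i => (isClopen_cons_of_isConstructible (hE i)).2) (by rw [hcov])
  exact ⟨s, Set.eq_univ_of_univ_subset hs⟩

end Top

theorem constructible_pull_of_comm {A B C D : Scheme.{u}} (a : A ⟶ B) (c : B ⟶ D) (k : A ⟶ C)
    (f : C ⟶ D) (w : a ≫ c = k ≫ f) (F : EtCoh.Ab D)
    (h : EtPBC.IsConstructible ((EtCoh.pull f).obj F)) :
    EtPBC.IsConstructible ((EtCoh.pull a).obj ((EtCoh.pull c).obj F)) := by
  have h1 := pullback_constructible k _ h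
  refine constructible_of_iso ?_ h1
  exact ((EtCore.pullComp k f).app F).symm ≪≫ (EtCore.pullCongr w.symm).app F ≪≫
    (EtCore.pullComp a c).app F

theorem main_aux {X Y : Scheme.{u}} (f : X ⟶ Y) [Surjective f] [LocallyOfFinitePresentation f]
    (F : EtCoh.Ab Y) (h : EtPBC.IsConstructible ((EtCoh.pull f).obj F)) (V : Y.Opens)
    (hV : IsAffineOpen V) : EtPBC.IsConstructible ((EtCoh.pull V.ι).obj F) := by
  haveI : IsAffine (V : Scheme) := hV
  let XV : Scheme.{u} := ↑(f ⁻¹ᵁ V)
  let fV : XV ⟶ V := f ∣_ V
  have hcomm : fV ≫ V.ι = (f ⁻¹ᵁ V).ι ≫ f := morphismRestrict_ι f V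
  have hF' : EtPBC.IsConstructible ((EtCoh.pull fV).obj ((EtCoh.pull V.ι).obj F)) :=
    constructible_pull_of_comm fV V.ι (f ⁻¹ᵁ V).ι f hcomm F h
  let I := XV.affineOpens
  let g : ∀ W : I, (W.1 : Scheme) ⟶ V := fun W => W.1.ι ≫ fV
  haveI : Surjective fV := IsZariskiLocalAtTarget.restrict (P := @Surjective) ‹_› V
  haveI : LocallyOfFinitePresentation fV :=
    IsZariskiLocalAtTarget.restrict (P := @LocallyOfFinitePresentation) ‹_› V
  have hgc : ∀ W : I, Topology.IsConstructible (Set.range (g W)) := by
    intro W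
    haveI : IsAffine (W.1 : Scheme) := W.2
    haveI : LocallyOfFinitePresentation (g W) := inferInstance
    haveI : QuasiCompact (g W) :=
      (HasAffineProperty.iff_of_isAffine (P := @QuasiCompact)).mpr inferInstance
    have h1 := (g W).isConstructible_image (s := Set.univ) Topology.IsConstructible.univ
    rwa [Set.image_univ] at h1
  have hcov : ⋃ W : I, Set.range (g W) = Set.univ := by
    apply Set.eq_univ_of_forall
    intro v
    obtain ⟨x, hx⟩ := fV.surjective v
    obtain ⟨W, hW, hxW, -⟩ := exists_affine_nhd (⊤ : XV.Opens) x trivial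
    exact Set.mem_iUnion.2 ⟨⟨W, hW⟩, ⟨⟨x, hxW⟩, hx⟩⟩
  haveI : SpectralSpace ↥(V : Scheme) := {}
  obtain ⟨s, hs⟩ := exists_finite_subcover_of_constructible
    (fun W : I => Set.range (g W)) hgc hcov
  let J := {W : I // W ∈ s}
  let T : J → Scheme.{u} := fun W => (W.1.1 : Scheme)
  haveI : ∀ W : J, IsAffine (T W) := fun W => W.1.2
  let X' : Scheme.{u} := ∐ T
  let p : X' ⟶ V := Sigma.desc (fun W : J => g W.1)
  haveI : Surjective p := ⟨by
    intro v
    have hv : v ∈ ⋃ W ∈ s, Set.range (g W) := by
      rw [hs]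
      trivial
    obtain ⟨W, hv1⟩ := Set.mem_iUnion.1 hv
    obtain ⟨hW, x, hx⟩ := Set.mem_iUnion.1 hv1
    refine ⟨Sigma.ι T ⟨W, hW⟩ x, ?_⟩
    have e : Sigma.ι T ⟨W, hW⟩ ≫ p = g W := Sigma.ι_desc _ _
    have e' := congrArg (fun m : T ⟨W, hW⟩ ⟶ (V : Scheme) => m x) e
    exact e'.trans hx⟩
  apply CsSurjPull.constructible_of_pull p ((EtCoh.pull V.ι).obj F)
  apply constructible_of_open_cover _ (fun W : J => (Sigma.ι T W).opensRange)
    (sigmaOpenCover T).iSup_opensRange
  intro W
  let O := (Sigma.ι T W).opensRange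
  let e := (Sigma.ι T W).isoOpensRange
  have hk : O.ι ≫ p = (e.inv ≫ W.1.1.ι) ≫ fV := by
    rw [← cancel_epi e.hom]
    have h1 : e.hom ≫ O.ι = Sigma.ι T W := Scheme.Hom.isoOpensRange_hom_ι _
    rw [← Category.assoc, h1, Sigma.ι_desc, Category.assoc, Iso.hom_inv_id_assoc]
  exact constructible_pull_of_comm O.ι p (e.inv ≫ W.1.1.ι) fV hk _ hF'

/-- S8546 -/
theorem main {X Y : Scheme.{u}} (f : X ⟶ Y) [Surjective f] [LocallyOfFinitePresentation f]
    (F : EtCoh.Ab Y) :
    EtPBC.IsConstructible F ↔ EtPBC.IsConstructible ((EtCoh.pull f).obj F) := by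
  refine ⟨pullback_constructible f F, fun h => ?_⟩
  apply constructible_of_open_cover F (fun V : Y.affineOpens => V.1) (iSup_affineOpens_eq_top Y)
  intro V
  exact main_aux f F h V.1 V.2

end H9FE.CsLfpPull
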