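import Mathlib

/-! helper9: roots of the cyclotomic polynomial in an arbitrary commutative ring: factorisation of
`u ^ n - 1` and unit differences when `n` is invertible. -/

set_option autoImplicit false
universe u

namespace H9FE
namespace CycRoot
set_option linter.style.haveILetI false

open Polynomial Finset

/-- the universal ring with a root of the `n`-th cyclotomic polynomial -/
abbrev D (n : ℕ) := AdjoinRoot (cyclotomic n ℤ)

theorem isDomain_D {n : ℕ} (hn : 0 < n) : IsDomain (D n) :=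
  AdjoinRoot.isDomain_of_prime (cyclotomic.irreducible hn).prime

theorem natCast_ne_zero_D {n : ℕ} (hn : 0 < n) : ((n : ℕ) : D n) ≠ 0 := by
  have h1 : ((n : ℕ) : D n) = AdjoinRoot.mk (cyclotomic n ℤ) (C (n : ℤ)) := by
    simp
  rw [h1, Ne, AdjoinRoot.mk_eq_zero]
  apply (cyclotomic.monic n ℤ).not_dvd_of_degree_lt
  · simpa using hn.ne'
  · have : (C (n : ℤ) : ℤ[X]).degree = 0 := degree_C (by simpa using hn.ne')
    rw [this]
    exact degree_cyclotomic_pos n ℤ hn

theorem isPrimitiveRoot_root {n : ℕ} (hn : 0 < n) :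
    IsPrimitiveRoot (AdjoinRoot.root (cyclotomic n ℤ)) n := by
  haveI := isDomain_D hn
  haveI : NeZero ((n : ℕ) : D n) := ⟨natCast_ne_zero_D hn⟩
  rw [← isRoot_cyclotomic_iff]
  have h : cyclotomic n (D n) = (cyclotomic n ℤ).map (AdjoinRoot.of (cyclotomic n ℤ)) := by
    rw [show AdjoinRoot.of (cyclotomic n ℤ) = Int.castRingHom (D n) from Subsingleton.elim _ _]
    exact (map_cyclotomic_int n (D n)).symm
  rw [IsRoot.def, h, eval_map]
  exact AdjoinRoot.eval₂_root _

section transfer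
variable {R : Type*} [CommRing R] {n : ℕ} (hn : 0 < n) {ζ : R}
  (hζ : aeval ζ (cyclotomic n ℤ) = 0)

/-- the specialisation map -/
noncomputable def spec (hζ : aeval ζ (cyclotomic n ℤ) = 0) : D n →+* R :=
  AdjoinRoot.lift (Int.castRingHom R) ζ (by rw [← hζ, aeval_def]; rfl)

theorem spec_root : spec hζ (AdjoinRoot.root _) = ζ := AdjoinRoot.lift_root _

include hn hζ in
theorem pow_eq_one : ζ ^ n = 1 := by
  have h := (isPrimitiveRoot_root hn).pow_eq_one
  have := congrArg (spec hζ) h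
  rwa [map_pow, spec_root, map_one] at this

include hn hζ in
/-- `u ^ n - 1 = ∏ (u - ζ ^ i)` -/
theorem pow_sub_one_eq_prod (u : R) : u ^ n - 1 = ∏ i ∈ range n, (u - ζ ^ i) := by
  haveI := isDomain_D hn
  have h := X_pow_sub_C_eq_prod (isPrimitiveRoot_root hn) hn (one_pow n)
  have h2 := congrArg (fun p => (p.map (spec hζ)).eval u) h
  simp only [Polynomial.map_sub, Polynomial.map_pow, map_X, Polynomial.map_one, map_C, eval_sub,
    eval_pow, eval_X, eval_C, mul_one, Polynomial.map_prod, eval_prod, map_pow,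
    spec_root, map_one, eval_one] at h2
  exact h2

/-- `∏_{1 ≤ k < n} (1 - ζ ^ k) = n` -/
theorem prod_one_sub_pow (m : ℕ) {ζ : R} (hζ : aeval ζ (cyclotomic (m + 1) ℤ) = 0) :
    ∏ k ∈ range m, (1 - ζ ^ (k + 1)) = ((m + 1 : ℕ) : R) := by
  haveI := isDomain_D (Nat.succ_pos m)
  have h := (isPrimitiveRoot_root (Nat.succ_pos m)).prod_one_sub_pow_eq_order
  have h2 := congrArg (spec hζ) h
  simp only [map_prod, map_sub, map_one, map_pow, spec_root, map_add, map_natCast] at h2
  rw [h2]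
  push_cast
  rfl

include hn hζ in
theorem isUnit_one_sub_pow (hunit : IsUnit ((n : ℕ) : R)) (k : ℕ) (hk0 : 0 < k) (hkn : k < n) :
    IsUnit (1 - ζ ^ k) := by
  obtain ⟨m, rfl⟩ : ∃ m, n = m + 1 := ⟨n - 1, by omega⟩
  have h := prod_one_sub_pow m hζ
  rw [← h] at hunit
  obtain ⟨j, rfl⟩ : ∃ j, k = j + 1 := ⟨k - 1, by omega⟩
  have hj : j ∈ range m := mem_range.mpr (by omega)
  exact isUnit_of_dvd_unit (dvd_prod_of_mem (fun k => 1 - ζ ^ (k + 1)) hj) hunit

include hn hζ in
theorem isUnit_pow_sub_pow (hunit : IsUnit ((n : ℕ) : R)) (i j : ℕ) (hi : i < n) (hj : j < n)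
    (hij : i ≠ j) : IsUnit (ζ ^ i - ζ ^ j) := by
  have hζu : IsUnit ζ := by
    have h1 := pow_eq_one hn hζ
    exact IsUnit.of_pow_eq_one h1 hn.ne'
  rcases lt_or_gt_of_ne hij with h | h
  · have : ζ ^ i - ζ ^ j = ζ ^ i * (1 - ζ ^ (j - i)) := by
      rw [mul_sub, mul_one, ← pow_add]
      congr 2
      omega
    rw [this]
    exact (hζu.pow i).mul (isUnit_one_sub_pow hn hζ hunit (j - i) (by omega) (by omega))
  · have : ζ ^ i - ζ ^ j = -(ζ ^ j * (1 - ζ ^ (i - j))) := by
      rw [mul_sub, mul_one, ← pow_add, neg_sub]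
      congr 2
      omega
    rw [this]
    exact ((hζu.pow j).mul (isUnit_one_sub_pow hn hζ hunit (i - j) (by omega) (by omega))).neg

include hn hζ in
/-- in a local ring every `n`-th root of unity is a power of `ζ` -/
theorem exists_eq_pow_of_isLocalRing [IsLocalRing R] (hunit : IsUnit ((n : ℕ) : R)) (u : R)
    (hu : u ^ n = 1) : ∃ k < n, u = ζ ^ k := by
  classical
  have hprod : ∏ i ∈ range n, (u - ζ ^ i) = 0 := by
    rw [← pow_sub_one_eq_prod hn hζ u, hu, sub_self]
  have hex : ∃ k ∈ range n, ¬ IsUnit (u - ζ ^ k) := by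
    by_contra hcon
    push Not at hcon
    have h1 : IsUnit (∏ i ∈ range n, (u - ζ ^ i)) := by
      rw [IsUnit.prod_iff]
      exact hcon
    rw [hprod] at h1
    exact not_isUnit_zero h1
  obtain ⟨k, hk, hku⟩ := hex
  refine ⟨k, mem_range.mp hk, ?_⟩
  have hothers : IsUnit (∏ j ∈ (range n).erase k, (u - ζ ^ j)) := by
    rw [IsUnit.prod_iff]
    intro j hj
    rw [mem_erase] at hj
    have h2 : IsUnit (ζ ^ k - ζ ^ j) :=
      isUnit_pow_sub_pow hn hζ hunit k j (mem_range.mp hk) (mem_range.mp hj.2) (Ne.symm hj.1)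
    have h3 : (u - ζ ^ j) + (-(u - ζ ^ k)) = ζ ^ k - ζ ^ j := by ring
    rcases IsLocalRing.isUnit_or_isUnit_of_isUnit_add (h3 ▸ h2) with h | h
    · exact h
    · exact absurd (by simpa using h.neg) hku
  have h4 := mul_prod_erase (range n) (fun j => u - ζ ^ j) hk
  rw [hprod] at h4
  have h5 : u - ζ ^ k = 0 := by
    have := hothers.mul_left_eq_zero.mp h4
    exact this
  exact sub_eq_zero.mp h5

include hn hζ in
theorem pow_injective_of_nontrivial [Nontrivial R] (hunit : IsUnit ((n : ℕ) : R)) (i j : ℕ)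
    (hi : i < n) (hj : j < n) (h : ζ ^ i = ζ ^ j) : i = j := by
  by_contra hij
  have := isUnit_pow_sub_pow hn hζ hunit i j hi hj hij
  rw [h, sub_self] at this
  exact not_isUnit_zero this

end transfer

end CycRoot
end H9FE
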