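import Mathlib

/-!
# Generic base change transformation for total right derived functors (helper9)

Generic versions (arbitrary abelian categories with derived categories) of the constructions
`EtBC.pushToPushPullH`, `EtBC.bcUnit`, `EtBC.bcAdj`, `EtSix.compUnit`, `EtSix.compMap`.
-/

set_option autoImplicit false
universe w₁ w₂ w₃ w₄ v₁ v₂ v₃ v₄ u₁ u₂ u₃ u₄

open CategoryTheory CategoryTheory.Limits

namespace Groth.Agent.Lib.Helper9.DBcGen

section Basic

variable {A : Type u₁} [Category.{v₁} A] [Abelian A] [HasDerivedCategory.{w₁} A]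
  {B : Type u₂} [Category.{v₂} B] [Abelian B] [HasDerivedCategory.{w₂} B]

/-- `K(A) ⥤ D(B)` induced by an additive functor. -/
noncomputable abbrev Kh (P : A ⥤ B) [P.Additive] :
    HomotopyCategory A (ComplexShape.up ℤ) ⥤ DerivedCategory B :=
  P.mapHomotopyCategory (ComplexShape.up ℤ) ⋙ DerivedCategory.Qh

/-- existence of the total right derived functor -/
abbrev HasR (P : A ⥤ B) [P.Additive] : Prop :=
  (Kh P).HasRightDerivedFunctor (HomotopyCategory.quasiIso A (ComplexShape.up ℤ))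

/-- the total right derived functor -/
noncomputable abbrev R (P : A ⥤ B) [P.Additive] [HasR P] : DerivedCategory A ⥤ DerivedCategory B :=
  (Kh P).totalRightDerived DerivedCategory.Qh (HomotopyCategory.quasiIso A (ComplexShape.up ℤ))

/-- its unit -/
noncomputable abbrev uR (P : A ⥤ B) [P.Additive] [HasR P] : Kh P ⟶ DerivedCategory.Qh ⋙ R P :=
  (Kh P).totalRightDerivedUnit DerivedCategory.Qh (HomotopyCategory.quasiIso A (ComplexShape.up ℤ))

end Basic

section Square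

variable {X : Type u₁} [Category.{v₁} X] [Abelian X] [HasDerivedCategory.{w₁} X]
  {S : Type u₂} [Category.{v₂} S] [Abelian S] [HasDerivedCategory.{w₂} S]
  {X' : Type u₃} [Category.{v₃} X'] [Abelian X'] [HasDerivedCategory.{w₃} X']
  {S' : Type u₄} [Category.{v₄} S'] [Abelian S'] [HasDerivedCategory.{w₄} S']
  (Pf : X ⥤ S) (Pg : S' ⥤ S) (Pf' : X' ⥤ S') (Lg' : X ⥤ X')
  [Pf.Additive] [Pg.Additive] [Pf'.Additive] [Lg'.Additive]
  (τ : Pf ⟶ Lg' ⋙ Pf' ⋙ Pg)

/-- generic `pushToPushPullH` -/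
noncomputable def tauH :
    Pf.mapHomotopyCategory (ComplexShape.up ℤ) ⟶
      Lg'.mapHomotopyCategory (ComplexShape.up ℤ) ⋙
        Pf'.mapHomotopyCategory (ComplexShape.up ℤ) ⋙
          Pg.mapHomotopyCategory (ComplexShape.up ℤ) :=
  NatTrans.mapHomotopyCategory τ (ComplexShape.up ℤ) ≫
    (Functor.mapHomotopyCategoryCompIso (Iso.refl (Lg' ⋙ (Pf' ⋙ Pg)))
      (ComplexShape.up ℤ)).inv ≫
    Functor.whiskerLeft (Lg'.mapHomotopyCategory (ComplexShape.up ℤ))
      (Functor.mapHomotopyCategoryCompIso (Iso.refl (Pf' ⋙ Pg)) (ComplexShape.up ℤ)).inv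

variable [PreservesFiniteLimits Lg'] [PreservesFiniteColimits Lg'] [HasR Pf] [HasR Pf'] [HasR Pg]

/-- generic `bcUnit` -/
noncomputable def bcUnitGen :
    Kh Pf ⟶ DerivedCategory.Qh ⋙ (Lg'.mapDerivedCategory ⋙ R Pf' ⋙ R Pg) :=
  Functor.whiskerRight (tauH Pf Pg Pf' Lg' τ) DerivedCategory.Qh ≫
    (Functor.associator _ _ _).hom ≫
    Functor.whiskerLeft (Lg'.mapHomotopyCategory (ComplexShape.up ℤ))
      ((Functor.associator _ _ _).hom ≫
        Functor.whiskerLeft (Pf'.mapHomotopyCategory (ComplexShape.up ℤ)) (uR Pg) ≫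
        (Functor.associator _ _ _).inv ≫
        Functor.whiskerRight (uR Pf') (R Pg) ≫
        (Functor.associator _ _ _).hom) ≫
    (Functor.associator _ _ _).inv ≫
    Functor.whiskerRight Lg'.mapDerivedCategoryFactorsh.inv (R Pf' ⋙ R Pg) ≫
    (Functor.associator _ _ _).hom

/-- generic `bcAdj` -/
noncomputable def bcAdjGen : R Pf ⟶ Lg'.mapDerivedCategory ⋙ R Pf' ⋙ R Pg :=
  (R Pf).rightDerivedDesc (uR Pf) (HomotopyCategory.quasiIso X (ComplexShape.up ℤ))
    (Lg'.mapDerivedCategory ⋙ R Pf' ⋙ R Pg) (bcUnitGen Pf Pg Pf' Lg' τ)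

end Square

section Comp

variable {X : Type u₁} [Category.{v₁} X] [Abelian X] [HasDerivedCategory.{w₁} X]
  {Y : Type u₂} [Category.{v₂} Y] [Abelian Y] [HasDerivedCategory.{w₂} Y]
  {Z : Type u₃} [Category.{v₃} Z] [Abelian Z] [HasDerivedCategory.{w₃} Z]
  (Pf : X ⥤ Y) (Pg : Y ⥤ Z) (Pfg : X ⥤ Z) [Pf.Additive] [Pg.Additive] [Pfg.Additive]
  (ε : Pfg ⟶ Pf ⋙ Pg)

/-- homotopy-level version of `ε` -/
noncomputable def epsH :
    Pfg.mapHomotopyCategory (ComplexShape.up ℤ) ⟶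
      Pf.mapHomotopyCategory (ComplexShape.up ℤ) ⋙ Pg.mapHomotopyCategory (ComplexShape.up ℤ) :=
  NatTrans.mapHomotopyCategory ε (ComplexShape.up ℤ) ≫
    (Functor.mapHomotopyCategoryCompIso (Iso.refl (Pf ⋙ Pg)) (ComplexShape.up ℤ)).inv

variable [HasR Pf] [HasR Pg]

/-- generic `compUnit` -/
noncomputable def compUnitGen : Kh Pfg ⟶ DerivedCategory.Qh ⋙ (R Pf ⋙ R Pg) :=
  Functor.whiskerRight (epsH Pf Pg Pfg ε) DerivedCategory.Qh ≫
    (Functor.associator _ _ _).hom ≫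
    Functor.whiskerLeft (Pf.mapHomotopyCategory (ComplexShape.up ℤ)) (uR Pg) ≫
    (Functor.associator _ _ _).inv ≫
    Functor.whiskerRight (uR Pf) (R Pg) ≫
    (Functor.associator _ _ _).hom

variable [HasR Pfg]

/-- generic `compMap` -/
noncomputable def compMapGen : R Pfg ⟶ R Pf ⋙ R Pg :=
  (R Pfg).rightDerivedDesc (uR Pfg) (HomotopyCategory.quasiIso X (ComplexShape.up ℤ))
    (R Pf ⋙ R Pg) (compUnitGen Pf Pg Pfg ε)

end Comp

end Groth.Agent.Lib.Helper9.DBcGen
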