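import Mathlib
import Groth.Agent.Lib.Helper9.FE.DBcGen

/-!
# Pasting for the generic derived base change transformation (helper9)

`isIso_transpose_bcAdjGen_vcomp`: vertical composition for the transposes of the generic base
change transformation `bcAdjGen`, evaluated at an object of the homotopy category at which the unit
of the derived functor is invertible (e.g. a K-injective complex).
-/

set_option autoImplicit false
set_option linter.unusedSectionVars false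
set_option linter.style.haveILetI false
universe w₁ w₂ w₃ w₄ w₅ w₆ v₁ v₂ v₃ v₄ v₅ v₆ u₁ u₂ u₃ u₄ u₅ u₆

open CategoryTheory CategoryTheory.Limits

namespace Groth.Agent.Lib.Helper9.DBcGen

section Transpose

variable {DS : Type u₁} [Category.{v₁} DS] {DX : Type u₂} [Category.{v₂} DX]
  {DW : Type u₃} [Category.{v₃} DW]
  {Lf : DS ⥤ DX} {F : DX ⥤ DS} {Li : DX ⥤ DW} {I : DW ⥤ DX} {Lif : DS ⥤ DW} {IF : DW ⥤ DS}

/-- transposition of a pasted morphism: if the two partial transposes are isomorphisms, so is the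
transpose of the pasted morphism -/
theorem isIso_transpose_of_paste (adj₁ : Lf ⊣ F) (adj₂ : Li ⊣ I) (adj₃ : Lif ⊣ IF)
    (γ : IF ⟶ I ⋙ F) [IsIso γ]
    {A : DS} {B₁ : DX} {B₂ B₃ : DW} (a₁ : A ⟶ F.obj B₁) (a₂ : B₁ ⟶ I.obj B₂)
    (a₃ : A ⟶ IF.obj B₃) (t : B₃ ⟶ B₂) [IsIso t]
    (hc : a₃ ≫ γ.app B₃ ≫ F.map (I.map t) = a₁ ≫ F.map a₂)
    (h1 : IsIso ((adj₁.homEquiv _ _).symm a₁)) (h2 : IsIso ((adj₂.homEquiv _ _).symm a₂)) :
    IsIso ((adj₃.homEquiv _ _).symm a₃) := by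
  let adj₁₂ : Lf ⋙ Li ⊣ I ⋙ F := adj₁.comp adj₂
  let adj₃' : Lif ⊣ I ⋙ F := adj₃.ofNatIsoRight (asIso γ)
  let u : Lf ⋙ Li ≅ Lif := adj₁₂.leftAdjointUniq adj₃'
  set φ := (adj₃.homEquiv _ _).symm a₃ with hφ
  set x := (adj₁.homEquiv _ _).symm a₁ with hx
  set y := (adj₂.homEquiv _ _).symm a₂ with hy
  have key : u.hom.app A ≫ φ ≫ t = Li.map x ≫ y := by
    apply (adj₁₂.homEquiv _ _).injective
    have hL : adj₁₂.homEquiv _ _ (u.hom.app A ≫ φ ≫ t) = a₃ ≫ γ.app B₃ ≫ F.map (I.map t) := by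
      rw [Adjunction.homEquiv_unit, Functor.map_comp, ← Category.assoc,
        Adjunction.unit_leftAdjointUniq_hom_app adj₁₂ adj₃' A]
      have : adj₃'.unit.app A ≫ (I ⋙ F).map (φ ≫ t) = adj₃'.homEquiv _ _ (φ ≫ t) := by
        rw [Adjunction.homEquiv_unit]
      rw [this, Adjunction.homEquiv_naturality_right, Adjunction.homEquiv_ofNatIsoRight_apply,
        hφ, Equiv.apply_symm_apply]
      simp
    have hR : adj₁₂.homEquiv _ _ (Li.map x ≫ y) = a₁ ≫ F.map a₂ := by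
      rw [Adjunction.comp_homEquiv]
      dsimp only [Equiv.trans_apply]
      rw [Adjunction.homEquiv_naturality_left, hy, Equiv.apply_symm_apply,
        Adjunction.homEquiv_naturality_right, hx, Equiv.apply_symm_apply]
    rw [hL, hR, hc]
  have hm : IsIso (Li.map x ≫ y) := by
    haveI := h1; haveI := h2
    infer_instance
  have : φ = u.inv.app A ≫ (Li.map x ≫ y) ≫ inv t := by
    rw [← key]
    simp
  rw [this]
  infer_instance

end Transpose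

section CompIso

variable {V : Type u₁} [Category.{v₁} V] [Preadditive V] {W : Type u₂} [Category.{v₂} W] [Preadditive W]
  {W' : Type u₃} [Category.{v₃} W'] [Preadditive W']
  (F : V ⥤ W) (G : W ⥤ W') [F.Additive] [G.Additive]

lemma compIso_refl_inv_app (C : CochainComplex V ℤ) :
    (Functor.mapHomotopyCategoryCompIso (Iso.refl (F ⋙ G)) (ComplexShape.up ℤ)).inv.app
      ((HomotopyCategory.quotient V (ComplexShape.up ℤ)).obj C) =
    (HomotopyCategory.quotient W' (ComplexShape.up ℤ)).map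
      ((Functor.mapHomologicalComplexCompIso (Iso.refl (F ⋙ G)) (ComplexShape.up ℤ)).inv.app C) :=
  rfl

@[simp]
lemma mapHCCompIso_refl_inv_app_f (C : CochainComplex V ℤ) (n : ℤ) :
    ((Functor.mapHomologicalComplexCompIso (Iso.refl (F ⋙ G)) (ComplexShape.up ℤ)).inv.app C).f n
      = 𝟙 _ := by
  simp [Functor.mapHomologicalComplexCompIso]
  rfl

end CompIso

section HP

variable {𝒯 : Type u₁} [Category.{v₁} 𝒯] [Abelian 𝒯]
  {𝒮 : Type u₂} [Category.{v₂} 𝒮] [Abelian 𝒮]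
  {𝒳 : Type u₃} [Category.{v₃} 𝒳] [Abelian 𝒳]
  {𝒴 : Type u₄} [Category.{v₄} 𝒴] [Abelian 𝒴]
  (Pf : 𝒯 ⥤ 𝒮) (Pg : 𝒳 ⥤ 𝒮) (Pf' : 𝒴 ⥤ 𝒳) (Lg' : 𝒯 ⥤ 𝒴)
  [Pf.Additive] [Pg.Additive] [Pf'.Additive] [Lg'.Additive]
  (τ : Pf ⟶ Lg' ⋙ Pf' ⋙ Pg)

lemma tauH_app_quotient (C : CochainComplex 𝒯 ℤ) :
    (tauH Pf Pg Pf' Lg' τ).app ((HomotopyCategory.quotient 𝒯 (ComplexShape.up ℤ)).obj C) =
    (HomotopyCategory.quotient 𝒮 (ComplexShape.up ℤ)).map
      ((NatTrans.mapHomologicalComplex τ (ComplexShape.up ℤ)).app C ≫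
        (Functor.mapHomologicalComplexCompIso (Iso.refl (Lg' ⋙ (Pf' ⋙ Pg)))
          (ComplexShape.up ℤ)).inv.app C ≫
        (Functor.mapHomologicalComplexCompIso (Iso.refl (Pf' ⋙ Pg))
          (ComplexShape.up ℤ)).inv.app ((Lg'.mapHomologicalComplex (ComplexShape.up ℤ)).obj C)) := by
  rw [Functor.map_comp, Functor.map_comp]
  rfl

end HP

section HP2

variable {X : Type u₁} [Category.{v₁} X] [Abelian X]
  {Y : Type u₂} [Category.{v₂} Y] [Abelian Y]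
  {Z : Type u₃} [Category.{v₃} Z] [Abelian Z]
  (Pf : X ⥤ Y) (Pg : Y ⥤ Z) (Pfg : X ⥤ Z) [Pf.Additive] [Pg.Additive] [Pfg.Additive]
  (ε : Pfg ⟶ Pf ⋙ Pg)

lemma epsH_app_quotient (C : CochainComplex X ℤ) :
    (epsH Pf Pg Pfg ε).app ((HomotopyCategory.quotient X (ComplexShape.up ℤ)).obj C) =
    (HomotopyCategory.quotient Z (ComplexShape.up ℤ)).map
      ((NatTrans.mapHomologicalComplex ε (ComplexShape.up ℤ)).app C ≫
        (Functor.mapHomologicalComplexCompIso (Iso.refl (Pf ⋙ Pg))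
          (ComplexShape.up ℤ)).inv.app C) := by
  rw [Functor.map_comp]
  rfl

end HP2

section HP3

variable {𝒯 : Type u₁} [Category.{v₁} 𝒯] [Abelian 𝒯]
  {𝒮 : Type u₂} [Category.{v₂} 𝒮] [Abelian 𝒮]
  {𝒳 : Type u₃} [Category.{v₃} 𝒳] [Abelian 𝒳]
  {𝒴 : Type u₄} [Category.{v₄} 𝒴] [Abelian 𝒴]
  {𝒲 : Type u₅} [Category.{v₅} 𝒲] [Abelian 𝒲]
  {𝒵 : Type u₆} [Category.{v₆} 𝒵] [Abelian 𝒵]
  (Pg : 𝒯 ⥤ 𝒮) (Ph : 𝒴 ⥤ 𝒳) (Pf : 𝒳 ⥤ 𝒮) (Pi : 𝒲 ⥤ 𝒳) (Pj : 𝒵 ⥤ 𝒲) (Pif : 𝒲 ⥤ 𝒮)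
  (Le : 𝒯 ⥤ 𝒴) (Lk : 𝒴 ⥤ 𝒵) (Lke : 𝒯 ⥤ 𝒵)
  [Pg.Additive] [Ph.Additive] [Pf.Additive] [Pi.Additive] [Pj.Additive] [Pif.Additive]
  [Le.Additive] [Lk.Additive] [Lke.Additive]
  (τ₁ : Pg ⟶ Le ⋙ Ph ⋙ Pf) (τ₂ : Ph ⟶ Lk ⋙ Pj ⋙ Pi) (τ₃ : Pg ⟶ Lke ⋙ Pj ⋙ Pif)
  (ε : Pif ⟶ Pi ⋙ Pf) (κ : Lke ⟶ Le ⋙ Lk)

local notation "Kf" P => Functor.mapHomotopyCategory P (ComplexShape.up ℤ)
local notation "Cf" P => Functor.mapHomologicalComplex P (ComplexShape.up ℤ)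

lemma hP_of_abelian
    (P : ∀ M : 𝒯, τ₃.app M ≫ ε.app (Pj.obj (Lke.obj M)) ≫
        Pf.map (Pi.map (Pj.map (κ.app M))) = τ₁.app M ≫ Pf.map (τ₂.app (Le.obj M)))
    (K₀ : HomotopyCategory 𝒯 (ComplexShape.up ℤ)) :
    (tauH Pg Pif Pj Lke τ₃).app K₀ ≫
        (epsH Pi Pf Pif ε).app ((Kf Pj).obj ((Kf Lke).obj K₀)) ≫
        (Kf Pf).map ((Kf Pi).map ((Kf Pj).map ((epsH Le Lk Lke κ).app K₀))) =
      (tauH Pg Pf Ph Le τ₁).app K₀ ≫
        (Kf Pf).map ((tauH Ph Pi Pj Lk τ₂).app ((Kf Le).obj K₀)) := by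
  obtain ⟨C, rfl⟩ := HomotopyCategory.quotient_obj_surjective K₀
  let A : (Cf Pg).obj C ⟶ (Cf Pif).obj ((Cf Pj).obj ((Cf Lke).obj C)) :=
    (NatTrans.mapHomologicalComplex τ₃ (ComplexShape.up ℤ)).app C ≫
      (Functor.mapHomologicalComplexCompIso (Iso.refl (Lke ⋙ (Pj ⋙ Pif)))
        (ComplexShape.up ℤ)).inv.app C ≫
      (Functor.mapHomologicalComplexCompIso (Iso.refl (Pj ⋙ Pif))
        (ComplexShape.up ℤ)).inv.app ((Cf Lke).obj C)
  let B : (Cf Pif).obj ((Cf Pj).obj ((Cf Lke).obj C)) ⟶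
      (Cf Pf).obj ((Cf Pi).obj ((Cf Pj).obj ((Cf Lke).obj C))) :=
    (NatTrans.mapHomologicalComplex ε (ComplexShape.up ℤ)).app ((Cf Pj).obj ((Cf Lke).obj C)) ≫
      (Functor.mapHomologicalComplexCompIso (Iso.refl (Pi ⋙ Pf))
        (ComplexShape.up ℤ)).inv.app ((Cf Pj).obj ((Cf Lke).obj C))
  let c₀ : (Cf Lke).obj C ⟶ (Cf Lk).obj ((Cf Le).obj C) :=
    (NatTrans.mapHomologicalComplex κ (ComplexShape.up ℤ)).app C ≫
      (Functor.mapHomologicalComplexCompIso (Iso.refl (Le ⋙ Lk)) (ComplexShape.up ℤ)).inv.app C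
  let E : (Cf Pg).obj C ⟶ (Cf Pf).obj ((Cf Ph).obj ((Cf Le).obj C)) :=
    (NatTrans.mapHomologicalComplex τ₁ (ComplexShape.up ℤ)).app C ≫
      (Functor.mapHomologicalComplexCompIso (Iso.refl (Le ⋙ (Ph ⋙ Pf)))
        (ComplexShape.up ℤ)).inv.app C ≫
      (Functor.mapHomologicalComplexCompIso (Iso.refl (Ph ⋙ Pf))
        (ComplexShape.up ℤ)).inv.app ((Cf Le).obj C)
  let G : (Cf Ph).obj ((Cf Le).obj C) ⟶
      (Cf Pi).obj ((Cf Pj).obj ((Cf Lk).obj ((Cf Le).obj C))) :=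
    (NatTrans.mapHomologicalComplex τ₂ (ComplexShape.up ℤ)).app ((Cf Le).obj C) ≫
      (Functor.mapHomologicalComplexCompIso (Iso.refl (Lk ⋙ (Pj ⋙ Pi)))
        (ComplexShape.up ℤ)).inv.app ((Cf Le).obj C) ≫
      (Functor.mapHomologicalComplexCompIso (Iso.refl (Pj ⋙ Pi))
        (ComplexShape.up ℤ)).inv.app ((Cf Lk).obj ((Cf Le).obj C))
  have hAB : A ≫ B ≫ (Cf Pf).map ((Cf Pi).map ((Cf Pj).map c₀)) = E ≫ (Cf Pf).map G := by
    ext n
    simp only [A, B, c₀, E, G, HomologicalComplex.comp_f, NatTrans.mapHomologicalComplex_app_f,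
      Functor.mapHomologicalComplex_map_f, mapHCCompIso_refl_inv_app_f]
    show (τ₃.app (C.X n) ≫ 𝟙 _ ≫ 𝟙 _) ≫ (ε.app (Pj.obj (Lke.obj (C.X n))) ≫ 𝟙 _) ≫
        Pf.map (Pi.map (Pj.map (κ.app (C.X n) ≫ 𝟙 _))) =
      (τ₁.app (C.X n) ≫ 𝟙 _ ≫ 𝟙 _) ≫ Pf.map (τ₂.app (Le.obj (C.X n)) ≫ 𝟙 _ ≫ 𝟙 _)
    simp only [Category.comp_id]
    exact P (C.X n)
  exact congrArg (HomotopyCategory.quotient 𝒮 (ComplexShape.up ℤ)).map hAB

end HP3

section Square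

variable {X : Type u₁} [Category.{v₁} X] [Abelian X] [HasDerivedCategory.{w₁} X]
  {S : Type u₂} [Category.{v₂} S] [Abelian S] [HasDerivedCategory.{w₂} S]
  {X' : Type u₃} [Category.{v₃} X'] [Abelian X'] [HasDerivedCategory.{w₃} X']
  {S' : Type u₄} [Category.{v₄} S'] [Abelian S'] [HasDerivedCategory.{w₄} S']
  (Pf : X ⥤ S) (Pg : S' ⥤ S) (Pf' : X' ⥤ S') (Lg' : X ⥤ X')
  [Pf.Additive] [Pg.Additive] [Pf'.Additive] [Lg'.Additive]
  (τ : Pf ⟶ Lg' ⋙ Pf' ⋙ Pg)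
  [PreservesFiniteLimits Lg'] [PreservesFiniteColimits Lg'] [HasR Pf] [HasR Pf'] [HasR Pg]

lemma bcUnitGen_app (K : HomotopyCategory X (ComplexShape.up ℤ)) :
    (bcUnitGen Pf Pg Pf' Lg' τ).app K =
      DerivedCategory.Qh.map ((tauH Pf Pg Pf' Lg' τ).app K) ≫
        (uR Pg).app ((Pf'.mapHomotopyCategory (ComplexShape.up ℤ)).obj
          ((Lg'.mapHomotopyCategory (ComplexShape.up ℤ)).obj K)) ≫
        (R Pg).map ((uR Pf').app ((Lg'.mapHomotopyCategory (ComplexShape.up ℤ)).obj K)) ≫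
        (R Pg).map ((R Pf').map (Lg'.mapDerivedCategoryFactorsh.inv.app K)) := by
  simp [bcUnitGen]

@[reassoc]
lemma uR_bcAdjGen_app (K : HomotopyCategory X (ComplexShape.up ℤ)) :
    (uR Pf).app K ≫ (bcAdjGen Pf Pg Pf' Lg' τ).app (DerivedCategory.Qh.obj K) =
      (bcUnitGen Pf Pg Pf' Lg' τ).app K :=
  Functor.rightDerived_fac_app _ _ _ _ _ _

end Square

section Comp

variable {X : Type u₁} [Category.{v₁} X] [Abelian X] [HasDerivedCategory.{w₁} X]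
  {Y : Type u₂} [Category.{v₂} Y] [Abelian Y] [HasDerivedCategory.{w₂} Y]
  {Z : Type u₃} [Category.{v₃} Z] [Abelian Z] [HasDerivedCategory.{w₃} Z]
  (Pf : X ⥤ Y) (Pg : Y ⥤ Z) (Pfg : X ⥤ Z) [Pf.Additive] [Pg.Additive] [Pfg.Additive]
  (ε : Pfg ⟶ Pf ⋙ Pg) [HasR Pf] [HasR Pg]

lemma compUnitGen_app (K : HomotopyCategory X (ComplexShape.up ℤ)) :
    (compUnitGen Pf Pg Pfg ε).app K =
      DerivedCategory.Qh.map ((epsH Pf Pg Pfg ε).app K) ≫
        (uR Pg).app ((Pf.mapHomotopyCategory (ComplexShape.up ℤ)).obj K) ≫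
        (R Pg).map ((uR Pf).app K) := by
  simp [compUnitGen]

variable [HasR Pfg]

@[reassoc]
lemma uR_compMapGen_app (K : HomotopyCategory X (ComplexShape.up ℤ)) :
    (uR Pfg).app K ≫ (compMapGen Pf Pg Pfg ε).app (DerivedCategory.Qh.obj K) =
      (compUnitGen Pf Pg Pfg ε).app K :=
  Functor.rightDerived_fac_app _ _ _ _ _ _

end Comp

section UnitNat

variable {A : Type u₁} [Category.{v₁} A] [Abelian A] [HasDerivedCategory.{w₁} A]
  {B : Type u₂} [Category.{v₂} B] [Abelian B] [HasDerivedCategory.{w₂} B]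
  (P : A ⥤ B) [P.Additive] [HasR P]

/-- naturality of the unit of the derived functor, in a convenient form -/
@[reassoc]
lemma uR_naturality {K L : HomotopyCategory A (ComplexShape.up ℤ)} (y : K ⟶ L) :
    DerivedCategory.Qh.map ((P.mapHomotopyCategory (ComplexShape.up ℤ)).map y) ≫ (uR P).app L =
      (uR P).app K ≫ (R P).map (DerivedCategory.Qh.map y) :=
  (uR P).naturality y

end UnitNat

section Paste

variable {𝒯 : Type u₁} [Category.{v₁} 𝒯] [Abelian 𝒯] [HasDerivedCategory.{w₁} 𝒯]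
  {𝒮 : Type u₂} [Category.{v₂} 𝒮] [Abelian 𝒮] [HasDerivedCategory.{w₂} 𝒮]
  {𝒳 : Type u₃} [Category.{v₃} 𝒳] [Abelian 𝒳] [HasDerivedCategory.{w₃} 𝒳]
  {𝒴 : Type u₄} [Category.{v₄} 𝒴] [Abelian 𝒴] [HasDerivedCategory.{w₄} 𝒴]
  {𝒲 : Type u₅} [Category.{v₅} 𝒲] [Abelian 𝒲] [HasDerivedCategory.{w₅} 𝒲]
  {𝒵 : Type u₆} [Category.{v₆} 𝒵] [Abelian 𝒵] [HasDerivedCategory.{w₆} 𝒵]
  (Pg : 𝒯 ⥤ 𝒮) (Ph : 𝒴 ⥤ 𝒳) (Pf : 𝒳 ⥤ 𝒮) (Pi : 𝒲 ⥤ 𝒳) (Pj : 𝒵 ⥤ 𝒲) (Pif : 𝒲 ⥤ 𝒮)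
  (Le : 𝒯 ⥤ 𝒴) (Lk : 𝒴 ⥤ 𝒵) (Lke : 𝒯 ⥤ 𝒵)
  [Pg.Additive] [Ph.Additive] [Pf.Additive] [Pi.Additive] [Pj.Additive] [Pif.Additive]
  [Le.Additive] [Lk.Additive] [Lke.Additive]
  [PreservesFiniteLimits Le] [PreservesFiniteColimits Le]
  [PreservesFiniteLimits Lk] [PreservesFiniteColimits Lk]
  [PreservesFiniteLimits Lke] [PreservesFiniteColimits Lke]
  [HasR Pg] [HasR Ph] [HasR Pf] [HasR Pi] [HasR Pj] [HasR Pif]
  (τ₁ : Pg ⟶ Le ⋙ Ph ⋙ Pf) (τ₂ : Ph ⟶ Lk ⋙ Pj ⋙ Pi) (τ₃ : Pg ⟶ Lke ⋙ Pj ⋙ Pif)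
  (ε : Pif ⟶ Pi ⋙ Pf) (κ : Lke ⟶ Le ⋙ Lk)

local notation "Kf" P => Functor.mapHomotopyCategory P (ComplexShape.up ℤ)

/-- the comparison `(ke)⁻¹ K ⟶ k⁻¹ e⁻¹ K` in the derived category, at the image of an object of
the homotopy category -/
noncomputable def kappaD (K₀ : HomotopyCategory 𝒯 (ComplexShape.up ℤ)) :
    Lke.mapDerivedCategory.obj (DerivedCategory.Qh.obj K₀) ⟶
      Lk.mapDerivedCategory.obj (Le.mapDerivedCategory.obj (DerivedCategory.Qh.obj K₀)) :=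
  Lke.mapDerivedCategoryFactorsh.hom.app K₀ ≫
    DerivedCategory.Qh.map ((epsH Le Lk Lke κ).app K₀) ≫
    Lk.mapDerivedCategoryFactorsh.inv.app ((Kf Le).obj K₀) ≫
    Lk.mapDerivedCategory.map (Le.mapDerivedCategoryFactorsh.inv.app K₀)

/-- naturality of the three units along a morphism of `K(𝒵)` -/
lemma triple_unit_naturality {N₃ N₂ : HomotopyCategory 𝒵 (ComplexShape.up ℤ)} (c : N₃ ⟶ N₂) :
    (uR Pf).app ((Kf Pi).obj ((Kf Pj).obj N₃)) ≫ (R Pf).map ((uR Pi).app ((Kf Pj).obj N₃)) ≫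
        (R Pf).map ((R Pi).map ((uR Pj).app N₃)) ≫
        (R Pf).map ((R Pi).map ((R Pj).map (DerivedCategory.Qh.map c))) =
      DerivedCategory.Qh.map ((Kf Pf).map ((Kf Pi).map ((Kf Pj).map c))) ≫
        (uR Pf).app ((Kf Pi).obj ((Kf Pj).obj N₂)) ≫
        (R Pf).map ((uR Pi).app ((Kf Pj).obj N₂)) ≫
        (R Pf).map ((R Pi).map ((uR Pj).app N₂)) := by
  rw [uR_naturality_assoc]
  congr 1
  simp only [← Functor.map_comp]
  congr 1
  rw [uR_naturality_assoc]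
  congr 1
  rw [← Functor.map_comp, uR_naturality]


/-- the common value of the two sides of the pasting identity -/
noncomputable def commonVal (K₀ : HomotopyCategory 𝒯 (ComplexShape.up ℤ)) :
    DerivedCategory.Qh.obj ((Kf Pg).obj K₀) ⟶
      (R Pf).obj ((R Pi).obj ((R Pj).obj
        (Lk.mapDerivedCategory.obj (Le.mapDerivedCategory.obj (DerivedCategory.Qh.obj K₀))))) :=
  DerivedCategory.Qh.map ((tauH Pg Pf Ph Le τ₁).app K₀ ≫
      (Kf Pf).map ((tauH Ph Pi Pj Lk τ₂).app ((Kf Le).obj K₀))) ≫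
    (uR Pf).app ((Kf Pi).obj ((Kf Pj).obj ((Kf Lk).obj ((Kf Le).obj K₀)))) ≫
    (R Pf).map ((uR Pi).app ((Kf Pj).obj ((Kf Lk).obj ((Kf Le).obj K₀)))) ≫
    (R Pf).map ((R Pi).map ((uR Pj).app ((Kf Lk).obj ((Kf Le).obj K₀)))) ≫
    (R Pf).map ((R Pi).map ((R Pj).map
      (Lk.mapDerivedCategoryFactorsh.inv.app ((Kf Le).obj K₀) ≫
        Lk.mapDerivedCategory.map (Le.mapDerivedCategoryFactorsh.inv.app K₀))))

lemma rhs_eq (K₀ : HomotopyCategory 𝒯 (ComplexShape.up ℤ)) :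
    (uR Pg).app K₀ ≫ (bcAdjGen Pg Pf Ph Le τ₁).app (DerivedCategory.Qh.obj K₀) ≫
        (R Pf).map ((bcAdjGen Ph Pi Pj Lk τ₂).app
          (Le.mapDerivedCategory.obj (DerivedCategory.Qh.obj K₀))) =
      commonVal Pg Ph Pf Pi Pj Le Lk τ₁ τ₂ K₀ := by
  rw [uR_bcAdjGen_app_assoc, bcUnitGen_app]
  have hα : (R Ph).map (Le.mapDerivedCategoryFactorsh.inv.app K₀) ≫
      (bcAdjGen Ph Pi Pj Lk τ₂).app (Le.mapDerivedCategory.obj (DerivedCategory.Qh.obj K₀)) =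
      (bcAdjGen Ph Pi Pj Lk τ₂).app (DerivedCategory.Qh.obj ((Kf Le).obj K₀)) ≫
        (R Pi).map ((R Pj).map (Lk.mapDerivedCategory.map
          (Le.mapDerivedCategoryFactorsh.inv.app K₀))) :=
    (bcAdjGen Ph Pi Pj Lk τ₂).naturality _
  have h2 : (uR Ph).app ((Kf Le).obj K₀) ≫
      (R Ph).map (Le.mapDerivedCategoryFactorsh.inv.app K₀) ≫
      (bcAdjGen Ph Pi Pj Lk τ₂).app (Le.mapDerivedCategory.obj (DerivedCategory.Qh.obj K₀)) =
      DerivedCategory.Qh.map ((tauH Ph Pi Pj Lk τ₂).app ((Kf Le).obj K₀)) ≫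
        (uR Pi).app ((Kf Pj).obj ((Kf Lk).obj ((Kf Le).obj K₀))) ≫
        (R Pi).map ((uR Pj).app ((Kf Lk).obj ((Kf Le).obj K₀))) ≫
        (R Pi).map ((R Pj).map (Lk.mapDerivedCategoryFactorsh.inv.app ((Kf Le).obj K₀) ≫
          Lk.mapDerivedCategory.map (Le.mapDerivedCategoryFactorsh.inv.app K₀))) := by
    rw [hα, uR_bcAdjGen_app_assoc, bcUnitGen_app]
    simp only [Category.assoc, Functor.map_comp]
  simp only [Category.assoc]
  have h3 : (R Pf).map ((uR Ph).app ((Kf Le).obj K₀)) ≫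
      (R Pf).map ((R Ph).map (Le.mapDerivedCategoryFactorsh.inv.app K₀)) ≫
      (R Pf).map ((bcAdjGen Ph Pi Pj Lk τ₂).app
        (Le.mapDerivedCategory.obj (DerivedCategory.Qh.obj K₀))) =
      (R Pf).map (DerivedCategory.Qh.map ((tauH Ph Pi Pj Lk τ₂).app ((Kf Le).obj K₀)) ≫
        (uR Pi).app ((Kf Pj).obj ((Kf Lk).obj ((Kf Le).obj K₀))) ≫
        (R Pi).map ((uR Pj).app ((Kf Lk).obj ((Kf Le).obj K₀))) ≫
        (R Pi).map ((R Pj).map (Lk.mapDerivedCategoryFactorsh.inv.app ((Kf Le).obj K₀) ≫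
          Lk.mapDerivedCategory.map (Le.mapDerivedCategoryFactorsh.inv.app K₀)))) := by
    rw [← Functor.map_comp, ← Functor.map_comp, h2]
  rw [h3]
  simp only [Functor.map_comp]
  rw [← uR_naturality_assoc]
  unfold commonVal
  simp only [Functor.map_comp, Category.assoc]
  rfl


lemma lhs_eq (K₀ : HomotopyCategory 𝒯 (ComplexShape.up ℤ))
    (hP : (tauH Pg Pif Pj Lke τ₃).app K₀ ≫
        (epsH Pi Pf Pif ε).app ((Kf Pj).obj ((Kf Lke).obj K₀)) ≫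
        (Kf Pf).map ((Kf Pi).map ((Kf Pj).map ((epsH Le Lk Lke κ).app K₀))) =
      (tauH Pg Pf Ph Le τ₁).app K₀ ≫
        (Kf Pf).map ((tauH Ph Pi Pj Lk τ₂).app ((Kf Le).obj K₀))) :
    (uR Pg).app K₀ ≫ (bcAdjGen Pg Pif Pj Lke τ₃).app (DerivedCategory.Qh.obj K₀) ≫
        (compMapGen Pi Pf Pif ε).app
          ((R Pj).obj (Lke.mapDerivedCategory.obj (DerivedCategory.Qh.obj K₀))) ≫
        (R Pf).map ((R Pi).map ((R Pj).map (kappaD Le Lk Lke κ K₀))) =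
      commonVal Pg Ph Pf Pi Pj Le Lk τ₁ τ₂ K₀ := by
  rw [uR_bcAdjGen_app_assoc, bcUnitGen_app]
  simp only [Category.assoc]
  have hγ1 : (R Pif).map ((R Pj).map (Lke.mapDerivedCategoryFactorsh.inv.app K₀)) ≫
      (compMapGen Pi Pf Pif ε).app
        ((R Pj).obj (Lke.mapDerivedCategory.obj (DerivedCategory.Qh.obj K₀))) =
      (compMapGen Pi Pf Pif ε).app
        ((R Pj).obj (DerivedCategory.Qh.obj ((Kf Lke).obj K₀))) ≫
      (R Pf).map ((R Pi).map ((R Pj).map (Lke.mapDerivedCategoryFactorsh.inv.app K₀))) :=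
    (compMapGen Pi Pf Pif ε).naturality _
  have hγ2 : (R Pif).map ((uR Pj).app ((Kf Lke).obj K₀)) ≫
      (compMapGen Pi Pf Pif ε).app
        ((R Pj).obj (DerivedCategory.Qh.obj ((Kf Lke).obj K₀))) =
      (compMapGen Pi Pf Pif ε).app
        (DerivedCategory.Qh.obj ((Kf Pj).obj ((Kf Lke).obj K₀))) ≫
      (R Pf).map ((R Pi).map ((uR Pj).app ((Kf Lke).obj K₀))) :=
    (compMapGen Pi Pf Pif ε).naturality _
  rw [reassoc_of% hγ1, reassoc_of% hγ2, uR_compMapGen_app_assoc, compUnitGen_app]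
  simp only [Category.assoc]
  have hk : Lke.mapDerivedCategoryFactorsh.inv.app K₀ ≫ kappaD Le Lk Lke κ K₀ =
      DerivedCategory.Qh.map ((epsH Le Lk Lke κ).app K₀) ≫
        (Lk.mapDerivedCategoryFactorsh.inv.app ((Kf Le).obj K₀) ≫
          Lk.mapDerivedCategory.map (Le.mapDerivedCategoryFactorsh.inv.app K₀)) := by
    simp [kappaD]
  have h4 : (R Pf).map ((R Pi).map ((R Pj).map (Lke.mapDerivedCategoryFactorsh.inv.app K₀))) ≫
      (R Pf).map ((R Pi).map ((R Pj).map (kappaD Le Lk Lke κ K₀))) =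
      (R Pf).map ((R Pi).map ((R Pj).map
        (DerivedCategory.Qh.map ((epsH Le Lk Lke κ).app K₀)))) ≫
      (R Pf).map ((R Pi).map ((R Pj).map
        (Lk.mapDerivedCategoryFactorsh.inv.app ((Kf Le).obj K₀) ≫
          Lk.mapDerivedCategory.map (Le.mapDerivedCategoryFactorsh.inv.app K₀)))) := by
    simp only [← Functor.map_comp]
    rw [hk]
  rw [h4]
  have h5 := triple_unit_naturality Pf Pi Pj ((epsH Le Lk Lke κ).app K₀)
  rw [reassoc_of% h5]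
  have h6 : DerivedCategory.Qh.map ((tauH Pg Pif Pj Lke τ₃).app K₀) ≫
      DerivedCategory.Qh.map ((epsH Pi Pf Pif ε).app ((Kf Pj).obj ((Kf Lke).obj K₀))) ≫
      DerivedCategory.Qh.map
        ((Kf Pf).map ((Kf Pi).map ((Kf Pj).map ((epsH Le Lk Lke κ).app K₀)))) =
      DerivedCategory.Qh.map ((tauH Pg Pf Ph Le τ₁).app K₀ ≫
        (Kf Pf).map ((tauH Ph Pi Pj Lk τ₂).app ((Kf Le).obj K₀))) := by
    rw [← Functor.map_comp, ← Functor.map_comp, hP]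
  rw [reassoc_of% h6]
  rfl

instance isIso_mapHomotopyCategory' {V W : Type*} [Category V] [Preadditive V] [Category W]
    [Preadditive W] {F G : V ⥤ W} [F.Additive] [G.Additive] (α : F ⟶ G) [IsIso α] :
    IsIso (NatTrans.mapHomotopyCategory α (ComplexShape.up ℤ)) :=
  ⟨⟨NatTrans.mapHomotopyCategory (inv α) (ComplexShape.up ℤ), by
    rw [← NatTrans.mapHomotopyCategory_comp, IsIso.hom_inv_id, NatTrans.mapHomotopyCategory_id],
    by rw [← NatTrans.mapHomotopyCategory_comp, IsIso.inv_hom_id,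
      NatTrans.mapHomotopyCategory_id]⟩⟩

instance isIso_epsH_app [IsIso κ] (K₀ : HomotopyCategory 𝒯 (ComplexShape.up ℤ)) :
    IsIso ((epsH Le Lk Lke κ).app K₀) := by
  unfold epsH
  rw [NatTrans.comp_app]
  infer_instance

instance isIso_kappaD [IsIso κ] (K₀ : HomotopyCategory 𝒯 (ComplexShape.up ℤ)) :
    IsIso (kappaD Le Lk Lke κ K₀) := by
  unfold kappaD
  infer_instance

/-- **Vertical composition for the generic derived base change morphism**, at (the image of) an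
object `K₀` of the homotopy category at which the unit of `R Pg` is invertible. -/
theorem isIso_transpose_bcAdjGen_vcomp
    {Lf : DerivedCategory 𝒮 ⥤ DerivedCategory 𝒳} {Li : DerivedCategory 𝒳 ⥤ DerivedCategory 𝒲}
    {Lif : DerivedCategory 𝒮 ⥤ DerivedCategory 𝒲}
    (adj₁ : Lf ⊣ R Pf) (adj₂ : Li ⊣ R Pi) (adj₃ : Lif ⊣ R Pif)
    [IsIso (compMapGen Pi Pf Pif ε)] [IsIso κ]
    (P : ∀ M : 𝒯, τ₃.app M ≫ ε.app (Pj.obj (Lke.obj M)) ≫
        Pf.map (Pi.map (Pj.map (κ.app M))) = τ₁.app M ≫ Pf.map (τ₂.app (Le.obj M)))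
    (K₀ : HomotopyCategory 𝒯 (ComplexShape.up ℤ)) [IsIso ((uR Pg).app K₀)]
    (h1 : IsIso ((adj₁.homEquiv _ _).symm
      ((bcAdjGen Pg Pf Ph Le τ₁).app (DerivedCategory.Qh.obj K₀))))
    (h2 : IsIso ((adj₂.homEquiv _ _).symm
      ((bcAdjGen Ph Pi Pj Lk τ₂).app (Le.mapDerivedCategory.obj (DerivedCategory.Qh.obj K₀))))) :
    IsIso ((adj₃.homEquiv _ _).symm
      ((bcAdjGen Pg Pif Pj Lke τ₃).app (DerivedCategory.Qh.obj K₀))) := by
  have hP := hP_of_abelian Pg Ph Pf Pi Pj Pif Le Lk Lke τ₁ τ₂ τ₃ ε κ P K₀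
  have hL := lhs_eq Pg Ph Pf Pi Pj Pif Le Lk Lke τ₁ τ₂ τ₃ ε κ K₀ hP
  have hR := rhs_eq Pg Ph Pf Pi Pj Le Lk τ₁ τ₂ K₀
  have hc := (cancel_epi ((uR Pg).app K₀)).1 (hL.trans hR.symm)
  exact isIso_transpose_of_paste adj₁ adj₂ adj₃ (compMapGen Pi Pf Pif ε)
    ((bcAdjGen Pg Pf Ph Le τ₁).app (DerivedCategory.Qh.obj K₀))
    ((bcAdjGen Ph Pi Pj Lk τ₂).app (Le.mapDerivedCategory.obj (DerivedCategory.Qh.obj K₀)))
    ((bcAdjGen Pg Pif Pj Lke τ₃).app (DerivedCategory.Qh.obj K₀))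
    ((R Pj).map (kappaD Le Lk Lke κ K₀)) hc h1 h2

end Paste

section Transport

variable {C : Type u₁} [Category.{v₁} C] {D : Type u₂} [Category.{v₂} D]
  {E : Type u₃} [Category.{v₃} E] {E' : Type u₄} [Category.{v₄} E']
  {L : C ⥤ D} {R' : D ⥤ C} (adj : L ⊣ R') {F : E ⥤ C} {G : E ⥤ E'} {G' : E' ⥤ D}
  (α : F ⟶ G ⋙ G' ⋙ R')

lemma transpose_app_iso {K K' : E} (e : K ≅ K') :
    (adj.homEquiv _ _).symm (α.app K') =
      L.map (F.map e.inv) ≫ (adj.homEquiv _ _).symm (α.app K) ≫ G'.map (G.map e.hom) := by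
  have hn : α.app K' = F.map e.inv ≫ α.app K ≫ R'.map (G'.map (G.map e.hom)) := by
    have := α.naturality e.hom
    dsimp at this
    rw [← this, ← Functor.map_comp_assoc, e.inv_hom_id, CategoryTheory.Functor.map_id, Category.id_comp]
  rw [hn, Adjunction.homEquiv_naturality_left_symm, Adjunction.homEquiv_naturality_right_symm]

lemma isIso_transpose_app_iff {K K' : E} (e : K ≅ K') :
    IsIso ((adj.homEquiv _ _).symm (α.app K)) ↔ IsIso ((adj.homEquiv _ _).symm (α.app K')) := by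
  constructor
  · intro h
    rw [transpose_app_iso adj α e]
    infer_instance
  · intro h
    rw [transpose_app_iso adj α e.symm]
    infer_instance

end Transport


end Groth.Agent.Lib.Helper9.DBcGen
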