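import Mathlib
import Groth.Agent.Lib.Helper9.FE.DBcPaste

/-!
# Cancellation in the vertical pasting of generic derived base change morphisms (helper9)
-/

set_option autoImplicit false
set_option linter.unusedSectionVars false
set_option linter.style.haveILetI false
universe w₁ w₂ w₃ w₄ w₅ w₆ v₁ v₂ v₃ v₄ v₅ v₆ u₁ u₂ u₃ u₄ u₅ u₆

open CategoryTheory CategoryTheory.Limits

namespace Groth.Agent.Lib.Helper9.DBcGen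

section Transpose

variable {DS : Type u₁} [Category.{v₁} DS] {DX : Type u₂} [Category.{v₂} DX]
  {DW : Type u₃} [Category.{v₃} DW]
  {Lf : DS ⥤ DX} {F : DX ⥤ DS} {Li : DX ⥤ DW} {I : DW ⥤ DX} {Lif : DS ⥤ DW} {IF : DW ⥤ DS}

/-- cancellation version of `isIso_transpose_of_paste` -/
theorem isIso_map_transpose_of_paste (adj₁ : Lf ⊣ F) (adj₂ : Li ⊣ I) (adj₃ : Lif ⊣ IF)
    (γ : IF ⟶ I ⋙ F) [IsIso γ]
    {A : DS} {B₁ : DX} {B₂ B₃ : DW} (a₁ : A ⟶ F.obj B₁) (a₂ : B₁ ⟶ I.obj B₂)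
    (a₃ : A ⟶ IF.obj B₃) (t : B₃ ⟶ B₂) [IsIso t]
    (hc : a₃ ≫ γ.app B₃ ≫ F.map (I.map t) = a₁ ≫ F.map a₂)
    (h3 : IsIso ((adj₃.homEquiv _ _).symm a₃)) (h2 : IsIso ((adj₂.homEquiv _ _).symm a₂)) :
    IsIso (Li.map ((adj₁.homEquiv _ _).symm a₁)) := by
  let adj₁₂ : Lf ⋙ Li ⊣ I ⋙ F := adj₁.comp adj₂
  let adj₃' : Lif ⊣ I ⋙ F := adj₃.ofNatIsoRight (asIso γ)
  let u : Lf ⋙ Li ≅ Lif := adj₁₂.leftAdjointUniq adj₃'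
  set φ := (adj₃.homEquiv _ _).symm a₃ with hφ
  set x := (adj₁.homEquiv _ _).symm a₁ with hx
  set y := (adj₂.homEquiv _ _).symm a₂ with hy
  have key : u.hom.app A ≫ φ ≫ t = Li.map x ≫ y := by
    apply (adj₁₂.homEquiv _ _).injective
    have hL : adj₁₂.homEquiv _ _ (u.hom.app A ≫ φ ≫ t) = a₃ ≫ γ.app B₃ ≫ F.map (I.map t) := by
      rw [Adjunction.homEquiv_unit, Functor.map_comp, ← Category.assoc,
        Adjunction.unit_leftAdjointUniq_hom_app adj₁₂ adj₃' A]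
      have : adj₃'.unit.app A ≫ (I ⋙ F).map (φ ≫ t) = adj₃'.homEquiv _ _ (φ ≫ t) := by
        rw [Adjunction.homEquiv_unit]
      rw [this, Adjunction.homEquiv_naturality_right, Adjunction.homEquiv_ofNatIsoRight_apply,
        hφ, Equiv.apply_symm_apply]
      simp
    have hR : adj₁₂.homEquiv _ _ (Li.map x ≫ y) = a₁ ≫ F.map a₂ := by
      rw [Adjunction.comp_homEquiv]
      dsimp only [Equiv.trans_apply]
      rw [Adjunction.homEquiv_naturality_left, hy, Equiv.apply_symm_apply,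
        Adjunction.homEquiv_naturality_right, hx, Equiv.apply_symm_apply]
    rw [hL, hR, hc]
  haveI := h3
  haveI := h2
  have : Li.map x = (u.hom.app A ≫ φ ≫ t) ≫ inv y := by
    rw [key]
    simp
  rw [this]
  infer_instance

end Transpose

section Paste

variable {𝒯 : Type u₁} [Category.{v₁} 𝒯] [Abelian 𝒯] [HasDerivedCategory.{w₁} 𝒯]
  {𝒮 : Type u₂} [Category.{v₂} 𝒮] [Abelian 𝒮] [HasDerivedCategory.{w₂} 𝒮]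
  {𝒳 : Type u₃} [Category.{v₃} 𝒳] [Abelian 𝒳] [HasDerivedCategory.{w₃} 𝒳]
  {𝒴 : Type u₄} [Category.{v₄} 𝒴] [Abelian 𝒴] [HasDerivedCategory.{w₄} 𝒴]
  {𝒲 : Type u₅} [Category.{v₅} 𝒲] [Abelian 𝒲] [HasDerivedCategory.{w₅} 𝒲]
  {𝒵 : Type u₆} [Category.{v₆} 𝒵] [Abelian 𝒵] [HasDerivedCategory.{w₆} 𝒵]
  (Pg : 𝒯 ⥤ 𝒮) (Ph : 𝒴 ⥤ 𝒳) (Pf : 𝒳 ⥤ 𝒮) (Pi : 𝒲 ⥤ 𝒳) (Pj : 𝒵 ⥤ 𝒲) (Pif : 𝒲 ⥤ 𝒮)
  (Le : 𝒯 ⥤ 𝒴) (Lk : 𝒴 ⥤ 𝒵) (Lke : 𝒯 ⥤ 𝒵)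
  [Pg.Additive] [Ph.Additive] [Pf.Additive] [Pi.Additive] [Pj.Additive] [Pif.Additive]
  [Le.Additive] [Lk.Additive] [Lke.Additive]
  [PreservesFiniteLimits Le] [PreservesFiniteColimits Le]
  [PreservesFiniteLimits Lk] [PreservesFiniteColimits Lk]
  [PreservesFiniteLimits Lke] [PreservesFiniteColimits Lke]
  [HasR Pg] [HasR Ph] [HasR Pf] [HasR Pi] [HasR Pj] [HasR Pif]
  (τ₁ : Pg ⟶ Le ⋙ Ph ⋙ Pf) (τ₂ : Ph ⟶ Lk ⋙ Pj ⋙ Pi) (τ₃ : Pg ⟶ Lke ⋙ Pj ⋙ Pif)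
  (ε : Pif ⟶ Pi ⋙ Pf) (κ : Lke ⟶ Le ⋙ Lk)

/-- **Cancellation in the vertical composition for the generic derived base change morphism** -/
theorem isIso_map_transpose_bcAdjGen_cancel
    {Lf : DerivedCategory 𝒮 ⥤ DerivedCategory 𝒳} {Li : DerivedCategory 𝒳 ⥤ DerivedCategory 𝒲}
    {Lif : DerivedCategory 𝒮 ⥤ DerivedCategory 𝒲}
    (adj₁ : Lf ⊣ R Pf) (adj₂ : Li ⊣ R Pi) (adj₃ : Lif ⊣ R Pif)
    [IsIso (compMapGen Pi Pf Pif ε)] [IsIso κ]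
    (P : ∀ M : 𝒯, τ₃.app M ≫ ε.app (Pj.obj (Lke.obj M)) ≫
        Pf.map (Pi.map (Pj.map (κ.app M))) = τ₁.app M ≫ Pf.map (τ₂.app (Le.obj M)))
    (K₀ : HomotopyCategory 𝒯 (ComplexShape.up ℤ)) [IsIso ((uR Pg).app K₀)]
    (h3 : IsIso ((adj₃.homEquiv _ _).symm
      ((bcAdjGen Pg Pif Pj Lke τ₃).app (DerivedCategory.Qh.obj K₀))))
    (h2 : IsIso ((adj₂.homEquiv _ _).symm
      ((bcAdjGen Ph Pi Pj Lk τ₂).app (Le.mapDerivedCategory.obj (DerivedCategory.Qh.obj K₀))))) :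
    IsIso (Li.map ((adj₁.homEquiv _ _).symm
      ((bcAdjGen Pg Pf Ph Le τ₁).app (DerivedCategory.Qh.obj K₀)))) := by
  have hP := hP_of_abelian Pg Ph Pf Pi Pj Pif Le Lk Lke τ₁ τ₂ τ₃ ε κ P K₀
  have hL := lhs_eq Pg Ph Pf Pi Pj Pif Le Lk Lke τ₁ τ₂ τ₃ ε κ K₀ hP
  have hR := rhs_eq Pg Ph Pf Pi Pj Le Lk τ₁ τ₂ K₀
  have hc := (cancel_epi ((uR Pg).app K₀)).1 (hL.trans hR.symm)
  exact isIso_map_transpose_of_paste adj₁ adj₂ adj₃ (compMapGen Pi Pf Pif ε)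
    ((bcAdjGen Pg Pf Ph Le τ₁).app (DerivedCategory.Qh.obj K₀))
    ((bcAdjGen Ph Pi Pj Lk τ₂).app (Le.mapDerivedCategory.obj (DerivedCategory.Qh.obj K₀)))
    ((bcAdjGen Pg Pif Pj Lke τ₃).app (DerivedCategory.Qh.obj K₀))
    ((R Pj).map (kappaD Le Lk Lke κ K₀)) hc h3 h2

end Paste

end Groth.Agent.Lib.Helper9.DBcGen
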