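import Mathlib
import Groth.Prelude.Def_EtBCD
import Groth.Prelude.Def_SixF1
import Groth.Agent.Lib.Helper9.FE.DBcPaste
import Groth.Agent.Lib.Helper5.RDerPaste.Coh
import Groth.Agent.Lib.Helper3.RComp1
import Groth.Agent.Lib.Helper5.KInj.Derived

set_option autoImplicit false
set_option linter.unusedSectionVars false
set_option linter.style.haveILetI false
universe u
open CategoryTheory CategoryTheory.Limits AlgebraicGeometry

namespace Groth.Agent.Lib.Helper9.DBcEt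

open EtCoh Groth.Agent.Lib.Helper5.RDerPaste

variable {X S Y T W Z : Scheme.{u}} (f : X ⟶ S) (g : T ⟶ S) (h : Y ⟶ X) (e : Y ⟶ T)
  (w : e ≫ g = h ≫ f) (i : W ⟶ X) (j : Z ⟶ W) (k : Z ⟶ Y) (w' : k ≫ h = j ≫ i)
  (w'' : (k ≫ e) ≫ g = j ≫ (i ≫ f))

/-- the adjunction `e⁻¹ ⋙ k⁻¹ ⊣ (k ≫ e)_*` -/
noncomputable def adjKE : pull e ⋙ pull k ⊣ push (k ≫ e) :=
  ((pullPushAdj e).comp (pullPushAdj k)).ofNatIsoRight (pushComp e k)

/-- `(k ≫ e)⁻¹ ≅ e⁻¹ ⋙ k⁻¹` -/
noncomputable def kap : pull (k ≫ e) ≅ pull e ⋙ pull k :=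
  (pullPushAdj (k ≫ e)).leftAdjointUniq (adjKE e k)

lemma unit_kap (F : EtCoh.Ab T) :
    (pullPushAdj (k ≫ e)).unit.app F ≫ (push (k ≫ e)).map ((kap e k).hom.app F) =
      (pullPushAdj e).unit.app F ≫ (push e).map ((pullPushAdj k).unit.app ((pull e).obj F)) ≫
        (pushComp e k).hom.app ((pull k).obj ((pull e).obj F)) := by
  have := Adjunction.unit_leftAdjointUniq_hom_app (pullPushAdj (k ≫ e)) (adjKE e k) F
  refine this.trans ?_
  simp [adjKE]

lemma pushToPushPull_app {X S X' S' : Scheme.{u}} (f : X ⟶ S) (g : S' ⟶ S) (f' : X' ⟶ S')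
    (g' : X' ⟶ X) (w : g' ≫ f = f' ≫ g) (M : EtCoh.Ab X) :
    (EtBC.pushToPushPull f g f' g' w).app M =
      (push f).map ((pullPushAdj g').unit.app M) ≫
        (pushComp f g' ≪≫ pushCongr w ≪≫ (pushComp g f').symm).hom.app ((pull g').obj M) := by
  simp [EtBC.pushToPushPull]

/-- the sheaf-level pasting identity -/
theorem paste_ab (M : EtCoh.Ab T) :
    (EtBC.pushToPushPull g (i ≫ f) j (k ≫ e) w'').app M ≫
        (pushComp f i).inv.app ((push j).obj ((pull (k ≫ e)).obj M)) ≫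
        (push f).map ((push i).map ((push j).map ((kap e k).hom.app M))) =
      (EtBC.pushToPushPull g f h e w).app M ≫
        (push f).map ((EtBC.pushToPushPull h i j k w').app ((pull e).obj M)) := by
  rw [pushToPushPull_app, pushToPushPull_app, pushToPushPull_app]
  set sq₁ := pushComp g e ≪≫ pushCongr w ≪≫ (pushComp f h).symm with hsq₁
  set sq₂ := pushComp h k ≪≫ pushCongr w' ≪≫ (pushComp i j).symm with hsq₂
  set sq₃ := pushComp g (k ≫ e) ≪≫ pushCongr w'' ≪≫ (pushComp (i ≫ f) j).symm with hsq₃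
  have hc2 := c2 f g h e w i j k w' w'' ((pull k).obj ((pull e).obj M))
  rw [← hsq₁, ← hsq₂, ← hsq₃] at hc2
  have n1 : sq₃.hom.app ((pull (k ≫ e)).obj M) ≫
      (pushComp f i).inv.app ((push j).obj ((pull (k ≫ e)).obj M)) ≫
      (push f).map ((push i).map ((push j).map ((kap e k).hom.app M))) =
      (push g).map ((push (k ≫ e)).map ((kap e k).hom.app M)) ≫
        sq₃.hom.app ((pull k).obj ((pull e).obj M)) ≫
        (pushComp f i).inv.app ((push j).obj ((pull k).obj ((pull e).obj M))) := by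
    have a1 := sq₃.hom.naturality ((kap e k).hom.app M)
    have a2 := (pushComp f i).inv.naturality ((push j).map ((kap e k).hom.app M))
    dsimp at a1 a2
    rw [← a2, reassoc_of% a1]
  have n2 := sq₁.hom.naturality ((pullPushAdj k).unit.app ((pull e).obj M))
  dsimp at n2
  simp only [Category.assoc, Functor.map_comp]
  rw [n1, ← Functor.map_comp_assoc, unit_kap]
  simp only [Functor.map_comp, Category.assoc]
  rw [hc2, reassoc_of% n2]


section Derived

attribute [local instance] HasDerivedCategory.standard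

open Groth.Agent.Lib.Helper9.DBcGen

theorem bcAdj_eq {X S X' S' : Scheme.{u}} (f : X ⟶ S) (g : S' ⟶ S) (f' : X' ⟶ S') (g' : X' ⟶ X)
    (w : g' ≫ f = f' ≫ g) [PreservesFiniteLimits (EtCoh.pull g')] [DCoh.HasRpushEt X f]
    [DCoh.HasRpushEt X' f'] [DCoh.HasRpushEt S' g] :
    EtBC.bcAdj f g f' g' w =
      bcAdjGen (EtCoh.push f) (EtCoh.push g) (EtCoh.push f') (EtCoh.pull g')
        (EtBC.pushToPushPull f g f' g' w) := rfl

theorem compMap_eq {X Y Z : Scheme.{u}} (f : X ⟶ Y) (g : Y ⟶ Z)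
    [DCoh.HasRpushEt X f] [DCoh.HasRpushEt Y g] [DCoh.HasRpushEt X (f ≫ g)] :
    EtSix.compMap f g = compMapGen (EtCoh.push f) (EtCoh.push g) (EtCoh.push (f ≫ g))
      (EtCoh.pushComp g f).inv := rfl

/-- **Vertical composition for the derived étale base change morphism `EtBC.bcMap`.** -/
theorem bcMap_isIso_vcomp
    [PreservesFiniteLimits (EtCoh.pull f)] [PreservesFiniteLimits (EtCoh.pull i)]
    [PreservesFiniteLimits (EtCoh.pull (i ≫ f))] [PreservesFiniteLimits (EtCoh.pull e)]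
    [PreservesFiniteLimits (EtCoh.pull k)] [PreservesFiniteLimits (EtCoh.pull (k ≫ e))]
    [DCoh.HasRpushEt T g] [DCoh.HasRpushEt Y h] [DCoh.HasRpushEt Z j] [DCoh.HasRpushEt X f]
    [DCoh.HasRpushEt W i] [DCoh.HasRpushEt W (i ≫ f)]
    (adj₁ : EtBC.pullD f ⊣ DCoh.RpushEt X f) (adj₂ : EtBC.pullD i ⊣ DCoh.RpushEt W i)
    (adj₃ : EtBC.pullD (i ≫ f) ⊣ DCoh.RpushEt W (i ≫ f)) (K : DCoh.DEt T)
    (h1 : IsIso (EtBC.bcMap g f h e w adj₁ K))
    (h2 : IsIso (EtBC.bcMap h i j k w' adj₂ ((EtBC.pullD e).obj K))) :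
    IsIso (EtBC.bcMap g (i ≫ f) j (k ≫ e) w'' adj₃ K) := by
  have hT := Groth.Agent.Helper3.RComp.hasKInjRes_of_grothendieck (EtCoh.Ab T)
  obtain ⟨I, hI, ⟨e₀⟩⟩ := Groth.Agent.Helper3.RComp.exists_kinj_iso hT K
  let K₀ := (HomotopyCategory.quotient (EtCoh.Ab T) (ComplexShape.up ℤ)).obj I
  let e₁ : K ≅ DerivedCategory.Qh.obj K₀ :=
    e₀ ≪≫ ((DerivedCategory.quotientCompQhIso (EtCoh.Ab T)).app I).symm
  haveI : IsIso ((uR (EtCoh.push g)).app K₀) :=
    Helper5.KInj.isIso_app_of_isKInjective _ hT _ _ I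
  haveI : IsIso (compMapGen (EtCoh.push i) (EtCoh.push f) (EtCoh.push (i ≫ f))
      (EtCoh.pushComp f i).inv) := Groth.Agent.Helper3.RComp.isIso_compMap i f
  unfold EtBC.bcMap at h1 h2 ⊢
  rw [bcAdj_eq] at h1 h2 ⊢
  rw [isIso_transpose_app_iff adj₃ _ e₁]
  rw [isIso_transpose_app_iff adj₁ _ e₁] at h1
  rw [isIso_transpose_app_iff adj₂ _ ((EtBC.pullD e).mapIso e₁)] at h2
  exact isIso_transpose_bcAdjGen_vcomp (EtCoh.push g) (EtCoh.push h) (EtCoh.push f)
    (EtCoh.push i) (EtCoh.push j) (EtCoh.push (i ≫ f)) (EtCoh.pull e) (EtCoh.pull k)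
    (EtCoh.pull (k ≫ e)) (EtBC.pushToPushPull g f h e w) (EtBC.pushToPushPull h i j k w')
    (EtBC.pushToPushPull g (i ≫ f) j (k ≫ e) w'') (EtCoh.pushComp f i).inv (kap e k).hom
    adj₁ adj₂ adj₃ (paste_ab f g h e w i j k w' w'') K₀ h1 h2

end Derived

end Groth.Agent.Lib.Helper9.DBcEt
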