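import Mathlib
import Groth.Agent.Lib.Helper9.FE.DBcPaste
import Groth.Agent.Lib.Helper5.Shriek.DerAdjR

set_option autoImplicit false
set_option linter.unusedSectionVars false
set_option linter.style.haveILetI false
universe w₁ w₂ w₃ w₄ v₁ v₂ v₃ v₄ u₁ u₂ u₃ u₄

open CategoryTheory CategoryTheory.Limits

namespace Groth.Agent.Lib.Helper9.DBcGen

section CounitFac

variable {C : Type u₁} [Category.{v₁} C] [Abelian C] [HasDerivedCategory.{w₁} C]
  {C' : Type u₂} [Category.{v₂} C'] [Abelian C'] [HasDerivedCategory.{w₂} C']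
  {F : C ⥤ C'} {H : C' ⥤ C} [F.Additive] [H.Additive] [PreservesFiniteLimits F]
  [PreservesFiniteColimits F] (adj : F ⊣ H)

open Helper5.KInj Groth.Agent.Lib.Helper5.KProj

theorem derivedAdjR_counit_fac [Helper5.KInj.HasR H] (hC : HasKInjRes C')
    (K₂ : HomotopyCategory C' (ComplexShape.up ℤ)) :
    F.mapDerivedCategory.map ((Rη H).app K₂) ≫
        (derivedAdjR adj hC).counit.app (DerivedCategory.Qh.obj K₂) =
      (αF F).app ((H.mapHomotopyCategory (ComplexShape.up ℤ)).obj K₂) ≫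
        DerivedCategory.Qh.map ((adjH adj (ComplexShape.up ℤ)).counit.app K₂) := by
  haveI := isLeft_auxR (F := F) (H := H)
  haveI := isRight_auxR (F := F) (H := H) hC
  exact Adjunction.derivedε_fac_app (adjH adj (ComplexShape.up ℤ))
    (HomotopyCategory.quasiIso C' (ComplexShape.up ℤ)) (αF F) (Rη H) K₂

end CounitFac


section Exact

variable {X : Type u₁} [Category.{v₁} X] [Abelian X] [HasDerivedCategory.{w₁} X]
  {S : Type u₂} [Category.{v₂} S] [Abelian S] [HasDerivedCategory.{w₂} S]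
  {X' : Type u₃} [Category.{v₃} X'] [Abelian X'] [HasDerivedCategory.{w₃} X']
  {S' : Type u₄} [Category.{v₄} S'] [Abelian S'] [HasDerivedCategory.{w₄} S']
  (Pf : X ⥤ S) (Pg : S' ⥤ S) (Pf' : X' ⥤ S') (Lg' : X ⥤ X')
  [Pf.Additive] [Pg.Additive] [Pf'.Additive] [Lg'.Additive]
  (τ : Pf ⟶ Lg' ⋙ Pf' ⋙ Pg)
  [PreservesFiniteLimits Lg'] [PreservesFiniteColimits Lg'] [HasR Pf] [HasR Pf'] [HasR Pg]
  (Lg : S ⥤ S') [Lg.Additive] [PreservesFiniteLimits Lg] [PreservesFiniteColimits Lg]
  (adjg : Lg ⊣ Pg) (hS' : Helper5.KInj.HasKInjRes S')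

local notation "Kf" P => Functor.mapHomotopyCategory P (ComplexShape.up ℤ)
local notation "Cf" P => Functor.mapHomologicalComplex P (ComplexShape.up ℤ)

open Helper5.KInj Groth.Agent.Lib.Helper5.KProj

/-- the termwise degree zero base change map of a complex -/
noncomputable def bcC (I : CochainComplex X ℤ) :
    (Cf Lg).obj ((Cf Pf).obj I) ⟶ (Cf Pf').obj ((Cf Lg').obj I) :=
  (Cf Lg).map ((NatTrans.mapHomologicalComplex τ (ComplexShape.up ℤ)).app I ≫
      (Functor.mapHomologicalComplexCompIso (Iso.refl (Lg' ⋙ (Pf' ⋙ Pg)))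
        (ComplexShape.up ℤ)).inv.app I ≫
      (Functor.mapHomologicalComplexCompIso (Iso.refl (Pf' ⋙ Pg))
        (ComplexShape.up ℤ)).inv.app ((Cf Lg').obj I)) ≫
    Groth.Agent.Helper3.AdjHtpyPlus.counitC adjg (ComplexShape.up ℤ)
      ((Cf Pf').obj ((Cf Lg').obj I))

lemma bcC_f (I : CochainComplex X ℤ) (n : ℤ) :
    (bcC Pf Pg Pf' Lg' τ Lg adjg I).f n =
      Lg.map (τ.app (I.X n)) ≫ adjg.counit.app (Pf'.obj (Lg'.obj (I.X n))) := by
  simp only [bcC, HomologicalComplex.comp_f, NatTrans.mapHomologicalComplex_app_f,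
    Functor.mapHomologicalComplex_map_f, mapHCCompIso_refl_inv_app_f,
    Groth.Agent.Helper3.AdjHtpyPlus.counitC_f]
  show Lg.map (τ.app (I.X n) ≫ 𝟙 _ ≫ 𝟙 _) ≫ adjg.counit.app (Pf'.obj (Lg'.obj (I.X n))) = _
  simp only [Category.comp_id]

lemma isIso_bcC (I : CochainComplex X ℤ)
    (h0 : ∀ n, IsIso (Lg.map (τ.app (I.X n)) ≫ adjg.counit.app (Pf'.obj (Lg'.obj (I.X n))))) :
    IsIso (bcC Pf Pg Pf' Lg' τ Lg adjg I) := by
  haveI : ∀ n, IsIso ((bcC Pf Pg Pf' Lg' τ Lg adjg I).f n) := fun n => by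
    rw [bcC_f]
    exact h0 n
  exact HomologicalComplex.Hom.isIso_of_components _

lemma bcH_eq (I : CochainComplex X ℤ) :
    (Kf Lg).map ((tauH Pf Pg Pf' Lg' τ).app ((HomotopyCategory.quotient X (ComplexShape.up ℤ)).obj I)) ≫
        (adjH adjg (ComplexShape.up ℤ)).counit.app
          ((Kf Pf').obj ((Kf Lg').obj ((HomotopyCategory.quotient X (ComplexShape.up ℤ)).obj I))) =
      (HomotopyCategory.quotient S' (ComplexShape.up ℤ)).map (bcC Pf Pg Pf' Lg' τ Lg adjg I) := by
  rw [tauH_app_quotient]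
  unfold bcC
  rw [Functor.map_comp]
  rfl

/-- **Generic exact base change in the derived category**: at a complex `I` at which the units of
`R Pf` and (after pullback) of `R Pf'` are invertible (e.g. `I` K-injective and `Lg'` preserving
K-injectives) and on whose terms the degree zero base change map is invertible, the transpose of
`bcAdjGen` under the derived adjunction is invertible. -/
theorem isIso_transpose_bcAdjGen_of_exact (I : CochainComplex X ℤ)
    [IsIso ((uR Pf).app ((HomotopyCategory.quotient X (ComplexShape.up ℤ)).obj I))]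
    [IsIso ((uR Pf').app
      ((Kf Lg').obj ((HomotopyCategory.quotient X (ComplexShape.up ℤ)).obj I)))]
    (h0 : ∀ n, IsIso (Lg.map (τ.app (I.X n)) ≫ adjg.counit.app (Pf'.obj (Lg'.obj (I.X n))))) :
    IsIso (((derivedAdjR adjg hS').homEquiv _ _).symm
      ((bcAdjGen Pf Pg Pf' Lg' τ).app
        (DerivedCategory.Qh.obj ((HomotopyCategory.quotient X (ComplexShape.up ℤ)).obj I)))) := by
  set K₀ := (HomotopyCategory.quotient X (ComplexShape.up ℤ)).obj I with hK₀
  set adjD := derivedAdjR adjg hS' with hadjD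
  let y := (uR Pf').app ((Kf Lg').obj K₀) ≫
    (R Pf').map (Lg'.mapDerivedCategoryFactorsh.inv.app K₀)
  haveI : IsIso y := by dsimp only [y]; infer_instance
  let bcH := (Kf Lg).map ((tauH Pf Pg Pf' Lg' τ).app K₀) ≫
    (adjH adjg (ComplexShape.up ℤ)).counit.app ((Kf Pf').obj ((Kf Lg').obj K₀))
  haveI hbcH : IsIso bcH := by
    have e := bcH_eq Pf Pg Pf' Lg' τ Lg adjg I
    haveI := isIso_bcC Pf Pg Pf' Lg' τ Lg adjg I h0
    dsimp only [bcH]
    rw [e]
    exact Functor.map_isIso _ _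
  haveI : IsIso ((αF Lg).app ((Kf Pf).obj K₀)) := by
    unfold αF
    infer_instance
  have key : Lg.mapDerivedCategory.map ((uR Pf).app K₀) ≫
      (adjD.homEquiv _ _).symm ((bcAdjGen Pf Pg Pf' Lg' τ).app (DerivedCategory.Qh.obj K₀)) =
      (αF Lg).app ((Kf Pf).obj K₀) ≫ DerivedCategory.Qh.map bcH ≫ y := by
    rw [Adjunction.homEquiv_counit, ← Functor.map_comp_assoc, uR_bcAdjGen_app, bcUnitGen_app]
    have hn := adjD.counit.naturality y
    have hf := derivedAdjR_counit_fac adjg hS' ((Kf Pf').obj ((Kf Lg').obj K₀))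
    have hα := (αF Lg).naturality ((tauH Pf Pg Pf' Lg' τ).app K₀)
    dsimp at hn hα
    have e1 : (R Pg).map ((uR Pf').app ((Kf Lg').obj K₀)) ≫
        (R Pg).map ((R Pf').map (Lg'.mapDerivedCategoryFactorsh.inv.app K₀)) = (R Pg).map y := by
      dsimp only [y]
      rw [Functor.map_comp]
    rw [e1]
    simp only [Functor.map_comp, Category.assoc]
    rw [hn, reassoc_of% hf, reassoc_of% hα]
    dsimp only [bcH]
    rw [Functor.map_comp, Category.assoc]
  have : (adjD.homEquiv _ _).symm ((bcAdjGen Pf Pg Pf' Lg' τ).app (DerivedCategory.Qh.obj K₀)) =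
      inv (Lg.mapDerivedCategory.map ((uR Pf).app K₀)) ≫
        (αF Lg).app ((Kf Pf).obj K₀) ≫ DerivedCategory.Qh.map bcH ≫ y := by
    rw [← key]
    simp
  rw [this]
  infer_instance

end Exact

end Groth.Agent.Lib.Helper9.DBcGen
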