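import Mathlib
import Groth.Prelude.Def_EtBCD
import Groth.Prelude.Def_SixF1
import Groth.Agent.Lib.Helper9.FE.DBcEt
import Groth.Agent.Lib.Helper9.FE.DBcExact
import Groth.Agent.Lib.Helper9.FE.DBcCancel
import Groth.Agent.Lib.Helper9.FE.BcQEt
import Groth.Agent.Lib.Helper5.Perf.ExactHom
import Groth.Agent.Lib.Helper9.FE.EtBC0Et
import Groth.Agent.S0623
import Groth.Agent.S0481

set_option autoImplicit false
set_option linter.unusedSectionVars false
set_option linter.style.haveILetI false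
universe u
open CategoryTheory CategoryTheory.Limits AlgebraicGeometry

namespace Groth.Agent.Lib.Helper9.DBcEt

open EtCoh Groth.Agent.Lib.Helper9.DBcGen

attribute [local instance] HasDerivedCategory.standard
attribute [local instance] Groth.Agent.Lib.Helper5.Misc.JContGen.jCont

section Indep

variable {C : Type*} [Category C] {D : Type*} [Category D] {L : C ⥤ D} {R : D ⥤ C}

lemma transpose_indep (adj adj' : L ⊣ R) {A : C} {B : D} (φ : A ⟶ R.obj B) :
    (adj'.homEquiv _ _).symm φ =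
      (adj'.leftAdjointUniq adj).hom.app A ≫ (adj.homEquiv _ _).symm φ := by
  apply (adj'.homEquiv _ _).injective
  rw [Equiv.apply_symm_apply, Adjunction.homEquiv_unit, Functor.map_comp, ← Category.assoc,
    Adjunction.unit_leftAdjointUniq_hom_app, ← Adjunction.homEquiv_unit, Equiv.apply_symm_apply]

lemma isIso_transpose_indep (adj adj' : L ⊣ R) {A : C} {B : D} (φ : A ⟶ R.obj B) :
    IsIso ((adj.homEquiv _ _).symm φ) ↔ IsIso ((adj'.homEquiv _ _).symm φ) := by
  constructor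
  · intro h
    rw [transpose_indep adj adj']
    infer_instance
  · intro h
    rw [transpose_indep adj' adj]
    infer_instance

end Indep

/-- K-injective resolutions exist for abelian étale sheaves -/
theorem hKI (X : Scheme.{u}) : Helper5.KInj.HasKInjRes (EtCoh.Ab X) :=
  Groth.Agent.Helper3.RComp.hasKInjRes_of_grothendieck (EtCoh.Ab X)

/-- the derived direct image exists -/
instance hasRpushEt {X Y : Scheme.{u}} (f : X ⟶ Y) : DCoh.HasRpushEt X f :=
  Helper5.KInj.hasR (H := EtCoh.push f) (hKI X)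

attribute [local instance] Groth.Agent.S0623.lexPull

/-- the derived adjunction `f⁻¹ ⊣ Rf_*` -/
noncomputable def adjD {X Y : Scheme.{u}} (f : X ⟶ Y) : EtBC.pullD f ⊣ DCoh.RpushEt X f :=
  Helper5.KInj.derivedAdjR (EtCoh.pullPushAdj f) (hKI X)

section Et

variable {X S X' S' : Scheme.{u}} (f : X ⟶ S) (g : S' ⟶ S) [Etale g] (f' : X' ⟶ S')
  (g' : X' ⟶ X) [Etale g'] (h : IsPullback g' f' f g)

/-- pullback along an étale morphism preserves K-injectivity, in the form: the unit of a derived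
functor is invertible at the pullback of a K-injective complex -/
theorem isIso_unit_pull_kinj {Y : Scheme.{u}} (p : X' ⟶ Y) (I : CochainComplex (EtCoh.Ab X) ℤ)
    [I.IsKInjective] :
    IsIso ((uR (EtCoh.push p)).app (((EtCoh.pull g').mapHomotopyCategory (ComplexShape.up ℤ)).obj
      ((HomotopyCategory.quotient (EtCoh.Ab X) (ComplexShape.up ℤ)).obj I))) := by
  haveI : PreservesFiniteLimits (EtShriek.extZero g') := Groth.Agent.S0648.result g'
  haveI : PreservesColimitsOfSize.{0, 0} (EtShriek.extZero g') :=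
    (EtShriek.extZeroAdj g').leftAdjoint_preservesColimits
  haveI : PreservesFiniteColimits (EtShriek.extZero g') :=
    PreservesColimitsOfSize.preservesFiniteColimits _
  haveI : (EtShriek.restrAlong g').Additive :=
    Functor.additive_of_iso (Groth.Agent.S0623.pullIso g')
  haveI : (EtShriek.extZero g').Additive := (EtShriek.extZeroAdj g').left_adjoint_additive
  haveI hJ : CochainComplex.IsKInjective
      (((EtShriek.restrAlong g').mapHomologicalComplex (ComplexShape.up ℤ)).obj I) :=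
    Groth.Agent.S0481.result (EtShriek.restrAlong g') (EtShriek.extZero g')
      (EtShriek.extZeroAdj g') I inferInstance
  haveI : IsIso (Groth.Agent.S0623.pullIso g').hom := inferInstance
  haveI h1 : IsIso (NatTrans.mapHomotopyCategory (Groth.Agent.S0623.pullIso g').hom
      (ComplexShape.up ℤ)) := isIso_mapHomotopyCategory' _
  haveI h2 : IsIso ((NatTrans.mapHomotopyCategory (Groth.Agent.S0623.pullIso g').hom
      (ComplexShape.up ℤ)).app
        ((HomotopyCategory.quotient (EtCoh.Ab X) (ComplexShape.up ℤ)).obj I)) :=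
    NatIso.isIso_app_of_isIso _ _
  let e : ((EtCoh.pull g').mapHomotopyCategory (ComplexShape.up ℤ)).obj
      ((HomotopyCategory.quotient (EtCoh.Ab X) (ComplexShape.up ℤ)).obj I) ≅
      (HomotopyCategory.quotient (EtCoh.Ab X') (ComplexShape.up ℤ)).obj
        (((EtShriek.restrAlong g').mapHomologicalComplex (ComplexShape.up ℤ)).obj I) :=
    @asIso _ _ _ _ ((NatTrans.mapHomotopyCategory (Groth.Agent.S0623.pullIso g').hom
      (ComplexShape.up ℤ)).app
        ((HomotopyCategory.quotient (EtCoh.Ab X) (ComplexShape.up ℤ)).obj I)) h2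
  exact Groth.Agent.Helper3.RComp.isIso_unit_app_of_iso (hKI X') _ _ _ _ _ e


/-- **étale base change** for the derived base change morphism `EtBC.bcMap` -/
theorem bcMap_isIso_of_etale [PreservesFiniteLimits (EtCoh.pull g)]
    [PreservesFiniteLimits (EtCoh.pull g')] [DCoh.HasRpushEt X f] [DCoh.HasRpushEt X' f']
    [DCoh.HasRpushEt S' g] (adj : EtBC.pullD g ⊣ DCoh.RpushEt S' g) (K : DCoh.DEt X) :
    IsIso (EtBC.bcMap f g f' g' h.w adj K) := by
  have hT := hKI X
  obtain ⟨I, hI, ⟨e₀⟩⟩ := Groth.Agent.Helper3.RComp.exists_kinj_iso hT K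
  let K₀ := (HomotopyCategory.quotient (EtCoh.Ab X) (ComplexShape.up ℤ)).obj I
  let e₁ : K ≅ DerivedCategory.Qh.obj K₀ :=
    e₀ ≪≫ ((DerivedCategory.quotientCompQhIso (EtCoh.Ab X)).app I).symm
  haveI : IsIso ((uR (EtCoh.push f)).app K₀) :=
    Helper5.KInj.isIso_app_of_isKInjective _ hT _ _ I
  haveI : IsIso ((uR (EtCoh.push f')).app
      (((EtCoh.pull g').mapHomotopyCategory (ComplexShape.up ℤ)).obj K₀)) :=
    isIso_unit_pull_kinj g' f' I
  unfold EtBC.bcMap
  rw [bcAdj_eq, isIso_transpose_app_iff adj _ e₁,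
    isIso_transpose_indep adj (Helper5.KInj.derivedAdjR (EtCoh.pullPushAdj g) (hKI S'))]
  refine isIso_transpose_bcAdjGen_of_exact (EtCoh.push f) (EtCoh.push g) (EtCoh.push f')
    (EtCoh.pull g') (EtBC.pushToPushPull f g f' g' h.w) (EtCoh.pull g) (EtCoh.pullPushAdj g)
    (hKI S') I (fun n => ?_)
  have hb := H9FE.EtBC0Et.isIso_baseChange0 f g f' g' h (I.X n)
  have e : EtCoh.baseChange0 f g f' g' h.w (I.X n) =
      (EtCoh.pull g).map ((EtBC.pushToPushPull f g f' g' h.w).app (I.X n)) ≫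
        (EtCoh.pullPushAdj g).counit.app ((EtCoh.push f').obj ((EtCoh.pull g').obj (I.X n))) := by
    unfold EtCoh.baseChange0
    rw [Adjunction.homEquiv_counit, pushToPushPull_app]
    simp
  rw [← e]
  exact hb

end Et


section Cancel

variable {X S Y T W Z : Scheme.{u}} (f : X ⟶ S) (g : T ⟶ S) (h : Y ⟶ X) (e : Y ⟶ T)
  (w : e ≫ g = h ≫ f) (i : W ⟶ X) (j : Z ⟶ W) (k : Z ⟶ Y) (w' : k ≫ h = j ≫ i)
  (w'' : (k ≫ e) ≫ g = j ≫ (i ≫ f))

/-- cancellation in a vertical pasting of derived base change morphisms -/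
theorem bcMap_vcomp_cancel
    [PreservesFiniteLimits (EtCoh.pull f)] [PreservesFiniteLimits (EtCoh.pull i)]
    [PreservesFiniteLimits (EtCoh.pull (i ≫ f))] [PreservesFiniteLimits (EtCoh.pull e)]
    [PreservesFiniteLimits (EtCoh.pull k)] [PreservesFiniteLimits (EtCoh.pull (k ≫ e))]
    [DCoh.HasRpushEt T g] [DCoh.HasRpushEt Y h] [DCoh.HasRpushEt Z j] [DCoh.HasRpushEt X f]
    [DCoh.HasRpushEt W i] [DCoh.HasRpushEt W (i ≫ f)]
    (adj₁ : EtBC.pullD f ⊣ DCoh.RpushEt X f) (adj₂ : EtBC.pullD i ⊣ DCoh.RpushEt W i)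
    (adj₃ : EtBC.pullD (i ≫ f) ⊣ DCoh.RpushEt W (i ≫ f)) (K : DCoh.DEt T)
    (h3 : IsIso (EtBC.bcMap g (i ≫ f) j (k ≫ e) w'' adj₃ K))
    (h2 : IsIso (EtBC.bcMap h i j k w' adj₂ ((EtBC.pullD e).obj K))) :
    IsIso ((EtBC.pullD i).map (EtBC.bcMap g f h e w adj₁ K)) := by
  have hT := hKI T
  obtain ⟨I, hI, ⟨e₀⟩⟩ := Groth.Agent.Helper3.RComp.exists_kinj_iso hT K
  let K₀ := (HomotopyCategory.quotient (EtCoh.Ab T) (ComplexShape.up ℤ)).obj I
  let e₁ : K ≅ DerivedCategory.Qh.obj K₀ :=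
    e₀ ≪≫ ((DerivedCategory.quotientCompQhIso (EtCoh.Ab T)).app I).symm
  haveI : IsIso ((uR (EtCoh.push g)).app K₀) :=
    Helper5.KInj.isIso_app_of_isKInjective _ hT _ _ I
  haveI : IsIso (compMapGen (EtCoh.push i) (EtCoh.push f) (EtCoh.push (i ≫ f))
      (EtCoh.pushComp f i).inv) := Groth.Agent.Helper3.RComp.isIso_compMap i f
  unfold EtBC.bcMap at h3 h2 ⊢
  rw [bcAdj_eq] at h3 h2 ⊢
  rw [isIso_transpose_app_iff adj₃ _ e₁] at h3
  rw [isIso_transpose_app_iff adj₂ _ ((EtBC.pullD e).mapIso e₁)] at h2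
  rw [transpose_app_iso adj₁ _ e₁.symm]
  have := isIso_map_transpose_bcAdjGen_cancel (EtCoh.push g) (EtCoh.push h) (EtCoh.push f)
    (EtCoh.push i) (EtCoh.push j) (EtCoh.push (i ≫ f)) (EtCoh.pull e) (EtCoh.pull k)
    (EtCoh.pull (k ≫ e)) (EtBC.pushToPushPull g f h e w) (EtBC.pushToPushPull h i j k w')
    (EtBC.pushToPushPull g (i ≫ f) j (k ≫ e) w'') (EtCoh.pushComp f i).inv (kap e k).hom
    adj₁ adj₂ adj₃ (paste_ab f g h e w i j k w' w'') K₀ h3 h2
  simp only [Functor.map_comp]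
  infer_instance

end Cancel

section Congr

/-- the derived base change morphism only depends on the morphisms -/
lemma bcMap_isIso_congr {X S X' S' : Scheme.{u}} (f : X ⟶ S) (g₁ g₂ : S' ⟶ S) (f' : X' ⟶ S')
    (g'₁ g'₂ : X' ⟶ X) (hg : g₁ = g₂) (hg' : g'₁ = g'₂) (w₁ : g'₁ ≫ f = f' ≫ g₁)
    (w₂ : g'₂ ≫ f = f' ≫ g₂)
    [PreservesFiniteLimits (EtCoh.pull g₁)] [PreservesFiniteLimits (EtCoh.pull g₂)]
    [PreservesFiniteLimits (EtCoh.pull g'₁)] [PreservesFiniteLimits (EtCoh.pull g'₂)]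
    [DCoh.HasRpushEt X f] [DCoh.HasRpushEt X' f'] [DCoh.HasRpushEt S' g₁]
    [DCoh.HasRpushEt S' g₂]
    (adj₁ : EtBC.pullD g₁ ⊣ DCoh.RpushEt S' g₁) (adj₂ : EtBC.pullD g₂ ⊣ DCoh.RpushEt S' g₂)
    (K : DCoh.DEt X)
    (h : IsIso (EtBC.bcMap f g₁ f' g'₁ w₁ adj₁ K)) : IsIso (EtBC.bcMap f g₂ f' g'₂ w₂ adj₂ K) := by
  subst hg hg'
  unfold EtBC.bcMap at h ⊢
  exact (isIso_transpose_indep adj₁ adj₂ _).1 h

end Congr

section Local

/-- being an isomorphism in the derived category of abelian étale sheaves is étale local -/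
theorem isIso_of_cover_D {X : Scheme.{u}} {ι : Type u} (U : ι → X.Etale) (hU : EtCoh.Covers U)
    {A B : DCoh.DEt X} (φ : A ⟶ B) (hφ : ∀ i, IsIso ((EtBC.pullD (U i).hom).map φ)) :
    IsIso φ := by
  rw [DerivedCategory.isIso_iff]
  intro n
  apply H9FE.BcQEt.isIso_of_cover U hU
  intro i
  haveI := hφ i
  have h1 : IsIso ((EtBC.pullD (U i).hom ⋙ DerivedCategory.homologyFunctor _ n).map φ) := by
    dsimp only [Functor.comp_map]
    infer_instance
  exact (NatIso.isIso_map_iff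
    (Groth.Agent.Lib.Helper5.ExactHom.derivedHomologyIso (EtCoh.pull (U i).hom) n) φ).1 h1

end Local

end Groth.Agent.Lib.Helper9.DBcEt
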