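import Mathlib
import Groth.Prelude.Def_RDer
import Groth.Prelude.Def_RDerDelta
import Groth.Agent.Lib.Helper3.RDerH
import Groth.Agent.Lib.Helper3.RDerL
import Groth.Agent.Lib.Helper9.FE.DeltaBc

/-! helper9: the transposed abstract base change map, its naturality and compatibility with the
connecting morphisms, and the two diagram chases of the dévissage step "BC(q-1) ⇒ injectivity in
degree q". -/

set_option autoImplicit false
set_option linter.unusedSectionVars false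
set_option linter.style.haveILetI false
open CategoryTheory CategoryTheory.Limits HomologicalComplex
open Groth.Agent.Lib.Helper5.RDerPaste

namespace H9FE.DeltaBcT

universe v₁ v₂ v₃ v₄ u₁ u₂ u₃ u₄

theorem enoughInjectives_of_hasInjectiveResolutions {A : Type u₁} [Category.{v₁} A] [Abelian A]
    [HasInjectiveResolutions A] : EnoughInjectives A := by
  constructor
  intro X
  have hm : Mono ((injectiveResolution X).ι.f 0) := inferInstance
  exact ⟨⟨(injectiveResolution X).cocomplex.X 0, (injectiveResolution X).injective 0,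
    (injectiveResolution X).ι.f 0, hm⟩⟩

section Chase

variable {𝒞 : Type u₁} [Category.{v₁} 𝒞] [Abelian 𝒞]

/-- four-lemma type chase: injectivity -/
lemma mono_of_chase {A0 A1 A2 B0 B1 B2 : 𝒞}
    (a1 : A0 ⟶ A1) (a2 : A1 ⟶ A2) (b1 : B0 ⟶ B1) (b2 : B1 ⟶ B2)
    (β0 : A0 ⟶ B0) (β1 : A1 ⟶ B1) (β2 : A2 ⟶ B2)
    (ha : a1 ≫ a2 = 0) (_ : Epi a2)
    (hb : b1 ≫ b2 = 0) (hbex : (ShortComplex.mk b1 b2 hb).Exact)
    (sq1 : a1 ≫ β1 = β0 ≫ b1) (sq2 : a2 ≫ β2 = β1 ≫ b2)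
    (_ : Epi β0) (_ : Mono β1) : Mono β2 := by
  apply Preadditive.mono_of_cancel_zero
  intro P x hx
  obtain ⟨P₁, π₁, hπ₁, y, hy⟩ := surjective_up_to_refinements_of_epi a2 x
  have h1 : (y ≫ β1) ≫ b2 = 0 := by
    rw [Category.assoc, ← sq2, ← reassoc_of% hy, hx, comp_zero]
  obtain ⟨P₂, π₂, hπ₂, z, hz⟩ := hbex.exact_up_to_refinements (y ≫ β1) h1
  obtain ⟨P₃, π₃, hπ₃, w, hw⟩ := surjective_up_to_refinements_of_epi β0 z
  have h2 : π₃ ≫ π₂ ≫ y = w ≫ a1 := by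
    rw [← cancel_mono β1]
    simp only [Category.assoc]
    dsimp at hz
    rw [hz, reassoc_of% hw, sq1]
  have h3 : (π₃ ≫ π₂ ≫ π₁) ≫ x = 0 := by
    simp only [Category.assoc]
    rw [hy, reassoc_of% h2, ha, comp_zero]
  haveI : Epi (π₃ ≫ π₂ ≫ π₁) := inferInstance
  exact (cancel_epi (π₃ ≫ π₂ ≫ π₁)).1 (h3.trans comp_zero.symm)

/-- the chase for the map on cokernels -/
lemma coker_mono_of_chase {A1H A2F A2G A2H B1H B2F B2G B2H : 𝒞}
    (aδ : A1H ⟶ A2F) (aι : A2F ⟶ A2G) (ap : A2G ⟶ A2H)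
    (bδ : B1H ⟶ B2F) (bι : B2F ⟶ B2G) (bp : B2G ⟶ B2H)
    (β1H : A1H ⟶ B1H) (βF : A2F ⟶ B2F) (βG : A2G ⟶ B2G) (βH : A2H ⟶ B2H)
    (haz : aι ≫ ap = 0) (haex : (ShortComplex.mk aι ap haz).Exact)
    (hbz : bδ ≫ bι = 0) (hbex : (ShortComplex.mk bδ bι hbz).Exact)
    (hbz2 : bι ≫ bp = 0)
    (sqδ : aδ ≫ βF = β1H ≫ bδ) (sqι : aι ≫ βG = βF ≫ bι) (sqp : ap ≫ βH = βG ≫ bp)
    (_ : Epi β1H) (_ : Mono βH)
    (φ : cokernel βF ⟶ cokernel βG) (hφ : cokernel.π βF ≫ φ = bι ≫ cokernel.π βG) :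
    Mono φ := by
  apply Preadditive.mono_of_cancel_zero
  intro P x hx
  obtain ⟨P₁, π₁, hπ₁, b, hb⟩ := surjective_up_to_refinements_of_epi (cokernel.π βF) x
  have h1 : (b ≫ bι) ≫ cokernel.π βG = 0 := by
    rw [Category.assoc, ← hφ, ← reassoc_of% hb, hx, comp_zero]
  have hexG : (ShortComplex.mk βG (cokernel.π βG) (cokernel.condition βG)).Exact :=
    ShortComplex.exact_cokernel βG
  obtain ⟨P₂, π₂, hπ₂, a', ha'⟩ := hexG.exact_up_to_refinements (b ≫ bι) h1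
  dsimp at ha'
  have h2 : a' ≫ ap = 0 := by
    rw [← cancel_mono βH, Category.assoc, sqp, ← reassoc_of% ha', zero_comp]
    simp only [hbz2, comp_zero]
  obtain ⟨P₃, π₃, hπ₃, a, ha⟩ := haex.exact_up_to_refinements a' h2
  dsimp at ha
  have h3 : (π₃ ≫ π₂ ≫ b - a ≫ βF) ≫ bι = 0 := by
    rw [Preadditive.sub_comp]
    simp only [Category.assoc]
    rw [ha', ← sqι, ← reassoc_of% ha, sub_self]
  obtain ⟨P₄, π₄, hπ₄, d, hd⟩ := hbex.exact_up_to_refinements _ h3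
  dsimp at hd
  obtain ⟨P₅, π₅, hπ₅, d', hd'⟩ := surjective_up_to_refinements_of_epi β1H d
  have e : π₅ ≫ π₄ ≫ π₃ ≫ π₂ ≫ b = (π₅ ≫ π₄ ≫ a + d' ≫ aδ) ≫ βF := by
    have := congrArg (fun t => π₅ ≫ t) hd
    simp only [Preadditive.comp_sub] at this
    rw [reassoc_of% hd', ← sqδ] at this
    rw [Preadditive.add_comp]
    simp only [Category.assoc]
    rw [← this]
    abel
  have h4 : (π₅ ≫ π₄ ≫ π₃ ≫ π₂ ≫ π₁) ≫ x = 0 := by
    calc (π₅ ≫ π₄ ≫ π₃ ≫ π₂ ≫ π₁) ≫ x = (π₅ ≫ π₄ ≫ π₃ ≫ π₂ ≫ b) ≫ cokernel.π βF := by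
          simp only [Category.assoc, hb]
      _ = 0 := by rw [e, Category.assoc, cokernel.condition, comp_zero]
  haveI : Epi (π₅ ≫ π₄ ≫ π₃ ≫ π₂ ≫ π₁) := inferInstance
  exact (cancel_epi (π₅ ≫ π₄ ≫ π₃ ≫ π₂ ≫ π₁)).1 (h4.trans comp_zero.symm)

end Chase

section Transpose

variable {A : Type u₁} [Category.{v₁} A] [Abelian A] [HasInjectiveResolutions A]
  {B : Type u₂} [Category.{v₂} B] [Abelian B] [HasInjectiveResolutions B]
  {A' : Type u₃} [Category.{v₃} A'] [Abelian A'] [HasInjectiveResolutions A']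
  {B' : Type u₄} [Category.{v₄} B'] [Abelian B'] [HasInjectiveResolutions B']
  (Φf : A ⥤ B) [Φf.Additive] (Φg' : A' ⥤ A) [Φg'.Additive]
  [Φg'.PreservesInjectiveObjects] (Φf' : A' ⥤ B') [Φf'.Additive] (Φg : B' ⥤ B) [Φg.Additive]
  [PreservesFiniteLimits Φg] {Lg' : A ⥤ A'} (adj : Lg' ⊣ Φg') (α : Φg' ⋙ Φf ≅ Φf' ⋙ Φg)
  {Lg : B ⥤ B'} (adjg : Lg ⊣ Φg)

/-- the transposed base change map -/
noncomputable def bcT (q : ℕ) (F : A) :
    Lg.obj ((Φf.rightDerived q).obj F) ⟶ (Φf'.rightDerived q).obj (Lg'.obj F) :=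
  (adjg.homEquiv _ _).symm (bcAdj Φf Φg' Φf' Φg adj α q F)

theorem bcT_naturality (q : ℕ) {F G : A} (φ : F ⟶ G) :
    Lg.map ((Φf.rightDerived q).map φ) ≫ bcT Φf Φg' Φf' Φg adj α adjg q G =
      bcT Φf Φg' Φf' Φg adj α adjg q F ≫ (Φf'.rightDerived q).map (Lg'.map φ) := by
  unfold bcT
  rw [← Adjunction.homEquiv_naturality_left_symm, ← Adjunction.homEquiv_naturality_right_symm,
    H9FE.DeltaBc.bcAdj_naturality]

theorem bcT_δ [Lg'.Additive] (D : RDer.DerivedLES Φf) (D' : RDer.DerivedLES Φf')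
    (S : ShortComplex A) (hS : S.ShortExact) (hS' : (S.map Lg').ShortExact) (q q' : ℕ)
    (h : q + 1 = q') :
    Lg.map (D.δ S hS q q' h) ≫ bcT Φf Φg' Φf' Φg adj α adjg q' S.X₁ =
      bcT Φf Φg' Φf' Φg adj α adjg q S.X₃ ≫ D'.δ (S.map Lg') hS' q q' h := by
  haveI : EnoughInjectives A := enoughInjectives_of_hasInjectiveResolutions
  haveI : EnoughInjectives A' := enoughInjectives_of_hasInjectiveResolutions
  obtain ⟨T⟩ := Groth.Agent.Helper3.RDerH.nonempty_sesRes S hS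
  obtain ⟨T'⟩ := Groth.Agent.Helper3.RDerH.nonempty_sesRes (S.map Lg') hS'
  rw [D.δ_eq S hS T, D'.δ_eq _ hS' T']
  unfold bcT
  have key := H9FE.DeltaBc.delta_bcAdj Φf Φg' Φf' Φg adj α T T' q q' h
  have e1 := Adjunction.homEquiv_naturality_left_symm adjg (T.delta Φf q q' h)
    (bcAdj Φf Φg' Φf' Φg adj α q' S.X₁)
  have e2 := Adjunction.homEquiv_naturality_right_symm adjg (bcAdj Φf Φg' Φf' Φg adj α q S.X₃)
    (T'.delta Φf' q q' h)
  exact e1.symm.trans ((congrArg _ key).trans e2)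

section Devissage

variable [Lg.Additive] [PreservesFiniteLimits Lg] [PreservesFiniteColimits Lg]
  [Lg'.Additive] [PreservesFiniteLimits Lg'] [PreservesFiniteColimits Lg']

/-- injectivity in degree `q + 1` from base change in degree `q`, for a short exact sequence whose
middle term is acyclic in degree `q + 1` -/
theorem mono_bcT_succ (D : RDer.DerivedLES Φf) (D' : RDer.DerivedLES Φf')
    (S : ShortComplex A) (hS : S.ShortExact) (q q' : ℕ) (h : q + 1 = q')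
    (hz : IsZero ((Φf.rightDerived q').obj S.X₂))
    (h2 : Epi (bcT Φf Φg' Φf' Φg adj α adjg q S.X₂))
    (h3 : Mono (bcT Φf Φg' Φf' Φg adj α adjg q S.X₃)) :
    Mono (bcT Φf Φg' Φf' Φg adj α adjg q' S.X₁) := by
  have hS' : (S.map Lg').ShortExact := hS.map_of_exact Lg'
  haveI : Epi (D.δ S hS q q' h) := (D.exact₁ S hS q q' h).epi_f (hz.eq_of_tgt _ _)
  haveI : Epi (Lg.map (D.δ S hS q q' h)) := inferInstance
  exact mono_of_chase (Lg.map ((Φf.rightDerived q).map S.g)) (Lg.map (D.δ S hS q q' h))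
    ((Φf'.rightDerived q).map (Lg'.map S.g)) (D'.δ (S.map Lg') hS' q q' h)
    (bcT Φf Φg' Φf' Φg adj α adjg q S.X₂) (bcT Φf Φg' Φf' Φg adj α adjg q S.X₃)
    (bcT Φf Φg' Φf' Φg adj α adjg q' S.X₁)
    (by rw [← Lg.map_comp, D.comp_δ, Lg.map_zero]) inferInstance
    (D'.comp_δ (S.map Lg') hS' q q' h) (D'.exact₃ (S.map Lg') hS' q q' h)
    (bcT_naturality Φf Φg' Φf' Φg adj α adjg q S.g)
    (bcT_δ Φf Φg' Φf' Φg adj α adjg D D' S hS hS' q q' h) h2 h3

/-- the map on cokernels of the base change maps in degree `q + 1` induced by a monomorphism is a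
monomorphism, given surjectivity in degree `q` and injectivity in degree `q + 1` for the
quotient -/
theorem coker_mono_bcT (D : RDer.DerivedLES Φf) (D' : RDer.DerivedLES Φf')
    (S : ShortComplex A) (hS : S.ShortExact) (q q' : ℕ) (h : q + 1 = q')
    (h1 : Epi (bcT Φf Φg' Φf' Φg adj α adjg q S.X₃))
    (h2 : Mono (bcT Φf Φg' Φf' Φg adj α adjg q' S.X₃))
    (φ : cokernel (bcT Φf Φg' Φf' Φg adj α adjg q' S.X₁) ⟶
      cokernel (bcT Φf Φg' Φf' Φg adj α adjg q' S.X₂))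
    (hφ : cokernel.π (bcT Φf Φg' Φf' Φg adj α adjg q' S.X₁) ≫ φ =
      (Φf'.rightDerived q').map (Lg'.map S.f) ≫
        cokernel.π (bcT Φf Φg' Φf' Φg adj α adjg q' S.X₂)) : Mono φ := by
  have hS' : (S.map Lg').ShortExact := hS.map_of_exact Lg'
  have hbz2 : (Φf'.rightDerived q').map (S.map Lg').f ≫
      (Φf'.rightDerived q').map (S.map Lg').g = 0 := by
    rw [← Functor.map_comp, (S.map Lg').zero, Functor.map_zero]
  exact coker_mono_of_chase (Lg.map (D.δ S hS q q' h)) (Lg.map ((Φf.rightDerived q').map S.f))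
    (Lg.map ((Φf.rightDerived q').map S.g))
    (D'.δ (S.map Lg') hS' q q' h) ((Φf'.rightDerived q').map (Lg'.map S.f))
    ((Φf'.rightDerived q').map (Lg'.map S.g))
    (bcT Φf Φg' Φf' Φg adj α adjg q S.X₃) (bcT Φf Φg' Φf' Φg adj α adjg q' S.X₁)
    (bcT Φf Φg' Φf' Φg adj α adjg q' S.X₂) (bcT Φf Φg' Φf' Φg adj α adjg q' S.X₃)
    (by rw [← Lg.map_comp, ← Functor.map_comp, S.zero, Functor.map_zero, Lg.map_zero])
    ((D.exact₂ S hS q').map Lg)
    (D'.δ_comp (S.map Lg') hS' q q' h) (D'.exact₁ (S.map Lg') hS' q q' h)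
    hbz2
    (bcT_δ Φf Φg' Φf' Φg adj α adjg D D' S hS hS' q q' h)
    (bcT_naturality Φf Φg' Φf' Φg adj α adjg q' S.f)
    (bcT_naturality Φf Φg' Φf' Φg adj α adjg q' S.g) h1 h2 φ hφ

end Devissage

end Transpose

end H9FE.DeltaBcT
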