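import Mathlib
import Groth.Agent.Lib.Helper1.DeltaComp

/-! helper9: natural version of helper1's `DeltaComp.nonempty_iso` (same proof, keeping the
isomorphism of δ-functors): if `G` and `E` are exact, `F ⋙ E ≅ G ⋙ Φ` and `G` sends injectives to
`Φ`-acyclic objects, then `RⁿF ⋙ E ≅ G ⋙ RⁿΦ` as functors. -/

set_option autoImplicit false
set_option linter.unusedSectionVars false
set_option linter.style.haveILetI false
universe v v' v'' u u' u''
open CategoryTheory CategoryTheory.Limits

namespace H9FE.DerCompareNat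
open Groth.Agent.Helper1.DeltaComp

variable {A : Type u} [Category.{v} A] [Abelian A]
  {A' : Type u'} [Category.{v'} A'] [Abelian A']
  {B' : Type u''} [Category.{v''} B'] [Abelian B']

/-- comparison of derived functors through exact functors, as an isomorphism of functors -/
theorem nonempty_natIso {B : Type u} [Category.{v} B] [Abelian B]
    [HasInjectiveResolutions A] [HasInjectiveResolutions B]
    (F : A ⥤ A') [F.Additive] [PreservesFiniteLimits F]
    (Φ : B ⥤ B') [Φ.Additive] [PreservesFiniteLimits Φ]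
    (G : A ⥤ B) [G.Additive] [PreservesFiniteLimits G] [PreservesFiniteColimits G]
    (E : A' ⥤ B') [E.Additive] [PreservesFiniteLimits E] [PreservesFiniteColimits E]
    (e : F ⋙ E ≅ G ⋙ Φ)
    (hacyc : ∀ (I : A), Injective I → ∀ n : ℕ, IsZero ((Φ.rightDerived (n + 1)).obj (G.obj I)))
    (n : ℕ) :
    Nonempty (F.rightDerived n ⋙ E ≅ G ⋙ Φ.rightDerived n) := by
  have : EnoughInjectives A := enoughInjectives_of_hasInjectiveResolutions
  have : EnoughInjectives B := enoughInjectives_of_hasInjectiveResolutions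
  obtain ⟨ΔF⟩ := Groth.Agent.S16463.result F
  obtain ⟨ΔΦ⟩ := Groth.Agent.S16463.result Φ
  let T₁ := post ΔF E
  let T₂ := pre G ΔΦ
  have h₁ : T₁.IsEffaceable := by
    intro n X
    refine ⟨Injective.under X, Injective.ι X, inferInstance, ?_⟩
    have hz : IsZero ((F.rightDerived (n + 1)).obj (Injective.under X)) :=
      Functor.isZero_rightDerived_obj_injective_succ F n _
    have hz' : IsZero (E.obj ((F.rightDerived (n + 1)).obj (Injective.under X))) :=
      Functor.map_isZero E hz
    exact hz'.eq_of_tgt _ _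
  have h₂ : T₂.IsEffaceable := by
    intro n X
    refine ⟨Injective.under X, Injective.ι X, inferInstance, ?_⟩
    exact (hacyc (Injective.under X) inferInstance n).eq_of_tgt _ _
  have hU₁ := Groth.Agent.S6773.result T₁ h₁
  have hU₂ := Groth.Agent.S6773.result T₂ h₂
  let e0 : T₁.F 0 ≅ T₂.F 0 :=
    Functor.isoWhiskerRight F.rightDerivedZeroIsoSelf E ≪≫ e ≪≫
      Functor.isoWhiskerLeft G Φ.rightDerivedZeroIsoSelf.symm
  obtain ⟨φ, -, -⟩ := Groth.Agent.S6774.result T₁ T₂ hU₁ hU₂ e0
  exact ⟨appIso φ n⟩

end H9FE.DerCompareNat
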