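import Mathlib
import Groth.Prelude.Def_EtBase
import Groth.Prelude.Def_PBC
import Groth.Prelude.Def_EtShriek2
import Groth.Agent.S0134
import Groth.Agent.S0648
import Groth.Agent.Lib.Helper9.FE.EtHColim
import Groth.Agent.Lib.Helper9.FE.ExtFilteredColim
import Groth.Agent.Lib.Helper9.FE.CsCompact
import Groth.Agent.Lib.Helper9.FE.CsKill
import Groth.Agent.Lib.Helper9.FE.CsGen
import Groth.Agent.Lib.Helper9.FE.CsNoethObj
import Groth.Agent.Lib.Helper9.FE.ShriekConst

/-! helper9: on a quasi-compact quasi-separated scheme the functors `H^q(X, -)`, `q > 0`, are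
effaceable in the category of constructible abelian sheaves.  A constructible `F` is killed by some
`N > 0`; it embeds into the `N`-torsion `I[N]` of an injective sheaf `I`.  Injective abelian sheaves
are divisible (sectionwise), so `0 → I[N] → I → I → 0` is exact and the long exact sequence shows
that `I[N]` is acyclic.  Finally `I[N]` is a filtered colimit of constructible sheaves, `F` is
compact and cohomology commutes with filtered colimits. -/

set_option autoImplicit false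
set_option linter.unusedSectionVars false
set_option linter.style.haveILetI false
set_option backward.isDefEq.respectTransparency false

universe u

open CategoryTheory CategoryTheory.Limits AlgebraicGeometry Opposite Abelian

namespace H9FE.Efface

open H9FE.EtHColim H9FE.ExtFilteredColim H9FE.CsNoethObj

attribute [local instance] preservesBinaryBiproducts_of_preservesBinaryCoproducts

section Div

variable {X : Scheme.{u}}

theorem mono_nsmul_Z (N : ℕ) (hN : 0 < N) :
    Mono (N • 𝟙 (AddCommGrpCat.of (ULift.{u + 1} ℤ))) := by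
  rw [AddCommGrpCat.mono_iff_injective]
  rintro ⟨a⟩ ⟨b⟩ h
  have h' : N • a = N • b := congrArg ULift.down h
  apply ULift.ext
  change a = b
  rw [nsmul_eq_mul, nsmul_eq_mul] at h'
  exact mul_left_cancel₀ (by exact_mod_cast hN.ne') h'

/-- multiplication by `N > 0` is injective on the constant sheaf `ℤ` -/
theorem mono_nsmul_ZZ (N : ℕ) (hN : 0 < N) : Mono (N • 𝟙 (ZZ X)) := by
  let Cs := constantSheaf X.smallEtaleTopology AddCommGrpCat.{u + 1}
  haveI : PreservesFiniteLimits Cs := by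
    dsimp only [Cs, constantSheaf]
    infer_instance
  haveI : Cs.Additive := Functor.additive_of_preserves_binary_products _
  let Mc : AddCommGrpCat.{u + 1} := AddCommGrpCat.of (ULift.{u + 1} ℤ)
  haveI : Mono (N • 𝟙 Mc) := mono_nsmul_Z N hN
  have h : N • 𝟙 (Cs.obj Mc) = Cs.map (N • 𝟙 Mc) := by
    rw [Cs.map_nsmul, Cs.map_id]
  show Mono (N • 𝟙 (Cs.obj Mc))
  rw [h]
  infer_instance

/-- multiplication by `N > 0` is injective on `j_! ℤ` -/
theorem mono_nsmul_gen (V : X.Etale) (N : ℕ) (hN : 0 < N) :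
    Mono (N • 𝟙 (EtPBC.extZeroConst V ℤ)) := by
  haveI : Etale V.hom := V.prop
  let L := constantSheaf (X.smallEtaleTopology.over V) AddCommGrpCat.{u + 1} ⋙ EtPBC.extZero V
  let L' := constantSheaf V.left.smallEtaleTopology AddCommGrpCat.{u + 1} ⋙
    EtShriek.extZero V.hom
  haveI : L.IsLeftAdjoint := (adjV V).isLeftAdjoint
  haveI : L.Additive := Functor.additive_of_preservesBinaryBiproducts _
  have h1 : PreservesFiniteLimits
      (constantSheaf V.left.smallEtaleTopology AddCommGrpCat.{u + 1}) := by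
    dsimp only [constantSheaf]
    infer_instance
  have h2 : PreservesFiniteLimits (EtShriek.extZero V.hom) := Groth.Agent.S0648.result V.hom
  have h3 : PreservesFiniteLimits L' := @comp_preservesFiniteLimits _ _ _ _ _ _ _ _ h1 h2
  haveI : PreservesFiniteLimits L :=
    @preservesFiniteLimits_of_natIso _ _ _ _ _ _ (ShriekConst.constIso V).symm h3
  let Mc : AddCommGrpCat.{u + 1} := AddCommGrpCat.of (ULift.{u + 1} ℤ)
  haveI : Mono (N • 𝟙 Mc) := mono_nsmul_Z N hN
  have h : N • 𝟙 (L.obj Mc) = L.map (N • 𝟙 Mc) := by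
    rw [L.map_nsmul, L.map_id]
  show Mono (N • 𝟙 (L.obj Mc))
  rw [h]
  infer_instance

/-- sections of an injective abelian sheaf are divisible -/
theorem exists_nsmul_eq (I : EtCoh.Ab X) [Injective I] (N : ℕ) (hN : 0 < N) (V : X.Etale)
    (t : I.obj.obj (op V)) : ∃ t' : I.obj.obj (op V), N • t' = t := by
  obtain ⟨φ, σ, hφ⟩ := exists_map_of_section I V ℤ (zmultiplesHom _ t) 1
  haveI := mono_nsmul_gen V N hN
  let φ' := Injective.factorThru φ (N • 𝟙 (EtPBC.extZeroConst V ℤ))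
  have hφ' : (N • 𝟙 (EtPBC.extZeroConst V ℤ)) ≫ φ' = φ := Injective.comp_factorThru _ _
  refine ⟨φ'.hom.app (op V) σ, ?_⟩
  have h1 : φ.hom.app (op V) σ = t := by
    rw [hφ]
    simp
  have h2 : N • φ' = φ := by
    rw [← hφ', Preadditive.nsmul_comp, Category.id_comp]
  have h3 := congrArg (fun f : EtPBC.extZeroConst V ℤ ⟶ I => f.hom.app (op V) σ) h2
  exact h3.trans h1

/-- multiplication by `N > 0` is an epimorphism on an injective abelian sheaf -/
theorem epi_nsmul (I : EtCoh.Ab X) [Injective I] (N : ℕ) (hN : 0 < N) : Epi (N • 𝟙 I) := by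
  rw [← Sheaf.isLocallySurjective_iff_epi']
  refine ⟨fun {U} s => ?_⟩
  obtain ⟨t', ht'⟩ := exists_nsmul_eq I N hN U s
  have hmem : (Presheaf.imageSieve (N • 𝟙 I).hom s).arrows (𝟙 U) := by
    refine ⟨t', ?_⟩
    rw [op_id, CategoryTheory.Functor.map_id]
    exact ht'
  exact X.smallEtaleTopology.covering_of_eq_top (Sieve.id_mem_iff_eq_top.1 hmem)

theorem nsmul_id_of_killedBy {H : EtCoh.Ab X} (n : ℕ) (h : EtCoh.KilledBy n H) :
    n • 𝟙 H = 0 := by
  refine Sheaf.hom_ext (NatTrans.ext (funext fun U => ConcreteCategory.hom_ext _ _ fun s => ?_))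
  exact h U.unop s

theorem isTorsion_of_killedBy {H : EtCoh.Ab X} (n : ℕ) (hn : 0 < n)
    (h : EtCoh.KilledBy n H) : EtCoh.IsTorsion H := by
  intro U s x
  refine ⟨U, 𝟙 U, ⟨x, rfl⟩, ?_⟩
  rw [isOfFinAddOrder_iff_nsmul_eq_zero]
  exact ⟨n, hn, h U _⟩

end Div

section Acyc

variable {X : Scheme.{u}}

theorem ext_eq_zero_of_iso {A B : EtCoh.Ab X} (e : A ≅ B) {n : ℕ}
    (hB : ∀ x : Ext.{u + 1} (ZZ X) B n, x = 0) (z : Ext.{u + 1} (ZZ X) A n) : z = 0 := by
  have h1 : push e.hom z = 0 := hB _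
  have h2 : push e.inv (push e.hom z) = z := by
    rw [← push_comp, e.hom_inv_id]
    exact Ext.comp_mk₀_id z
  rw [← h2, h1]
  exact Ext.zero_comp (ZZ X) n (Ext.mk₀ e.inv) n (add_zero n)

/-- the `N`-torsion of an injective abelian sheaf is acyclic -/
theorem acyclic_torsion (I : EtCoh.Ab X) [Injective I] (N : ℕ) (hN : 0 < N) (q : ℕ)
    (hq : 0 < q) (x : Ext.{u + 1} (ZZ X) (kernel (N • 𝟙 I)) q) : x = 0 := by
  haveI := epi_nsmul I N hN
  let S : ShortComplex (EtCoh.Ab X) :=
    ShortComplex.mk (kernel.ι (N • 𝟙 I)) (N • 𝟙 I) (kernel.condition _)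
  have hS : S.ShortExact :=
    { exact := ShortComplex.exact_of_f_is_kernel _ (kernelIsKernel _)
      mono_f := inferInstanceAs (Mono (kernel.ι (N • 𝟙 I)))
      epi_g := inferInstanceAs (Epi (N • 𝟙 I)) }
  obtain ⟨n, rfl⟩ : ∃ n, q = n + 1 := ⟨q - 1, by omega⟩
  have hx : x.comp (Ext.mk₀ S.f) (add_zero (n + 1)) = 0 := Ext.eq_zero_of_injective _
  obtain ⟨y, hy⟩ := Ext.covariant_sequence_exact₁ (ZZ X) hS x hx (n₀ := n) rfl
  rw [← hy]
  rcases n with _ | m
  · obtain ⟨s, hs⟩ : ∃ s : ZZ X ⟶ I, Ext.mk₀ s = y :=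
      ⟨Ext.homEquiv₀ y, Ext.mk₀_homEquiv₀_apply y⟩
    haveI := mono_nsmul_ZZ (X := X) N hN
    let s' := Injective.factorThru s (N • 𝟙 (ZZ X))
    have hs' : (N • 𝟙 (ZZ X)) ≫ s' = s := Injective.comp_factorThru _ _
    have hs'' : s = s' ≫ S.g := by
      show s = s' ≫ (N • 𝟙 I)
      rw [← hs', Preadditive.nsmul_comp, Category.id_comp, Preadditive.comp_nsmul,
        Category.comp_id]
    have h1 : y = (Ext.mk₀ s').comp (Ext.mk₀ S.g) (add_zero 0) := by
      rw [← hs, hs'']
      exact (Ext.mk₀_comp_mk₀ s' S.g).symm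
    rw [h1, Ext.comp_assoc_of_second_deg_zero, hS.comp_extClass, Ext.comp_zero]
  · rw [Ext.eq_zero_of_injective y, Ext.zero_comp]

end Acyc

section Main

/-- effaceability of `H^q(X, -)` in constructible sheaves -/
theorem main (X : Scheme.{u}) [CompactSpace X] [QuasiSeparatedSpace X]
    (F : EtCoh.Ab X) (hF : EtPBC.IsConstructible F) (q : ℕ) (hq : 0 < q) (α : EtCoh.H X F q) :
    ∃ (G : EtCoh.Ab X) (u : F ⟶ G), EtPBC.IsConstructible G ∧ Mono u ∧
      (EtCoh.HF X q).map u α = 0 := by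
  obtain ⟨N, hN, hk⟩ := CsKill.exists_killing X F hF
  let I := Injective.under F
  let ι : F ⟶ I := Injective.ι F
  have hNF : N • 𝟙 F = 0 := nsmul_id_of_killedBy N hk
  have hι : ι ≫ (N • 𝟙 I) = 0 := by
    rw [Preadditive.comp_nsmul, Category.comp_id]
    have h1 : N • ι = (N • 𝟙 F) ≫ ι := by
      rw [Preadditive.nsmul_comp, Category.id_comp]
    rw [h1, hNF, zero_comp]
  let T := kernel (N • 𝟙 I)
  let ν : F ⟶ T := kernel.lift _ ι hι
  have hν : ν ≫ kernel.ι _ = ι := kernel.lift_ι _ _ _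
  haveI : Mono ν := mono_of_mono_fac hν
  have hNT : N • 𝟙 T = 0 := by
    apply (cancel_mono (kernel.ι (N • 𝟙 I))).1
    rw [Preadditive.nsmul_comp, Category.id_comp, zero_comp]
    have h1 : N • kernel.ι (N • 𝟙 I) = kernel.ι (N • 𝟙 I) ≫ (N • 𝟙 I) := by
      rw [Preadditive.comp_nsmul, Category.comp_id]
    rw [h1, kernel.condition]
  have hT : EtCoh.IsTorsion T :=
    isTorsion_of_killedBy N hN (CsGen.killedBy_of_nsmul_id N hNT)
  obtain ⟨J, iJ, iF, D, c, hc, hcons, ⟨e⟩⟩ := Groth.Agent.S0134.result X T hT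
  obtain ⟨hs, -⟩ := CsCompact.hs_hi_of_constructible hc F hF
  obtain ⟨j, γ, hγ⟩ := hs (ν ≫ e.inv)
  let e' : colimit D ≅ T := (colimit.isColimit D).coconePointUniqueUpToIso hc ≪≫ e
  have hzero : ∀ z : Ext.{u + 1} (ZZ X) (colimit D) q, z = 0 :=
    fun z => ext_eq_zero_of_iso e' (acyclic_torsion I N hN q hq) z
  obtain ⟨-, hi⟩ := EtHColim.hsurj_hinj_et X q D
  obtain ⟨k, f, hf⟩ := hi j (push γ α) (hzero _)
  refine ⟨D.obj k, γ ≫ D.map f, hcons k, ?_, ?_⟩
  · have h1 : (γ ≫ D.map f) ≫ c.ι.app k = ν ≫ e.inv := by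
      rw [Category.assoc, c.w, hγ]
    haveI : Mono (ν ≫ e.inv) := mono_comp _ _
    exact mono_of_mono_fac h1
  · show push (γ ≫ D.map f) α = 0
    rw [push_comp]
    exact hf

end Main

end H9FE.Efface
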