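import Mathlib
import Groth.Agent.Lib.Helper9.FE.ZeroDimSec
import Groth.Prelude.Def_EtBase

/-! helper9: local sections of étale morphisms at points with strictly henselian local ring. -/

set_option autoImplicit false
universe u
open CategoryTheory CategoryTheory.Limits AlgebraicGeometry Opposite

namespace H9FE
namespace EtZar1
set_option linter.style.haveILetI false
set_option linter.unusedSectionVars false
set_option backward.isDefEq.respectTransparency false

open TensorProduct in
/-- étale algebras have sections over a basic open neighbourhood of a prime `p` whose local ring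
is strictly henselian, provided some prime lies over `p` -/
theorem exists_away_section_hens {A : Type u} [CommRing A] (p : Ideal A) [p.IsPrime]
    (Rp : Type u) [CommRing Rp] [Algebra A Rp] [IsLocalization.AtPrime Rp p]
    [HenselianLocalRing Rp] [IsSepClosed (IsLocalRing.ResidueField Rp)]
    (B : Type u) [CommRing B] [Algebra A B] [Algebra.Etale A B] (q : Ideal B) [q.IsPrime]
    (hq : q.comap (algebraMap A B) = p) :
    ∃ f ∉ p, Nonempty (B →ₐ[A] Localization.Away f) := by
  let C := Rp ⊗[A] B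
  let κ := q.ResidueField
  have hunits : ∀ y : p.primeCompl, IsUnit ((Algebra.ofId A κ) (y : A)) := by
    intro y
    rw [Algebra.ofId_apply, IsScalarTower.algebraMap_apply A B κ, isUnit_iff_ne_zero, ne_eq,
      Ideal.algebraMap_residueField_eq_zero]
    intro hy
    have : (y : A) ∈ q.comap (algebraMap A B) := hy
    rw [hq] at this
    exact y.2 this
  let φ1 : Rp →ₐ[A] κ := IsLocalization.liftAlgHom hunits
  let φ2 : B →ₐ[A] κ := IsScalarTower.toAlgHom A B κ
  let φ : C →ₐ[A] κ := Algebra.TensorProduct.lift φ1 φ2 (fun _ _ => mul_comm _ _)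
  let m : Ideal C := RingHom.ker φ.toRingHom
  haveI hmp : m.IsPrime := RingHom.ker_isPrime _
  have hcomap : m.comap (algebraMap Rp C) = IsLocalRing.maximalIdeal Rp := by
    apply le_antisymm
    · exact IsLocalRing.le_maximalIdeal (Ideal.comap_ne_top _ hmp.ne_top)
    · intro x hx
      rw [Ideal.mem_comap, RingHom.mem_ker]
      change φ (algebraMap Rp C x) = 0
      rw [Algebra.TensorProduct.algebraMap_apply, Algebra.TensorProduct.lift_tmul, map_one, mul_one]
      obtain ⟨a, s, rfl⟩ := IsLocalization.exists_mk'_eq p.primeCompl x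
      have ha : a ∈ p := (IsLocalization.AtPrime.mk'_mem_maximal_iff Rp p a s).mp hx
      have h1 : φ1 (IsLocalization.mk' Rp a s) * φ1 (algebraMap A Rp (s : A)) = 0 := by
        rw [← map_mul, IsLocalization.mk'_spec, AlgHom.commutes,
          IsScalarTower.algebraMap_apply A B κ, Ideal.algebraMap_residueField_eq_zero]
        change a ∈ q.comap (algebraMap A B)
        rw [hq]; exact ha
      have h2 : IsUnit (φ1 (algebraMap A Rp (s : A))) := by
        rw [AlgHom.commutes]; exact hunits s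
      exact h2.mul_left_eq_zero.mp h1
  obtain ⟨τ', -⟩ := Groth.Agent.Helper7.StrictSections.exists_algHom_comap_eq Rp C m hcomap
  let σ : B →ₐ[A] Rp := (τ'.restrictScalars A).comp Algebra.TensorProduct.includeRight
  exact exists_away_algHom p Rp B σ

/-- local sections of étale morphisms near a point whose local ring is strictly henselian -/
theorem exists_open_section (S : Scheme.{u}) {Y : Scheme.{u}} (f : Y ⟶ S) [Etale f] (y : Y)
    (hS : EtCoh.IsStrictlyHenselianLocalRing (S.presheaf.stalk (f y))) :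
    ∃ U : S.Opens, f y ∈ U ∧ ∃ t : (U : Scheme.{u}) ⟶ Y, t ≫ f = U.ι := by
  obtain ⟨hH, hsc⟩ := hS
  obtain ⟨U₀, hU, hfy, -⟩ := exists_isAffineOpen_mem_and_subset (x := f y) (U := ⊤) trivial
  obtain ⟨V, hV, hyV, hVU⟩ := exists_isAffineOpen_mem_and_subset (x := y) (U := f ⁻¹ᵁ U₀) hfy
  let ψ : Γ(S, U₀) ⟶ Γ(Y, V) := f.appLE U₀ V hVU
  have hψet : ψ.hom.Etale :=
    HasRingHomProperty.appLE (P := @Etale) f inferInstance ⟨U₀, hU⟩ ⟨V, hV⟩ hVU
  algebraize [ψ.hom]
  let p := hU.primeIdealOf ⟨f y, hfy⟩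
  let q := hV.primeIdealOf ⟨y, hyV⟩
  have hq : q.asIdeal.comap (algebraMap Γ(S, U₀) Γ(Y, V)) = p.asIdeal :=
    congrArg PrimeSpectrum.asIdeal (IsAffineOpen.comap_primeIdealOf_appLE U₀ hU V hV hVU hyV)
  letI : Algebra Γ(S, U₀) (S.presheaf.stalk (f y)) :=
    TopCat.Presheaf.algebra_section_stalk S.presheaf (U := U₀) ⟨f y, hfy⟩
  haveI : IsLocalization.AtPrime (S.presheaf.stalk (f y)) p.asIdeal :=
    hU.isLocalization_stalk ⟨f y, hfy⟩
  haveI : IsSepClosed (IsLocalRing.ResidueField (S.presheaf.stalk (f y))) := hsc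
  obtain ⟨g, hg, ⟨τ⟩⟩ := exists_away_section_hens p.asIdeal (S.presheaf.stalk (f y))
    Γ(Y, V) q.asIdeal hq
  refine ⟨S.basicOpen g, ?_, ?_⟩
  · have h3 : hU.fromSpec p = f y := hU.fromSpec_primeIdealOf ⟨f y, hfy⟩
    rw [← h3]
    change p ∈ hU.fromSpec ⁻¹ᵁ S.basicOpen g
    rw [hU.fromSpec_preimage_basicOpen]
    exact hg
  · have hW : IsAffineOpen (S.basicOpen g) := hU.basicOpen g
    haveI : IsLocalization.Away g Γ(S, S.basicOpen g) := hU.isLocalization_basicOpen g
    let e : Localization.Away g ≃ₐ[Γ(S, U₀)] Γ(S, S.basicOpen g) :=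
      IsLocalization.algEquiv (Submonoid.powers g) _ _
    let τ'' : Γ(Y, V) →ₐ[Γ(S, U₀)] Γ(S, S.basicOpen g) := e.toAlgHom.comp τ
    let θ : Γ(Y, V) ⟶ Γ(S, S.basicOpen g) := CommRingCat.ofHom τ''.toRingHom
    have hθ : ψ ≫ θ = S.presheaf.map (homOfLE (S.basicOpen_le g)).op := by
      ext a
      exact τ''.commutes a
    refine ⟨hW.isoSpec.hom ≫ Spec.map θ ≫ hV.fromSpec, ?_⟩
    rw [Category.assoc, Category.assoc, ← IsAffineOpen.SpecMap_appLE_fromSpec f hU hV hVU,
      ← Spec.map_comp_assoc]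
    change hW.isoSpec.hom ≫ Spec.map (ψ ≫ θ) ≫ hU.fromSpec = _
    rw [hθ, hU.map_fromSpec hW, hW.isoSpec_hom_fromSpec]

end EtZar1
end H9FE
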