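import Mathlib
import Groth.Agent.Lib.Helper9.FE.EtZar1
import Groth.Agent.Lib.Helper5.Misc.EtSiteBasic
import Groth.Agent.Lib.Helper5.Misc.LanFlat
import Groth.Prelude.Def_EtZar

/-! helper9: the functor from opens to étale schemes is representably flat; restriction of étale
sheaves to the Zariski site preserves epimorphisms when all local rings are strictly henselian. -/

set_option autoImplicit false
universe u
open CategoryTheory CategoryTheory.Limits AlgebraicGeometry Opposite

namespace H9FE
namespace EtZar2
set_option linter.style.haveILetI false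
set_option linter.unusedSectionVars false
set_option backward.isDefEq.respectTransparency false

variable (S : Scheme.{u})

theorem zar_hom_w {W : S.Etale} {U : S.Opens} (a : W ⟶ (EtZar.zarToEt S).obj U) :
    a.left ≫ U.ι = W.hom := MorphismProperty.Over.w a

instance hom_zarToEt_subsingleton (W : S.Etale) (U : S.Opens) :
    Subsingleton (W ⟶ (EtZar.zarToEt S).obj U) := by
  constructor
  intro a b
  apply MorphismProperty.Over.Hom.ext
  rw [← cancel_mono U.ι, zar_hom_w, zar_hom_w]

theorem range_subset_of_hom {W : S.Etale} {U : S.Opens} (a : W ⟶ (EtZar.zarToEt S).obj U) :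
    Set.range W.hom ⊆ (U : Set S) := by
  rintro _ ⟨w, rfl⟩
  rw [← zar_hom_w S a]
  exact (a.left w).2

/-- the unique morphism into an open containing the image -/
noncomputable def homTo (W : S.Etale) (U : S.Opens) (h : Set.range W.hom ⊆ (U : Set S)) :
    W ⟶ (EtZar.zarToEt S).obj U :=
  MorphismProperty.Over.homMk (IsOpenImmersion.lift U.ι W.hom (fun z hz => (Scheme.Opens.range_ι U).ge (h hz)))
    (IsOpenImmersion.lift_fac _ _ _)

theorem le_of_hom {U' U : S.Opens} (a : (EtZar.zarToEt S).obj U' ⟶ (EtZar.zarToEt S).obj U) :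
    U' ≤ U := by
  intro z hz
  have := range_subset_of_hom S a ⟨⟨z, hz⟩, rfl⟩
  exact this

instance flat : RepresentablyFlat (EtZar.zarToEt S) := by
  constructor
  intro W
  have hne : Nonempty (StructuredArrow W (EtZar.zarToEt S)) :=
    ⟨StructuredArrow.mk (Y := (⊤ : S.Opens)) (homTo S W ⊤ (fun _ _ => trivial))⟩
  refine { cone_objs := ?_, cone_maps := ?_, nonempty := hne }
  · intro X Y
    have hX := range_subset_of_hom S X.hom
    have hY := range_subset_of_hom S Y.hom
    refine ⟨StructuredArrow.mk (Y := X.right ⊓ Y.right)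
      (homTo S W _ (Set.subset_inter hX hY)), StructuredArrow.homMk (homOfLE inf_le_left)
        (Subsingleton.elim _ _), StructuredArrow.homMk (homOfLE inf_le_right)
        (Subsingleton.elim _ _), trivial⟩
  · intro X Y f g
    refine ⟨X, 𝟙 _, ?_⟩
    have : f = g := StructuredArrow.hom_ext _ _ (Subsingleton.elim _ _)
    rw [this]


open Groth.Agent.Lib.Helper5 in
theorem resZar_map_epi [EtZar.ZarCont S]
    (hS : ∀ s : S, EtCoh.IsStrictlyHenselianLocalRing (S.presheaf.stalk s))
    {F G : EtCoh.Ab S} (a : F ⟶ G) [Epi a] : Epi ((EtZar.resZar S).map a) := by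
  haveI h1 : Sheaf.IsLocallySurjective a :=
    (Sheaf.isLocallySurjective_iff_epi' _ a).mpr inferInstance
  haveI : Sheaf.IsLocallySurjective ((EtZar.resZar S).map a) := by
    constructor
    intro U s x hx
    have hmem := Presheaf.imageSieve_mem S.smallEtaleTopology a.hom
      (U := op ((EtZar.zarToEt S).obj U)) s
    rw [EtSiteBasic.mem_smallEtale_iff] at hmem
    obtain ⟨W, g, y, hg, hy⟩ := hmem ⟨x, hx⟩
    obtain ⟨U', hU', t, ht⟩ := EtZar1.exists_open_section S W.hom y (hS _)
    let k : (EtZar.zarToEt S).obj U' ⟶ W := MorphismProperty.Over.homMk t ht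
    have hle : U' ≤ U := le_of_hom S (k ≫ g)
    have hxy : W.hom y = x := by
      rw [← zar_hom_w S g]
      change (Scheme.Opens.ι U) (g.left y) = x
      rw [hy]
      rfl
    refine ⟨U', homOfLE hle, ?_, hxy ▸ hU'⟩
    have h2 := (Presheaf.imageSieve a.hom s).downward_closed hg k
    have h3 : k ≫ g = (EtZar.zarToEt S).map (homOfLE hle) := Subsingleton.elim _ _
    rw [h3] at h2
    exact h2
  exact Sheaf.epi_of_isLocallySurjective _

end EtZar2
end H9FE
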