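import Mathlib
import Groth.Prelude.Def_EtLim
import Groth.Agent.S14451
import Groth.Agent.S0071
import Groth.Agent.Lib.Helper9.FE.FEtSplit

/-! helper9: restriction–corestriction on étale cohomology for a finite étale morphism of degree
`d`: a class killed by pullback is killed by `d` -/

set_option autoImplicit false
open CategoryTheory CategoryTheory.Limits AlgebraicGeometry Opposite
universe u

namespace H9FE.FEtTraceCoh

set_option backward.isDefEq.respectTransparency false
set_option linter.style.haveILetI false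
set_option linter.unusedSectionVars false

open EtShriek H9FE.FEtTrace H9FE.FEtTraceSum H9FE.FEtSplit Abelian

attribute [local instance] Groth.Agent.Lib.Helper5.Misc.JContGen.jCont

variable {U X : Scheme.{u}} (j : U ⟶ X)

/-- pulling back is the unit followed by the canonical map `H(X, j_* G) → H(U, G)` -/
lemma HofPush_unit [PreservesFiniteLimits (EtCoh.pull j)] (F : EtCoh.Ab X) (q : ℕ)
    (α : EtCoh.H X F q) :
    EtLim.HofPush j ((EtCoh.pull j).obj F) q
      (Sheaf.H.map ((EtCoh.pullPushAdj j).unit.app F) q α) = EtCore.Hpull j F q α := by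
  change (((Ext.mk₀ (EtCore.pullConst j ℤ).inv).comp
    ((α.comp (Ext.mk₀ ((EtCoh.pullPushAdj j).unit.app F)) (add_zero q)).mapExactFunctor
      (EtCoh.pull j)) (zero_add q)).comp
    (Ext.mk₀ ((EtCoh.pullPushAdj j).counit.app ((EtCoh.pull j).obj F))) (add_zero q)) =
    (Ext.mk₀ (EtCore.pullConst j ℤ).inv).comp (α.mapExactFunctor (EtCoh.pull j)) (zero_add q)
  rw [Ext.mapExactFunctor_comp, Ext.mapExactFunctor_mk₀, Ext.comp_assoc_of_third_deg_zero,
    Ext.comp_assoc_of_third_deg_zero, Ext.mk₀_comp_mk₀,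
    (EtCoh.pullPushAdj j).left_triangle_components, Ext.comp_mk₀_id]

variable [Etale j] [IsFinite j]

/-- the trace on `j_* j^* F` (inverse image instead of restriction) -/
noncomputable def tr' (F : EtCoh.Ab X) : (EtCoh.push j).obj ((EtCoh.pull j).obj F) ⟶ F :=
  (EtCoh.push j).map ((Groth.Agent.S0623.pullIso j).hom.app F) ≫ (tr j).app F

lemma unit_tr' (d : ℕ)
    (hd : ∀ (Ω : Type u) [Field Ω] [IsSepClosed Ω] (ξ : Spec (CommRingCat.of Ω) ⟶ X),
      Nat.card ↥(pullback j ξ) = d) (F : EtCoh.Ab X) :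
    (EtCoh.pullPushAdj j).unit.app F ≫ tr' j F = d • 𝟙 F := by
  unfold tr'
  rw [← Category.assoc]
  have h1 : (EtCoh.pullPushAdj j).unit.app F ≫
      (EtCoh.push j).map ((Groth.Agent.S0623.pullIso j).hom.app F) = res j F :=
    Adjunction.unit_leftAdjointUniq_hom_app (EtCoh.pullPushAdj j)
      (Groth.Agent.S0623.restrPushAdj j) F
  rw [h1]
  exact res_tr_of_degree j d hd F

lemma H_map_nsmul {F G : EtCoh.Ab X} (φ : F ⟶ G) (d q : ℕ) (α : EtCoh.H X F q) :
    Sheaf.H.map (d • φ) q α = d • Sheaf.H.map φ q α := by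
  induction d with
  | zero =>
    rw [zero_smul, zero_smul]
    change α.comp (Ext.mk₀ (0 : F ⟶ G)) (add_zero q) = 0
    rw [Ext.mk₀_zero, Ext.comp_zero]
  | succ n ih =>
    rw [succ_nsmul, succ_nsmul, Sheaf.H.map_add_apply, ih]

/-- restriction–corestriction -/
theorem nsmul_eq_zero_of_Hpull_eq_zero [PreservesFiniteLimits (EtCoh.pull j)] (d : ℕ)
    (hd : ∀ (Ω : Type u) [Field Ω] [IsSepClosed Ω] (ξ : Spec (CommRingCat.of Ω) ⟶ X),
      Nat.card ↥(pullback j ξ) = d) (F : EtCoh.Ab X) (q : ℕ) (α : EtCoh.H X F q)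
    (hα : EtCore.Hpull j F q α = 0) : d • α = 0 := by
  have hbij := Groth.Agent.S14451.result j ((EtCoh.pull j).obj F)
    (fun q' hq' => Groth.Agent.S0071.result j _ q' hq') q
  have h0 : Sheaf.H.map ((EtCoh.pullPushAdj j).unit.app F) q α = 0 := by
    apply hbij.1
    rw [HofPush_unit, hα, map_zero]
  have h1 : Sheaf.H.map ((EtCoh.pullPushAdj j).unit.app F ≫ tr' j F) q α = 0 := by
    rw [Sheaf.H.map_comp_apply, h0, map_zero]
  rw [unit_tr' j d hd, H_map_nsmul] at h1
  have h2 : Sheaf.H.map (𝟙 F) q α = α := Sheaf.H.map_id_apply α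
  exact (congrArg (fun z => d • z) h2).symm.trans h1

end H9FE.FEtTraceCoh
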