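import Mathlib
import Groth.Agent.S8532
import Groth.Agent.Lib.Helper9.FE.FEtTraceCoh
import Groth.Agent.Lib.Helper9.FE.IntGeoPt

/-! helper9: the degree of a finite étale morphism measured by counting lifts of geometric points
with values in algebraically closed fields; pullback on cohomology of `ℓ`-torsion sheaves along a
finite étale morphism of degree prime to `ℓ` is injective -/

set_option autoImplicit false
open CategoryTheory CategoryTheory.Limits AlgebraicGeometry Opposite
universe u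

namespace H9FE.FEtDegAlg

set_option backward.isDefEq.respectTransparency false
set_option linter.style.haveILetI false
set_option linter.unusedSectionVars false

open EtShriek H9FE.FEtTrace H9FE.FEtTraceSum H9FE.FEtSplit H9FE.FEtTraceCoh Abelian

attribute [local instance] Groth.Agent.Lib.Helper5.Misc.JContGen.jCont

/-- two retractions onto a field with the same kernel agree -/
theorem retraction_unique {Ω : Type u} [Field Ω] (B : CommRingCat.{u})
    (φ : CommRingCat.of Ω ⟶ B) (χ χ' : B ⟶ CommRingCat.of Ω) (h : φ ≫ χ = 𝟙 _)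
    (h' : φ ≫ χ' = 𝟙 _) (hk : RingHom.ker χ.hom = RingHom.ker χ'.hom) : χ = χ' := by
  ext b
  have h1 : χ.hom (φ.hom (χ.hom b)) = χ.hom b :=
    congrArg (fun f : CommRingCat.of Ω ⟶ CommRingCat.of Ω => f.hom (χ.hom b)) h
  have h2 : χ'.hom (φ.hom (χ.hom b)) = χ.hom b :=
    congrArg (fun f : CommRingCat.of Ω ⟶ CommRingCat.of Ω => f.hom (χ.hom b)) h'
  have hmem : b - φ.hom (χ.hom b) ∈ RingHom.ker χ.hom := by
    rw [RingHom.mem_ker, map_sub, h1, sub_self]
  rw [hk, RingHom.mem_ker, map_sub, sub_eq_zero] at hmem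
  exact (hmem.trans h2).symm

/-- a section of an affine scheme over a field is determined by its image point -/
theorem section_unique {Ω : Type u} [Field Ω] {P : Scheme.{u}}
    (π : P ⟶ Spec (CommRingCat.of Ω)) [IsAffine P]
    (σ σ' : Spec (CommRingCat.of Ω) ⟶ P) (h : σ ≫ π = 𝟙 _) (h' : σ' ≫ π = 𝟙 _)
    (hpt : σ default = σ' default) : σ = σ' := by
  obtain ⟨φ, hφ⟩ := Spec.map_surjective (P.isoSpec.inv ≫ π)
  obtain ⟨χ, hχ⟩ := Spec.map_surjective (σ ≫ P.isoSpec.hom)
  obtain ⟨χ', hχ'⟩ := Spec.map_surjective (σ' ≫ P.isoSpec.hom)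
  have e1 : φ ≫ χ = 𝟙 _ := by
    apply Spec.map_injective
    rw [Spec.map_comp, hφ, hχ, Spec.map_id, Category.assoc, Iso.hom_inv_id_assoc, h]
  have e1' : φ ≫ χ' = 𝟙 _ := by
    apply Spec.map_injective
    rw [Spec.map_comp, hφ, hχ', Spec.map_id, Category.assoc, Iso.hom_inv_id_assoc, h']
  have hbot : (default : Spec (CommRingCat.of Ω)).asIdeal = ⊥ := by
    have := (default : Spec (CommRingCat.of Ω)).isPrime
    exact (Ideal.eq_bot_or_top _).resolve_right
      (default : Spec (CommRingCat.of Ω)).isPrime.ne_top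
  have hk : RingHom.ker χ.hom = RingHom.ker χ'.hom := by
    have h2 : (Spec.map χ) default = (Spec.map χ') default := by
      rw [hχ, hχ', Scheme.Hom.comp_apply, Scheme.Hom.comp_apply, hpt]
    have h3 := congrArg PrimeSpectrum.asIdeal h2
    change Ideal.comap χ.hom (default : Spec (CommRingCat.of Ω)).asIdeal =
      Ideal.comap χ'.hom (default : Spec (CommRingCat.of Ω)).asIdeal at h3
    rw [hbot] at h3
    exact h3
  have hχχ' := retraction_unique _ φ χ χ' e1 e1' hk
  have h4 : σ ≫ P.isoSpec.hom = σ' ≫ P.isoSpec.hom := by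
    rw [← hχ, ← hχ', hχχ']
  exact (cancel_mono P.isoSpec.hom).1 h4

/-- over an algebraically closed field, lifts of a geometric point along an integral morphism
correspond to points of the geometric fibre -/
theorem card_lifts_eq {U X : Scheme.{u}} (j : U ⟶ X) [IsIntegralHom j] {Ω : Type u} [Field Ω]
    [IsAlgClosed Ω] (η : Spec (CommRingCat.of Ω) ⟶ X) :
    Nat.card {t : Spec (CommRingCat.of Ω) ⟶ U // t ≫ j = η} = Nat.card ↥(pullback j η) := by
  haveI : IsAffine (pullback j η) := isAffine_of_isAffineHom (pullback.snd j η)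
  let Φ : {t : Spec (CommRingCat.of Ω) ⟶ U // t ≫ j = η} → ↥(pullback j η) := fun t =>
    (pullback.lift t.1 (𝟙 _) (by rw [t.2, Category.id_comp])) default
  have hΦ : Function.Bijective Φ := by
    constructor
    · intro t t' ht
      have hs := section_unique (pullback.snd j η)
        (pullback.lift t.1 (𝟙 _) (by rw [t.2, Category.id_comp]))
        (pullback.lift t'.1 (𝟙 _) (by rw [t'.2, Category.id_comp]))
        (pullback.lift_snd _ _ _) (pullback.lift_snd _ _ _) ht
      apply Subtype.ext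
      have h5 := congrArg (fun s => s ≫ pullback.fst j η) hs
      simpa using h5
    · intro p
      obtain ⟨σ, hσ1, hσ2⟩ := H9FE.IntGeoPt.exists_section (pullback.snd j η) p
      have hσj : (σ ≫ pullback.fst j η) ≫ j = η := by
        rw [Category.assoc, pullback.condition, ← Category.assoc, hσ1, Category.id_comp]
      refine ⟨⟨σ ≫ pullback.fst j η, hσj⟩, ?_⟩
      have h6 : pullback.lift (σ ≫ pullback.fst j η) (𝟙 _)
          (by rw [hσj, Category.id_comp]) = σ := by
        apply pullback.hom_ext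
        · rw [pullback.lift_fst]
        · rw [pullback.lift_snd, hσ1]
      change (pullback.lift (σ ≫ pullback.fst j η) (𝟙 _) _) default = p
      rw [h6]
      exact hσ2 _
  exact Nat.card_congr (Equiv.ofBijective Φ hΦ)

section Deg

variable {U X : Scheme.{u}} (j : U ⟶ X) [IsFinite j] [Etale j]

theorem hloc_of_degree_alg (d : ℕ)
    (hd : ∀ (Ω : Type u) [Field Ω] [IsAlgClosed Ω] (ξ : Spec (CommRingCat.of Ω) ⟶ X),
      Nat.card ↥(pullback j ξ) = d) (W : X.Etale) (w : W.left) :
    ∃ (W' : X.Etale) (b : W' ⟶ W) (w' : W'.left), b.left w' = w ∧ SplitOver j d W' := by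
  obtain ⟨U₀, g, hg, u₀, hu₀, n, ⟨S⟩⟩ := exists_split j (W.hom w)
  haveI := hg
  have hn : n = d := by
    rw [← card_fibre j (Groth.Agent.S0631.Aux.geomPtAlgAt u₀).ξ S]
    haveI : IsAlgClosed (Groth.Agent.S0631.Aux.geomPtAlgAt u₀).Ω :=
      (inferInstance : IsAlgClosed (AlgebraicClosure (U₀.residueField u₀)))
    exact hd _ _
  subst hn
  exact exists_splitOver j S W w u₀ hu₀

lemma unit_tr'_alg (d : ℕ)
    (hd : ∀ (Ω : Type u) [Field Ω] [IsAlgClosed Ω] (ξ : Spec (CommRingCat.of Ω) ⟶ X),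
      Nat.card ↥(pullback j ξ) = d) (F : EtCoh.Ab X) :
    (EtCoh.pullPushAdj j).unit.app F ≫ tr' j F = d • 𝟙 F := by
  unfold tr'
  rw [← Category.assoc]
  have h1 : (EtCoh.pullPushAdj j).unit.app F ≫
      (EtCoh.push j).map ((Groth.Agent.S0623.pullIso j).hom.app F) = res j F :=
    Adjunction.unit_leftAdjointUniq_hom_app (EtCoh.pullPushAdj j)
      (Groth.Agent.S0623.restrPushAdj j) F
  rw [h1]
  exact res_tr j d (hloc_of_degree_alg j d hd) F

/-- restriction–corestriction, degree measured at algebraically closed geometric points -/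
theorem nsmul_eq_zero_of_Hpull_eq_zero_alg [PreservesFiniteLimits (EtCoh.pull j)] (d : ℕ)
    (hd : ∀ (Ω : Type u) [Field Ω] [IsAlgClosed Ω] (ξ : Spec (CommRingCat.of Ω) ⟶ X),
      Nat.card ↥(pullback j ξ) = d) (F : EtCoh.Ab X) (q : ℕ) (α : EtCoh.H X F q)
    (hα : EtCore.Hpull j F q α = 0) : d • α = 0 := by
  have hbij := Groth.Agent.S14451.result j ((EtCoh.pull j).obj F)
    (fun q' hq' => Groth.Agent.S0071.result j _ q' hq') q
  have h0 : Sheaf.H.map ((EtCoh.pullPushAdj j).unit.app F) q α = 0 := by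
    apply hbij.1
    rw [HofPush_unit, hα, map_zero]
  have h1 : Sheaf.H.map ((EtCoh.pullPushAdj j).unit.app F ≫ tr' j F) q α = 0 := by
    rw [Sheaf.H.map_comp_apply, h0, map_zero]
  rw [unit_tr'_alg j d hd, H_map_nsmul] at h1
  have h2 : Sheaf.H.map (𝟙 F) q α = α := Sheaf.H.map_id_apply α
  exact (congrArg (fun z => d • z) h2).symm.trans h1

/-- pullback along a finite étale morphism of degree prime to `ℓ` is injective on the cohomology
of `ℓ`-power torsion sheaves -/
theorem eq_zero_of_Hpull_eq_zero [PreservesFiniteLimits (EtCoh.pull j)] (ℓ d : ℕ)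
    (hℓ : ℓ.Prime) (hcop : ℓ.Coprime d)
    (hd : ∀ (Ω : Type u) [Field Ω] [IsAlgClosed Ω] (η : Spec (CommRingCat.of Ω) ⟶ X),
      Nat.card {t : Spec (CommRingCat.of Ω) ⟶ U // t ≫ j = η} = d)
    (F : EtCoh.Ab X) (hF : EtAcyc.IsLTorsion {ℓ} F) (q : ℕ) (α : EtCoh.H X F q)
    (hα : EtCore.Hpull j F q α = 0) : α = 0 := by
  have hd' : ∀ (Ω : Type u) [Field Ω] [IsAlgClosed Ω] (ξ : Spec (CommRingCat.of Ω) ⟶ X),
      Nat.card ↥(pullback j ξ) = d := fun Ω _ _ ξ => (card_lifts_eq j ξ).symm.trans (hd Ω ξ)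
  haveI := Groth.Agent.S8532.Aux.nsmul_isIso {ℓ} d (fun p hp hpL => by
    rw [Set.mem_singleton_iff] at hpL
    subst hpL
    exact (Nat.Prime.coprime_iff_not_dvd hℓ).1 hcop) F hF
  have h1 : d • α = 0 := nsmul_eq_zero_of_Hpull_eq_zero_alg j d hd' F q α hα
  have h2 : Sheaf.H.map (d • 𝟙 F) q α = 0 := by
    rw [H_map_nsmul]
    refine Eq.trans ?_ h1
    exact congrArg (fun z => d • z) (Sheaf.H.map_id_apply α)
  have h3 : Sheaf.H.map ((d • 𝟙 F) ≫ inv (d • 𝟙 F)) q α = 0 := by
    rw [Sheaf.H.map_comp_apply, h2, map_zero]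
  rw [IsIso.hom_inv_id] at h3
  exact (Sheaf.H.map_id_apply α).symm.trans h3

end Deg

end H9FE.FEtDegAlg
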