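import Mathlib
import Groth.Prelude.Def_FibSite
import Groth.Agent.Lib.Helper5.Misc.FibMap2

/-! helper9: for a cartesian functor between fibred sites whose total functor is continuous,
the fibre functors are continuous (pointed-retract argument + `P = (P ⨿ 1) ×_{1 ⨿ 1} 1`). -/

set_option autoImplicit false
universe u
open CategoryTheory CategoryTheory.Limits Opposite Pseudofunctor Pseudofunctor.CoGrothendieck Bicategory
open scoped CategoryTheory.Pseudofunctor.StrongTrans

namespace H9FE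
namespace FibConv

open Groth.Agent.Lib.Helper5.FibTot Groth.Agent.Lib.Helper5.FibRan Groth.Agent.Lib.Helper5.FibMap

set_option linter.style.haveILetI false
set_option linter.unusedSectionVars false

variable {𝒮 : Type u} [SmallCategory 𝒮] (F : Pseudofunctor (LocallyDiscrete 𝒮ᵒᵖ) Cat.{u, u})
  (J : FibSite.Topologies F) (S : 𝒮)
  [∀ T : 𝒮, (ι F T).IsContinuous (J T) (FibSite.totalTopology F J)]
  [(ι F S).IsCocontinuous (J S) (FibSite.totalTopology F J)]
  [∀ (R T : 𝒮) (f : R ⟶ T), (FibSite.invImage F f).IsContinuous (J T) (J R)]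

/-- direct image along `g^*` -/
noncomputable abbrev pushG (g : S ⟶ S) : Sheaf (J S) (Type u) ⥤ Sheaf (J S) (Type u) :=
  (FibSite.invImage F g).sheafPushforwardContinuous (Type u) (J S) (J S)

/-- the constant map to a global section -/
noncomputable def constPt (P : Sheaf (J S) (Type u)) (pt : P.obj.sections) (g : S ⟶ S) :
    (pushG F J S (𝟙 S)).obj P ⟶ (pushG F J S g).obj P :=
  ⟨{ app := fun U => TypeCat.ofHom (fun _ => pt.1 (op ((FibSite.invImage F g).obj U.unop)))
     naturality := fun U V f => by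
      ext x
      exact (pt.2 ((FibSite.invImage F g).map f.unop).op).symm }⟩

open Classical in
/-- the section of the projection onto the identity factor -/
noncomputable def secPt (P : Sheaf (J S) (Type u)) (pt : P.obj.sections) :
    (pushG F J S (𝟙 S)).obj P ⟶
      (FibSite.coextend F J (Type u) S ⋙ FibSite.restr F J (Type u) S).obj P :=
  Fan.IsLimit.lift (isLimitFan F J S S P)
    (fun g => if h : g = 𝟙 S then eqToHom (by rw [h]) else constPt F J S P pt g)

open Classical in
theorem secPt_proj (P : Sheaf (J S) (Type u)) (pt : P.obj.sections) :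
    secPt F J S P pt ≫ (πNat F J S S (𝟙 S)).app P = 𝟙 _ := by
  have := Fan.IsLimit.fac (isLimitFan F J S S P)
    (fun g => if h : g = 𝟙 S then eqToHom (by rw [h]) else constPt F J S P pt g) (𝟙 S)
  rw [dif_pos rfl] at this
  exact this


section
variable {F J S}
variable {C : Type*} [Category C] (JC : GrothendieckTopology C) {D : Type*} [Category D]

theorem isSheaf_of_retract [HasLimitsOfShape WalkingParallelPair D] {A Q : Cᵒᵖ ⥤ D}
    (s : A ⟶ Q) (r : Q ⟶ A) (h : s ≫ r = 𝟙 A) (hQ : Presheaf.IsSheaf JC Q) :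
    Presheaf.IsSheaf JC A := by
  haveI : IsSplitMono s := ⟨⟨⟨r, h⟩⟩⟩
  have hl := isSplitMonoEqualizes s
  exact ObjectProperty.prop_of_isLimit (P := Presheaf.IsSheaf JC) hl (by
    rintro (_ | _) <;> exact hQ)

theorem isSheaf_of_isPullback [HasLimitsOfShape WalkingCospan D] {A₀ A₁ A₂ A₃ : Cᵒᵖ ⥤ D}
    {fst : A₀ ⟶ A₁} {snd : A₀ ⟶ A₂} {f : A₁ ⟶ A₃} {g : A₂ ⟶ A₃}
    (h : IsPullback fst snd f g) (h1 : Presheaf.IsSheaf JC A₁) (h2 : Presheaf.IsSheaf JC A₂)
    (h3 : Presheaf.IsSheaf JC A₃) : Presheaf.IsSheaf JC A₀ :=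
  ObjectProperty.prop_of_isLimit (P := Presheaf.IsSheaf JC) h.isLimit (by
    rintro (_ | _ | _)
    · exact h3
    · exact h1
    · exact h2)

theorem isSheaf_of_iso' {A B : Cᵒᵖ ⥤ D} (e : A ≅ B) (hA : Presheaf.IsSheaf JC A) :
    Presheaf.IsSheaf JC B := (Presheaf.isSheaf_of_iso_iff e).1 hA
end

variable {G : Pseudofunctor (LocallyDiscrete 𝒮ᵒᵖ) Cat.{u, u}} (α : G ⟶ F)
  (K : FibSite.Topologies G)
  [(map α).IsContinuous (FibSite.totalTopology G K) (FibSite.totalTopology F J)]
  [∀ T : 𝒮, (ι G T).IsContinuous (K T) (FibSite.totalTopology G K)]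

set_option backward.isDefEq.respectTransparency false in
theorem isSheaf_comp_of_pointed (P : Sheaf (J S) (Type u)) (pt : P.obj.sections) :
    Presheaf.IsSheaf (K S)
      ((α.app ⟨op S⟩).toFunctor.op ⋙ (FibSite.invImage F (𝟙 S)).op ⋙ P.obj) := by
  let Q := (FibSite.coextend F J (Type u) S).obj P
  let QG : Sheaf (K S) (Type u) := (FibSite.restr G K (Type u) S).obj
    (((map α).sheafPushforwardContinuous (Type u) (FibSite.totalTopology G K)
      (FibSite.totalTopology F J)).obj Q)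
  have hQG : Presheaf.IsSheaf (K S) ((ι G S ⋙ map α).op ⋙ Q.obj) := QG.property
  have e : (ι G S ⋙ map α).op ⋙ Q.obj ≅ ((α.app ⟨op S⟩).toFunctor ⋙ ι F S).op ⋙ Q.obj :=
    Functor.isoWhiskerRight (NatIso.op (eS α S)) Q.obj
  have h2 : Presheaf.IsSheaf (K S) (((α.app ⟨op S⟩).toFunctor ⋙ ι F S).op ⋙ Q.obj) :=
    isSheaf_of_iso' _ e hQG
  refine isSheaf_of_retract (K S)
    (Functor.whiskerLeft (α.app ⟨op S⟩).toFunctor.op (secPt F J S P pt).hom)
    (Functor.whiskerLeft (α.app ⟨op S⟩).toFunctor.op ((πNat F J S S (𝟙 S)).app P).hom) ?_ h2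
  have h3 : (secPt F J S P pt).hom ≫ ((πNat F J S S (𝟙 S)).app P).hom = 𝟙 _ :=
    congrArg (fun t => t.hom) (secPt_proj F J S P pt)
  rw [← Functor.whiskerLeft_comp, h3]
  rfl


/-- the inverse image along the identity is isomorphic to the identity functor -/
noncomputable def idIso (S : 𝒮) : FibSite.invImage F (𝟙 S) ≅ 𝟭 (F.obj ⟨op S⟩) :=
  Cat.Hom.toNatIso (F.mapId ⟨op S⟩)

/-- precomposition with the inverse image along the identity does nothing -/
noncomputable def idPushIso (P : (F.obj ⟨op S⟩)ᵒᵖ ⥤ Type u) :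
    (FibSite.invImage F (𝟙 S)).op ⋙ P ≅ P :=
  NatIso.ofComponents (fun U => P.mapIso (((idIso F S).app U.unop).symm.op))
    (fun {U V} f => by
      dsimp
      rw [← P.map_comp, ← P.map_comp]
      congr 1
      have := (idIso F S).inv.naturality f.unop
      exact congrArg Quiver.Hom.op this.symm)

set_option backward.isDefEq.respectTransparency false in
theorem isSheaf_comp_of_pointed' (P : Sheaf (J S) (Type u)) (pt : P.obj.sections) :
    Presheaf.IsSheaf (K S) ((α.app ⟨op S⟩).toFunctor.op ⋙ P.obj) :=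
  isSheaf_of_iso' _ (Functor.isoWhiskerLeft (α.app ⟨op S⟩).toFunctor.op (idPushIso F S P.obj))
    (isSheaf_comp_of_pointed F J S α K P pt)


section ext
universe v' u'
variable {E : Type u'} [Category.{v'} E] [FinitaryExtensive E] [HasTerminal E]

theorem exists_pointed_pullback (P : E) :
    ∃ (P' T' : E) (a : P ⟶ P') (c : P' ⟶ T') (d : (⊤_ E) ⟶ T') (_ : (⊤_ E) ⟶ P')
      (_ : (⊤_ E) ⟶ T'), IsPullback a (terminal.from P) c d := by
  have hvk := FinitaryExtensive.vanKampen _ (coprodIsCoprod (⊤_ E) (⊤_ E))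
  rw [BinaryCofan.isVanKampen_iff] at hvk
  exact ⟨_, _, _, _, _, coprod.inr, coprod.inr,
    ((hvk (BinaryCofan.mk (coprod.inl : P ⟶ P ⨿ (⊤_ E)) coprod.inr)
    (terminal.from P) (𝟙 _) (coprod.map (terminal.from P) (𝟙 _)) (coprod.inl_map _ _).symm
    ((Category.id_comp _).trans ((coprod.inr_map _ _).trans (Category.id_comp _)).symm)).1
      ⟨coprodIsCoprod _ _⟩).1⟩

end ext

section pointed
variable {C : Type u} [SmallCategory C] (JC : GrothendieckTopology C)

@[instance_reducible]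
noncomputable def uniqueTop (U : Cᵒᵖ) : Unique ((⊤_ (Sheaf JC (Type u))).obj.obj U) :=
  Types.isTerminalEquivUnique _
    (IsTerminal.isTerminalObj (sheafToPresheaf JC (Type u) ⋙ (evaluation _ _).obj U) _
      terminalIsTerminal)

/-- a morphism from the terminal sheaf gives a global section -/
noncomputable def ptOfHom (P : Sheaf JC (Type u)) (p : ⊤_ (Sheaf JC (Type u)) ⟶ P) :
    P.obj.sections :=
  ⟨fun U => p.hom.app U (uniqueTop JC U).default, fun {U V} f => by
    have h1 := NatTrans.naturality_apply p.hom f (uniqueTop JC U).default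
    rw [← h1]
    congr 1
    exact (uniqueTop JC V).uniq _⟩

end pointed


set_option backward.isDefEq.respectTransparency false in
theorem isSheaf_comp (P : Sheaf (J S) (Type u)) :
    Presheaf.IsSheaf (K S) ((α.app ⟨op S⟩).toFunctor.op ⋙ P.obj) := by
  obtain ⟨P', T', a, c, d, pP', pT', hpb⟩ :=
    exists_pointed_pullback (E := Sheaf (J S) (Type u)) P
  let Ψ : Sheaf (J S) (Type u) ⥤ ((G.obj ⟨op S⟩)ᵒᵖ ⥤ Type u) :=
    sheafToPresheaf (J S) (Type u) ⋙
      (Functor.whiskeringLeft (G.obj ⟨op S⟩)ᵒᵖ (F.obj ⟨op S⟩)ᵒᵖ (Type u)).obj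
        (α.app ⟨op S⟩).toFunctor.op
  haveI h1 : PreservesLimitsOfShape WalkingCospan (sheafToPresheaf (J S) (Type u)) :=
    inferInstance
  haveI h2 : PreservesLimitsOfShape WalkingCospan
      ((Functor.whiskeringLeft (G.obj ⟨op S⟩)ᵒᵖ (F.obj ⟨op S⟩)ᵒᵖ (Type u)).obj
        (α.app ⟨op S⟩).toFunctor.op) := inferInstance
  haveI : PreservesLimitsOfShape WalkingCospan Ψ := comp_preservesLimitsOfShape _ _
  have hpb' := hpb.map Ψ
  exact isSheaf_of_isPullback (K S) hpb'
    (isSheaf_comp_of_pointed' F J S α K P' (ptOfHom _ P' pP'))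
    (isSheaf_comp_of_pointed' F J S α K _ (ptOfHom _ _ (𝟙 _)))
    (isSheaf_comp_of_pointed' F J S α K T' (ptOfHom _ T' pT'))

theorem isContinuous_fibre :
    (α.app ⟨op S⟩).toFunctor.IsContinuous (K S) (J S) :=
  ⟨fun P => (isSheaf_iff_isSheaf_of_type _ _).1 (isSheaf_comp F J S α K P)⟩

end FibConv
end H9FE
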