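import Mathlib

/-! helper9: cube lemma for pullbacks, van Kampen squares in extensive categories, and an abstract
criterion for a coproduct-preserving functor to preserve pullbacks. -/

set_option autoImplicit false
universe v₁ u₁ v₂ u₂
open CategoryTheory CategoryTheory.Limits Opposite

namespace H9FE
namespace FibConv2

section cube
variable {C : Type u₁} [Category.{v₁} C]
  {P₀ P₁ P₂ P₃ Q₀ Q₁ Q₂ Q₃ : C} {p₁ : P₀ ⟶ P₁} {p₂ : P₀ ⟶ P₂} {f : P₁ ⟶ P₃} {g : P₂ ⟶ P₃}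
  {q₁ : Q₀ ⟶ Q₁} {q₂ : Q₀ ⟶ Q₂} {f' : Q₁ ⟶ Q₃} {g' : Q₂ ⟶ Q₃}
  {u₀ : P₀ ⟶ Q₀} {u₁ : P₁ ⟶ Q₁} {u₂ : P₂ ⟶ Q₂} {u₃ : P₃ ⟶ Q₃}

/-- cube lemma, forward direction -/
theorem cube_fwd (hQ : IsPullback q₁ q₂ f' g') (h1 : IsPullback u₁ f f' u₃)
    (h2 : IsPullback u₂ g g' u₃) (c1 : p₁ ≫ u₁ = u₀ ≫ q₁) (c2 : p₂ ≫ u₂ = u₀ ≫ q₂)
    (hP : IsPullback p₁ p₂ f g) : IsPullback u₀ (p₁ ≫ f) (q₁ ≫ f') u₃ := by
  have w : u₀ ≫ q₁ ≫ f' = (p₁ ≫ f) ≫ u₃ := by
    rw [← Category.assoc, ← c1, Category.assoc, h1.w, Category.assoc]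
  refine ⟨⟨w⟩, ⟨PullbackCone.IsLimit.mk _ (fun s => ?_) (fun s => ?_) (fun s => ?_)
    (fun s m hm1 hm2 => ?_)⟩⟩
  · -- lift
    have e1 : (s.fst ≫ q₁) ≫ f' = s.snd ≫ u₃ := by rw [Category.assoc]; exact s.condition
    have e2 : (s.fst ≫ q₂) ≫ g' = s.snd ≫ u₃ := by
      rw [Category.assoc, ← hQ.w]; exact s.condition
    exact hP.lift (h1.lift (s.fst ≫ q₁) s.snd e1) (h2.lift (s.fst ≫ q₂) s.snd e2)
      (by rw [h1.lift_snd, h2.lift_snd])
  · apply hQ.hom_ext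
    · rw [Category.assoc, ← c1, ← Category.assoc, hP.lift_fst, h1.lift_fst]
    · rw [Category.assoc, ← c2, ← Category.assoc, hP.lift_snd, h2.lift_fst]
  · rw [← Category.assoc, hP.lift_fst, h1.lift_snd]
  · have e1 : (s.fst ≫ q₁) ≫ f' = s.snd ≫ u₃ := by rw [Category.assoc]; exact s.condition
    have e2 : (s.fst ≫ q₂) ≫ g' = s.snd ≫ u₃ := by
      rw [Category.assoc, ← hQ.w]; exact s.condition
    apply hP.hom_ext
    · rw [hP.lift_fst]
      apply h1.hom_ext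
      · rw [h1.lift_fst, Category.assoc, c1, ← Category.assoc, hm1]
      · rw [h1.lift_snd, Category.assoc]; exact hm2
    · rw [hP.lift_snd]
      apply h2.hom_ext
      · rw [h2.lift_fst, Category.assoc, c2, ← Category.assoc, hm1]
      · rw [h2.lift_snd, Category.assoc, ← hP.w]; exact hm2

/-- cube lemma, backward direction -/
theorem cube_bwd (hQ : IsPullback q₁ q₂ f' g') (h1 : IsPullback u₁ f f' u₃)
    (h2 : IsPullback u₂ g g' u₃) (c1 : p₁ ≫ u₁ = u₀ ≫ q₁) (c2 : p₂ ≫ u₂ = u₀ ≫ q₂)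
    (w : p₁ ≫ f = p₂ ≫ g)
    (hP : IsPullback u₀ (p₁ ≫ f) (q₁ ≫ f') u₃) : IsPullback p₁ p₂ f g := by
  refine ⟨⟨w⟩, ⟨PullbackCone.IsLimit.mk _ (fun s => ?_) (fun s => ?_) (fun s => ?_)
    (fun s m hm1 hm2 => ?_)⟩⟩
  · have e0 : (s.fst ≫ u₁) ≫ f' = (s.snd ≫ u₂) ≫ g' := by
      simp only [Category.assoc, h1.w, h2.w]
      rw [← Category.assoc, s.condition, Category.assoc]
    exact hP.lift (hQ.lift (s.fst ≫ u₁) (s.snd ≫ u₂) e0) (s.fst ≫ f) (by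
      rw [← Category.assoc, hQ.lift_fst, Category.assoc, h1.w, Category.assoc])
  · apply h1.hom_ext
    · rw [Category.assoc, c1, ← Category.assoc, hP.lift_fst, hQ.lift_fst]
    · rw [Category.assoc, hP.lift_snd]
  · apply h2.hom_ext
    · rw [Category.assoc, c2, ← Category.assoc, hP.lift_fst, hQ.lift_snd]
    · rw [Category.assoc, ← w, hP.lift_snd, s.condition]
  · apply hP.hom_ext
    · rw [hP.lift_fst]
      apply hQ.hom_ext
      · rw [hQ.lift_fst, Category.assoc, ← c1, ← Category.assoc, hm1]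
      · rw [hQ.lift_snd, Category.assoc, ← c2, ← Category.assoc, hm2]
    · rw [hP.lift_snd, ← Category.assoc, hm1]

end cube


section vk
variable {C : Type u₁} [Category.{v₁} C] [FinitaryExtensive C]
  {X Y Z X' Y' Z' : C} {a : X ⟶ Z} {b : Y ⟶ Z} {a' : X' ⟶ Z'} {b' : Y' ⟶ Z'}
  {αX : X' ⟶ X} {αY : Y' ⟶ Y} {f : Z' ⟶ Z}

theorem vk_fwd (hc : IsColimit (BinaryCofan.mk a b)) (hc' : IsColimit (BinaryCofan.mk a' b'))
    (wX : αX ≫ a = a' ≫ f) (wY : αY ≫ b = b' ≫ f) : IsPullback a' αX f a := by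
  have hvk := FinitaryExtensive.vanKampen _ hc
  rw [BinaryCofan.isVanKampen_iff] at hvk
  exact ((hvk (BinaryCofan.mk a' b') αX αY f wX wY).1 ⟨hc'⟩).1

theorem vk_bwd (hc : IsColimit (BinaryCofan.mk a b))
    (h1 : IsPullback a' αX f a) (h2 : IsPullback b' αY f b) :
    Nonempty (IsColimit (BinaryCofan.mk a' b')) := by
  have hvk := FinitaryExtensive.vanKampen _ hc
  rw [BinaryCofan.isVanKampen_iff] at hvk
  exact (hvk (BinaryCofan.mk a' b') αX αY f h1.w.symm h2.w.symm).2 ⟨h1, h2⟩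

end vk

section transfer
variable {A : Type u₁} [Category.{v₁} A] {B : Type u₂} [Category.{v₂} B] [FinitaryExtensive B]
  (L : A ⥤ B) [PreservesColimitsOfShape (Discrete WalkingPair) L]
  {X Y Z X' Y' Z' : A} {a : X ⟶ Z} {b : Y ⟶ Z} {a' : X' ⟶ Z'} {b' : Y' ⟶ Z'}
  {αX : X' ⟶ X} {αY : Y' ⟶ Y} {f : Z' ⟶ Z}

theorem vk_transfer (hc : IsColimit (BinaryCofan.mk a b)) (hc' : IsColimit (BinaryCofan.mk a' b'))
    (wX : αX ≫ a = a' ≫ f) (wY : αY ≫ b = b' ≫ f) :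
    IsPullback (L.map a') (L.map αX) (L.map f) (L.map a) :=
  vk_fwd (mapIsColimitOfPreservesOfIsColimit L a b hc)
    (mapIsColimitOfPreservesOfIsColimit L a' b' hc')
    (by rw [← L.map_comp, wX, L.map_comp]) (by rw [← L.map_comp, wY, L.map_comp])

end transfer


section main
variable {A : Type u₁} [Category.{v₁} A] {B : Type u₂} [Category.{v₂} B]
  [FinitaryExtensive A] [FinitaryExtensive B] [HasPullbacks A]
  (L : A ⥤ B) [PreservesColimitsOfShape (Discrete WalkingPair) L]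
  (I Sg : A ⥤ A) (η : I ⟶ Sg) [PreservesLimitsOfShape WalkingCospan I]
  (Cc : A → A) (ρ : ∀ P, Cc P ⟶ Sg.obj P)
  (hc : ∀ P, IsColimit (BinaryCofan.mk (η.app P) (ρ P)))
  (Cm : ∀ {P Q : A} (_ : P ⟶ Q), Cc P ⟶ Cc Q)
  (hCm : ∀ {P Q : A} (f : P ⟶ Q), Cm f ≫ ρ Q = ρ P ≫ Sg.map f)
  (hSg : ∀ {P₁ P₂ P₃ : A} (f : P₁ ⟶ P₃) (g : P₂ ⟶ P₃),
    ∃ (Z : A) (z₁ : Z ⟶ Sg.obj P₁) (z₂ : Z ⟶ Sg.obj P₂),
      IsPullback z₁ z₂ (Sg.map f) (Sg.map g) ∧
      IsPullback (L.map z₁) (L.map z₂) (L.map (Sg.map f)) (L.map (Sg.map g)))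

include hc hCm hSg in
theorem map_isPullback {P₀ P₁ P₂ P₃ : A} {fst : P₀ ⟶ P₁} {snd : P₀ ⟶ P₂} {f : P₁ ⟶ P₃}
    {g : P₂ ⟶ P₃} (h : IsPullback fst snd f g) :
    IsPullback (L.map (I.map fst)) (L.map (I.map snd)) (L.map (I.map f)) (L.map (I.map g)) := by
  -- van Kampen squares
  have hη : ∀ {P Q : A} (k : P ⟶ Q), IsPullback (η.app P) (I.map k) (Sg.map k) (η.app Q) :=
    fun {P Q} k => vk_fwd (hc Q) (hc P) (η.naturality k) (hCm k)
  obtain ⟨Z, z₁, z₂, hZ, hLZ⟩ := hSg f g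
  have hI := h.map I
  have wκ : (I.map fst ≫ η.app P₁) ≫ Sg.map f = (I.map snd ≫ η.app P₂) ≫ Sg.map g := by
    rw [Category.assoc, Category.assoc, ← η.naturality, ← η.naturality, ← Category.assoc,
      ← Category.assoc, hI.w]
  let κ : I.obj P₀ ⟶ Z := hZ.lift _ _ wκ
  have c1 : I.map fst ≫ η.app P₁ = κ ≫ z₁ := (hZ.lift_fst _ _ wκ).symm
  have c2 : I.map snd ≫ η.app P₂ = κ ≫ z₂ := (hZ.lift_snd _ _ wκ).symm
  have hκ : IsPullback κ (I.map fst ≫ I.map f) (z₁ ≫ Sg.map f) (η.app P₃) :=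
    cube_fwd hZ (hη f) (hη g) c1 c2 hI
  -- the complement of `κ`
  have hκ' := IsPullback.of_hasPullback (z₁ ≫ Sg.map f) (ρ P₃)
  obtain ⟨hcZ⟩ := vk_bwd (hc P₃) hκ hκ'
  -- transfer to `B`
  have hLκ : IsPullback (L.map κ) (L.map (I.map fst ≫ I.map f)) (L.map (z₁ ≫ Sg.map f))
      (L.map (η.app P₃)) := vk_transfer L (hc P₃) hcZ hκ.w.symm hκ'.w.symm
  have hL1 : IsPullback (L.map (η.app P₁)) (L.map (I.map f)) (L.map (Sg.map f))
      (L.map (η.app P₃)) := vk_transfer L (hc P₃) (hc P₁) (η.naturality f) (hCm f)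
  have hL2 : IsPullback (L.map (η.app P₂)) (L.map (I.map g)) (L.map (Sg.map g))
      (L.map (η.app P₃)) := vk_transfer L (hc P₃) (hc P₂) (η.naturality g) (hCm g)
  refine cube_bwd hLZ hL1 hL2 (u₀ := L.map κ) ?_ ?_ ?_ ?_
  · rw [← L.map_comp, c1, L.map_comp]
  · rw [← L.map_comp, c2, L.map_comp]
  · rw [← L.map_comp, ← L.map_comp, hI.w]
  · rw [← L.map_comp, ← L.map_comp]
    exact hLκ

end main


section regroup
universe w
variable {C : Type u₁} [Category.{v₁} C] {ι : Type w} {X : ι → C}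

open Classical in
/-- splitting off one summand of a coproduct -/
noncomputable def isColimitBinaryOfCofan (c : Cofan X) (hc : IsColimit c) (i₀ : ι)
    [HasCoproduct (fun i : {i // i ≠ i₀} => X i)] :
    IsColimit (BinaryCofan.mk (c.inj i₀)
      (Sigma.desc (fun i : {i // i ≠ i₀} => c.inj i))) :=
  BinaryCofan.IsColimit.mk _
    (fun {T} f g => Cofan.IsColimit.desc hc (fun i =>
      if h : i = i₀ then eqToHom (by rw [h]) ≫ f
      else Sigma.ι (fun i : {i // i ≠ i₀} => X i) ⟨i, h⟩ ≫ g))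
    (fun {T} f g => by
      refine (Cofan.IsColimit.fac hc _ i₀).trans ?_
      rw [dif_pos rfl, eqToHom_refl, Category.id_comp])
    (fun {T} f g => by
      refine Sigma.hom_ext _ _ (fun ⟨i, hi⟩ => ?_)
      refine (Sigma.ι_desc_assoc (f := fun i : {i // i ≠ i₀} => X i) _ ⟨i, hi⟩ _).trans ?_
      refine (Cofan.IsColimit.fac hc _ i).trans ?_
      rw [dif_neg hi])
    (fun {T} f g m h1 h2 => by
      refine Cofan.IsColimit.hom_ext hc _ _ (fun i => ?_)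
      refine Eq.trans ?_ (Cofan.IsColimit.fac hc _ i).symm
      by_cases h : i = i₀
      · subst h
        rw [dif_pos rfl, eqToHom_refl, Category.id_comp]
        exact h1
      · rw [dif_neg h, ← h2]
        exact (Sigma.ι_desc_assoc (f := fun i : {i // i ≠ i₀} => X i)
          (fun i : {i // i ≠ i₀} => c.inj i.1) ⟨i, h⟩ m).symm)

end regroup

end FibConv2
end H9FE
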