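import Mathlib
import Groth.Prelude.Def_FibSite
import Groth.Agent.Lib.Helper5.Misc.FibMap2
import Groth.Agent.Lib.Helper5.Misc.ConjCofan
import Groth.Agent.Lib.Helper9.FE.FibConv1
import Groth.Agent.Lib.Helper9.FE.FibConv2

/-! helper9: for a cartesian functor between fibred sites whose total functor is a morphism of
sites, the inverse image functors of the fibre functors are left exact. -/

set_option autoImplicit false
universe u
open CategoryTheory CategoryTheory.Limits Opposite Pseudofunctor Pseudofunctor.CoGrothendieck Bicategory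
open scoped CategoryTheory.Pseudofunctor.StrongTrans

namespace H9FE
namespace FibConv3

open Groth.Agent.Lib.Helper5.FibTot Groth.Agent.Lib.Helper5.FibRan Groth.Agent.Lib.Helper5.FibMap
open Groth.Agent.Lib.Helper5 FibConv FibConv2

set_option linter.style.haveILetI false
set_option linter.unusedSectionVars false

section general
variable {C D : Type*} [Category C] [Category D] [HasPullbacks C]

theorem preservesPullbacks_of_map_isPullback (T : C ⥤ D)
    (h : ∀ {P₀ P₁ P₂ P₃ : C} {fst : P₀ ⟶ P₁} {snd : P₀ ⟶ P₂} {f : P₁ ⟶ P₃} {g : P₂ ⟶ P₃},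
      IsPullback fst snd f g → IsPullback (T.map fst) (T.map snd) (T.map f) (T.map g)) :
    PreservesLimitsOfShape WalkingCospan T :=
  ⟨fun {K} => by
    haveI : PreservesLimit (cospan (K.map WalkingCospan.Hom.inl)
        (K.map WalkingCospan.Hom.inr)) T := by
      apply preservesLimit_of_preserves_limit_cone (pullbackIsPullback _ _)
      apply (isLimitMapConePullbackConeEquiv _ _).symm _
      exact (h (IsPullback.of_hasPullback _ _)).isLimit
    exact preservesLimit_of_iso_diagram T (diagramIsoCospan K).symm⟩

end general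

section fibreG

variable {𝒮 : Type u} [SmallCategory 𝒮] (G : Pseudofunctor (LocallyDiscrete 𝒮ᵒᵖ) Cat.{u, u})
  (K : FibSite.Topologies G) (S : 𝒮)
  [∀ T : 𝒮, (ι G T).IsContinuous (K T) (FibSite.totalTopology G K)]
  [(ι G S).IsCocontinuous (K S) (FibSite.totalTopology G K)]
  [∀ (R T : 𝒮) (f : R ⟶ T), (FibSite.invImage G f).IsContinuous (K T) (K R)]

/-- pushforward along the identity inverse image is the identity -/
noncomputable def pushIdIso : 𝟭 (Sheaf (K S) (Type u)) ≅ pushG G K S (𝟙 S) :=
  NatIso.ofComponents
    (fun P => (fullyFaithfulSheafToPresheaf (K S) (Type u)).preimageIso (idPushIso G S P.obj).symm)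
    (fun {P Q} φ => by
      apply Sheaf.hom_ext
      ext U x
      change Q.obj.map _ (φ.hom.app U x) = φ.hom.app _ (P.obj.map _ x)
      exact (NatTrans.naturality_apply φ.hom _ x).symm)


/-- inverse image along `g^*` -/
noncomputable abbrev pullG (g : S ⟶ S) : Sheaf (K S) (Type u) ⥤ Sheaf (K S) (Type u) :=
  (FibSite.invImage G g).sheafPullback (Type u) (K S) (K S)

/-- the adjunction `(g^*)^* ⊣ (g^*)_*` -/
noncomputable abbrev adjf (g : S ⟶ S) : pullG G K S g ⊣ pushG G K S g :=
  Functor.sheafAdjunctionContinuous (FibSite.invImage G g) (Type u) (K S) (K S)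

/-- inverse image along the identity inverse image is the identity -/
noncomputable def pullIdIso : pullG G K S (𝟙 S) ≅ 𝟭 (Sheaf (K S) (Type u)) :=
  Adjunction.leftAdjointUniq (adjf G K S (𝟙 S))
    ((Adjunction.id (C := Sheaf (K S) (Type u))).ofNatIsoRight (pushIdIso G K S))

/-- `Σ = restr ∘ extend` -/
noncomputable abbrev Sg : Sheaf (K S) (Type u) ⥤ Sheaf (K S) (Type u) :=
  FibSite.extend G K (Type u) S ⋙ FibSite.restr G K (Type u) S

/-- the adjunction `restr ∘ extend ⊣ restr ∘ coextend` -/
noncomputable abbrev adjSg :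
    Sg G K S ⊣ FibSite.coextend G K (Type u) S ⋙ FibSite.restr G K (Type u) S :=
  (Functor.sheafAdjunctionContinuous (ι G S) (Type u) (K S) (FibSite.totalTopology G K)).comp
    (Functor.sheafAdjunctionCocontinuous (ι G S) (Type u) (K S) (FibSite.totalTopology G K))

/-- the coproduct injections -/
noncomputable abbrev injf (g : S ⟶ S) : pullG G K S g ⟶ Sg G K S :=
  ConjCofan.inj (adjSg G K S) (adjf G K S) (fun f => πNat G K S S f) g

/-- `Σ a` is the coproduct of the `(g^*)^* a` -/
noncomputable def isColimitCofanSg (a : Sheaf (K S) (Type u)) :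
    IsColimit (Cofan.mk ((Sg G K S).obj a) (fun g => (injf G K S g).app a)) :=
  ConjCofan.isColimitCofan (adjSg G K S) (adjf G K S) (fun f => πNat G K S S f)
    (fun b => isLimitFan G K S S b) a


theorem hasCoprodGen {C : Type u} [SmallCategory C] (JC : GrothendieckTopology C) (β : Type u) :
    HasColimitsOfShape (Discrete β) (Sheaf JC (Type u)) :=
  haveI : HasWeakSheafify JC (Type u) := inferInstance
  haveI : HasColimitsOfShape (Discrete β) (Type u) := inferInstance
  Sheaf.instHasColimitsOfShape

instance hasCoproductsSheaf (β : Type u) :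
    HasColimitsOfShape (Discrete β) (Sheaf (K S) (Type u)) := hasCoprodGen (K S) β

/-- the complement of the identity summand -/
noncomputable abbrev Cc (P : Sheaf (K S) (Type u)) : Sheaf (K S) (Type u) :=
  ∐ (fun g : {g : S ⟶ S // g ≠ 𝟙 S} => (pullG G K S g.1).obj P)

noncomputable abbrev rho (P : Sheaf (K S) (Type u)) : Cc G K S P ⟶ (Sg G K S).obj P :=
  Sigma.desc (fun g : {g : S ⟶ S // g ≠ 𝟙 S} => (injf G K S g.1).app P)

noncomputable def isColimitBinary (P : Sheaf (K S) (Type u)) :
    IsColimit (BinaryCofan.mk ((injf G K S (𝟙 S)).app P) (rho G K S P)) :=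
  isColimitBinaryOfCofan (Cofan.mk ((Sg G K S).obj P) (fun g => (injf G K S g).app P))
    (isColimitCofanSg G K S P) (𝟙 S)

noncomputable abbrev Cm {P Q : Sheaf (K S) (Type u)} (f : P ⟶ Q) : Cc G K S P ⟶ Cc G K S Q :=
  Limits.Sigma.map (fun g : {g : S ⟶ S // g ≠ 𝟙 S} => (pullG G K S g.1).map f)

theorem Cm_rho {P Q : Sheaf (K S) (Type u)} (f : P ⟶ Q) :
    Cm G K S f ≫ rho G K S Q = rho G K S P ≫ (Sg G K S).map f := by
  apply Limits.Sigma.hom_ext
  intro g
  rw [Limits.Sigma.ι_map_assoc, Limits.Sigma.ι_desc, Limits.Sigma.ι_desc_assoc]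
  exact (injf G K S g.1).naturality f

end fibreG

section fibre

variable {𝒮 : Type u} [SmallCategory 𝒮] {F G : Pseudofunctor (LocallyDiscrete 𝒮ᵒᵖ) Cat.{u, u}}
  (α : G ⟶ F) (J : FibSite.Topologies F) (K : FibSite.Topologies G) (S : 𝒮)
  [∀ T : 𝒮, (ι G T).IsContinuous (K T) (FibSite.totalTopology G K)]
  [(ι G S).IsCocontinuous (K S) (FibSite.totalTopology G K)]
  [∀ (R T : 𝒮) (f : R ⟶ T), (FibSite.invImage G f).IsContinuous (K T) (K R)]
  [∀ T : 𝒮, (ι F T).IsContinuous (J T) (FibSite.totalTopology F J)]
  [(ι F S).IsCocontinuous (J S) (FibSite.totalTopology F J)]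
  [(map α).IsContinuous (FibSite.totalTopology G K) (FibSite.totalTopology F J)]
  [(α.app ⟨op S⟩).toFunctor.IsContinuous (K S) (J S)]

/-- the inverse image along the fibre functor -/
noncomputable abbrev Lf : Sheaf (K S) (Type u) ⥤ Sheaf (J S) (Type u) :=
  (α.app ⟨op S⟩).toFunctor.sheafPullback (Type u) (K S) (J S)

theorem preservesFiniteLimits_restr_comp
    [PreservesFiniteLimits ((map α).sheafPullback (Type u) (FibSite.totalTopology G K)
      (FibSite.totalTopology F J))] :
    PreservesFiniteLimits (FibSite.restr G K (Type u) S ⋙ Lf α J K S) := by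
  let adj₁ := (Functor.sheafAdjunctionContinuous (map α) (Type u) (FibSite.totalTopology G K)
      (FibSite.totalTopology F J)).comp
      (Functor.sheafAdjunctionCocontinuous (ι F S) (Type u) (J S) (FibSite.totalTopology F J))
  let adj₂ := (Functor.sheafAdjunctionCocontinuous (ι G S) (Type u) (K S)
      (FibSite.totalTopology G K)).comp
      (Functor.sheafAdjunctionContinuous (α.app ⟨op S⟩).toFunctor (Type u) (K S) (J S))
  let e := (conjugateIsoEquiv adj₁ adj₂).symm (asIso (Θ α J K S))
  haveI : PreservesLimits (FibSite.restr F J (Type u) S) :=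
    (Functor.sheafAdjunctionContinuous (ι F S) (Type u) (J S)
      (FibSite.totalTopology F J)).rightAdjoint_preservesLimits
  haveI : PreservesFiniteLimits ((map α).sheafPullback (Type u) (FibSite.totalTopology G K)
      (FibSite.totalTopology F J) ⋙ FibSite.restr F J (Type u) S) :=
    comp_preservesFiniteLimits _ _
  exact preservesFiniteLimits_of_natIso e.symm

theorem preservesFiniteLimits_fibre
    [PreservesFiniteLimits ((map α).sheafPullback (Type u) (FibSite.totalTopology G K)
      (FibSite.totalTopology F J))] :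
    PreservesFiniteLimits (Lf α J K S) := by
  haveI hRL := preservesFiniteLimits_restr_comp α J K S
  haveI hRLc : PreservesLimitsOfShape WalkingCospan
      (FibSite.restr G K (Type u) S ⋙ Lf α J K S) := hRL.preservesFiniteLimits WalkingCospan
  haveI hRLt : PreservesLimitsOfShape (Discrete PEmpty.{1})
      (FibSite.restr G K (Type u) S ⋙ Lf α J K S) := hRL.preservesFiniteLimits _
  haveI hR0 : PreservesLimitsOfSize.{0, 0} (FibSite.restr G K (Type u) S) :=
    (Functor.sheafAdjunctionContinuous (ι G S) (Type u) (K S)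
      (FibSite.totalTopology G K)).rightAdjoint_preservesLimits
  haveI : HasPullbacks (Sheaf (K S) (Type u)) := inferInstance
  haveI : HasPullbacks (Sheaf (FibSite.totalTopology G K) (Type u)) := inferInstance
  haveI : HasTerminal (Sheaf (K S) (Type u)) := inferInstance
  haveI : HasTerminal (Sheaf (FibSite.totalTopology G K) (Type u)) := inferInstance
  haveI : FinitaryExtensive (Sheaf (K S) (Type u)) := SheafOfTypes.finitary_extensive
  haveI : FinitaryExtensive (Sheaf (J S) (Type u)) := SheafOfTypes.finitary_extensive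
  haveI : PreservesColimitsOfShape (Discrete WalkingPair) (Lf α J K S) :=
    (Functor.sheafAdjunctionContinuous (α.app ⟨op S⟩).toFunctor (Type u) (K S)
      (J S)).leftAdjoint_preservesColimits.preservesColimitsOfShape
  haveI : PreservesLimitsOfShape WalkingCospan (pullG G K S (𝟙 S)) :=
    preservesLimitsOfShape_of_natIso (pullIdIso G K S).symm
  -- pullbacks
  haveI hpb : PreservesLimitsOfShape WalkingCospan (pullG G K S (𝟙 S) ⋙ Lf α J K S) := by
    apply preservesPullbacks_of_map_isPullback
    intro P₀ P₁ P₂ P₃ fst snd f g h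
    refine map_isPullback (Lf α J K S) (pullG G K S (𝟙 S)) (Sg G K S) (injf G K S (𝟙 S))
      (Cc G K S) (rho G K S) (isColimitBinary G K S) (fun {P Q} f => Cm G K S f)
      (fun {P Q} f => Cm_rho G K S f) (fun {Q₁ Q₂ Q₃} f g => ?_) h
    haveI hl : HasLimit (cospan ((FibSite.extend G K (Type u) S).map f)
        ((FibSite.extend G K (Type u) S).map g)) :=
      (‹HasPullbacks (Sheaf (FibSite.totalTopology G K) (Type u))› :
        HasLimitsOfShape WalkingCospan _).has_limit _
    haveI : PreservesLimit (cospan ((FibSite.extend G K (Type u) S).map f)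
        ((FibSite.extend G K (Type u) S).map g))
        (FibSite.restr G K (Type u) S ⋙ Lf α J K S) := hRLc.preservesLimit
    haveI : PreservesLimit (cospan ((FibSite.extend G K (Type u) S).map f)
        ((FibSite.extend G K (Type u) S).map g))
        (FibSite.restr G K (Type u) S) :=
      (hR0.preservesLimitsOfShape (J := WalkingCospan)).preservesLimit
    have hp := IsPullback.of_hasPullback ((FibSite.extend G K (Type u) S).map f)
        ((FibSite.extend G K (Type u) S).map g)
    exact ⟨_, _, _, hp.map (FibSite.restr G K (Type u) S),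
      hp.map (FibSite.restr G K (Type u) S ⋙ Lf α J K S)⟩
  haveI : PreservesLimitsOfShape WalkingCospan (Lf α J K S) :=
    preservesLimitsOfShape_of_natIso
      (Functor.isoWhiskerRight (pullIdIso G K S) (Lf α J K S) ≪≫ Functor.leftUnitor _)
  -- the terminal object
  haveI hT : PreservesLimitsOfShape (Discrete PEmpty.{1}) (Lf α J K S) := by
    have t0 : IsTerminal (⊤_ (Sheaf (FibSite.totalTopology G K) (Type u))) := terminalIsTerminal
    haveI : PreservesLimit (Functor.empty.{0} (FibSite.TotSh G K (Type u)))
        (FibSite.restr G K (Type u) S ⋙ Lf α J K S) := hRLt.preservesLimit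
    haveI : PreservesLimit (Functor.empty.{0} (FibSite.TotSh G K (Type u)))
        (FibSite.restr G K (Type u) S) :=
      (hR0.preservesLimitsOfShape (J := Discrete PEmpty.{1})).preservesLimit
    have t1 : IsTerminal ((FibSite.restr G K (Type u) S).obj (⊤_ _)) :=
      t0.isTerminalObj (FibSite.restr G K (Type u) S) _
    have t2 : IsTerminal ((Lf α J K S).obj ((FibSite.restr G K (Type u) S).obj (⊤_ _))) :=
      t0.isTerminalObj (FibSite.restr G K (Type u) S ⋙ Lf α J K S) _
    haveI : PreservesLimit (Functor.empty.{0} (Sheaf (K S) (Type u))) (Lf α J K S) :=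
      preservesLimit_of_preserves_limit_cone t1
        ((isLimitMapConeEmptyConeEquiv (Lf α J K S) _).symm t2)
    exact preservesLimitsOfShape_pempty_of_preservesTerminal _
  exact preservesFiniteLimits_of_preservesTerminal_and_pullbacks _

end fibre

end FibConv3
end H9FE
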