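import Mathlib
import Groth.Prelude.Def_FEt
import Groth.Agent.Lib.Helper9.FE.FiberQuot
import Groth.Agent.Lib.Helper9.FE.CoeqRing
/-! helper9: for an affine base the fibre functor preserves coequalizers. -/

open CategoryTheory CategoryTheory.Limits AlgebraicGeometry MorphismProperty
universe u
set_option linter.style.haveILetI false
set_option linter.unusedSectionVars false
set_option backward.isDefEq.respectTransparency false
namespace H9FE
open H9SF

section FinCoeq

/-- a cofork of finite sets is a colimit when it is the quotient by the generated relation -/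
noncomputable def finIsColimitCoeq (K' : WalkingParallelPair ⥤ FintypeCat.{u}) (c : Cocone K')
    (hsurj : Function.Surjective (c.ι.app WalkingParallelPair.one))
    (hrel : ∀ x y, c.ι.app WalkingParallelPair.one x = c.ι.app WalkingParallelPair.one y →
      Relation.EqvGen (fun x y => ∃ t, K'.map WalkingParallelPairHom.left t = x ∧
        K'.map WalkingParallelPairHom.right t = y) x y) :
    IsColimit c where
  desc s := FintypeCat.homMk (fun z =>
    s.ι.app WalkingParallelPair.one (Classical.choose (hsurj z)))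
  fac s j := by
    have key : ∀ x y, Relation.EqvGen (fun x y => ∃ t, K'.map WalkingParallelPairHom.left t = x ∧
        K'.map WalkingParallelPairHom.right t = y) x y →
        s.ι.app WalkingParallelPair.one x = s.ι.app WalkingParallelPair.one y := by
      intro x y hxy
      induction hxy with
      | rel x y hxy =>
        obtain ⟨t, rfl, rfl⟩ := hxy
        have h1 := ConcreteCategory.congr_hom (s.w WalkingParallelPairHom.left) t
        have h2 := ConcreteCategory.congr_hom (s.w WalkingParallelPairHom.right) t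
        exact h1.trans h2.symm
      | refl x => rfl
      | symm x y _ ih => exact ih.symm
      | trans x y z _ _ ih1 ih2 => exact ih1.trans ih2
    have h1 : c.ι.app WalkingParallelPair.one ≫ FintypeCat.homMk (fun z =>
        s.ι.app WalkingParallelPair.one (Classical.choose (hsurj z))) =
        s.ι.app WalkingParallelPair.one := by
      apply FintypeCat.hom_ext
      intro x
      show s.ι.app WalkingParallelPair.one
        (Classical.choose (hsurj (c.ι.app WalkingParallelPair.one x))) = _
      exact key _ _ (hrel _ _ (Classical.choose_spec (hsurj (c.ι.app WalkingParallelPair.one x))))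
    cases j
    · rw [← c.w WalkingParallelPairHom.left, ← s.w WalkingParallelPairHom.left, Category.assoc]
      exact congrArg (K'.map WalkingParallelPairHom.left ≫ ·) h1
    · exact h1
  uniq s m hm := by
    apply FintypeCat.hom_ext
    intro z
    have h1 := Classical.choose_spec (hsurj z)
    have h2 := ConcreteCategory.congr_hom (hm WalkingParallelPair.one) (Classical.choose (hsurj z))
    show m z = s.ι.app WalkingParallelPair.one (Classical.choose (hsurj z))
    refine Eq.trans ?_ h2
    show m z = m (c.ι.app WalkingParallelPair.one (Classical.choose (hsurj z)))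
    rw [h1]

end FinCoeq



section AffCoeq
variable {S : Scheme.{u}} [IsAffine S]
  (D : WalkingParallelPair ⥤ FEt.Cat S) (c : Cocone D) (hc : IsColimit c)

/-- the diagram of algebras -/
noncomputable abbrev PD : WalkingParallelPairᵒᵖ ⥤ Under Γ(S, ⊤) := (D ⋙ toAH S).op ⋙ ΓUnder S

/-- the limit cone of algebras attached to the colimit cocone -/
noncomputable abbrev ℓp : Cone (PD D) := (ΓUnder S).mapCone ((toAH S).mapCocone c).op

include hc in
theorem ℓp_isLimit : Nonempty (IsLimit (ℓp D c)) := by
  haveI := toAH_preservesColimitsOfShape (X := S) (J := WalkingParallelPair) limFE_parallelPair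
  exact ⟨isLimitOfPreserves (ΓUnder S) (isColimitOfPreserves (toAH S) hc).op⟩

/-- the quotient map on global sections factors through the equalizer -/
theorem appTop_eq_p (h : IsLimit (ℓp D c)) :
    ((c.ι.app WalkingParallelPair.one).left.appTop :
      Γ(c.pt.left, ⊤) ⟶ Γ((D.obj WalkingParallelPair.one).left, ⊤)) =
      (h.conePointUniqueUpToIso (eqConeIsLimit (PD D))).hom.right ≫
        (eqProj (PD D) (Opposite.op WalkingParallelPair.one)).right := by
  have h1 := h.conePointUniqueUpToIso_hom_comp (eqConeIsLimit (PD D))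
    (Opposite.op WalkingParallelPair.one)
  exact (congrArg (fun k => k.right) h1).symm

include hc in
theorem appTop_injective_p :
    Function.Injective (c.ι.app WalkingParallelPair.one).left.appTop.hom := by
  obtain ⟨h⟩ := ℓp_isLimit D c hc
  rw [appTop_eq_p D c h, CommRingCat.hom_comp]
  intro a b hab
  apply (ConcreteCategory.bijective_of_isIso
      (h.conePointUniqueUpToIso (eqConeIsLimit (PD D))).hom.right).1
  apply Subtype.ext
  let x : fixedSub (Keq (PD D)) :=
    (h.conePointUniqueUpToIso (eqConeIsLimit (PD D))).hom.right.hom a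
  let y : fixedSub (Keq (PD D)) :=
    (h.conePointUniqueUpToIso (eqConeIsLimit (PD D))).hom.right.hom b
  have hx' := (mem_fixedSub_eqσ _ _ _).mp x.2
  have hy' := (mem_fixedSub_eqσ _ _ _).mp y.2
  have h1 : (x : KB (PD D) × KC (PD D)).1 = (y : KB (PD D) × KC (PD D)).1 := hab
  show (x : KB (PD D) × KC (PD D)) = (y : KB (PD D) × KC (PD D))
  apply Prod.ext h1
  rw [← hx'.1, ← hy'.1, h1]

include hc in
theorem exists_appTop_eq_p (b : KB (PD D))
    (hb : Karr (PD D) WalkingParallelPairHom.left b = Karr (PD D) WalkingParallelPairHom.right b) :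
    ∃ l : Γ(c.pt.left, ⊤), (c.ι.app WalkingParallelPair.one).left.appTop.hom l = b := by
  obtain ⟨h⟩ := ℓp_isLimit D c hc
  have hmem : ((b, Karr (PD D) WalkingParallelPairHom.left b) : KB (PD D) × KC (PD D)) ∈
      fixedSub (Keq (PD D)) := by
    rw [mem_fixedSub_eqσ]
    exact ⟨rfl, hb.symm⟩
  obtain ⟨l, hl⟩ := (ConcreteCategory.bijective_of_isIso
      (h.conePointUniqueUpToIso (eqConeIsLimit (PD D))).hom.right).2 ⟨_, hmem⟩
  refine ⟨l, ?_⟩
  rw [appTop_eq_p D c h, CommRingCat.hom_comp]
  show (eqProj (PD D) (Opposite.op WalkingParallelPair.one)).right.hom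
    ((h.conePointUniqueUpToIso (eqConeIsLimit (PD D))).hom.right.hom l) = b
  rw [hl]
  rfl

end AffCoeq



section AffCoeq2
variable {S : Scheme.{u}} [IsAffine S]
  {Ω : Type u} [Field Ω] [IsAlgClosed Ω] (ξ : Spec (CommRingCat.of Ω) ⟶ S)
  (D : WalkingParallelPair ⥤ FEt.Cat S) (c : Cocone D) (hc : IsColimit c)

include hc in
theorem fib_surj_p (t : Spec (CommRingCat.of Ω) ⟶ c.pt.left) (ht : t ≫ c.pt.hom = ξ) :
    ∃ s : Spec (CommRingCat.of Ω) ⟶ (D.obj WalkingParallelPair.one).left,
      s ≫ (c.ι.app WalkingParallelPair.one).left = t := by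
  let R : CommRingCat.{u} := Γ(S, ⊤)
  let Y := D.obj WalkingParallelPair.one
  haveI : IsAffine Y.left := isAffine_left ((toAH S).obj Y)
  haveI : IsAffine c.pt.left := isAffine_left ((toAH S).obj c.pt)
  letI : Algebra R Ω := (homOfPt ξ).hom.toAlgebra
  let L : Type u := Γ(c.pt.left, ⊤)
  letI : Algebra R L := c.pt.hom.appTop.hom.toAlgebra
  have hY := isFE_of_fet Y
  have hL := isFE_of_fet c.pt
  haveI : Module.Finite R (KB (PD D)) := hY.1
  haveI : Algebra.Etale R (KB (PD D)) := RingHom.etale_algebraMap.mp hY.2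
  haveI : Module.Finite R L := hL.1
  haveI : Algebra.Etale R L := RingHom.etale_algebraMap.mp hL.2
  let f : L →ₐ[R] KB (PD D) :=
    { (c.ι.app WalkingParallelPair.one).left.appTop.hom with
      commutes' := fun r => by
        have h := congrArg Scheme.Hom.appTop (Over.w (c.ι.app WalkingParallelPair.one).hom)
        rw [Scheme.Hom.comp_appTop] at h
        exact congrArg (fun k => k.hom r) h }
  have hf : Function.Injective f := appTop_injective_p D c hc
  let ψ : L →ₐ[R] Ω :=
    { (homOfPt t).hom with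
      commutes' := fun r => by
        have h := homOfPt_comp t c.pt.hom
        rw [ht] at h
        exact (congrArg (fun k => k.hom r) h).symm }
  obtain ⟨ψ', hψ'⟩ := exists_pt_extension f hf ψ
  refine ⟨ptOfHom Y.left (CommRingCat.ofHom ψ'.toRingHom), ?_⟩
  refine pt_ext (A := c.pt.left) _ _ ?_
  rw [homOfPt_comp, homOfPt_ptOfHom]
  apply CommRingCat.hom_ext
  apply RingHom.ext
  intro l
  exact AlgHom.congr_fun hψ' l

end AffCoeq2



section AffCoeq3
variable {S : Scheme.{u}} [IsAffine S]
  {Ω : Type u} [Field Ω] [IsAlgClosed Ω] (ξ : Spec (CommRingCat.of Ω) ⟶ S)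
  (D : WalkingParallelPair ⥤ FEt.Cat S) (c : Cocone D) (hc : IsColimit c)

theorem ptOfHom_homOfPt {A : Scheme.{u}} [IsAffine A] (s : Spec (CommRingCat.of Ω) ⟶ A) :
    ptOfHom A (homOfPt s) = s :=
  pt_ext _ _ (homOfPt_ptOfHom A (homOfPt s))

include hc in
theorem fib_rel_p (s s' : FEt.fiberObj ξ (D.obj WalkingParallelPair.one))
    (h : s.1 ≫ (c.ι.app WalkingParallelPair.one).left =
      s'.1 ≫ (c.ι.app WalkingParallelPair.one).left) :
    Relation.EqvGen (fun x y : FEt.fiberObj ξ (D.obj WalkingParallelPair.one) =>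
      ∃ t : FEt.fiberObj ξ (D.obj WalkingParallelPair.zero),
        (FEt.fiber ξ).map (D.map WalkingParallelPairHom.left) t = x ∧
        (FEt.fiber ξ).map (D.map WalkingParallelPairHom.right) t = y) s s' := by
  let R : CommRingCat.{u} := Γ(S, ⊤)
  let Y₁ := D.obj WalkingParallelPair.one
  let Y₀ := D.obj WalkingParallelPair.zero
  haveI : IsAffine Y₁.left := isAffine_left ((toAH S).obj Y₁)
  haveI : IsAffine Y₀.left := isAffine_left ((toAH S).obj Y₀)
  letI : Algebra R Ω := (homOfPt ξ).hom.toAlgebra
  have h1 := isFE_of_fet Y₁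
  have h0 := isFE_of_fet Y₀
  haveI : Module.Finite R (KB (PD D)) := h1.1
  haveI : Algebra.Etale R (KB (PD D)) := RingHom.etale_algebraMap.mp h1.2
  haveI : Module.Finite R (KC (PD D)) := h0.1
  haveI : Algebra.Etale R (KC (PD D)) := RingHom.etale_algebraMap.mp h0.2
  let βof : FEt.fiberObj ξ Y₁ → (KB (PD D) →ₐ[R] Ω) := fun s =>
    { (homOfPt s.1).hom with
      commutes' := fun r => by
        have h := homOfPt_comp s.1 Y₁.hom
        rw [s.2] at h
        exact (congrArg (fun k => k.hom r) h).symm }
  have hover : ∀ (Y : FEt.Cat S) [IsAffine Y.left] (β : Γ(Y.left, ⊤) →+* Ω),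
      (∀ r : R, β (Y.hom.appTop.hom r) = algebraMap R Ω r) →
      ptOfHom Y.left (CommRingCat.ofHom β) ≫ Y.hom = ξ := by
    intro Y _ β hβ
    refine pt_ext (A := S) _ _ ?_
    rw [homOfPt_comp, homOfPt_ptOfHom]
    apply CommRingCat.hom_ext
    apply RingHom.ext
    intro r
    exact hβ r
  let Φ : (KB (PD D) →ₐ[R] Ω) → FEt.fiberObj ξ Y₁ := fun β =>
    ⟨ptOfHom Y₁.left (CommRingCat.ofHom β.toRingHom), hover Y₁ β.toRingHom (fun r => β.commutes r)⟩
  have hΦ : ∀ s, Φ (βof s) = s := fun s => Subtype.ext (ptOfHom_homOfPt s.1)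
  have hz := coeq_zigzag (Karr (PD D) WalkingParallelPairHom.left)
    (Karr (PD D) WalkingParallelPairHom.right) (βof s) (βof s') (by
      intro b hb
      obtain ⟨l, rfl⟩ := exists_appTop_eq_p D c hc b hb
      have e1 := homOfPt_comp s.1 (c.ι.app WalkingParallelPair.one).left
      have e2 := homOfPt_comp s'.1 (c.ι.app WalkingParallelPair.one).left
      rw [h] at e1
      exact congrArg (fun k => k.hom l) (e1.symm.trans e2))
  have hfin := eqvGen_map (r' := fun x y : FEt.fiberObj ξ Y₁ =>
      ∃ t : FEt.fiberObj ξ Y₀,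
        (FEt.fiber ξ).map (D.map WalkingParallelPairHom.left) t = x ∧
        (FEt.fiber ξ).map (D.map WalkingParallelPairHom.right) t = y) Φ ?_ hz
  · rwa [hΦ, hΦ] at hfin
  · rintro β β' ⟨γ, rfl, rfl⟩
    refine Relation.EqvGen.rel _ _ ⟨⟨ptOfHom Y₀.left (CommRingCat.ofHom γ.toRingHom),
      hover Y₀ γ.toRingHom (fun r => γ.commutes r)⟩, ?_, ?_⟩
    · apply Subtype.ext
      refine pt_ext (A := Y₁.left) _ _ ?_
      show homOfPt (ptOfHom Y₀.left (CommRingCat.ofHom γ.toRingHom) ≫
        (D.map WalkingParallelPairHom.left).left) = homOfPt (ptOfHom Y₁.left _)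
      rw [homOfPt_comp, homOfPt_ptOfHom, homOfPt_ptOfHom]
      rfl
    · apply Subtype.ext
      refine pt_ext (A := Y₁.left) _ _ ?_
      show homOfPt (ptOfHom Y₀.left (CommRingCat.ofHom γ.toRingHom) ≫
        (D.map WalkingParallelPairHom.right).left) = homOfPt (ptOfHom Y₁.left _)
      rw [homOfPt_comp, homOfPt_ptOfHom, homOfPt_ptOfHom]
      rfl

end AffCoeq3



section AffCoeq4
variable {S : Scheme.{u}} [IsAffine S]
  {Ω : Type u} [Field Ω] [IsAlgClosed Ω] (ξ : Spec (CommRingCat.of Ω) ⟶ S)

theorem fiberFin_preservesCoeq_affine :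
    PreservesColimitsOfShape WalkingParallelPair (fiberFin ξ) := by
  refine ⟨fun {D} => ⟨fun {c} hc => ⟨?_⟩⟩⟩
  refine finIsColimitCoeq (D ⋙ fiberFin ξ) ((fiberFin ξ).mapCocone c) ?_ ?_
  · intro t
    obtain ⟨s, hs⟩ := fib_surj_p ξ D c hc t.1 t.2
    refine ⟨⟨s, ?_⟩, Subtype.ext hs⟩
    have h := Over.w (c.ι.app WalkingParallelPair.one).hom
    rw [← t.2, ← hs, Category.assoc]
    exact congrArg (s ≫ ·) h.symm
  · intro x y hxy
    exact fib_rel_p ξ D c hc x y (congrArg Subtype.val hxy)

end AffCoeq4


end H9FE
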