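import Mathlib
import Groth.Prelude.Def_FEt
import Groth.Agent.Lib.Helper9.FE.EqRing
import Groth.Agent.Lib.Helper9.FE.Coprod
/-! helper9: finite colimits of finite étale covers exist. -/

open CategoryTheory CategoryTheory.Limits AlgebraicGeometry MorphismProperty
universe u
namespace H9FE


theorem hasCoequalizers_fet (X : Scheme.{u}) : HasCoequalizers (FEt.Cat X) :=
  hasColimitsOfShape_fet (J := WalkingParallelPair) limFE_parallelPair

theorem hasFiniteColimits_fet (X : Scheme.{u}) : HasFiniteColimits (FEt.Cat X) := by
  haveI := hasCoequalizers_fet X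
  exact hasFiniteColimits_of_hasCoequalizers_and_finite_coproducts


end H9FE
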