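import Mathlib
import Groth.Prelude.Def_FEt
import Groth.Agent.Lib.Helper9.FE.FiberCoeq
import Groth.Agent.Lib.Helper9.FE.FiberQuotGen
import Groth.Agent.Lib.Helper9.FE.FiberCoprod
import Groth.Agent.Lib.Helper9.FE.FinColim
/-! helper9: the fibre functor preserves finite colimits. -/

open CategoryTheory CategoryTheory.Limits AlgebraicGeometry MorphismProperty
universe u
set_option linter.style.haveILetI false
set_option linter.unusedSectionVars false
set_option backward.isDefEq.respectTransparency false
namespace H9FE
open H9SF

variable {X : Scheme.{u}} {Ω : Type u} [Field Ω] [IsAlgClosed Ω]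
  (ξ : Spec (CommRingCat.of Ω) ⟶ X)

theorem fiberFin_preservesCoeq : PreservesColimitsOfShape WalkingParallelPair (fiberFin ξ) := by
  obtain ⟨U, ξ', rfl⟩ := exists_affine_factor ξ
  haveI : IsAffine (U.1 : Scheme.{u}) := U.2
  haveI := restrict_preservesColimitsOfShape (J := WalkingParallelPair) limFE_parallelPair U
  haveI := fiberFin_preservesCoeq_affine ξ'
  exact preservesColimitsOfShape_of_natIso (fiberFinRestrictIso U.1.ι ξ')

theorem fiberFin_preservesFiniteColimits : PreservesFiniteColimits (fiberFin ξ) := by
  haveI := hasFiniteColimits_fet X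
  haveI := fiberFin_preservesCoeq ξ
  haveI := fiberFin_preservesFiniteCoproducts ξ
  exact preservesFiniteColimits_of_preservesCoequalizers_and_finiteCoproducts (fiberFin ξ)

theorem fiber_preservesFiniteColimits : PreservesFiniteColimits (FEt.fiber ξ) := by
  haveI := fiberFin_preservesFiniteColimits ξ
  haveI : PreservesFiniteColimits (fiberFin ξ ⋙ FintypeCat.incl) := inferInstance
  exact preservesFiniteColimits_of_natIso (fiberFinIso ξ)


end H9FE
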