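import Mathlib
import Groth.Prelude.Def_FEt
import Groth.Agent.Lib.Helper9.FE.Galois
import Groth.Agent.Lib.Helper9.FE.GalKrull
import Groth.Agent.Lib.Helper9.FE.FieldFiber
/-! helper9: the Galois action on geometric fibres over a field is continuous -/

open CategoryTheory CategoryTheory.Limits AlgebraicGeometry MorphismProperty
universe u
set_option linter.style.haveILetI false
set_option linter.unusedSectionVars false
set_option backward.isDefEq.respectTransparency false
namespace H9FE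
open H9SF

section Cont
variable {K : Type u} [Field K] {Ω : Type u} [Field Ω] [Algebra K Ω]

theorem homOfPt_specMap_comp {A : Scheme.{u}} (φ : CommRingCat.of Ω ⟶ CommRingCat.of Ω)
    (s : Spec (CommRingCat.of Ω) ⟶ A) :
    homOfPt (Spec.map φ ≫ s) = homOfPt s ≫ φ := by
  simp [homOfPt]

theorem homOfPt_ptK : homOfPt (ptK K Ω) =
    (Scheme.ΓSpecIso (CommRingCat.of K)).hom ≫ CommRingCat.ofHom (algebraMap K Ω) := by
  simp [homOfPt, ptK]

theorem isAffine_fet_left {S : Scheme.{u}} [IsAffine S] (Y : FEt.Cat S) : IsAffine Y.left := by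
  haveI : IsFinite Y.hom := Y.prop.1
  exact @isAffine_of_isAffineHom Y.left S Y.hom inferInstance ‹_›

theorem mem_stabilizer_iff (Y : FEt.Cat (Spec (CommRingCat.of K)))
    (s : FEt.fiberObj (ptK K Ω) Y) (σ : Ω ≃ₐ[K] Ω) :
    σ ∈ MulAction.stabilizer (Ω ≃ₐ[K] Ω) s ↔
      ∀ b : Γ(Y.left, ⊤), σ ((homOfPt s.1).hom b) = (homOfPt s.1).hom b := by
  haveI := isAffine_fet_left Y
  rw [MulAction.mem_stabilizer_iff, Subtype.ext_iff, smul_val]
  constructor
  · intro h b
    have h2 := congrArg homOfPt h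
    rw [galPt, homOfPt_specMap_comp] at h2
    exact congrArg (fun f => f.hom b) h2
  · intro h
    apply pt_ext
    rw [galPt, homOfPt_specMap_comp]
    ext b
    exact h b

theorem homOfPt_appTop_apply (Y : FEt.Cat (Spec (CommRingCat.of K)))
    (s : FEt.fiberObj (ptK K Ω) Y) (r : Γ(Spec (CommRingCat.of K), ⊤)) :
    (homOfPt s.1).hom (Y.hom.appTop.hom r) =
      algebraMap K Ω ((Scheme.ΓSpecIso (CommRingCat.of K)).hom.hom r) := by
  have h1 : homOfPt (s.1 ≫ Y.hom) = homOfPt (ptK K Ω) := congrArg homOfPt s.2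
  rw [homOfPt_comp, homOfPt_ptK] at h1
  exact congrArg (fun f => f.hom r) h1

theorem stabilizer_isOpen [Algebra.IsIntegral K Ω] (Y : FEt.Cat (Spec (CommRingCat.of K)))
    (s : FEt.fiberObj (ptK K Ω) Y) :
    IsOpen (MulAction.stabilizer (Ω ≃ₐ[K] Ω) s : Set (Ω ≃ₐ[K] Ω)) := by
  haveI := isAffine_fet_left Y
  have hfin : (Y.hom.appTop).hom.Finite := (isFE_of_fet Y).1
  let β : Γ(Y.left, ⊤) →+* Ω := (homOfPt s.1).hom
  letI : Algebra Γ(Spec (CommRingCat.of K), ⊤) Γ(Y.left, ⊤) := (Y.hom.appTop).hom.toAlgebra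
  haveI : Module.Finite Γ(Spec (CommRingCat.of K), ⊤) Γ(Y.left, ⊤) := hfin
  obtain ⟨t, ht⟩ := (Module.finite_def.mp this : (⊤ : Submodule _ _).FG)
  let V : Set (Ω ≃ₐ[K] Ω) := ⋂ b ∈ t, (MulAction.stabilizer (Ω ≃ₐ[K] Ω) (β b) : Set _)
  have hV : IsOpen V := isOpen_biInter_finset (fun b _ => stabilizer_isOpen_of_isIntegral (β b))
  have h1V : (1 : Ω ≃ₐ[K] Ω) ∈ V := by
    simp only [V, Set.mem_iInter]
    intro b _
    exact one_mem _
  have hsub : V ⊆ (MulAction.stabilizer (Ω ≃ₐ[K] Ω) s : Set (Ω ≃ₐ[K] Ω)) := by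
    intro σ hσ
    simp only [V, Set.mem_iInter] at hσ
    rw [SetLike.mem_coe, mem_stabilizer_iff]
    intro b
    have hb : b ∈ Submodule.span Γ(Spec (CommRingCat.of K), ⊤) (t : Set Γ(Y.left, ⊤)) := by
      rw [ht]; trivial
    induction hb using Submodule.span_induction with
    | mem x hx => exact hσ x hx
    | zero => simp
    | add x y _ _ hx hy => rw [map_add, map_add, hx, hy]
    | smul r x _ hx =>
      rw [Algebra.smul_def, map_mul, map_mul, hx]
      congr 1
      show σ ((homOfPt s.1).hom (Y.hom.appTop.hom r)) = (homOfPt s.1).hom (Y.hom.appTop.hom r)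
      rw [homOfPt_appTop_apply]
      exact σ.commutes _
  exact Subgroup.isOpen_of_mem_nhds _ (Filter.mem_of_superset (hV.mem_nhds h1V) hsub)

open scoped FintypeCatDiscrete in
instance fiberFin_continuousSMul [Algebra.IsIntegral K Ω]
    (Y : FEt.Cat (Spec (CommRingCat.of K))) :
    ContinuousSMul (Ω ≃ₐ[K] Ω) ((fiberFin (ptK K Ω)).obj Y) := by
  rw [continuousSMul_iff_stabilizer_isOpen]
  intro s
  exact stabilizer_isOpen Y s

end Cont


end H9FE
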