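import Mathlib
import Groth.Prelude.Def_FEt
import Groth.Agent.Lib.Helper9.FE.Galois
import Groth.Agent.Lib.Helper9.FE.GalKrull
import Groth.Agent.Lib.Helper9.FE.FieldFiber
/-! helper9: the Galois action on geometric fibres over a field is faithful -/

open CategoryTheory CategoryTheory.Limits AlgebraicGeometry MorphismProperty
universe u
set_option linter.style.haveILetI false
set_option linter.unusedSectionVars false
set_option backward.isDefEq.respectTransparency false
namespace H9FE
open H9SF

section NonTriv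
variable (K : Type u) [Field K] {Ω : Type u} [Field Ω] [Algebra K Ω]

/-- the finite étale cover of `Spec K` attached to a finite étale `K`-algebra -/
noncomputable def fetOfAlg (E : Type u) [CommRing E] [Algebra K E] [Module.Finite K E]
    [Algebra.Etale K E] : FEt.Cat (Spec (CommRingCat.of K)) :=
  MorphismProperty.Over.mk ⊤ (Spec.map (CommRingCat.ofHom (algebraMap K E)))
    ⟨(IsFinite.SpecMap_iff _).mpr (RingHom.finite_algebraMap.mpr inferInstance),
      (HasRingHomProperty.Spec_iff (P := @Etale)).mpr (RingHom.etale_algebraMap.mpr inferInstance)⟩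

variable {K}

/-- the point of the fibre attached to an algebra map -/
noncomputable def ptOfAlgHom {E : Type u} [CommRing E] [Algebra K E] [Module.Finite K E]
    [Algebra.Etale K E] (ι : E →ₐ[K] Ω) : FEt.fiberObj (ptK K Ω) (fetOfAlg K E) :=
  ⟨Spec.map (CommRingCat.ofHom (ι : E →+* Ω)), by
    show Spec.map _ ≫ Spec.map _ = _
    rw [← Spec.map_comp]
    congr 1
    ext x
    exact ι.commutes x⟩

theorem smul_ptOfAlgHom {E : Type u} [CommRing E] [Algebra K E] [Module.Finite K E]
    [Algebra.Etale K E] (ι : E →ₐ[K] Ω) (σ : Ω ≃ₐ[K] Ω) :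
    σ • ptOfAlgHom ι = ptOfAlgHom ((σ : Ω →ₐ[K] Ω).comp ι) := by
  apply Subtype.ext
  show galPt σ ≫ Spec.map _ = Spec.map _
  rw [galPt, ← Spec.map_comp]
  rfl

theorem ptOfAlgHom_injective {E : Type u} [CommRing E] [Algebra K E] [Module.Finite K E]
    [Algebra.Etale K E] (ι ι' : E →ₐ[K] Ω) (h : ptOfAlgHom ι = ptOfAlgHom ι') : ι = ι' := by
  have h1 : Spec.map (CommRingCat.ofHom (ι : E →+* Ω)) = Spec.map (CommRingCat.ofHom (ι' : E →+* Ω)) :=
    congrArg Subtype.val h
  have h2 := Spec.map_injective h1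
  ext x
  exact congrArg (fun f => f.hom x) h2

open IntermediateField in
theorem apply_eq_of_isSeparable (σ : Ω ≃ₐ[K] Ω)
    (h : ∀ (Y : FEt.Cat (Spec (CommRingCat.of K))) (s : FEt.fiberObj (ptK K Ω) Y), σ • s = s)
    (x : Ω) (hx : IsSeparable K x) : σ x = x := by
  let E : IntermediateField K Ω := K⟮x⟯
  haveI : FiniteDimensional K E := adjoin.finiteDimensional hx.isIntegral
  haveI : Algebra.IsSeparable K E := (isSeparable_adjoin_simple_iff_isSeparable K Ω).mpr hx
  haveI : Algebra.FormallyEtale K E := Algebra.FormallyEtale.of_isSeparable K E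
  haveI : Algebra.FinitePresentation K E :=
    Algebra.FinitePresentation.of_finiteType.mp inferInstance
  haveI : Algebra.Etale K E := ⟨inferInstance, inferInstance⟩
  have h1 := h (fetOfAlg K E) (ptOfAlgHom E.val)
  rw [smul_ptOfAlgHom] at h1
  have h2 := ptOfAlgHom_injective _ _ h1
  exact congrArg (fun f => f ⟨x, mem_adjoin_simple_self K x⟩) h2

theorem eq_one_of_smul_eq [Algebra.IsAlgebraic K Ω] (σ : Ω ≃ₐ[K] Ω)
    (h : ∀ (Y : FEt.Cat (Spec (CommRingCat.of K))) (s : FEt.fiberObj (ptK K Ω) Y), σ • s = s) :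
    σ = 1 := by
  have h1 : ((σ : Ω →ₐ[K] Ω) : Ω →+* Ω).comp (algebraMap (separableClosure K Ω) Ω) =
      (RingHom.id Ω).comp (algebraMap (separableClosure K Ω) Ω) := by
    ext ⟨x, hx⟩
    exact apply_eq_of_isSeparable σ h x (mem_separableClosure_iff.mp hx)
  have h2 := IsPurelyInseparable.injective_comp_algebraMap (separableClosure K Ω) Ω Ω h1
  ext x
  exact congrArg (fun f => f x) h2

end NonTriv


end H9FE
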