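import Mathlib
import Groth.Prelude.Def_FEt
import Groth.Agent.Lib.Helper9.FE.FiberColim
import Groth.Agent.Lib.Helper9.FE.FiberJoint
/-! helper9: base change of finite étale covers preserves finite colimits. -/

open CategoryTheory CategoryTheory.Limits AlgebraicGeometry MorphismProperty
universe u
set_option linter.style.haveILetI false
set_option linter.unusedSectionVars false
set_option backward.isDefEq.respectTransparency false
namespace H9FE
open H9SF

variable {X X' : Scheme.{u}} (f : X' ⟶ X)

theorem restrict_preservesColimit {J : Type} [SmallCategory J] [FinCategory J]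
    (D : J ⥤ FEt.Cat X) : PreservesColimit D (FEt.restrict f) := by
  haveI := hasFiniteColimits_fet X'
  refine ⟨fun {c} hc => ⟨?_⟩⟩
  let P := colimit.isColimit (D ⋙ FEt.restrict f)
  let m := P.desc ((FEt.restrict f).mapCocone c)
  haveI : IsIso m := by
    apply isIso_of_forall_fiber_bijective
    intro Ω _ _ ξ'
    haveI := fiber_preservesFiniteColimits ξ'
    haveI := fiber_preservesFiniteColimits (ξ' ≫ f)
    haveI : PreservesFiniteColimits (FEt.restrict f ⋙ FEt.fiber ξ') :=
      preservesFiniteColimits_of_natIso (fiberRestrictIso f ξ').symm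
    have h1 : IsColimit ((FEt.fiber ξ').mapCocone (colimit.cocone (D ⋙ FEt.restrict f))) :=
      isColimitOfPreserves _ P
    have h2 : IsColimit ((FEt.fiber ξ').mapCocone ((FEt.restrict f).mapCocone c)) :=
      isColimitOfPreserves (FEt.restrict f ⋙ FEt.fiber ξ') hc
    have h3 : (FEt.fiber ξ').map m = (h1.coconePointUniqueUpToIso h2).hom := by
      apply h1.hom_ext
      intro j
      rw [IsColimit.comp_coconePointUniqueUpToIso_hom]
      show (FEt.fiber ξ').map _ ≫ (FEt.fiber ξ').map m = (FEt.fiber ξ').map _
      rw [← Functor.map_comp]
      congr 1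
      exact P.fac _ j
    rw [h3]
    exact ConcreteCategory.bijective_of_isIso _
  exact IsColimit.ofPointIso P

theorem restrict_preservesFiniteColimits : PreservesFiniteColimits (FEt.restrict f) where
  preservesFiniteColimits _ _ _ := ⟨fun {D} => restrict_preservesColimit f D⟩


end H9FE
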