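import Mathlib
import Groth.Prelude.Def_FEt
import Groth.Agent.Lib.Helper9.FE.SplitGalois
import Groth.Agent.Lib.Helper9.FE.RestrictColim
import Groth.Agent.Lib.Helper9.FE.FiberIso
import Groth.Agent.Lib.Helper9.FE.FieldFiberNonTriv
import Groth.Agent.Lib.Helper9.FE.ClopenCrit
/-! helper9: connected covers as connected objects; quotients of a base-changed Galois cover;
the Galois action on `X ×_k Spec M` is transitive on geometric fibres. -/

open CategoryTheory CategoryTheory.Limits AlgebraicGeometry MorphismProperty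
universe u
set_option linter.style.haveILetI false
set_option linter.unusedSectionVars false
set_option backward.isDefEq.respectTransparency false
namespace H9FE
open H9SF

section Conn
variable {S : Scheme.{u}} [ConnectedSpace S]

/-- a finite étale cover with connected total space is a connected object -/
theorem isConnected_of_connectedSpace (A : FEt.Cat S) [ConnectedSpace A.left] :
    PreGaloisCategory.IsConnected A := by
  obtain ⟨z⟩ := (inferInstance : Nonempty A.left)
  obtain ⟨Ω, _, _, t, -⟩ := exists_geomPt A.left z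
  let ξ : Spec (CommRingCat.of Ω) ⟶ S := t ≫ A.hom
  haveI : GaloisCategory (FEt.Cat S) := ⟨⟨fiberFin ξ, ⟨fiberFunctor_fiberFin ξ⟩⟩⟩
  refine ⟨PreGaloisCategory.not_initial_of_inhabited (fiberFin ξ) (⟨t, rfl⟩ : FEt.fiberObj ξ A), ?_⟩
  intro Y i _ hY
  apply isIso_of_mono_of_surjective
  have hcl : IsClopen (Set.range i.left) := isClopen_range i.left
  rcases isClopen_iff.mp hcl with h | h
  · exfalso
    apply hY
    haveI : IsEmpty Y.left := ⟨fun y => by
      have : i.left y ∈ Set.range i.left := ⟨y, rfl⟩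
      rw [h] at this
      exact this⟩
    refine IsInitial.ofUniqueHom (fun W => MorphismProperty.Over.homMk
      ((isInitialOfIsEmpty (X := Y.left)).to W.left) (isInitialOfIsEmpty.hom_ext _ _) trivial) ?_
    intro W m
    apply MorphismProperty.Over.Hom.ext
    exact isInitialOfIsEmpty.hom_ext _ _
  · intro x
    have : x ∈ Set.range i.left := by rw [h]; trivial
    exact this

end Conn


section Quot
variable {S₀ X : Scheme.{u}} (f : X ⟶ S₀) [ConnectedSpace X]

/-- Let `P₀` be a cover of `S₀` with an action of a finite group `G`, whose base change `P` to `X`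
is connected with `G` transitive on its geometric fibres. Then every cover of `X` receiving a
surjection from `P` is the base change of a cover of `S₀` (a quotient of `P₀`). -/
theorem exists_quotient_iso (P₀ : FEt.Cat S₀) {G : Type u} [Group G] [Finite G]
    (ρ : G →* End P₀) [PreGaloisCategory.IsConnected ((FEt.restrict f).obj P₀)]
    (htrans : ∀ (Ω : Type u) [Field Ω] [IsAlgClosed Ω] (ξ : Spec (CommRingCat.of Ω) ⟶ X)
      (a b : FEt.fiberObj ξ ((FEt.restrict f).obj P₀)),
      ∃ τ : G, b.1 = a.1 ≫ ((FEt.restrict f).map (ρ τ)).left)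
    (X' : FEt.Cat X) (gP : (FEt.restrict f).obj P₀ ⟶ X') (hsurj : Function.Surjective gP.left) :
    ∃ Q : FEt.Cat S₀, Nonempty ((FEt.restrict f).obj Q ≅ X') := by
  -- the stabiliser of `gP`
  let H : Subgroup G :=
    { carrier := {τ | (FEt.restrict f).map (ρ τ) ≫ gP = gP}
      one_mem' := by
        show (FEt.restrict f).map (ρ 1) ≫ gP = gP
        rw [map_one]
        exact (congrArg (· ≫ gP) ((FEt.restrict f).map_id P₀)).trans (Category.id_comp _)
      mul_mem' := by
        intro a b (ha : (FEt.restrict f).map (ρ a) ≫ gP = gP)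
          (hb : (FEt.restrict f).map (ρ b) ≫ gP = gP)
        show (FEt.restrict f).map (ρ (a * b)) ≫ gP = gP
        rw [map_mul, End.mul_def, Functor.map_comp, Category.assoc, ha, hb]
      inv_mem' := by
        intro a (ha : (FEt.restrict f).map (ρ a) ≫ gP = gP)
        show (FEt.restrict f).map (ρ a⁻¹) ≫ gP = gP
        have h1 : ρ a ≫ ρ a⁻¹ = 𝟙 P₀ := by
          rw [← End.mul_def, ← map_mul, inv_mul_cancel, map_one]; rfl
        calc (FEt.restrict f).map (ρ a⁻¹) ≫ gP
            = (FEt.restrict f).map (ρ a⁻¹) ≫ (FEt.restrict f).map (ρ a) ≫ gP := by rw [ha]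
          _ = (FEt.restrict f).map (ρ a⁻¹ ≫ ρ a) ≫ gP := by rw [Functor.map_comp, Category.assoc]
          _ = gP := by
            have h2 : ρ a⁻¹ ≫ ρ a = 𝟙 P₀ := by
              rw [← End.mul_def, ← map_mul, mul_inv_cancel, map_one]; rfl
            rw [h2, CategoryTheory.Functor.map_id, Category.id_comp] }
  obtain ⟨H', hg, hf, ⟨eH⟩⟩ := Finite.exists_type_univ_nonempty_mulEquiv H
  haveI := Fintype.ofFinite H'
  let D : SingleObj H' ⥤ FEt.Cat S₀ :=
    SingleObj.functor (ρ.comp (H.subtype.comp eH.symm.toMonoidHom))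
  haveI := hasFiniteColimits_fet S₀
  let Q := colimit D
  let ι₀ : P₀ ⟶ Q := colimit.ι D (SingleObj.star H')
  haveI := restrict_preservesColimit f D
  have hcQ : IsColimit ((FEt.restrict f).mapCocone (colimit.cocone D)) :=
    isColimitOfPreserves _ (colimit.isColimit _)
  have hDmem : ∀ h' : H', (FEt.restrict f).map (D.map (X := SingleObj.star H')
      (Y := SingleObj.star H') h') ≫ gP = gP := fun h' => (eH.symm h').2
  let co : Cocone (D ⋙ FEt.restrict f) :=
    { pt := X'
      ι :=
        { app := fun _ => gP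
          naturality := fun _ _ h' => by
            simp only [Functor.const_obj_obj, Functor.const_obj_map, Category.comp_id]
            exact hDmem h' } }
  let gb := hcQ.desc co
  have hgb : (FEt.restrict f).map ι₀ ≫ gb = gP := hcQ.fac co (SingleObj.star H')
  haveI : Epi ((FEt.restrict f).map ι₀) := ⟨fun u v huv => hcQ.hom_ext (fun _ => huv)⟩
  have hι₀surj : Function.Surjective ((FEt.restrict f).map ι₀).left := surjective_of_epi _
  refine ⟨Q, ⟨@asIso _ _ _ _ gb ?_⟩⟩
  apply isIso_of_forall_fiber_bijective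
  intro Ω _ _ ξ
  have hcomp : (FEt.fiber ξ).map gP =
      (FEt.fiber ξ).map ((FEt.restrict f).map ι₀) ≫ (FEt.fiber ξ).map gb := by
    rw [← Functor.map_comp, hgb]
  constructor
  · intro x y hxy
    obtain ⟨a, rfl⟩ := fiber_surjective_of_surjective ξ _ hι₀surj x
    obtain ⟨b, rfl⟩ := fiber_surjective_of_surjective ξ _ hι₀surj y
    have hab : (FEt.fiber ξ).map gP a = (FEt.fiber ξ).map gP b := by
      rw [hcomp]; exact hxy
    obtain ⟨τ, hτ⟩ := htrans Ω ξ a b
    have hτH : τ ∈ H := by
      show (FEt.restrict f).map (ρ τ) ≫ gP = gP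
      apply hom_ext_of_geomPt a.1
      have := congrArg Subtype.val hab
      show a.1 ≫ ((FEt.restrict f).map (ρ τ) ≫ gP).left = a.1 ≫ gP.left
      rw [MorphismProperty.Comma.comp_left, ← Category.assoc, ← hτ]
      exact this.symm
    have hw : (FEt.restrict f).map (ρ τ) ≫ (FEt.restrict f).map ι₀ = (FEt.restrict f).map ι₀ := by
      rw [← Functor.map_comp]
      congr 1
      have h3 : D.map (X := SingleObj.star H') (Y := SingleObj.star H') (eH ⟨τ, hτH⟩) = ρ τ := by
        show ρ ((eH.symm (eH ⟨τ, hτH⟩)).1) = ρ τ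
        rw [MulEquiv.symm_apply_apply]
      rw [← h3]
      exact colimit.w D (j := SingleObj.star H') (j' := SingleObj.star H') (eH ⟨τ, hτH⟩)
    apply Subtype.ext
    show a.1 ≫ ((FEt.restrict f).map ι₀).left = b.1 ≫ ((FEt.restrict f).map ι₀).left
    rw [hτ, Category.assoc, ← MorphismProperty.Comma.comp_left, hw]
  · intro z
    obtain ⟨a, ha⟩ := fiber_surjective_of_surjective ξ gP hsurj z
    refine ⟨(FEt.fiber ξ).map ((FEt.restrict f).map ι₀) a, ?_⟩
    rw [← ha, hcomp]
    rfl

end Quot


section GalAct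
variable (k M : Type u) [Field k] [Field M] [Algebra k M] [Module.Finite k M]
  [Algebra.Etale k M]

/-- the action of `Gal(M/k)` on `Spec M` as a cover of `Spec k` -/
noncomputable def galEnd : (M ≃ₐ[k] M) →* End (fetOfAlg k M) where
  toFun τ := MorphismProperty.Over.homMk (Spec.map (CommRingCat.ofHom (τ.symm : M →+* M))) (by
    show Spec.map _ ≫ Spec.map _ = Spec.map _
    rw [← Spec.map_comp]
    congr 1
    ext x
    exact τ.symm.commutes x) trivial
  map_one' := by
    apply MorphismProperty.Over.Hom.ext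
    exact Spec.map_id _
  map_mul' τ₁ τ₂ := by
    apply MorphismProperty.Over.Hom.ext
    show Spec.map _ = Spec.map _ ≫ Spec.map _
    rw [← Spec.map_comp]
    rfl

theorem galEnd_left (τ : M ≃ₐ[k] M) :
    (galEnd k M τ).left = Spec.map (CommRingCat.ofHom (τ.symm : M →+* M)) := rfl

variable [Normal k M] {X : Scheme.{u}} (f : X ⟶ Spec (CommRingCat.of k))

/-- `Gal(M/k)` is transitive on the geometric fibres of `X ×_k Spec M` -/
theorem galEnd_transitive (Ω : Type u) [Field Ω] (ξ : Spec (CommRingCat.of Ω) ⟶ X)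
    (a b : FEt.fiberObj ξ ((FEt.restrict f).obj (fetOfAlg k M))) :
    ∃ τ : M ≃ₐ[k] M, b.1 = a.1 ≫ ((FEt.restrict f).map (galEnd k M τ)).left := by
  rcases a with ⟨pa, ha2⟩
  rcases b with ⟨pb, hb2⟩
  have hV : (fetOfAlg k M).hom = Spec.map (CommRingCat.ofHom (algebraMap k M)) := rfl
  change pa ≫ pullback.snd (fetOfAlg k M).hom f = ξ at ha2
  change pb ≫ pullback.snd (fetOfAlg k M).hom f = ξ at hb2
  obtain ⟨φa, hφa⟩ := Spec.map_surjective (pa ≫ pullback.fst (fetOfAlg k M).hom f)
  obtain ⟨φb, hφb⟩ := Spec.map_surjective (pb ≫ pullback.fst (fetOfAlg k M).hom f)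
  have hcond : pullback.fst (fetOfAlg k M).hom f ≫ Spec.map (CommRingCat.ofHom (algebraMap k M)) =
      pullback.snd (fetOfAlg k M).hom f ≫ f := pullback.condition
  have hab : (CommRingCat.ofHom (algebraMap k M)) ≫ φa =
      (CommRingCat.ofHom (algebraMap k M)) ≫ φb := by
    apply Spec.map_injective
    rw [Spec.map_comp, Spec.map_comp, hφa, hφb, Category.assoc, Category.assoc, hcond,
      ← Category.assoc, ← Category.assoc, ha2, hb2]
  letI : Algebra k Ω := (φa.hom.comp (algebraMap k M)).toAlgebra
  letI : Algebra M Ω := φa.hom.toAlgebra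
  haveI : IsScalarTower k M Ω := IsScalarTower.of_algebraMap_eq (fun _ => rfl)
  let ψb : M →ₐ[k] Ω :=
    { φb.hom with
      commutes' := fun x => by
        have := congrArg (fun m => m.hom x) hab
        exact this.symm }
  let τ : M ≃ₐ[k] M := Normal.algHomEquivAut k Ω M ψb
  have hτ : (IsScalarTower.toAlgHom k M Ω).comp (τ : M →ₐ[k] M) = ψb :=
    (Normal.algHomEquivAut k Ω M).left_inv ψb
  refine ⟨τ.symm, ?_⟩
  show pb = pa ≫ ((FEt.restrict f).map (galEnd k M τ.symm)).left
  rw [restrict_map_left]
  apply pullback.hom_ext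
  · rw [Category.assoc, pullback.lift_fst, ← Category.assoc, ← hφb, ← hφa, galEnd_left,
      ← Spec.map_comp]
    congr 1
    ext x
    have := congrArg (fun m => m x) hτ
    exact this.symm
  · rw [Category.assoc, pullback.lift_snd]
    exact hb2.trans ha2.symm

end GalAct
end H9FE
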