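import Mathlib
import Groth.Prelude.Def_FEt
import Groth.Agent.Lib.Helper9.FE.Galois
import Groth.Agent.Lib.Helper9.FE.GalKrull
import Groth.Agent.Lib.Helper9.FE.FieldFiber
import Groth.Agent.Lib.Helper9.FE.FieldFiberCont
import Groth.Agent.Lib.Helper9.FE.FieldFiberNonTriv
import Groth.Agent.Lib.Helper9.FE.FieldFiberTrans
/-! helper9: the absolute Galois group of a field is the étale fundamental group of its spectrum -/

open CategoryTheory CategoryTheory.Limits AlgebraicGeometry MorphismProperty
universe u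
set_option linter.style.haveILetI false
set_option linter.unusedSectionVars false
set_option backward.isDefEq.respectTransparency false
namespace H9FE
open H9SF

section Fund
variable (K : Type u) [Field K] (Ω : Type u) [Field Ω] [Algebra K Ω] [IsAlgClosure K Ω]

theorem galoisCat_field : GaloisCategory (FEt.Cat (Spec (CommRingCat.of K))) :=
  ⟨⟨fiberFin (ptK K (AlgebraicClosure K)), ⟨fiberFunctor_fiberFin (ptK K (AlgebraicClosure K))⟩⟩⟩

open scoped FintypeCatDiscrete in
theorem isFundamentalGroup_field :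
    haveI : IsAlgClosed Ω := IsAlgClosure.isAlgClosed K
    haveI := galoisCat_field K
    haveI := compactSpace_algEquiv_algClosure K Ω
    PreGaloisCategory.IsFundamentalGroup (fiberFin (ptK K Ω)) (Ω ≃ₐ[K] Ω) := by
  haveI : IsAlgClosed Ω := IsAlgClosure.isAlgClosed K
  haveI : Algebra.IsAlgebraic K Ω := IsAlgClosure.isAlgebraic
  haveI := galoisCat_field K
  haveI := compactSpace_algEquiv_algClosure K Ω
  exact
  { transitive_of_isGalois := fun A _ => ⟨fun a a' => by
      obtain ⟨σ, hσ⟩ := exists_galPt_of_apply_eq A.hom a.1 a'.1 a.2 a'.2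
        (apply_eq_of_isConnected A a a')
      exact ⟨σ, Subtype.ext hσ⟩⟩
    continuous_smul := fun A => inferInstance
    non_trivial' := fun g h => eq_one_of_smul_eq g h }

/-- the Galois group of an algebraic closure is the automorphism group of the fibre functor -/
theorem nonempty_mulEquiv_aut_fiberFin :
    Nonempty ((Ω ≃ₐ[K] Ω) ≃* Aut (fiberFin (ptK K Ω))) := by
  haveI : IsAlgClosed Ω := IsAlgClosure.isAlgClosed K
  haveI := galoisCat_field K
  haveI := compactSpace_algEquiv_algClosure K Ω
  haveI := isFundamentalGroup_field K Ω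
  exact ⟨PreGaloisCategory.toAutMulEquiv (fiberFin (ptK K Ω)) (Ω ≃ₐ[K] Ω)⟩

/-- the Galois group of an algebraic closure is the étale fundamental group -/
theorem nonempty_mulEquiv_piOne :
    Nonempty ((Ω ≃ₐ[K] Ω) ≃* FEt.piOne (Spec (CommRingCat.of K)) (ptK K Ω)) := by
  obtain ⟨e1⟩ := nonempty_mulEquiv_aut_fiberFin K Ω
  let e2 : Aut (fiberFin (ptK K Ω)) ≃* Aut (fiberFin (ptK K Ω) ⋙ FintypeCat.incl) :=
    (Functor.FullyFaithful.whiskeringRight
      (Functor.FullyFaithful.ofFullyFaithful FintypeCat.incl) _).autMulEquivOfFullyFaithful _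
  let e3 : Aut (fiberFin (ptK K Ω) ⋙ FintypeCat.incl) ≃* Aut (FEt.fiber (ptK K Ω)) :=
    (fiberFinIso (ptK K Ω)).conjAut
  exact ⟨(e1.trans e2).trans e3⟩

open scoped FintypeCatDiscrete in
/-- finite étale covers of a field are finite continuous Galois sets -/
theorem nonempty_equiv_contAction :
    Nonempty (FEt.Cat (Spec (CommRingCat.of K)) ≌ ContAction FintypeCat.{u} (Ω ≃ₐ[K] Ω)) := by
  haveI : IsAlgClosed Ω := IsAlgClosure.isAlgClosed K
  haveI := galoisCat_field K
  haveI := compactSpace_algEquiv_algClosure K Ω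
  haveI := isFundamentalGroup_field K Ω
  let F := fiberFin (ptK K Ω)
  let f : (Ω ≃ₐ[K] Ω) ≃ₜ* Aut F :=
    { PreGaloisCategory.toAutMulEquiv F (Ω ≃ₐ[K] Ω) with
      continuous_toFun := (PreGaloisCategory.toAutHomeo F (Ω ≃ₐ[K] Ω)).continuous_toFun
      continuous_invFun := (PreGaloisCategory.toAutHomeo F (Ω ≃ₐ[K] Ω)).continuous_invFun }
  exact ⟨(PreGaloisCategory.functorToContAction F).asEquivalence.trans
    (ContAction.resEquiv FintypeCat.{u} f)⟩

end Fund

theorem main298 (K : Type u) [Field K] :
    Nonempty (Field.absoluteGaloisGroup K ≃*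
      FEt.piOne (Spec (CommRingCat.of K))
        (Spec.map (CommRingCat.ofHom (algebraMap K (AlgebraicClosure K))))) :=
  nonempty_mulEquiv_piOne K (AlgebraicClosure K)

open scoped FintypeCatDiscrete in
theorem main290 (K : Type u) [Field K] :
    Nonempty (FEt.Cat (Spec (CommRingCat.of K)) ≌
      ContAction FintypeCat.{u} (Field.absoluteGaloisGroup K)) :=
  nonempty_equiv_contAction K (AlgebraicClosure K)


end H9FE
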