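import Mathlib
import Groth.Prelude.Def_FEt
import Groth.Agent.Lib.Helper9.FE.ClopenCrit
/-! helper9: restriction of finite étale covers along universal homeomorphisms is fully faithful;
sections of finite étale covers descend along purely inseparable extensions of the base field. -/

open CategoryTheory CategoryTheory.Limits AlgebraicGeometry MorphismProperty
universe u
set_option linter.style.haveILetI false
set_option linter.unusedSectionVars false
set_option backward.isDefEq.respectTransparency false
namespace H9FE

section UH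
variable {Z Z' : Scheme.{u}} (q : Z' ⟶ Z) [Surjective q] [UniversallyInjective q]
  [UniversallyClosed q]

/-- restriction of finite étale covers along a universal homeomorphism is fully faithful -/
theorem restrict_full_faithful_of_univHomeo :
    (FEt.restrict q).Full ∧ (FEt.restrict q).Faithful := by
  have hπs : ∀ Y : FEt.Cat Z, Function.Surjective (pullback.fst Y.hom q) := fun Y =>
    (inferInstance : Surjective (pullback.fst Y.hom q)).surj
  have hπi : ∀ Y : FEt.Cat Z, Function.Injective (pullback.fst Y.hom q) := fun Y => by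
    haveI : UniversallyInjective (pullback.fst Y.hom q) :=
      MorphismProperty.pullback_fst (P := @UniversallyInjective) _ _ inferInstance
    exact (pullback.fst Y.hom q).injective
  have hπc : ∀ Y : FEt.Cat Z, IsClosedMap (pullback.fst Y.hom q) := fun Y =>
    (pullback.fst Y.hom q).isClosedMap
  apply restrict_full_faithful_of_clopen q
  · intro Y T _ hT
    apply Set.eq_univ_of_forall
    intro y
    obtain ⟨y', rfl⟩ := hπs Y y
    have : y' ∈ (pullback.fst Y.hom q) ⁻¹' T := by rw [hT]; trivial
    exact this
  · intro W T' hT'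
    refine ⟨(pullback.fst W.hom q) '' T', ⟨hπc W _ hT'.1, ?_⟩, ?_⟩
    · have : (pullback.fst W.hom q) '' T' = ((pullback.fst W.hom q) '' T'ᶜ)ᶜ := by
        rw [Set.image_compl_eq ⟨hπi W, hπs W⟩, compl_compl]
      rw [this]
      exact (hπc W _ hT'.2.isClosed_compl).isOpen_compl
    · exact Set.preimage_image_eq _ (hπi W)

end UH


section SecDescent
variable {Z Z' X : Scheme.{u}} (q : Z' ⟶ Z)

/-- sections of a finite étale cover descend along a morphism `q` with `FEt.restrict q` full -/
theorem exists_descent_of_full (hfull : (FEt.restrict q).Full) (h : Z ⟶ X) (U : FEt.Cat X)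
    (g : Z' ⟶ U.left) (hg : g ≫ U.hom = q ≫ h) :
    ∃ g' : Z ⟶ U.left, g' ≫ U.hom = h ∧ q ≫ g' = g := by
  let T : FEt.Cat Z := MorphismProperty.Over.mk ⊤ (𝟙 Z) (FEt.prop.id_mem Z)
  let P : FEt.Cat Z := (FEt.restrict h).obj U
  have hP : P.hom = pullback.snd U.hom h := rfl
  have hTq : ((FEt.restrict q).obj T).hom = pullback.snd (𝟙 Z) q := rfl
  have hPq : ((FEt.restrict q).obj P).hom = pullback.snd (pullback.snd U.hom h) q := rfl
  let m₁ : pullback (𝟙 Z) q ⟶ pullback U.hom h :=
    pullback.lift (pullback.snd (𝟙 Z) q ≫ g) (pullback.snd (𝟙 Z) q ≫ q)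
      (by rw [Category.assoc, hg, Category.assoc])
  let ml : pullback (𝟙 Z) q ⟶ pullback (pullback.snd U.hom h) q :=
    pullback.lift m₁ (pullback.snd (𝟙 Z) q) (by simp [m₁])
  let m : (FEt.restrict q).obj T ⟶ (FEt.restrict q).obj P :=
    MorphismProperty.Over.homMk ml (by
      show ml ≫ pullback.snd (pullback.snd U.hom h) q = pullback.snd (𝟙 Z) q
      simp [ml])
  obtain ⟨m₀, hm₀⟩ := hfull.map_surjective m
  have hw : m₀.left ≫ pullback.snd U.hom h = 𝟙 Z := MorphismProperty.Over.w m₀
  refine ⟨m₀.left ≫ pullback.fst U.hom h, ?_, ?_⟩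
  · rw [Category.assoc, pullback.condition, ← Category.assoc, hw, Category.id_comp]
  · have h1 : ((FEt.restrict q).map m₀).left = ml := congrArg (fun a => a.left) hm₀
    rw [restrict_map_left] at h1
    have h2 : pullback.fst (𝟙 Z) q ≫ m₀.left = m₁ := by
      have h3 := congrArg (fun a => a ≫ pullback.fst (pullback.snd U.hom h) q) h1
      simp only [ml] at h3
      rw [pullback.lift_fst] at h3
      exact (pullback.lift_fst _ _ _).symm.trans h3
    let j : Z' ⟶ pullback (𝟙 Z) q := pullback.lift q (𝟙 Z') (by simp)
    have hj1 : j ≫ pullback.fst (𝟙 Z) q = q := pullback.lift_fst _ _ _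
    have hj2 : j ≫ pullback.snd (𝟙 Z) q = 𝟙 Z' := pullback.lift_snd _ _ _
    calc q ≫ m₀.left ≫ pullback.fst U.hom h
        = j ≫ (pullback.fst (𝟙 Z) q ≫ m₀.left) ≫ pullback.fst U.hom h := by
          rw [Category.assoc, ← Category.assoc j, hj1]
      _ = j ≫ m₁ ≫ pullback.fst U.hom h := by rw [h2]
      _ = j ≫ pullback.snd (𝟙 Z) q ≫ g := by simp [m₁]
      _ = g := by rw [← Category.assoc, hj2, Category.id_comp]

end SecDescent


section Insep
variable (F E : Type u) [Field F] [Field E] [Algebra F E] [IsPurelyInseparable F E]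

instance specMap_surjective_of_field :
    Surjective (Spec.map (CommRingCat.ofHom (algebraMap F E))) :=
  ⟨fun _ => ⟨(default : PrimeSpectrum E), Subsingleton.elim (α := PrimeSpectrum F) _ _⟩⟩

instance specMap_univInj_of_insep :
    UniversallyInjective (Spec.map (CommRingCat.ofHom (algebraMap F E))) := by
  apply ((tfae_universallyInjective (Spec.map (CommRingCat.ofHom (algebraMap F E)))).out 0 1).mpr
  intro M _ g₁ g₂ hg
  obtain ⟨φ₁, rfl⟩ := Spec.map_surjective g₁
  obtain ⟨φ₂, rfl⟩ := Spec.map_surjective g₂
  simp only [← Spec.map_comp] at hg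
  have h := Spec.map_injective hg
  congr 1
  ext x
  have h2 : φ₁.hom.comp (algebraMap F E) = φ₂.hom.comp (algebraMap F E) := by
    ext y
    exact congrArg (fun a => a.hom y) h
  exact congrArg (fun a => a x) (IsPurelyInseparable.injective_comp_algebraMap F E M h2)

instance specMap_univClosed_of_insep :
    UniversallyClosed (Spec.map (CommRingCat.ofHom (algebraMap F E))) := by
  haveI : IsIntegralHom (Spec.map (CommRingCat.ofHom (algebraMap F E))) := by
    rw [IsIntegralHom.SpecMap_iff]
    exact (IsPurelyInseparable.isIntegral (F := F) (E := E)).isIntegral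
  infer_instance




variable (k : Type u) [Field k] [Algebra k F] [Algebra k E] [IsScalarTower k F E]
  {X : Scheme.{u}} (f : X ⟶ Spec (CommRingCat.of k))

/-- the transition map `X ×_k Spec E ⟶ X ×_k Spec F` -/
noncomputable abbrev fieldTrans :
    pullback f (Spec.map (CommRingCat.ofHom (algebraMap k E))) ⟶
      pullback f (Spec.map (CommRingCat.ofHom (algebraMap k F))) :=
  pullback.map f (Spec.map (CommRingCat.ofHom (algebraMap k E))) f
    (Spec.map (CommRingCat.ofHom (algebraMap k F))) (𝟙 X)
    (Spec.map (CommRingCat.ofHom (algebraMap F E))) (𝟙 _) (by simp) (by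
      rw [Category.comp_id, ← Spec.map_comp, ← CommRingCat.ofHom_comp,
        ← IsScalarTower.algebraMap_eq])

omit [IsPurelyInseparable F E] in
theorem fieldTrans_fst : fieldTrans F E k f ≫ pullback.fst f _ = pullback.fst f _ := by
  simp [fieldTrans]

/-- sections of finite étale covers descend along purely inseparable extensions of the base -/
theorem exists_descent_insep (U : FEt.Cat X)
    (g : pullback f (Spec.map (CommRingCat.ofHom (algebraMap k E))) ⟶ U.left)
    (hg : g ≫ U.hom = pullback.fst _ _) :
    ∃ g' : pullback f (Spec.map (CommRingCat.ofHom (algebraMap k F))) ⟶ U.left,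
      g' ≫ U.hom = pullback.fst _ _ ∧ fieldTrans F E k f ≫ g' = g := by
  have hq1 : Surjective (fieldTrans F E k f) :=
    MorphismProperty.pullbackMap (P := @Surjective) (inferInstanceAs (Surjective (𝟙 X)))
      (specMap_surjective_of_field F E) (by simp) (by
        rw [← Spec.map_comp, ← CommRingCat.ofHom_comp, ← IsScalarTower.algebraMap_eq])
  have hq2 : UniversallyInjective (fieldTrans F E k f) :=
    MorphismProperty.pullbackMap (P := @UniversallyInjective)
      (inferInstanceAs (UniversallyInjective (𝟙 X)))
      (specMap_univInj_of_insep F E) (by simp) (by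
        rw [← Spec.map_comp, ← CommRingCat.ofHom_comp, ← IsScalarTower.algebraMap_eq])
  have hq3 : UniversallyClosed (fieldTrans F E k f) :=
    MorphismProperty.pullbackMap (P := @UniversallyClosed)
      (inferInstanceAs (UniversallyClosed (𝟙 X)))
      (specMap_univClosed_of_insep F E) (by simp) (by
        rw [← Spec.map_comp, ← CommRingCat.ofHom_comp, ← IsScalarTower.algebraMap_eq])
  exact exists_descent_of_full (fieldTrans F E k f)
    (restrict_full_faithful_of_univHomeo (fieldTrans F E k f)).1 (pullback.fst f _) U g
    (by rw [hg, fieldTrans_fst])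

end Insep
end H9FE
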