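import Mathlib
import Groth.Prelude.Def_FEt
import Groth.Agent.Lib.Helper9.FE.FieldLim
import Groth.Agent.Lib.Helper9.FE.InsepSec
/-! helper9: sections over `X ×_k K` of finite étale covers of a qcqs `k`-scheme `X` descend to a
finite separable extension of `k`. -/

open CategoryTheory CategoryTheory.Limits AlgebraicGeometry MorphismProperty
universe u
set_option linter.style.haveILetI false
set_option linter.unusedSectionVars false
set_option backward.isDefEq.respectTransparency false
namespace H9FE

section Sep
variable (k K : Type u) [Field k] [Field K] [Algebra k K] [Algebra.IsAlgebraic k K]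
  {X : Scheme.{u}} (f : X ⟶ Spec (CommRingCat.of k)) [CompactSpace X] [QuasiSeparatedSpace X]

theorem fieldTrans_comp (F E M : Type u) [Field F] [Field E] [Field M] [Algebra k F] [Algebra k E]
    [Algebra k M] [Algebra F E] [Algebra E M] [Algebra F M] [IsScalarTower k F E]
    [IsScalarTower k E M] [IsScalarTower k F M] [IsScalarTower F E M] :
    fieldTrans E M k f ≫ fieldTrans F E k f = fieldTrans F M k f := by
  apply pullback.hom_ext
  · simp [fieldTrans]
  · simp only [fieldTrans, Category.assoc, pullback.map]
    rw [pullback.lift_snd, pullback.lift_snd_assoc, pullback.lift_snd, Category.assoc,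
      ← Spec.map_comp, ← CommRingCat.ofHom_comp, ← IsScalarTower.algebraMap_eq]

/-- a section over `X ×_k K` (with `K/k` algebraic) of a finite étale cover of `X` descends to a
finite separable extension of `k` -/
theorem exists_descent_sep (U : FEt.Cat X)
    (a : pullback f (Spec.map (CommRingCat.ofHom (algebraMap k K))) ⟶ U.left)
    (ha : a ≫ U.hom = pullback.fst _ _) :
    ∃ (F : Type u) (_ : Field F) (_ : Algebra k F) (_ : Algebra F K) (_ : IsScalarTower k F K)
      (_ : FiniteDimensional k F) (_ : Algebra.IsSeparable k F)
      (g : pullback f (Spec.map (CommRingCat.ofHom (algebraMap k F))) ⟶ U.left),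
      g ≫ U.hom = pullback.fst _ _ ∧ fieldTrans F K k f ≫ g = a := by
  obtain ⟨L, hL, g, hg1, hg2⟩ := exists_descent_finite k K f U.hom a ha
  haveI := hL
  obtain ⟨g', hg'1, hg'2⟩ := exists_descent_insep (separableClosure k L) L k f U g hg1
  refine ⟨separableClosure k L, inferInstance, inferInstance, inferInstance, inferInstance,
    inferInstance, inferInstance, g', hg'1, ?_⟩
  rw [← fieldTrans_comp k f (separableClosure k L) L K, Category.assoc, hg'2]
  exact hg2

end Sep
end H9FE
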