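import Mathlib
import Groth.Agent.S9778
import Groth.Agent.Lib.Helper9.FE.EtDeg1
import Groth.Agent.Lib.Helper9.FE.FinGeoPt
import Groth.Agent.Lib.Helper9.FE.EtClopenLift
import Groth.Agent.Lib.Helper9.FE.EtClopenLiftG

/-! helper9: étale-local structure of a finite morphism at a geometric point: after an étale base
change the source decomposes into pairwise disjoint opens, one for each geometric point of the
fibre, each mapping (compatibly with the geometric points) to a prescribed étale neighbourhood. -/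

universe u
open CategoryTheory CategoryTheory.Limits AlgebraicGeometry

namespace H9FE
namespace FinGeoDecomp

set_option linter.style.haveILetI false
set_option linter.unusedSectionVars false
set_option backward.isDefEq.respectTransparency false

open EtDeg1 FinGeoPt EtClopenLiftG

theorem pre {X Y : Scheme.{u}} (f : X ⟶ Y) [IsFinite f] {Ω : Type u} [Field Ω] [IsSepClosed Ω]
    (η : Spec (CommRingCat.of Ω) ⟶ Y) {n : ℕ} (ξ : Fin n → (Spec (CommRingCat.of Ω) ⟶ X))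
    (hξ : ∀ k, ξ k ≫ f = η)
    (T : Fin n → Scheme.{u}) [∀ k, IsAffine (T k)] (t : ∀ k, T k ⟶ X) [∀ k, Etale (t k)]
    (u : ∀ k, Spec (CommRingCat.of Ω) ⟶ T k) (hu : ∀ k, u k ≫ t k = ξ k) :
    ∃ (V : Scheme.{u}) (p : V ⟶ Y) (v : Spec (CommRingCat.of Ω) ⟶ V), Etale p ∧ v ≫ p = η ∧
      ∃ (W : Fin n → (pullback f p).Opens)
        (h : ∀ k, ((W k : (pullback f p).Opens) : Scheme.{u}) ⟶ ∐ T),
        (∀ k, IsClosed (W k : Set ↑(pullback f p))) ∧
        (∀ k, h k ≫ Sigma.desc t = (W k).ι ≫ pullback.fst f p) ∧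
        (∀ k, ∃ c : Spec (CommRingCat.of Ω) ⟶ ((W k : (pullback f p).Opens) : Scheme.{u}),
          c ≫ h k = u k ≫ Sigma.ι T k ∧ c ≫ (W k).ι ≫ pullback.snd f p = v) ∧
        (∀ k (c₁ c₂ : Spec (CommRingCat.of Ω) ⟶ ((W k : (pullback f p).Opens) : Scheme.{u})),
          c₁ ≫ (W k).ι ≫ pullback.snd f p = v → c₂ ≫ (W k).ι ≫ pullback.snd f p = v →
            c₁ = c₂) := by
  classical
  let tt : (∐ T) ⟶ X := Sigma.desc t
  haveI : Etale tt := IsZariskiLocalAtSource.sigmaDesc (fun k => inferInstance)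
  haveI : LocallyQuasiFinite tt := EtClopenLift.locallyQuasiFinite_of_etale tt
  have htt : ∀ k, Sigma.ι T k ≫ tt = t k := fun k => Sigma.ι_desc _ _
  let pts : Fin n → ↑(∐ T) := fun k => (Sigma.ι T k) (u k (default : Spec (CommRingCat.of Ω)))
  have hptsinj : Function.Injective pts := by
    intro a b hab
    by_contra hne
    have hd := disjoint_opensRange_sigmaι T a b hne
    exact hd.le_bot (show pts a ∈ (Sigma.ι T a).opensRange ⊓ (Sigma.ι T b).opensRange from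
      ⟨⟨_, rfl⟩, hab ▸ ⟨_, rfl⟩⟩)
  have hy : ∀ k, (tt ≫ f) (pts k) = η (default : Spec (CommRingCat.of Ω)) := by
    intro k
    have : u k ≫ Sigma.ι T k ≫ tt ≫ f = η := by
      rw [← Category.assoc (Sigma.ι T k), htt, ← Category.assoc, hu, hξ]
    exact congrArg (fun m => m.base (default : Spec (CommRingCat.of Ω))) this
  obtain ⟨V, p, v₀, hp, hpv, J, hJ, Vo, e, hclopen, hdisj, hprop, hcover⟩ :=
    Groth.Agent.S9778.result (tt ≫ f) (η (default : Spec (CommRingCat.of Ω))) pts hptsinj hy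
      (fun k => (tt ≫ f).quasiFiniteAt _)
  haveI := hp
  obtain ⟨v, hv1, hv2⟩ := Scheme.exists_fac_of_etale_of_isSepClosed p η v₀ hpv
  have hab : ∀ k, (u k ≫ Sigma.ι T k) ≫ tt ≫ f = v ≫ p := by
    intro k
    rw [hv1, Category.assoc, ← Category.assoc (Sigma.ι T k), htt, ← Category.assoc, hu, hξ]
  have key : ∀ k, ∃ (W : (pullback f p).Opens) (h : (W : Scheme.{u}) ⟶ ∐ T),
      IsClosed (W : Set ↑(pullback f p)) ∧ h ≫ tt = W.ι ≫ pullback.fst f p ∧
      (∃ c : Spec (CommRingCat.of Ω) ⟶ (W : Scheme.{u}),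
        c ≫ h = u k ≫ Sigma.ι T k ∧ c ≫ W.ι ≫ pullback.snd f p = v) ∧
      (∀ c₁ c₂ : Spec (CommRingCat.of Ω) ⟶ (W : Scheme.{u}),
        c₁ ≫ W.ι ≫ pullback.snd f p = v → c₂ ≫ W.ι ≫ pullback.snd f p = v → c₁ = c₂) := by
    intro k
    let L := pullback.lift (u k ≫ Sigma.ι T k) v (hab k)
    have hL1 : pullback.snd (tt ≫ f) p (L default) = v₀ := by
      rw [← Scheme.Hom.comp_apply, pullback.lift_snd]
      exact hv2
    have hL2 : pullback.fst (tt ≫ f) p (L default) = pts k := by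
      rw [← Scheme.Hom.comp_apply, pullback.lift_fst]
      rfl
    obtain ⟨j, hj⟩ := hcover (L default) k hL1 hL2
    obtain ⟨h1, h2, h3, h4, h5, h6⟩ := hprop k j
    have hLe : L default = e k j := h4 _ hj hL1
    obtain ⟨W₀, h₀, hWc, hWh, ha, hb⟩ := pieceG f tt p v₀ (Vo k j) (e k j) h1 h2 h3 h4 h5
    obtain ⟨c₀, hc1, hc2⟩ := ha (u k ≫ Sigma.ι T k) v (hab k) (fun a => by
      rw [Subsingleton.elim a default]
      exact hLe)
    refine ⟨W₀, h₀, hWc, hWh, ⟨c₀, hc1, hc2⟩, ?_⟩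
    intro c₁ c₂ e1 e2
    refine hb Ω c₁ c₂ (e1.trans e2.symm) (fun a => ?_)
    rw [e1, Subsingleton.elim a default]
    exact hv2
  choose W h hWc hWh hc huniq using key
  exact ⟨V, p, v, hp, hv1, W, h, hWc, hWh, hc, huniq⟩


lemma lift_open {Ω : Type u} [Field Ω] {Z : Scheme.{u}} (O : Z.Opens)
    (L : Spec (CommRingCat.of Ω) ⟶ Z)
    (h : L (default : Spec (CommRingCat.of Ω)) ∈ O) :
    ∃ L' : Spec (CommRingCat.of Ω) ⟶ (O : Scheme.{u}), L' ≫ O.ι = L := by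
  have hr : Set.range L.base ⊆ Set.range O.ι.base := by
    rintro _ ⟨a, rfl⟩
    rw [Scheme.Opens.range_ι, Subsingleton.elim a (default : Spec (CommRingCat.of Ω))]
    exact h
  exact ⟨IsOpenImmersion.lift O.ι L hr, IsOpenImmersion.lift_fac _ _ _⟩

theorem main {X Y : Scheme.{u}} (f : X ⟶ Y) [IsFinite f] {Ω : Type u} [Field Ω] [IsSepClosed Ω]
    (hac : IsAlgClosed Ω)
    (η : Spec (CommRingCat.of Ω) ⟶ Y) {n : ℕ} (ξ : Fin n → (Spec (CommRingCat.of Ω) ⟶ X))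
    (hξ : ∀ k, ξ k ≫ f = η) (hinj : Function.Injective ξ)
    (hall : ∀ ζ : Spec (CommRingCat.of Ω) ⟶ X, ζ ≫ f = η → ∃ k, ζ = ξ k)
    (T : Fin n → Scheme.{u}) [∀ k, IsAffine (T k)] (t : ∀ k, T k ⟶ X) [∀ k, Etale (t k)]
    (u : ∀ k, Spec (CommRingCat.of Ω) ⟶ T k) (hu : ∀ k, u k ≫ t k = ξ k) :
    ∃ (V : Scheme.{u}) (p : V ⟶ Y) (v : Spec (CommRingCat.of Ω) ⟶ V), Etale p ∧ v ≫ p = η ∧
      ∃ (E : Fin n → (pullback f p).Opens)
        (h : ∀ k, ((E k : (pullback f p).Opens) : Scheme.{u}) ⟶ T k),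
        (∀ k k', k ≠ k' → Disjoint (E k) (E k')) ∧ (∀ z : ↑(pullback f p), ∃ k, z ∈ E k) ∧
        (∀ k, h k ≫ t k = (E k).ι ≫ pullback.fst f p) ∧
        (∀ k, ∃ c : Spec (CommRingCat.of Ω) ⟶ ((E k : (pullback f p).Opens) : Scheme.{u}),
          c ≫ h k = u k ∧ c ≫ (E k).ι ≫ pullback.snd f p = v) := by
  classical
  obtain ⟨V₁, p₁, v₁, hp₁, hv₁, W, h, hWc, hWh, hc, huniq⟩ := pre f η ξ hξ T t u hu
  haveI := hp₁
  choose c hc1 hc2 using hc
  have htt : ∀ k, Sigma.ι T k ≫ Sigma.desc t = t k := fun k => Sigma.ι_desc _ _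
  let g : ∀ k, Spec (CommRingCat.of Ω) ⟶ pullback f p₁ := fun k => c k ≫ (W k).ι
  have hg1 : ∀ k, g k ≫ pullback.snd f p₁ = v₁ := fun k => by
    simp only [g, Category.assoc]
    exact hc2 k
  have hg2 : ∀ k, g k ≫ pullback.fst f p₁ = ξ k := fun k => by
    simp only [g, Category.assoc]
    rw [← hWh, ← Category.assoc, hc1, Category.assoc, htt, hu]
  have claimA : ∀ k k', k' ≠ k → g k' (default : Spec (CommRingCat.of Ω)) ∉ W k := by
    intro k k' hne hmem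
    obtain ⟨c₂, hc₂⟩ := lift_open (W k) (g k') hmem
    have e1 : c₂ ≫ (W k).ι ≫ pullback.snd f p₁ = v₁ := by
      rw [← Category.assoc, hc₂, hg1]
    have e2 := huniq k c₂ (c k) e1 (hc2 k)
    have e3 : g k' = g k := by
      rw [← hc₂, e2]
    apply hne
    apply hinj
    rw [← hg2 k', ← hg2 k, e3]
  -- the pieces
  let G : Fin n → (pullback f p₁).Opens := fun k =>
    (W k).ι ''ᵁ ((h k) ⁻¹ᵁ (Sigma.ι T k).opensRange)
  have hG : ∀ k (z : ↑(pullback f p₁)), z ∈ G k ↔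
      ∃ w : ↥(W k), h k w ∈ Set.range (Sigma.ι T k) ∧ w.1 = z := by
    intro k z
    constructor
    · rintro ⟨w, hw, rfl⟩
      exact ⟨w, hw, rfl⟩
    · rintro ⟨w, hw, rfl⟩
      exact ⟨w, hw, rfl⟩
  let prev : Fin n → Set ↑(pullback f p₁) := fun k => ⋃ k' ∈ {k' : Fin n | k' < k}, (W k' : Set _)
  have hprev : ∀ k, IsClosed (prev k) := fun k =>
    Set.Finite.isClosed_biUnion (Set.toFinite _) (fun k' _ => hWc k')
  let B : Fin n → (pullback f p₁).Opens := fun k =>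
    ⟨(G k : Set _) ∩ (prev k)ᶜ, IsOpen.inter (G k).2 (hprev k).isOpen_compl⟩
  have hBG : ∀ k z, z ∈ B k → z ∈ G k := fun k z hz => hz.1
  have hBW : ∀ k z, z ∈ B k → z ∈ W k := by
    intro k z hz
    obtain ⟨w, -, rfl⟩ := (hG _ _).mp (hBG k z hz)
    exact w.2
  have hBprev : ∀ k z, z ∈ B k → ∀ k', k' < k → z ∉ W k' := by
    intro k z hz k' hk' hzk'
    exact hz.2 (Set.mem_biUnion (show k' ∈ {k' : Fin n | k' < k} from hk') hzk')
  have hgB : ∀ k, g k (default : Spec (CommRingCat.of Ω)) ∈ B k := by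
    intro k
    refine ⟨(hG _ _).mpr ⟨c k default, ?_, rfl⟩, ?_⟩
    · have := congrArg (fun m => m.base (default : Spec (CommRingCat.of Ω))) (hc1 k)
      exact ⟨_, this.symm⟩
    · intro hz
      obtain ⟨k', hk', hzk'⟩ := Set.mem_iUnion₂.mp hz
      exact claimA k' k (ne_of_gt hk') hzk'
  -- shrink
  have hBallopen : IsOpen (⋃ k, (B k : Set ↑(pullback f p₁))) := isOpen_iUnion (fun k => (B k).2)
  have himcl : IsClosed (pullback.snd f p₁ '' (⋃ k, (B k : Set ↑(pullback f p₁)))ᶜ) :=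
    (pullback.snd f p₁).isClosedMap _ hBallopen.isClosed_compl
  let V₂ : V₁.Opens := ⟨(pullback.snd f p₁ '' (⋃ k, (B k : Set ↑(pullback f p₁)))ᶜ)ᶜ,
    himcl.isOpen_compl⟩
  have hv₀ : v₁ (default : Spec (CommRingCat.of Ω)) ∈ V₂ := by
    rintro ⟨z, hz, hzv⟩
    obtain ⟨ζ, hζ1, hζ2⟩ := @FinGeoPt.exists_lift _ _ (pullback.snd f p₁) _ Ω _ hac v₁ z
      (fun a => by rw [hzv, Subsingleton.elim a (default : Spec (CommRingCat.of Ω))])
    have hζf : (ζ ≫ pullback.fst f p₁) ≫ f = η := by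
      rw [Category.assoc, pullback.condition, ← Category.assoc, hζ1, hv₁]
    obtain ⟨k, hk⟩ := hall _ hζf
    have hζg : ζ = g k := by
      apply pullback.hom_ext
      · rw [hk, hg2]
      · rw [hζ1, hg1]
    apply hz
    refine Set.mem_iUnion.mpr ⟨k, ?_⟩
    rw [← hζ2 default, hζg]
    exact hgB k
  obtain ⟨v₂, hv₂⟩ := lift_open V₂ v₁ hv₀
  let j : pullback f (V₂.ι ≫ p₁) ⟶ pullback f p₁ :=
    pullback.map f (V₂.ι ≫ p₁) f p₁ (𝟙 X) V₂.ι (𝟙 Y) (by simp) (by simp)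
  have hj1 : j ≫ pullback.fst f p₁ = pullback.fst f (V₂.ι ≫ p₁) := by simp [j]
  have hj2 : j ≫ pullback.snd f p₁ = pullback.snd f (V₂.ι ≫ p₁) ≫ V₂.ι := by simp [j]
  have hjB : ∀ z, j z ∈ ⋃ k, (B k : Set ↑(pullback f p₁)) := by
    intro z
    by_contra hz
    have h1 : pullback.snd f p₁ (j z) ∈ V₂ := by
      rw [← Scheme.Hom.comp_apply, hj2, Scheme.Hom.comp_apply]
      exact (pullback.snd f (V₂.ι ≫ p₁) z).2
    exact h1 ⟨j z, hz, rfl⟩
  have hv₂η : v₂ ≫ V₂.ι ≫ p₁ = η := by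
    rw [← Category.assoc, hv₂, hv₁]
  refine ⟨V₂, V₂.ι ≫ p₁, v₂, inferInstance, hv₂η, fun k => j ⁻¹ᵁ (B k), ?_⟩
  -- lifts
  have hr1 : ∀ k, Set.range ((j ⁻¹ᵁ (B k)).ι ≫ j) ⊆ Set.range (W k).ι := by
    intro k
    rintro _ ⟨z, rfl⟩
    rw [Scheme.Opens.range_ι]
    rw [Scheme.Hom.comp_apply]
    exact hBW k _ z.2
  let l₁ : ∀ k, ((j ⁻¹ᵁ (B k) : (pullback f (V₂.ι ≫ p₁)).Opens) : Scheme.{u}) ⟶
      ((W k : (pullback f p₁).Opens) : Scheme.{u}) :=
    fun k => IsOpenImmersion.lift (W k).ι ((j ⁻¹ᵁ (B k)).ι ≫ j) (hr1 k)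
  have hl₁ : ∀ k, l₁ k ≫ (W k).ι = (j ⁻¹ᵁ (B k)).ι ≫ j := fun k =>
    IsOpenImmersion.lift_fac _ _ _
  have hr2 : ∀ k, Set.range (l₁ k ≫ h k) ⊆ Set.range (Sigma.ι T k) := by
    intro k
    rintro _ ⟨z, rfl⟩
    obtain ⟨w, hw, hwz⟩ := (hG _ _).mp (hBG k _ z.2)
    have : l₁ k z = w := by
      apply Subtype.ext
      rw [hwz]
      have := congrArg (fun φ => φ.base z) (hl₁ k)
      exact this
    rw [Scheme.Hom.comp_apply, this]
    exact hw
  let l₂ : ∀ k, ((j ⁻¹ᵁ (B k) : (pullback f (V₂.ι ≫ p₁)).Opens) : Scheme.{u}) ⟶ T k :=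
    fun k => IsOpenImmersion.lift (Sigma.ι T k) (l₁ k ≫ h k) (hr2 k)
  have hl₂ : ∀ k, l₂ k ≫ Sigma.ι T k = l₁ k ≫ h k := fun k => IsOpenImmersion.lift_fac _ _ _
  refine ⟨l₂, ?_, ?_, ?_, ?_⟩
  · -- disjoint
    intro a b hab
    rw [disjoint_iff]
    ext z
    simp only [TopologicalSpace.Opens.coe_inf, Set.mem_inter_iff, SetLike.mem_coe,
      TopologicalSpace.Opens.coe_bot, Set.mem_empty_iff_false, iff_false, not_and]
    intro hza hzb
    have hza' : j z ∈ B a := hza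
    have hzb' : j z ∈ B b := hzb
    rcases lt_trichotomy a b with hlt | heq | hgt
    · exact hBprev b _ hzb' a hlt (hBW a _ hza')
    · exact hab heq
    · exact hBprev a _ hza' b hgt (hBW b _ hzb')
  · intro z
    obtain ⟨k, hk⟩ := Set.mem_iUnion.mp (hjB z)
    exact ⟨k, hk⟩
  · intro k
    rw [← htt k, ← Category.assoc, hl₂, Category.assoc, hWh k, ← Category.assoc, hl₁,
      Category.assoc, hj1]
  · intro k
    have hab₂ : ξ k ≫ f = v₂ ≫ V₂.ι ≫ p₁ := by rw [hξ, hv₂η]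
    let g₂ : Spec (CommRingCat.of Ω) ⟶ pullback f (V₂.ι ≫ p₁) := pullback.lift (ξ k) v₂ hab₂
    have hg₂j : g₂ ≫ j = g k := by
      apply pullback.hom_ext
      · rw [Category.assoc, hj1, pullback.lift_fst, hg2]
      · rw [Category.assoc, hj2, ← Category.assoc, pullback.lift_snd, hv₂, hg1]
    have hmem : g₂ (default : Spec (CommRingCat.of Ω)) ∈ j ⁻¹ᵁ (B k) := by
      change j (g₂ default) ∈ B k
      rw [← Scheme.Hom.comp_apply, hg₂j]
      exact hgB k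
    obtain ⟨c', hc'⟩ := lift_open (j ⁻¹ᵁ (B k)) g₂ hmem
    have hc'l : c' ≫ l₁ k = c k := by
      apply (cancel_mono (W k).ι).1
      rw [Category.assoc, hl₁, ← Category.assoc, hc', hg₂j]
    refine ⟨c', ?_, ?_⟩
    · apply (cancel_mono (Sigma.ι T k)).1
      rw [Category.assoc, hl₂, ← Category.assoc, hc'l, hc1]
    · rw [← Category.assoc, hc', pullback.lift_snd]

end FinGeoDecomp
end H9FE
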