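import Mathlib
import Groth.Prelude.Def_RDerDelta
import Groth.Agent.Lib.Helper3.RDerL

/-! helper9: (1) acyclicity classes for right derived functors: a class of objects stable under
cokernels of embeddings into injectives on which the functor preserves the epimorphism is acyclic
for the functor; (2) gluing of sections of abelian sheaves on a site along a covering family. -/

set_option autoImplicit false
set_option linter.style.haveILetI false
universe w v u v' u'
open CategoryTheory CategoryTheory.Limits Opposite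

namespace H9FE.FlasqA

section RD

variable {A : Type u} [Category.{v} A] [Abelian A] [EnoughInjectives A]
  {B : Type u'} [Category.{v'} B] [Abelian B] (G : A ⥤ B) [G.Additive] [PreservesFiniteLimits G]

/-- dimension shifting for right derived functors -/
theorem isZero_rightDerived (P : A → Prop)
    (hP : ∀ (S : ShortComplex A), S.ShortExact → P S.X₁ → Injective S.X₂ →
      P S.X₃ ∧ Epi (G.map S.g))
    (n : ℕ) : ∀ (M : A), P M → IsZero ((G.rightDerived (n + 1)).obj M) := by
  let Δ := Groth.Agent.Helper3.RDerL.derivedLES G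
  induction n with
  | zero =>
    intro M hM
    let S : ShortComplex A := ShortComplex.mk (Injective.ι M) (cokernel.π (Injective.ι M))
      (cokernel.condition _)
    have hS : S.ShortExact :=
      { exact := ShortComplex.exact_cokernel _
        mono_f := by dsimp [S]; infer_instance
        epi_g := by dsimp [S]; infer_instance }
    obtain ⟨-, hepi⟩ := hP S hS hM (by dsimp [S]; infer_instance)
    haveI : Injective S.X₂ := by dsimp [S]; infer_instance
    let e0 := G.rightDerivedZeroIsoSelf
    have hnat : (G.rightDerived 0).map S.g =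
        e0.hom.app S.X₂ ≫ G.map S.g ≫ e0.inv.app S.X₃ := by
      rw [← Category.assoc, ← e0.hom.naturality, Category.assoc, Iso.hom_inv_id_app,
        Category.comp_id]
    haveI : Epi ((G.rightDerived 0).map S.g) := by
      rw [hnat]
      infer_instance
    have hδ0 : Δ.δ S hS 0 1 rfl = 0 := by
      have h := Δ.comp_δ S hS 0 1 rfl
      exact (cancel_epi ((G.rightDerived 0).map S.g)).1 (h.trans comp_zero.symm)
    have hz : IsZero ((G.rightDerived 1).obj S.X₂) :=
      Functor.isZero_rightDerived_obj_injective_succ G 0 S.X₂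
    haveI : Epi (Δ.δ S hS 0 1 rfl) :=
      (Δ.exact₁ S hS 0 1 rfl).epi_f (hz.eq_of_tgt _ _)
    exact IsZero.of_epi_eq_zero (Δ.δ S hS 0 1 rfl) hδ0
  | succ k ih =>
    intro M hM
    let S : ShortComplex A := ShortComplex.mk (Injective.ι M) (cokernel.π (Injective.ι M))
      (cokernel.condition _)
    have hS : S.ShortExact :=
      { exact := ShortComplex.exact_cokernel _
        mono_f := by dsimp [S]; infer_instance
        epi_g := by dsimp [S]; infer_instance }
    obtain ⟨hQ, -⟩ := hP S hS hM (by dsimp [S]; infer_instance)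
    haveI : Injective S.X₂ := by dsimp [S]; infer_instance
    have hz : IsZero ((G.rightDerived (k + 1 + 1)).obj S.X₂) :=
      Functor.isZero_rightDerived_obj_injective_succ G (k + 1) S.X₂
    haveI : Epi (Δ.δ S hS (k + 1) (k + 1 + 1) rfl) :=
      (Δ.exact₁ S hS (k + 1) (k + 1 + 1) rfl).epi_f (hz.eq_of_tgt _ _)
    exact IsZero.of_epi_eq_zero (Δ.δ S hS (k + 1) (k + 1 + 1) rfl) ((ih S.X₃ hQ).eq_of_src _ _)

end RD

section Glue

variable {C : Type u} [Category.{v} C] (J : GrothendieckTopology C)

lemma isSheaf_type (F : Sheaf J AddCommGrpCat.{w}) :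
    Presieve.IsSheaf J (F.obj ⋙ forget AddCommGrpCat.{w}) :=
  (isSheaf_iff_isSheaf_of_type _ _).1
    (Presheaf.isSheaf_comp_of_isSheaf _ F.obj (forget _) F.2)

/-- gluing of sections along a covering family -/
theorem glue_arrows (F : Sheaf J AddCommGrpCat.{w}) {V : C} {ι : Type*} (W : ι → C)
    (g : ∀ i, W i ⟶ V) (hg : Sieve.ofArrows W g ∈ J V) (x : ∀ i, F.obj.obj (op (W i)))
    (hx : ∀ (i j : ι) (Z : C) (gi : Z ⟶ W i) (gj : Z ⟶ W j), gi ≫ g i = gj ≫ g j →
      (F.obj.map gi.op).hom (x i) = (F.obj.map gj.op).hom (x j)) :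
    ∃ t : F.obj.obj (op V), ∀ i, (F.obj.map (g i).op).hom t = x i := by
  have h1 := isSheaf_type J F _ hg
  change Presieve.IsSheafFor _ (Sieve.generate (Presieve.ofArrows _ _)).arrows at h1
  rw [← Presieve.isSheafFor_iff_generate, Presieve.isSheafFor_arrows_iff] at h1
  obtain ⟨t, ht, -⟩ := h1 x (fun i j Z gi gj h => hx i j Z gi gj h)
  exact ⟨t, ht⟩

/-- separatedness along a covering family -/
theorem ext_arrows (F : Sheaf J AddCommGrpCat.{w}) {V : C} {ι : Type*} (W : ι → C)
    (g : ∀ i, W i ⟶ V) (hg : Sieve.ofArrows W g ∈ J V) (s t : F.obj.obj (op V))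
    (h : ∀ i, (F.obj.map (g i).op).hom s = (F.obj.map (g i).op).hom t) : s = t := by
  refine (isSheaf_type J F _ hg).isSeparatedFor.ext ?_
  rintro Z f ⟨Y, k, l, hl, rfl⟩
  obtain ⟨i⟩ := hl
  have e : F.obj.map (k ≫ g i).op = F.obj.map (g i).op ≫ F.obj.map k.op := by
    rw [op_comp, Functor.map_comp]
  change (F.obj.map (k ≫ g i).op).hom s = (F.obj.map (k ≫ g i).op).hom t
  rw [e]
  change (F.obj.map k.op).hom ((F.obj.map (g i).op).hom s) =
    (F.obj.map k.op).hom ((F.obj.map (g i).op).hom t)
  rw [h i]

end Glue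

end H9FE.FlasqA
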