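import Mathlib
import Groth.Prelude.Def_EtBase
import Groth.Prelude.Def_EtZar
import Groth.Agent.Lib.Helper9.FE.FlasqA
import Groth.Agent.Lib.Helper9.FE.EtZar2
import Groth.Agent.Lib.Helper9.FE.EtQcClass

/-! helper9: sections of abelian étale sheaves over opens of the base: restriction maps, gluing
along open coverings, and the classical lifting lemma for flasque kernels (Zorn): if
`0 → F' → F → F'' → 0` is exact on sections over opens, `F'` is flasque on opens and `F → F''` is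
locally (on opens) surjective, then `F(U) → F''(U)` is surjective for every open `U`. -/

set_option autoImplicit false
set_option linter.unusedSectionVars false
set_option linter.style.haveILetI false
set_option backward.isDefEq.respectTransparency false
universe u
open CategoryTheory CategoryTheory.Limits AlgebraicGeometry Opposite

namespace H9FE.FlasqB

variable {X : Scheme.{u}}

/-- an open as an object of the small étale site -/
noncomputable abbrev z (U : X.Opens) : X.Etale := (EtZar.zarToEt X).obj U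

/-- inclusions of opens -/
noncomputable abbrev zi {U V : X.Opens} (h : U ≤ V) : z U ⟶ z V :=
  (EtZar.zarToEt X).map (homOfLE h)

section maps

lemma map_comp_app (F : EtCoh.Ab X) {T T' T'' : X.Etale} (a : T'' ⟶ T') (b : T' ⟶ T)
    (s : F.obj.obj (op T)) :
    (F.obj.map a.op).hom ((F.obj.map b.op).hom s) = (F.obj.map (a ≫ b).op).hom s := by
  rw [op_comp, Functor.map_comp]
  rfl

lemma map_id_app (F : EtCoh.Ab X) {T : X.Etale} (s : F.obj.obj (op T)) :
    (F.obj.map (𝟙 T).op).hom s = s := by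
  rw [op_id, F.obj.map_id]
  rfl

lemma nat_app {F G : EtCoh.Ab X} (φ : F ⟶ G) {T T' : X.Etale} (a : T' ⟶ T)
    (s : F.obj.obj (op T)) :
    (φ.hom.app (op T')).hom ((F.obj.map a.op).hom s) =
      (G.obj.map a.op).hom ((φ.hom.app (op T)).hom s) :=
  NatTrans.naturality_apply φ.hom a.op s

variable (F : EtCoh.Ab X)

/-- restriction of sections between opens -/
noncomputable def rs {U V : X.Opens} (h : U ≤ V) (s : F.obj.obj (op (z V))) :
    F.obj.obj (op (z U)) :=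
  (F.obj.map (zi h).op).hom s

lemma rs_rs {U V W : X.Opens} (h : U ≤ V) (h' : V ≤ W) (s : F.obj.obj (op (z W))) :
    rs F h (rs F h' s) = rs F (h.trans h') s := by
  unfold rs
  rw [map_comp_app]
  have e : zi h ≫ zi h' = zi (h.trans h') := Subsingleton.elim _ _
  rw [e]

lemma rs_refl {U : X.Opens} (h : U ≤ U) (s : F.obj.obj (op (z U))) : rs F h s = s := by
  unfold rs
  have e : zi h = 𝟙 (z U) := Subsingleton.elim _ _
  rw [e, map_id_app]

lemma rs_add {U V : X.Opens} (h : U ≤ V) (s t : F.obj.obj (op (z V))) :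
    rs F h (s + t) = rs F h s + rs F h t := map_add _ _ _

lemma rs_sub {U V : X.Opens} (h : U ≤ V) (s t : F.obj.obj (op (z V))) :
    rs F h (s - t) = rs F h s - rs F h t := map_sub _ _ _

lemma rs_nat {F G : EtCoh.Ab X} (φ : F ⟶ G) {U V : X.Opens} (h : U ≤ V)
    (s : F.obj.obj (op (z V))) :
    (φ.hom.app (op (z U))).hom (rs F h s) = rs G h ((φ.hom.app (op (z V))).hom s) :=
  nat_app φ (zi h) s

end maps

section glue

theorem cover_mem {ι : Type*} (U : ι → X.Opens) (V : X.Opens) (hle : ∀ i, U i ≤ V)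
    (hcov : V ≤ ⨆ i, U i) :
    Sieve.ofArrows (fun i => z (U i)) (fun i => zi (hle i)) ∈ X.smallEtaleTopology (z V) := by
  apply EtQcClass.ofArrows_mem
  intro v
  have hv : (v.1 : X) ∈ ⨆ i, U i := hcov v.2
  obtain ⟨i, hi⟩ := TopologicalSpace.Opens.mem_iSup.1 hv
  exact ⟨i, ⟨v.1, hi⟩, Scheme.homOfLE_apply' (hle i) v.1 hi⟩

variable (F : EtCoh.Ab X)

/-- gluing of sections over opens -/
theorem glue_opens {ι : Type*} (U : ι → X.Opens) (V : X.Opens) (hle : ∀ i, U i ≤ V)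
    (hcov : V ≤ ⨆ i, U i) (sf : ∀ i, F.obj.obj (op (z (U i))))
    (hc : ∀ (i j : ι) (O : X.Opens) (h1 : O ≤ U i) (h2 : O ≤ U j),
      rs F h1 (sf i) = rs F h2 (sf j)) :
    ∃ s : F.obj.obj (op (z V)), ∀ i, rs F (hle i) s = sf i := by
  refine FlasqA.glue_arrows X.smallEtaleTopology F _ _ (cover_mem U V hle hcov) sf ?_
  intro i j Z gi gj _
  have hi := EtZar2.range_subset_of_hom X gi
  have hj := EtZar2.range_subset_of_hom X gj
  let O : X.Opens := U i ⊓ U j
  let k : Z ⟶ z O := EtZar2.homTo X Z O (fun x hx => ⟨hi hx, hj hx⟩)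
  have ei : gi = k ≫ zi (inf_le_left : O ≤ U i) := Subsingleton.elim _ _
  have ej : gj = k ≫ zi (inf_le_right : O ≤ U j) := Subsingleton.elim _ _
  rw [ei, ej, ← map_comp_app, ← map_comp_app]
  exact congrArg _ (hc i j O inf_le_left inf_le_right)

/-- separatedness over opens -/
theorem ext_opens {ι : Type*} (U : ι → X.Opens) (V : X.Opens) (hle : ∀ i, U i ≤ V)
    (hcov : V ≤ ⨆ i, U i) (s t : F.obj.obj (op (z V)))
    (h : ∀ i, rs F (hle i) s = rs F (hle i) t) : s = t :=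
  FlasqA.ext_arrows X.smallEtaleTopology F _ _ (cover_mem U V hle hcov) s t h

/-- gluing two sections -/
theorem glue_two (U₁ U₂ : X.Opens) (s₁ : F.obj.obj (op (z U₁))) (s₂ : F.obj.obj (op (z U₂)))
    (h : rs F (inf_le_left : U₁ ⊓ U₂ ≤ U₁) s₁ = rs F (inf_le_right : U₁ ⊓ U₂ ≤ U₂) s₂) :
    ∃ s : F.obj.obj (op (z (U₁ ⊔ U₂))),
      rs F (le_sup_left : U₁ ≤ U₁ ⊔ U₂) s = s₁ ∧ rs F (le_sup_right : U₂ ≤ U₁ ⊔ U₂) s = s₂ := by
  let Uf : Bool → X.Opens := fun c => cond c U₁ U₂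
  let sf : ∀ c, F.obj.obj (op (z (Uf c))) := fun c =>
    Bool.rec (motive := fun c => F.obj.obj (op (z (Uf c)))) s₂ s₁ c
  have hle : ∀ c, Uf c ≤ U₁ ⊔ U₂ := fun c => by
    cases c
    · exact le_sup_right
    · exact le_sup_left
  have hcov : U₁ ⊔ U₂ ≤ ⨆ c, Uf c := sup_le (le_iSup Uf true) (le_iSup Uf false)
  have key : ∀ (O : X.Opens) (h1 : O ≤ U₁) (h2 : O ≤ U₂), rs F h1 s₁ = rs F h2 s₂ := by
    intro O h1 h2
    rw [← rs_rs F (le_inf h1 h2) inf_le_left, h, rs_rs]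
  obtain ⟨s, hs⟩ := glue_opens F Uf _ hle hcov sf (by
    intro i j O h1 h2
    cases i <;> cases j
    · rfl
    · exact (key O h2 h1).symm
    · exact key O h1 h2
    · rfl)
  exact ⟨s, hs true, hs false⟩

theorem ext_two (U₁ U₂ : X.Opens) (s t : F.obj.obj (op (z (U₁ ⊔ U₂))))
    (h1 : rs F (le_sup_left : U₁ ≤ U₁ ⊔ U₂) s = rs F le_sup_left t)
    (h2 : rs F (le_sup_right : U₂ ≤ U₁ ⊔ U₂) s = rs F le_sup_right t) : s = t := by
  let Uf : Bool → X.Opens := fun c => cond c U₁ U₂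
  have hle : ∀ c, Uf c ≤ U₁ ⊔ U₂ := fun c => by
    cases c
    · exact le_sup_right
    · exact le_sup_left
  have hcov : U₁ ⊔ U₂ ≤ ⨆ c, Uf c := sup_le (le_iSup Uf true) (le_iSup Uf false)
  apply ext_opens F Uf _ hle hcov
  intro c
  cases c
  · exact h2
  · exact h1

end glue

section Zorn

variable (S : ShortComplex (EtCoh.Ab X)) (U : X.Opens) (t : S.X₃.obj.obj (op (z U)))

/-- partial lifts of `t` -/
structure Lift where
  /-- domain -/
  V : X.Opens
  le : V ≤ U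
  /-- the lift -/
  s : S.X₂.obj.obj (op (z V))
  hs : (S.g.hom.app (op (z V))).hom s = rs S.X₃ le t

instance : Preorder (Lift S U t) where
  le a b := ∃ h : a.V ≤ b.V, rs S.X₂ h b.s = a.s
  le_refl a := ⟨le_refl _, rs_refl _ _ _⟩
  le_trans a b c := by
    rintro ⟨h1, e1⟩ ⟨h2, e2⟩
    exact ⟨h1.trans h2, by rw [← rs_rs S.X₂ h1 h2, e2, e1]⟩

lemma chain_bdd (c : Set (Lift S U t)) (hc : IsChain (· ≤ ·) c) : BddAbove c := by
  let Uf : c → X.Opens := fun i => i.1.V
  let V : X.Opens := ⨆ i, Uf i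
  have hle : ∀ i, Uf i ≤ V := le_iSup Uf
  have hVU : V ≤ U := iSup_le (fun i => i.1.le)
  obtain ⟨s, hs⟩ := glue_opens S.X₂ Uf V hle le_rfl (fun i => i.1.s) (by
    intro i j O h1 h2
    rcases hc.total i.2 j.2 with h | h
    · obtain ⟨hij, e⟩ := h
      rw [← e, rs_rs]
    · obtain ⟨hji, e⟩ := h
      rw [← e, rs_rs])
  refine ⟨⟨V, hVU, s, ?_⟩, ?_⟩
  · apply ext_opens S.X₃ Uf V hle le_rfl
    intro i
    rw [← rs_nat, hs i, i.1.hs, rs_rs]
  · intro a ha
    exact ⟨hle ⟨a, ha⟩, hs ⟨a, ha⟩⟩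

/-- the lifting lemma for flasque kernels -/
theorem lift_opens
    (hex : ∀ (O : X.Opens) (d : S.X₂.obj.obj (op (z O))), (S.g.hom.app (op (z O))).hom d = 0 →
      ∃ a : S.X₁.obj.obj (op (z O)), (S.f.hom.app (op (z O))).hom a = d)
    (hzero : ∀ (O : X.Opens) (a : S.X₁.obj.obj (op (z O))),
      (S.g.hom.app (op (z O))).hom ((S.f.hom.app (op (z O))).hom a) = 0)
    (hfl : ∀ (O O' : X.Opens) (h : O ≤ O'), Function.Surjective (rs S.X₁ h))
    (hloc : ∀ x ∈ U, ∃ (W : X.Opens) (hW : W ≤ U), x ∈ W ∧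
      ∃ b : S.X₂.obj.obj (op (z W)), (S.g.hom.app (op (z W))).hom b = rs S.X₃ hW t) :
    ∃ s : S.X₂.obj.obj (op (z U)), (S.g.hom.app (op (z U))).hom s = t := by
  obtain ⟨m, hm⟩ := zorn_le (chain_bdd S U t)
  have hU : U ≤ m.V := by
    intro x hx
    obtain ⟨W, hW, hxW, b, hb⟩ := hloc x hx
    let I : X.Opens := m.V ⊓ W
    have hI1 : I ≤ m.V := inf_le_left
    have hI2 : I ≤ W := inf_le_right
    let d := rs S.X₂ hI1 m.s - rs S.X₂ hI2 b
    have hd : (S.g.hom.app (op (z I))).hom d = 0 := by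
      show (S.g.hom.app (op (z I))).hom (rs S.X₂ hI1 m.s - rs S.X₂ hI2 b) = 0
      rw [map_sub, rs_nat, rs_nat, m.hs, hb, rs_rs, rs_rs, sub_self]
    obtain ⟨a, ha⟩ := hex I d hd
    obtain ⟨a', ha'⟩ := hfl I W hI2 a
    let b' := b + (S.f.hom.app (op (z W))).hom a'
    have hb' : (S.g.hom.app (op (z W))).hom b' = rs S.X₃ hW t := by
      show (S.g.hom.app (op (z W))).hom (b + (S.f.hom.app (op (z W))).hom a') = _
      rw [map_add, hzero, add_zero, hb]
    have hb'I : rs S.X₂ hI1 m.s = rs S.X₂ hI2 b' := by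
      show _ = rs S.X₂ hI2 (b + (S.f.hom.app (op (z W))).hom a')
      rw [rs_add, ← rs_nat, ha', ha]
      show _ = rs S.X₂ hI2 b + (rs S.X₂ hI1 m.s - rs S.X₂ hI2 b)
      abel
    obtain ⟨s', hs1, hs2⟩ := glue_two S.X₂ m.V W m.s b' hb'I
    have hs' : (S.g.hom.app (op (z (m.V ⊔ W)))).hom s' = rs S.X₃ (sup_le m.le hW) t := by
      apply ext_two S.X₃ m.V W
      · rw [← rs_nat, hs1, m.hs, rs_rs]
      · rw [← rs_nat, hs2, hb', rs_rs]
    let n : Lift S U t := ⟨m.V ⊔ W, sup_le m.le hW, s', hs'⟩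
    have hmn : m ≤ n := ⟨le_sup_left, hs1⟩
    obtain ⟨h, -⟩ := hm hmn
    exact h (le_sup_right (a := m.V) hxW)
  refine ⟨rs S.X₂ hU m.s, ?_⟩
  rw [rs_nat, m.hs, rs_rs, rs_refl]

end Zorn

end H9FE.FlasqB
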