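import Mathlib
import Groth.Prelude.Def_EtBase
import Groth.Prelude.Def_EtCore
import Groth.Agent.Lib.Helper9.FE.FlasqB
import Groth.Agent.Lib.Helper9.FE.NormalSplitGlob
import Groth.Agent.Lib.Helper9.FE.CechCartanG
import Groth.Agent.Lib.Helper9.FE.ConstUnit
import Groth.Agent.Lib.Helper9.FE.EtHColim
import Groth.Agent.Lib.Helper3.EdgeOutIso3
import Groth.Agent.Lib.Helper3.AcyClass
import Groth.Agent.Lib.Helper5.Misc.EtSiteBasic
import Groth.Agent.S0088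

/-! helper9: on a normal integral scheme with separably closed function field, abelian étale sheaves
which are flasque on the opens of the base are acyclic for global sections and for every direct
image; constant sheaves are of this kind. -/

set_option autoImplicit false
set_option linter.unusedSectionVars false
set_option linter.style.haveILetI false
set_option backward.isDefEq.respectTransparency false
universe u
open CategoryTheory CategoryTheory.Limits AlgebraicGeometry Opposite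

namespace H9FE.FlasqC
open H9FE H9FE.FlasqB Groth.Agent.Lib.Helper5 Groth.Agent.S14453.Aux Groth.Agent.S0088.Aux

theorem exists_disjoint_opens {U X : Scheme.{u}} [IsIntegral X] (g : U ⟶ X) [Etale g]
    [IsSeparated g]
    (hloc : ∀ u : U, ∃ N : U.Opens, u ∈ N ∧ IsOpenImmersion (N.ι ≫ g)) :
    ∃ (ι : Type u) (V' : ι → U.Opens), (∀ i, IsOpenImmersion ((V' i).ι ≫ g)) ∧
      (∀ u : U, ∃ i, u ∈ V' i) ∧ ∀ i j, i ≠ j → Disjoint (V' i) (V' j) := by
  classical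
  let η := genericPoint X
  have hη : ∀ O : X.Opens, (O : Set X).Nonempty → η ∈ O := by
    intro O hO
    have := (genericPoint_spec X).mem_open_set_iff O.isOpen
    exact this.2 (by simpa using hO)
  -- F1'
  have F1' : ∀ N : U.Opens, IsOpenImmersion (N.ι ≫ g) → ∀ ξ ξ' : U, ξ ∈ N → ξ' ∈ N →
      g ξ = g ξ' → ξ = ξ' := by
    intro N hN ξ ξ' h h' hg
    have : (N.ι ≫ g) ⟨ξ, h⟩ = (N.ι ≫ g) ⟨ξ', h'⟩ := hg
    have := (N.ι ≫ g).injective this
    exact congrArg Subtype.val this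
  -- F2
  have F2 : ∀ N : U.Opens, IsOpenImmersion (N.ι ≫ g) → ∀ ξ : U, ξ ∈ N → g ξ = η →
      ∀ M : U.Opens, (∃ m, m ∈ M ∧ m ∈ N) → ξ ∈ M := by
    intro N hN ξ hξ hgξ M ⟨m, hmM, hmN⟩
    let O : X.Opens := (N.ι ≫ g) ''ᵁ (N.ι ⁻¹ᵁ M)
    have hO : (O : Set X).Nonempty := ⟨g m, ⟨⟨m, hmN⟩, hmM, rfl⟩⟩
    obtain ⟨n, hnM, hn⟩ := hη O hO
    have : n.1 = ξ := F1' N hN n.1 ξ n.2 hξ (by rw [hgξ]; exact hn)
    rw [← this]
    exact hnM
  -- F1
  have F1 : ∀ N : U.Opens, IsOpenImmersion (N.ι ≫ g) → ∀ n : U, n ∈ N → ∃ ξ, ξ ∈ N ∧ g ξ = η := by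
    intro N hN n hn
    have hO : ((N.ι ≫ g).opensRange : Set X).Nonempty := ⟨g n, ⟨⟨n, hn⟩, rfl⟩⟩
    obtain ⟨ξ, hξ⟩ := hη _ hO
    exact ⟨ξ.1, ξ.2, hξ⟩
  let ι : Type u := {ξ : U // g ξ = η}
  let V' : ι → U.Opens := fun ξ =>
    ⨆ N : {N : U.Opens // IsOpenImmersion (N.ι ≫ g) ∧ ξ.1 ∈ N}, N.1
  have hmem : ∀ (ξ : ι) (u : U), u ∈ V' ξ ↔
      ∃ N : U.Opens, IsOpenImmersion (N.ι ≫ g) ∧ ξ.1 ∈ N ∧ u ∈ N := by
    intro ξ u
    constructor
    · intro h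
      obtain ⟨⟨N, hN, hξ⟩, hu⟩ := TopologicalSpace.Opens.mem_iSup.1 h
      exact ⟨N, hN, hξ, hu⟩
    · rintro ⟨N, hN, hξ, hu⟩
      exact TopologicalSpace.Opens.mem_iSup.2 ⟨⟨N, hN, hξ⟩, hu⟩
  have hinj : ∀ (ξ : ι) (u₁ u₂ : U), u₁ ∈ V' ξ → u₂ ∈ V' ξ → g u₁ = g u₂ → u₁ = u₂ := by
    intro ξ u₁ u₂ h₁ h₂ hg
    obtain ⟨N₁, hN₁, hξ₁, hu₁⟩ := (hmem ξ u₁).1 h₁
    obtain ⟨N₂, hN₂, hξ₂, hu₂⟩ := (hmem ξ u₂).1 h₂
    exact eq_of_good_of_generic g N₁ N₂ hN₁ hN₂ ξ.1 hξ₁ hξ₂ u₁ u₂ hu₁ hu₂ hg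
  have hmono : ∀ ξ : ι, Mono ((V' ξ).ι ≫ g) := by
    intro ξ
    constructor
    intro T b₁ b₂ hb
    rw [← cancel_mono (V' ξ).ι]
    apply Scheme.hom_ext_of_forall
    intro t
    have hpt : ∀ t : T, (b₁ ≫ (V' ξ).ι) t = (b₂ ≫ (V' ξ).ι) t := by
      intro t
      apply hinj ξ _ _ (b₁ t).2 (b₂ t).2
      have := congrArg (fun k => k t) hb
      exact this
    obtain ⟨N, hN, hξ, hu⟩ := (hmem ξ _).1 (b₁ t).2
    let T' : T.Opens := (b₁ ≫ (V' ξ).ι) ⁻¹ᵁ N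
    have htT' : t ∈ T' := hu
    refine ⟨T', htT', ?_⟩
    have hr₁ : Set.range (T'.ι ≫ b₁ ≫ (V' ξ).ι) ⊆ Set.range N.ι := by
      rintro _ ⟨d, rfl⟩
      rw [Scheme.Opens.range_ι]
      exact d.2
    have hr₂ : Set.range (T'.ι ≫ b₂ ≫ (V' ξ).ι) ⊆ Set.range N.ι := by
      rintro _ ⟨d, rfl⟩
      rw [Scheme.Opens.range_ι]
      show (b₂ ≫ (V' ξ).ι) d.1 ∈ N
      rw [← hpt d.1]
      exact d.2
    let k₁ := IsOpenImmersion.lift N.ι _ hr₁
    let k₂ := IsOpenImmersion.lift N.ι _ hr₂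
    have e₁ : k₁ ≫ N.ι = T'.ι ≫ b₁ ≫ (V' ξ).ι := IsOpenImmersion.lift_fac N.ι _ hr₁
    have e₂ : k₂ ≫ N.ι = T'.ι ≫ b₂ ≫ (V' ξ).ι := IsOpenImmersion.lift_fac N.ι _ hr₂
    have hk : k₁ = k₂ := by
      rw [← cancel_mono (N.ι ≫ g)]
      calc k₁ ≫ N.ι ≫ g = (k₁ ≫ N.ι) ≫ g := (Category.assoc _ _ _).symm
        _ = (T'.ι ≫ b₁ ≫ (V' ξ).ι) ≫ g := by rw [e₁]
        _ = T'.ι ≫ (b₁ ≫ (V' ξ).ι ≫ g) := by simp only [Category.assoc]
        _ = T'.ι ≫ (b₂ ≫ (V' ξ).ι ≫ g) := by rw [hb]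
        _ = (T'.ι ≫ b₂ ≫ (V' ξ).ι) ≫ g := by simp only [Category.assoc]
        _ = (k₂ ≫ N.ι) ≫ g := by rw [e₂]
        _ = k₂ ≫ N.ι ≫ g := Category.assoc _ _ _
    exact e₁.symm.trans ((congrArg (· ≫ N.ι) hk).trans e₂)
  have hoi : ∀ ξ : ι, IsOpenImmersion ((V' ξ).ι ≫ g) := by
    intro ξ
    have := hmono ξ
    exact IsOpenImmersion.of_flat_of_mono _
  have hcov : ∀ u : U, ∃ ξ : ι, u ∈ V' ξ := by
    intro u
    obtain ⟨N, huN, hN⟩ := hloc u
    obtain ⟨ξ, hξN, hξ⟩ := F1 N hN u huN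
    exact ⟨⟨ξ, hξ⟩, (hmem _ u).2 ⟨N, hN, hξN, huN⟩⟩
  have hdisj : ∀ ξ ξ' : ι, ξ ≠ ξ' → Disjoint (V' ξ) (V' ξ') := by
    intro ξ ξ' hne
    rw [disjoint_iff]
    ext u
    simp only [TopologicalSpace.Opens.coe_inf, Set.mem_inter_iff, SetLike.mem_coe,
      TopologicalSpace.Opens.coe_bot, Set.mem_empty_iff_false, iff_false, not_and]
    intro h h'
    obtain ⟨N, hN, hξ, hu⟩ := (hmem ξ u).1 h
    obtain ⟨N', hN', hξ', hu'⟩ := (hmem ξ' u).1 h'
    have h1 : ξ.1 ∈ N' := F2 N hN ξ.1 hξ ξ.2 N' ⟨u, hu', hu⟩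
    have h2 : ξ.1 = ξ'.1 := F1' N' hN' ξ.1 ξ'.1 h1 hξ' (by rw [ξ.2, ξ'.2])
    exact hne (Subtype.ext h2)
  exact ⟨ι, V', hoi, hcov, hdisj⟩

variable {X : Scheme.{u}}

/-- flasque on the opens of the base -/
def Flq (F : EtCoh.Ab X) : Prop :=
  ∀ (O O' : X.Opens) (h : O ≤ O'), Function.Surjective (rs F h)

theorem flq_of_injective (I : EtCoh.Ab X) [Injective I] : Flq I := by
  intro O O' h s
  haveI : Mono (zi h) := ⟨fun a b _ => Subsingleton.elim _ _⟩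
  obtain ⟨s', hs'⟩ := Groth.Agent.Helper3.EdgeOutIso.surjective_of_injective
    X.smallEtaleTopology I (zi h) s
  exact ⟨s', hs'⟩

theorem flq_const [IrreducibleSpace X] (A : AddCommGrpCat.{u+1}) : Flq (ConstUnit.cS X A) := by
  intro O O' h s
  haveI : PreirreducibleSpace (z O).left := by
    have h1 : IsPreirreducible (O : Set X) :=
      (IrreducibleSpace.isIrreducible_univ X).isPreirreducible.open_subset O.isOpen
        (Set.subset_univ _)
    exact Subtype.preirreducibleSpace h1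
  obtain ⟨a, ha⟩ := ConstUnit.ts_surjective X A (z O) s
  refine ⟨(toSheafify X.smallEtaleTopology (ConstUnit.cP X A)).app (op (z O')) a, ?_⟩
  rw [← ha]
  exact ConstUnit.toSheafify_map A (zi h) a

variable [IsIntegral X] (hN : ∀ x : X, IsIntegrallyClosed (X.presheaf.stalk x))
  [IsSepClosed X.functionField]

include hN in
theorem hloc_of_epi {F G : EtCoh.Ab X} (φ : F ⟶ G) [Epi φ] (U : X.Opens)
    (t : G.obj.obj (op (z U))) :
    ∀ x ∈ U, ∃ (W : X.Opens) (hW : W ≤ U), x ∈ W ∧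
      ∃ b : F.obj.obj (op (z W)), (φ.hom.app (op (z W))).hom b = rs G hW t := by
  intro x hx
  haveI : Sheaf.IsLocallySurjective φ :=
    (Sheaf.isLocallySurjective_iff_epi' _ φ).mpr inferInstance
  have hmem := Presheaf.imageSieve_mem X.smallEtaleTopology φ.hom t
  rw [EtSiteBasic.mem_smallEtale_iff] at hmem
  obtain ⟨W, g, w, ⟨b, hb⟩, hw⟩ := hmem (show (z U).left from ⟨x, hx⟩)
  haveI : Etale W.hom := W.prop
  obtain ⟨N, hwN, hN'⟩ := exists_opens_isOpenImmersion hN W.hom w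
  haveI := hN'
  let j : (N : Scheme.{u}) ⟶ X := N.ι ≫ W.hom
  let O : X.Opens := j.opensRange
  let ψ₀ : (O : Scheme.{u}) ⟶ W.left := j.isoOpensRange.inv ≫ N.ι
  have hψ₀ : ψ₀ ≫ W.hom = O.ι := by
    show (j.isoOpensRange.inv ≫ N.ι) ≫ W.hom = O.ι
    rw [Category.assoc]
    exact j.isoOpensRange_inv_comp
  let ψ : z O ⟶ W := MorphismProperty.Over.homMk ψ₀ hψ₀ trivial
  have hOU : O ≤ U := EtZar2.le_of_hom X (ψ ≫ g)
  have hWx : W.hom w = x := by
    have h1 := congrArg (fun f : W.left ⟶ X => f w) (EtZar2.zar_hom_w X g)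
    have h2 : (g.left ≫ U.ι) w = x := by
      show (g.left w).1 = x
      rw [hw]
    exact h1.symm.trans h2
  refine ⟨O, hOU, ⟨⟨w, hwN⟩, hWx⟩, (F.obj.map ψ.op).hom b, ?_⟩
  have e : ψ ≫ g = zi hOU := Subsingleton.elim _ _
  have hb' : (φ.hom.app (op W)).hom b = (G.obj.map g.op).hom t := hb
  rw [nat_app, hb', map_comp_app, e]
  rfl

include hN in
theorem lift_open (S : ShortComplex (EtCoh.Ab X)) (hS : S.ShortExact) (hfl : Flq S.X₁)
    (U : X.Opens) (t : S.X₃.obj.obj (op (z U))) :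
    ∃ s : S.X₂.obj.obj (op (z U)), (S.g.hom.app (op (z U))).hom s = t := by
  haveI := hS.epi_g
  exact lift_opens S U t (fun O d hd => CechCartanG.exact_sections hS (z O) d hd)
    (fun O a => CechCartanG.zero_apply (z O) a) hfl (hloc_of_epi hN S.g U t)

include hN in
theorem lift_oi (S : ShortComplex (EtCoh.Ab X)) (hS : S.ShortExact) (hfl : Flq S.X₁)
    (T : X.Etale) [IsOpenImmersion T.hom] (t : S.X₃.obj.obj (op T)) :
    ∃ s : S.X₂.obj.obj (op T), (S.g.hom.app (op T)).hom s = t := by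
  let O : X.Opens := T.hom.opensRange
  let α : z O ⟶ T := MorphismProperty.Over.homMk T.hom.isoOpensRange.inv
    T.hom.isoOpensRange_inv_comp trivial
  let β : T ⟶ z O := MorphismProperty.Over.homMk T.hom.isoOpensRange.hom
    T.hom.isoOpensRange_hom_ι trivial
  have hβα : β ≫ α = 𝟙 T := by
    apply MorphismProperty.Over.Hom.ext
    show T.hom.isoOpensRange.hom ≫ T.hom.isoOpensRange.inv = 𝟙 _
    exact Iso.hom_inv_id _
  obtain ⟨s, hs⟩ := lift_open hN S hS hfl O ((S.X₃.obj.map α.op).hom t)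
  refine ⟨(S.X₂.obj.map β.op).hom s, ?_⟩
  rw [nat_app, hs, map_comp_app, hβα, map_id_app]

include hN in
theorem lift_separated (S : ShortComplex (EtCoh.Ab X)) (hS : S.ShortExact) (hfl : Flq S.X₁)
    (W : X.Etale) [IsSeparated W.hom] (t : S.X₃.obj.obj (op W)) :
    ∃ b : S.X₂.obj.obj (op W), (S.g.hom.app (op W)).hom b = t := by
  haveI : Etale W.hom := W.prop
  obtain ⟨ι, V', hoi, hcov, hdisj⟩ :=
    exists_disjoint_opens (X := X) (U := W.left) W.hom (exists_opens_isOpenImmersion hN W.hom)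
  have hl : ∀ i, ∃ b : S.X₂.obj.obj (op (opObj W (V' i))),
      (S.g.hom.app (op (opObj W (V' i)))).hom b = (S.X₃.obj.map (opι W (V' i)).op).hom t := by
    intro i
    haveI : IsOpenImmersion (opObj W (V' i)).hom := hoi i
    exact lift_oi hN S hS hfl (opObj W (V' i)) _
  choose b hb using hl
  obtain ⟨s, hs⟩ := glue_cover W V' hcov (S.X₂.obj ⋙ forget _)
    (FlasqA.isSheaf_type _ S.X₂) hdisj b
  refine ⟨s, ?_⟩
  apply sep_cover W V' hcov (S.X₃.obj ⋙ forget _) (FlasqA.isSheaf_type _ S.X₃)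
  intro k
  have hs' : (S.X₂.obj.map (opι W (V' k)).op).hom s = b k := hs k
  change (S.X₃.obj.map (opι W (V' k)).op).hom ((S.g.hom.app (op W)).hom s) =
    (S.X₃.obj.map (opι W (V' k)).op).hom t
  rw [← nat_app, hs', hb k]

include hN in
theorem flq_X₃ (S : ShortComplex (EtCoh.Ab X)) (hS : S.ShortExact) (h1 : Flq S.X₁)
    (h2 : Flq S.X₂) : Flq S.X₃ := by
  intro O O' h t
  obtain ⟨b, hb⟩ := lift_open hN S hS h1 O t
  obtain ⟨b', hb'⟩ := h2 O O' h b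
  refine ⟨(S.g.hom.app (op (z O'))).hom b', ?_⟩
  rw [← rs_nat, hb', hb]

include hN in
/-- sheaves flasque on opens have no higher cohomology -/
theorem H_subsingleton (F : EtCoh.Ab X) (hF : Flq F) (i : ℕ) (hi : 0 < i) :
    Subsingleton (EtCoh.H X F i) := by
  obtain ⟨n, rfl⟩ : ∃ n, i = n + 1 := ⟨i - 1, by omega⟩
  have key : ∀ x : EtCoh.H X F (n + 1), x = 0 :=
    Groth.Agent.Helper3.AcyClass.ext_eq_zero (EtHColim.ZZ X) (Flq (X := X)) (by
      intro S hS h1 h2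
      haveI := h2
      refine ⟨flq_X₃ hN S hS h1 (flq_of_injective S.X₂), fun ψ => ?_⟩
      refine EtHColim.hZ X S ?_ ψ
      intro t
      haveI : IsSeparated (EtCoh.top X).hom := (inferInstance : IsSeparated (𝟙 X))
      exact lift_separated hN S hS h1 (EtCoh.top X) t) n F hF
  exact ⟨fun a b => (key a).trans (key b).symm⟩

include hN in
/-- sheaves flasque on opens have no higher direct images -/
theorem Rpush_isZero {Y : Scheme.{u}} (f : X ⟶ Y) (F : EtCoh.Ab X) (hF : Flq F) (q : ℕ)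
    (hq : 1 ≤ q) : IsZero ((EtCoh.Rpush f q).obj F) := by
  obtain ⟨n, rfl⟩ : ∃ n, q = n + 1 := ⟨q - 1, by omega⟩
  haveI : PreservesFiniteLimits (EtCoh.push f) := inferInstance
  refine FlasqA.isZero_rightDerived (EtCoh.push f) (Flq (X := X)) ?_ n F hF
  intro S hS h1 h2
  haveI := h2
  refine ⟨flq_X₃ hN S hS h1 (flq_of_injective S.X₂), ?_⟩
  refine (Sheaf.isLocallySurjective_iff_epi' _ ((EtCoh.push f).map S.g)).mp ⟨fun {V} t => ?_⟩
  rw [EtSiteBasic.mem_smallEtale_iff]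
  intro v
  obtain ⟨_, ⟨V0, hV0, rfl⟩, hvV, -⟩ := V.left.isBasis_affineOpens.exists_subset_of_mem_open
      (Set.mem_univ v) isOpen_univ
  haveI : Etale V.hom := V.prop
  let V' : V.left.Opens := V0
  let T : Y.Etale := opObj V V'
  let g : T ⟶ V := opι V V'
  refine ⟨T, g, ⟨v, hvV⟩, ?_, rfl⟩
  haveI : IsAffine T.left := hV0
  haveI hT1 : T.left.IsSeparated := inferInstance
  haveI hT2 : IsSeparated (T.hom : T.left ⟶ Y) := by
    haveI : IsSeparated ((T.hom : T.left ⟶ Y) ≫ terminal.from Y) := by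
      have e : (T.hom : T.left ⟶ Y) ≫ terminal.from Y = terminal.from T.left :=
        terminal.hom_ext _ _
      rw [e]
      exact hT1.1
    exact IsSeparated.of_comp (T.hom : T.left ⟶ Y) (terminal.from Y)
  haveI : IsSeparated ((EtCoh.bc f).obj T).hom :=
    (inferInstance : IsSeparated (pullback.snd (T.hom : T.left ⟶ Y) f))
  obtain ⟨b, hb⟩ := lift_separated hN S hS h1 ((EtCoh.bc f).obj T)
    ((((EtCoh.push f).obj S.X₃).obj.map g.op).hom t)
  exact ⟨b, hb⟩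

end H9FE.FlasqC
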