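import Mathlib
import Groth.Prelude.Def_Hensel
import Groth.Agent.Lib.Helper7.SHens.Abstract

/-! helper9: flatness over strict henselizations: a module over (a ring isomorphic to) the colimit
`G A Ω` of the étale neighbourhoods which is flat over `A` is flat over the colimit
(`flat_of_model`: flat over each stage by `Algebra.FormallyUnramified.flat_of_restrictScalars`,
and relations over the colimit come from a stage); consequence: a local homomorphism between strict
henselizations lying over a flat homomorphism of local rings is flat (`flat_of_strictHens`). -/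

set_option autoImplicit false
set_option linter.unusedSectionVars false
set_option linter.style.haveILetI false
universe u
open CategoryTheory CategoryTheory.Limits

namespace H9FE.FlatInd
open Groth.Agent.Helper7.SHens

theorem flat_of_model {A : Type u} [CommRing A] {Ω : Type u} [CommRing Ω] [Algebra A Ω]
    (B : Type u) [CommRing B] [Algebra A B] (e : B ≃ₐ[A] G A Ω)
    (M : Type u) [AddCommGroup M] [Module A M] [Module B M] [IsScalarTower A B M]
    [Module.Flat A M] : Module.Flat B M := by
  apply Module.Flat.of_forall_isTrivialRelation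
  intro l f x hfx
  obtain ⟨X₀, -, -⟩ := exists_rep (0 : G A Ω)
  obtain ⟨U, -, φ, hφ⟩ := exists_rep_fin X₀ (fun i => e (f i))
  let θ : U.Ring →ₐ[A] B := (e.symm : G A Ω →ₐ[A] B).comp (ιAlg U)
  have hθ : ∀ i, θ (φ i) = f i := fun i => by
    change e.symm (ι U (φ i)) = f i
    rw [hφ, AlgEquiv.symm_apply_apply]
  letI : Module U.Ring M := Module.compHom M (θ : U.Ring →+* B)
  have hsm : ∀ (c : U.Ring) (m : M), c • m = θ c • m := fun _ _ => rfl
  haveI : IsScalarTower A U.Ring M := ⟨fun a c m => by
    rw [hsm, hsm, map_smul, smul_assoc]⟩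
  haveI : Module.Flat U.Ring M := Algebra.FormallyUnramified.flat_of_restrictScalars A U.Ring M
  have h2 : ∑ i, φ i • x i = 0 := by
    rw [← hfx]
    exact Finset.sum_congr rfl (fun i _ => by rw [hsm, hθ])
  obtain ⟨k, a, y, hy1, hy2⟩ := Module.Flat.isTrivialRelation_of_sum_smul_eq_zero h2
  refine ⟨k, fun i j => θ (a i j), y, ?_, ?_⟩
  · intro i
    rw [hy1 i]
    exact Finset.sum_congr rfl (fun j _ => hsm _ _)
  · intro j
    have := congrArg θ (hy2 j)
    rw [map_sum, map_zero] at this
    rw [← this]
    exact Finset.sum_congr rfl (fun i _ => by rw [map_mul, hθ])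

theorem flat_of_strictHens {AS AX : Type u} [CommRing AS] [IsLocalRing AS] [CommRing AX]
    [IsLocalRing AX] (φ : AS →+* AX) (hφ : φ.Flat)
    (RS : Type u) [CommRing RS] [IsLocalRing RS] [Algebra AS RS] [IsLocalHom (algebraMap AS RS)]
    [Hensel.IsStrictHenselization AS RS]
    (RX : Type u) [CommRing RX] [IsLocalRing RX] [Algebra AX RX] [IsLocalHom (algebraMap AX RX)]
    [Hensel.IsStrictHenselization AX RX]
    (ψ : RS →+* RX) (hψ : ψ.comp (algebraMap AS RS) = (algebraMap AX RX).comp φ) : ψ.Flat := by
  letI : Algebra AS AX := φ.toAlgebra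
  haveI : Module.Flat AS AX := hφ
  letI : Algebra AS RX := ((algebraMap AX RX).comp φ).toAlgebra
  haveI : IsScalarTower AS AX RX := IsScalarTower.of_algebraMap_eq (fun _ => rfl)
  haveI : Module.Flat AX RX := flat_of_isStrictHenselization AX RX
  haveI : Module.Flat AS RX := Module.Flat.trans AS AX RX
  letI : Algebra RS RX := ψ.toAlgebra
  haveI : IsScalarTower AS RS RX :=
    IsScalarTower.of_algebraMap_eq (fun a => (RingHom.congr_fun hψ a).symm)
  obtain ⟨e, -⟩ := exists_algEquiv_Model AS RS
  exact flat_of_model RS e RX

end H9FE.FlatInd
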