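import Mathlib
import Groth.Agent.Lib.Helper9.FE.AbsBasis
import Groth.Agent.Lib.Helper9.FE.SchSh
import Groth.Agent.Lib.Helper9.FE.AlgPush
/-! helper9: sections of the base change of an affine morphism with locally free sections: Γ(W) → Γ(W ×_S X) is bijective when O_S → f_*O_X is -/
open CategoryTheory CategoryTheory.Limits AlgebraicGeometry TopologicalSpace Opposite
universe u
set_option linter.style.haveILetI false
set_option linter.unusedSectionVars false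
set_option backward.isDefEq.respectTransparency false
namespace H9FE

section FLF
variable {W S X : Scheme.{u}} (π : W ⟶ S) (f : X ⟶ S)

theorem snd_preimage_le (V : S.Opens) :
    (pullback.snd π f) ⁻¹ᵁ (f ⁻¹ᵁ V) ≤ (pullback.fst π f) ⁻¹ᵁ (π ⁻¹ᵁ V) := by
  rw [← Scheme.Hom.comp_preimage, ← Scheme.Hom.comp_preimage, pullback.condition]

theorem snd_preimage_le' {V : S.Opens} {Ω : X.Opens} (hΩ : Ω ≤ f ⁻¹ᵁ V) :
    (pullback.snd π f) ⁻¹ᵁ Ω ≤ (pullback.fst π f) ⁻¹ᵁ (π ⁻¹ᵁ V) :=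
  ((pullback.snd π f).preimage_mono hΩ).trans (snd_preimage_le π f V)

variable (V₀ : S.Opens) {n : ℕ} (b : Fin n → Γ(W, π ⁻¹ᵁ V₀))

/-- the comparison map from tuples of functions on `Ω ⊆ X` to functions on the preimage in the
fibre product -/
noncomputable def phi2 (Ω : X.Opens) (hΩ : Ω ≤ f ⁻¹ᵁ V₀) (c : Fin n → Γ(X, Ω)) :
    Γ(pullback π f, (pullback.snd π f) ⁻¹ᵁ Ω) :=
  ∑ i, ((pullback.snd π f).appLE Ω ((pullback.snd π f) ⁻¹ᵁ Ω) le_rfl) (c i) *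
    ((pullback.fst π f).appLE (π ⁻¹ᵁ V₀) ((pullback.snd π f) ⁻¹ᵁ Ω) (snd_preimage_le' π f hΩ)) (b i)

theorem phi2_nat {Ω Ω' : X.Opens} (h : Ω' ≤ Ω) (hΩ : Ω ≤ f ⁻¹ᵁ V₀) (c : Fin n → Γ(X, Ω)) :
    phi2 π f V₀ b Ω' (h.trans hΩ) (fun i => X.presheaf.map (homOfLE h).op (c i)) =
      (pullback π f).presheaf.map (homOfLE ((pullback.snd π f).preimage_mono h)).op
        (phi2 π f V₀ b Ω hΩ c) := by
  unfold phi2
  rw [map_sum]
  refine Finset.sum_congr rfl fun i _ => ?_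
  rw [map_mul]
  congr 1
  · rw [← CommRingCat.comp_apply, ← CommRingCat.comp_apply, Scheme.Hom.appLE_map,
      Scheme.Hom.map_appLE]
  · rw [← CommRingCat.comp_apply, Scheme.Hom.appLE_map]

theorem phi2_bijective_of_isAffineOpen (hV₀ : IsAffineOpen V₀) (hW₀ : IsAffineOpen (π ⁻¹ᵁ V₀))
    (hb : Function.Bijective (fun c : Fin n → Γ(S, V₀) => ∑ i, (π.app V₀) (c i) * b i))
    (Ω : X.Opens) (hΩ : Ω ≤ f ⁻¹ᵁ V₀) (hΩa : IsAffineOpen Ω) :
    Function.Bijective (phi2 π f V₀ b Ω hΩ) := by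
  have H : IsPullback (pullback.snd π f) (pullback.fst π f) f π :=
    (IsPullback.of_hasPullback π f).flip
  have hUY : (pullback.snd π f) ⁻¹ᵁ Ω =
      (pullback.snd π f) ⁻¹ᵁ Ω ⊓ (pullback.fst π f) ⁻¹ᵁ (π ⁻¹ᵁ V₀) :=
    (inf_eq_left.mpr (snd_preimage_le' π f hΩ)).symm
  haveI := isIso_pushoutSection_of_isAffineOpen H (le_rfl : π ⁻¹ᵁ V₀ ≤ π ⁻¹ᵁ V₀) hΩ hUY hV₀ hW₀ hΩa
  have hpo := (isIso_pushoutSection_iff H (le_rfl : π ⁻¹ᵁ V₀ ≤ π ⁻¹ᵁ V₀) hΩ hUY).mp inferInstance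
  have hb' : Function.Bijective (fun c : Fin n → Γ(S, V₀) =>
      ∑ i, (π.appLE V₀ (π ⁻¹ᵁ V₀) le_rfl).hom (c i) * b i) := by
    rw [Scheme.Hom.appLE_eq_app]
    exact hb
  exact tuple_bij_of_isPushout _ _ _ _ hpo b hb'

theorem phi2_bijective (hV₀ : IsAffineOpen V₀) (hW₀ : IsAffineOpen (π ⁻¹ᵁ V₀))
    (hb : Function.Bijective (fun c : Fin n → Γ(S, V₀) => ∑ i, (π.app V₀) (c i) * b i))
    (Ω : X.Opens) (hΩ : Ω ≤ f ⁻¹ᵁ V₀) :
    Function.Bijective (phi2 π f V₀ b Ω hΩ) := by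
  refine PreSh.bijective_of_basis (PreSh.tuple n (strSh X)) (pushSh (pullback.snd π f))
    (f ⁻¹ᵁ V₀) (fun Ω hΩ => phi2 π f V₀ b Ω hΩ) ?_ {Ω | IsAffineOpen Ω} ?_
    (PreSh.tuple_isSep n _ (strSh_isSep X)) (PreSh.tuple_isGlue n _ (strSh_isGlue X))
    (pushSh_isSep _) ?_ Ω hΩ
  · intro U V h hU x
    exact phi2_nat π f V₀ b h hU x
  · intro U _ p hp
    obtain ⟨Ω', hΩ', hpΩ', hΩ'U⟩ := Opens.isBasis_iff_nbhd.mp (X.isBasis_affineOpens) hp
    exact ⟨Ω', hΩ', hpΩ', hΩ'U⟩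
  · intro Ω' hΩ'a hΩ'
    exact phi2_bijective_of_isAffineOpen π f V₀ b hV₀ hW₀ hb Ω' hΩ' hΩ'a

theorem appLE_congr_hom {A B : Scheme.{u}} {g g' : A ⟶ B} (h : g = g') (U : B.Opens)
    (V : A.Opens) (e : V ≤ g ⁻¹ᵁ U) : g.appLE U V e = g'.appLE U V (h ▸ e) := by
  subst h; rfl

/-- the comparison map on sections over `V`, from `W` to the fibre product -/
noncomputable abbrev psi (V : S.Opens) :
    Γ(W, π ⁻¹ᵁ V) ⟶ Γ(pullback π f, (pullback.snd π f) ⁻¹ᵁ (f ⁻¹ᵁ V)) :=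
  (pullback.fst π f).appLE (π ⁻¹ᵁ V) ((pullback.snd π f) ⁻¹ᵁ (f ⁻¹ᵁ V)) (snd_preimage_le π f V)

theorem psi_comp_app (V : S.Opens) :
    π.app V ≫ psi π f V = f.app V ≫ (pullback.snd π f).app (f ⁻¹ᵁ V) := by
  unfold psi
  rw [← Scheme.Hom.comp_appLE, appLE_congr_hom (pullback.condition (f := π) (g := f)),
    Scheme.Hom.comp_appLE, Scheme.Hom.appLE_eq_app]

theorem psi_bijective_of_triv (hV₀ : IsAffineOpen V₀) (hW₀ : IsAffineOpen (π ⁻¹ᵁ V₀))
    (hb : Function.Bijective (fun c : Fin n → Γ(S, V₀) => ∑ i, (π.app V₀) (c i) * b i))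
    (hf₀ : Function.Bijective (f.app V₀)) : Function.Bijective (psi π f V₀) := by
  have h2 := phi2_bijective π f V₀ b hV₀ hW₀ hb (f ⁻¹ᵁ V₀) le_rfl
  have hF : Function.Bijective (fun (c : Fin n → Γ(S, V₀)) (i : Fin n) => (f.app V₀) (c i)) := by
    constructor
    · intro c c' h
      funext i
      exact hf₀.1 (congrFun h i)
    · intro d
      choose c hc using fun i => hf₀.2 (d i)
      exact ⟨c, funext hc⟩
  have hcomm : (psi π f V₀) ∘ (fun c : Fin n → Γ(S, V₀) => ∑ i, (π.app V₀) (c i) * b i) =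
      (phi2 π f V₀ b (f ⁻¹ᵁ V₀) le_rfl) ∘
        (fun (c : Fin n → Γ(S, V₀)) (i : Fin n) => (f.app V₀) (c i)) := by
    funext c
    simp only [Function.comp_apply, phi2]
    rw [map_sum]
    refine Finset.sum_congr rfl fun i _ => ?_
    rw [map_mul]
    congr 1
    rw [← CommRingCat.comp_apply, psi_comp_app, Scheme.Hom.appLE_eq_app]
    rfl
  have h3 : Function.Bijective ((psi π f V₀) ∘
      (fun c : Fin n → Γ(S, V₀) => ∑ i, (π.app V₀) (c i) * b i)) := by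
    rw [hcomm]; exact h2.comp hF
  exact (Function.Bijective.of_comp_iff _ hb).mp h3

/-- `V₀` is an affine open of `S` over which `π` is affine with free sections -/
def IsTrivOpen (V₀ : S.Opens) : Prop :=
  IsAffineOpen V₀ ∧ IsAffineOpen (π ⁻¹ᵁ V₀) ∧ ∃ (n : ℕ) (b : Fin n → Γ(W, π ⁻¹ᵁ V₀)),
    Function.Bijective (fun c : Fin n → Γ(S, V₀) => ∑ i, (π.app V₀) (c i) * b i)

theorem psi_nat {V V' : S.Opens} (h : V' ≤ V) (x : Γ(W, π ⁻¹ᵁ V)) :
    psi π f V' (W.presheaf.map (homOfLE (π.preimage_mono h)).op x) =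
      (pullback π f).presheaf.map
        (homOfLE ((pullback.snd π f).preimage_mono (f.preimage_mono h))).op (psi π f V x) := by
  unfold psi
  rw [← CommRingCat.comp_apply, ← CommRingCat.comp_apply, Scheme.Hom.appLE_map,
    Scheme.Hom.map_appLE]

theorem psi_bijective (hf : ∀ U : S.Opens, Function.Bijective (f.app U))
    (htriv : ∀ (V : S.Opens) (s : S), s ∈ V → ∃ V₀ : S.Opens, IsTrivOpen π V₀ ∧ s ∈ V₀ ∧ V₀ ≤ V)
    (V : S.Opens) : Function.Bijective (psi π f V) := by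
  refine PreSh.bijective_of_basis (pushSh π) (pushSh (pullback.snd π f ≫ f)) ⊤
    (fun V _ => psi π f V) ?_ {V₀ | IsTrivOpen π V₀} ?_
    (pushSh_isSep _) (pushSh_isGlue _) (pushSh_isSep _) ?_ V le_top
  · intro U V h _ x
    exact psi_nat π f h x
  · intro U _ p hp
    exact htriv U p hp
  · rintro V₀ ⟨hV₀, hW₀, n, b, hb⟩ _
    exact psi_bijective_of_triv π f V₀ b hV₀ hW₀ hb (hf V₀)

theorem fst_appTop_bijective (hf : ∀ U : S.Opens, Function.Bijective (f.app U))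
    (htriv : ∀ (V : S.Opens) (s : S), s ∈ V → ∃ V₀ : S.Opens, IsTrivOpen π V₀ ∧ s ∈ V₀ ∧ V₀ ≤ V) :
    Function.Bijective (pullback.fst π f).appTop := by
  have h := psi_bijective π f hf htriv ⊤
  have : psi π f ⊤ = (pullback.fst π f).appTop := by
    unfold psi
    exact Scheme.Hom.appLE_eq_app _
  rwa [this] at h

end FLF

end H9FE
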