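import Mathlib
import Groth.Agent.Lib.Helper9.FE.FlfSec
import Groth.Agent.Lib.Helper9.FE.ClopenIdem
/-! helper9: kernel of the comparison map on sections of a base change with free sections; idempotents
are determined by their basic opens -/
open CategoryTheory CategoryTheory.Limits AlgebraicGeometry TopologicalSpace Opposite
universe u
set_option linter.style.haveILetI false
set_option linter.unusedSectionVars false
set_option backward.isDefEq.respectTransparency false
namespace H9FE

section FLF2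
variable {W S X : Scheme.{u}} (π : W ⟶ S) (f : X ⟶ S)
variable (V₀ : S.Opens) {n : ℕ} (b : Fin n → Γ(W, π ⁻¹ᵁ V₀))

theorem psi_phi1 (c : Fin n → Γ(S, V₀)) :
    psi π f V₀ (∑ i, (π.app V₀) (c i) * b i) =
      phi2 π f V₀ b (f ⁻¹ᵁ V₀) le_rfl (fun i => (f.app V₀) (c i)) := by
  simp only [phi2]
  rw [map_sum]
  refine Finset.sum_congr rfl fun i _ => ?_
  rw [map_mul]
  congr 1
  rw [← CommRingCat.comp_apply, psi_comp_app, Scheme.Hom.appLE_eq_app]
  rfl

theorem phi2_zero (Ω : X.Opens) (hΩ : Ω ≤ f ⁻¹ᵁ V₀) :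
    phi2 π f V₀ b Ω hΩ (fun _ => 0) = 0 := by
  simp [phi2]

theorem psi_eq_zero_iff (hV₀ : IsAffineOpen V₀) (hW₀ : IsAffineOpen (π ⁻¹ᵁ V₀))
    (hb : Function.Bijective (fun c : Fin n → Γ(S, V₀) => ∑ i, (π.app V₀) (c i) * b i))
    (c : Fin n → Γ(S, V₀)) :
    psi π f V₀ (∑ i, (π.app V₀) (c i) * b i) = 0 ↔ ∀ i, (f.app V₀) (c i) = 0 := by
  rw [psi_phi1]
  have hinj := (phi2_bijective π f V₀ b hV₀ hW₀ hb (f ⁻¹ᵁ V₀) le_rfl).1
  constructor
  · intro h i
    have := hinj (h.trans (phi2_zero π f V₀ b (f ⁻¹ᵁ V₀) le_rfl).symm)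
    exact congrFun this i
  · intro h
    have : (fun i => (f.app V₀) (c i)) = fun _ => 0 := funext h
    rw [this, phi2_zero]

end FLF2

section Idem
variable {Z : Scheme.{u}}

theorem eq_zero_of_idem_of_basicOpen_eq_bot (u : Γ(Z, ⊤)) (hu : IsIdempotentElem u)
    (h : Z.basicOpen u = ⊥) : u = 0 := by
  have h1 : Z.basicOpen (1 - u) = ⊤ := by
    have := basicOpen_sup_one_sub u
    rwa [h, bot_sup_eq] at this
  have h2 := eq_one_of_idem_of_basicOpen_eq_top (1 - u) hu.one_sub h1
  have : u = 1 - (1 - u) := by ring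
  rw [this, h2, sub_self]

theorem idem_eq_of_basicOpen_eq (e e' : Γ(Z, ⊤)) (he : IsIdempotentElem e)
    (he' : IsIdempotentElem e') (h : Z.basicOpen e = Z.basicOpen e') : e = e' := by
  have key : ∀ (a a' : Γ(Z, ⊤)), IsIdempotentElem a → IsIdempotentElem a' →
      Z.basicOpen a = Z.basicOpen a' → a * (1 - a') = 0 := by
    intro a a' ha ha' hh
    apply eq_zero_of_idem_of_basicOpen_eq_bot
    · exact ha.mul ha'.one_sub
    · rw [Scheme.basicOpen_mul, hh, basicOpen_inf_one_sub a' ha']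
  have h1 := key e e' he he' h
  have h2 := key e' e he' he h.symm
  have e1 : e = e * e' := by
    have : e * (1 - e') = e - e * e' := by ring
    rw [this, sub_eq_zero] at h1
    exact h1
  have e2 : e' = e' * e := by
    have : e' * (1 - e) = e' - e' * e := by ring
    rw [this, sub_eq_zero] at h2
    exact h2
  rw [e1, mul_comm, ← e2]

end Idem

end H9FE
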