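import Mathlib

/-! helper9: algebra of a free finite quotient with a section: `B ≃ ∏_G A`. -/

set_option autoImplicit false
universe u

namespace H9FE

open Polynomial in
/-- the kernel of the evaluation map is nil. -/
theorem freeSec_nil {A B : Type u} [CommRing A] [CommRing B] {G : Type u} [Group G] [Fintype G]
    (π : A →+* B) (τ : G → (B →+* B)) (hτ1 : τ 1 = RingHom.id B)
    (hτmul : ∀ g h, τ (g * h) = (τ h).comp (τ g))
    (hinv : ∀ b, (∀ g, τ g b = b) → ∃ a, π a = b)
    (σ : B →+* A) (hσ : ∀ a, σ (π a) = a)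
    (N : Ideal B) (hN : ∀ x, x ∈ N ↔ ∀ g, σ (τ g x) = 0) (x : B) (hx : x ∈ N) :
    IsNilpotent x := by
  classical
  rcases subsingleton_or_nontrivial B with hB | hB
  · rw [Subsingleton.elim x 0]
    exact IsNilpotent.zero
  have hN1 : ∀ y ∈ N, ∀ u, τ u y ∈ N := by
    intro y hy u
    rw [hN]
    intro g
    have := (hN y).mp hy (u * g)
    rw [hτmul u g] at this
    exact this
  let P : B[X] := ∏ g : G, (X - C (τ g x))
  have hPeval : P.eval x = 0 := by
    simp only [P, eval_prod]
    apply Finset.prod_eq_zero (Finset.mem_univ (1 : G))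
    rw [hτ1]
    simp
  have hPmap : ∀ u, P.map (τ u) = P := by
    intro u
    simp only [P, Polynomial.map_prod, Polynomial.map_sub, map_X, map_C]
    refine Fintype.prod_equiv (Equiv.mulRight u) _ _ (fun g => ?_)
    simp only [Equiv.coe_mulRight]
    rw [hτmul g u]
    rfl
  have hPN : P.map (Ideal.Quotient.mk N) = X ^ Fintype.card G := by
    simp only [P, Polynomial.map_prod, Polynomial.map_sub, map_X, map_C]
    have : ∀ g : G, Ideal.Quotient.mk N (τ g x) = 0 := fun g =>
      Ideal.Quotient.eq_zero_iff_mem.mpr (hN1 x hx g)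
    simp only [this, map_zero, sub_zero, Finset.prod_const, Finset.card_univ]
  have hcoeff : ∀ k, k ≠ Fintype.card G → P.coeff k = 0 := by
    intro k hk
    have h1 : P.coeff k ∈ N := by
      rw [← Ideal.Quotient.eq_zero_iff_mem, ← coeff_map, hPN, coeff_X_pow, if_neg hk]
    have h2 : ∀ u, τ u (P.coeff k) = P.coeff k := by
      intro u
      rw [← coeff_map, hPmap u]
    obtain ⟨a, ha⟩ := hinv _ h2
    have h3 := (hN _).mp h1 1
    rw [hτ1, RingHom.id_apply, ← ha, hσ] at h3
    rw [← ha, h3, map_zero]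
  have hcoeff' : P.coeff (Fintype.card G) = 1 := by
    have := congrArg (fun Q => Q.coeff (Fintype.card G)) hPN
    simp only [coeff_map, coeff_X_pow, if_true] at this
    have hmonic : P.Monic := monic_prod_of_monic _ _ (fun g _ => monic_X_sub_C _)
    have hdeg : P.natDegree = Fintype.card G := by
      simp only [P]
      rw [natDegree_prod_of_monic _ _ (fun g _ => monic_X_sub_C _)]
      simp
    rw [← hdeg]
    exact hmonic.coeff_natDegree
  have hP : P = X ^ Fintype.card G := by
    ext k
    rw [coeff_X_pow]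
    split_ifs with hk
    · rw [hk, hcoeff']
    · exact hcoeff k hk
  refine ⟨Fintype.card G, ?_⟩
  rw [hP] at hPeval
  simpa using hPeval

theorem freeSec_bijective {A B : Type u} [CommRing A] [CommRing B] {G : Type u} [Group G]
    [Finite G]
    (π : A →+* B) (τ : G → (B →+* B)) (hτ1 : τ 1 = RingHom.id B)
    (hτmul : ∀ g h, τ (g * h) = (τ h).comp (τ g))
    (hτπ : ∀ g a, τ g (π a) = π a)
    (hinv : ∀ b, (∀ g, τ g b = b) → ∃ a, π a = b)
    (σ : B →+* A) (hσ : ∀ a, σ (π a) = a)
    (hfree : ∀ (K : Type u) [Field K] [IsAlgClosed K] (ξ : B →+* K) (g : G),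
       ξ.comp (τ g) = ξ → g = 1) :
    Function.Bijective (fun (b : B) (g : G) => σ (τ g b)) := by
  classical
  cases nonempty_fintype G
  have hτinv : ∀ g b, τ g⁻¹ (τ g b) = b := by
    intro g b
    have := hτmul g g⁻¹
    rw [mul_inv_cancel, hτ1] at this
    exact (RingHom.congr_fun this b).symm
  let I : G → Ideal B := fun g => RingHom.ker (σ.comp (τ g))
  have hI : ∀ g b, b - π (σ (τ g b)) ∈ I g := by
    intro g b
    show (σ.comp (τ g)) _ = 0
    simp only [RingHom.comp_apply, map_sub, hτπ, hσ, sub_self]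
  have hcop : Pairwise (Function.onFun IsCoprime I) := by
    intro g h hgh
    rw [Function.onFun, Ideal.isCoprime_iff_sup_eq]
    by_contra hne
    obtain ⟨m, hm, hle⟩ := Ideal.exists_le_maximal _ hne
    have := hm
    let _ : Field (B ⧸ m) := Ideal.Quotient.field m
    let ξ₀ : B →+* B ⧸ m := Ideal.Quotient.mk m
    have h1 : ∀ (u : G) b, u = g ∨ u = h → ξ₀ b = ξ₀ (π (σ (τ u b))) := by
      intro u b hu
      rw [← sub_eq_zero, ← map_sub]
      apply Ideal.Quotient.eq_zero_iff_mem.mpr
      apply hle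
      rcases hu with rfl | rfl
      · exact Ideal.mem_sup_left (hI _ b)
      · exact Ideal.mem_sup_right (hI _ b)
    have h2 : ξ₀.comp (τ (g * h⁻¹)) = ξ₀ := by
      ext b
      rw [RingHom.comp_apply, h1 h (τ (g * h⁻¹) b) (Or.inr rfl), h1 g b (Or.inl rfl)]
      have : τ h (τ (g * h⁻¹) b) = τ g b := by
        have := hτmul (g * h⁻¹) h
        rw [inv_mul_cancel_right] at this
        rw [this]
        rfl
      rw [this]
    have h3 := hfree (AlgebraicClosure (B ⧸ m))
      ((algebraMap (B ⧸ m) (AlgebraicClosure (B ⧸ m))).comp ξ₀) (g * h⁻¹) (by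
        rw [RingHom.comp_assoc, h2])
    exact hgh (mul_inv_eq_one.mp h3)
  have hsurj : Function.Surjective (fun (b : B) (g : G) => σ (τ g b)) := by
    intro a
    obtain ⟨r, hr⟩ := Ideal.exists_forall_sub_mem_ideal hcop (fun g => π (a g))
    refine ⟨r, funext fun g => ?_⟩
    have := hr g
    have h1 : (σ.comp (τ g)) (r - π (a g)) = 0 := this
    simp only [RingHom.comp_apply, map_sub, hτπ, hσ, sub_eq_zero] at h1
    exact h1
  refine ⟨?_, hsurj⟩
  -- injectivity
  let Φ : B →+* (G → A) := RingHom.pi (fun g => σ.comp (τ g))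
  have hΦ : ∀ b g, Φ b g = σ (τ g b) := fun b g => rfl
  let N : Ideal B := RingHom.ker Φ
  have hN : ∀ x, x ∈ N ↔ ∀ g, σ (τ g x) = 0 := by
    intro x
    show Φ x = 0 ↔ _
    constructor
    · intro h g
      exact congrFun h g
    · intro h
      funext g
      exact h g
  have hN1 : ∀ y ∈ N, ∀ u, τ u y ∈ N := by
    intro y hy u
    rw [hN]
    intro g
    have := (hN y).mp hy (u * g)
    rw [hτmul u g] at this
    exact this
  have hN2 : ∀ y ∈ N, (∀ u, τ u y = y) → y = 0 := by
    intro y hy hinvy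
    obtain ⟨a, ha⟩ := hinv y hinvy
    have h3 := (hN _).mp hy 1
    rw [hτ1, RingHom.id_apply, ← ha, hσ] at h3
    rw [← ha, h3, map_zero]
  have hnil : ∀ x ∈ RingHom.ker Φ, IsNilpotent x := fun x hx =>
    freeSec_nil π τ hτ1 hτmul hinv σ hσ N hN x hx
  obtain ⟨e', he', hΦe'⟩ := CompleteOrthogonalIdempotents.lift_of_isNilpotent_ker Φ hnil
    (CompleteOrthogonalIdempotents.single (fun _ : G => A)) (fun g => by
      obtain ⟨b, hb⟩ := hsurj (Pi.single g 1)
      exact ⟨b, hb⟩)
  have hΦe : ∀ g h, σ (τ h (e' g)) = if h = g then 1 else 0 := by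
    intro g h
    have := congrFun (congrFun hΦe' g) h
    simp only [Function.comp_apply, hΦ] at this
    rw [this, Pi.single_apply]
  have hE1 : ∀ u g, τ u (e' g) = e' (u⁻¹ * g) := by
    intro u g
    apply eq_of_isNilpotent_sub_of_isIdempotentElem
    · exact (he'.idem g).map (τ u)
    · exact he'.idem _
    · apply hnil
      show Φ _ = 0
      funext h
      rw [map_sub, Pi.sub_apply, hΦ, hΦ, hΦe]
      have : τ h (τ u (e' g)) = τ (u * h) (e' g) := by rw [hτmul u h]; rfl
      rw [this, hΦe]
      simp only [Pi.zero_apply]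
      by_cases huh : u * h = g
      · rw [if_pos huh, if_pos (by rw [← huh]; group), sub_self]
      · rw [if_neg huh, if_neg (by rintro rfl; apply huh; group), sub_self]
  have hx1 : ∀ x ∈ N, x * e' 1 = 0 := by
    intro x hx
    have hxe : x * e' 1 ∈ N := N.mul_mem_right _ hx
    let c : B := ∑ u : G, τ u (x * e' 1)
    have hcN : c ∈ N := N.sum_mem (fun u _ => hN1 _ hxe u)
    have hcinv : ∀ v, τ v c = c := by
      intro v
      simp only [c, map_sum]
      refine Fintype.sum_equiv (Equiv.mulRight v) _ _ (fun u => ?_)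
      simp only [Equiv.coe_mulRight]
      rw [hτmul u v]
      rfl
    have hc0 : c = 0 := hN2 c hcN hcinv
    have : c * e' 1 = x * e' 1 := by
      simp only [c, Finset.sum_mul, map_mul, hE1, mul_one]
      rw [Finset.sum_eq_single (1 : G)]
      · rw [hτ1, RingHom.id_apply, inv_one, mul_assoc, (he'.idem 1).eq]
      · intro u _ hu
        rw [mul_assoc, he'.ortho (by simpa using hu), mul_zero]
      · intro h; exact absurd (Finset.mem_univ _) h
    rw [← this, hc0, zero_mul]
  have hxg : ∀ x ∈ N, ∀ g, x * e' g = 0 := by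
    intro x hx g
    have h1 := hx1 (τ g x) (hN1 x hx g)
    have h2 := congrArg (τ g⁻¹) h1
    rw [map_mul, hτinv, hE1, inv_inv, mul_one, map_zero] at h2
    exact h2
  have hN0 : ∀ x ∈ N, x = 0 := by
    intro x hx
    rw [← mul_one x, ← he'.complete, Finset.mul_sum]
    exact Finset.sum_eq_zero (fun g _ => hxg x hx g)
  intro b b' hbb'
  rw [← sub_eq_zero]
  apply hN0
  show Φ (b - b') = 0
  rw [map_sub, sub_eq_zero]
  funext g
  exact congrFun hbb' g

end H9FE
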