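import Mathlib
import Groth.Prelude.Def_EtCore
import Groth.Agent.Lib.Helper9.FE.GabB
import Groth.Agent.Lib.Helper9.FE.ConstUnit
import Groth.Agent.Lib.Helper9.FE.EtZar1

/-! helper9: positive-degree étale cohomology classes vanish étale locally, and Zariski locally on
schemes all of whose local rings are strictly henselian. -/

set_option autoImplicit false
set_option linter.unusedSectionVars false
set_option linter.style.haveILetI false
set_option backward.isDefEq.respectTransparency false
universe u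
open CategoryTheory CategoryTheory.Limits AlgebraicGeometry Opposite Abelian

namespace H9FE.GabC
open H9FE.GabA H9FE.GabB H9FE.ConstUnit H9FE.EtTr H9FE.AdjExt H9FE.HpullComp H9FE.LimPull
open Groth.Agent.S14453.Aux

attribute [local instance] pullLex

theorem ev1 (G : AddCommGrpCat.{u}) (f : AddCommGrpCat.of (ULift.{u} ℤ) ⟶ G) :
    AddCommGrpCat.uliftZMultiplesAddEquiv G f = f (ULift.up 1) := rfl

theorem ev2 (G : AddCommGrpCat.{u}) (s : G) :
    ((AddCommGrpCat.uliftZMultiplesAddEquiv G).symm s) (ULift.up 1) = s := by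
  have := (AddCommGrpCat.uliftZMultiplesAddEquiv G).apply_symm_apply s
  rw [ev1] at this
  exact this

section Sec

variable {Y : Scheme.{u}} (W : Y.Etale)

/-- the diagonal of `W` over `Y`, as a morphism of étale `W`-schemes -/
noncomputable def diag : EtCoh.top W.left ⟶ (EtCoh.bc W.hom).obj W :=
  MorphismProperty.Over.homMk (pullback.lift (𝟙 W.left) (𝟙 W.left) rfl) (by
    show pullback.lift (𝟙 W.left) (𝟙 W.left) rfl ≫ pullback.snd W.hom W.hom = 𝟙 _
    exact pullback.lift_snd _ _ _)

/-- sections over `W` give global sections of the pullback to `W` -/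
noncomputable def rho (M : EtCoh.Ab Y) :
    M.obj.obj (op W) ⟶ ((EtCoh.pull W.hom).obj M).obj.obj (op (EtCoh.top W.left)) :=
  ((EtCoh.pullPushAdj W.hom).unit.app M).hom.app (op W) ≫
    ((EtCoh.pull W.hom).obj M).obj.map (diag W).op

theorem rho_naturality {M M' : EtCoh.Ab Y} (φ : M ⟶ M') (m : M.obj.obj (op W)) :
    ((EtCoh.pull W.hom).map φ).hom.app (op (EtCoh.top W.left)) (rho W M m) =
      rho W M' (φ.hom.app (op W) m) := by
  have e1 : rho W M m = ((EtCoh.pull W.hom).obj M).obj.map (diag W).op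
      (((EtCoh.pullPushAdj W.hom).unit.app M).hom.app (op W) m) := rfl
  have e2 : rho W M' (φ.hom.app (op W) m) = ((EtCoh.pull W.hom).obj M').obj.map (diag W).op
      (((EtCoh.pullPushAdj W.hom).unit.app M').hom.app (op W) (φ.hom.app (op W) m)) := rfl
  rw [e1, e2]
  have h1 := NatTrans.naturality_apply ((EtCoh.pull W.hom).map φ).hom (diag W).op
    (((EtCoh.pullPushAdj W.hom).unit.app M).hom.app (op W) m)
  refine h1.trans ?_
  congr 1
  have h2 := (EtCoh.pullPushAdj W.hom).unit.naturality φ
  have h3 := congrArg (fun t => (ConcreteCategory.hom (t.hom.app (op W))) m) h2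
  exact h3.symm

theorem rho_const (A : AddCommGrpCat.{u+1}) (a : A) :
    ((EtCore.pullConstIso W.hom).hom.app A).hom.app (op (EtCoh.top W.left))
      (rho W (cS Y A) ((toSheafify Y.smallEtaleTopology (cP Y A)).app (op W) a)) =
    (toSheafify W.left.smallEtaleTopology (cP W.left A)).app (op (EtCoh.top W.left)) a := by
  have e1 : rho W (cS Y A) ((toSheafify Y.smallEtaleTopology (cP Y A)).app (op W) a) =
      ((EtCoh.pull W.hom).obj (cS Y A)).obj.map (diag W).op
        (((EtCoh.pullPushAdj W.hom).unit.app (cS Y A)).hom.app (op W)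
          ((toSheafify Y.smallEtaleTopology (cP Y A)).app (op W) a)) := rfl
  rw [e1]
  have h1 := NatTrans.naturality_apply ((EtCore.pullConstIso W.hom).hom.app A).hom (diag W).op
    (((EtCoh.pullPushAdj W.hom).unit.app (cS Y A)).hom.app (op W)
      ((toSheafify Y.smallEtaleTopology (cP Y A)).app (op W) a))
  refine h1.trans ?_
  have h2 : ((EtCore.pullConstIso W.hom).hom.app A).hom.app (op ((EtCoh.bc W.hom).obj W))
      (((EtCoh.pullPushAdj W.hom).unit.app (cS Y A)).hom.app (op W)
        ((toSheafify Y.smallEtaleTopology (cP Y A)).app (op W) a)) =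
      (toSheafify W.left.smallEtaleTopology (cP W.left A)).app
        (op ((EtCoh.bc W.hom).obj W)) a := phi_app W.hom A W a
  rw [h2]
  exact toSheafify_map A (diag W) a

/-- the integers as an object of `AddCommGrpCat.{u+1}` -/
abbrev A₀ : AddCommGrpCat.{u+1} := AddCommGrpCat.of (ULift.{u+1} ℤ)

/-- a local lift of the unit section along `π : B ⟶ ℤ` gives a section of the pullback of `π` -/
theorem exists_section {B : EtCoh.Ab Y} (π : B ⟶ EtCoh.const Y ℤ) (b : B.obj.obj (op W))
    (hb : π.hom.app (op W) b =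
      (toSheafify Y.smallEtaleTopology (cP Y A₀.{u})).app (op W) (ULift.up 1)) :
    ∃ σ : EtCoh.const W.left ℤ ⟶ (EtCoh.pull W.hom).obj B,
      σ ≫ (EtCoh.pull W.hom).map π = (EtCore.pullConst W.hom ℤ).inv := by
  let L := EtCoh.pull W.hom
  let T := EtCoh.top W.left
  let s : (L.obj B).obj.obj (op T) := rho W B b
  let g : A₀.{u} ⟶ (EtCore.gsec W.left).obj (L.obj B) :=
    (AddCommGrpCat.uliftZMultiplesAddEquiv _).symm s
  let σ : EtCoh.const W.left ℤ ⟶ L.obj B :=
    ((EtCore.constAdj W.left).homEquiv A₀.{u} (L.obj B)).symm g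
  refine ⟨σ, ?_⟩
  apply ((EtCore.constAdj W.left).homEquiv _ _).injective
  rw [Adjunction.homEquiv_naturality_right, Equiv.apply_symm_apply, Adjunction.homEquiv_unit]
  apply (AddCommGrpCat.uliftZMultiplesAddEquiv _).injective
  rw [ev1, ev1]
  change (L.map π).hom.app (op T) (g (ULift.up 1)) =
    (EtCore.pullConst W.hom ℤ).inv.hom.app (op T)
      ((EtCore.constAdj W.left).unit.app A₀.{u} (ULift.up 1))
  rw [ev2, constAdj_unit]
  have h1 : (L.map π).hom.app (op T) s = rho W (EtCoh.const Y ℤ) (π.hom.app (op W) b) :=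
    rho_naturality W π b
  rw [h1, hb]
  have h2 := rho_const W A₀.{u} (ULift.up 1)
  have h3 := congrArg ((EtCore.pullConst W.hom ℤ).inv.hom.app (op T)) h2
  refine Eq.trans ?_ h3
  have h4 : (EtCore.pullConst W.hom ℤ).hom ≫ (EtCore.pullConst W.hom ℤ).inv = 𝟙 _ :=
    Iso.hom_inv_id _
  have h5 := congrArg (fun t => (ConcreteCategory.hom (t.hom.app (op T)))
    (rho W (cS Y A₀.{u}) ((toSheafify Y.smallEtaleTopology (cP Y A₀.{u})).app (op W)
      (ULift.up 1)))) h4
  exact h5.symm

end Sec

/-- positive-degree étale cohomology classes vanish étale locally -/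
theorem exists_etale_Hpull_eq_zero (Y : Scheme.{u}) (G : EtCoh.Ab Y) (n : ℕ)
    (ξ : EtCoh.H Y G (n + 1)) (y : Y) :
    ∃ (V : Scheme.{u}) (p : V ⟶ Y) (_ : Etale p) (v : V),
      p v = y ∧ EtCore.Hpull p G (n + 1) ξ = 0 := by
  obtain ⟨B, π, hπ, hξ⟩ := exists_epi_comp_eq_zero n ξ
  let J := Y.smallEtaleTopology
  let T := EtCoh.top Y
  let s₁ : (cS Y A₀.{u}).obj.obj (op T) :=
    (toSheafify J (cP Y A₀.{u})).app (op T) (ULift.up 1)
  haveI hls : Sheaf.IsLocallySurjective π := (Sheaf.isLocallySurjective_iff_epi' (φ := π)).2 hπ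
  have hmem := Presheaf.imageSieve_mem J π.hom (U := op T) s₁
  obtain ⟨W, f, w, hf, -, hw⟩ := (mem_et_iff _ _).1 hmem y
  obtain ⟨b, hb⟩ := hf
  have hfl : f.left = W.hom := by
    have h := MorphismProperty.Over.w f
    have hT : T.hom = 𝟙 Y := rfl
    rw [hT] at h
    exact (Category.comp_id f.left).symm.trans h
  refine ⟨W.left, W.hom, W.prop, w, ?_, ?_⟩
  · rw [← hfl]; exact hw
  · have hb' : π.hom.app (op W) b =
        (toSheafify J (cP Y A₀.{u})).app (op W) (ULift.up 1) :=
      hb.trans (toSheafify_map A₀.{u} f (ULift.up 1))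
    obtain ⟨σ, hσ⟩ := exists_section W π b hb'
    rw [Hpull_eq]
    exact hp_eq_zero_of_section (EtCoh.pull W.hom) (EtCore.pullConst W.hom ℤ) π ξ hξ σ hσ

end H9FE.GabC
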