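import Mathlib
import Groth.Prelude.Def_EtCore
import Groth.Agent.Lib.Helper9.FE.GabC

/-! helper9: restriction maps between the étale cohomology groups of the open subschemes of a
scheme, and Zariski-local vanishing of positive-degree classes when all local rings are strictly
henselian. -/

set_option autoImplicit false
set_option linter.unusedSectionVars false
set_option linter.style.haveILetI false
set_option backward.isDefEq.respectTransparency false
universe u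
open CategoryTheory CategoryTheory.Limits AlgebraicGeometry Opposite Abelian

namespace H9FE.GabD
open H9FE.GabA H9FE.GabB H9FE.GabC H9FE.EtTr H9FE.LimPull H9FE.LimTower

attribute [local instance] pullLex

section Gen

variable {X₁ X₂ X₃ X₄ : Scheme.{u}} (f : X₁ ⟶ X₂) (g : X₂ ⟶ X₃) (k : X₃ ⟶ X₄)
  (fg : X₁ ⟶ X₃) (gk : X₂ ⟶ X₄) (fgk : X₁ ⟶ X₄) (w1 : f ≫ g = fg) (w2 : g ≫ k = gk)
  (w3 : fg ≫ k = fgk) (w4 : f ≫ gk = fgk) (F : EtCoh.Ab X₄)

include w1 in
/-- relative pullbacks compose -/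
theorem HpullVia_HpullVia (n : ℕ) (ξ : EtCoh.H X₃ ((EtCoh.pull k).obj F) n) :
    EtCore.HpullVia f gk fgk w4 F n (EtCore.HpullVia g k gk w2 F n ξ) =
      EtCore.HpullVia fg k fgk w3 F n ξ := by
  have a1 := tr_psi g k gk w2 F n ξ
  have a2 := tr_psi f gk fgk w4 F n (EtCore.HpullVia g k gk w2 F n ξ)
  have a3 := tr_psi fg k fgk w3 F n ξ
  rw [← a2, ← a1, ← a3, tr_comp' f g w1]
  congr 1
  have h := psi_comp f g k fg gk fgk w1 w2 w3 w4 F
  rw [← h]
  rfl

end Gen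

section Res

variable {X : Scheme.{u}} (F : EtCoh.Ab X)

/-- cohomology of the restriction of `F` to an open subscheme -/
abbrev HU (U : X.Opens) (n : ℕ) : Type (u + 1) := EtCoh.H ↑U ((EtCoh.pull U.ι).obj F) n

/-- restriction to a smaller open -/
noncomputable def res {W U : X.Opens} (h : W ≤ U) (n : ℕ) : HU F U n →+ HU F W n :=
  EtCore.HpullVia (X.homOfLE h) U.ι W.ι (X.homOfLE_ι h) F n

theorem res_res {W' W U : X.Opens} (h' : W' ≤ W) (h : W ≤ U) (n : ℕ) (ξ : HU F U n) :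
    res F h' n (res F h n ξ) = res F (h'.trans h) n ξ :=
  HpullVia_HpullVia (X.homOfLE h') (X.homOfLE h) U.ι (X.homOfLE (h'.trans h)) W.ι W'.ι
    (X.homOfLE_homOfLE h' h) (X.homOfLE_ι h) (X.homOfLE_ι (h'.trans h)) (X.homOfLE_ι h') F n ξ

theorem res_eq_zero_iff {W U : X.Opens} (h : W ≤ U) (n : ℕ) (ξ : HU F U n) :
    res F h n ξ = 0 ↔ EtCore.Hpull (X.homOfLE h) ((EtCoh.pull U.ι).obj F) n ξ = 0 := by
  have h1 := tr_psi_eq_zero_iff (X.homOfLE h) U.ι W.ι (X.homOfLE_ι h) F n ξ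
  rw [tr_psi] at h1
  exact h1

theorem res_trans_eq_zero {W' W U : X.Opens} (h' : W' ≤ W) (h : W ≤ U) (n : ℕ) (ξ : HU F U n)
    (hz : res F h n ξ = 0) : res F (h'.trans h) n ξ = 0 := by
  rw [← res_res F h' h, hz, map_zero]

theorem eq_zero_of_res_self {U : X.Opens} (h : U ≤ U) (n : ℕ) (ξ : HU F U n)
    (hz : res F h n ξ = 0) : ξ = 0 :=
  Hpull_eq_zero_of_eq_id (X.homOfLE h) (X.homOfLE_rfl U) _ n ξ ((res_eq_zero_iff F h n ξ).1 hz)

theorem eq_zero_of_res_eq {W U : X.Opens} (h : W ≤ U) (h' : U ≤ W) (n : ℕ) (ξ : HU F U n)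
    (hz : res F h n ξ = 0) : ξ = 0 := by
  apply eq_zero_of_res_self F (h'.trans h) n ξ
  rw [← res_res F h' h, hz, map_zero]

/-- Zariski-local vanishing of positive-degree classes -/
theorem exists_open_res_eq_zero
    (hS : ∀ x : X, EtCoh.IsStrictlyHenselianLocalRing (X.presheaf.stalk x)) (U : X.Opens) (n : ℕ)
    (ξ : HU F U (n + 1)) (x : X) (hx : x ∈ U) :
    ∃ (W : X.Opens) (h : W ≤ U), x ∈ W ∧ res F h (n + 1) ξ = 0 := by
  obtain ⟨V, p, hp, v, hv, h0⟩ :=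
    exists_etale_Hpull_eq_zero ↑U ((EtCoh.pull U.ι).obj F) n ξ ⟨x, hx⟩
  haveI := hp
  let q : V ⟶ X := p ≫ U.ι
  have hqv : q v = x := by
    change U.ι (p v) = x
    rw [hv]
    rfl
  obtain ⟨W, hxW, t, ht⟩ := H9FE.EtZar1.exists_open_section X q v (hS _)
  have hWU : W ≤ U := by
    intro z hz
    have h1 : (t ≫ q) ⟨z, hz⟩ = z := by
      rw [ht]
      rfl
    rw [← h1]
    exact (p (t ⟨z, hz⟩)).2
  refine ⟨W, hWU, hqv ▸ hxW, ?_⟩
  have hfac : t ≫ p = X.homOfLE hWU := by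
    rw [← cancel_mono U.ι, Category.assoc, X.homOfLE_ι]
    exact ht
  rw [res_eq_zero_iff]
  exact Hpull_Hpull_eq_zero t p (X.homOfLE hWU) hfac _ (n + 1) ξ (by rw [h0, map_zero])

end Res

end H9FE.GabD
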