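import Mathlib
import Groth.Prelude.Def_EtCore
import Groth.Agent.Lib.Helper9.FE.GabD
import Groth.Agent.S0659

/-! helper9: Gabber's criterion on an affine scheme all of whose local rings are strictly
henselian: if the Mayer–Vietoris kernel condition holds in degree one for the coverings
`D(f+g) = D(f(f+g)) ∪ D(g(f+g))`, then all positive-degree étale cohomology vanishes. -/

set_option autoImplicit false
set_option linter.unusedSectionVars false
set_option linter.style.haveILetI false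
set_option backward.isDefEq.respectTransparency false
universe u
open CategoryTheory CategoryTheory.Limits AlgebraicGeometry Opposite Abelian

namespace H9FE.GabE
open H9FE.GabA H9FE.GabB H9FE.GabC H9FE.GabD H9FE.EtTr H9FE.LimPull H9FE.LimTower

attribute [local instance] pullLex

variable {X : Scheme.{u}} (F : EtCoh.Ab X)

/-- the kernel condition in degree `n` -/
def K (n : ℕ) : Prop :=
  ∀ (f g : Γ(X, ⊤)) (ξ : HU F (X.basicOpen (f + g)) n),
    res F ((X.basicOpen_mul f (f + g)).trans_le inf_le_right) n ξ = 0 →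
    res F ((X.basicOpen_mul g (f + g)).trans_le inf_le_right) n ξ = 0 → ξ = 0

/-- vanishing on basic opens in degree `n` -/
def V (n : ℕ) : Prop := ∀ s : Γ(X, ⊤), Subsingleton (HU F (X.basicOpen s) n)

theorem K_gen {n : ℕ} (hK : K F n) (U U₁ U₂ : X.Opens) (f g : Γ(X, ⊤))
    (hU : U = X.basicOpen (f + g)) (h₁ : U₁ = X.basicOpen (f * (f + g)))
    (h₂ : U₂ = X.basicOpen (g * (f + g))) (l₁ : U₁ ≤ U) (l₂ : U₂ ≤ U) (ξ : HU F U n)
    (z₁ : res F l₁ n ξ = 0) (z₂ : res F l₂ n ξ = 0) : ξ = 0 := by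
  subst hU h₁ h₂
  exact hK f g ξ z₁ z₂

section Bridge

variable {U : X.Opens} (W' : (↑U : Scheme.{u}).Opens) (W : X.Opens)
  (hr : Set.range (W'.ι ≫ U.ι) = Set.range W.ι)

include hr in
theorem subsingleton_of_iso_opens (n : ℕ) (h : Subsingleton (HU F W n)) :
    Subsingleton (EtCoh.H ↑W' ((EtCoh.pull W'.ι).obj ((EtCoh.pull U.ι).obj F)) n) := by
  let e : (↑W : Scheme.{u}) ≅ ↑W' := IsOpenImmersion.isoOfRangeEq W.ι (W'.ι ≫ U.ι) hr.symm
  have he : e.hom ≫ W'.ι ≫ U.ι = W.ι := IsOpenImmersion.isoOfRangeEq_hom_fac _ _ _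
  apply subsingleton_H_of_isIso e.hom
  refine subsingleton_H_of_iso (kap e.hom W'.ι (e.hom ≫ W'.ι) rfl ((EtCoh.pull U.ι).obj F)) n ?_
  refine subsingleton_H_of_iso (kap (e.hom ≫ W'.ι) U.ι W.ι
    (by rw [Category.assoc]; exact he) F) n ?_
  exact h

include hr in
theorem Hpull_ι_eq_zero_of_res (l : W ≤ U) (n : ℕ) (ξ : HU F U n) (hz : res F l n ξ = 0) :
    EtCore.Hpull W'.ι ((EtCoh.pull U.ι).obj F) n ξ = 0 := by
  let e : (↑W' : Scheme.{u}) ≅ ↑W := IsOpenImmersion.isoOfRangeEq (W'.ι ≫ U.ι) W.ι hr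
  have he : e.hom ≫ W.ι = W'.ι ≫ U.ι := IsOpenImmersion.isoOfRangeEq_hom_fac _ _ _
  have hfac : e.hom ≫ X.homOfLE l = W'.ι := by
    rw [← cancel_mono U.ι, Category.assoc, X.homOfLE_ι]
    exact he
  exact Hpull_Hpull_eq_zero e.hom (X.homOfLE l) W'.ι hfac _ n ξ
    (by rw [(res_eq_zero_iff F l n ξ).1 hz, map_zero])

end Bridge

theorem range_preimage_ι (U W : X.Opens) (hW : W ≤ U) :
    Set.range ((U.ι ⁻¹ᵁ W).ι ≫ U.ι) = Set.range W.ι := by
  rw [Scheme.Opens.range_ι]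
  ext z
  constructor
  · rintro ⟨y, rfl⟩
    exact y.2
  · intro hz
    exact ⟨⟨⟨z, hW hz⟩, hz⟩, rfl⟩

/-- Mayer–Vietoris step -/
theorem K_succ_of_V (n : ℕ) (hV : V F n) : K F (n + 1) := by
  intro f g ξ z₁ z₂
  let U : X.Opens := X.basicOpen (f + g)
  let U₁ : X.Opens := X.basicOpen (f * (f + g))
  let U₂ : X.Opens := X.basicOpen (g * (f + g))
  have l₁ : U₁ ≤ U := (X.basicOpen_mul f (f + g)).trans_le inf_le_right
  have l₂ : U₂ ≤ U := (X.basicOpen_mul g (f + g)).trans_le inf_le_right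
  let G : EtCoh.Ab (↑U : Scheme.{u}) := (EtCoh.pull U.ι).obj F
  let U₁' : (↑U : Scheme.{u}).Opens := U.ι ⁻¹ᵁ U₁
  let U₂' : (↑U : Scheme.{u}).Opens := U.ι ⁻¹ᵁ U₂
  have hcov : U₁' ⊔ U₂' = ⊤ := by
    rw [eq_top_iff]
    intro y _
    have h1 : y.1 ∈ X.basicOpen f ⊔ X.basicOpen g := X.basicOpen_add_le f g y.2
    rw [TopologicalSpace.Opens.mem_sup] at h1
    rw [TopologicalSpace.Opens.mem_sup]
    rcases h1 with h | h
    · left
      change y.1 ∈ X.basicOpen (f * (f + g))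
      rw [X.basicOpen_mul]
      exact ⟨h, y.2⟩
    · right
      change y.1 ∈ X.basicOpen (g * (f + g))
      rw [X.basicOpen_mul]
      exact ⟨h, y.2⟩
  obtain ⟨δ, -, hker, -, -⟩ := Groth.Agent.S0659.result (↑U : Scheme.{u}) U₁' U₂' hcov G
  have hξ : ξ ∈ (AddMonoidHom.prod (EtCore.Hpull U₁'.ι G (n + 1))
      (EtCore.Hpull U₂'.ι G (n + 1))).ker := by
    rw [AddMonoidHom.mem_ker, AddMonoidHom.prod_apply, Prod.mk_eq_zero]
    exact ⟨Hpull_ι_eq_zero_of_res F U₁' U₁ (range_preimage_ι U U₁ l₁) l₁ (n + 1) ξ z₁,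
      Hpull_ι_eq_zero_of_res F U₂' U₂ (range_preimage_ι U U₂ l₂) l₂ (n + 1) ξ z₂⟩
  rw [hker n] at hξ
  obtain ⟨ζ, rfl⟩ := hξ
  have hW : U₁ ⊓ U₂ = X.basicOpen (f * (f + g) * (g * (f + g))) := (X.basicOpen_mul _ _).symm
  have hsub : Subsingleton (HU F (U₁ ⊓ U₂) n) := by
    rw [hW]
    exact hV _
  have hr : Set.range ((U₁' ⊓ U₂').ι ≫ U.ι) = Set.range (U₁ ⊓ U₂).ι :=
    range_preimage_ι U (U₁ ⊓ U₂) (inf_le_left.trans l₁)
  haveI := subsingleton_of_iso_opens F (U₁' ⊓ U₂') (U₁ ⊓ U₂) hr n hsub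
  rw [Subsingleton.elim ζ 0, map_zero]

end H9FE.GabE
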