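import Mathlib
import Groth.Prelude.Def_EtCore
import Groth.Agent.Lib.Helper9.FE.GabE1

/-! helper9: Gabber's criterion on an affine scheme all of whose local rings are strictly
henselian, part 2: the partition of unity step and the induction. -/

set_option autoImplicit false
set_option linter.unusedSectionVars false
set_option linter.style.haveILetI false
set_option backward.isDefEq.respectTransparency false
universe u
open CategoryTheory CategoryTheory.Limits AlgebraicGeometry Opposite Abelian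

namespace H9FE.GabE
open H9FE.GabA H9FE.GabB H9FE.GabC H9FE.GabD H9FE.EtTr H9FE.LimPull H9FE.LimTower

attribute [local instance] pullLex

variable {X : Scheme.{u}} (F : EtCoh.Ab X)

section Affine

variable [IsAffine X]
  (hS : ∀ x : X, EtCoh.IsStrictlyHenselianLocalRing (X.presheaf.stalk x))

include hS in
/-- the partition of unity step -/
theorem V_of_K (m : ℕ) (hK : K F (m + 1)) : V F (m + 1) := by
  intro s
  suffices h : ∀ ξ : HU F (X.basicOpen s) (m + 1), ξ = 0 from ⟨fun a b => by rw [h a, h b]⟩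
  intro ξ
  have le : ∀ a : Γ(X, ⊤), X.basicOpen (a * s) ≤ X.basicOpen s := fun a =>
    (X.basicOpen_mul a s).trans_le inf_le_right
  let 𝔞 : Ideal Γ(X, ⊤) :=
    { carrier := {a | res F (le a) (m + 1) ξ = 0}
      zero_mem' := by
        haveI : IsEmpty (↑(X.basicOpen ((0 : Γ(X, ⊤)) * s)) : Scheme.{u}) := by
          rw [zero_mul, Scheme.basicOpen_zero]
          exact ⟨fun x => x.2.elim⟩
        haveI := subsingleton_H_of_isEmpty (↑(X.basicOpen ((0 : Γ(X, ⊤)) * s)) : Scheme.{u})
          ((EtCoh.pull (X.basicOpen ((0 : Γ(X, ⊤)) * s)).ι).obj F) (m + 1)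
        exact Subsingleton.elim _ _
      add_mem' := by
        intro a b ha hb
        have hU : X.basicOpen ((a + b) * s) = X.basicOpen (a * s + b * s) := by rw [add_mul]
        have l₁ : X.basicOpen (a * s * (a * s + b * s)) ≤ X.basicOpen ((a + b) * s) := by
          rw [hU]
          exact (X.basicOpen_mul _ _).trans_le inf_le_right
        have l₂ : X.basicOpen (b * s * (a * s + b * s)) ≤ X.basicOpen ((a + b) * s) := by
          rw [hU]
          exact (X.basicOpen_mul _ _).trans_le inf_le_right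
        have m₁ : X.basicOpen (a * s * (a * s + b * s)) ≤ X.basicOpen (a * s) :=
          (X.basicOpen_mul _ _).trans_le inf_le_left
        have m₂ : X.basicOpen (b * s * (a * s + b * s)) ≤ X.basicOpen (b * s) :=
          (X.basicOpen_mul _ _).trans_le inf_le_left
        refine K_gen F hK _ _ _ (a * s) (b * s) hU rfl rfl l₁ l₂ _ ?_ ?_
        · rw [res_res]
          exact res_trans_eq_zero F m₁ (le a) (m + 1) ξ ha
        · rw [res_res]
          exact res_trans_eq_zero F m₂ (le b) (m + 1) ξ hb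
      smul_mem' := by
        intro c a ha
        have m₁ : X.basicOpen (c • a * s) ≤ X.basicOpen (a * s) := by
          rw [smul_eq_mul, mul_assoc]
          exact (X.basicOpen_mul _ _).trans_le inf_le_right
        exact res_trans_eq_zero F m₁ (le a) (m + 1) ξ ha }
  have hmem : ∀ a : Γ(X, ⊤), a ∈ 𝔞 ↔ res F (le a) (m + 1) ξ = 0 := fun a => Iff.rfl
  have hU := isAffineOpen_top X
  have hrad : s ∈ 𝔞.radical := by
    by_contra hs
    rw [Ideal.radical_eq_sInf, Ideal.mem_sInf] at hs
    push Not at hs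
    obtain ⟨P, ⟨hle, hP⟩, hsP⟩ := hs
    let x : X := hU.fromSpec ⟨P, hP⟩
    have key : ∀ a : Γ(X, ⊤), x ∈ X.basicOpen a ↔ a ∉ P := by
      intro a
      have h1 := hU.fromSpec_preimage_basicOpen a
      have h2 : x ∈ X.basicOpen a ↔
          (⟨P, hP⟩ : PrimeSpectrum Γ(X, ⊤)) ∈ hU.fromSpec ⁻¹ᵁ X.basicOpen a := Iff.rfl
      rw [h2, h1]
      exact PrimeSpectrum.mem_basicOpen _ _
    have hx : x ∈ X.basicOpen s := (key s).2 hsP
    obtain ⟨W, hW, hxW, hz⟩ := exists_open_res_eq_zero F hS (X.basicOpen s) m ξ x hx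
    obtain ⟨a, ha₁, ha₂⟩ := hU.exists_basicOpen_le (V := W) ⟨x, hxW⟩ trivial
    have haP : a ∉ P := (key a).1 ha₂
    have ha : a ∈ 𝔞 := by
      rw [hmem]
      have l : X.basicOpen (a * s) ≤ W := ((X.basicOpen_mul a s).trans_le inf_le_left).trans ha₁
      exact res_trans_eq_zero F l hW (m + 1) ξ hz
    exact haP (hle ha)
  obtain ⟨N, hN⟩ := hrad
  rw [hmem] at hN
  have e : X.basicOpen s ≤ X.basicOpen (s ^ N * s) := by
    rw [← pow_succ, X.basicOpen_pow _ (Nat.succ_pos N)]
  exact eq_zero_of_res_eq F (le (s ^ N)) e (m + 1) ξ hN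

include hS in
theorem all (hK1 : K F 1) : ∀ m : ℕ, K F (m + 1) ∧ V F (m + 1) := by
  intro m
  induction m with
  | zero => exact ⟨hK1, V_of_K F hS 0 hK1⟩
  | succ m ih =>
    have hK := K_succ_of_V F (m + 1) ih.2
    exact ⟨hK, V_of_K F hS (m + 1) hK⟩

theorem isIso_ι_of_eq_top (U : X.Opens) (h : U = ⊤) : IsIso U.ι := by
  subst h
  change IsIso X.topIso.hom
  infer_instance

include hS in
/-- Gabber's criterion -/
theorem main (hK1 : K F 1) (q : ℕ) (hq : 1 ≤ q) : Subsingleton (EtCoh.H X F q) := by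
  obtain ⟨m, rfl⟩ : ∃ m, q = m + 1 := ⟨q - 1, by omega⟩
  have hV := (all F hS hK1 m).2 1
  haveI := isIso_ι_of_eq_top (X.basicOpen (1 : Γ(X, ⊤))) (X.basicOpen_of_isUnit isUnit_one)
  exact subsingleton_H_of_isIso (X.basicOpen (1 : Γ(X, ⊤))).ι F (m + 1) hV

end Affine

end H9FE.GabE
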