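import Mathlib
import Groth.Prelude.Def_NonAbH1
import Groth.Agent.Lib.Helper5.Misc.Tors3
import Groth.Agent.Lib.Helper5.Misc.Tors4

/-!
# Torsors under a "Godement" sheaf of groups are trivial

Let `(D, K)` be a site with a family of points `Ψ k`, and `G` a sheaf of groups whose sections over
`V` are identified (naturally in `V`) with the families `∀ k, (Ψ k).fiber V → A k` for groups `A k`.
Then every `G`-torsor is trivial.
-/

set_option autoImplicit false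
universe t w' w v u
open CategoryTheory Opposite Limits

namespace H9FE.GodTors

open Groth.Agent.Lib.Helper5.Tors

variable {D : Type u} [Category.{v} D] {K : GrothendieckTopology D}

section Refine

variable (Ψ : GrothendieckTopology.Point.{w'} K)

/-- common refinement of two pointed objects -/
lemma exists_min {Y Y' : D} (y : Ψ.fiber.obj Y) (y' : Ψ.fiber.obj Y') :
    ∃ (T : D) (z : Ψ.fiber.obj T) (a : T ⟶ Y) (b : T ⟶ Y'),
      Ψ.fiber.map a z = y ∧ Ψ.fiber.map b z = y' := by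
  let e : Ψ.fiber.Elements := ⟨Y, y⟩
  let e' : Ψ.fiber.Elements := ⟨Y', y'⟩
  exact ⟨(IsCofiltered.min e e').1, (IsCofiltered.min e e').2,
    (IsCofiltered.minToLeft e e').1, (IsCofiltered.minToRight e e').1,
    (IsCofiltered.minToLeft e e').2, (IsCofiltered.minToRight e e').2⟩

/-- equalizing two pairs of parallel maps between pointed objects -/
lemma exists_eq₂ {T T' Y Y' : D} (z : Ψ.fiber.obj T) (z' : Ψ.fiber.obj T')
    (a : T ⟶ Y) (b : T ⟶ Y') (a' : T' ⟶ Y) (b' : T' ⟶ Y')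
    (ha : Ψ.fiber.map a z = Ψ.fiber.map a' z') (hb : Ψ.fiber.map b z = Ψ.fiber.map b' z') :
    ∃ (T₃ : D) (z₃ : Ψ.fiber.obj T₃) (e : T₃ ⟶ T) (e' : T₃ ⟶ T'),
      Ψ.fiber.map e z₃ = z ∧ Ψ.fiber.map e' z₃ = z' ∧ e ≫ a = e' ≫ a' ∧ e ≫ b = e' ≫ b' := by
  let t : Ψ.fiber.Elements := ⟨T, z⟩
  let t' : Ψ.fiber.Elements := ⟨T', z'⟩
  let y : Ψ.fiber.Elements := ⟨Y, Ψ.fiber.map a z⟩
  let y' : Ψ.fiber.Elements := ⟨Y', Ψ.fiber.map b z⟩
  let A : t ⟶ y := ⟨a, rfl⟩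
  let B : t ⟶ y' := ⟨b, rfl⟩
  let A' : t' ⟶ y := ⟨a', ha.symm⟩
  let B' : t' ⟶ y' := ⟨b', hb.symm⟩
  let l := IsCofiltered.minToLeft t t'
  let l' := IsCofiltered.minToRight t t'
  let h₂ := IsCofiltered.eqHom (l ≫ A) (l' ≫ A')
  have c₂ : h₂ ≫ (l ≫ A) = h₂ ≫ (l' ≫ A') := IsCofiltered.eq_condition _ _
  let h₃ := IsCofiltered.eqHom (h₂ ≫ l ≫ B) (h₂ ≫ l' ≫ B')
  have c₃ : h₃ ≫ (h₂ ≫ l ≫ B) = h₃ ≫ (h₂ ≫ l' ≫ B') := IsCofiltered.eq_condition _ _
  refine ⟨_, _, (h₃ ≫ h₂ ≫ l).1, (h₃ ≫ h₂ ≫ l').1, (h₃ ≫ h₂ ≫ l).2, (h₃ ≫ h₂ ≫ l').2, ?_, ?_⟩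
  · have := congrArg Subtype.val (congrArg (fun m => h₃ ≫ m) c₂)
    simpa using this
  · have := congrArg Subtype.val c₃
    simpa using this

end Refine

section Main

variable {G : Sheaf K GrpCat.{w}} [K.HasSheafCompose (forget GrpCat.{w})]
  {κ : Type t} (Ψ : κ → GrothendieckTopology.Point.{w'} K) {A : κ → Type*} [∀ k, Group (A k)]
  (ev : ∀ V : D, G.obj.obj (op V) ≃* (∀ k, (Ψ k).fiber.obj V → A k))
  (hev : ∀ ⦃V W : D⦄ (g : W ⟶ V) (x : G.obj.obj (op V)) (k : κ) (z : (Ψ k).fiber.obj W),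
    ev W (G.obj.map g.op x) k z = ev V x k ((Ψ k).fiber.map g z))
  (P : NonAbH1.Torsor G)

include Ψ in
lemma exists_base (k : κ) :
    ∃ (Y : D) (_ : Nonempty (P.P.obj.obj (op Y))), Nonempty ((Ψ k).fiber.obj Y) := by
  obtain ⟨e⟩ := (IsCofiltered.nonempty : Nonempty (Ψ k).fiber.Elements)
  obtain ⟨S, hS, h⟩ := P.isTorsor.2 e.1
  obtain ⟨Y, f, hf, y, _⟩ := (Ψ k).jointly_surjective S hS e.2
  exact ⟨Y, h f hf, ⟨y⟩⟩

include hev in
/-- every torsor under a Godement-type sheaf of groups is trivial -/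
theorem isTrivial : P.toGSheaf.IsTrivial := by
  classical
  have hpt := P.isTorsor.1
  let I := {Y : D // Nonempty (P.P.obj.obj (op Y))}
  let U : I → D := fun i => i.1
  let s : ∀ i : I, P.P.obj.obj (op (U i)) := fun i => i.2.some
  have hU : K.CoversTop U := by
    intro W
    obtain ⟨S, hS, h⟩ := P.isTorsor.2 W
    refine K.superset_covering ?_ hS
    intro V f hf
    exact ⟨⟨V, h f hf⟩, ⟨𝟙 V⟩⟩
  let γ := cocycleOf hpt U s
  choose Y₀ hY₀ w₀ using fun k => exists_base Ψ P k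
  let i₀ : κ → I := fun k => ⟨Y₀ k, hY₀ k⟩
  let b₀ : ∀ k, (Ψ k).fiber.obj (U (i₀ k)) := fun k => (w₀ k).some
  have key : ∀ (i : I) (k : κ) (y : (Ψ k).fiber.obj (U i)), ∃ r : A k,
      ∀ (T : D) (z : (Ψ k).fiber.obj T) (a : T ⟶ U i) (b : T ⟶ U (i₀ k)),
        (Ψ k).fiber.map a z = y → (Ψ k).fiber.map b z = b₀ k →
          ev T (γ.ev i (i₀ k) a b) k z = r := by
    intro i k y
    obtain ⟨T, z, a, b, ha, hb⟩ := exists_min (Ψ k) y (b₀ k)
    refine ⟨ev T (γ.ev i (i₀ k) a b) k z, ?_⟩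
    intro T' z' a' b' ha' hb'
    obtain ⟨T₃, z₃, e, e', he, he', h1, h2⟩ :=
      exists_eq₂ (Ψ k) z z' a b a' b' (ha.trans ha'.symm) (hb.trans hb'.symm)
    rw [← he', ← hev e' (γ.ev i (i₀ k) a' b') k z₃, γ.ev_precomp, ← h1, ← h2, ← γ.ev_precomp,
      hev, he]
  choose r hr using key
  let α : ∀ i : I, G.obj.obj (op (U i)) := fun i => (ev (U i)).symm (fun k y => r i k y)
  have hα : ∀ (i j : I) ⦃T : D⦄ (a : T ⟶ U i) (b : T ⟶ U j),
      γ.ev i j a b * G.obj.map b.op (α j) = G.obj.map a.op (α i) := by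
    intro i j T a b
    apply (ev T).injective
    funext k z
    rw [map_mul]
    simp only [Pi.mul_apply]
    rw [hev b (α j) k z, hev a (α i) k z]
    simp only [α, MulEquiv.apply_symm_apply]
    obtain ⟨T₁, z₁, e, c, rfl, hc⟩ := exists_min (Ψ k) z (b₀ k)
    rw [← hr i k _ T₁ z₁ (e ≫ a) c (by rw [Functor.map_comp_apply]) hc,
      ← hr j k _ T₁ z₁ (e ≫ b) c (by rw [Functor.map_comp_apply]) hc,
      ← hev e (γ.ev i j a b) k z₁, γ.ev_precomp, ← Pi.mul_apply, ← Pi.mul_apply, ← map_mul,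
      γ.ev_trans]
  let T1 : Triv U P.toGSheaf γ := ⟨hpt, s, isCocycleOf_cocycleOf hpt U s⟩
  let T2 : Triv U (NonAbH1.GSheaf.trivial G) γ :=
    ⟨(NonAbH1.GSheaf.isTorsor_trivial G).1, fun i => α i, by
      intro i j T a b
      exact hα i j a b⟩
  exact nonempty_iso T2 T1 hU

end Main

end H9FE.GodTors
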