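import Mathlib
import Groth.Prelude.Def_NonAbH1
import Groth.Agent.Lib.Helper9.FE.GodTors

/-!
# The Godement sheaf of groups attached to a family of points of a site
-/

set_option autoImplicit false
universe u
open CategoryTheory Opposite Limits

namespace H9FE.GodSh

open Groth.Agent.Lib.Helper5.Tors

variable {C : Type (u + 1)} [Category.{u} C] {J : GrothendieckTopology C}

section Stalk

variable (Φ : GrothendieckTopology.Point.{u} J) (P : Cᵒᵖ ⥤ GrpCat.{u + 1})

theorem pfcGrp : PreservesFilteredColimitsOfSize.{u, u} (forget GrpCat.{u + 1}) :=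
  preservesFilteredColimitsOfSize_shrink.{u, u + 1, u, u + 1} _

attribute [local instance] pfcGrp

/-- the diagram computing the stalk -/
abbrev dg : Φ.fiber.Elementsᵒᵖ ⥤ GrpCat.{u + 1} := (CategoryOfElements.π Φ.fiber).op ⋙ P

instance hasColimModel :
    HasColimitsOfShape (FinallySmall.FilteredFinalModel.{u} Φ.fiber.Elementsᵒᵖ) GrpCat.{u + 1} where
  has_colimit K := ⟨⟨⟨GrpCat.FilteredColimits.colimitCocone.{u, u + 1} K,
    GrpCat.FilteredColimits.colimitCoconeIsColimit.{u, u + 1} K⟩⟩⟩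

instance hasColimElements : HasColimitsOfShape Φ.fiber.Elementsᵒᵖ GrpCat.{u + 1} :=
  Functor.Final.hasColimitsOfShape_of_final
    (FinallySmall.fromFilteredFinalModel.{u} Φ.fiber.Elementsᵒᵖ)

instance presColimElements : PreservesColimitsOfShape Φ.fiber.Elementsᵒᵖ (forget GrpCat.{u + 1}) :=
  FinallySmall.preservesColimitsOfShape_of_isFiltered.{u} _ _

/-- the stalk group -/
noncomputable def stalk : GrpCat.{u + 1} := colimit (dg Φ P)

/-- the germ map -/
noncomputable def germ (V : C) (v : Φ.fiber.obj V) : P.obj (op V) ⟶ stalk Φ P :=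
  colimit.ι (dg Φ P) (op (Φ.fiber.elementsMk V v))

lemma germ_w {W V : C} (g : W ⟶ V) (w : Φ.fiber.obj W) :
    P.map g.op ≫ germ Φ P W w = germ Φ P V (Φ.fiber.map g w) :=
  colimit.w (dg Φ P)
    (CategoryOfElements.homMk (Φ.fiber.elementsMk W w)
      (Φ.fiber.elementsMk V (Φ.fiber.map g w)) g rfl).op

lemma germ_w_apply {W V : C} (g : W ⟶ V) (w : Φ.fiber.obj W) (s : P.obj (op V)) :
    germ Φ P W w (P.map g.op s) = germ Φ P V (Φ.fiber.map g w) s :=
  ConcreteCategory.congr_hom (germ_w Φ P g w) s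

lemma germ_eq_iff (V : C) (v : Φ.fiber.obj V) (s t : P.obj (op V)) :
    germ Φ P V v s = germ Φ P V v t ↔
      ∃ (W : C) (g : W ⟶ V) (w : Φ.fiber.obj W), Φ.fiber.map g w = v ∧
        P.map g.op s = P.map g.op t := by
  refine ((colimit.isColimit (dg Φ P)).eq_iff' ..).trans ?_
  constructor
  · rintro ⟨⟨W, w⟩, ⟨g, hg⟩, h⟩
    exact ⟨W, g, w, hg, h⟩
  · rintro ⟨W, g, w, hg, h⟩
    exact ⟨⟨W, w⟩, ⟨g, hg⟩, h⟩

end Stalk

attribute [local instance] pfcGrp

section God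

lemma exists_common (Ψ : GrothendieckTopology.Point.{u} J) {Y Y' V : C} (f : Y ⟶ V) (f' : Y' ⟶ V)
    (y : Ψ.fiber.obj Y) (y' : Ψ.fiber.obj Y') (h : Ψ.fiber.map f y = Ψ.fiber.map f' y') :
    ∃ (T : C) (z : Ψ.fiber.obj T) (p : T ⟶ Y) (p' : T ⟶ Y'),
      Ψ.fiber.map p z = y ∧ Ψ.fiber.map p' z = y' ∧ p ≫ f = p' ≫ f' := by
  obtain ⟨T, z, e, e', he, he', h1, _⟩ := GodTors.exists_eq₂ Ψ y y' f f f' f' h h
  exact ⟨T, z, e, e', he, he', h1⟩

variable {ι : Type u} (Φ : ι → GrothendieckTopology.Point.{u} J) (F : Sheaf J GrpCat.{u + 1})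

/-- the stalk groups -/
noncomputable abbrev St (i : ι) : GrpCat.{u + 1} := stalk (Φ i) F.obj

/-- the Godement presheaf of groups -/
noncomputable def Gpre : Cᵒᵖ ⥤ GrpCat.{u + 1} where
  obj V := GrpCat.of (∀ i : ι, (Φ i).fiber.obj V.unop → St Φ F i)
  map {V W} g := GrpCat.ofHom
    { toFun := fun a i w => a i ((Φ i).fiber.map g.unop w)
      map_one' := rfl
      map_mul' := fun _ _ => rfl }
  map_id V := by
    ext a i w
    simp
  map_comp f g := by
    ext a i w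
    simp

lemma Gpre_map_apply {V W : C} (g : W ⟶ V) (a : (Gpre Φ F).obj (op V)) (i : ι)
    (w : (Φ i).fiber.obj W) :
    ((Gpre Φ F).map g.op a : ∀ i : ι, (Φ i).fiber.obj W → St Φ F i) i w =
      (a : ∀ i : ι, (Φ i).fiber.obj V → St Φ F i) i ((Φ i).fiber.map g w) := rfl

lemma Gpre_isSheaf : Presheaf.IsSheaf J (Gpre Φ F) := by
  rw [Presheaf.isSheaf_iff_isSheaf_forget J (Gpre Φ F) (forget GrpCat.{u + 1}),
    isSheaf_iff_isSheaf_of_type]
  intro V S hS x hx
  classical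
  choose Y f hf y hy using
    fun (p : Σ i, (Φ i).fiber.obj V) => (Φ p.1).jointly_surjective S hS p.2
  have wd : ∀ (i : ι) {Y₁ Y₂ : C} (f₁ : Y₁ ⟶ V) (f₂ : Y₂ ⟶ V) (h₁ : S f₁) (h₂ : S f₂)
      (y₁ : (Φ i).fiber.obj Y₁) (y₂ : (Φ i).fiber.obj Y₂),
      (Φ i).fiber.map f₁ y₁ = (Φ i).fiber.map f₂ y₂ →
      (x f₁ h₁ : ∀ i : ι, (Φ i).fiber.obj Y₁ → St Φ F i) i y₁ =
        (x f₂ h₂ : ∀ i : ι, (Φ i).fiber.obj Y₂ → St Φ F i) i y₂ := by
    intro i Y₁ Y₂ f₁ f₂ h₁ h₂ y₁ y₂ h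
    obtain ⟨T, z, p, p', rfl, rfl, hpp⟩ := exists_common (Φ i) f₁ f₂ y₁ y₂ h
    have := hx p p' h₁ h₂ hpp
    exact congrFun (congrFun this i) z
  let t : ∀ i : ι, (Φ i).fiber.obj V → St Φ F i := fun i v =>
    (x (f ⟨i, v⟩) (hf ⟨i, v⟩) : ∀ j : ι, (Φ j).fiber.obj (Y ⟨i, v⟩) → St Φ F j) i (y ⟨i, v⟩)
  refine ⟨t, ?_, ?_⟩
  · intro W g hg
    funext i w
    change t i ((Φ i).fiber.map g w) =
      (x g hg : ∀ j : ι, (Φ j).fiber.obj W → St Φ F j) i w
    exact wd i _ _ _ _ _ _ (hy ⟨i, _⟩)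
  · intro t' ht'
    funext i v
    have := ht' (f ⟨i, v⟩) (hf ⟨i, v⟩)
    have h2 := congrFun (congrFun this i) (y ⟨i, v⟩)
    change (t' : ∀ j : ι, (Φ j).fiber.obj V → St Φ F j) i v =
      (x (f ⟨i, v⟩) (hf ⟨i, v⟩) : ∀ j : ι, (Φ j).fiber.obj (Y ⟨i, v⟩) → St Φ F j) i (y ⟨i, v⟩)
    refine Eq.trans ?_ h2
    change (t' : ∀ j : ι, (Φ j).fiber.obj V → St Φ F j) i v =
      (t' : ∀ j : ι, (Φ j).fiber.obj V → St Φ F j) i ((Φ i).fiber.map (f ⟨i, v⟩) (y ⟨i, v⟩))
    exact congrArg ((t' : ∀ j : ι, (Φ j).fiber.obj V → St Φ F j) i) (hy ⟨i, v⟩).symm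

/-- the Godement sheaf of groups -/
noncomputable def God : Sheaf J GrpCat.{u + 1} := ⟨Gpre Φ F, Gpre_isSheaf Φ F⟩

/-- the embedding of `F` into its Godement sheaf -/
noncomputable def emb : F ⟶ God Φ F where
  hom :=
    { app := fun V => GrpCat.ofHom
        { toFun := fun s i v => germ (Φ i) F.obj V.unop v s
          map_one' := by
            funext i v
            exact map_one _
          map_mul' := fun s t => by
            funext i v
            exact map_mul _ s t }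
      naturality := fun V W g => by
        ext s
        funext i w
        exact germ_w_apply (Φ i) F.obj g.unop w s }

lemma emb_apply (V : C) (s : F.obj.obj (op V)) (i : ι) (v : (Φ i).fiber.obj V) :
    ((emb Φ F).hom.app (op V) s : ∀ i : ι, (Φ i).fiber.obj V → St Φ F i) i v =
      germ (Φ i) F.obj V v s := rfl

lemma emb_injective
    (hcov : ∀ (V : C) (S : Sieve V), (∀ (i : ι) (v : (Φ i).fiber.obj V),
      ∃ (Y : C) (f : Y ⟶ V) (_ : S f) (y : (Φ i).fiber.obj Y), (Φ i).fiber.map f y = v) → S ∈ J V)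
    (V : Cᵒᵖ) : Function.Injective ((emb Φ F).hom.app V) := by
  obtain ⟨V⟩ := V
  intro s t h
  let E : Sieve V :=
    { arrows := fun Y f => F.obj.map f.op s = F.obj.map f.op t
      downward_closed := by
        intro Y Z f hf g
        rw [op_comp, Functor.map_comp, ConcreteCategory.comp_apply, ConcreteCategory.comp_apply, hf] }
  have hE : E ∈ J V := by
    apply hcov
    intro i v
    have h1 : germ (Φ i) F.obj V v s = germ (Φ i) F.obj V v t := by
      rw [← emb_apply, ← emb_apply, h]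
    obtain ⟨W, g, w, hg, hw⟩ := (germ_eq_iff (Φ i) F.obj V v s t).1 h1
    exact ⟨W, g, hw, w, hg⟩
  exact G_ext F hE (fun W f hf => hf)

section Over

variable (U : C)

/-- the points of the over site -/
noncomputable def Ψ (p : Σ i : ι, (Φ i).fiber.obj U) :
    GrothendieckTopology.Point.{u} (J.over U) := (Φ p.1).over p.2

lemma evOver_aux (Y : Over U)
    (g : ∀ p : (Σ i : ι, (Φ i).fiber.obj U), (Ψ Φ U p).fiber.obj Y → St Φ F p.1) (i : ι)
    (v : (Φ i).fiber.obj U) (y : (Φ i).fiber.obj Y.left) (hy : (Φ i).fiber.map Y.hom y = v) :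
    g ⟨i, (Φ i).fiber.map Y.hom y⟩ ⟨y, rfl⟩ = g ⟨i, v⟩ ⟨y, hy⟩ := by
  subst hy
  rfl

/-- sections of the restricted Godement sheaf, in terms of the points of the over site -/
noncomputable def evOver (Y : Over U) :
    ((God Φ F).over U).obj.obj (op Y) ≃*
      (∀ p : (Σ i : ι, (Φ i).fiber.obj U), (Ψ Φ U p).fiber.obj Y → St Φ F p.1) where
  toFun x := fun p z => (x : ∀ i : ι, (Φ i).fiber.obj Y.left → St Φ F i) p.1 z.1
  invFun g := fun i y => g ⟨i, (Φ i).fiber.map Y.hom y⟩ ⟨y, rfl⟩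
  left_inv x := rfl
  right_inv g := by
    funext p
    rcases p with ⟨i, v⟩
    funext z
    rcases z with ⟨y, hy⟩
    exact evOver_aux Φ F U Y g i v y hy
  map_mul' x x' := rfl

theorem torsor_trivial [(J.over U).HasSheafCompose (forget GrpCat.{u + 1})]
    (P : NonAbH1.Torsor ((God Φ F).over U)) : P.IsTrivial :=
  GodTors.isTrivial (Ψ Φ U) (evOver Φ F U) (by intro Y W g x p z; rfl) P

end Over

/-- every sheaf of groups on a site with a conservative family of points embeds into a sheaf of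
groups all of whose torsors over all objects are trivial -/
theorem main [∀ U : C, (J.over U).HasSheafCompose (forget GrpCat.{u + 1})]
    (hcov : ∀ (V : C) (S : Sieve V), (∀ (i : ι) (v : (Φ i).fiber.obj V),
      ∃ (Y : C) (f : Y ⟶ V) (_ : S f) (y : (Φ i).fiber.obj Y), (Φ i).fiber.map f y = v) → S ∈ J V) :
    ∃ (G : Sheaf J GrpCat.{u + 1}) (φ : F ⟶ G),
      (∀ V : Cᵒᵖ, Function.Injective (φ.hom.app V)) ∧
      ∀ (U : C) (P : NonAbH1.Torsor (G.over U)), P.IsTrivial :=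
  ⟨God Φ F, emb Φ F, emb_injective Φ F hcov, fun U P => torsor_trivial Φ F U P⟩

end God

end H9FE.GodSh
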