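import Mathlib
import Groth.Agent.Lib.Helper9.FE.FlfSec2
/-! helper9: henselian couples of schemes (clopen lifting along finite morphisms): functions which are 1 on X₀ are units -/
open CategoryTheory CategoryTheory.Limits AlgebraicGeometry TopologicalSpace Opposite
universe u
set_option linter.style.haveILetI false
set_option linter.unusedSectionVars false
set_option backward.isDefEq.respectTransparency false
namespace H9FE

section HC
variable {X X₀ : Scheme.{u}} (i : X₀ ⟶ X)

/-- the henselian couple condition of the statement -/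
def IsHensCouple : Prop :=
  ∀ (Y : Scheme.{u}) (g : Y ⟶ X), IsFinite g →
    ∀ V : Set ↥(pullback g i), IsClopen V →
      ∃! U : Set ↥Y, IsClopen U ∧ (pullback.fst g i).base ⁻¹' U = V

theorem isUnit_of_appTop_eq_one (hX : IsHensCouple i) (t : Γ(X, ⊤)) (ht : i.appTop t = 1) :
    IsUnit t := by
  apply RingedSpace.isUnit_of_isUnit_germ
  intro x _
  rw [← Scheme.mem_basicOpen_top]
  by_contra hx
  let C : Closeds X := ⟨((X.basicOpen t : X.Opens) : Set X)ᶜ, (X.basicOpen t).2.isClosed_compl⟩
  let I := Scheme.IdealSheafData.vanishingIdeal C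
  let g : I.subscheme ⟶ X := I.subschemeι
  have hrange : Set.range g = ((X.basicOpen t : X.Opens) : Set X)ᶜ := by
    rw [Scheme.IdealSheafData.range_subschemeι, Scheme.IdealSheafData.coe_support_vanishingIdeal]
    rfl
  have hempty : IsEmpty ↥(pullback g i) := by
    refine ⟨fun w => ?_⟩
    have h1 : g (pullback.fst g i w) = i (pullback.snd g i w) := by
      rw [← Scheme.Hom.comp_apply, ← Scheme.Hom.comp_apply, pullback.condition]
    have h2 : g (pullback.fst g i w) ∉ ((X.basicOpen t : X.Opens) : Set X) := by
      have : g (pullback.fst g i w) ∈ Set.range g := ⟨_, rfl⟩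
      rw [hrange] at this
      exact this
    have h3 : i (pullback.snd g i w) ∈ X.basicOpen t := by
      show pullback.snd g i w ∈ i ⁻¹ᵁ (X.basicOpen t)
      rw [Scheme.preimage_basicOpen_top, ht, Scheme.basicOpen_one]
      trivial
    rw [h1] at h2
    exact h2 h3
  obtain ⟨U, -, huniq⟩ := hX I.subscheme g inferInstance ∅ isClopen_empty
  have e1 := huniq ∅ ⟨isClopen_empty, by simp⟩
  have e2 := huniq Set.univ ⟨isClopen_univ, by
    ext w; exact (hempty.false w).elim⟩
  have hx' : x ∈ Set.range g := by rw [hrange]; exact hx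
  obtain ⟨z, -⟩ := hx'
  have : z ∈ (∅ : Set ↥I.subscheme) := by rw [e1, ← e2]; trivial
  exact this

end HC

end H9FE
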