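import Mathlib
import Groth.Agent.Lib.Helper9.FE.FlfSec2
/-! helper9: Spec of a free algebra as a trivialised affine morphism: sections of base changes and their kernels -/
open CategoryTheory CategoryTheory.Limits AlgebraicGeometry TopologicalSpace Opposite
universe u
set_option linter.style.haveILetI false
set_option linter.unusedSectionVars false
set_option backward.isDefEq.respectTransparency false
namespace H9FE

section SpecTriv
variable (R : Type u) [CommRing R] (R' : Type u) [CommRing R'] [Algebra R R'] {d : ℕ}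
  (β : Module.Basis (Fin d) R R')

/-- the structure morphism `Spec R' ⟶ Spec R` -/
noncomputable abbrev specπ : Spec (CommRingCat.of R') ⟶ Spec (CommRingCat.of R) :=
  Spec.map (CommRingCat.ofHom (algebraMap R R'))

/-- a basis, as sections -/
noncomputable def specB : Fin d → Γ(Spec (CommRingCat.of R'), (specπ R R') ⁻¹ᵁ ⊤) :=
  fun k => (Scheme.ΓSpecIso (CommRingCat.of R')).inv (β k)

theorem specπ_appTop_apply (x : Γ(Spec (CommRingCat.of R), ⊤)) :
    ((specπ R R').app ⊤) x =
      (Scheme.ΓSpecIso (CommRingCat.of R')).inv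
        (algebraMap R R' ((Scheme.ΓSpecIso (CommRingCat.of R)).hom x)) := by
  have h := Scheme.ΓSpecIso_naturality (CommRingCat.ofHom (algebraMap R R'))
  have h2 : (specπ R R').appTop = (Scheme.ΓSpecIso (CommRingCat.of R)).hom ≫
      CommRingCat.ofHom (algebraMap R R') ≫ (Scheme.ΓSpecIso (CommRingCat.of R')).inv := by
    rw [← Category.assoc, ← h, Category.assoc, Iso.hom_inv_id, Category.comp_id]
  exact congrArg (fun ψ : Γ(Spec (CommRingCat.of R), ⊤) ⟶ Γ(Spec (CommRingCat.of R'), ⊤) => ψ x) h2

theorem spec_sum_eq (c : Fin d → Γ(Spec (CommRingCat.of R), ⊤)) :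
    (∑ k, ((specπ R R').app ⊤) (c k) * specB R R' β k) =
      (Scheme.ΓSpecIso (CommRingCat.of R')).inv
        (β.equivFun.symm (fun k => (Scheme.ΓSpecIso (CommRingCat.of R)).hom (c k))) := by
  rw [Module.Basis.equivFun_symm_apply, map_sum]
  refine Finset.sum_congr rfl fun k _ => ?_
  rw [specπ_appTop_apply, Algebra.smul_def, map_mul]
  rfl

theorem spec_triv_bijective :
    Function.Bijective (fun c : Fin d → Γ(Spec (CommRingCat.of R), ⊤) =>
      ∑ k, ((specπ R R').app ⊤) (c k) * specB R R' β k) := by
  have h1 : Function.Bijective (fun (c : Fin d → Γ(Spec (CommRingCat.of R), ⊤)) (k : Fin d) =>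
      (Scheme.ΓSpecIso (CommRingCat.of R)).hom (c k)) := by
    have hb := ConcreteCategory.bijective_of_isIso (Scheme.ΓSpecIso (CommRingCat.of R)).hom
    constructor
    · intro c c' h
      funext k
      exact hb.1 (congrFun h k)
    · intro e
      choose c hc using fun k => hb.2 (e k)
      exact ⟨c, funext hc⟩
  have h2 : Function.Bijective β.equivFun.symm := β.equivFun.symm.bijective
  have h3 := ConcreteCategory.bijective_of_isIso (Scheme.ΓSpecIso (CommRingCat.of R')).inv
  have := h3.comp (h2.comp h1)
  have e : (fun c : Fin d → Γ(Spec (CommRingCat.of R), ⊤) =>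
      ∑ k, ((specπ R R').app ⊤) (c k) * specB R R' β k) =
      ((Scheme.ΓSpecIso (CommRingCat.of R')).inv) ∘ β.equivFun.symm ∘
        (fun (c : Fin d → Γ(Spec (CommRingCat.of R), ⊤)) (k : Fin d) =>
          (Scheme.ΓSpecIso (CommRingCat.of R)).hom (c k)) := by
    funext c
    exact spec_sum_eq R R' β c
  rw [e]
  exact this

variable {X : Scheme.{u}} (f : X ⟶ Spec (CommRingCat.of R))

theorem psi_top_eq : psi (specπ R R') f ⊤ = (pullback.fst (specπ R R') f).appTop := by
  unfold psi
  exact Scheme.Hom.appLE_eq_app _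

include β in
theorem spec_fst_appTop_bijective (hf : Function.Bijective f.appTop) :
    Function.Bijective (pullback.fst (specπ R R') f).appTop := by
  have h := psi_bijective_of_triv (specπ R R') f ⊤ (specB R R' β) (isAffineOpen_top _)
    (isAffineOpen_top _) (spec_triv_bijective R R' β) hf
  rwa [psi_top_eq] at h

theorem spec_fst_appTop_eq_zero_iff (a : R') :
    (pullback.fst (specπ R R') f).appTop ((Scheme.ΓSpecIso (CommRingCat.of R')).inv a) = 0 ↔
      ∀ k, f.appTop ((Scheme.ΓSpecIso (CommRingCat.of R)).inv (β.repr a k)) = 0 := by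
  have h := psi_eq_zero_iff (specπ R R') f ⊤ (specB R R' β) (isAffineOpen_top _)
    (isAffineOpen_top _) (spec_triv_bijective R R' β)
    (fun k => (Scheme.ΓSpecIso (CommRingCat.of R)).inv (β.repr a k))
  have e1 : (∑ k, ((specπ R R').app ⊤) ((Scheme.ΓSpecIso (CommRingCat.of R)).inv (β.repr a k)) *
      specB R R' β k) = (Scheme.ΓSpecIso (CommRingCat.of R')).inv a := by
    rw [spec_sum_eq]
    congr 1
    have : (fun k => (Scheme.ΓSpecIso (CommRingCat.of R)).hom
        ((Scheme.ΓSpecIso (CommRingCat.of R)).inv (β.repr a k))) = β.equivFun a := by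
      funext k
      rw [← CommRingCat.comp_apply, Iso.inv_hom_id]
      rfl
    rw [this, LinearEquiv.symm_apply_apply]
  rw [e1, psi_top_eq] at h
  exact h

end SpecTriv

end H9FE
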