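import Mathlib
import Groth.Agent.Lib.Helper9.FE.SpecTriv
import Groth.Agent.Lib.Helper9.FE.HensCoupleUnit
/-! helper9: for a henselian couple (X, X₀), approximate idempotents of a free Γ(X)-algebra lift -/
open CategoryTheory CategoryTheory.Limits AlgebraicGeometry TopologicalSpace Opposite Polynomial
universe u
set_option linter.style.haveILetI false
set_option linter.unusedSectionVars false
set_option backward.isDefEq.respectTransparency false
namespace H9FE

section HM
variable {X X₀ : Scheme.{u}} (i : X₀ ⟶ X)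

theorem exists_idem_of_free (hX : IsHensCouple i) (R' : Type u) [CommRing R']
    [Algebra ↑Γ(X, ⊤) R'] [Module.Finite ↑Γ(X, ⊤) R'] {d : ℕ}
    (β : Module.Basis (Fin d) ↑Γ(X, ⊤) R') (a₀ : R')
    (ha₀ : a₀ * a₀ - a₀ ∈ (RingHom.ker i.appTop.hom).map (algebraMap ↑Γ(X, ⊤) R')) :
    ∃ e : R', IsIdempotentElem e ∧
      e - a₀ ∈ (RingHom.ker i.appTop.hom).map (algebraMap ↑Γ(X, ⊤) R') := by
  let B : Type u := ↑Γ(X, ⊤)
  let J : Ideal B := RingHom.ker i.appTop.hom
  let π := specπ B R'
  let f : X ⟶ Spec (CommRingCat.of B) := X.toSpecΓ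
  let g : pullback π f ⟶ X := pullback.snd π f
  let pr : pullback π f ⟶ Spec (CommRingCat.of R') := pullback.fst π f
  let q : pullback g i ⟶ pullback π f := pullback.fst g i
  have hfin : IsFinite π := by
    rw [IsFinite.SpecMap_iff]
    exact RingHom.finite_algebraMap.mpr inferInstance
  haveI : IsFinite g := MorphismProperty.pullback_snd _ _ hfin
  have hfapp : f.appTop = (Scheme.ΓSpecIso (CommRingCat.of B)).hom := Scheme.toSpecΓ_appTop X
  have hpr : Function.Bijective pr.appTop := by
    apply spec_fst_appTop_bijective B R' β f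
    rw [hfapp]
    exact ConcreteCategory.bijective_of_isIso _
  -- the two ring maps
  let ιY : R' →+* Γ(pullback π f, ⊤) :=
    pr.appTop.hom.comp (Scheme.ΓSpecIso (CommRingCat.of R')).inv.hom
  have hιY : Function.Bijective ιY :=
    hpr.comp (ConcreteCategory.bijective_of_isIso (Scheme.ΓSpecIso (CommRingCat.of R')).inv)
  let ι' : R' →+* Γ(pullback g i, ⊤) := q.appTop.hom.comp ιY
  -- the kernel of ι' is J R'
  have hker1 : ∀ a ∈ J.map (algebraMap B R'), ι' a = 0 := by
    intro a ha
    have hle : J.map (algebraMap B R') ≤ RingHom.ker ι' := by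
      rw [Ideal.map_le_iff_le_comap]
      intro j hj
      rw [Ideal.mem_comap, RingHom.mem_ker]
      have h1 : (Scheme.ΓSpecIso (CommRingCat.of R')).inv (algebraMap B R' j) =
          (π.app ⊤) ((Scheme.ΓSpecIso (CommRingCat.of B)).inv j) := by
        rw [specπ_appTop_apply, ← CommRingCat.comp_apply, Iso.inv_hom_id]
        rfl
      show q.appTop (pr.appTop ((Scheme.ΓSpecIso (CommRingCat.of R')).inv (algebraMap B R' j))) = 0
      rw [h1]
      have h2 : π.app ⊤ ≫ pr.appTop ≫ q.appTop =
          (Scheme.ΓSpecIso (CommRingCat.of B)).hom ≫ i.appTop ≫ (pullback.snd g i).appTop := by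
        rw [← hfapp]
        show π.appTop ≫ pr.appTop ≫ q.appTop = _
        rw [← Scheme.Hom.comp_appTop, ← Scheme.Hom.comp_appTop, ← Scheme.Hom.comp_appTop,
          ← Scheme.Hom.comp_appTop]
        congr 1
        show pullback.fst g i ≫ pullback.fst π f ≫ π = pullback.snd g i ≫ i ≫ f
        rw [pullback.condition, ← Category.assoc, pullback.condition, Category.assoc]
      have h3 := congrArg (fun ψ : Γ(Spec (CommRingCat.of B), ⊤) ⟶ Γ(pullback g i, ⊤) =>
        ψ ((Scheme.ΓSpecIso (CommRingCat.of B)).inv j)) h2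
      simp only [CommRingCat.comp_apply] at h3
      refine h3.trans ?_
      have e : (Scheme.ΓSpecIso (CommRingCat.of B)).hom
          ((Scheme.ΓSpecIso (CommRingCat.of B)).inv j) = j := by
        rw [← CommRingCat.comp_apply, Iso.inv_hom_id]
        rfl
      rw [e]
      have : i.appTop j = 0 := hj
      show (pullback.snd g i).appTop (i.appTop j) = 0
      rw [this, map_zero]
    exact hle ha
  have hker2 : ∀ a : R', ι' a = 0 → a ∈ J.map (algebraMap B R') := by
    intro a ha
    let θ := pullbackLeftPullbackSndIso π f i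
    have hθ : θ.hom ≫ pullback.fst π (i ≫ f) = q ≫ pr :=
      pullbackLeftPullbackSndIso_hom_fst π f i
    have h1 : (pullback.fst π (i ≫ f)).appTop
        ((Scheme.ΓSpecIso (CommRingCat.of R')).inv a) = 0 := by
      have hinj : Function.Injective θ.hom.appTop :=
        (ConcreteCategory.bijective_of_isIso θ.hom.appTop).1
      apply hinj
      rw [map_zero, ← CommRingCat.comp_apply, ← Scheme.Hom.comp_appTop, hθ,
        Scheme.Hom.comp_appTop]
      exact ha
    rw [spec_fst_appTop_eq_zero_iff B R' β (i ≫ f)] at h1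
    have h2 : ∀ k, β.repr a k ∈ J := by
      intro k
      have := h1 k
      rw [Scheme.Hom.comp_appTop, hfapp, CommRingCat.comp_apply,
        ← CommRingCat.comp_apply (Scheme.ΓSpecIso (CommRingCat.of B)).inv, Iso.inv_hom_id] at this
      exact this
    rw [← β.sum_repr a]
    refine Ideal.sum_mem _ fun k _ => ?_
    rw [Algebra.smul_def]
    exact Ideal.mul_mem_right _ _ (Ideal.mem_map_of_mem _ (h2 k))
  -- the clopen subset of the closed part
  let t₀ : Γ(pullback g i, ⊤) := ι' a₀
  have ht₀ : IsIdempotentElem t₀ := by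
    show ι' a₀ * ι' a₀ = ι' a₀
    rw [← sub_eq_zero, ← map_mul, ← map_sub]
    exact hker1 _ ha₀
  obtain ⟨U, ⟨hU, hUV⟩, -⟩ := hX (pullback π f) g inferInstance
    (((pullback g i).basicOpen t₀ : (pullback g i).Opens) : Set ↥(pullback g i))
    (isClopen_basicOpen_of_idem t₀ ht₀)
  obtain ⟨eY, heY, heYU⟩ := exists_idem_of_isClopen U hU
  obtain ⟨e, he⟩ := hιY.2 eY
  have hidem : IsIdempotentElem e := by
    apply hιY.1
    rw [map_mul, he]
    exact heY
  refine ⟨e, hidem, ?_⟩
  apply hker2
  have hq : q.appTop eY = t₀ := by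
    apply idem_eq_of_basicOpen_eq _ _ (heY.map _) ht₀
    rw [← Scheme.preimage_basicOpen_top]
    ext w
    show q w ∈ (((pullback π f).basicOpen eY : (pullback π f).Opens) : Set ↥(pullback π f)) ↔ _
    rw [heYU]
    have := congrArg (fun T : Set ↥(pullback g i) => w ∈ T) hUV
    exact Iff.of_eq this
  rw [map_sub]
  show q.appTop (ιY e) - t₀ = 0
  rw [he, hq, sub_self]

end HM

end H9FE
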