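import Mathlib

set_option autoImplicit false
set_option linter.style.haveILetI false
universe w v u
open CategoryTheory CategoryTheory.Limits HomologicalComplex CochainComplex.HomComplex

namespace Groth.Agent.Lib.Helper9.InjAmp

section Chain

variable {B : Type u} [Category.{v} B] [Abelian B]

/-- every map from a single complex placed in a degree `≥ 0` is null-homotopic -/
def SplitFrom (J : CochainComplex B ℤ) : Prop :=
  ∀ (k : ℤ), 0 ≤ k → ∀ (F : B)
    (ψ : (HomologicalComplex.single B (ComplexShape.up ℤ) k).obj F ⟶ J), Nonempty (Homotopy ψ 0)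

lemma exists_r (J : CochainComplex B ℤ) (hJ : ∀ k, Injective (J.X k)) (h : SplitFrom J)
    (p q : ℤ) (hpq : q + 1 = p) (hp : 0 ≤ p) :
    ∃ r : J.X p ⟶ J.X q, ∀ {T : B} (z : T ⟶ J.X p), z ≫ J.d p (p + 1) = 0 →
      z ≫ r ≫ J.d q p = z := by
  let ι := kernel.ι (J.d p (p + 1))
  let ψ : (HomologicalComplex.single B (ComplexShape.up ℤ) p).obj (kernel (J.d p (p + 1))) ⟶ J :=
    mkHomFromSingle ι (by
      intro k hk
      obtain rfl : p + 1 = k := hk
      exact kernel.condition _)
  obtain ⟨H⟩ := h p hp _ ψ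
  have hrel : (ComplexShape.up ℤ).Rel q p := hpq
  have hc := H.comm p
  rw [prevD_eq _ hrel, dNext_eq _ (show (ComplexShape.up ℤ).Rel p (p + 1) from rfl)] at hc
  have hd : ((HomologicalComplex.single B (ComplexShape.up ℤ) p).obj
      (kernel (J.d p (p + 1)))).d p (p + 1) = 0 := by
    apply HomologicalComplex.single_obj_d
  rw [hd, zero_comp, zero_add, HomologicalComplex.zero_f, add_zero, mkHomFromSingle_f] at hc
  let h0 : kernel (J.d p (p + 1)) ⟶ J.X q := (singleObjXSelf (ComplexShape.up ℤ) p _).inv ≫ H.hom p q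
  have h0d : h0 ≫ J.d q p = ι := by
    dsimp only [h0]
    rw [Category.assoc, ← hc, Iso.inv_hom_id_assoc]
  haveI := hJ q
  refine ⟨Injective.factorThru h0 ι, ?_⟩
  intro T z hz
  have hz' : z = kernel.lift _ z hz ≫ ι := (kernel.lift_ι _ z hz).symm
  conv_lhs => rw [hz']
  rw [Category.assoc, ← Category.assoc ι, Injective.comp_factorThru, h0d]
  exact hz'.symm

open Classical in
theorem homotopy_zero (J : CochainComplex B ℤ) (hJ : ∀ k, Injective (J.X k)) (h : SplitFrom J)
    (K' : CochainComplex B ℤ) [K'.IsStrictlyGE 0] (φ : K' ⟶ J) : Nonempty (Homotopy φ 0) := by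
  choose r hr using exists_r J hJ h
  -- the projections onto cycles
  let π : ∀ (p : ℤ) (hp : 0 ≤ p + 1), J.X p ⟶ J.X p := fun p hp =>
    𝟙 _ - J.d p (p + 1) ≫ r (p + 1) p rfl hp
  have hπ : ∀ (p : ℤ) (hp : 0 ≤ p + 1), π p hp ≫ J.d p (p + 1) = 0 := by
    intro p hp
    dsimp only [π]
    rw [Preadditive.sub_comp, Category.id_comp, Category.assoc,
      hr (p + 1) p rfl hp (J.d p (p + 1)) (J.d_comp_d _ _ _), sub_self]
  let z : Cochain K' J (-1) := Cochain.mk (fun p q hpq =>
    if hp : 0 ≤ p then φ.f p ≫ π p (by omega) ≫ r p q (by omega) hp else 0)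
  refine ⟨(Cochain.equivHomotopy φ 0).symm ⟨z, ?_⟩⟩
  ext p
  rw [Cochain.add_v, Cochain.ofHom_v, Cochain.ofHom_v, HomologicalComplex.zero_f, add_zero,
    δ_v (-1) 0 (by omega) z p p (add_zero p) (p - 1) (p + 1) rfl rfl]
  by_cases hp : 0 ≤ p
  · have hp1 : 0 ≤ p + 1 := by omega
    simp only [z, Cochain.mk_v, dif_pos hp, dif_pos hp1]
    rw [Int.negOnePow_zero, one_smul]
    have e1 : (φ.f p ≫ π p hp1 ≫ r p (p - 1) (by omega) hp) ≫ J.d (p - 1) p = φ.f p ≫ π p hp1 := by
      rw [Category.assoc, Category.assoc, ← Category.assoc (φ.f p)]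
      apply hr p (p - 1) (by omega) hp
      rw [Category.assoc, hπ, comp_zero]
    have e2 : K'.d p (p + 1) ≫ φ.f (p + 1) ≫ π (p + 1) (by omega) ≫ r (p + 1) p rfl hp1 =
        φ.f p ≫ J.d p (p + 1) ≫ r (p + 1) p rfl hp1 := by
      rw [← Category.assoc, ← φ.comm, Category.assoc]
      congr 1
      dsimp only [π]
      rw [Preadditive.sub_comp, Preadditive.comp_sub, Category.id_comp, Category.assoc,
        J.d_comp_d_assoc, zero_comp, sub_zero]
    rw [e1, e2]
    dsimp only [π]
    rw [Preadditive.comp_sub, Category.comp_id]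
    abel
  · apply (K'.isZero_of_isStrictlyGE 0 p (by omega)).eq_of_src

end Chain

section Shift

variable {C : Type u} [Category.{v} C] [HasShift C ℤ]

lemma subsingleton_shift_right (X Y : C) (i : ℤ) (h : Subsingleton (X⟦-i⟧ ⟶ Y)) :
    Subsingleton (X ⟶ Y⟦i⟧) := by
  refine ⟨fun f g => ?_⟩
  have h1 : f⟦-i⟧' ≫ (shiftFunctorCompIsoId C i (-i) (by omega)).hom.app Y =
      g⟦-i⟧' ≫ (shiftFunctorCompIsoId C i (-i) (by omega)).hom.app Y := h.elim _ _
  have h2 : f⟦-i⟧' = g⟦-i⟧' := (cancel_mono _).1 h1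
  exact (shiftFunctor C (-i)).map_injective h2

lemma subsingleton_shift_left (X Y : C) (i : ℤ) (h : Subsingleton (X ⟶ Y⟦i⟧)) :
    Subsingleton (X⟦-i⟧ ⟶ Y) := by
  refine ⟨fun f g => ?_⟩
  have h1 : (shiftFunctorCompIsoId C (-i) i (by omega)).inv.app X ≫ f⟦i⟧' =
      (shiftFunctorCompIsoId C (-i) i (by omega)).inv.app X ≫ g⟦i⟧' := h.elim _ _
  have h2 : f⟦i⟧' = g⟦i⟧' := (cancel_epi _).1 h1
  exact (shiftFunctor C i).map_injective h2

lemma subsingleton_of_iso_left {X X' Y : C} (e : X ≅ X') (h : Subsingleton (X ⟶ Y)) :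
    Subsingleton (X' ⟶ Y) :=
  ⟨fun f g => (cancel_epi e.hom).1 (h.elim _ _)⟩

lemma subsingleton_of_iso_right {X Y Y' : C} (e : Y ≅ Y') (h : Subsingleton (X ⟶ Y)) :
    Subsingleton (X ⟶ Y') :=
  ⟨fun f g => (cancel_mono e.inv).1 (h.elim _ _)⟩

end Shift

section Derived

variable {B : Type u} [Category.{v} B] [Abelian B] [HasDerivedCategory.{w} B] [EnoughInjectives B]

open DerivedCategory in
theorem subsingleton_hom_of_isGE (M : DerivedCategory.Plus B)
    (hM : ∀ (F : B) (k : ℤ), 0 ≤ k →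
      Subsingleton ((DerivedCategory.Plus.singleFunctor B k).obj F ⟶ M))
    (K : DerivedCategory.Plus B) [K.IsGE 0] : Subsingleton (K ⟶ M) := by
  obtain ⟨n, hn⟩ := M.2
  haveI : M.IsGE n := (DerivedCategory.Plus.isGE_ι_obj_iff M n).1 hn
  obtain ⟨Linj, _, ⟨e⟩⟩ := DerivedCategory.Plus.exists_injective_nonempty_iso M n
  let J : CochainComplex B ℤ := ((InjectiveObject.ι B).mapCochainComplexPlus.obj Linj).obj
  have hJ : ∀ k, Injective (J.X k) := fun k =>
    inferInstanceAs (Injective ((InjectiveObject.ι B).obj (Linj.obj.X k)))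
  haveI hK : CochainComplex.IsKInjective J :=
    inferInstanceAs (CochainComplex.IsKInjective
      (((InjectiveObject.ι B).mapHomologicalComplex (.up ℤ)).obj Linj.obj))
  let e' : DerivedCategory.Plus.ι.obj M ≅ DerivedCategory.Q.obj J :=
    (DerivedCategory.Plus.ι.mapIso e).symm
  have key : ∀ (K' : CochainComplex B ℤ) (ψ : K' ⟶ J), DerivedCategory.Q.map ψ = 0 →
      (HomotopyCategory.quotient _ _).map ψ = 0 := by
    intro K' ψ h0
    apply (CochainComplex.IsKInjective.Qh_map_bijective _ J).injective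
    rw [Functor.map_zero]
    have nat := (quotientCompQhIso B).hom.naturality ψ
    dsimp only [Functor.comp_map] at nat
    rw [h0, comp_zero] at nat
    rw [← cancel_mono ((quotientCompQhIso B).hom.app J), nat, zero_comp]
  have hsplit : SplitFrom J := by
    intro k hk F ψ
    have h0 : DerivedCategory.Q.map ψ = 0 := by
      let a : DerivedCategory.Plus.ι.obj ((DerivedCategory.Plus.singleFunctor B k).obj F) ≅
          DerivedCategory.Q.obj ((HomologicalComplex.single B (ComplexShape.up ℤ) k).obj F) :=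
        (DerivedCategory.singleFunctorIsoCompQ B k).app F
      let g : (DerivedCategory.Plus.singleFunctor B k).obj F ⟶ M :=
        DerivedCategory.Plus.ι.preimage (a.hom ≫ DerivedCategory.Q.map ψ ≫ e'.inv)
      have hg : g = 0 := (hM F k hk).elim _ _
      have h1 := congrArg DerivedCategory.Plus.ι.map hg
      rw [Functor.map_preimage, Functor.map_zero] at h1
      rw [← cancel_epi a.hom, ← cancel_mono e'.inv, Category.assoc, h1, comp_zero, zero_comp]
    have h2 := key _ ψ h0
    exact ⟨HomotopyCategory.homotopyOfEq _ _ (by rw [h2, Functor.map_zero])⟩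
  suffices ∀ f : K ⟶ M, f = 0 from ⟨fun f₁ f₂ => by rw [this f₁, this f₂]⟩
  intro f
  obtain ⟨K', _, ⟨eK⟩⟩ := DerivedCategory.exists_iso_Q_obj_of_isGE (DerivedCategory.Plus.ι.obj K) 0
  obtain ⟨φh, hφh⟩ := (CochainComplex.IsKInjective.Qh_map_bijective
    ((HomotopyCategory.quotient _ _).obj K') J).surjective
      ((quotientCompQhIso B).hom.app K' ≫ eK.inv ≫ DerivedCategory.Plus.ι.map f ≫ e'.hom ≫
        (quotientCompQhIso B).inv.app J)
  obtain ⟨φ, rfl⟩ := (HomotopyCategory.quotient _ _).map_surjective φh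
  obtain ⟨H⟩ := homotopy_zero J hJ hsplit K' φ
  have h3 : (HomotopyCategory.quotient _ _).map φ = 0 := by
    rw [HomotopyCategory.eq_of_homotopy _ _ H, Functor.map_zero]
  rw [h3, Functor.map_zero] at hφh
  have h4 : DerivedCategory.Plus.ι.map f = 0 := by
    rw [← cancel_epi ((quotientCompQhIso B).hom.app K' ≫ eK.inv),
      ← cancel_mono (e'.hom ≫ (quotientCompQhIso B).inv.app J)]
    simp only [Category.assoc, comp_zero, zero_comp]
    exact hφh.symm
  apply DerivedCategory.Plus.ι.map_injective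
  rw [h4, Functor.map_zero]

end Derived

end Groth.Agent.Lib.Helper9.InjAmp
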