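import Mathlib
import Groth.Agent.S0654
import Groth.Agent.S0728
import Groth.Agent.Lib.Helper5.Misc.JContGen
import Groth.Agent.Lib.Helper9.FE.BCConn
import Groth.Agent.Lib.Helper9.FE.SLocFib
import Groth.Agent.Lib.Helper9.FE.IntDisj
import Groth.Agent.Lib.Helper9.FE.StalkPullGerm

/-! helper9: for an integral morphism `q : T ⟶ Spec R` with `R` strictly henselian local and a
closed immersion `ι : Z ⟶ T` whose image contains the closed fibre of `q`, the unit
`F ⟶ ι_* ι⁻¹ F` is bijective on global sections (`secBij_closed`): surjectivity because the unit of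
a closed immersion is an epimorphism, `q_*` preserves epimorphisms and global sections on `Spec R`
are exact; injectivity because a section with vanishing restriction to `Z` vanishes on an open
neighbourhood of the closed fibre, which is all of `T` since `q` is closed. -/

set_option autoImplicit false
set_option linter.unusedSectionVars false
set_option linter.style.haveILetI false
set_option backward.isDefEq.respectTransparency false
universe u
open CategoryTheory CategoryTheory.Limits AlgebraicGeometry Opposite IsLocalRing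

namespace H9FE.IntSH
open H9FE.BCConn H9FE.SLocSect Groth.Agent.Lib.Helper5

attribute [local instance] EtStalk.ab5' EtStalk.pfc

section Surj

variable (R : Type u) [CommRing R] [HenselianLocalRing R] [IsSepClosed (ResidueField R)]

/-- global sections over a strictly henselian local scheme preserve epimorphisms -/
lemma surjective_top_of_epi {A B : EtCoh.Ab (Spec (CommRingCat.of R))} (a : A ⟶ B) [Epi a] :
    Function.Surjective (a.hom.app (op (EtCoh.top (Spec (CommRingCat.of R))))) := by
  haveI : ((Φ R).sheafFiber (A := AddCommGrpCat.{u + 1})).PreservesEpimorphisms := inferInstance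
  haveI : ((sheafSections (Spec (CommRingCat.of R)).smallEtaleTopology AddCommGrpCat.{u + 1}).obj
      (op (EtCoh.top (Spec (CommRingCat.of R))))).PreservesEpimorphisms :=
    Functor.PreservesEpimorphisms.of_iso (sheafFiberIso R)
  have h : Epi (((sheafSections (Spec (CommRingCat.of R)).smallEtaleTopology
      AddCommGrpCat.{u + 1}).obj (op (EtCoh.top (Spec (CommRingCat.of R))))).map a) :=
    inferInstance
  exact (AddCommGrpCat.epi_iff_surjective _).1 h

end Surj

section Unit

variable {T Z : Scheme.{u}} (ι : Z ⟶ T) [IsClosedImmersion ι]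

/-- the unit of a closed immersion is an epimorphism -/
lemma unit_epi (F : EtCoh.Ab T) : Epi ((EtCoh.pullPushAdj ι).unit.app F) := by
  let U : T.Opens := ⟨(Set.range ι.base)ᶜ, ι.isClosedEmbedding.isClosed_range.isOpen_compl⟩
  obtain ⟨w, hS⟩ := Groth.Agent.S0654.result ι U rfl F
  exact hS.epi_g

end Unit

section Main

variable (R : Type u) [CommRing R] [HenselianLocalRing R] [IsSepClosed (ResidueField R)]
  {T Z : Scheme.{u}} (q : T ⟶ Spec (CommRingCat.of R)) [IsIntegralHom q]
  (ι : Z ⟶ T) [IsClosedImmersion ι]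

include q in
lemma unit_surj (F : EtCoh.Ab T) :
    Function.Surjective
      (((EtCoh.pullPushAdj ι).unit.app F).hom.app (op (EtCoh.top T))) := by
  haveI := unit_epi ι F
  haveI := H9FE.IntDisj.preservesEpimorphisms_of_isIntegralHom q
  haveI : Epi ((EtCoh.push q).map ((EtCoh.pullPushAdj ι).unit.app F)) := inferInstance
  have h1 : Function.Surjective (((EtCoh.pullPushAdj ι).unit.app F).hom.app
      (op ((EtCoh.bc q).obj (EtCoh.top (Spec (CommRingCat.of R)))))) :=
    surjective_top_of_epi R ((EtCoh.push q).map ((EtCoh.pullPushAdj ι).unit.app F))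
  have n := ((EtCoh.pullPushAdj ι).unit.app F).hom.naturality (tb q).op
  intro y
  obtain ⟨y', rfl⟩ := ((ConcreteCategory.isIso_iff_bijective _).1
    (isIso_map_tb q ((EtCoh.push ι).obj ((EtCoh.pull ι).obj F)))).2 y
  obtain ⟨x', rfl⟩ := h1 y'
  exact ⟨F.obj.map (tb q).op x', ConcreteCategory.congr_hom n x'⟩

variable (hfib : ∀ t : T, q.base t = closedPoint R → t ∈ Set.range ι.base)

include hfib in
lemma unit_inj (F : EtCoh.Ab T) :
    Function.Injective
      (((EtCoh.pullPushAdj ι).unit.app F).hom.app (op (EtCoh.top T))) := by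
  refine (injective_iff_map_eq_zero
    (((EtCoh.pullPushAdj ι).unit.app F).hom.app (op (EtCoh.top T))).hom).2 ?_
  intro s hs
  let W : Set T := {t | ∃ (U : T.Etale) (k : U ⟶ EtCoh.top T) (y : U.left),
    k.left y = t ∧ F.obj.map k.op s = 0}
  have hWopen : IsOpen W := by
    rw [isOpen_iff_forall_mem_open]
    rintro t ⟨U, k, y, hy, hk⟩
    haveI : Etale k.left := Groth.Agent.S0728.etale_left k
    refine ⟨Set.range k.left, ?_, k.left.isOpenMap.isOpen_range, ⟨y, hy⟩⟩
    rintro _ ⟨y', rfl⟩
    exact ⟨U, k, y', rfl, hk⟩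
  have hWfib : ∀ t : T, q.base t = closedPoint R → t ∈ W := by
    intro t ht
    obtain ⟨z, rfl⟩ := hfib t ht
    let P := EtStalk.geomPtAt z
    let v₀ : (Scheme.pointSmallEtale (P.ξ ≫ ι)).fiber.obj (EtCoh.top T) :=
      Over.homMk (P.ξ ≫ ι) (Category.comp_id _)
    have key := StalkPullGerm.stalkPullIso_inv_germ ι P.ξ F (EtCoh.top T) v₀
    have key' := ConcreteCategory.congr_hom key s
    have h0 : (EtStalkPull.stalkPullIso ι P.ξ).inv.app F
        ((Scheme.pointSmallEtale (P.ξ ≫ ι)).toPresheafFiber (EtCoh.top T) v₀ F.obj s) = 0 := by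
      refine key'.trans ?_
      rw [ConcreteCategory.comp_apply]
      erw [hs]
      exact map_zero _
    have hinj : Function.Injective ((EtStalkPull.stalkPullIso ι P.ξ).inv.app F) :=
      ((ConcreteCategory.isIso_iff_bijective _).1 inferInstance).1
    have h1 : (Scheme.pointSmallEtale (P.ξ ≫ ι)).toPresheafFiber (EtCoh.top T) v₀ F.obj s =
        (Scheme.pointSmallEtale (P.ξ ≫ ι)).toPresheafFiber (EtCoh.top T) v₀ F.obj 0 := by
      apply hinj
      rw [h0, map_zero, map_zero]
    rw [GrothendieckTopology.Point.toPresheafFiber_eq_iff'] at h1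
    obtain ⟨Y, k, y, hy, hk⟩ := h1
    let yl : Spec (CommRingCat.of P.Ω) ⟶ Y.left := y.left
    refine ⟨Y, k, yl (default : Spec (CommRingCat.of P.Ω)), ?_, hk.trans (map_zero _)⟩
    have e1 : yl ≫ k.left = P.ξ ≫ ι := congrArg (fun m => m.left) hy
    have e2 : k.left (yl (default : Spec (CommRingCat.of P.Ω))) =
        (P.ξ ≫ ι) (default : Spec (CommRingCat.of P.Ω)) := by
      rw [← e1]; rfl
    rw [e2, Scheme.Hom.comp_apply, EtStalk.geomPtAt_default]
  have hWuniv : W = Set.univ := by
    by_contra hne
    have hC : IsClosed (Wᶜ) := hWopen.isClosed_compl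
    have hqC : IsClosed (q.base '' Wᶜ) := q.isClosedMap _ hC
    let V : TopologicalSpace.Opens (PrimeSpectrum R) := ⟨(q.base '' Wᶜ)ᶜ, hqC.isOpen_compl⟩
    by_cases hcp : closedPoint R ∈ V
    · have hV : V = ⊤ := (IsLocalRing.closedPoint_mem_iff V).1 hcp
      apply hne
      ext t
      simp only [Set.mem_univ, iff_true]
      by_contra htW
      have h2 : q.base t ∈ (V : Set (PrimeSpectrum R)) := by rw [hV]; trivial
      exact h2 ⟨t, htW, rfl⟩
    · have h2 : closedPoint R ∈ q.base '' Wᶜ := not_not.1 hcp
      obtain ⟨t, ht, hqt⟩ := h2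
      exact ht (hWfib t hqt)
  apply Groth.Agent.S0728.sect_ext_local F s 0
  intro v
  have hv : v ∈ W := hWuniv ▸ Set.mem_univ v
  obtain ⟨U, k, y, hy, hk⟩ := hv
  exact ⟨U, k, y, hy, hk.trans (map_zero _).symm⟩

include hfib in
/-- the unit of `ι` is bijective on global sections -/
theorem secBij_closed : SecBij ι := by
  intro F
  exact (ConcreteCategory.isIso_iff_bijective _).2 ⟨unit_inj R q ι hfib F, unit_surj R q ι F⟩

end Main

end H9FE.IntSH
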