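import Mathlib

/-! helper9: over an algebraically closed field `k` the tensor product of two field extensions has
no zero divisors (proof by the Nullstellensatz: a nonzero element of a finitely generated reduced
`k`-algebra does not vanish at some `k`-point). -/

set_option autoImplicit false
set_option linter.unusedSectionVars false
set_option linter.style.haveILetI false

open TensorProduct

namespace H9FE.TensDom

variable {k : Type*} [Field k] [IsAlgClosed k]

/-- Nullstellensatz: a nonzero element of a finitely generated reduced algebra over an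
algebraically closed field is nonzero at some `k`-point -/
theorem exists_algHom_ne_zero {A : Type*} [CommRing A] [Algebra k A] [Algebra.FiniteType k A]
    [IsReduced A] (a : A) (ha : a ≠ 0) : ∃ φ : A →ₐ[k] k, φ a ≠ 0 := by
  haveI : IsJacobsonRing A := isJacobsonRing_of_finiteType (A := k) (B := A)
  have hrad : (⊥ : Ideal A).IsRadical := by
    intro x hx
    obtain ⟨n, hn⟩ := hx
    have : IsNilpotent x := ⟨n, by simpa using hn⟩
    simpa using this.eq_zero
  have hj : (⊥ : Ideal A).jacobson = ⊥ := IsJacobsonRing.out inferInstance hrad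
  have hna : a ∉ (⊥ : Ideal A).jacobson := by rw [hj]; simpa using ha
  rw [Ideal.jacobson, Ideal.mem_sInf] at hna
  push_neg at hna
  obtain ⟨m, ⟨-, hm⟩, ham⟩ := hna
  letI := Ideal.Quotient.field m
  haveI : Algebra.FiniteType k (A ⧸ m) :=
    Algebra.FiniteType.of_surjective (Ideal.Quotient.mkₐ k m) (Ideal.Quotient.mkₐ_surjective k m)
  haveI : Module.Finite k (A ⧸ m) := finite_of_finite_type_of_isJacobsonRing k (A ⧸ m)
  have hb : Function.Bijective (algebraMap k (A ⧸ m)) :=
    IsAlgClosed.algebraMap_bijective_of_isIntegral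
  let e : k ≃ₐ[k] (A ⧸ m) := AlgEquiv.ofBijective (Algebra.ofId k (A ⧸ m)) hb
  refine ⟨(e.symm : (A ⧸ m) →ₐ[k] k).comp (Ideal.Quotient.mkₐ k m), ?_⟩
  intro h0
  apply ham
  have h1 : e.symm (Ideal.Quotient.mkₐ k m a) = 0 := h0
  have h2 : (Ideal.Quotient.mkₐ k m) a = 0 := by
    have := congrArg e h1
    simpa using this
  exact Ideal.Quotient.eq_zero_iff_mem.1 h2


/-- over an algebraically closed field the tensor product of two field extensions has no zero
divisors -/
theorem eq_zero_or_eq_zero_of_mul_eq_zero {L Ω : Type*} [Field L] [Algebra k L] [Field Ω]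
    [Algebra k Ω] (x y : L ⊗[k] Ω) (hxy : x * y = 0) : x = 0 ∨ y = 0 := by
  classical
  let b := Module.Basis.ofVectorSpace k Ω
  obtain ⟨a, rfl⟩ := TensorProduct.eq_repr_basis_right b x
  obtain ⟨c, rfl⟩ := TensorProduct.eq_repr_basis_right b y
  by_contra hne
  rw [not_or] at hne
  obtain ⟨hx, hy⟩ := hne
  have ha : a ≠ 0 := by rintro rfl; exact hx (by simp)
  have hc : c ≠ 0 := by rintro rfl; exact hy (by simp)
  obtain ⟨i₀, hi₀⟩ : ∃ i, a i ≠ 0 := by
    by_contra h
    exact ha (Finsupp.ext fun i => by simpa using not_exists.1 h i)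
  obtain ⟨j₀, hj₀⟩ : ∃ j, c j ≠ 0 := by
    by_contra h
    exact hc (Finsupp.ext fun i => by simpa using not_exists.1 h i)
  let gens : Finset L := a.support.image a ∪ c.support.image c
  let A₀ : Subalgebra k L := Algebra.adjoin k (gens : Set L)
  have hfg : A₀.FG := Subalgebra.fg_adjoin_finset gens
  haveI : Algebra.FiniteType k A₀ := (Subalgebra.fg_iff_finiteType A₀).1 hfg
  have haA : ∀ i, a i ∈ A₀ := fun i => by
    by_cases h : a i = 0
    · rw [h]; exact A₀.zero_mem
    · apply Algebra.subset_adjoin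
      simp only [gens, Finset.coe_union, Finset.coe_image, Set.mem_union, Set.mem_image,
        Finset.mem_coe, Finsupp.mem_support_iff]
      exact Or.inl ⟨i, h, rfl⟩
  have hcA : ∀ j, c j ∈ A₀ := fun j => by
    by_cases h : c j = 0
    · rw [h]; exact A₀.zero_mem
    · apply Algebra.subset_adjoin
      simp only [gens, Finset.coe_union, Finset.coe_image, Set.mem_union, Set.mem_image,
        Finset.mem_coe, Finsupp.mem_support_iff]
      exact Or.inr ⟨j, h, rfl⟩
  let x₀ : A₀ ⊗[k] Ω := ∑ i ∈ a.support, (⟨a i, haA i⟩ : A₀) ⊗ₜ[k] b i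
  let y₀ : A₀ ⊗[k] Ω := ∑ j ∈ c.support, (⟨c j, hcA j⟩ : A₀) ⊗ₜ[k] b j
  let ι₀ : A₀ ⊗[k] Ω →ₐ[k] L ⊗[k] Ω := Algebra.TensorProduct.map A₀.val (AlgHom.id k Ω)
  have hιx : ι₀ x₀ = a.sum fun i m => m ⊗ₜ[k] b i := by
    simp only [x₀, ι₀, map_sum, Algebra.TensorProduct.map_tmul, Subalgebra.coe_val, AlgHom.coe_id,
      id_eq, Finsupp.sum]
  have hιy : ι₀ y₀ = c.sum fun i m => m ⊗ₜ[k] b i := by
    simp only [y₀, ι₀, map_sum, Algebra.TensorProduct.map_tmul, Subalgebra.coe_val, AlgHom.coe_id,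
      id_eq, Finsupp.sum]
  have hinj : Function.Injective ι₀ := by
    have := Module.Flat.rTensor_preserves_injective_linearMap (M := Ω) A₀.val.toLinearMap
      Subtype.val_injective
    exact this
  have h0 : x₀ * y₀ = 0 := hinj (by rw [map_mul, hιx, hιy, hxy, map_zero])
  -- every `k`-point kills `a i₀ * c j₀`
  have key : ∀ φ : A₀ →ₐ[k] k, φ (⟨a i₀, haA i₀⟩ * ⟨c j₀, hcA j₀⟩) = 0 := by
    intro φ
    let Φ : A₀ ⊗[k] Ω →ₐ[k] Ω :=
      ((Algebra.TensorProduct.lid k Ω) : k ⊗[k] Ω →ₐ[k] Ω).comp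
        (Algebra.TensorProduct.map φ (AlgHom.id k Ω))
    have hΦt : ∀ (m : A₀) (w : Ω), Φ (m ⊗ₜ[k] w) = φ m • w := fun m w => by
      show (Algebra.TensorProduct.lid k Ω)
        ((Algebra.TensorProduct.map φ (AlgHom.id k Ω)) (m ⊗ₜ[k] w)) = _
      rw [Algebra.TensorProduct.map_tmul]
      exact Algebra.TensorProduct.lid_tmul _ _
    have hΦx : Φ x₀ = ∑ i ∈ a.support, φ ⟨a i, haA i⟩ • b i := by
      simp only [x₀, map_sum, hΦt]
    have hΦy : Φ y₀ = ∑ j ∈ c.support, φ ⟨c j, hcA j⟩ • b j := by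
      simp only [y₀, map_sum, hΦt]
    have hmul : Φ x₀ * Φ y₀ = 0 := by rw [← map_mul, h0, map_zero]
    have hli := linearIndependent_iff'.1 b.linearIndependent
    rw [map_mul]
    rcases mul_eq_zero.1 hmul with h | h
    · rw [hΦx] at h
      have := hli a.support (fun i => φ ⟨a i, haA i⟩) h i₀ (Finsupp.mem_support_iff.2 hi₀)
      rw [this, zero_mul]
    · rw [hΦy] at h
      have := hli c.support (fun j => φ ⟨c j, hcA j⟩) h j₀ (Finsupp.mem_support_iff.2 hj₀)
      rw [this, mul_zero]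
  have hz : (⟨a i₀, haA i₀⟩ * ⟨c j₀, hcA j₀⟩ : A₀) = 0 := by
    by_contra hnz
    obtain ⟨φ, hφ⟩ := exists_algHom_ne_zero (k := k) _ hnz
    exact hφ (key φ)
  have hz' : a i₀ * c j₀ = 0 := congrArg Subtype.val hz
  rcases mul_eq_zero.1 hz' with h | h
  · exact hi₀ h
  · exact hj₀ h

end H9FE.TensDom
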