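import Mathlib
import Groth.Agent.Lib.Helper9.FE.TensDom

/-! helper9: for a separably closed field `k`, a field extension `K / k` and an algebraically
closed extension `Ω / k`, the spectrum of `K ⊗[k] Ω` is connected. -/

set_option autoImplicit false
set_option linter.unusedSectionVars false
set_option linter.style.haveILetI false

open TensorProduct

namespace H9FE.TensConn

section Ker

variable {k kb L Ω : Type*} [Field k] [Field kb] [Algebra k kb] [IsPurelyInseparable k kb]
  [Field L] [Field Ω] [Algebra k L] [Algebra k Ω] [Algebra kb L] [Algebra kb Ω]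
  [IsScalarTower k kb L] [IsScalarTower k kb Ω]

/-- the generators of the kernel of `L ⊗[k] Ω → L ⊗[kb] Ω` are nilpotent -/
theorem gen_nilpotent (a : kb) (l : L) (w : Ω) :
    IsNilpotent ((a • l) ⊗ₜ[k] w - l ⊗ₜ[k] (a • w)) := by
  let p := ringExpChar k
  haveI : ExpChar k p := ringExpChar.expChar k
  have hinj : Function.Injective (algebraMap k (L ⊗[k] Ω)) := by
    have h1 : Function.Injective (Algebra.TensorProduct.includeLeft : L →ₐ[k] L ⊗[k] Ω) :=
      Algebra.TensorProduct.includeLeft_injective (S := k) (algebraMap k Ω).injective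
    have h2 : (algebraMap k (L ⊗[k] Ω)) =
        (Algebra.TensorProduct.includeLeft : L →ₐ[k] L ⊗[k] Ω).toRingHom.comp (algebraMap k L) := by
      ext x
      simp [Algebra.TensorProduct.algebraMap_apply]
    rw [h2]
    exact h1.comp (algebraMap k L).injective
  haveI : ExpChar (L ⊗[k] Ω) p := expChar_of_injective_ringHom hinj p
  obtain ⟨n, c, hc⟩ := IsPurelyInseparable.pow_mem k p a
  refine ⟨p ^ n, ?_⟩
  rw [sub_pow_expChar_pow, Algebra.TensorProduct.tmul_pow, Algebra.TensorProduct.tmul_pow,
    smul_pow, smul_pow, ← hc, algebraMap_smul, algebraMap_smul, TensorProduct.smul_tmul, sub_self]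

theorem ker_nilpotent (x : L ⊗[k] Ω)
    (hx : TensorProduct.mapOfCompatibleSMul kb k kb L Ω x = 0) : IsNilpotent x := by
  have hx' : x ∈ LinearMap.ker (TensorProduct.mapOfCompatibleSMul kb k kb L Ω) := hx
  rw [TensorProduct.AlgebraTensorModule.ker_mapOfCompatibleSMul] at hx'
  rw [← mem_nilradical]
  refine Submodule.span_induction ?_ ?_ ?_ ?_ hx'
  · rintro _ ⟨a, l, w, rfl⟩
    exact (mem_nilradical).2 (gen_nilpotent a l w)
  · exact (nilradical (L ⊗[k] Ω)).zero_mem
  · intro x y _ _ hx hy
    exact (nilradical (L ⊗[k] Ω)).add_mem hx hy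
  · intro a x _ hx
    rw [Algebra.smul_def]
    exact (nilradical (L ⊗[k] Ω)).mul_mem_left _ hx

end Ker


theorem idem_eq_zero_of_nilpotent {R : Type*} [CommRing R] (e : R) (he : IsIdempotentElem e)
    (hn : IsNilpotent e) : e = 0 := by
  obtain ⟨n, hn⟩ := hn
  cases n with
  | zero =>
    rw [pow_zero] at hn
    have : e = e * 1 := (mul_one e).symm
    rw [this, hn, mul_zero]
  | succ m => rw [← he.pow_succ_eq m]; exact hn

section AlgClosed

variable {k L Ω : Type*} [Field k] [IsSepClosed k] [Field L] [Field Ω] [Algebra k L] [Algebra k Ω]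
  [IsAlgClosed L] [IsAlgClosed Ω]

/-- idempotents of the tensor product of two algebraically closed extensions of a separably closed
field are trivial -/
theorem idem_trivial_algClosed (e : L ⊗[k] Ω) (he : IsIdempotentElem e) : e = 0 ∨ e = 1 := by
  let kb := AlgebraicClosure k
  let ιL : kb →ₐ[k] L := IsAlgClosed.lift
  let ιΩ : kb →ₐ[k] Ω := IsAlgClosed.lift
  letI : Algebra kb L := ιL.toRingHom.toAlgebra
  letI : Algebra kb Ω := ιΩ.toRingHom.toAlgebra
  haveI : IsScalarTower k kb L := IsScalarTower.of_algebraMap_eq (fun x => (ιL.commutes x).symm)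
  haveI : IsScalarTower k kb Ω := IsScalarTower.of_algebraMap_eq (fun x => (ιΩ.commutes x).symm)
  let ψ : L ⊗[k] Ω →ₐ[kb] L ⊗[kb] Ω := Algebra.TensorProduct.mapOfCompatibleSMul kb k kb L Ω
  have hker : ∀ x : L ⊗[k] Ω, ψ x = 0 → IsNilpotent x := fun x hx => ker_nilpotent x hx
  have hψe : IsIdempotentElem (ψ e) := he.map ψ
  have h0 : ψ e * (1 - ψ e) = 0 := by
    rw [mul_sub, mul_one, hψe.eq, sub_self]
  rcases H9FE.TensDom.eq_zero_or_eq_zero_of_mul_eq_zero (k := kb) _ _ h0 with h | h
  · left
    exact idem_eq_zero_of_nilpotent e he (hker e h)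
  · right
    have h1 : ψ (1 - e) = 0 := by rw [map_sub, map_one]; exact h
    have := idem_eq_zero_of_nilpotent (1 - e) he.one_sub (hker _ h1)
    exact (sub_eq_zero.1 this).symm

end AlgClosed

section General

variable {k K Ω : Type*} [Field k] [IsSepClosed k] [Field K] [Field Ω] [Algebra k K] [Algebra k Ω]
  [IsAlgClosed Ω]

theorem idem_trivial (e : K ⊗[k] Ω) (he : IsIdempotentElem e) : e = 0 ∨ e = 1 := by
  let L := AlgebraicClosure K
  let j : K ⊗[k] Ω →ₐ[k] L ⊗[k] Ω :=
    Algebra.TensorProduct.map (IsScalarTower.toAlgHom k K L) (AlgHom.id k Ω)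
  have hinj : Function.Injective j := by
    have := Module.Flat.rTensor_preserves_injective_linearMap (M := Ω)
      (IsScalarTower.toAlgHom k K L).toLinearMap (algebraMap K L).injective
    exact this
  rcases idem_trivial_algClosed (j e) (he.map j) with h | h
  · left; exact hinj (h.trans (map_zero j).symm)
  · right; exact hinj (h.trans (map_one j).symm)

theorem nontrivial_tensor : Nontrivial (K ⊗[k] Ω) := by
  have h1 : Function.Injective (Algebra.TensorProduct.includeLeft : K →ₐ[k] K ⊗[k] Ω) :=
    Algebra.TensorProduct.includeLeft_injective (S := k) (algebraMap k Ω).injective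
  exact h1.nontrivial

theorem connectedSpace : ConnectedSpace (PrimeSpectrum (K ⊗[k] Ω)) := by
  haveI := nontrivial_tensor (k := k) (K := K) (Ω := Ω)
  rw [connectedSpace_iff_clopen]
  refine ⟨inferInstance, ?_⟩
  intro s hs
  obtain ⟨e, he, rfl⟩ := PrimeSpectrum.isClopen_iff.1 hs
  rcases idem_trivial e he with h | h
  · left; rw [h]; simp
  · right; rw [h]; simp

end General

end H9FE.TensConn
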