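import Mathlib
import Groth.Agent.Lib.Helper9.FE.TensConn

/-! helper9: for a separably closed field `k`, a local `k`-algebra `R` and an algebraically closed
extension `Ω / k`, the spectrum of `R ⊗[k] Ω` is connected (`connectedSpace_local`): the map
`Spec (R ⊗[k] Ω) → Spec R` is open and surjective with connected fibres (`TensConn`), and `Spec R`
is connected (`connectedSpace_of_isLocalRing`). -/

set_option autoImplicit false
set_option linter.unusedSectionVars false
set_option linter.style.haveILetI false

open TensorProduct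

namespace H9FE.TensConnLoc

theorem connectedSpace_of_isLocalRing (R : Type*) [CommRing R] [IsLocalRing R] :
    ConnectedSpace (PrimeSpectrum R) := by
  rw [connectedSpace_iff_clopen]
  refine ⟨inferInstance, ?_⟩
  intro s hs
  obtain ⟨e, he, rfl⟩ := PrimeSpectrum.isClopen_iff.1 hs
  have h0 : e * (1 - e) = 0 := by
    rw [mul_sub, mul_one, he.eq, sub_self]
  rcases IsLocalRing.isUnit_or_isUnit_one_sub_self e with h | h
  · right
    have : 1 - e = 0 := h.mul_right_eq_zero.1 h0
    have he1 : e = 1 := (sub_eq_zero.1 this).symm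
    rw [he1]; simp
  · left
    have : e = 0 := h.mul_left_eq_zero.1 h0
    rw [this]; simp

variable (k : Type*) [Field k] [IsSepClosed k] (R : Type*) [CommRing R] [IsLocalRing R]
  [Algebra k R] (Ω : Type*) [Field Ω] [IsAlgClosed Ω] [Algebra k Ω]

theorem fibre_connected (p : PrimeSpectrum R) :
    ConnectedSpace (PrimeSpectrum (p.asIdeal.Fiber (R ⊗[k] Ω))) := by
  haveI : ConnectedSpace (PrimeSpectrum (p.asIdeal.ResidueField ⊗[k] Ω)) :=
    H9FE.TensConn.connectedSpace
  let e : p.asIdeal.ResidueField ⊗[R] (R ⊗[k] Ω) ≃ₐ[p.asIdeal.ResidueField]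
      p.asIdeal.ResidueField ⊗[k] Ω :=
    Algebra.TensorProduct.cancelBaseChange k R p.asIdeal.ResidueField p.asIdeal.ResidueField Ω
  let he := PrimeSpectrum.homeomorphOfRingEquiv e.symm.toRingEquiv
  exact Function.Surjective.connectedSpace he.surjective he.continuous

theorem connectedSpace_local : ConnectedSpace (PrimeSpectrum (R ⊗[k] Ω)) := by
  haveI := connectedSpace_of_isLocalRing R
  have hopen : IsOpenMap (PrimeSpectrum.comap (algebraMap R (R ⊗[k] Ω))) :=
    PrimeSpectrum.isOpenMap_comap_algebraMap_tensorProduct_of_field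
  haveI : Module.FaithfullyFlat R (R ⊗[k] Ω) := inferInstance
  have hsurj : Function.Surjective (PrimeSpectrum.comap (algebraMap R (R ⊗[k] Ω))) :=
    PrimeSpectrum.comap_surjective_of_faithfullyFlat
  have hq : Topology.IsQuotientMap (PrimeSpectrum.comap (algebraMap R (R ⊗[k] Ω))) :=
    hopen.isQuotientMap (PrimeSpectrum.continuous_comap _) hsurj
  have hfib : ∀ p : PrimeSpectrum R,
      IsConnected (PrimeSpectrum.comap (algebraMap R (R ⊗[k] Ω)) ⁻¹' {p}) := by
    intro p
    rw [isConnected_iff_connectedSpace]
    haveI := fibre_connected k R Ω p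
    let h := (PrimeSpectrum.preimageHomeomorphFiber R (R ⊗[k] Ω) p).symm
    exact Function.Surjective.connectedSpace h.surjective h.continuous
  have := hq.isCoinducing.isConnected_preimage_of_isClosed hfib isClosed_univ isConnected_univ
  rw [Set.preimage_univ] at this
  exact connectedSpace_iff_univ.2 this

end H9FE.TensConnLoc
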