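import Mathlib
import Groth.Agent.Lib.Helper9.FE.TensConnLoc

/-! helper9: for a separably closed field `k`, a ring `RS` isomorphic to `k`, a local `RS`-algebra
`RX` and a geometric point `η` of `Spec RS` with algebraically closed field, the fibre product
`Spec RX ×_{Spec RS} Spec Ω` is connected (`conn_of_spec`). -/

set_option autoImplicit false
set_option linter.unusedSectionVars false
set_option linter.style.haveILetI false
set_option backward.isDefEq.respectTransparency false
universe u
open CategoryTheory CategoryTheory.Limits AlgebraicGeometry TensorProduct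

namespace H9FE.SepFieldConn

theorem connected_of_iso {A B : Scheme.{u}} (e : A ≅ B) [ConnectedSpace A] : ConnectedSpace B := by
  have hs : Function.Surjective e.hom := fun y => ⟨e.inv y, by
    rw [← Scheme.Hom.comp_apply, e.inv_hom_id]; rfl⟩
  exact Function.Surjective.connectedSpace hs e.hom.continuous

theorem conn_of_spec {k : Type u} [Field k] [IsSepClosed k] (RS RX : Type u) [CommRing RS]
    [CommRing RX] [IsLocalRing RX] (θ : k →+* RS) (hθ : Function.Bijective θ) (ψ : RS →+* RX)
    (Ω : Type u) [Field Ω] [IsAlgClosed Ω]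
    (η : Spec (CommRingCat.of Ω) ⟶ Spec (CommRingCat.of RS)) :
    ConnectedSpace ↥(pullback (Spec.map (CommRingCat.ofHom ψ)) η) := by
  haveI : IsIso (CommRingCat.ofHom θ) := (ConcreteCategory.isIso_iff_bijective _).2 hθ
  let ι : Spec (CommRingCat.of RS) ⟶ Spec (CommRingCat.of k) := Spec.map (CommRingCat.ofHom θ)
  haveI : IsIso ι := inferInstance
  let ηr : CommRingCat.of RS ⟶ CommRingCat.of Ω := Spec.preimage η
  have hηr : Spec.map ηr = η := Spec.map_preimage η
  letI : Algebra k RX := (ψ.comp θ).toAlgebra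
  letI : Algebra k Ω := (ηr.hom.comp θ).toAlgebra
  have e1 : Spec.map (CommRingCat.ofHom ψ) ≫ ι = Spec.map (CommRingCat.ofHom (algebraMap k RX)) :=
    (Spec.map_comp (CommRingCat.ofHom θ) (CommRingCat.ofHom ψ)).symm
  have e2 : η ≫ ι = Spec.map (CommRingCat.ofHom (algebraMap k Ω)) := by
    rw [← hηr]
    exact (Spec.map_comp (CommRingCat.ofHom θ) ηr).symm
  let iso1 : pullback (Spec.map (CommRingCat.ofHom ψ)) η ≅
      pullback (Spec.map (CommRingCat.ofHom ψ) ≫ ι) (η ≫ ι) :=
    (IsPullback.of_isLimit
      (pullbackIsPullbackOfCompMono (Spec.map (CommRingCat.ofHom ψ)) η ι)).isoPullback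
  let iso2 := pullback.congrHom e1 e2
  let iso3 := pullbackSpecIso k RX Ω
  haveI : ConnectedSpace (PrimeSpectrum (RX ⊗[k] Ω)) :=
    H9FE.TensConnLoc.connectedSpace_local k RX Ω
  haveI : ConnectedSpace ↥(Spec (CommRingCat.of (RX ⊗[k] Ω))) :=
    (inferInstance : ConnectedSpace (PrimeSpectrum (RX ⊗[k] Ω)))
  exact connected_of_iso (iso1 ≪≫ iso2 ≪≫ iso3).symm

end H9FE.SepFieldConn
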