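import Mathlib
import Groth.Agent.Lib.Helper9.FE.IntSH1
import Groth.Agent.Lib.Helper9.FE.LimPull1
import Groth.Agent.Lib.Helper9.FE.SepFieldConn

/-! helper9: `SecBij` (bijectivity of the unit on global sections) is stable under composition and
satisfies a cancellation property; consequence: a base change `t : P' ⟶ P` of
`Spec R' ⟶ Spec R` (local homomorphism of strictly henselian local rings) along an integral
morphism `P ⟶ Spec R` satisfies `SecBij` (`secBij_of_integral`). -/

set_option autoImplicit false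
set_option linter.unusedSectionVars false
set_option linter.style.haveILetI false
set_option backward.isDefEq.respectTransparency false
universe u
open CategoryTheory CategoryTheory.Limits AlgebraicGeometry Opposite IsLocalRing

namespace H9FE.IntSH
open H9FE.BCConn H9FE.SLocSect H9FE.LimTower H9FE.LimPull

section Comp

variable {X Y Z : Scheme.{u}} (f : X ⟶ Y) (g : Y ⟶ Z) (h : X ⟶ Z) (w : f ≫ g = h)

/-- the unit of a composite on global sections -/
lemma unit_top (F : EtCoh.Ab Z) :
    ((EtCoh.pullPushAdj g).unit.app F).hom.app (op (EtCoh.top Z)) ≫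
      ((EtCoh.pullPushAdj f).unit.app ((EtCoh.pull g).obj F)).hom.app
        (op ((EtCoh.bc g).obj (EtCoh.top Z))) ≫
      (kap f g h w F).hom.hom.app (op ((EtCoh.bc f).obj ((EtCoh.bc g).obj (EtCoh.top Z)))) ≫
      ((pc f g h w).hom.app ((EtCoh.pull h).obj F)).hom.app (op (EtCoh.top Z)) =
    ((EtCoh.pullPushAdj h).unit.app F).hom.app (op (EtCoh.top Z)) := by
  have E := unit_psi_hom f g h w F
  rw [psi_def] at E
  exact congrArg (fun τ => τ.hom.app (op (EtCoh.top Z))) E

include w in
theorem secBij_comp (hf : SecBij f) (hg : SecBij g) : SecBij h := by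
  intro F
  have E := unit_top f g h w F
  haveI := hg F
  haveI : IsIso (((EtCoh.pullPushAdj f).unit.app ((EtCoh.pull g).obj F)).hom.app
      (op ((EtCoh.bc g).obj (EtCoh.top Z)))) := by
    rw [← isIso_top_iff g]
    exact hf _
  haveI := isIso_app (kap f g h w F).hom
    (op ((EtCoh.bc f).obj ((EtCoh.bc g).obj (EtCoh.top Z))))
  haveI := isIso_app ((pc f g h w).hom.app ((EtCoh.pull h).obj F)) (op (EtCoh.top Z))
  rw [← E]
  infer_instance

include w in
theorem secBij_cancel (hf : SecBij f) (hh : SecBij h) : SecBij g := by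
  intro F
  have E := unit_top f g h w F
  haveI := hh F
  haveI : IsIso (((EtCoh.pullPushAdj f).unit.app ((EtCoh.pull g).obj F)).hom.app
      (op ((EtCoh.bc g).obj (EtCoh.top Z)))) := by
    rw [← isIso_top_iff g]
    exact hf _
  haveI := isIso_app (kap f g h w F).hom
    (op ((EtCoh.bc f).obj ((EtCoh.bc g).obj (EtCoh.top Z))))
  haveI := isIso_app ((pc f g h w).hom.app ((EtCoh.pull h).obj F)) (op (EtCoh.top Z))
  haveI : IsIso (((EtCoh.pullPushAdj g).unit.app F).hom.app (op (EtCoh.top Z)) ≫
      ((EtCoh.pullPushAdj f).unit.app ((EtCoh.pull g).obj F)).hom.app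
        (op ((EtCoh.bc g).obj (EtCoh.top Z))) ≫
      (kap f g h w F).hom.hom.app (op ((EtCoh.bc f).obj ((EtCoh.bc g).obj (EtCoh.top Z)))) ≫
      ((pc f g h w).hom.app ((EtCoh.pull h).obj F)).hom.app (op (EtCoh.top Z))) := by
    rw [E]
    infer_instance
  exact IsIso.of_isIso_comp_right _
    (((EtCoh.pullPushAdj f).unit.app ((EtCoh.pull g).obj F)).hom.app
        (op ((EtCoh.bc g).obj (EtCoh.top Z))) ≫
      (kap f g h w F).hom.hom.app (op ((EtCoh.bc f).obj ((EtCoh.bc g).obj (EtCoh.top Z)))) ≫
      ((pc f g h w).hom.app ((EtCoh.pull h).obj F)).hom.app (op (EtCoh.top Z)))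

end Comp

section G

variable (R R' : Type u) [CommRing R] [HenselianLocalRing R] [IsSepClosed (ResidueField R)]
  [CommRing R'] [HenselianLocalRing R'] [IsSepClosed (ResidueField R')]
  (ψ : R →+* R') [IsLocalHom ψ]
  {P P' : Scheme.{u}} (q : P ⟶ Spec (CommRingCat.of R)) [IsIntegralHom q]
  (q' : P' ⟶ Spec (CommRingCat.of R')) [IsIntegralHom q']
  (t : P' ⟶ P) (sq : IsPullback t q' q (Spec.map (CommRingCat.ofHom ψ)))

/-- the closed fibre of a morphism to a local scheme is contained in the image of its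
scheme-theoretic closed fibre -/
lemma fib_range (x : P) (hx : q.base x = closedPoint R) :
    x ∈ Set.range (pullback.fst q (cpt R)).base := by
  obtain ⟨z, hz1, -⟩ := Scheme.Pullback.exists_preimage_pullback (f := q) (g := cpt R) x
    (default : Spec (CommRingCat.of (ResidueField R))) (hx.trans (cpt_apply R default).symm)
  exact ⟨z, hz1⟩

instance isClosedImmersion_cpt : IsClosedImmersion (cpt R) :=
  IsClosedImmersion.spec_of_surjective _ (residue_surjective (R := R))

include sq in
theorem secBij_of_integral : SecBij t := by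
  set p := Spec.map (CommRingCat.ofHom ψ) with hp
  let pκ : Spec (CommRingCat.of (ResidueField R')) ⟶ Spec (CommRingCat.of (ResidueField R)) :=
    Spec.map (CommRingCat.ofHom (ResidueField.map ψ))
  have hcp : cpt R' ≫ p = pκ ≫ cpt R := by
    change Spec.map (CommRingCat.ofHom (residue R')) ≫ Spec.map (CommRingCat.ofHom ψ) =
      Spec.map (CommRingCat.ofHom (ResidueField.map ψ)) ≫ Spec.map (CommRingCat.ofHom (residue R))
    rw [← Spec.map_comp, ← Spec.map_comp]
    congr 1
  let ι := pullback.fst q (cpt R)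
  let zs := pullback.snd q (cpt R)
  let ι' := pullback.fst q' (cpt R')
  let zs' := pullback.snd q' (cpt R')
  have w0 : (ι' ≫ t) ≫ q = (zs' ≫ pκ) ≫ cpt R :=
    calc (ι' ≫ t) ≫ q = ι' ≫ (t ≫ q) := Category.assoc _ _ _
      _ = ι' ≫ (q' ≫ p) := by rw [sq.w]
      _ = (ι' ≫ q') ≫ p := (Category.assoc _ _ _).symm
      _ = (zs' ≫ cpt R') ≫ p := by rw [pullback.condition]
      _ = zs' ≫ (cpt R' ≫ p) := Category.assoc _ _ _
      _ = zs' ≫ (pκ ≫ cpt R) := by rw [hcp]
      _ = (zs' ≫ pκ) ≫ cpt R := (Category.assoc _ _ _).symm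
  let t₀ : pullback q' (cpt R') ⟶ pullback q (cpt R) := pullback.lift (ι' ≫ t) (zs' ≫ pκ) w0
  have wt1 : t₀ ≫ ι = ι' ≫ t := pullback.lift_fst _ _ _
  have wt2 : t₀ ≫ zs = zs' ≫ pκ := pullback.lift_snd _ _ _
  have big : IsPullback (ι' ≫ t) zs' q (cpt R' ≫ p) :=
    IsPullback.paste_horiz (IsPullback.of_hasPullback q' (cpt R')) sq
  have big' : IsPullback (t₀ ≫ ι) zs' q (pκ ≫ cpt R) := by
    rw [wt1, ← hcp]; exact big
  have sq0 : IsPullback t₀ zs' zs pκ :=
    IsPullback.of_right big' wt2 (IsPullback.of_hasPullback q (cpt R))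
  -- the field extension
  have hflat : (ResidueField.map ψ).Flat := by
    letI := (ResidueField.map ψ).toAlgebra
    haveI : Module.Free (ResidueField R) (ResidueField R') := Module.Free.of_divisionRing _ _
    exact RingHom.flat_algebraMap_iff.2 Module.Flat.of_free
  haveI : Flat pκ := Flat.SpecMap_iff.2 hflat
  haveI : QuasiCompact pκ := inferInstance
  have h0 : SecBij t₀ := secBij_of_isPullback pκ t₀ zs' zs sq0.flip
    (fun Ω _ _ η => H9FE.SepFieldConn.conn_of_spec (k := ResidueField R) (ResidueField R)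
      (ResidueField R') (RingHom.id _) Function.bijective_id (ResidueField.map ψ) Ω η)
  haveI : IsClosedImmersion ι := inferInstance
  haveI : IsClosedImmersion ι' := inferInstance
  have h1 : SecBij ι := secBij_closed R q ι (fib_range R q)
  have h1' : SecBij ι' := secBij_closed R' q' ι' (fib_range R' q')
  have hcomp : SecBij (ι' ≫ t) := secBij_comp t₀ ι (ι' ≫ t) wt1 h0 h1
  exact secBij_cancel ι' t (ι' ≫ t) rfl h1' hcomp

end G

end H9FE.IntSH
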