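import Mathlib
import Groth.Prelude.Def_Hensel
import Groth.Agent.Lib.Helper7.SHens.Abstract
import Groth.Agent.Lib.Helper9.FE.SHTrans

/-! helper9: a local homomorphism of local rings extends to a local homomorphism between (any)
strict henselizations (`exists_map`). -/

set_option autoImplicit false
set_option linter.unusedSectionVars false
set_option linter.style.haveILetI false
universe u
open IsLocalRing

namespace H9FE.SHMap
open Groth.Agent.Helper7.SHens

theorem exists_map {AS AX : Type u} [CommRing AS] [IsLocalRing AS] [CommRing AX]
    [IsLocalRing AX] (φ : AS →+* AX) [IsLocalHom φ]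
    (RS : Type u) [CommRing RS] [IsLocalRing RS] [Algebra AS RS] [IsLocalHom (algebraMap AS RS)]
    [hS : Hensel.IsStrictHenselization AS RS]
    (RX : Type u) [CommRing RX] [IsLocalRing RX] [Algebra AX RX] [IsLocalHom (algebraMap AX RX)]
    [hX : Hensel.IsStrictHenselization AX RX] :
    ∃ ψ : RS →+* RX, IsLocalHom ψ ∧
      ψ.comp (algebraMap AS RS) = (algebraMap AX RX).comp φ := by
  haveI : HenselianLocalRing RX := hX.henselian
  haveI := hS.isSepClosure
  haveI := hX.isSepClosure
  haveI : IsSepClosed (ResidueField RX) := IsSepClosure.sep_closed (ResidueField AX)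
  haveI : Algebra.IsSeparable (ResidueField AS) (ResidueField RS) := IsSepClosure.separable
  let f : AS →+* RX := (algebraMap AX RX).comp φ
  haveI : IsLocalHom f := RingHom.isLocalHom_comp _ _
  letI : Algebra (ResidueField AS) (ResidueField RX) := (ResidueField.map f).toAlgebra
  let τ : ResidueField RS →ₐ[ResidueField AS] ResidueField RX := IsSepClosed.lift
  have hτ : (τ : ResidueField RS →+* ResidueField RX).comp
      (ResidueField.map (algebraMap AS RS)) = ResidueField.map f := by
    rw [residueField_map_algebraMap]
    ext x
    exact τ.commutes x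
  obtain ⟨g, ⟨hg1, hg2⟩, -⟩ := hS.universal RX f τ hτ
  exact ⟨g, H9FE.SHTrans.isLocalHom_of_residue g τ hg2, hg1⟩

end H9FE.SHMap
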