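import Mathlib
import Groth.Agent.S0630
import Groth.Agent.S0655
import Groth.Agent.Lib.Helper9.FE.IntSH1
import Groth.Agent.Lib.Helper9.FE.GabB

/-! helper9: the direct image along an integral morphism is conservative on abelian étale
sheaves.  Diagonal trick: for `f : X ⟶ Y` integral with `p₁ p₂ : X ×_Y X ⟶ X` and the diagonal
`Δ` (a closed immersion), `f⁻¹ f_* G ≅ p₂_* p₁⁻¹ G` (degree zero base change for integral
morphisms) and `p₁⁻¹ G ⟶ Δ_* Δ⁻¹ p₁⁻¹ G` is an epimorphism, hence so is its image under the exact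
`p₂_*`, whose target is `≅ G`.  So `f_* G = 0` forces `G = 0`; with exactness of `f_*` this gives
that `f_*` reflects isomorphisms. -/

set_option autoImplicit false
set_option linter.unusedSectionVars false
set_option linter.style.haveILetI false
universe u
open CategoryTheory CategoryTheory.Limits AlgebraicGeometry Opposite

namespace H9FE.IntConserv
open EtCoh

attribute [local instance] H9FE.GabB.pullLex

theorem isZero_of_isZero_push {X Y : Scheme.{u}} (f : X ⟶ Y) [IsIntegralHom f] (G : EtCoh.Ab X)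
    (h : IsZero ((EtCoh.push f).obj G)) : IsZero G := by
  let p₁ := pullback.fst f f
  let p₂ := pullback.snd f f
  let Δ := pullback.diagonal f
  have hΔ1 : Δ ≫ p₁ = 𝟙 X := pullback.diagonal_fst f
  have hΔ2 : Δ ≫ p₂ = 𝟙 X := pullback.diagonal_snd f
  have hpb : IsPullback p₁ p₂ f f := IsPullback.of_hasPullback f f
  haveI : IsIntegralHom p₂ := inferInstanceAs (IsIntegralHom (pullback.snd f f))
  haveI : IsClosedImmersion Δ := inferInstance
  -- step 1: `p₂_* p₁⁻¹ G = 0`
  haveI := Groth.Agent.S0655.result f f p₂ p₁ hpb G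
  have z1 : IsZero ((pull f).obj ((push f).obj G)) := (pull f).map_isZero h
  have z2 : IsZero ((push p₂).obj ((pull p₁).obj G)) :=
    z1.of_iso (asIso (EtCoh.baseChange0 f f p₂ p₁ hpb.w G)).symm
  -- step 2: the unit of `Δ` is epi, and `p₂_*` preserves epimorphisms
  haveI := H9FE.IntSH.unit_epi Δ ((pull p₁).obj G)
  haveI := H9FE.IntDisj.preservesEpimorphisms_of_isIntegralHom p₂
  have z3 : IsZero ((push p₂).obj ((push Δ).obj ((pull Δ).obj ((pull p₁).obj G)))) :=
    IsZero.of_epi ((push p₂).map ((pullPushAdj Δ).unit.app ((pull p₁).obj G))) z2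
  -- step 3: `p₂_* Δ_* ≅ id`
  let ε : push Δ ⋙ push p₂ ≅ 𝟭 _ := pushComp p₂ Δ ≪≫ pushCongr hΔ2 ≪≫ H9FE.GabB.pushId X
  have z4 : IsZero ((pull Δ).obj ((pull p₁).obj G)) := z3.of_iso (ε.app _).symm
  -- step 4: `Δ⁻¹ p₁⁻¹ ≅ id`
  let ε' : push Δ ⋙ push p₁ ≅ 𝟭 _ := pushComp p₁ Δ ≪≫ pushCongr hΔ1 ≪≫ H9FE.GabB.pushId X
  let adj' : pull p₁ ⋙ pull Δ ⊣ 𝟭 _ :=
    ((pullPushAdj p₁).comp (pullPushAdj Δ)).ofNatIsoRight ε'
  let κ : pull p₁ ⋙ pull Δ ≅ 𝟭 _ := adj'.leftAdjointUniq Adjunction.id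
  exact z4.of_iso (κ.app G).symm

theorem reflectsIsomorphisms_push {X Y : Scheme.{u}} (f : X ⟶ Y) [IsIntegralHom f] :
    (EtCoh.push f).ReflectsIsomorphisms := by
  haveI := Groth.Agent.S0630.Aux.main f
  refine ⟨fun {G G'} a ha => ?_⟩
  haveI : Mono a := by
    apply Preadditive.mono_of_isZero_kernel
    apply isZero_of_isZero_push f
    refine IsZero.of_iso ?_ (PreservesKernel.iso (push f) a)
    exact isZero_kernel_of_mono _
  haveI : Epi a := by
    apply Preadditive.epi_of_isZero_cokernel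
    apply isZero_of_isZero_push f
    refine IsZero.of_iso ?_ (PreservesCokernel.iso (push f) a)
    exact isZero_cokernel_of_epi _
  exact isIso_of_mono_of_epi a

end H9FE.IntConserv
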