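import Mathlib
import Groth.Agent.Lib.Helper9.FE.IntDescSetup
import Groth.Agent.S6627

/-! helper9: condition (A) for integral morphisms, by descent to the finite case. -/

universe u
open CategoryTheory CategoryTheory.Limits AlgebraicGeometry

namespace H9FE
namespace IntPropA

set_option linter.style.haveILetI false
set_option linter.unusedSectionVars false
set_option backward.isDefEq.respectTransparency false

theorem propA_affine {X Y : Scheme.{u}} [IsAffine X] [IsAffine Y] (f : X ⟶ Y) [IsIntegralHom f]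
    {U : Scheme.{u}} (g : U ⟶ X) [Etale g] (u : U) :
    ∃ (V : Scheme.{u}) (v : V ⟶ Y) (_ : Etale v) (W : (pullback f v).Opens)
      (_ : IsClosed (W : Set ↥(pullback f v))) (h : (W : Scheme.{u}) ⟶ U),
      h ≫ g = W.ι ≫ pullback.fst f v ∧ u ∈ Set.range h := by
  obtain ⟨T, P, e, huT, he⟩ := StdEtRefine.pointwise g u
  obtain ⟨Z', ζ, F', hF', hζF, hζs, T', τ', q, hτ', hsq⟩ :=
    IntDescSetup.main f (fun _ : Fin 1 => P)
  haveI := hτ' 0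
  haveI := hF'
  obtain ⟨V, p, hp, W', hW'c, h', hh', ⟨w', hw'⟩⟩ :=
    Groth.Agent.S6627.result F' (T' 0) (τ' 0) (q 0 (e.hom ⟨u, huT⟩))
  haveI := hp
  let π : pullback f p ⟶ pullback F' p :=
    pullback.map f p F' p ζ (𝟙 V) (𝟙 Y) (by rw [Category.comp_id, hζF]) (by simp)
  have hπ1 : π ≫ pullback.fst F' p = pullback.fst f p ≫ ζ := pullback.lift_fst _ _ _
  have hπ2 : π ≫ pullback.snd F' p = pullback.snd f p := by
    simp only [π]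
    rw [pullback.lift_snd, Category.comp_id]
  have hcond : ((π ⁻¹ᵁ W').ι ≫ pullback.fst f p) ≫ ζ = ((π ∣_ W') ≫ h') ≫ τ' 0 := by
    rw [Category.assoc, Category.assoc, hh', morphismRestrict_ι_assoc, hπ1]
  let l := (hsq 0).lift _ _ hcond
  have hl1 : l ≫ (Spec.map (CommRingCat.ofHom (algebraMap Γ(X, ⊤) P.Ring)) ≫ X.isoSpec.inv) =
      (π ⁻¹ᵁ W').ι ≫ pullback.fst f p := (hsq 0).lift_fst _ _ hcond
  have hl2 : l ≫ q 0 = (π ∣_ W') ≫ h' := (hsq 0).lift_snd _ _ hcond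
  refine ⟨V, p, hp, π ⁻¹ᵁ W', hW'c.preimage π.continuous, l ≫ e.inv ≫ T.ι, ?_, ?_⟩
  · rw [Category.assoc, Category.assoc, ← he, Iso.inv_hom_id_assoc, hl1]
  · -- the pasting
    have P1 : IsPullback π (pullback.fst f p) (pullback.fst F' p) ζ := by
      refine IsPullback.of_right ?_ hπ1 (IsPullback.of_hasPullback F' p).flip
      rw [hπ2, hζF]
      exact (IsPullback.of_hasPullback f p).flip
    have P2 : IsPullback (π ⁻¹ᵁ W').ι (π ∣_ W') π W'.ι := (isPullback_morphismRestrict π W').flip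
    have P3 : IsPullback ((π ⁻¹ᵁ W').ι ≫ pullback.fst f p) (π ∣_ W') ζ
        (W'.ι ≫ pullback.fst F' p) := P2.paste_horiz P1.flip
    have L : IsPullback l (π ∣_ W') (q 0) h' := by
      refine IsPullback.of_right ?_ hl2 (hsq 0)
      rw [hl1, hh']
      exact P3
    obtain ⟨w, hw1, hw2⟩ := Scheme.exists_preimage_of_isPullback L
      (e.hom ⟨u, huT⟩) w' hw'.symm
    refine ⟨w, ?_⟩
    rw [Scheme.Hom.comp_apply, Scheme.Hom.comp_apply, hw1, ← Scheme.Hom.comp_apply e.hom,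
      Iso.hom_inv_id]
    rfl

theorem propA {X Y : Scheme.{u}} (f : X ⟶ Y) [IsIntegralHom f] : BigSite.PropA f := by
  intro U g _ u
  obtain ⟨Y₀, hY₀, hy⟩ : ∃ Y₀ : Y.Opens, IsAffineOpen Y₀ ∧ f (g u) ∈ Y₀ := by
    obtain ⟨_, ⟨Y₀, hY₀, rfl⟩, hy, -⟩ :=
      Y.isBasis_affineOpens.exists_subset_of_mem_open (Set.mem_univ (f (g u))) isOpen_univ
    exact ⟨Y₀, hY₀, hy⟩
  haveI : IsAffine (Y₀ : Scheme.{u}) := hY₀
  haveI : IsAffine ((f ⁻¹ᵁ Y₀ : X.Opens) : Scheme.{u}) := hY₀.preimage f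
  have huU : u ∈ g ⁻¹ᵁ (f ⁻¹ᵁ Y₀) := hy
  obtain ⟨V, p₀, hp₀, W₀, hW₀c, h₀, hh₀, ⟨w₀, hw₀⟩⟩ :=
    propA_affine (f ∣_ Y₀) (g ∣_ (f ⁻¹ᵁ Y₀)) ⟨u, huU⟩
  haveI := hp₀
  have hrange : Set.range (pullback.fst f (p₀ ≫ Y₀.ι)) ⊆ Set.range (f ⁻¹ᵁ Y₀).ι := by
    rintro _ ⟨w, rfl⟩
    rw [Scheme.Opens.range_ι]
    show f (pullback.fst f (p₀ ≫ Y₀.ι) w) ∈ Y₀
    rw [← Scheme.Hom.comp_apply, pullback.condition, Scheme.Hom.comp_apply, Scheme.Hom.comp_apply]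
    exact (p₀ (pullback.snd f (p₀ ≫ Y₀.ι) w)).2
  let l : pullback f (p₀ ≫ Y₀.ι) ⟶ ((f ⁻¹ᵁ Y₀ : X.Opens) : Scheme.{u}) :=
    IsOpenImmersion.lift (f ⁻¹ᵁ Y₀).ι (pullback.fst f (p₀ ≫ Y₀.ι)) hrange
  have hl : l ≫ (f ⁻¹ᵁ Y₀).ι = pullback.fst f (p₀ ≫ Y₀.ι) := IsOpenImmersion.lift_fac _ _ _
  have hcond : l ≫ (f ∣_ Y₀) = pullback.snd f (p₀ ≫ Y₀.ι) ≫ p₀ := by
    rw [← cancel_mono Y₀.ι, Category.assoc, morphismRestrict_ι, ← Category.assoc, hl,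
      pullback.condition, Category.assoc]
  let Θ : pullback f (p₀ ≫ Y₀.ι) ⟶ pullback (f ∣_ Y₀) p₀ :=
    pullback.lift l (pullback.snd f (p₀ ≫ Y₀.ι)) hcond
  have hΘ : Θ ≫ pullback.fst (f ∣_ Y₀) p₀ ≫ (f ⁻¹ᵁ Y₀).ι = pullback.fst f (p₀ ≫ Y₀.ι) := by
    rw [← Category.assoc, pullback.lift_fst, hl]
  have hΘ2 : Θ ≫ pullback.snd (f ∣_ Y₀) p₀ = pullback.snd f (p₀ ≫ Y₀.ι) := pullback.lift_snd _ _ _
  let Θ' : pullback (f ∣_ Y₀) p₀ ⟶ pullback f (p₀ ≫ Y₀.ι) :=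
    pullback.lift (pullback.fst (f ∣_ Y₀) p₀ ≫ (f ⁻¹ᵁ Y₀).ι) (pullback.snd (f ∣_ Y₀) p₀) (by
      rw [Category.assoc, ← morphismRestrict_ι, ← Category.assoc, pullback.condition,
        Category.assoc])
  have hΘ'Θ : Θ' ≫ Θ = 𝟙 _ := by
    apply pullback.hom_ext
    · rw [← cancel_mono (f ⁻¹ᵁ Y₀).ι, Category.assoc, Category.assoc, hΘ, pullback.lift_fst,
        Category.id_comp]
    · rw [Category.assoc, hΘ2, pullback.lift_snd, Category.id_comp]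
  refine ⟨V, p₀ ≫ Y₀.ι, inferInstance, Θ ⁻¹ᵁ W₀, hW₀c.preimage Θ.continuous,
    (Θ ∣_ W₀) ≫ h₀ ≫ (g ⁻¹ᵁ (f ⁻¹ᵁ Y₀)).ι, ?_, ?_⟩
  · rw [Category.assoc, Category.assoc, ← morphismRestrict_ι, ← Category.assoc h₀, hh₀,
      Category.assoc, morphismRestrict_ι_assoc, hΘ]
  · have hw : Θ (Θ' w₀.1) = w₀.1 := by
      rw [← Scheme.Hom.comp_apply, hΘ'Θ]
      rfl
    have hwW : Θ' w₀.1 ∈ Θ ⁻¹ᵁ W₀ := by
      show Θ (Θ' w₀.1) ∈ W₀
      rw [hw]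
      exact w₀.2
    refine ⟨⟨Θ' w₀.1, hwW⟩, ?_⟩
    have h1 : (Θ ∣_ W₀) ⟨Θ' w₀.1, hwW⟩ = w₀ := by
      apply Subtype.ext
      have h2 := congrArg (fun φ => φ.base (⟨Θ' w₀.1, hwW⟩ : ↥(Θ ⁻¹ᵁ W₀)))
        (morphismRestrict_ι Θ W₀)
      exact h2.trans hw
    rw [Scheme.Hom.comp_apply, Scheme.Hom.comp_apply, h1, hw₀]
    rfl

end IntPropA
end H9FE
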