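import Mathlib

/-!
# Inverse limits of adic systems of rings (helper9)

`main_alg`: a ring `A`, separated and complete for a decreasing filtration `J n` with
`J n = (J 0)^(n+1) ⊔ J (n+1)` and `J 0` finitely generated modulo `J 1`, satisfies
`J n = (J 0)^(n+1)` and is `J 0`-adically complete.  (EGA 0_I 7.2.7.)
-/

set_option autoImplicit false
universe u v
namespace H9FE.ILA

section Core
variable {A : Type u} [CommRing A] {ι : Type v} [Fintype ι] (a : ι → A)

theorem mem_span_mul {N : Ideal A} {x : A} (hx : x ∈ Ideal.span (Set.range a) * N) :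
    ∃ y : ι → A, (∀ i, y i ∈ N) ∧ x = ∑ i, a i * y i := by
  rw [← smul_eq_mul] at hx
  refine Submodule.smul_induction_on hx ?_ ?_
  · intro r hr n hn
    obtain ⟨c, rfl⟩ := (Ideal.mem_span_range_iff_exists_fun).1 hr
    refine ⟨fun i => c i * n, fun i => N.mul_mem_left _ hn, ?_⟩
    rw [smul_eq_mul, Finset.sum_mul]
    refine Finset.sum_congr rfl fun i _ => ?_
    ring
  · rintro x y ⟨y1, h1, rfl⟩ ⟨y2, h2, rfl⟩
    refine ⟨fun i => y1 i + y2 i, fun i => N.add_mem (h1 i) (h2 i), ?_⟩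
    rw [← Finset.sum_add_distrib]
    refine Finset.sum_congr rfl fun i _ => ?_
    ring

theorem approx (F : ℕ → Ideal A) (hF0 : ∀ x, (∀ n, x ∈ F n) → x = 0)
    (hF1 : ∀ z : ℕ → A, (∀ k, z k ∈ F k) → ∃ s, ∀ K, s - ∑ k ∈ Finset.range K, z k ∈ F K)
    (hFanti : Antitone F)
    (G T : ℕ → Ideal A)
    (hGF : ∀ k, G (k + 1) ≤ F k) (hTF : ∀ k, T k ≤ F k)
    (hGanti : Antitone G)
    (hGc : ∀ y, (∀ K, ∃ g ∈ G 0, y - g ∈ F K) → y ∈ G 0)
    (hT : ∀ k, ∀ x ∈ T k, ∃ y : ι → A, (∀ i, y i ∈ G k) ∧ x - ∑ i, a i * y i ∈ T (k + 1))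
    (x : A) (hx : x ∈ T 0) :
    ∃ y : ι → A, (∀ i, y i ∈ G 0) ∧ x = ∑ i, a i * y i := by
  choose! Y hY1 hY2 using hT
  obtain ⟨xs, xs0, xsS⟩ : ∃ xs : ℕ → A, xs 0 = x ∧
      ∀ k, xs (k + 1) = xs k - ∑ i, a i * Y k (xs k) i :=
    ⟨fun k => Nat.rec (motive := fun _ => A) x (fun k xk => xk - ∑ i, a i * Y k xk i) k,
      rfl, fun k => rfl⟩
  have hxs : ∀ k, xs k ∈ T k := by
    intro k
    induction k with
    | zero => rw [xs0]; exact hx
    | succ k ih => rw [xsS]; exact hY2 k (xs k) ih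
  have hys : ∀ k i, Y k (xs k) i ∈ G k := fun k i => hY1 k (xs k) (hxs k) i
  have hsum : ∀ K, xs K = x - ∑ i, a i * ∑ k ∈ Finset.range K, Y k (xs k) i := by
    intro K
    induction K with
    | zero => rw [xs0]; simp
    | succ K ih =>
      have e : xs (K + 1) = xs K - ∑ i, a i * Y K (xs K) i := xsS K
      simp only [Finset.sum_range_succ, mul_add, Finset.sum_add_distrib]
      rw [e]
      generalize ∑ i, a i * Y K (xs K) i = S
      rw [ih]
      ring
  have hz : ∀ i, ∃ s, ∀ K, s - ∑ k ∈ Finset.range K, Y (k + 1) (xs (k + 1)) i ∈ F K :=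
    fun i => hF1 (fun k => Y (k + 1) (xs (k + 1)) i) (fun k => hGF k (hys (k + 1) i))
  choose s hs using hz
  refine ⟨fun i => Y 0 (xs 0) i + s i, fun i => ?_, ?_⟩
  · apply hGc
    intro K
    refine ⟨Y 0 (xs 0) i + ∑ k ∈ Finset.range K, Y (k + 1) (xs (k + 1)) i, ?_, ?_⟩
    · exact (G 0).add_mem (hys 0 i)
        (Ideal.sum_mem _ fun k _ => hGanti (Nat.zero_le _) (hys (k + 1) i))
    · have e : Y 0 (xs 0) i + s i -
          (Y 0 (xs 0) i + ∑ k ∈ Finset.range K, Y (k + 1) (xs (k + 1)) i) =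
          s i - ∑ k ∈ Finset.range K, Y (k + 1) (xs (k + 1)) i := by ring
      rw [e]
      exact hs i K
  · have hzero : x - ∑ i, a i * (Y 0 (xs 0) i + s i) = 0 := by
      apply hF0
      intro K
      have key : x - ∑ i, a i * (Y 0 (xs 0) i + s i) =
          xs (K + 1) - ∑ i, a i * (s i - ∑ k ∈ Finset.range K, Y (k + 1) (xs (k + 1)) i) := by
        rw [hsum (K + 1)]
        simp only [Finset.sum_range_succ', mul_sub, mul_add, Finset.sum_sub_distrib,
          Finset.sum_add_distrib]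
        ring
      rw [key]
      refine (F K).sub_mem ?_ (Ideal.sum_mem _ fun i _ => (F K).mul_mem_left _ (hs i K))
      exact hFanti (Nat.le_succ K) (hTF (K + 1) (hxs (K + 1)))
    exact sub_eq_zero.1 hzero

end Core

section Chain
variable {A : Type u} [CommRing A] (J : ℕ → Ideal A)

theorem pow_le (hG : ∀ n, J n = (J 0) ^ (n + 1) ⊔ J (n + 1)) (n : ℕ) :
    (J 0) ^ (n + 1) ≤ J n :=
  le_sup_left.trans (hG n).ge

theorem eq_sup_of_le (hG : ∀ n, J n = (J 0) ^ (n + 1) ⊔ J (n + 1)) (n m : ℕ) (hnm : n ≤ m) :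
    J n = (J 0) ^ (n + 1) ⊔ J m := by
  induction m, hnm using Nat.le_induction with
  | base => exact (sup_eq_right.2 (pow_le J hG n)).symm
  | succ m hm ih =>
    calc J n = (J 0) ^ (n + 1) ⊔ J m := ih
      _ = (J 0) ^ (n + 1) ⊔ ((J 0) ^ (m + 1) ⊔ J (m + 1)) := by rw [← hG m]
      _ = ((J 0) ^ (n + 1) ⊔ (J 0) ^ (m + 1)) ⊔ J (m + 1) := (sup_assoc _ _ _).symm
      _ = (J 0) ^ (n + 1) ⊔ J (m + 1) := by
        have h : (J 0) ^ (m + 1) ≤ (J 0) ^ (n + 1) := Ideal.pow_le_pow_right (by omega)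
        rw [sup_eq_left.2 h]

variable {ι : Type v} (a : ι → A)

theorem mul_step (hG : ∀ n, J n = (J 0) ^ (n + 1) ⊔ J (n + 1))
    (hfg : J 0 = Ideal.span (Set.range a) ⊔ J 1) (N : Ideal A) (m : ℕ) (hm : 1 ≤ m) :
    J 0 * N ≤ Ideal.span (Set.range a) * N ⊔ J m := by
  set S := Ideal.span (Set.range a) with hS
  have h3 : J 0 ≤ S ⊔ (J 0) ^ 2 ⊔ J m := by
    calc J 0 = S ⊔ J 1 := hfg
      _ = S ⊔ ((J 0) ^ (1 + 1) ⊔ J m) := by rw [← eq_sup_of_le J hG 1 m hm]
      _ ≤ S ⊔ (J 0) ^ 2 ⊔ J m := (sup_assoc _ _ _).ge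
  have h4 : ∀ k, (J 0) ^ (k + 1) * N ≤ S * N ⊔ (J 0) ^ (k + 2) * N ⊔ J m := by
    intro k
    calc (J 0) ^ (k + 1) * N = (J 0) ^ k * (J 0 * N) := by rw [pow_succ, mul_assoc]
      _ ≤ (J 0) ^ k * ((S ⊔ (J 0) ^ 2 ⊔ J m) * N) :=
        Ideal.mul_mono_right (Ideal.mul_mono_left h3)
      _ = (J 0) ^ k * (S * N) ⊔ (J 0) ^ k * ((J 0) ^ 2 * N) ⊔ (J 0) ^ k * (J m * N) := by
        rw [Ideal.sup_mul, Ideal.sup_mul, Ideal.mul_sup, Ideal.mul_sup]
      _ ≤ S * N ⊔ (J 0) ^ (k + 2) * N ⊔ J m := by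
        refine sup_le_sup (sup_le_sup Ideal.mul_le_right ?_) ?_
        · rw [← mul_assoc, ← pow_add]
        · exact Ideal.mul_le_right.trans Ideal.mul_le_left
  have h5 : ∀ k, J 0 * N ≤ S * N ⊔ (J 0) ^ (k + 1) * N ⊔ J m := by
    intro k
    induction k with
    | zero =>
      refine le_sup_of_le_left (le_sup_of_le_right ?_)
      rw [zero_add, pow_one]
    | succ k ih =>
      refine ih.trans (sup_le (sup_le ?_ ?_) le_sup_right)
      · exact le_sup_of_le_left le_sup_left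
      · exact h4 k
  refine (h5 m).trans (sup_le (sup_le le_sup_left ?_) le_sup_right)
  exact le_sup_of_le_right (Ideal.mul_le_left.trans (pow_le J hG m))

variable [Fintype ι]

omit [Fintype ι] in
theorem succ_le (hG : ∀ n, J n = (J 0) ^ (n + 1) ⊔ J (n + 1)) (hanti : Antitone J)
    (hfg : J 0 = Ideal.span (Set.range a) ⊔ J 1) (n m : ℕ) :
    J (n + 1) ≤ Ideal.span (Set.range a) * J n ⊔ J m := by
  by_cases h : m ≤ n + 1
  · exact le_sup_of_le_right (hanti h)
  · have hm : n + 1 ≤ m := by omega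
    rw [eq_sup_of_le J hG (n + 1) m hm]
    refine sup_le ?_ le_sup_right
    calc (J 0) ^ (n + 1 + 1) = J 0 * (J 0) ^ (n + 1) := pow_succ' _ _
      _ ≤ J 0 * J n := Ideal.mul_mono_right (pow_le J hG n)
      _ ≤ _ := mul_step J a hG hfg (J n) m (by omega)

theorem succ_elem (hG : ∀ n, J n = (J 0) ^ (n + 1) ⊔ J (n + 1)) (hanti : Antitone J)
    (hfg : J 0 = Ideal.span (Set.range a) ⊔ J 1) (n m : ℕ) (x : A) (hx : x ∈ J (n + 1)) :
    ∃ y : ι → A, (∀ i, y i ∈ J n) ∧ x - ∑ i, a i * y i ∈ J m := by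
  obtain ⟨u, hu, v, hv, rfl⟩ := Submodule.mem_sup.1 (succ_le J a hG hanti hfg n m hx)
  obtain ⟨y, hy, rfl⟩ := mem_span_mul a hu
  refine ⟨y, hy, ?_⟩
  rw [add_sub_cancel_left]
  exact hv

omit [Fintype ι] in
theorem mem_zero (hfg : J 0 = Ideal.span (Set.range a) ⊔ J 1) (i : ι) : a i ∈ J 0 := by
  rw [hfg]
  exact Ideal.mem_sup_left (Ideal.subset_span ⟨i, rfl⟩)

theorem step_le (hG : ∀ n, J n = (J 0) ^ (n + 1) ⊔ J (n + 1)) (hanti : Antitone J)
    (h0 : ∀ x, (∀ n, x ∈ J n) → x = 0)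
    (h1 : ∀ z : ℕ → A, (∀ k, z k ∈ J k) → ∃ s, ∀ K, s - ∑ k ∈ Finset.range K, z k ∈ J K)
    (hfg : J 0 = Ideal.span (Set.range a) ⊔ J 1) (n : ℕ) : J (n + 1) ≤ J 0 * J n := by
  intro x hx
  obtain ⟨y, hy, rfl⟩ := approx a J h0 h1 hanti (G := fun k => J (n + k))
    (T := fun k => J (n + 1 + k))
    (fun k => hanti (by omega)) (fun k => hanti (by omega))
    (fun k l hkl => hanti (by omega))
    (fun y hy => by
      obtain ⟨g, hg, hyg⟩ := hy n
      have e : y = (y - g) + g := by ring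
      rw [e]
      exact (J n).add_mem hyg hg)
    (fun k x hx => by
      have e : n + 1 + k = (n + k) + 1 := by omega
      have hx' : x ∈ J ((n + k) + 1) := e ▸ hx
      exact succ_elem J a hG hanti hfg (n + k) (n + 1 + (k + 1)) x hx')
    x hx
  exact Ideal.sum_mem _ fun i _ => Ideal.mul_mem_mul (mem_zero J a hfg i) (hy i)

theorem pow_eq (hG : ∀ n, J n = (J 0) ^ (n + 1) ⊔ J (n + 1)) (hanti : Antitone J)
    (h0 : ∀ x, (∀ n, x ∈ J n) → x = 0)
    (h1 : ∀ z : ℕ → A, (∀ k, z k ∈ J k) → ∃ s, ∀ K, s - ∑ k ∈ Finset.range K, z k ∈ J K)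
    (hfg : J 0 = Ideal.span (Set.range a) ⊔ J 1) (n : ℕ) : J n = (J 0) ^ (n + 1) := by
  induction n with
  | zero => rw [zero_add, pow_one]
  | succ n ih =>
    refine le_antisymm ((step_le J a hG hanti h0 h1 hfg n).trans ?_) (pow_le J hG (n + 1))
    rw [ih, ← pow_succ']

theorem adic (hG : ∀ n, J n = (J 0) ^ (n + 1) ⊔ J (n + 1)) (hanti : Antitone J)
    (h0 : ∀ x, (∀ n, x ∈ J n) → x = 0)
    (h1 : ∀ z : ℕ → A, (∀ k, z k ∈ J k) → ∃ s, ∀ K, s - ∑ k ∈ Finset.range K, z k ∈ J K)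
    (hfg : J 0 = Ideal.span (Set.range a) ⊔ J 1) : IsAdicComplete (J 0) A := by
  have hpow := pow_eq J a hG hanti h0 h1 hfg
  have htop : ∀ n : ℕ, ((J 0) ^ n • (⊤ : Submodule A A)) = (J 0) ^ n := fun n => by
    rw [smul_eq_mul, Ideal.mul_top]
  refine { toIsHausdorff := ⟨?_⟩, toIsPrecomplete := ⟨?_⟩ }
  · intro x hx
    apply h0
    intro n
    have h := hx (n + 1)
    rw [SModEq.zero, htop] at h
    rw [hpow n]
    exact h
  · intro f hf
    have hz : ∀ k, f (k + 2) - f (k + 1) ∈ J k := by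
      intro k
      have h := hf (Nat.le_succ (k + 1))
      rw [SModEq.sub_mem, htop] at h
      rw [hpow k]
      have e : f (k + 2) - f (k + 1) = -(f (k + 1) - f (k + 2)) := by ring
      rw [e]
      exact neg_mem h
    obtain ⟨s, hs⟩ := h1 (fun k => f (k + 2) - f (k + 1)) hz
    have tel : ∀ K, ∑ k ∈ Finset.range K, (f (k + 2) - f (k + 1)) = f (K + 1) - f 1 := by
      intro K
      induction K with
      | zero => simp
      | succ K ih => rw [Finset.sum_range_succ, ih]; ring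
    refine ⟨s + f 1, fun n => ?_⟩
    rw [SModEq.sub_mem, htop]
    cases n with
    | zero => rw [pow_zero, Ideal.one_eq_top]; exact Submodule.mem_top
    | succ K =>
      have hK := hs K
      rw [tel K, hpow K] at hK
      have e : f (K + 1) - (s + f 1) = -(s - (f (K + 1) - f 1)) := by ring
      rw [e]
      exact neg_mem hK

end Chain

section Lim
variable (B : ℕ → Type u) [∀ n, CommRing (B n)] (φ : ∀ n, B (n + 1) →+* B n)

/-- the inverse limit of a sequence of rings -/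
def limRing : Subring (∀ n, B n) where
  carrier := {x | ∀ n, φ n (x (n + 1)) = x n}
  mul_mem' := fun {x y} hx hy n => by
    show φ n ((x * y) (n + 1)) = (x * y) n
    rw [Pi.mul_apply, Pi.mul_apply, map_mul, hx n, hy n]
  one_mem' := fun n => by
    show φ n ((1 : ∀ n, B n) (n + 1)) = (1 : ∀ n, B n) n
    rw [Pi.one_apply, Pi.one_apply, map_one]
  add_mem' := fun {x y} hx hy n => by
    show φ n ((x + y) (n + 1)) = (x + y) n
    rw [Pi.add_apply, Pi.add_apply, map_add, hx n, hy n]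
  zero_mem' := fun n => by
    show φ n ((0 : ∀ n, B n) (n + 1)) = (0 : ∀ n, B n) n
    rw [Pi.zero_apply, Pi.zero_apply, map_zero]
  neg_mem' := fun {x} hx n => by
    show φ n ((-x) (n + 1)) = (-x) n
    rw [Pi.neg_apply, Pi.neg_apply, map_neg, hx n]

/-- the projections of the inverse limit -/
def proj (n : ℕ) : limRing B φ →+* B n := (Pi.evalRingHom B n).comp (limRing B φ).subtype

theorem proj_apply (n : ℕ) (x : limRing B φ) : proj B φ n x = x.1 n := rfl

theorem compat (n : ℕ) (x : limRing B φ) : φ n (proj B φ (n + 1) x) = proj B φ n x := x.2 n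

theorem seq_surj : ∀ (n : ℕ) (C : ℕ → Type u) (ψ : ∀ n, C (n + 1) → C n),
    (∀ n, Function.Surjective (ψ n)) → ∀ b : C n,
      ∃ x : ∀ m, C m, (∀ m, ψ m (x (m + 1)) = x m) ∧ x n = b := by
  intro n
  induction n with
  | zero =>
    intro C ψ hψ b
    refine ⟨fun m => Nat.rec (motive := fun m => C m) b
      (fun m xm => Function.surjInv (hψ m) xm) m, fun m => ?_, rfl⟩
    exact Function.surjInv_eq (hψ m) _
  | succ n ih =>
    intro C ψ hψ b
    obtain ⟨x', hx', hb⟩ := ih (fun k => C (k + 1)) (fun k => ψ (k + 1))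
      (fun k => hψ (k + 1)) b
    refine ⟨fun m => Nat.casesOn (motive := fun m => C m) m (ψ 0 (x' 0)) (fun m => x' m),
      fun m => ?_, hb⟩
    cases m with
    | zero => rfl
    | succ m => exact hx' m

theorem proj_surjective (hφ : ∀ n, Function.Surjective (φ n)) (n : ℕ) :
    Function.Surjective (proj B φ n) := by
  intro b
  obtain ⟨x, hx, hb⟩ := seq_surj n B (fun n => φ n) hφ b
  exact ⟨⟨x, hx⟩, hb⟩

theorem lim_sep (x : limRing B φ) (hx : ∀ n, x ∈ RingHom.ker (proj B φ n)) : x = 0 := by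
  apply Subtype.ext
  funext n
  exact (RingHom.mem_ker).1 (hx n)

theorem lim_complete (z : ℕ → limRing B φ) (hz : ∀ k, z k ∈ RingHom.ker (proj B φ k)) :
    ∃ s : limRing B φ, ∀ K, s - ∑ k ∈ Finset.range K, z k ∈ RingHom.ker (proj B φ K) := by
  refine ⟨⟨fun m => proj B φ m (∑ k ∈ Finset.range m, z k), fun m => ?_⟩, fun K => ?_⟩
  · show φ m (proj B φ (m + 1) (∑ k ∈ Finset.range (m + 1), z k)) =
      proj B φ m (∑ k ∈ Finset.range m, z k)
    rw [compat, Finset.sum_range_succ, map_add, (RingHom.mem_ker).1 (hz m), add_zero]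
  · rw [RingHom.mem_ker, map_sub, sub_eq_zero]
    rfl

theorem ker_antitone : Antitone (fun n => RingHom.ker (proj B φ n)) := by
  apply antitone_nat_of_succ_le
  intro n x hx
  rw [RingHom.mem_ker] at hx ⊢
  rw [← compat, hx, map_zero]

theorem ker_proj_eq_comap (n : ℕ) :
    RingHom.ker (proj B φ n) = Ideal.comap (proj B φ (n + 1)) (RingHom.ker (φ n)) := by
  ext x
  rw [RingHom.mem_ker, Ideal.mem_comap, RingHom.mem_ker, compat]

theorem ker_eq (hφ : ∀ n, Function.Surjective (φ n)) (ψ : ∀ m, B m →+* B 0)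
    (hψ : ∀ m x, ψ m (proj B φ m x) = proj B φ 0 x)
    (hker : ∀ n, RingHom.ker (φ n) = (RingHom.ker (ψ (n + 1))) ^ (n + 1)) (n : ℕ) :
    RingHom.ker (proj B φ n) =
      (RingHom.ker (proj B φ 0)) ^ (n + 1) ⊔ RingHom.ker (proj B φ (n + 1)) := by
  have hp := proj_surjective B φ hφ (n + 1)
  have e2 : RingHom.ker (ψ (n + 1)) =
      Ideal.map (proj B φ (n + 1)) (RingHom.ker (proj B φ 0)) := by
    have e3 : RingHom.ker (proj B φ 0) =
        Ideal.comap (proj B φ (n + 1)) (RingHom.ker (ψ (n + 1))) := by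
      ext x
      rw [RingHom.mem_ker, Ideal.mem_comap, RingHom.mem_ker, hψ]
    rw [e3, Ideal.map_comap_of_surjective _ hp]
  rw [ker_proj_eq_comap, hker, e2, ← Ideal.map_pow, Ideal.comap_map_of_surjective _ hp,
    ← RingHom.ker_eq_comap_bot]

theorem fg_lift (hφ : ∀ n, Function.Surjective (φ n)) (s : Finset (B 1))
    (hs : Ideal.span (s : Set (B 1)) = RingHom.ker (φ 0)) :
    ∃ a : s → limRing B φ, RingHom.ker (proj B φ 0) =
      Ideal.span (Set.range a) ⊔ RingHom.ker (proj B φ 1) := by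
  have hp := proj_surjective B φ hφ 1
  refine ⟨fun b => Function.surjInv hp b.1, ?_⟩
  have e1 : Ideal.map (proj B φ 1) (Ideal.span (Set.range fun b : s => Function.surjInv hp b.1)) =
      Ideal.span (s : Set (B 1)) := by
    rw [Ideal.map_span, ← Set.range_comp]
    congr 1
    ext y
    constructor
    · rintro ⟨b, rfl⟩
      show proj B φ 1 (Function.surjInv hp b.1) ∈ (s : Set (B 1))
      rw [Function.surjInv_eq hp]
      exact b.2
    · intro hy
      exact ⟨⟨y, hy⟩, Function.surjInv_eq hp y⟩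
  rw [ker_proj_eq_comap B φ 0, ← hs, ← e1, Ideal.comap_map_of_surjective _ hp,
    ← RingHom.ker_eq_comap_bot]

end Lim

end H9FE.ILA
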