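import Mathlib
import Groth.Prelude.Def_EtBase
import Groth.Agent.Lib.Helper9.FE.ConstUnit
import Groth.Agent.Lib.Helper9.FE.ConstUnit2
import Groth.Agent.Lib.Helper9.FE.ConstSiteGen
import Groth.Agent.S9559

/-! helper9: direct image of sheaves along a finite étale morphism that splits into sheets over an
étale neighbourhood: sections (graphs), covering/disjointness, gluing, transfer of sieves, and the
local constancy criterion for the direct image. -/

universe u
open CategoryTheory CategoryTheory.Limits AlgebraicGeometry Opposite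

namespace H9FE
namespace PushSplit

set_option backward.isDefEq.respectTransparency false
set_option linter.style.haveILetI false
set_option linter.unusedSectionVars false

open H9FE.ConstUnit H9FE.ConstSite Groth.Agent.S14453.Aux


section Cat
variable {C : Type*} [Category C]

theorem cat1 {A B D : C} (i : A ⟶ B) (p : B ⟶ D) (t : D ⟶ B) (h : t ≫ p = 𝟙 D) :
    (i ≫ p ≫ t) ≫ p = i ≫ p := by
  simp [h]

theorem cat2 {A A' B B' DW DZ X : C} (i' : A' ⟶ B') (r : B' ⟶ B) (ρ : A' ⟶ A) (i : A ⟶ B)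
    (hres : i' ≫ r = ρ ≫ i) (pW : B ⟶ DW) (tW : DW ⟶ B) (sW : B ⟶ X) (σ : DW ⟶ X)
    (htW : tW ≫ sW = σ) (hO : i ≫ pW ≫ tW = i) (pZ : B' ⟶ DZ) (z : DZ ⟶ DW)
    (hfst : r ≫ pW = pZ ≫ z) (sZ : B' ⟶ X) (hsnd : r ≫ sW = sZ) (tZ : DZ ⟶ B')
    (htZ : tZ ≫ sZ = z ≫ σ) : (i' ≫ pZ ≫ tZ) ≫ sZ = i' ≫ sZ := by
  have h1 : i' ≫ sZ = ρ ≫ i ≫ sW := by
    rw [← hsnd, ← Category.assoc, hres, Category.assoc]
  have h2 : i ≫ sW = i ≫ pW ≫ σ := by
    conv_lhs => rw [← hO]
    simp only [Category.assoc, htW]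
  rw [h1, h2, ← Category.assoc ρ, ← hres]
  simp only [Category.assoc, htZ]
  rw [← Category.assoc r, hfst, Category.assoc]

end Cat

variable {X Y : Scheme.{u}} (f : X ⟶ Y) [Etale f]

/-- an étale `Y`-scheme `Z` with a `Y`-morphism `s : Z ⟶ X`, viewed as an étale `X`-scheme -/
noncomputable abbrev secObj (Z : Y.Etale) (s : Z.left ⟶ X) (hs : s ≫ f = Z.hom) : X.Etale :=
  MorphismProperty.Over.mk ⊤ s (by
    have hZ : EtCoh.etaleMP (s ≫ f) := by rw [hs]; exact Z.prop
    exact EtCoh.etaleMP.of_postcomp (W' := EtCoh.etaleMP) s f (inferInstanceAs (Etale f)) hZ)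

@[simp] theorem secObj_left (Z : Y.Etale) (s : Z.left ⟶ X) (hs : s ≫ f = Z.hom) :
    (secObj f Z s hs).left = Z.left := rfl

@[simp] theorem secObj_hom (Z : Y.Etale) (s : Z.left ⟶ X) (hs : s ≫ f = Z.hom) :
    (secObj f Z s hs).hom = s := rfl

/-- the graph of a section, as a map into the base change -/
noncomputable def secMap (Z : Y.Etale) (s : Z.left ⟶ X) (hs : s ≫ f = Z.hom) :
    secObj f Z s hs ⟶ (EtCoh.bc f).obj Z :=
  MorphismProperty.Over.homMk (pullback.lift (𝟙 Z.left) s ((Category.id_comp _).trans hs.symm)) (by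
    show pullback.lift (𝟙 Z.left) s _ ≫ pullback.snd Z.hom f = s
    exact pullback.lift_snd _ _ _)

theorem secMap_left_fst (Z : Y.Etale) (s : Z.left ⟶ X) (hs : s ≫ f = Z.hom) :
    (secMap f Z s hs).left ≫ (pullback.fst Z.hom f : ((EtCoh.bc f).obj Z).left ⟶ Z.left) =
      𝟙 Z.left :=
  pullback.lift_fst _ _ _

theorem secMap_left_snd (Z : Y.Etale) (s : Z.left ⟶ X) (hs : s ≫ f = Z.hom) :
    (secMap f Z s hs).left ≫ (pullback.snd Z.hom f : ((EtCoh.bc f).obj Z).left ⟶ X) = s :=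
  pullback.lift_snd _ _ _

/-- restriction of sections along a morphism of étale `Y`-schemes -/
noncomputable def secRes {Z' Z : Y.Etale} (k : Z' ⟶ Z) (s : Z.left ⟶ X) (hs : s ≫ f = Z.hom)
    (s' : Z'.left ⟶ X) (hs' : s' = k.left ≫ s) :
    secObj f Z' s' (by rw [hs', Category.assoc, hs]; exact MorphismProperty.Over.w k) ⟶
      secObj f Z s hs :=
  MorphismProperty.Over.homMk k.left (by
    show k.left ≫ s = s'
    exact hs'.symm)

theorem bc_map_fst {Z' Z : Y.Etale} (k : Z' ⟶ Z) :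
    ((EtCoh.bc f).map k).left ≫ (pullback.fst Z.hom f : ((EtCoh.bc f).obj Z).left ⟶ Z.left) =
      (pullback.fst Z'.hom f : ((EtCoh.bc f).obj Z').left ⟶ Z'.left) ≫ k.left := by
  dsimp [EtCoh.bc]
  exact pullback.lift_fst _ _ _

theorem bc_map_snd {Z' Z : Y.Etale} (k : Z' ⟶ Z) :
    ((EtCoh.bc f).map k).left ≫ (pullback.snd Z.hom f : ((EtCoh.bc f).obj Z).left ⟶ X) =
      (pullback.snd Z'.hom f : ((EtCoh.bc f).obj Z').left ⟶ X) := by
  dsimp [EtCoh.bc]
  exact pullback.lift_snd _ _ _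

theorem secMap_naturality {Z' Z : Y.Etale} (k : Z' ⟶ Z) (s : Z.left ⟶ X) (hs : s ≫ f = Z.hom)
    (s' : Z'.left ⟶ X) (hs' : s' = k.left ≫ s) :
    secMap f Z' s' (by rw [hs', Category.assoc, hs]; exact MorphismProperty.Over.w k) ≫
      (EtCoh.bc f).map k = secRes f k s hs s' hs' ≫ secMap f Z s hs := by
  subst hs'
  apply MorphismProperty.Over.Hom.ext
  show (secMap f Z' (k.left ≫ s) _).left ≫ ((EtCoh.bc f).map k).left =
    k.left ≫ (secMap f Z s hs).left
  apply pullback.hom_ext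
  · calc ((secMap f Z' (k.left ≫ s) _).left ≫ ((EtCoh.bc f).map k).left) ≫ pullback.fst Z.hom f
        = (secMap f Z' (k.left ≫ s) _).left ≫ (((EtCoh.bc f).map k).left ≫
            pullback.fst Z.hom f) := Category.assoc _ _ _
      _ = (secMap f Z' (k.left ≫ s) _).left ≫ (pullback.fst Z'.hom f ≫ k.left) :=
          congrArg (fun t => (secMap f Z' (k.left ≫ s) _).left ≫ t) (bc_map_fst f k)
      _ = ((secMap f Z' (k.left ≫ s) _).left ≫ pullback.fst Z'.hom f) ≫ k.left :=
          (Category.assoc _ _ _).symm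
      _ = 𝟙 _ ≫ k.left := congrArg (fun t => t ≫ k.left) (secMap_left_fst f Z' _ _)
      _ = k.left := Category.id_comp _
      _ = k.left ≫ 𝟙 _ := (Category.comp_id _).symm
      _ = k.left ≫ ((secMap f Z s hs).left ≫ pullback.fst Z.hom f) :=
          congrArg (fun t => k.left ≫ t) (secMap_left_fst f Z s hs).symm
      _ = (k.left ≫ (secMap f Z s hs).left) ≫ pullback.fst Z.hom f :=
          (Category.assoc _ _ _).symm
  · calc ((secMap f Z' (k.left ≫ s) _).left ≫ ((EtCoh.bc f).map k).left) ≫ pullback.snd Z.hom f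
        = (secMap f Z' (k.left ≫ s) _).left ≫ (((EtCoh.bc f).map k).left ≫
            pullback.snd Z.hom f) := Category.assoc _ _ _
      _ = (secMap f Z' (k.left ≫ s) _).left ≫ pullback.snd Z'.hom f :=
          congrArg (fun t => (secMap f Z' (k.left ≫ s) _).left ≫ t) (bc_map_snd f k)
      _ = k.left ≫ s := secMap_left_snd f Z' _ _
      _ = k.left ≫ ((secMap f Z s hs).left ≫ pullback.snd Z.hom f) :=
          congrArg (fun t => k.left ≫ t) (secMap_left_snd f Z s hs).symm
      _ = (k.left ≫ (secMap f Z s hs).left) ≫ pullback.snd Z.hom f :=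
          (Category.assoc _ _ _).symm

theorem secMap_naturality_left {Z' Z : Y.Etale} (k : Z' ⟶ Z) (s : Z.left ⟶ X)
    (hs : s ≫ f = Z.hom) (s' : Z'.left ⟶ X) (hs' : s' = k.left ≫ s) :
    (secMap f Z' s' (by rw [hs', Category.assoc, hs]; exact MorphismProperty.Over.w k)).left ≫
      ((EtCoh.bc f).map k).left = k.left ≫ (secMap f Z s hs).left :=
  congrArg (fun t => t.left) (secMap_naturality f k s hs s' hs')

theorem secMap_naturality_apply {Z' Z : Y.Etale} (k : Z' ⟶ Z) (s : Z.left ⟶ X)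
    (hs : s ≫ f = Z.hom) (s' : Z'.left ⟶ X) (hs' : s' = k.left ≫ s) (a : Z'.left) :
    ((EtCoh.bc f).map k).left ((secMap f Z' s'
      (by rw [hs', Category.assoc, hs]; exact MorphismProperty.Over.w k)).left a) =
      (secMap f Z s hs).left (k.left a) := by
  have h := secMap_naturality_left f k s hs s' hs'
  have h2 := congrArg (fun t => t a) h
  exact h2

section Split

variable (W : Y.Etale) {n : ℕ} (σ : Fin n → (W.left ⟶ X)) (hσ : ∀ j, σ j ≫ f = W.hom)

/-- the graphs of the sections cover the base change, in a form stable under base change -/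
def Cov : Prop :=
  ∀ q : ((EtCoh.bc f).obj W).left, ∃ (j : Fin n) (O : ((EtCoh.bc f).obj W).left.Opens), q ∈ O ∧
    O.ι ≫ (pullback.fst W.hom f : ((EtCoh.bc f).obj W).left ⟶ W.left) ≫
      (secMap f W (σ j) (hσ j)).left = O.ι

/-- the graphs of the sections are pairwise disjoint -/
def Disj : Prop :=
  ∀ j k : Fin n, j ≠ k → ∀ a b : W.left,
    (secMap f W (σ j) (hσ j)).left a ≠ (secMap f W (σ k) (hσ k)).left b

include hσ in
theorem hσ_comp {Z : Y.Etale} (z : Z ⟶ W) (j : Fin n) : (z.left ≫ σ j) ≫ f = Z.hom := by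
  rw [Category.assoc, hσ j]
  exact MorphismProperty.Over.w z

variable {W σ hσ}

theorem cov_of_cov (hc : Cov f W σ hσ) {Z : Y.Etale} (z : Z ⟶ W) :
    Cov f Z (fun j => z.left ≫ σ j) (fun j => hσ_comp f W σ hσ z j) := by
  intro q
  let r := ((EtCoh.bc f).map z).left
  obtain ⟨j, O, hqO, hO⟩ := hc (r q)
  let O' := r ⁻¹ᵁ O
  have hq' : q ∈ O' := hqO
  have hres : O'.ι ≫ r = (r ∣_ O) ≫ O.ι := (morphismRestrict_ι r O).symm
  refine ⟨j, O', hq', ?_⟩
  apply pullback.hom_ext
  · exact cat1 O'.ι _ _ (secMap_left_fst f Z _ _)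
  · exact cat2 O'.ι r (r ∣_ O) O.ι hres (pullback.fst W.hom f) (secMap f W (σ j) (hσ j)).left
      (pullback.snd W.hom f) (σ j) (secMap_left_snd f W _ _) hO (pullback.fst Z.hom f) z.left
      (bc_map_fst f z) (pullback.snd Z.hom f) (bc_map_snd f z) _ (secMap_left_snd f Z _ _)

theorem surj_of_cov (hc : Cov f W σ hσ) {Z : Y.Etale} (z : Z ⟶ W)
    (q : ((EtCoh.bc f).obj Z).left) :
    ∃ (j : Fin n) (a : Z.left),
      (secMap f Z (z.left ≫ σ j) (hσ_comp f W σ hσ z j)).left a = q := by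
  obtain ⟨j, O, hqO, hO⟩ := cov_of_cov f hc z q
  refine ⟨j, (pullback.fst Z.hom f : ((EtCoh.bc f).obj Z).left ⟶ Z.left) q, ?_⟩
  have h2 := congrArg (fun t => t ⟨q, hqO⟩) hO
  exact h2

theorem disj_of_disj (hd : Disj f W σ hσ) {Z : Y.Etale} (z : Z ⟶ W) (j k : Fin n) (hjk : j ≠ k)
    (a b : Z.left) :
    (secMap f Z (z.left ≫ σ j) (hσ_comp f W σ hσ z j)).left a ≠
      (secMap f Z (z.left ≫ σ k) (hσ_comp f W σ hσ z k)).left b := by
  intro h
  have h1 := congrArg (fun t => ((EtCoh.bc f).map z).left t) h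
  simp only at h1
  rw [secMap_naturality_apply f z (σ j) (hσ j) _ rfl a,
    secMap_naturality_apply f z (σ k) (hσ k) _ rfl b] at h1
  exact hd j k hjk _ _ h1

end Split

section Base

theorem exists_split [IsFinite f] (y : Y) :
    ∃ (W : Y.Etale) (w : W.left) (n : ℕ) (σ : Fin n → (W.left ⟶ X))
      (hσ : ∀ j, σ j ≫ f = W.hom), W.hom w = y ∧ Cov f W σ hσ ∧ Disj f W σ hσ := by
  obtain ⟨U, g, hg, u, hu, n, V, c, hc, e, he⟩ := Groth.Agent.S9559.result f y
  haveI := hg
  haveI := hc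
  let W : Y.Etale := Scheme.Etale.mk g
  let θ : (∐ V) ≅ pullback g f := e ≪≫ pullbackSymmetry f g
  let θj : ∀ j, V j ⟶ pullback g f := fun j => Sigma.ι V j ≫ θ.hom
  have hθfst : ∀ j, θj j ≫ pullback.fst g f = c j := by
    intro j
    simp only [θj, θ, Iso.trans_hom, Category.assoc, pullbackSymmetry_hom_comp_fst]
    exact he j
  let τ : ∀ j, U ⟶ pullback g f := fun j => inv (c j) ≫ θj j
  have hτfst : ∀ j, τ j ≫ pullback.fst g f = 𝟙 U := by
    intro j
    simp only [τ, Category.assoc, hθfst, IsIso.inv_hom_id]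
  let σ : Fin n → (W.left ⟶ X) := fun j => τ j ≫ pullback.snd g f
  have hσ : ∀ j, σ j ≫ f = W.hom := by
    intro j
    show (τ j ≫ pullback.snd g f) ≫ f = g
    rw [Category.assoc, ← pullback.condition, ← Category.assoc, hτfst, Category.id_comp]
  have hsec : ∀ j, (secMap f W (σ j) (hσ j)).left = τ j := by
    intro j
    apply pullback.hom_ext
    · exact (secMap_left_fst f W _ _).trans (hτfst j).symm
    · exact secMap_left_snd f W _ _
  refine ⟨W, u, n, σ, hσ, hu, ?_, ?_⟩
  · intro q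
    obtain ⟨j, v, hv⟩ := (sigmaOpenCover V).exists_eq (θ.inv q)
    have hv' : Sigma.ι V j v = θ.inv q := hv
    haveI : IsOpenImmersion (θj j) := by
      show IsOpenImmersion (Sigma.ι V j ≫ θ.hom)
      infer_instance
    let O : (pullback g f).Opens := (θj j).opensRange
    have hqO : q ∈ O := by
      refine ⟨v, ?_⟩
      show θ.hom (Sigma.ι V j v) = q
      rw [hv']
      have h3 : (θ.inv ≫ θ.hom) q = q := by rw [θ.inv_hom_id]; rfl
      exact h3
    refine ⟨j, O, hqO, ?_⟩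
    rw [hsec j]
    have hrange : Set.range O.ι ⊆ Set.range (θj j) := by
      rw [Scheme.Opens.range_ι]
      exact subset_rfl
    let l : O.toScheme ⟶ V j := IsOpenImmersion.lift (θj j) O.ι hrange
    have hl : l ≫ θj j = O.ι := IsOpenImmersion.lift_fac _ _ _
    calc O.ι ≫ pullback.fst g f ≫ τ j
        = (l ≫ θj j) ≫ pullback.fst g f ≫ inv (c j) ≫ θj j := by rw [hl]
      _ = l ≫ (θj j ≫ pullback.fst g f) ≫ inv (c j) ≫ θj j := by simp only [Category.assoc]
      _ = l ≫ θj j := by rw [hθfst]; simp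
      _ = O.ι := hl
  · intro j k hjk a b hab
    rw [hsec j, hsec k] at hab
    have h1 : θ.hom (Sigma.ι V j ((inv (c j)) a)) = θ.hom (Sigma.ι V k ((inv (c k)) b)) := hab
    have hinj : ∀ t : ↥(∐ V), θ.inv (θ.hom t) = t := by
      intro t
      have h3 : (θ.hom ≫ θ.inv) t = t := by rw [θ.hom_inv_id]; rfl
      exact h3
    have h2 := congrArg (fun t => θ.inv t) h1
    simp only at h2
    rw [hinj, hinj] at h2
    have h4 := (sigmaι_eq_iff V j k _ _).1 h2
    exact hjk (congrArg Sigma.fst h4)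

end Base

section Sheaf

variable {W : Y.Etale} {n : ℕ} {σ : Fin n → (W.left ⟶ X)} {hσ : ∀ j, σ j ≫ f = W.hom}

theorem surj_base (hc : Cov f W σ hσ) (q : ((EtCoh.bc f).obj W).left) :
    ∃ (j : Fin n) (a : W.left), (secMap f W (σ j) (hσ j)).left a = q := by
  obtain ⟨j, O, hqO, hO⟩ := hc q
  refine ⟨j, (pullback.fst W.hom f : ((EtCoh.bc f).obj W).left ⟶ W.left) q, ?_⟩
  have h2 := congrArg (fun t => t ⟨q, hqO⟩) hO
  exact h2

/-- separatedness with respect to the graphs of the sections -/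
theorem sep (F : EtCoh.Ab X) (hc : Cov f W σ hσ) {Z : Y.Etale} (z : Z ⟶ W)
    (s₁ s₂ : F.obj.obj (op ((EtCoh.bc f).obj Z)))
    (h : ∀ j, F.obj.map (secMap f Z (z.left ≫ σ j) (hσ_comp f W σ hσ z j)).op s₁ =
      F.obj.map (secMap f Z (z.left ≫ σ j) (hσ_comp f W σ hσ z j)).op s₂) : s₁ = s₂ := by
  refine sep_family (F.obj ⋙ forget _) (ConstSite.isSheaf_type X.smallEtaleTopology F)
    (W := (EtCoh.bc f).obj Z) (K := Fin n)
    (fun j => secObj f Z (z.left ≫ σ j) (hσ_comp f W σ hσ z j))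
    (fun j => secMap f Z (z.left ≫ σ j) (hσ_comp f W σ hσ z j)) ?_ s₁ s₂ h
  intro q
  obtain ⟨j, a, ha⟩ := surj_of_cov f hc z q
  exact ⟨j, a, ha⟩

theorem bot_mem_of_isEmpty (Q : X.Etale) (h : IsEmpty Q.left) :
    (⊥ : Sieve Q) ∈ X.smallEtaleTopology Q := by
  rw [mem_et_iff]
  intro x
  exact (h.false x).elim

/-- gluing along the graphs of the sections -/
theorem glue (F : EtCoh.Ab X) (hc : Cov f W σ hσ) (hd : Disj f W σ hσ)
    (a : ∀ j, F.obj.obj (op (secObj f W (σ j) (hσ j)))) :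
    ∃ x : F.obj.obj (op ((EtCoh.bc f).obj W)),
      ∀ j, F.obj.map (secMap f W (σ j) (hσ j)).op x = a j := by
  let J := X.smallEtaleTopology
  let P := F.obj ⋙ forget AddCommGrpCat
  have hP : Presieve.IsSheaf J P := ConstSite.isSheaf_type J F
  let T : Fin n → X.Etale := fun j => secObj f W (σ j) (hσ j)
  let π : ∀ j, T j ⟶ (EtCoh.bc f).obj W := fun j => secMap f W (σ j) (hσ j)
  have hmem : Sieve.ofArrows T π ∈ J ((EtCoh.bc f).obj W) := by
    rw [mem_et_iff]
    intro q
    obtain ⟨j, b, hb⟩ := surj_base f hc q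
    exact ⟨T j, π j, b, Sieve.ofArrows_mk _ _ j, inferInstance, hb⟩
  have hsf : Presieve.IsSheafFor P (Presieve.ofArrows T π) :=
    (Presieve.isSheafFor_iff_generate _).2 (hP _ hmem)
  rw [Presieve.isSheafFor_arrows_iff] at hsf
  have hcomp : Presieve.Arrows.Compatible P π a := by
    intro i j Q gi gj hg
    by_cases hij : i = j
    · subst hij
      have hgg : gi = gj := by
        apply MorphismProperty.Over.Hom.ext
        have h1 : (gi.left ≫ (π i).left) ≫
            (pullback.fst W.hom f : ((EtCoh.bc f).obj W).left ⟶ W.left) =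
            (gj.left ≫ (π i).left) ≫
            (pullback.fst W.hom f : ((EtCoh.bc f).obj W).left ⟶ W.left) :=
          congrArg (fun t => t.left ≫
            (pullback.fst W.hom f : ((EtCoh.bc f).obj W).left ⟶ W.left)) hg
        have h2 : (gi.left ≫ (π i).left) ≫
            (pullback.fst W.hom f : ((EtCoh.bc f).obj W).left ⟶ W.left) = gi.left :=
          (Category.assoc _ _ _).trans ((congrArg (fun t => gi.left ≫ t)
            (secMap_left_fst f W _ _)).trans (Category.comp_id _))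
        have h3 : (gj.left ≫ (π i).left) ≫
            (pullback.fst W.hom f : ((EtCoh.bc f).obj W).left ⟶ W.left) = gj.left :=
          (Category.assoc _ _ _).trans ((congrArg (fun t => gj.left ≫ t)
            (secMap_left_fst f W _ _)).trans (Category.comp_id _))
        exact h2.symm.trans (h1.trans h3)
      rw [hgg]
    · have hempty : IsEmpty Q.left := by
        refine ⟨fun q => ?_⟩
        have h1 := congrArg (fun t => t.left q) hg
        exact hd i j hij _ _ h1
      have hbot := bot_mem_of_isEmpty Q hempty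
      exact ConstSite.eq_of_bot J F hbot _ _
  obtain ⟨x, hx, -⟩ := hsf a hcomp
  exact ⟨x, hx⟩

end Sheaf

section Transfer

/-- transfer of a sieve on `secObj Z s` (in the étale site of `X`) to a sieve on `Z`
(in the étale site of `Y`) -/
def transSieve (Z : Y.Etale) (s : Z.left ⟶ X) (hs : s ≫ f = Z.hom)
    (S : Sieve (secObj f Z s hs)) : Sieve Z where
  arrows Z' k := ∀ (s' : Z'.left ⟶ X) (hs' : s' = k.left ≫ s), S (secRes f k s hs s' hs')
  downward_closed := by
    intro Z₁ Z₂ k hk l s'' hs''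
    have h1 := hk (k.left ≫ s) rfl
    have hl : s'' = l.left ≫ (k.left ≫ s) := by
      rw [hs'']
      exact Category.assoc _ _ _
    have h2 : secRes f (l ≫ k) s hs s'' hs'' =
        secRes f l (k.left ≫ s) (by rw [Category.assoc, hs]; exact MorphismProperty.Over.w k)
          s'' hl ≫ secRes f k s hs (k.left ≫ s) rfl := by
      apply MorphismProperty.Over.Hom.ext
      rfl
    rw [h2]
    exact S.downward_closed h1 _

theorem transSieve_mem (Z : Y.Etale) (s : Z.left ⟶ X) (hs : s ≫ f = Z.hom)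
    (S : Sieve (secObj f Z s hs)) (hS : S ∈ X.smallEtaleTopology (secObj f Z s hs)) :
    transSieve f Z s hs S ∈ Y.smallEtaleTopology Z := by
  rw [mem_et_iff] at hS ⊢
  intro p
  obtain ⟨Q, q, p', hq, hqe, hp'⟩ := hS p
  haveI := hqe
  haveI : Etale Z.hom := Z.prop
  haveI : Etale (q.left ≫ Z.hom) := by
    have h1 : Etale q.left := hqe
    infer_instance
  let Z' : Y.Etale := Scheme.Etale.mk (q.left ≫ Z.hom)
  let k : Z' ⟶ Z := MorphismProperty.Over.homMk q.left rfl
  refine ⟨Z', k, p', ?_, hqe, hp'⟩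
  intro s' hs'
  have hQ : Q.hom = s' := by
    rw [hs']
    exact (MorphismProperty.Over.w q).symm
  let φ : secObj f Z' s' (by rw [hs', Category.assoc, hs]; rfl) ⟶ Q :=
    MorphismProperty.Over.homMk (𝟙 Q.left) (by
      show 𝟙 Q.left ≫ Q.hom = s'
      rw [Category.id_comp, hQ])
  have h2 : secRes f k s hs s' hs' = φ ≫ q := by
    apply MorphismProperty.Over.Hom.ext
    show q.left = 𝟙 Q.left ≫ q.left
    exact (Category.id_comp _).symm
  rw [h2]
  exact S.downward_closed hq _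

end Transfer

section Main

variable (F : EtCoh.Ab X) {W : Y.Etale} {n : ℕ} {σ : Fin n → (W.left ⟶ X)}
  {hσ : ∀ j, σ j ≫ f = W.hom}

theorem sep_base (hc : Cov f W σ hσ) (s₁ s₂ : F.obj.obj (op ((EtCoh.bc f).obj W)))
    (h : ∀ j, F.obj.map (secMap f W (σ j) (hσ j)).op s₁ =
      F.obj.map (secMap f W (σ j) (hσ j)).op s₂) : s₁ = s₂ := by
  refine sep_family (F.obj ⋙ forget _) (ConstSite.isSheaf_type X.smallEtaleTopology F)
    (W := (EtCoh.bc f).obj W) (K := Fin n)
    (fun j => secObj f W (σ j) (hσ j)) (fun j => secMap f W (σ j) (hσ j)) ?_ s₁ s₂ h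
  intro q
  obtain ⟨j, a, ha⟩ := surj_base f hc q
  exact ⟨j, a, ha⟩

theorem rho_nat {Z' Z : Y.Etale} (k : Z' ⟶ Z) (s : Z.left ⟶ X) (hs : s ≫ f = Z.hom)
    (s' : Z'.left ⟶ X) (hs' : s' = k.left ≫ s) (x : F.obj.obj (op ((EtCoh.bc f).obj Z))) :
    F.obj.map (secMap f Z' s'
      (by rw [hs', Category.assoc, hs]; exact MorphismProperty.Over.w k)).op
        (F.obj.map ((EtCoh.bc f).map k).op x) =
      F.obj.map (secRes f k s hs s' hs').op (F.obj.map (secMap f Z s hs).op x) := by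
  rw [ConstSite.map_map, ConstSite.map_map, secMap_naturality f k s hs s' hs']

theorem bot_transfer (Z : Y.Etale) (s : Z.left ⟶ X) (hs : s ≫ f = Z.hom)
    (h : (⊥ : Sieve (secObj f Z s hs)) ∈ X.smallEtaleTopology (secObj f Z s hs)) :
    (⊥ : Sieve Z) ∈ Y.smallEtaleTopology Z := by
  have h1 := transSieve_mem f Z s hs ⊥ h
  refine Y.smallEtaleTopology.superset_covering ?_ h1
  intro Z' k hk
  exact hk (k.left ≫ s) rfl

end Main

section Crit

variable (F : EtCoh.Ab X) {W : Y.Etale} {n : ℕ} {σ : Fin n → (W.left ⟶ X)}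
  {hσ : ∀ j, σ j ≫ f = W.hom}
  (M : Fin n → AddCommGrpCat.{u + 1})
  (α : ∀ j, F.over (secObj f W (σ j) (hσ j)) ≅
    ConstSite.cS.{u + 1, u, u + 1} (X.smallEtaleTopology.over (secObj f W (σ j) (hσ j))) (M j))

/-- the subgroup of sections of the direct image which are constant on every sheet -/
def sheetSubgroup : AddSubgroup (((EtCoh.push f).obj F).obj.obj (op W)) where
  carrier := {x | ∀ j, ∃ m : M j, F.obj.map (secMap f W (σ j) (hσ j)).op x =
    gen.{u + 1, u, u + 1} X.smallEtaleTopology F (secObj f W (σ j) (hσ j)) (α j) m}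
  zero_mem' := fun j => ⟨0, by rw [map_zero, map_zero]⟩
  add_mem' := by
    intro x y hx hy j
    obtain ⟨m, hm⟩ := hx j
    obtain ⟨m', hm'⟩ := hy j
    exact ⟨m + m', by rw [map_add, map_add, hm, hm']⟩
  neg_mem' := by
    intro x hx j
    obtain ⟨m, hm⟩ := hx j
    exact ⟨-m, by rw [map_neg, map_neg, hm]⟩

include α in
theorem push_finConst [∀ j, Finite (M j)] (hc : Cov f W σ hσ) (hd : Disj f W σ hσ) :
    ∃ (E₁ : AddCommGrpCat.{u + 1}) (_ : Finite E₁),
      Nonempty (((EtCoh.push f).obj F).over W ≅ ConstSite.cS.{u + 1, u, u + 1} (Y.smallEtaleTopology.over W) E₁) := by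
  classical
  let JX := X.smallEtaleTopology
  let JY := Y.smallEtaleTopology
  let E := (EtCoh.push f).obj F
  let H := sheetSubgroup f F M α
  let g : ∀ j, M j →+ F.obj.obj (op (secObj f W (σ j) (hσ j))) :=
    fun j => gen.{u + 1, u, u + 1} JX F (secObj f W (σ j) (hσ j)) (α j)
  -- glued sections
  have hglue : ∀ m : (∀ j, M j), ∃ x : F.obj.obj (op ((EtCoh.bc f).obj W)),
      ∀ j, F.obj.map (secMap f W (σ j) (hσ j)).op x = g j (m j) :=
    fun m => glue f F hc hd (fun j => g j (m j))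
  choose γ₀ hγ₀ using hglue
  have hHfin : Finite H := by
    have hsub : (H : Set (E.obj.obj (op W))) ⊆ Set.range γ₀ := by
      intro x hx
      choose m hm using hx
      refine ⟨m, ?_⟩
      apply sep_base f F hc
      intro j
      rw [hγ₀ m j]
      exact (hm j).symm
    exact ((Set.finite_range γ₀).subset hsub).to_subtype
  refine ⟨AddCommGrpCat.of H, hHfin, ?_⟩
  refine nonempty_iso_of_crit.{u + 1, u, u + 1} JY E W (E₁ := AddCommGrpCat.of H) H.subtype ?_ ?_
  · -- injectivity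
    rintro Z z ⟨x, hx⟩ hzx
    simp only at hzx
    by_cases hbot : ∃ j, (⊥ : Sieve (secObj f Z (z.left ≫ σ j) (hσ_comp f W σ hσ z j))) ∈
        JX (secObj f Z (z.left ≫ σ j) (hσ_comp f W σ hσ z j))
    · obtain ⟨j, hj⟩ := hbot
      exact Or.inr (bot_transfer f Z _ _ hj)
    · left
      apply Subtype.ext
      show x = 0
      apply sep_base f F hc
      intro j
      obtain ⟨m, hm⟩ := hx j
      have h1 := rho_nat f F z (σ j) (hσ j) (z.left ≫ σ j) rfl x
      have hzx' : F.obj.map ((EtCoh.bc f).map z).op x = 0 := hzx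
      rw [hzx', map_zero, hm] at h1
      have h2 : F.obj.map (secRes f z (σ j) (hσ j) (z.left ≫ σ j) rfl).op (g j m) =
          F.obj.map (secRes f z (σ j) (hσ j) (z.left ≫ σ j) rfl).op (g j 0) := by
        rw [← h1, map_zero, map_zero]
      rcases gen_inj.{u + 1, u, u + 1} JX F _ (α j) _ m 0 h2 with h3 | h3
      · rw [hm, h3, map_zero, map_zero]
      · exact absurd ⟨j, h3⟩ hbot
  · -- surjectivity
    intro Z z s
    have hS : ∀ j, ∃ S : Sieve (secObj f Z (z.left ≫ σ j) (hσ_comp f W σ hσ z j)),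
        S ∈ JX _ ∧ ∀ {Q : X.Etale} (q : Q ⟶ secObj f Z (z.left ≫ σ j) (hσ_comp f W σ hσ z j)),
          S q → ∃ m : M j,
            F.obj.map q.op (F.obj.map (secMap f Z (z.left ≫ σ j) (hσ_comp f W σ hσ z j)).op s) =
              F.obj.map (q ≫ secRes f z (σ j) (hσ j) (z.left ≫ σ j) rfl).op (g j m) :=
      fun j => gen_surj.{u + 1, u, u + 1} JX F _ (α j) (secRes f z (σ j) (hσ j) (z.left ≫ σ j) rfl)
        (F.obj.map (secMap f Z (z.left ≫ σ j) (hσ_comp f W σ hσ z j)).op s)
    choose S hSmem hSprop using hS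
    let S' : Fin n → Sieve Z := fun j => transSieve f Z (z.left ≫ σ j) _ (S j)
    have hS' : (⨅ j, S' j) ∈ JY Z :=
      iInf_mem_of_finite.{u + 1, u, u + 1} JY S' (fun j => transSieve_mem f Z _ _ (S j) (hSmem j))
    refine ⟨_, hS', ?_⟩
    intro Z' k hk
    have hk' : ∀ j, S' j k := fun j => (iInf_le S' j) _ hk
    have hs'eq : ∀ j, (k ≫ z).left ≫ σ j = k.left ≫ (z.left ≫ σ j) := fun j =>
      Category.assoc _ _ _
    have hm : ∀ j, ∃ m : M j,
        F.obj.map (secRes f k (z.left ≫ σ j) (hσ_comp f W σ hσ z j)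
          ((k ≫ z).left ≫ σ j) (hs'eq j)).op
          (F.obj.map (secMap f Z (z.left ≫ σ j) (hσ_comp f W σ hσ z j)).op s) =
        F.obj.map (secRes f k (z.left ≫ σ j) (hσ_comp f W σ hσ z j)
          ((k ≫ z).left ≫ σ j) (hs'eq j) ≫
            secRes f z (σ j) (hσ j) (z.left ≫ σ j) rfl).op (g j m) :=
      fun j => hSprop j _ (hk' j _ (hs'eq j))
    choose m hm using hm
    have hxH : γ₀ m ∈ H := fun j => ⟨m j, hγ₀ m j⟩
    refine ⟨⟨γ₀ m, hxH⟩, ?_⟩
    simp only
    apply sep f F hc (k ≫ z)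
    intro j
    have e1 := rho_nat f F k (z.left ≫ σ j) (hσ_comp f W σ hσ z j) ((k ≫ z).left ≫ σ j)
      (hs'eq j) s
    have e2 := rho_nat f F (k ≫ z) (σ j) (hσ j) ((k ≫ z).left ≫ σ j) rfl (γ₀ m)
    have e3 : secRes f (k ≫ z) (σ j) (hσ j) ((k ≫ z).left ≫ σ j) rfl =
        secRes f k (z.left ≫ σ j) (hσ_comp f W σ hσ z j) ((k ≫ z).left ≫ σ j) (hs'eq j) ≫
          secRes f z (σ j) (hσ j) (z.left ≫ σ j) rfl := by
      apply MorphismProperty.Over.Hom.ext
      rfl
    refine e1.trans ?_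
    refine (hm j).trans ?_
    rw [← e3, ← hγ₀ m j]
    exact e2.symm

end Crit

end PushSplit
end H9FE
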