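import Mathlib
import Groth.Agent.S0106
import Groth.Agent.S0071
import Groth.Agent.S14451
import Groth.Agent.S8536
import Groth.Agent.Lib.Helper9.FE.CsPull
import Groth.Agent.Lib.Helper9.FE.HpullComp
import Groth.Agent.Lib.Helper9.FE.FEtTraceSum

/-! helper9: finite étale surjective morphisms and the `K(π,1)` property: finiteness of the set of
connected components upstairs, classes killed by finite étale covers go up (via `f_*`) and down
(via composition) -/

set_option autoImplicit false
open CategoryTheory CategoryTheory.Limits AlgebraicGeometry Opposite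
universe u

namespace H9FE.KPi1FEt

set_option backward.isDefEq.respectTransparency false
set_option linter.style.haveILetI false
set_option linter.unusedSectionVars false

open Abelian

section Top

universe v

/-- a space in which every nonempty clopen subset meets a fixed finite set has finitely many
connected components -/
theorem finite_cc_of_meets : ∀ (k : ℕ) (Z : Type v) [TopologicalSpace Z] (S : Finset Z),
    S.card ≤ k → (∀ A : Set Z, IsClopen A → A.Nonempty → ∃ z ∈ S, z ∈ A) →
    Finite (ConnectedComponents Z) := by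
  classical
  intro k
  induction k with
  | zero =>
    intro Z _ S hS h
    have hS0 : S = ∅ := Finset.card_eq_zero.1 (Nat.le_zero.1 hS)
    haveI : IsEmpty Z := ⟨fun z => by
      obtain ⟨z', hz', -⟩ := h Set.univ isClopen_univ ⟨z, trivial⟩
      rw [hS0] at hz'
      exact absurd hz' (Finset.notMem_empty _)⟩
    exact Finite.of_surjective _ ConnectedComponents.surjective_coe
  | succ k ih =>
    intro Z _ S hS h
    by_cases hpc : PreconnectedSpace Z
    · haveI : Subsingleton (ConnectedComponents Z) := by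
        refine ⟨fun a b => ?_⟩
        obtain ⟨x, rfl⟩ := ConnectedComponents.surjective_coe a
        obtain ⟨y, rfl⟩ := ConnectedComponents.surjective_coe b
        rw [ConnectedComponents.coe_eq_coe', PreconnectedSpace.connectedComponent_eq_univ]
        trivial
      infer_instance
    · rw [preconnectedSpace_iff_clopen] at hpc
      push Not at hpc
      obtain ⟨A, hA, hAe, hAu⟩ := hpc
      have hAn : A.Nonempty := hAe
      have hAcn : Aᶜ.Nonempty := Set.nonempty_compl.2 hAu
      have hAc : IsClopen Aᶜ := hA.compl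
      obtain ⟨z1, hz1S, hz1A⟩ := h A hA hAn
      obtain ⟨z2, hz2S, hz2A⟩ := h Aᶜ hAc hAcn
      have key : ∀ (B : Set Z), IsClopen B → (∃ z ∈ S, z ∉ B) →
          Finite (ConnectedComponents ↥B) := by
        intro B hB ⟨z0, hz0S, hz0B⟩
        refine ih ↥B (S.subtype (· ∈ B)) ?_ ?_
        · have h1 : (S.subtype (· ∈ B)).card = (S.filter (· ∈ B)).card := Finset.card_subtype _ _
          have h2 : (S.filter (· ∈ B)).card < S.card :=
            Finset.card_lt_card (Finset.filter_ssubset.2 ⟨z0, hz0S, hz0B⟩)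
          omega
        · intro C hC hCn
          have hC' : IsClopen (Subtype.val '' C) :=
            ⟨hB.1.isClosedEmbedding_subtypeVal.isClosedMap C hC.1,
              hB.2.isOpenEmbedding_subtypeVal.isOpenMap C hC.2⟩
          obtain ⟨z, hzS, ⟨c, hcC, rfl⟩⟩ := h _ hC' (hCn.image _)
          exact ⟨c, Finset.mem_subtype.2 hzS, hcC⟩
      haveI := key A hA ⟨z2, hz2S, hz2A⟩
      haveI := key Aᶜ hAc ⟨z1, hz1S, fun hh => hh hz1A⟩
      let φ : ConnectedComponents ↥A ⊕ ConnectedComponents ↥(Aᶜ) → ConnectedComponents Z :=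
        Sum.elim (continuous_subtype_val.connectedComponentsMap)
          (continuous_subtype_val.connectedComponentsMap)
      refine Finite.of_surjective φ ?_
      intro c
      obtain ⟨z, rfl⟩ := ConnectedComponents.surjective_coe c
      by_cases hz : z ∈ A
      · exact ⟨Sum.inl (ConnectedComponents.mk ⟨z, hz⟩), rfl⟩
      · exact ⟨Sum.inr (ConnectedComponents.mk ⟨z, hz⟩), rfl⟩

end Top

/-- the source of a finite étale morphism to a scheme with finitely many connected components has
finitely many connected components -/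
theorem finite_cc {X Y : Scheme.{u}} (f : X ⟶ Y) [IsFinite f] [Etale f]
    (hconn : Finite (_root_.ConnectedComponents ↥Y)) :
    Finite (_root_.ConnectedComponents ↥X) := by
  classical
  haveI := hconn
  have hopen : IsOpenMap (fun x : ↥X => f.base x) := Scheme.Hom.isOpenMap f
  have hclosed : IsClosedMap (fun x : ↥X => f.base x) := Scheme.Hom.isClosedMap f
  let yc : _root_.ConnectedComponents ↥Y → ↥Y := fun c => Quotient.out c
  have hyc : ∀ c, (ConnectedComponents.mk (yc c)) = c := fun c => Quotient.out_eq c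
  let Fib : Set ↥X := ⋃ c, (fun x : ↥X => f.base x) ⁻¹' {yc c}
  have hFib : Fib.Finite :=
    Set.finite_iUnion (fun c => Scheme.Hom.finite_preimage_singleton f (yc c))
  refine finite_cc_of_meets hFib.toFinset.card ↥X hFib.toFinset le_rfl ?_
  rintro A hA ⟨a, ha⟩
  have himg : IsClopen ((fun x : ↥X => f.base x) '' A) := ⟨hclosed A hA.1, hopen A hA.2⟩
  have hsub : connectedComponent (f.base a) ⊆ (fun x : ↥X => f.base x) '' A :=
    himg.connectedComponent_subset ⟨a, ha, rfl⟩
  have hmem : yc (ConnectedComponents.mk (f.base a)) ∈ connectedComponent (f.base a) :=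
    ConnectedComponents.coe_eq_coe'.1 (hyc (ConnectedComponents.mk (f.base a)))
  obtain ⟨a', ha', hfa'⟩ := hsub hmem
  refine ⟨a', ?_, ha'⟩
  rw [Set.Finite.mem_toFinset]
  exact Set.mem_iUnion.2 ⟨_, hfa'⟩

section Killed

variable {X Y : Scheme.{u}}

lemma killedBy_iff (n : ℕ) (F : EtCoh.Ab X) : EtCoh.KilledBy n F ↔ n • 𝟙 F = 0 := by
  constructor
  · intro h
    apply Sheaf.hom_ext
    apply NatTrans.ext
    funext U
    apply AddCommGrpCat.hom_ext
    apply AddMonoidHom.ext
    intro s
    exact (H9FE.FEtTraceSum.nsmul_hom_app (𝟙 F) n U.unop s).trans (h U.unop s)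
  · intro h U s
    have h1 := H9FE.FEtTraceSum.nsmul_hom_app (𝟙 F) n U s
    rw [h] at h1
    exact h1.symm

lemma killedBy_pull (f : X ⟶ Y) (n : ℕ) (F : EtCoh.Ab Y) (h : EtCoh.KilledBy n F) :
    EtCoh.KilledBy n ((EtCoh.pull f).obj F) := by
  rw [killedBy_iff] at h ⊢
  have h1 := congrArg (EtCoh.pull f).map h
  rw [Functor.map_nsmul, Functor.map_zero, CategoryTheory.Functor.map_id] at h1
  exact h1

lemma killedBy_push (f : X ⟶ Y) (n : ℕ) (F : EtCoh.Ab X) (h : EtCoh.KilledBy n F) :
    EtCoh.KilledBy n ((EtCoh.push f).obj F) :=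
  fun U s => h ((EtCoh.bc f).obj U) s

end Killed

section Classes

variable {X Y : Scheme.{u}} (f : X ⟶ Y) [IsFinite f] [Etale f] [Surjective f]

/-- a class on `Y` whose pullback to `X` is killed by a finite étale cover of `X` is killed by a
finite étale cover of `Y` -/
theorem down (F : EtCoh.Ab Y) (q : ℕ) (ζ : EtCoh.H Y F q)
    (h : ∃ (X' : Scheme.{u}) (g : X' ⟶ X), IsFinite g ∧ Etale g ∧ Surjective g ∧
      ∀ [PreservesFiniteLimits (EtCoh.pull g)],
        EtCore.Hpull g ((EtCoh.pull f).obj F) q (EtCore.Hpull f F q ζ) = 0) :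
    ∃ (Y' : Scheme.{u}) (g : Y' ⟶ Y), IsFinite g ∧ Etale g ∧ Surjective g ∧
      ∀ [PreservesFiniteLimits (EtCoh.pull g)], EtCore.Hpull g F q ζ = 0 := by
  obtain ⟨X', g, hg1, hg2, hg3, hg0⟩ := h
  haveI := hg1
  haveI := hg2
  haveI := hg3
  refine ⟨X', g ≫ f, inferInstance, inferInstance, inferInstance, ?_⟩
  intro inst
  have h0 : EtCore.Hpull g ((EtCoh.pull f).obj F) q (EtCore.Hpull f F q ζ) = 0 := hg0
  exact (H9FE.HpullComp.Hpull_comp_eq_zero_iff g f (g ≫ f) rfl F q ζ).1 h0

/-- a class on `X` is killed by a finite étale cover of `X` as soon as the corresponding class of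
`f_* F` on `Y` is killed by a finite étale cover of `Y` -/
theorem up (F : EtCoh.Ab X) (q : ℕ) (ζ : EtCoh.H X F q)
    (hY : ∀ ζ' : EtCoh.H Y ((EtCoh.push f).obj F) q,
      ∃ (Y' : Scheme.{u}) (g : Y' ⟶ Y), IsFinite g ∧ Etale g ∧ Surjective g ∧
        ∀ [PreservesFiniteLimits (EtCoh.pull g)],
          EtCore.Hpull g ((EtCoh.push f).obj F) q ζ' = 0) :
    ∃ (X' : Scheme.{u}) (g : X' ⟶ X), IsFinite g ∧ Etale g ∧ Surjective g ∧
      ∀ [PreservesFiniteLimits (EtCoh.pull g)], EtCore.Hpull g F q ζ = 0 := by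
  have hb := Groth.Agent.S14451.result f F
    (fun q' hq' => Groth.Agent.S0071.result f F q' hq') q
  obtain ⟨ζ', hζ'⟩ := hb.2 ζ
  obtain ⟨Y', g, hg1, hg2, hg3, hg0⟩ := hY ζ'
  haveI := hg1
  haveI := hg2
  haveI := hg3
  refine ⟨pullback f g, pullback.fst f g, inferInstance, inferInstance, inferInstance, ?_⟩
  intro inst
  have h0 : EtCore.Hpull g ((EtCoh.push f).obj F) q ζ' = 0 := hg0
  have e1 : ζ = (EtCore.Hpull f ((EtCoh.push f).obj F) q ζ').comp
      (Ext.mk₀ ((EtCoh.pullPushAdj f).counit.app F)) (add_zero q) := hζ'.symm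
  have hw : pullback.snd f g ≫ g = pullback.fst f g ≫ f := pullback.condition.symm
  have e3 : EtCore.Hpull (pullback.fst f g ≫ f) ((EtCoh.push f).obj F) q ζ' = 0 :=
    (H9FE.HpullComp.Hpull_comp_eq_zero_iff (pullback.snd f g) g (pullback.fst f g ≫ f) hw
      ((EtCoh.push f).obj F) q ζ').1 (by rw [h0, map_zero])
  have e2 : EtCore.Hpull (pullback.fst f g) ((EtCoh.pull f).obj ((EtCoh.push f).obj F)) q
      (EtCore.Hpull f ((EtCoh.push f).obj F) q ζ') = 0 :=
    (H9FE.HpullComp.Hpull_comp_eq_zero_iff (pullback.fst f g) f (pullback.fst f g ≫ f) rfl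
      ((EtCoh.push f).obj F) q ζ').2 e3
  rw [e1, Groth.Agent.S8536.Aux.Hpull_comp, e2, Ext.zero_comp]

end Classes

end H9FE.KPi1FEt
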