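import Mathlib
import Groth.Prelude.Def_FEt
import Groth.Agent.Lib.Helper9.FE.ClopenCrit
/-! helper9: faithful restriction of finite étale covers from a neighbourhood of the punctured
hypersurface, via the clopen criterion and Krull's principal ideal theorem -/

open CategoryTheory CategoryTheory.Limits AlgebraicGeometry MorphismProperty
universe u
set_option linter.style.haveILetI false
set_option linter.unusedSectionVars false
set_option backward.isDefEq.respectTransparency false
namespace H9FE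
open H9SF

theorem krullStep (A : Type u) [CommRing A] [IsNoetherianRing A] [IsLocalRing A] (f : A)
    (hf : f ∈ IsLocalRing.maximalIdeal A) (p : Ideal A) [p.IsPrime]
    (hdim : (2 : WithBot ℕ∞) ≤ ringKrullDim (A ⧸ p)) :
    ∃ q : Ideal A, q.IsPrime ∧ p ≤ q ∧ f ∈ q ∧ q ≠ IsLocalRing.maximalIdeal A := by
  haveI : IsLocalRing (A ⧸ p) :=
    IsLocalRing.of_surjective' (Ideal.Quotient.mk p) Ideal.Quotient.mk_surjective
  have hle : p ⊔ Ideal.span {f} ≤ IsLocalRing.maximalIdeal A :=
    sup_le (IsLocalRing.le_maximalIdeal (Ideal.IsPrime.ne_top inferInstance))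
      ((Ideal.span_singleton_le_iff_mem _).mpr hf)
  obtain ⟨q, hq, hqm⟩ := Ideal.exists_minimalPrimes_le hle
  haveI := hq.isPrime
  refine ⟨q, hq.isPrime, le_sup_left.trans hq.1.2, hq.1.2 (Ideal.mem_sup_right (Ideal.mem_span_singleton_self f)), ?_⟩
  intro hqe
  have h1 := Ideal.map_height_le_one_of_mem_minimalPrimes hq
  rw [hqe] at h1
  have hmax : (Ideal.map (Ideal.Quotient.mk p) (IsLocalRing.maximalIdeal A)) =
      IsLocalRing.maximalIdeal (A ⧸ p) := by
    rcases Ideal.map_eq_top_or_isMaximal_of_surjective (Ideal.Quotient.mk p)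
      Ideal.Quotient.mk_surjective (IsLocalRing.maximalIdeal.isMaximal A) with h | h
    · exfalso
      have : (Ideal.map (Ideal.Quotient.mk p) (IsLocalRing.maximalIdeal A)).comap (Ideal.Quotient.mk p) = ⊤ := by
        rw [h]; rfl
      rw [Ideal.comap_map_of_surjective _ Ideal.Quotient.mk_surjective] at this
      have h2 : Ideal.comap (Ideal.Quotient.mk p) ⊥ ≤ IsLocalRing.maximalIdeal A := by
        rw [← RingHom.ker_eq_comap_bot, Ideal.mk_ker]
        exact IsLocalRing.le_maximalIdeal (Ideal.IsPrime.ne_top inferInstance)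
      rw [sup_eq_left.mpr h2] at this
      exact (IsLocalRing.maximalIdeal.isMaximal A).ne_top this
    · exact IsLocalRing.eq_maximalIdeal h
  rw [hmax, ← WithBot.coe_le_coe, IsLocalRing.maximalIdeal_height_eq_ringKrullDim] at h1
  have := hdim.trans h1
  norm_cast at this

theorem topStep (A : Type u) [CommRing A] [IsNoetherianRing A] [IsLocalRing A] (f : A)
    (hf : f ∈ IsLocalRing.maximalIdeal A) (U' : Set (PrimeSpectrum A))
    (hU₀ : ∀ q : PrimeSpectrum A, f ∈ q.asIdeal → q ≠ IsLocalRing.closedPoint A → q ∈ U')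
    (hdim : ∀ p : PrimeSpectrum A, p.asIdeal ∈ minimalPrimes A → p ∈ U' → f ∉ p.asIdeal →
      (2 : WithBot ℕ∞) ≤ ringKrullDim (A ⧸ p.asIdeal))
    (C : Set (PrimeSpectrum A)) (hCU : C ⊆ U') (hCo : IsOpen C)
    (hCc : ∀ p ∈ C, ∀ q ∈ U', p ⤳ q → q ∈ C)
    (hCf : ∀ q ∈ C, f ∉ q.asIdeal) : C = ∅ := by
  by_contra hne
  obtain ⟨c, hc⟩ := Set.nonempty_iff_ne_empty.mpr hne
  obtain ⟨p, hp, hpc⟩ := Ideal.exists_minimalPrimes_le (I := ⊥) (J := c.asIdeal) bot_le
  haveI := hp.isPrime
  let p' : PrimeSpectrum A := ⟨p, hp.isPrime⟩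
  have hpc' : p' ⤳ c := (PrimeSpectrum.le_iff_specializes p' c).mp hpc
  have hp'C : p' ∈ C := hpc'.mem_open hCo hc
  have hfp : f ∉ p := hCf p' hp'C
  have h2 := hdim p' hp (hCU hp'C) hfp
  obtain ⟨q, hqp, hpq, hfq, hqm⟩ := krullStep A f hf p h2
  let q' : PrimeSpectrum A := ⟨q, hqp⟩
  have hq'U : q' ∈ U' := hU₀ q' hfq (fun h => hqm (congrArg PrimeSpectrum.asIdeal h))
  have hq'C : q' ∈ C := hCc p' hp'C q' hq'U ((PrimeSpectrum.le_iff_specializes p' q').mp hpq)
  exact hCf q' hq'C hfq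

section Geo
variable {X X' : Scheme.{u}} (g : X' ⟶ X)

theorem restrict_faithful_of_clopen
    (hinj : ∀ (Y : FEt.Cat X) (T : Set Y.left), IsClopen T →
      (pullback.fst Y.hom g) ⁻¹' T = Set.univ → T = Set.univ) :
    (FEt.restrict g).Faithful := by
  apply faithful_of_reflects_mono_iso
  intro E Y e _ he
  apply isIso_of_mono_of_surjective
  rw [← Set.range_eq_univ]
  apply hinj Y _ (isClopen_range e.left)
  rw [← range_restrict_map, Set.range_eq_univ]
  haveI : IsIso ((FEt.restrict g).map e).left :=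
    inferInstanceAs (IsIso ((MorphismProperty.Over.forget FEt.prop.{u} ⊤ X' ⋙ Over.forget X').map
      ((FEt.restrict g).map e)))
  exact (ConcreteCategory.bijective_of_isIso ((FEt.restrict g).map e).left.base).2

/-- the image of the complement of a clopen `T` with full preimage misses the range of `g` -/
theorem image_compl_disjoint_range (Y : FEt.Cat X) (T : Set Y.left)
    (hT : (pullback.fst Y.hom g) ⁻¹' T = Set.univ) (z : Y.left) (hz : z ∉ T) (x' : X')
    (h : Y.hom z = g x') : False := by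
  obtain ⟨w, hw1, hw2⟩ := Scheme.Pullback.exists_preimage_pullback z x' h
  have : w ∈ (pullback.fst Y.hom g) ⁻¹' T := by rw [hT]; trivial
  exact hz (hw1 ▸ this)

end Geo

section
variable (A : Type u) [CommRing A] [IsLocalRing A] (f : A)
    (U' : (Spec (CommRingCat.of A)).Opens)
    (u' : pullback (FEt.puncturedSpec A).ι (Spec.map (CommRingCat.ofHom (Ideal.Quotient.mk (Ideal.span {f})))) ⟶ (U' : Scheme.{u})) (hu' : u' ≫ U'.ι = (pullback.fst (FEt.puncturedSpec A).ι (Spec.map (CommRingCat.ofHom (Ideal.Quotient.mk (Ideal.span {f})))) ≫ (FEt.puncturedSpec A).ι))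

include hu' in
theorem exists_lift_punct (q : PrimeSpectrum A) (hfq : f ∈ q.asIdeal)
    (hq : q ≠ IsLocalRing.closedPoint A) :
    ∃ w : ↥(pullback (FEt.puncturedSpec A).ι (Spec.map (CommRingCat.ofHom (Ideal.Quotient.mk (Ideal.span {f}))))), (U'.ι (u' w) : PrimeSpectrum A) = q := by
  have h1 : q ∈ Set.range (PrimeSpectrum.comap (Ideal.Quotient.mk (Ideal.span {f}))) := by
    rw [range_comap_of_surjective _ _ Ideal.Quotient.mk_surjective, Ideal.mk_ker]
    exact (PrimeSpectrum.mem_zeroLocus _ _).mpr ((Ideal.span_singleton_le_iff_mem _).mpr hfq)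
  obtain ⟨r, hr⟩ := h1
  let q₀ : ↥(FEt.puncturedSpec A : Scheme.{u}) := ⟨q, hq⟩
  obtain ⟨w, hw1, hw2⟩ := Scheme.Pullback.exists_preimage_pullback
    (f := (FEt.puncturedSpec A).ι) (g := Spec.map (CommRingCat.ofHom (Ideal.Quotient.mk (Ideal.span {f})))) q₀ r hr.symm
  refine ⟨w, ?_⟩
  have := congrArg (fun φ => (φ w : PrimeSpectrum A)) hu'
  simp only [Scheme.Hom.comp_apply] at this
  rw [this, hw1]
  rfl

end

theorem restrict_faithful_punctured (A : Type u) [CommRing A] [IsNoetherianRing A] [IsLocalRing A] (f : A) (hf : f ∈ IsLocalRing.maximalIdeal A)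
    (U' : (Spec (CommRingCat.of A)).Opens) (hU' : U' ≤ FEt.puncturedSpec A)
    (u' : pullback (FEt.puncturedSpec A).ι (Spec.map (CommRingCat.ofHom (Ideal.Quotient.mk (Ideal.span {f})))) ⟶ (U' : Scheme.{u})) (hu' : u' ≫ U'.ι = (pullback.fst (FEt.puncturedSpec A).ι (Spec.map (CommRingCat.ofHom (Ideal.Quotient.mk (Ideal.span {f})))) ≫ (FEt.puncturedSpec A).ι))
    (hdim : ∀ p : PrimeSpectrum A, p.asIdeal ∈ minimalPrimes A → p ∈ U' → f ∉ p.asIdeal →
      (2 : WithBot ℕ∞) ≤ ringKrullDim (A ⧸ p.asIdeal)) :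
    (FEt.restrict u').Faithful := by
  apply restrict_faithful_of_clopen u'
  intro Y T hT hpre
  have hYo : IsOpenMap Y.hom := by
    haveI : IsFinite Y.hom := Y.prop.1
    haveI : Etale Y.hom := Y.prop.2
    exact Y.hom.isOpenMap
  have hYc : IsClosedMap Y.hom := by
    haveI : IsFinite Y.hom := Y.prop.1
    exact Y.hom.isClosedMap
  let C : Set (PrimeSpectrum A) := (fun z => (U'.ι (Y.hom z) : PrimeSpectrum A)) '' Tᶜ
  have hC : C = ∅ := by
    apply topStep A f hf {q : PrimeSpectrum A | q ∈ U'}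
    · intro q hfq hq
      obtain ⟨w, hw⟩ := exists_lift_punct A f U' u' hu' q hfq hq
      rw [← hw]
      exact (u' w).2
    · exact hdim
    · rintro _ ⟨z, _, rfl⟩
      exact (Y.hom z).2
    · have : C = U'.ι '' (Y.hom '' Tᶜ) := by
        rw [Set.image_image]
      rw [this]
      exact U'.ι.isOpenEmbedding.isOpenMap _ (hYo _ hT.1.isOpen_compl)
    · rintro _ ⟨z, hz, rfl⟩ q hq hsp
      let q' : ↥(U' : Scheme.{u}) := ⟨q, hq⟩
      have h1 : Y.hom z ⤳ q' :=
        (U'.ι.isOpenEmbedding.isInducing.specializes_iff).mp hsp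
      have h2 : q' ∈ Y.hom '' Tᶜ :=
        h1.mem_closed (hYc _ hT.2.isClosed_compl) ⟨z, hz, rfl⟩
      obtain ⟨z', hz', hzq⟩ := h2
      exact ⟨z', hz', congrArg (fun t => (U'.ι t : PrimeSpectrum A)) hzq⟩
    · rintro _ ⟨z, hz, rfl⟩ hfz
      have hne : (U'.ι (Y.hom z) : PrimeSpectrum A) ≠ IsLocalRing.closedPoint A :=
        hU' (Y.hom z).2
      obtain ⟨w, hw⟩ := exists_lift_punct A f U' u' hu' _ hfz hne
      have : u' w = Y.hom z := U'.ι.isOpenEmbedding.injective hw
      exact image_compl_disjoint_range u' Y T hpre z hz w this.symm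
  rw [Set.image_eq_empty] at hC
  exact Set.compl_empty_iff.mp hC


end H9FE
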