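import Mathlib
import Groth.Prelude.Def_EtCore
import Groth.Prelude.Def_EtGm
import Groth.Prelude.Def_EtLim
import Groth.Agent.Lib.Helper9.FE.LimSys

/-! helper9: cohomology of a limit of schemes for restrictions of big étale sheaves: for a big étale
sheaf `P` (e.g. `G_a`, `G_m`) whose sections commute with the limits `V ×_{X_j} X = lim_k V ×_{X_j} X_k`
for affine étale `V → X_j` (`PInj`, `PSurj`), `H^n(X, P) = colim_j H^n(X_j, P)` (`big_thm`). -/

set_option autoImplicit false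
set_option linter.unusedSectionVars false
set_option linter.style.haveILetI false
set_option backward.isDefEq.respectTransparency false
universe u
open CategoryTheory CategoryTheory.Limits AlgebraicGeometry Opposite Abelian

namespace H9FE.LimBig
open H9FE.LimTower H9FE.EtTr H9FE.LimPush H9FE.LimNull H9FE.LimCmp H9FE.LimGeom H9FE.LimSys

variable (P : Scheme.{u}ᵒᵖ ⥤ AddCommGrpCat.{u + 1})
  (hP : Presheaf.IsSheaf Scheme.etaleTopology P)

/-- the restriction of a big étale sheaf to the small étale site -/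
noncomputable def sm (X : Scheme.{u}) : EtCoh.Ab X :=
  ((Scheme.Etale.forget X ⋙ Over.forget X).sheafPushforwardContinuous _ _
    Scheme.etaleTopology).obj ⟨P, hP⟩

/-- functoriality of the restriction in the scheme -/
noncomputable def smPush {X Y : Scheme.{u}} (f : X ⟶ Y) :
    sm P hP Y ⟶ (EtCoh.push f).obj (sm P hP X) :=
  ObjectProperty.homMk (Functor.whiskerRight (NatTrans.op (EtLim.bcProj f)) P)

lemma gm_eq (X : Scheme.{u}) : EtCoh.Gm X = sm EtCoh.ΓUnits EtCoh.isSheaf_ΓUnits X := rfl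
lemma ga_eq (X : Scheme.{u}) : EtCoh.Ga X = sm EtCoh.ΓAdd EtCoh.isSheaf_ΓAdd X := rfl
lemma gmPush_eq {X Y : Scheme.{u}} (f : X ⟶ Y) :
    EtLim.GmPush f = smPush EtCoh.ΓUnits EtCoh.isSheaf_ΓUnits f := rfl
lemma gaPush_eq {X Y : Scheme.{u}} (f : X ⟶ Y) :
    EtLim.GaPush f = smPush EtCoh.ΓAdd EtCoh.isSheaf_ΓAdd f := rfl

lemma sm_map {X : Scheme.{u}} {V W : X.Etale} (g : W ⟶ V) :
    (sm P hP X).obj.map g.op = P.map g.left.op := rfl

lemma smPush_app {X Y : Scheme.{u}} (f : X ⟶ Y) (V : Y.Etale) :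
    (smPush P hP f).hom.app (op V) = P.map (p1 f V).op := rfl

section System

variable {ι : Type u} [Preorder ι] [IsDirected ι (· ≤ ·)] (Xs : ιᵒᵖ ⥤ Scheme.{u}) (c : Cone Xs)

/-- the system of restrictions of a big étale sheaf to the stages -/
noncomputable def bigSys : Sys Xs where
  obj j := sm P hP (XX Xs j)
  θ {j k} h := smPush P hP (uu Xs h)
  cocycle {j k l} hjk hkl := by
    apply Sheaf.hom_ext
    ext V : 2
    obtain ⟨V⟩ := V
    rw [ObjectProperty.FullSubcategory.comp_hom, ObjectProperty.FullSubcategory.comp_hom,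
      NatTrans.comp_app, NatTrans.comp_app, pc_hom_app, sm_map, smPush_app, smPush_app]
    have h1 : ((EtCoh.push (uu Xs hjk)).map (smPush P hP (uu Xs hkl))).hom.app (op V) =
        (smPush P hP (uu Xs hkl)).hom.app (op ((EtCoh.bc (uu Xs hjk)).obj V)) := rfl
    rw [h1, smPush_app, ← Functor.map_comp, ← Functor.map_comp, ← op_comp, ← op_comp,
      Category.assoc, pcMor_p1_p1]

/-- the morphism from the system of restrictions to the push tower of the restriction to the
limit -/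
noncomputable def bigHom : Sys.Hom (bigSys P hP Xs) (RSys c (sm P hP c.pt)) where
  app j := smPush P hP (cu Xs c j)
  comm {j k} h := by
    rw [← cancel_mono ((pc (cu Xs c k) (uu Xs h) (cu Xs c j) (cu_comp Xs c h)).hom.app
      (sm P hP c.pt))]
    have e : (RSys c (sm P hP c.pt)).θ h ≫
        (pc (cu Xs c k) (uu Xs h) (cu Xs c j) (cu_comp Xs c h)).hom.app (sm P hP c.pt) = 𝟙 _ :=
      Iso.inv_hom_id_app (pc (cu Xs c k) (uu Xs h) (cu Xs c j) (cu_comp Xs c h)) (sm P hP c.pt)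
    rw [Category.assoc, Category.assoc, e, Category.comp_id]
    apply Sheaf.hom_ext
    ext V : 2
    obtain ⟨V⟩ := V
    rw [ObjectProperty.FullSubcategory.comp_hom, ObjectProperty.FullSubcategory.comp_hom,
      NatTrans.comp_app, NatTrans.comp_app, pc_hom_app, sm_map, smPush_app]
    have h0 : ((bigSys P hP Xs).θ h).hom.app (op V) = P.map (p1 (uu Xs h) V).op := rfl
    have h1 : ((EtCoh.push (uu Xs h)).map (smPush P hP (cu Xs c k))).hom.app (op V) =
        (smPush P hP (cu Xs c k)).hom.app (op ((EtCoh.bc (uu Xs h)).obj V)) := rfl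
    rw [h0, h1, smPush_app, ← Functor.map_comp, ← Functor.map_comp, ← op_comp, ← op_comp,
      Category.assoc, pcMor_p1_p1]

lemma pcInv_cvπ {j k : ι} (h : j ≤ k) (V : (XX Xs j).Etale) :
    (pcInv (cu Xs c k) (uu Xs h) (cu Xs c j) (cu_comp Xs c h) V).left ≫ cvπ Xs c j V h =
      p1 (cu Xs c k) ((EtCoh.bc (uu Xs h)).obj V) := by
  apply p_hom_ext (uu Xs h) V
  · rw [Category.assoc, cvπ_p1, pcInv_p1]
  · rw [Category.assoc, cvπ_p2, pcInv_p2_assoc]
    exact (p_cond (cu Xs c k) ((EtCoh.bc (uu Xs h)).obj V)).symm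

/-- injectivity hypothesis on the big sheaf -/
def PInj : Prop :=
  ∀ (j : ι) (V : (XX Xs j).Etale), IsAffine V.left → ∀ s : P.obj (op V.left),
    P.map (p1 (cu Xs c j) V).op s = 0 → ∃ (k : ι) (h : j ≤ k), P.map (p1 (uu Xs h) V).op s = 0

/-- surjectivity hypothesis on the big sheaf -/
def PSurj : Prop :=
  ∀ (j : ι) (V : (XX Xs j).Etale), IsAffine V.left →
    ∀ t : P.obj (op ((EtCoh.bc (cu Xs c j)).obj V).left),
      ∃ (k : ι) (h : j ≤ k) (s : P.obj (op ((EtCoh.bc (uu Xs h)).obj V).left)),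
        P.map (cvπ Xs c j V h).op s = t

variable {P Xs c}

lemma hK_of (hI : PInj P Xs c) : HK c (sm P hP c.pt) (bigHom P hP Xs c) := by
  intro j V hV s hs
  exact hI j V hV s hs

lemma hC_of (hS : PSurj P Xs c) : HC c (sm P hP c.pt) (bigHom P hP Xs c) := by
  intro j W hW t
  obtain ⟨k, h, s, hs⟩ := hS j W hW t
  refine ⟨k, h, 1, fun _ => (EtCoh.bc (uu Xs h)).obj W, fun _ => 𝟙 _, ?_, ?_⟩
  · intro x
    exact ⟨0, x, rfl⟩
  · intro b
    refine ⟨s, ?_⟩
    have e1 : ((RSys c (sm P hP c.pt)).θ h).hom.app (op W) =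
        (sm P hP c.pt).obj.map
          (pcInv (cu Xs c k) (uu Xs h) (cu Xs c j) (cu_comp Xs c h) W).op :=
      pc_inv_app _ _ _ _ _ W
    rw [e1, sm_map, op_id, CategoryTheory.Functor.map_id]
    change P.map (p1 (cu Xs c k) ((EtCoh.bc (uu Xs h)).obj W)).op s =
      P.map (pcInv (cu Xs c k) (uu Xs h) (cu Xs c j) (cu_comp Xs c h) W).left.op t
    rw [← hs, ← ConcreteCategory.comp_apply, ← Functor.map_comp, ← op_comp, pcInv_cvπ]

variable (hqc : ∀ x, CompactSpace ↥(Xs.obj x)) (hqs : ∀ x, QuasiSeparatedSpace ↥(Xs.obj x))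

include hqc hqs in
/-- the limit theorem for the restrictions of a big étale sheaf commuting with the limit on
sections -/
theorem big_thm [Nonempty ι] (haff : ∀ ⦃x y : ιᵒᵖ⦄ (h : x ⟶ y), IsAffineHom (Xs.map h))
    (hc : IsLimit c) (hI : PInj P Xs c) (hS : PSurj P Xs c) (n : ℕ) :
    (∀ ξ : EtCoh.H c.pt (sm P hP c.pt) n,
      ∃ (j : ι) (α : EtCoh.H (XX Xs j) (sm P hP (XX Xs j)) n),
        EtLim.HofPush (cu Xs c j) (sm P hP c.pt) n
          (((EtCoh.HF _ n).map (smPush P hP (cu Xs c j))).hom α) = ξ) ∧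
    (∀ (j : ι) (α : EtCoh.H (XX Xs j) (sm P hP (XX Xs j)) n),
      EtLim.HofPush (cu Xs c j) (sm P hP c.pt) n
          (((EtCoh.HF _ n).map (smPush P hP (cu Xs c j))).hom α) = 0 →
        ∃ (k : ι) (h : j ≤ k), EtLim.HofPush (uu Xs h) (sm P hP (XX Xs k)) n
          (((EtCoh.HF _ n).map (smPush P hP (uu Xs h))).hom α) = 0) := by
  obtain ⟨h1, h2⟩ := sys_thm hqc hqs haff hc (hK_of hP hI) (hC_of hP hS) n
  refine ⟨h1, ?_⟩
  intro j α hα
  obtain ⟨k, h, hk⟩ := h2 j α hα
  refine ⟨k, h, ?_⟩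
  rw [← hk]
  exact (tr_eq_HofPush (uu Xs h) (smPush P hP (uu Xs h)) n α).symm

end System

end H9FE.LimBig
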