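import Mathlib
import Groth.Prelude.Def_EtCore
import Groth.Prelude.Def_EtGm
import Groth.Prelude.Def_EtLim
import Groth.Agent.Lib.Helper9.FE.LimBig1

/-! helper9: global functions and units of global functions commute with the limits
`V ×_{X_j} X = lim_k V ×_{X_j} X_k` (for affine étale `V → X_j`, affine transition maps): the
hypotheses `PInj`, `PSurj` of `big_thm` for the big sheaves `G_a` and `G_m`. -/

set_option autoImplicit false
set_option linter.unusedSectionVars false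
set_option linter.style.haveILetI false
set_option backward.isDefEq.respectTransparency false
universe u
open CategoryTheory CategoryTheory.Limits AlgebraicGeometry Opposite Abelian

namespace H9FE.LimBig
open H9FE.LimTower H9FE.EtTr H9FE.LimPush H9FE.LimNull H9FE.LimCmp H9FE.LimGeom H9FE.LimSys

variable {ι : Type u} [Preorder ι] [IsDirected ι (· ≤ ·)] (Xs : ιᵒᵖ ⥤ Scheme.{u}) (c : Cone Xs)
  (haff : ∀ ⦃x y : ιᵒᵖ⦄ (h : x ⟶ y), IsAffineHom (Xs.map h)) (hc : IsLimit c)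

lemma cvπ_dvMap (j : ι) (V : (XX Xs j).Etale) {k l : ι} (hk : j ≤ k) (hkl : k ≤ l) :
    cvπ Xs c j V (hk.trans hkl) ≫ dvMap Xs j V hk hkl = cvπ Xs c j V hk := by
  apply p_hom_ext
  · rw [Category.assoc, dvMap_p1, cvπ_p1, cvπ_p1]
  · rw [Category.assoc, dvMap_p2, cvπ_p2_assoc, cvπ_p2, cu_comp]

include haff hc in
/-- a global function on `V ×_{X_j} X_k` vanishing on `V ×_{X_j} X` vanishes at a later stage -/
lemma ring_inj (j : ι) (V : (XX Xs j).Etale) [CompactSpace V.left] [QuasiSeparatedSpace V.left]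
    {k : ι} (hk : j ≤ k) (x : Γ(((EtCoh.bc (uu Xs hk)).obj V).left, ⊤))
    (hx : (cvπ Xs c j V hk).appTop x = 0) :
    ∃ (l : ι) (hkl : k ≤ l), (dvMap Xs j V hk hkl).appTop x = 0 := by
  haveI : ∀ {a b : (Up j)ᵒᵖ} (t : a ⟶ b), IsAffineHom ((Dv Xs j V).map t) :=
    fun t => dv_affine Xs haff j V t
  haveI : CompactSpace ((Dv Xs j V).obj (op ⟨k, hk⟩)) := (dv_qcqs Xs haff j V hk).1
  obtain ⟨l, f, hl⟩ := exists_appTop_map_eq_zero_of_isLimit (Dv Xs j V) (cv Xs c j V)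
    (cvIsLimit Xs c j V hc) (i := op ⟨k, hk⟩) x hx
  obtain ⟨⟨l, hl'⟩⟩ := l
  exact ⟨l, leOfHom f.unop, hl⟩

include haff hc in
/-- a global function on `V ×_{X_j} X` comes from some stage -/
lemma ring_surj (j : ι) (V : (XX Xs j).Etale) [CompactSpace V.left] [QuasiSeparatedSpace V.left]
    (y : Γ(((EtCoh.bc (cu Xs c j)).obj V).left, ⊤)) :
    ∃ (k : ι) (hk : j ≤ k) (x : Γ(((EtCoh.bc (uu Xs hk)).obj V).left, ⊤)),
      (cvπ Xs c j V hk).appTop x = y := by
  haveI : ∀ {a b : (Up j)ᵒᵖ} (t : a ⟶ b), IsAffineHom ((Dv Xs j V).map t) :=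
    fun t => dv_affine Xs haff j V t
  haveI : ∀ i, CompactSpace ((Dv Xs j V).obj i) := fun i => (dv_qcqs Xs haff j V i.unop.2).1
  haveI : ∀ i, QuasiSeparatedSpace ((Dv Xs j V).obj i) :=
    fun i => (dv_qcqs Xs haff j V i.unop.2).2
  obtain ⟨i, x, hx⟩ := exists_appTop_π_eq_of_isLimit (Dv Xs j V) (cv Xs c j V)
    (cvIsLimit Xs c j V hc) y
  obtain ⟨⟨k, hk⟩⟩ := i
  exact ⟨k, hk, x, hx.symm⟩

section Ga

lemma ΓAdd_map_down {S T : Scheme.{u}} (f : S ⟶ T) (s : EtCoh.ΓAdd.obj (op T)) :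
    ((EtCoh.ΓAdd.map f.op) s).down = f.appTop s.down := rfl

lemma ΓAdd_ext {T : Scheme.{u}} (s t : EtCoh.ΓAdd.obj (op T)) (h : s.down = t.down) : s = t :=
  ULift.ext _ _ h

lemma ΓAdd_zero_down {T : Scheme.{u}} : (0 : EtCoh.ΓAdd.obj (op T)).down = 0 := rfl

include haff hc in
lemma pInj_Ga : PInj EtCoh.ΓAdd Xs c := by
  intro j V hV s hs
  haveI := hV
  have h0 : (p1 (cu Xs c j) V).appTop s.down = 0 := by
    have := congrArg ULift.down hs
    exact this
  have h1 : (cvπ Xs c j V (le_refl j)).appTop ((p1 (uu Xs (le_refl j)) V).appTop s.down) = 0 := by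
    rw [← ConcreteCategory.comp_apply, ← Scheme.Hom.comp_appTop, cvπ_p1]
    exact h0
  obtain ⟨l, hl, hx⟩ := ring_inj Xs c haff hc j V (le_refl j) _ h1
  refine ⟨l, hl, ?_⟩
  apply ΓAdd_ext
  rw [ΓAdd_map_down, ΓAdd_zero_down]
  rw [← ConcreteCategory.comp_apply, ← Scheme.Hom.comp_appTop, dvMap_p1] at hx
  exact hx

include haff hc in
lemma pSurj_Ga : PSurj EtCoh.ΓAdd Xs c := by
  intro j V hV t
  haveI := hV
  obtain ⟨k, hk, x, hx⟩ := ring_surj Xs c haff hc j V t.down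
  refine ⟨k, hk, ULift.up x, ?_⟩
  apply ΓAdd_ext
  rw [ΓAdd_map_down]
  exact hx

end Ga

section Gm

/-- the underlying global function of a section of `ΓUnits` -/
def uval {T : Scheme.{u}} (s : EtCoh.ΓUnits.obj (op T)) : Γ(T, ⊤) :=
  ((Additive.toMul s.down : (Γ(T, ⊤))ˣ) : Γ(T, ⊤))

/-- the section of `ΓUnits` given by a unit -/
def umk {T : Scheme.{u}} (v : (Γ(T, ⊤))ˣ) : EtCoh.ΓUnits.obj (op T) :=
  ULift.up (Additive.ofMul v)

lemma uval_umk {T : Scheme.{u}} (v : (Γ(T, ⊤))ˣ) : uval (umk v) = v := rfl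

lemma uval_map {S T : Scheme.{u}} (f : S ⟶ T) (s : EtCoh.ΓUnits.obj (op T)) :
    uval ((EtCoh.ΓUnits.map f.op) s) = f.appTop (uval s) := rfl

lemma uval_zero {T : Scheme.{u}} : uval (0 : EtCoh.ΓUnits.obj (op T)) = 1 := rfl

lemma uval_ext {T : Scheme.{u}} (s t : EtCoh.ΓUnits.obj (op T)) (h : uval s = uval t) : s = t := by
  apply ULift.ext
  apply Additive.toMul.injective
  exact Units.ext h

include haff hc in
lemma pInj_Gm : PInj EtCoh.ΓUnits Xs c := by
  intro j V hV s hs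
  haveI := hV
  have h0 : (p1 (cu Xs c j) V).appTop (uval s) = 1 := by
    have := congrArg uval hs
    rw [uval_map, uval_zero] at this
    exact this
  have h1 : (cvπ Xs c j V (le_refl j)).appTop
      ((p1 (uu Xs (le_refl j)) V).appTop (uval s - 1)) = 0 := by
    rw [← ConcreteCategory.comp_apply, ← Scheme.Hom.comp_appTop, cvπ_p1, map_sub, h0, map_one,
      sub_self]
  obtain ⟨l, hl, hx⟩ := ring_inj Xs c haff hc j V (le_refl j) _ h1
  refine ⟨l, hl, ?_⟩
  apply uval_ext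
  rw [uval_map, uval_zero]
  rw [← ConcreteCategory.comp_apply, ← Scheme.Hom.comp_appTop, dvMap_p1, map_sub, map_one,
    sub_eq_zero] at hx
  exact hx

include haff hc in
lemma pSurj_Gm : PSurj EtCoh.ΓUnits Xs c := by
  intro j V hV t
  haveI := hV
  let v : (Γ(((EtCoh.bc (cu Xs c j)).obj V).left, ⊤))ˣ := Additive.toMul t.down
  obtain ⟨k₁, hk₁, a, ha⟩ := ring_surj Xs c haff hc j V v.val
  obtain ⟨k₂, hk₂, b, hb⟩ := ring_surj Xs c haff hc j V (v⁻¹).val
  obtain ⟨k, h1k, h2k⟩ := exists_ge_ge k₁ k₂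
  -- move to the common stage
  let a' := (dvMap Xs j V hk₁ h1k).appTop a
  let b' := (dvMap Xs j V hk₂ h2k).appTop b
  have ha' : (cvπ Xs c j V (hk₁.trans h1k)).appTop a' = v.val := by
    rw [← ha, ← ConcreteCategory.comp_apply, ← Scheme.Hom.comp_appTop, cvπ_dvMap]
  have hb' : (cvπ Xs c j V (hk₁.trans h1k)).appTop b' = (v⁻¹).val := by
    rw [← hb, ← ConcreteCategory.comp_apply, ← Scheme.Hom.comp_appTop]
    exact congrArg (fun f => f.appTop b) (cvπ_dvMap Xs c j V hk₂ h2k)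
  have h1 : (cvπ Xs c j V (hk₁.trans h1k)).appTop (a' * b' - 1) = 0 := by
    rw [map_sub, map_mul, ha', hb', map_one, Units.mul_inv, sub_self]
  obtain ⟨l, hkl, hx⟩ := ring_inj Xs c haff hc j V (hk₁.trans h1k) _ h1
  rw [map_sub, map_mul, map_one, sub_eq_zero] at hx
  let w : (Γ(((EtCoh.bc (uu Xs ((hk₁.trans h1k).trans hkl))).obj V).left, ⊤))ˣ :=
    ⟨(dvMap Xs j V (hk₁.trans h1k) hkl).appTop a', (dvMap Xs j V (hk₁.trans h1k) hkl).appTop b',
      hx, by rw [mul_comm]; exact hx⟩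
  refine ⟨l, (hk₁.trans h1k).trans hkl, umk w, ?_⟩
  apply uval_ext
  rw [uval_map, uval_umk]
  change (cvπ Xs c j V ((hk₁.trans h1k).trans hkl)).appTop
    ((dvMap Xs j V (hk₁.trans h1k) hkl).appTop a') = v.val
  rw [← ha', ← ConcreteCategory.comp_apply, ← Scheme.Hom.comp_appTop, cvπ_dvMap]

end Gm

end H9FE.LimBig
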