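import Mathlib
import Groth.Prelude.Def_EtCore
import Groth.Prelude.Def_EtLim
import Groth.Agent.Lib.Helper9.FE.LimPull4

/-! helper9: cohomology of a limit of schemes, pull version part 5: for a tower with a bottom stage
`o` and a sheaf `F` on `X_o`, `H^n(X, f_o⁻¹ F) = colim_j H^n(X_j, F|_{X_j})` (`pull_thm`,
elementwise form with `HpullVia` and `Hpull`). -/

set_option autoImplicit false
set_option linter.unusedSectionVars false
set_option linter.style.haveILetI false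
set_option backward.isDefEq.respectTransparency false
universe u
open CategoryTheory CategoryTheory.Limits AlgebraicGeometry Opposite Abelian

namespace H9FE.LimPull
open H9FE.LimTower H9FE.EtTr H9FE.LimNull H9FE.LimGeom H9FE.EtQcClass H9FE.LimLoc
  Groth.Agent.Lib.Helper5 H9FE.LimSys

variable {ι : Type u} [Preorder ι] [IsDirected ι (· ≤ ·)] {Xs : ιᵒᵖ ⥤ Scheme.{u}}
  (haff : ∀ ⦃a b : ιᵒᵖ⦄ (h : a ⟶ b), IsAffineHom (Xs.map h))
  (hqc : ∀ x, CompactSpace ↥(Xs.obj x)) (hqs : ∀ x, QuasiSeparatedSpace ↥(Xs.obj x))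
  (c : Cone Xs) (hc : IsLimit c)
  (o : ι) (ho : ∀ l, o ≤ l) (F : EtCoh.Ab (XX Xs o))

include haff hqc hqs hc in
/-- the cohomology of the pullback to the limit of a sheaf on the bottom stage is the colimit of the
cohomology of its pullbacks to the stages -/
theorem pull_thm [∀ l, PreservesFiniteLimits (EtCoh.pull (cu Xs c l))]
    [∀ {l m : ι} (h : l ≤ m), PreservesFiniteLimits (EtCoh.pull (uu Xs h))] (n : ℕ) :
    (∀ ξ : EtCoh.H c.pt ((EtCoh.pull (cu Xs c o)).obj F) n,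
      ∃ (j : ι) (α : EtCoh.H (XX Xs j) ((EtCoh.pull (uu Xs (ho j))).obj F) n),
        EtCore.HpullVia (cu Xs c j) (uu Xs (ho j)) (cu Xs c o) (cu_comp Xs c (ho j)) F n α = ξ) ∧
    (∀ (j : ι) (α : EtCoh.H (XX Xs j) ((EtCoh.pull (uu Xs (ho j))).obj F) n),
      EtCore.HpullVia (cu Xs c j) (uu Xs (ho j)) (cu Xs c o) (cu_comp Xs c (ho j)) F n α = 0 →
        ∃ (k : ι) (h : j ≤ k),
          EtCore.Hpull (uu Xs h) ((EtCoh.pull (uu Xs (ho j))).obj F) n α = 0) := by
  haveI : Nonempty ι := ⟨o⟩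
  obtain ⟨h1, h2⟩ := sys_thm (c := c) (M := (EtCoh.pull (cu Xs c o)).obj F)
    (a := pullHom c o ho F) hqc hqs haff hc (hK_pull haff c hc o ho F) (hC_pull haff c hc o ho F) n
  have key : ∀ (j : ι) (α : EtCoh.H (XX Xs j) ((EtCoh.pull (uu Xs (ho j))).obj F) n),
      hJ c ((EtCoh.pull (cu Xs c o)).obj F) j n
        (((EtCoh.HF _ n).map ((pullHom c o ho F).app j)).hom α) =
      EtCore.HpullVia (cu Xs c j) (uu Xs (ho j)) (cu Xs c o) (cu_comp Xs c (ho j)) F n α := by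
    intro j α
    have e1 := tr_eq_HofPush (cu Xs c j)
      (psi (cu Xs c j) (uu Xs (ho j)) (cu Xs c o) (cu_comp Xs c (ho j)) F) n α
    have e2 := tr_psi (cu Xs c j) (uu Xs (ho j)) (cu Xs c o) (cu_comp Xs c (ho j)) F n α
    exact e1.symm.trans e2
  constructor
  · intro ξ
    obtain ⟨j, α, hα⟩ := h1 ξ
    exact ⟨j, α, (key j α).symm.trans hα⟩
  · intro j α hα
    obtain ⟨k, h, hk⟩ := h2 j α ((key j α).trans hα)
    refine ⟨k, h, ?_⟩
    exact (tr_psi_eq_zero_iff (uu Xs h) (uu Xs (ho j)) (uu Xs (ho k)) (uu_comp Xs (ho j) h) F n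
      α).1 hk

end H9FE.LimPull
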