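import Mathlib
import Groth.Prelude.Def_EtCore
import Groth.Prelude.Def_EtLim
import Groth.Agent.Lib.Helper9.FE.EtHColim
import Groth.Agent.Lib.Helper9.FE.LimPull5
import Groth.Agent.Lib.Helper9.FE.LimPull6

/-! helper9: cohomology of a limit of schemes, pull version part 7: cohomology of a qcqs scheme
commutes with directed colimits indexed by a preorder in `Type u` (`hsurj_hinj_small`), and the
pull version over the indices above a given one (`pull_thm_up`). -/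

set_option autoImplicit false
set_option linter.unusedSectionVars false
set_option linter.style.haveILetI false
set_option backward.isDefEq.respectTransparency false
universe u
open CategoryTheory CategoryTheory.Limits AlgebraicGeometry Opposite Abelian

namespace H9FE.LimPull
open H9FE.LimTower H9FE.EtTr H9FE.LimNull H9FE.LimGeom

section Small

lemma HF_map_comp_apply {X : Scheme.{u}} {A B D : EtCoh.Ab X} (a : A ⟶ B) (b : B ⟶ D) (n : ℕ)
    (x : EtCoh.H X A n) : ((EtCoh.HF X n).map (a ≫ b)).hom x =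
      ((EtCoh.HF X n).map b).hom (((EtCoh.HF X n).map a).hom x) := by
  rw [Functor.map_comp]
  rfl

lemma HF_map_iso_apply {X : Scheme.{u}} {A B : EtCoh.Ab X} (e : A ≅ B) (n : ℕ)
    (x : EtCoh.H X B n) :
    ((EtCoh.HF X n).map e.hom).hom (((EtCoh.HF X n).map e.inv).hom x) = x := by
  rw [← HF_map_comp_apply, Iso.inv_hom_id, CategoryTheory.Functor.map_id]
  rfl

variable {X : Scheme.{u}} [CompactSpace X] [QuasiSeparatedSpace X]
  {ι : Type u} [Preorder ι] [IsDirected ι (· ≤ ·)] [Nonempty ι] (G : ι ⥤ EtCoh.Ab X) (n : ℕ)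

/-- cohomology of a qcqs scheme commutes with directed colimits indexed by a preorder in `Type u`
(elementwise form) -/
theorem hsurj_hinj_small :
    (∀ ξ : EtCoh.H X (colimit G) n, ∃ (i : ι) (ξ' : EtCoh.H X (G.obj i) n),
      ((EtCoh.HF X n).map (colimit.ι G i)).hom ξ' = ξ) ∧
    (∀ (i : ι) (ξ' : EtCoh.H X (G.obj i) n),
      ((EtCoh.HF X n).map (colimit.ι G i)).hom ξ' = 0 →
        ∃ (k : ι) (h : i ≤ k), ((EtCoh.HF X n).map (G.map (homOfLE h))).hom ξ' = 0) := by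
  haveI : IsFiltered (AsSmall.{u + 1} ι) := IsFiltered.of_equivalence AsSmall.equiv
  haveI : (AsSmall.down : AsSmall.{u + 1} ι ⥤ ι).Final :=
    Functor.final_of_adjunction AsSmall.equiv.toAdjunction
  obtain ⟨e, he1, he2⟩ : ∃ e : colimit (AsSmall.down ⋙ G) ≅ colimit G,
      (∀ j, colimit.ι (AsSmall.down ⋙ G) j ≫ e.hom = colimit.ι G (AsSmall.down.obj j)) ∧
      (∀ j, colimit.ι G (AsSmall.down.obj j) ≫ e.inv = colimit.ι (AsSmall.down ⋙ G) j) :=
    ⟨Functor.Final.colimitIso AsSmall.down G,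
      fun j => Functor.Final.ι_colimitIso_hom AsSmall.down G j,
      fun j => Functor.Final.ι_colimitIso_inv AsSmall.down G j⟩
  obtain ⟨hs, hi⟩ := H9FE.EtHColim.hsurj_hinj_et X n (AsSmall.down ⋙ G)
  constructor
  · intro ξ
    obtain ⟨j, y, hy⟩ := hs (((EtCoh.HF X n).map e.inv).hom ξ)
    refine ⟨AsSmall.down.obj j, y, ?_⟩
    have hy' : ((EtCoh.HF X n).map (colimit.ι (AsSmall.down ⋙ G) j)).hom y =
        ((EtCoh.HF X n).map e.inv).hom ξ := hy
    rw [← he1 j, HF_map_comp_apply]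
    exact (congrArg ((EtCoh.HF X n).map e.hom).hom hy').trans (HF_map_iso_apply e n ξ)
  · intro i ξ' h0
    have h2 : ((EtCoh.HF X n).map (colimit.ι (AsSmall.down ⋙ G) (AsSmall.up.obj i))).hom ξ' =
        0 := by
      rw [← he2 (AsSmall.up.obj i), HF_map_comp_apply]
      have h0' : ((EtCoh.HF X n).map (colimit.ι G
        ((AsSmall.down : AsSmall.{u + 1} ι ⥤ ι).obj (AsSmall.up.obj i)))).hom ξ' = 0 := h0
      exact (congrArg ((EtCoh.HF X n).map e.inv).hom h0').trans (map_zero _)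
    obtain ⟨k, f, hf⟩ := hi (AsSmall.up.obj i) ξ' h2
    refine ⟨AsSmall.down.obj k, leOfHom (AsSmall.down.map f), ?_⟩
    have e3 : G.map (homOfLE (leOfHom (AsSmall.down.map f))) = (AsSmall.down ⋙ G).map f :=
      congrArg G.map (Subsingleton.elim _ _)
    rw [e3]
    exact hf

end Small

section Up

/-- the statement of the pull version over the indices above `i₀` -/
theorem pull_thm_up {ι : Type u} [Preorder ι] [IsDirected ι (· ≤ ·)] (Xs : ιᵒᵖ ⥤ Scheme.{u})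
    (haff : ∀ ⦃a b : ιᵒᵖ⦄ (h : a ⟶ b), IsAffineHom (Xs.map h))
    (hqc : ∀ a, CompactSpace ↥(Xs.obj a)) (hqs : ∀ a, QuasiSeparatedSpace ↥(Xs.obj a))
    (c : Cone Xs) (hc : IsLimit c) (i₀ : ι) (F₀ : EtCoh.Ab (Xs.obj (op i₀))) (p : ℕ)
    [∀ a, PreservesFiniteLimits (EtCoh.pull (c.π.app a))]
    [∀ ⦃a b : ιᵒᵖ⦄ (h : a ⟶ b), PreservesFiniteLimits (EtCoh.pull (Xs.map h))] :
    (∀ ξ : EtCoh.H c.pt ((EtCoh.pull (c.π.app (op i₀))).obj F₀) p,
      ∃ (j : ι) (hj : i₀ ≤ j) (ξj : EtCoh.H (Xs.obj (op j))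
        ((EtCoh.pull (Xs.map (homOfLE hj).op)).obj F₀) p),
        EtCore.HpullVia (c.π.app (op j)) (Xs.map (homOfLE hj).op) (c.π.app (op i₀))
          (c.w (homOfLE hj).op) F₀ p ξj = ξ) ∧
    (∀ (j : ι) (hj : i₀ ≤ j) (ξj : EtCoh.H (Xs.obj (op j))
        ((EtCoh.pull (Xs.map (homOfLE hj).op)).obj F₀) p),
      EtCore.HpullVia (c.π.app (op j)) (Xs.map (homOfLE hj).op) (c.π.app (op i₀))
        (c.w (homOfLE hj).op) F₀ p ξj = 0 →
        ∃ (k : ι) (hk : j ≤ k), EtCore.Hpull (Xs.map (homOfLE hk).op) _ p ξj = 0) := by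
  haveI : ∀ l : Up i₀, PreservesFiniteLimits (EtCoh.pull (cu (Gv Xs i₀) (cG Xs c i₀) l)) :=
    fun l => (inferInstance : PreservesFiniteLimits (EtCoh.pull (c.π.app (op l.1))))
  haveI : ∀ {l m : Up i₀} (h : l ≤ m), PreservesFiniteLimits (EtCoh.pull (uu (Gv Xs i₀) h)) :=
    fun {l m} h => (inferInstance : PreservesFiniteLimits
      (EtCoh.pull (Xs.map ((inclUp i₀).op.map (homOfLE h).op))))
  have haff' : ∀ ⦃a b : (Up i₀)ᵒᵖ⦄ (h : a ⟶ b), IsAffineHom ((Gv Xs i₀).map h) :=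
    fun a b h => haff _
  obtain ⟨h1, h2⟩ := pull_thm (Xs := Gv Xs i₀) haff' (fun x => hqc _) (fun x => hqs _)
    (cG Xs c i₀) (cGIsLimit Xs c i₀ hc) (⟨i₀, le_refl i₀⟩ : Up i₀) (fun l => l.2) F₀ p
  constructor
  · intro ξ
    obtain ⟨j, α, hα⟩ := h1 ξ
    exact ⟨j.1, j.2, α, hα⟩
  · intro j hj ξj hξ
    obtain ⟨k, h, hk⟩ := h2 ⟨j, hj⟩ ξj hξ
    exact ⟨k.1, h, hk⟩

end Up

end H9FE.LimPull
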