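import Mathlib

/-! helper9: inverse systems of Artinian modules over `ℕ`: lifting compatible families along
levelwise maps (Mittag-Leffler), and commutation of the limit with tensoring by a finitely presented
module for systems of modules of finite length. -/

set_option autoImplicit false
set_option linter.unusedSectionVars false
set_option linter.style.haveILetI false
universe u
open CategoryTheory CategoryTheory.Limits Opposite TensorProduct

namespace H9FE.LimTensor

variable {R : Type u} [CommRing R]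

section Res

variable (B : ℕᵒᵖ ⥤ ModuleCat.{u} R)

/-- the transition maps -/
def r {n m : ℕ} (h : n ≤ m) : B.obj (op m) →ₗ[R] B.obj (op n) := (B.map (homOfLE h).op).hom

lemma r_r {n m l : ℕ} (h₁ : n ≤ m) (h₂ : m ≤ l) (x : B.obj (op l)) :
    r B h₁ (r B h₂ x) = r B (h₁.trans h₂) x := by
  have : B.map (homOfLE h₂).op ≫ B.map (homOfLE h₁).op = B.map (homOfLE (h₁.trans h₂)).op := by
    rw [← B.map_comp]
    congr 1
  exact congrArg (fun φ => φ.hom x) this

lemma r_self {n : ℕ} (x : B.obj (op n)) : r B (le_refl n) x = x := by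
  have : B.map (homOfLE (le_refl n)).op = 𝟙 _ := by
    rw [← B.map_id]
    congr 1
  exact congrArg (fun φ => φ.hom x) this

lemma map_eq_r {n m : ℕ} (f : (op m : ℕᵒᵖ) ⟶ op n) (h : n ≤ m) (x : B.obj (op m)) :
    (B.map f).hom x = r B h x := by
  have : f = (homOfLE h).op := Subsingleton.elim _ _
  rw [this]
  rfl

variable {B}

lemma nat_r {C : ℕᵒᵖ ⥤ ModuleCat.{u} R} (v : B ⟶ C) {n m : ℕ} (h : n ≤ m) (x : B.obj (op m)) :
    (v.app (op n)).hom (r B h x) = r C h ((v.app (op m)).hom x) := by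
  have := v.naturality (homOfLE h).op
  exact congrArg (fun φ => φ.hom x) this

lemma r_of_succ (y : ∀ n, B.obj (op n))
    (hy : ∀ n, r B (Nat.le_succ n) (y (n + 1)) = y n) {n m : ℕ} (h : n ≤ m) :
    r B h (y m) = y n := by
  induction h with
  | refl => exact r_self B _
  | @step m h ih =>
    rw [← r_r B h (Nat.le_succ m), hy m, ih]

end Res

section Lift

variable {B C : ℕᵒᵖ ⥤ ModuleCat.{u} R} (v : B ⟶ C)

/-- the kernels of a levelwise map out of a system of Artinian modules satisfy the Mittag-Leffler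
condition -/
lemma ker_ml_index [∀ n, IsArtinian R (B.obj (op n))] (n : ℕ) :
    ∃ (k : ℕ) (hk : n ≤ k), ∀ (m : ℕ) (hm : n ≤ m) (x : B.obj (op k)),
      (v.app (op k)).hom x = 0 →
      ∃ y : B.obj (op m), (v.app (op m)).hom y = 0 ∧ r B hm y = r B hk x := by
  -- the images of the kernels in `B_n`
  let I : {k : ℕ // n ≤ k} → Submodule R (B.obj (op n)) := fun k =>
    Submodule.map (r B k.2) (LinearMap.ker (v.app (op k.1)).hom)
  obtain ⟨_, ⟨⟨k, hk⟩, rfl⟩, hmin⟩ := IsArtinian.set_has_minimal (Set.range I) ⟨_, ⟨n, le_refl n⟩, rfl⟩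
  refine ⟨k, hk, fun m hm x hx => ?_⟩
  have hkm : k ≤ max m k := le_max_right _ _
  have hmm : m ≤ max m k := le_max_left _ _
  have hle : I ⟨max m k, hk.trans hkm⟩ ≤ I ⟨k, hk⟩ := by
    rintro _ ⟨z, hz, rfl⟩
    have hz' : (v.app (op (max m k))).hom z = 0 := hz
    refine ⟨r B hkm z, ?_, r_r B hk hkm z⟩
    change (v.app (op k)).hom (r B hkm z) = 0
    rw [nat_r, hz', map_zero]
  have heq : I ⟨max m k, hk.trans hkm⟩ = I ⟨k, hk⟩ := by
    by_contra hne
    exact hmin _ ⟨_, rfl⟩ (lt_of_le_of_ne hle hne)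
  have hx' : r B hk x ∈ I ⟨k, hk⟩ := ⟨x, hx, rfl⟩
  rw [← heq] at hx'
  obtain ⟨z, hz, hzx⟩ := hx'
  have hz' : (v.app (op (max m k))).hom z = 0 := hz
  refine ⟨r B hmm z, ?_, ?_⟩
  · rw [nat_r, hz', map_zero]
  · rw [r_r]
    exact hzx

/-- lifting compatible families along a levelwise map out of a system of Artinian modules -/
theorem exists_lift [∀ n, IsArtinian R (B.obj (op n))] (c : ∀ n, C.obj (op n))
    (hc : ∀ {n m : ℕ} (h : n ≤ m), r C h (c m) = c n)
    (hr : ∀ n, ∃ b : B.obj (op n), (v.app (op n)).hom b = c n) :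
    ∃ y : ∀ n, B.obj (op n), (∀ n, (v.app (op n)).hom (y n) = c n) ∧
      ∀ n, r B (Nat.le_succ n) (y (n + 1)) = y n := by
  choose k hk hML using ker_ml_index v
  let T : ∀ n, Set (B.obj (op n)) := fun n => {t | (v.app (op n)).hom t = c n}
  have hres : ∀ {n m : ℕ} (h : n ≤ m) (t : B.obj (op m)), t ∈ T m → r B h t ∈ T n := by
    intro n m h t ht
    change (v.app (op n)).hom (r B h t) = c n
    rw [nat_r, show (v.app (op m)).hom t = c m from ht, hc h]
  let T' : ∀ n, Set (B.obj (op n)) := fun n => {y | ∃ t ∈ T (k n), r B (hk n) t = y}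
  have hT'ne : ∀ n, (T' n).Nonempty := fun n => by
    obtain ⟨t, ht⟩ := hr (k n)
    exact ⟨_, t, ht, rfl⟩
  have hT'sub : ∀ n y, y ∈ T' n → y ∈ T n := fun n y hy => by
    obtain ⟨t, ht, rfl⟩ := hy
    exact hres _ _ ht
  have step : ∀ n y, y ∈ T' n → ∃ y', y' ∈ T' (n + 1) ∧ r B (Nat.le_succ n) y' = y := by
    intro n y hy
    obtain ⟨t, ht, rfl⟩ := hy
    have h1 : k n ≤ max (k n) (k (n + 1)) := le_max_left _ _
    have h2 : k (n + 1) ≤ max (k n) (k (n + 1)) := le_max_right _ _
    obtain ⟨t₀, ht₀⟩ := hr (max (k n) (k (n + 1)))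
    have hα : (v.app (op (k n))).hom (r B h1 t₀ - t) = 0 := by
      rw [map_sub, nat_r, ht₀, hc h1, show (v.app (op (k n))).hom t = c (k n) from ht, sub_self]
    obtain ⟨α', hα'0, hα'⟩ := hML n (max (k n) (k (n + 1))) ((hk n).trans h1) _ hα
    have ht₁ : t₀ - α' ∈ T (max (k n) (k (n + 1))) := by
      change (v.app _).hom (t₀ - α') = c _
      rw [map_sub, ht₀, hα'0, sub_zero]
    have hnm : n + 1 ≤ max (k n) (k (n + 1)) := (hk (n + 1)).trans h2
    refine ⟨r B hnm (t₀ - α'), ⟨r B h2 (t₀ - α'), hres h2 _ ht₁, ?_⟩, ?_⟩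
    · rw [r_r]
    · rw [r_r, map_sub, hα', map_sub, r_r]
      abel
  let seq : ∀ n, {y : B.obj (op n) // y ∈ T' n} := fun n =>
    Nat.rec (motive := fun n => {y : B.obj (op n) // y ∈ T' n})
      ⟨(hT'ne 0).some, (hT'ne 0).some_mem⟩
      (fun n ih => ⟨(step n ih.1 ih.2).choose, (step n ih.1 ih.2).choose_spec.1⟩) n
  refine ⟨fun n => (seq n).1, fun n => hT'sub n _ (seq n).2, fun n => ?_⟩
  exact (step n (seq n).1 (seq n).2).choose_spec.2

end Lift

section Lim

variable (B : ℕᵒᵖ ⥤ ModuleCat.{u} R)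

lemma limit_π_r (z : ↑(limit B)) {n m : ℕ} (h : n ≤ m) :
    r B h ((limit.π B (op m)).hom z) = (limit.π B (op n)).hom z := by
  have := limit.w B (homOfLE h).op
  exact congrArg (fun φ => φ.hom z) this

lemma limit_ext (z z' : ↑(limit B))
    (h : ∀ n, (limit.π B (op n)).hom z = (limit.π B (op n)).hom z') : z = z' :=
  Concrete.limit_ext B z z' (fun j => h j.unop)

theorem exists_limit_elt (y : ∀ n, B.obj (op n))
    (hy : ∀ n, r B (Nat.le_succ n) (y (n + 1)) = y n) :
    ∃ z : ↑(limit B), ∀ n, (limit.π B (op n)).hom z = y n := by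
  let hl := isLimitOfPreserves (forget (ModuleCat.{u} R)) (limit.isLimit B)
  let s : (B ⋙ forget (ModuleCat.{u} R)).sections :=
    ⟨fun j => y j.unop, fun {j j'} f => by
      have h : j'.unop ≤ j.unop := f.unop.le
      exact (map_eq_r B f h (y j.unop)).trans (r_of_succ y hy h)⟩
  refine ⟨(Types.isLimitEquivSections hl).symm s, fun n => ?_⟩
  exact Types.isLimitEquivSections_symm_apply hl s (op n)

end Lim

section Tensor

open MonoidalCategory

variable (M : ℕᵒᵖ ⥤ ModuleCat.{u} R)

/-- the system `M_n ⊗ P` -/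
noncomputable abbrev MT (P : Type u) [AddCommGroup P] [Module R P] : ℕᵒᵖ ⥤ ModuleCat.{u} R :=
  M ⋙ tensorRight (ModuleCat.of R P)

variable {P Q : Type u} [AddCommGroup P] [Module R P] [AddCommGroup Q] [Module R Q]

lemma r_MT {n m : ℕ} (h : n ≤ m) (x : (M.obj (op m)) ⊗[R] P) :
    r (MT M P) h x = (r M h).rTensor P x := rfl

/-- the map of systems induced by a linear map -/
noncomputable def tmap (f : P →ₗ[R] Q) : MT M P ⟶ MT M Q where
  app n := ModuleCat.ofHom (LinearMap.lTensor (M.obj n) f)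
  naturality i j g := by
    ext x
    change LinearMap.lTensor _ f ((M.map g).hom.rTensor P x) =
      (M.map g).hom.rTensor Q (LinearMap.lTensor _ f x)
    rw [← LinearMap.comp_apply, ← LinearMap.comp_apply, LinearMap.lTensor_comp_rTensor,
      LinearMap.rTensor_comp_lTensor]

lemma tmap_app (f : P →ₗ[R] Q) (n : ℕ) (x : (M.obj (op n)) ⊗[R] P) :
    ((tmap M f).app (op n)).hom x = LinearMap.lTensor (M.obj (op n)) f x := rfl

/-- the components of an element of `(lim M) ⊗ P` -/
noncomputable def comp (P : Type u) [AddCommGroup P] [Module R P] (n : ℕ) :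
    (↑(limit M) ⊗[R] P) →ₗ[R] (M.obj (op n)) ⊗[R] P :=
  (limit.π M (op n)).hom.rTensor P

lemma comp_lTensor (f : P →ₗ[R] Q) (n : ℕ) (τ : ↑(limit M) ⊗[R] P) :
    comp M Q n (LinearMap.lTensor _ f τ) = LinearMap.lTensor _ f (comp M P n τ) := by
  rw [comp, comp, ← LinearMap.comp_apply, ← LinearMap.comp_apply, LinearMap.lTensor_comp_rTensor,
    LinearMap.rTensor_comp_lTensor]

lemma r_comp {n m : ℕ} (h : n ≤ m) (τ : ↑(limit M) ⊗[R] P) :
    r (MT M P) h (comp M P m τ) = comp M P n τ := by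
  rw [r_MT, comp, comp, ← LinearMap.comp_apply, ← LinearMap.rTensor_comp]
  congr 2
  ext z
  exact limit_π_r M z h

lemma post_π (τ : ↑(limit M) ⊗[R] P) (n : ℕ) :
    (limit.π (MT M P) (op n)).hom ((limit.post M (tensorRight (ModuleCat.of R P))).hom τ) =
      comp M P n τ := by
  have := limit.post_π M (tensorRight (ModuleCat.of R P)) (op n)
  exact congrArg (fun φ => φ.hom τ) this

section Free

variable (b : ℕ)

/-- `X ⊗ R^b ≃ X^b` -/
noncomputable abbrev eF (X : Type u) [AddCommGroup X] [Module R X] :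
    X ⊗[R] (Fin b → R) ≃ₗ[R] (Fin b → X) := TensorProduct.piScalarRight R R X (Fin b)

lemma eF_nat {X Y : Type u} [AddCommGroup X] [Module R X] [AddCommGroup Y] [Module R Y]
    (f : X →ₗ[R] Y) (x : X ⊗[R] (Fin b → R)) (j : Fin b) :
    eF b Y (f.rTensor _ x) j = f (eF b X x j) := by
  induction x using TensorProduct.induction_on with
  | zero => simp
  | tmul x g =>
    simp only [eF, LinearMap.rTensor_tmul, TensorProduct.piScalarRight_apply,
      TensorProduct.piScalarRightHom_tmul, map_smul]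
  | add x y hx hy => simp only [map_add, Pi.add_apply, hx, hy]

lemma free_inj (τ : ↑(limit M) ⊗[R] (Fin b → R)) (h : ∀ n, comp M (Fin b → R) n τ = 0) : τ = 0 := by
  apply (eF b ↑(limit M)).injective
  rw [map_zero]
  funext j
  apply limit_ext M
  intro n
  rw [Pi.zero_apply, map_zero, ← eF_nat, ← comp, h n, map_zero, Pi.zero_apply]

lemma free_surj (s : ∀ n, (M.obj (op n)) ⊗[R] (Fin b → R))
    (hs : ∀ n, r (MT M (Fin b → R)) (Nat.le_succ n) (s (n + 1)) = s n) :
    ∃ τ : ↑(limit M) ⊗[R] (Fin b → R), ∀ n, comp M (Fin b → R) n τ = s n := by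
  have hex : ∀ j : Fin b, ∃ z : ↑(limit M), ∀ n, (limit.π M (op n)).hom z = eF b _ (s n) j := by
    intro j
    apply exists_limit_elt M (fun n => eF b _ (s n) j)
    intro n
    rw [← eF_nat, ← r_MT, hs n]
  choose σ hσ using hex
  refine ⟨(eF b ↑(limit M)).symm σ, fun n => ?_⟩
  apply (eF b _).injective
  funext j
  rw [comp, eF_nat, LinearEquiv.apply_symm_apply, hσ]

end Free

section Main

lemma isArtinian_tensor_free (X : Type u) [AddCommGroup X] [Module R X] (hX : IsFiniteLength R X)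
    (b : ℕ) : IsArtinian R (X ⊗[R] (Fin b → R)) := by
  haveI : IsArtinian R X := ((isFiniteLength_iff_isNoetherian_isArtinian).1 hX).2
  exact (eF b X).symm.isArtinian_iff.1 inferInstance

theorem isIso_post (hM : ∀ n : ℕᵒᵖ, IsFiniteLength R (M.obj n))
    (N : Type u) [AddCommGroup N] [Module R N] [Module.FinitePresentation R N] :
    IsIso (limit.post M (tensorRight (ModuleCat.of R N))) := by
  obtain ⟨b, a, p, g, hp, hgp⟩ := Module.FinitePresentation.exists_fin' R N
  haveI hArtF : ∀ n, IsArtinian R ((MT M (Fin b → R)).obj (op n)) := fun n =>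
    isArtinian_tensor_free _ (hM (op n)) b
  haveI hArtG : ∀ n, IsArtinian R ((MT M (Fin a → R)).obj (op n)) := fun n =>
    isArtinian_tensor_free _ (hM (op n)) a
  rw [ConcreteCategory.isIso_iff_bijective]
  constructor
  · -- injectivity
    intro τ₁ τ₂ h12
    rw [← sub_eq_zero]
    obtain ⟨τ, hτ⟩ : ∃ τ : ↑(limit M) ⊗[R] N, τ = τ₁ - τ₂ := ⟨_, rfl⟩
    have h0 : (limit.post M (tensorRight (ModuleCat.of R N))).hom τ = 0 := by
      rw [hτ, map_sub, sub_eq_zero]
      exact h12
    rw [← hτ]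
    have hcomp : ∀ n, comp M N n τ = 0 := by
      intro n
      rw [← post_π, h0, map_zero]
    obtain ⟨σ, rfl⟩ := LinearMap.lTensor_surjective ↑(limit M) hp τ
    -- the components of `σ` lie in the image of `M_n ⊗ R^a`
    have hr : ∀ n, ∃ ρ : (MT M (Fin a → R)).obj (op n),
        ((tmap M g).app (op n)).hom ρ = comp M (Fin b → R) n σ := by
      intro n
      have h1 : LinearMap.lTensor (M.obj (op n)) p (comp M (Fin b → R) n σ) = 0 := by
        rw [← comp_lTensor, hcomp n]
      exact (lTensor_exact (M.obj (op n)) hgp hp _).1 h1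
    obtain ⟨ρc, hρc, hρcs⟩ := exists_lift (tmap M g) (fun n => comp M (Fin b → R) n σ)
      (fun h => r_comp M h σ) hr
    obtain ⟨ρ, hρ⟩ := free_surj M a ρc hρcs
    have hσ : σ = LinearMap.lTensor _ g ρ := by
      rw [← sub_eq_zero]
      apply free_inj M b
      intro n
      rw [map_sub, comp_lTensor, hρ, sub_eq_zero]
      exact (hρc n).symm
    rw [hσ, ← LinearMap.comp_apply, ← LinearMap.lTensor_comp]
    have hpg : p ∘ₗ g = 0 :=
      LinearMap.ext fun x => hgp.apply_apply_eq_zero x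
    rw [hpg, LinearMap.lTensor_zero, LinearMap.zero_apply]
  · -- surjectivity
    intro t
    have hr : ∀ n, ∃ s : (MT M (Fin b → R)).obj (op n),
        ((tmap M p).app (op n)).hom s = (limit.π (MT M N) (op n)).hom t := fun n =>
      LinearMap.lTensor_surjective (M.obj (op n)) hp _
    obtain ⟨sc, hsc, hscs⟩ := exists_lift (tmap M p) (fun n => (limit.π (MT M N) (op n)).hom t)
      (fun h => limit_π_r (MT M N) t h) hr
    obtain ⟨σ, hσ⟩ := free_surj M b sc hscs
    refine ⟨LinearMap.lTensor _ p σ, ?_⟩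
    apply limit_ext (MT M N)
    intro n
    rw [post_π, comp_lTensor, hσ]
    exact hsc n

end Main

end Tensor

end H9FE.LimTensor
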