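import Mathlib
import Groth.Prelude.Def_EtBase
import Groth.Prelude.Def_EtCore
import Groth.Prelude.Def_EtDual
import Groth.Prelude.Def_EtDepth
import Groth.Prelude.Def_RDerDelta
import Groth.Agent.S16463
import Groth.Agent.Lib.Helper9.FE.LocCohEt
import Groth.Agent.Lib.Helper9.FE.CsPull
import Groth.Agent.Lib.Helper9.FE.CsSub
import Groth.Agent.Lib.Helper9.FE.CsFilt
import Groth.Agent.Lib.Helper9.FE.ConstSite

/-! helper9: a sheaf trivialised over an étale `U` becomes constant after inverse image to `U`;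
dévissage of local cohomology of constant sheaves with finite `ℓ`-primary value; étale depth of
finite locally constant `ℓ`-torsion sheaves. -/

set_option autoImplicit false
set_option linter.unusedSectionVars false
set_option linter.style.haveILetI false
set_option backward.isDefEq.respectTransparency false
universe u
open CategoryTheory CategoryTheory.Limits AlgebraicGeometry Opposite

namespace H9FE.LocCohDev
open EtShriek H9FE.ConstSite H9FE.CsSub Groth.Agent.Lib.Helper5

section Const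

variable {W : Scheme.{u}}

/-- a trivialisation over `P` restricts to a trivialisation over any `Q ⟶ P` -/
theorem over_const_of_hom (E : EtCoh.Ab W) {P Q : W.Etale} (d : Q ⟶ P)
    {M : AddCommGrpCat.{u + 1}}
    (α : E.over P ≅ cS.{u + 1, u, u + 1} (W.smallEtaleTopology.over P) M) :
    Nonempty (E.over Q ≅ cS.{u + 1, u, u + 1} (W.smallEtaleTopology.over Q) M) := by
  let J := W.smallEtaleTopology
  let γ : M →+ E.obj.obj (op Q) := (E.obj.map d.op).hom.comp (gen.{u + 1, u, u + 1} J E P α)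
  refine nonempty_iso_of_crit.{u + 1, u, u + 1} J E Q γ ?_ ?_
  · intro Z z x hx
    have h1 : E.obj.map (z ≫ d).op (gen.{u + 1, u, u + 1} J E P α x) =
        E.obj.map (z ≫ d).op (gen.{u + 1, u, u + 1} J E P α 0) := by
      rw [map_zero, map_zero, ← map_map.{u + 1, u, u + 1} J E z d]
      exact hx
    exact gen_inj.{u + 1, u, u + 1} J E P α (z ≫ d) x 0 h1
  · intro Z z s
    obtain ⟨S, hS, hprop⟩ := gen_surj.{u + 1, u, u + 1} J E P α (z ≫ d) s
    refine ⟨S, hS, fun {Z'} k hk => ?_⟩
    obtain ⟨m, hm⟩ := hprop k hk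
    refine ⟨m, ?_⟩
    rw [hm, ← Category.assoc, ← map_map.{u + 1, u, u + 1} J E (k ≫ z) d]
    rfl

/-- sheaves whose restrictions to the slice over the terminal object are isomorphic are isomorphic -/
theorem iso_of_over_top (E E' : EtCoh.Ab W)
    (θ : E.over (EtCoh.top W) ≅ E'.over (EtCoh.top W)) : Nonempty (E ≅ E') := by
  let T := EtCoh.top W
  let hT := EtCore.topIsTerminal W
  let o : W.Etale → Over T := fun Z => Over.mk (hT.from Z)
  let om : ∀ {Z Z' : W.Etale} (f : Z' ⟶ Z), o Z' ⟶ o Z := fun f => Over.homMk f (hT.hom_ext _ _)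
  let θp : (E.over T).obj ≅ (E'.over T).obj :=
    (sheafToPresheaf _ _).mapIso θ
  let e : E.obj ≅ E'.obj :=
    NatIso.ofComponents (fun Z => θp.app (op (o Z.unop)))
      (fun {Z Z'} f => θp.hom.naturality (om f.unop).op)
  exact ⟨(fullyFaithfulSheafToPresheaf _ _).preimageIso e⟩

/-- a sheaf trivialised over the terminal object is constant -/
theorem const_of_over_top (E : EtCoh.Ab W) (M : Type) [AddCommGroup M]
    (α : E.over (EtCoh.top W) ≅ cS.{u + 1, u, u + 1} (W.smallEtaleTopology.over (EtCoh.top W))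
      (AddCommGrpCat.of (ULift.{u + 1} M))) :
    Nonempty (E ≅ EtCoh.const W M) :=
  iso_of_over_top E (EtCoh.const W M)
    (α ≪≫ (resConstIso W.smallEtaleTopology (W.smallEtaleTopology.over (EtCoh.top W))
      (Over.forget (EtCoh.top W)) (AddCommGrpCat.of (ULift.{u + 1} M))).symm)

end Const

section Triv

variable {X : Scheme.{u}}

/-- a sheaf trivialised over an étale `U` becomes constant on `U` -/
theorem pull_const_of_restr_const (F : EtCoh.Ab X) (U : X.Etale) (M : Type) [AddCommGroup M]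
    (α : EtCoh.restr F U ≅
      (constantSheaf (X.smallEtaleTopology.over U) AddCommGrpCat.{u + 1}).obj
        (AddCommGrpCat.of (ULift.{u + 1} M))) :
    Nonempty ((EtCoh.pull U.hom).obj F ≅ EtCoh.const U.left M) := by
  obtain ⟨β⟩ := CsPull.over_pull_const U.hom F U _ α
  let δ : EtCoh.top U.left ⟶ (EtCoh.bc U.hom).obj U :=
    MorphismProperty.Over.homMk (pullback.lift (𝟙 _) (𝟙 _) rfl) (by
      show pullback.lift _ _ _ ≫ pullback.snd _ _ = 𝟙 _
      exact pullback.lift_snd _ _ _) trivial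
  obtain ⟨β'⟩ := over_const_of_hom _ δ β
  exact const_of_over_top _ M β'

/-- the value group of a trivialisation of an `ℓ`-torsion sheaf over a nonempty `U` is
`ℓ`-primary -/
theorem ltorsion_value (ℓ : ℕ) (F : EtCoh.Ab X) (hF : EtDepth.IsLTorsion ℓ F) (U : X.Etale)
    [hne : Nonempty U.left] (M : Type) [AddCommGroup M]
    (α : EtCoh.restr F U ≅
      (constantSheaf (X.smallEtaleTopology.over U) AddCommGrpCat.{u + 1}).obj
        (AddCommGrpCat.of (ULift.{u + 1} M))) :
    ∀ m : M, ∃ k : ℕ, ℓ ^ k • m = 0 := by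
  intro m
  let J := X.smallEtaleTopology
  obtain ⟨x⟩ := hne
  obtain ⟨V', h, ⟨v, hv⟩, k, hk⟩ := hF U (gen.{u + 1, u, u + 1} J F U α (ULift.up m)) x
  refine ⟨k, ?_⟩
  have h1 : F.obj.map h.op (gen.{u + 1, u, u + 1} J F U α (ULift.up (ℓ ^ k • m))) =
      F.obj.map h.op (gen.{u + 1, u, u + 1} J F U α 0) := by
    have e : (ULift.up (ℓ ^ k • m) : ULift.{u + 1} M) = ℓ ^ k • ULift.up m := rfl
    rw [e, map_nsmul, map_nsmul, hk, map_zero, map_zero]
  rcases gen_inj.{u + 1, u, u + 1} J F U α h _ _ h1 with h2 | h2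
  · exact congrArg ULift.down h2
  · exfalso
    rw [bot_mem_iff] at h2
    exact h2.false v

end Triv

section Grp

/-- a nontrivial `ℓ`-primary abelian group has an element of order `ℓ` -/
lemma exists_order_ell (ℓ : ℕ) (M : Type) [AddCommGroup M] [Nontrivial M]
    (ht : ∀ m : M, ∃ k : ℕ, ℓ ^ k • m = 0) : ∃ x : M, x ≠ 0 ∧ ℓ • x = 0 := by
  classical
  obtain ⟨m, hm⟩ := exists_ne (0 : M)
  have hk := Nat.find_spec (ht m)
  have hmin : ∀ i, i < Nat.find (ht m) → ¬ (ℓ ^ i • m = 0) := fun i hi => Nat.find_min (ht m) hi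
  have h0 : Nat.find (ht m) ≠ 0 := by
    intro h
    rw [h, pow_zero, one_smul] at hk
    exact hm hk
  obtain ⟨k, hk'⟩ := Nat.exists_eq_succ_of_ne_zero h0
  refine ⟨ℓ ^ k • m, hmin k (by omega), ?_⟩
  rw [← mul_smul, ← pow_succ', ← Nat.succ_eq_add_one, ← hk']
  exact hk

/-- the map `ℤ/ℓ ⟶ M` with `1 ↦ x` for `ℓ • x = 0` -/
noncomputable def zmodHom (ℓ : ℕ) {M : Type} [AddCommGroup M] (x : M) (hx : ℓ • x = 0) :
    ZMod ℓ →+ M :=
  ZMod.lift ℓ ⟨zmultiplesHom M x, by
    show (ℓ : ℤ) • x = 0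
    rw [natCast_zsmul]
    exact hx⟩

lemma zmodHom_natCast (ℓ : ℕ) {M : Type} [AddCommGroup M] (x : M) (hx : ℓ • x = 0) (a : ℕ) :
    zmodHom ℓ x hx (a : ZMod ℓ) = a • x := by
  have h := ZMod.lift_coe ℓ (⟨zmultiplesHom M x, by
    show (ℓ : ℤ) • x = 0
    rw [natCast_zsmul]
    exact hx⟩ : { f : ℤ →+ M // f ℓ = 0 }) (a : ℤ)
  have e : ((a : ℤ) : ZMod ℓ) = (a : ZMod ℓ) := Int.cast_natCast a
  rw [e] at h
  unfold zmodHom
  rw [h]
  show (a : ℤ) • x = a • x
  exact natCast_zsmul x a

lemma zmodHom_injective (ℓ : ℕ) (hℓ : ℓ.Prime) {M : Type} [AddCommGroup M] (x : M) (hx0 : x ≠ 0)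
    (hx : ℓ • x = 0) : Function.Injective (zmodHom ℓ x hx) := by
  haveI : NeZero ℓ := ⟨hℓ.ne_zero⟩
  rw [injective_iff_map_eq_zero]
  intro a ha
  have e : a = ((a.val : ℕ) : ZMod ℓ) := (ZMod.natCast_zmod_val a).symm
  rw [e, zmodHom_natCast] at ha
  have hd : addOrderOf x ∣ ℓ := addOrderOf_dvd_of_nsmul_eq_zero hx
  have h1 : addOrderOf x ≠ 1 := by
    intro h
    exact hx0 (AddMonoid.addOrderOf_eq_one_iff.1 h)
  have hord : addOrderOf x = ℓ := by
    rcases (Nat.dvd_prime hℓ).1 hd with h | h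
    · exact absurd h h1
    · exact h
  have hd2 : addOrderOf x ∣ a.val := addOrderOf_dvd_of_nsmul_eq_zero ha
  rw [hord] at hd2
  have hlt : a.val < ℓ := ZMod.val_lt a
  have hz : a.val = 0 := Nat.eq_zero_of_dvd_of_lt hd2 hlt
  exact (ZMod.val_eq_zero a).1 hz

end Grp

section Up

variable {A B C : Type} [AddCommGroup A] [AddCommGroup B] [AddCommGroup C]

/-- a homomorphism of small groups, lifted to the universe of sheaf values -/
noncomputable def upHom (φ : A →+ B) :
    AddCommGrpCat.of (ULift.{u + 1} A) ⟶ AddCommGrpCat.of (ULift.{u + 1} B) :=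
  AddCommGrpCat.ofHom
    (AddEquiv.ulift.symm.toAddMonoidHom.comp (φ.comp AddEquiv.ulift.toAddMonoidHom))

lemma upHom_apply (φ : A →+ B) (a : ULift.{u + 1} A) :
    (upHom.{u} φ) a = ULift.up (φ a.down) := rfl

/-- the lifted short complex of a short exact sequence of small groups -/
noncomputable def upSC (φ : A →+ B) (ψ : B →+ C) (h : ∀ a, ψ (φ a) = 0) :
    ShortComplex AddCommGrpCat.{u + 1} :=
  ShortComplex.mk (upHom.{u} φ) (upHom.{u} ψ) (by
    ext a
    exact h a.down)

theorem upSC_shortExact (φ : A →+ B) (ψ : B →+ C) (h : ∀ a, ψ (φ a) = 0)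
    (hφ : Function.Injective φ) (hψ : Function.Surjective ψ)
    (hex : ∀ b, ψ b = 0 → ∃ a, φ a = b) : (upSC.{u} φ ψ h).ShortExact where
  exact := by
    rw [ShortComplex.ab_exact_iff]
    intro b hb
    have hb' : ψ b.down = 0 := congrArg ULift.down hb
    obtain ⟨a, ha⟩ := hex b.down hb'
    exact ⟨ULift.up a, ULift.ext _ _ ha⟩
  mono_f := by
    rw [AddCommGrpCat.mono_iff_injective]
    intro a a' haa
    have : φ a.down = φ a'.down := congrArg ULift.down haa
    exact ULift.ext _ _ (hφ this)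
  epi_g := by
    rw [AddCommGrpCat.epi_iff_surjective]
    intro c
    obtain ⟨b, hb⟩ := hψ c.down
    exact ⟨ULift.up b, ULift.ext _ _ hb⟩

end Up

section Dev

variable {V U' : Scheme.{u}} (j' : U' ⟶ V)

instance : PreservesFiniteColimits (constantSheaf V.smallEtaleTopology AddCommGrpCat.{u + 1}) :=
  have := (constantSheafAdj V.smallEtaleTopology AddCommGrpCat.{u + 1}
    (EtCore.topIsTerminal V)).leftAdjoint_preservesColimits
  inferInstance

instance : PreservesFiniteLimits (constantSheaf V.smallEtaleTopology AddCommGrpCat.{u + 1}) := by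
  dsimp only [constantSheaf]
  infer_instance

/-- dévissage: vanishing of local cohomology of `ℤ/ℓ` implies that of every constant sheaf
with finite `ℓ`-primary value -/
theorem devissage (ℓ : ℕ) (hℓ : ℓ.Prime) (n : ℕ)
    (h0 : ∀ p : ℕ, p < n → IsZero ((EtDual.locCoh j' p).obj (EtCoh.const V (ZMod ℓ)))) :
    ∀ (c : ℕ) (M : Type) [AddCommGroup M] [Finite M], Nat.card M = c →
      (∀ m : M, ∃ k : ℕ, ℓ ^ k • m = 0) →
      ∀ p : ℕ, p < n → IsZero ((EtDual.locCoh j' p).obj (EtCoh.const V M)) := by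
  intro c
  induction c using Nat.strong_induction_on with
  | _ c ih =>
    intro M iM fM hc ht p hp
    by_cases hM : Subsingleton M
    · have hz : IsZero (AddCommGrpCat.of (ULift.{u + 1} M)) :=
        AddCommGrpCat.isZero_of_subsingleton _
      have hz2 : IsZero (EtCoh.const V M) :=
        (constantSheaf V.smallEtaleTopology AddCommGrpCat.{u + 1}).map_isZero hz
      show IsZero (((EtDual.secSupp j').rightDerived p).obj (EtCoh.const V M))
      exact ((EtDual.secSupp j').rightDerived p).map_isZero hz2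
    · rw [not_subsingleton_iff_nontrivial] at hM
      obtain ⟨x, hx0, hx⟩ := exists_order_ell ℓ M ht
      let φ : ZMod ℓ →+ M := zmodHom ℓ x hx
      have hφ : Function.Injective φ := zmodHom_injective ℓ hℓ x hx0 hx
      let H : AddSubgroup M := φ.range
      let ψ : M →+ M ⧸ H := QuotientAddGroup.mk' H
      have hzero : ∀ a, ψ (φ a) = 0 := by
        intro a
        exact (QuotientAddGroup.eq_zero_iff _).2 ⟨a, rfl⟩
      have hex : ∀ b, ψ b = 0 → ∃ a, φ a = b := by
        intro b hb
        exact (QuotientAddGroup.eq_zero_iff _).1 hb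
      have hψ : Function.Surjective ψ := QuotientAddGroup.mk'_surjective H
      have hS := upSC_shortExact.{u} φ ψ hzero hφ hψ hex
      have hS' := hS.map_of_exact (constantSheaf V.smallEtaleTopology AddCommGrpCat.{u + 1})
      obtain ⟨Δ⟩ := Groth.Agent.S16463.result (EtDual.secSupp j')
      have hex2 := Δ.exact₂ _ hS' p
      -- the quotient is smaller
      have hcard : Nat.card (M ⧸ H) < c := by
        have e1 := AddSubgroup.card_eq_card_quotient_mul_card_addSubgroup H
        have hHne : H ≠ ⊥ := by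
          intro hbot
          have hxH : x ∈ H := ⟨1, by
            show zmodHom ℓ x hx 1 = x
            have := zmodHom_natCast ℓ x hx 1
            rw [Nat.cast_one, one_smul] at this
            exact this⟩
          rw [hbot, AddSubgroup.mem_bot] at hxH
          exact hx0 hxH
        have e2 : 1 < Nat.card H := (AddSubgroup.one_lt_card_iff_ne_bot H).2 hHne
        have e3 : 0 < Nat.card (M ⧸ H) := Nat.card_pos
        rw [← hc, e1]
        nlinarith
      have ht' : ∀ m' : M ⧸ H, ∃ k : ℕ, ℓ ^ k • m' = 0 := by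
        intro m'
        obtain ⟨m, rfl⟩ := QuotientAddGroup.mk'_surjective H m'
        obtain ⟨k, hk⟩ := ht m
        refine ⟨k, ?_⟩
        rw [← map_nsmul, hk, map_zero]
      have hz1 : IsZero (((EtDual.secSupp j').rightDerived p).obj (EtCoh.const V (ZMod ℓ))) :=
        h0 p hp
      have hz3 : IsZero (((EtDual.secSupp j').rightDerived p).obj (EtCoh.const V (M ⧸ H))) :=
        ih _ hcard (M ⧸ H) rfl ht' p hp
      show IsZero (((EtDual.secSupp j').rightDerived p).obj (EtCoh.const V M))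
      exact hex2.isZero_of_both_zeros (hz1.eq_of_src _ _) (hz3.eq_of_tgt _ _)

end Dev

section Main

open H9FE.LocCohEt

/-- étale depth of a finite locally constant `ℓ`-torsion sheaf is at least that of `ℤ/ℓ` -/
theorem main {X U : Scheme.{u}} (j : U ⟶ X) [IsOpenImmersion j] [EtCoh.BCCont j]
    (ℓ : ℕ) (hℓ : ℓ.Prime) (n : ℕ) (hX : EtDepth.DepthGE j (EtCoh.const X (ZMod ℓ)) n)
    (F : EtCoh.Ab X) (hFlc : EtCoh.IsFiniteLocallyConstant F) (hFt : EtDepth.IsLTorsion ℓ F) :
    EtDepth.DepthGE j F n := by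
  intro p hp
  obtain ⟨ι, Uf, hcov, hα⟩ := hFlc
  apply isZero_of_cover _ Uf hcov
  intro i
  haveI : Etale (Uf i).hom := (Uf i).prop
  have hU' : Set.range (pullback.snd j (Uf i).hom) = (Uf i).hom ⁻¹' Set.range j :=
    Scheme.Pullback.range_snd j (Uf i).hom
  obtain ⟨e⟩ := locCoh_pull_iso j (Uf i).hom (pullback.snd j (Uf i).hom) hU' F p
  refine IsZero.of_iso ?_ e.symm
  by_cases hne : Nonempty (Uf i).left
  · obtain ⟨M, iM, fM, ⟨α⟩⟩ := hα i
    obtain ⟨c⟩ := pull_const_of_restr_const F (Uf i) M α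
    have ht := ltorsion_value ℓ F hFt (Uf i) M α
    have h0 : ∀ q : ℕ, q < n → IsZero ((EtDual.locCoh (pullback.snd j (Uf i).hom) q).obj
        (EtCoh.const (Uf i).left (ZMod ℓ))) := by
      intro q hq
      obtain ⟨e0⟩ := locCoh_pull_iso j (Uf i).hom (pullback.snd j (Uf i).hom) hU'
        (EtCoh.const X (ZMod ℓ)) q
      have hz : IsZero ((EtCoh.pull (Uf i).hom).obj
          ((EtDual.locCoh j q).obj (EtCoh.const X (ZMod ℓ)))) :=
        (EtCoh.pull (Uf i).hom).map_isZero (hX q hq)
      exact IsZero.of_iso (IsZero.of_iso hz e0)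
        ((EtDual.locCoh (pullback.snd j (Uf i).hom) q).mapIso
          (EtCore.pullConst (Uf i).hom (ZMod ℓ)).symm)
    exact IsZero.of_iso
      (devissage (pullback.snd j (Uf i).hom) ℓ hℓ n h0 _ M rfl ht p hp)
      ((EtDual.locCoh (pullback.snd j (Uf i).hom) p).mapIso c)
  · exact @CsFilt.isZero_of_isEmpty (Uf i).left (not_nonempty_iff.1 hne) _

end Main

end H9FE.LocCohDev
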