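import Mathlib
/-! helper9: local freeness of finite flat finitely presented modules, transferred to arbitrary localizations -/
open TensorProduct
universe u
set_option linter.style.haveILetI false
set_option linter.unusedSectionVars false
namespace H9FE

theorem free_of_free_localizedModule_away {R : Type u} [CommRing R] {B : Type u} [AddCommGroup B]
    [Module R B] (r : R)
    (hfree : Module.Free (Localization.Away r) (LocalizedModule.Away r B))
    (R₀ : Type u) [CommRing R₀] [Algebra R R₀] [IsLocalization.Away r R₀]
    (B₀ : Type u) [AddCommGroup B₀] [Module R B₀] [Module R₀ B₀] [IsScalarTower R R₀ B₀]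
    (g : B →ₗ[R] B₀) [IsLocalizedModule (Submonoid.powers r) g] : Module.Free R₀ B₀ := by
  let L := Localization.Away r
  let e₁ : L ≃ₐ[R] R₀ := IsLocalization.algEquiv (Submonoid.powers r) L R₀
  letI : Algebra L R₀ := e₁.toAlgHom.toRingHom.toAlgebra
  haveI : IsScalarTower R L R₀ := IsScalarTower.of_algebraMap_eq' (by
    ext x
    exact (e₁.commutes x).symm)
  have h1 : Module.Free L (L ⊗[R] B) :=
    Module.Free.of_equiv (IsLocalizedModule.isBaseChange (Submonoid.powers r) L
      (LocalizedModule.mkLinearMap (Submonoid.powers r) B)).equiv.symm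
  have h2 : Module.Free R₀ (R₀ ⊗[L] (L ⊗[R] B)) := inferInstance
  have h3 : Module.Free R₀ (R₀ ⊗[R] B) :=
    Module.Free.of_equiv (TensorProduct.AlgebraTensorModule.cancelBaseChange R L R₀ R₀ B)
  exact Module.Free.of_equiv (IsLocalizedModule.isBaseChange (Submonoid.powers r) R₀ g).equiv

theorem exists_free_away (R B : Type u) [CommRing R] [AddCommGroup B] [Module R B]
    [Module.Finite R B] [Module.Flat R B] [Module.FinitePresentation R B]
    (p : Ideal R) [p.IsPrime] :
    ∃ r ∉ p, Module.Free (Localization.Away r) (LocalizedModule.Away r B) := by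
  haveI : Module.Free (Localization.AtPrime p) (LocalizedModule p.primeCompl B) :=
    Module.free_of_flat_of_isLocalRing
  obtain ⟨r, hr, hfree, -⟩ := Module.FinitePresentation.exists_free_localizedModule_powers
    p.primeCompl (LocalizedModule.mkLinearMap p.primeCompl B) (Localization.AtPrime p)
  exact ⟨r, hr, hfree⟩

end H9FE
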