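import Mathlib
import Groth.Prelude.Def_EtModD2
import Groth.Prelude.Def_SixF2
import Groth.Agent.Lib.Helper9.FE.ModCsStrata
import Groth.Agent.Lib.Helper9.FE.CsPb

/-! helper9: inverse images of constructible sheaves of `Λ`-modules on the small étale site are
constructible (module version of `CsPb.pullback_constructible`), and an exact functor commutes with
the homology functors of derived categories (objectwise; the construction is the one of helper5's
`Helper5.DMod.mapDerivedCategoryHomologyIso`, restated here to avoid its heavy imports). -/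

set_option autoImplicit false
set_option linter.unusedSectionVars false
set_option linter.style.haveILetI false
set_option backward.isDefEq.respectTransparency false

universe u v₁ v₂ u₁ u₂ w₁ w₂
open CategoryTheory CategoryTheory.Limits AlgebraicGeometry Opposite

namespace H9FE.ModCsPb

open H9FE.CsStrata H9FE.ModCsPull H9FE.ModCsStrata

section Pull

variable (Λ : Type (u + 1)) [CommRing Λ] {X Y : Scheme.{u}}

theorem ftlcP_pull_iff (j : X ⟶ Y) (F : EtModW.Mod Λ Y) ⦃T : Scheme.{u}⦄ (g : T ⟶ X) :
    ftlcP Λ ((EtModW.pull Λ j).obj F) g ↔ ftlcP Λ F (g ≫ j) :=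
  ⟨ftlc_of_iso ((EtSix.pullModComp Λ g j).app F).symm,
    ftlc_of_iso ((EtSix.pullModComp Λ g j).app F)⟩

theorem pullback_constructible (f : X ⟶ Y) (F : EtModW.Mod Λ Y)
    (hF : EtModW.IsConstructible Λ F) : EtModW.IsConstructible Λ ((EtModW.pull Λ f).obj F) := by
  intro U hU
  rw [ModCsStrata.adapted_iff]
  refine Strat.of_local (ftlcP_stable Λ _) U.isOpen hU.isCompact hU.isQuasiSeparated ?_
  intro x hxU
  obtain ⟨V, hVa, hxV, -⟩ := exists_affine_nhd (⊤ : Y.Opens) (f x) trivial
  obtain ⟨W, hWa, hxW, hWle⟩ := exists_affine_nhd (U ⊓ f ⁻¹ᵁ V) x ⟨hxU, hxV⟩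
  refine ⟨W, hWa, hxW, fun y hy => (hWle hy).1, ?_⟩
  have h1 := Strat.baseChange f hVa hWa (fun y hy => (hWle hy).2) (ftlcP_stable Λ F)
    ((ModCsStrata.adapted_iff Λ _ _).1 (hF V hVa))
  exact h1.mono fun T g hg => (ftlcP_pull_iff Λ f F g).2 hg

theorem constructible_of_iso {F G : EtModW.Mod Λ X} (e : F ≅ G)
    (hF : EtModW.IsConstructible Λ F) : EtModW.IsConstructible Λ G := by
  intro U hU
  rw [ModCsStrata.adapted_iff]
  refine ((ModCsStrata.adapted_iff Λ F _).1 (hF U hU)).mono ?_
  intro T g hg
  exact ftlc_of_iso ((EtModW.pull Λ g).mapIso e) hg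

end Pull

section general

variable {C₁ : Type u₁} {C₂ : Type u₂} [Category.{v₁} C₁] [Category.{v₂} C₂] [Abelian C₁] [Abelian C₂]
  (F : C₁ ⥤ C₂) [F.Additive] [PreservesFiniteLimits F] [PreservesFiniteColimits F]

/-- An exact functor commutes with homology of complexes. -/
noncomputable def mapHCHomologyIso (E : CochainComplex C₁ ℤ) (n : ℤ) :
    ((F.mapHomologicalComplex (ComplexShape.up ℤ)).obj E).homology n ≅ F.obj (E.homology n) :=
  (E.sc n).mapHomologyIso F

variable [HasDerivedCategory.{w₁} C₁] [HasDerivedCategory.{w₂} C₂]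

/-- An exact functor commutes with the homology functors on derived categories (objectwise). -/
noncomputable def mapDerivedCategoryHomologyIso (L : DerivedCategory C₁) (n : ℤ) :
    (DerivedCategory.homologyFunctor C₂ n).obj (F.mapDerivedCategory.obj L) ≅
      F.obj ((DerivedCategory.homologyFunctor C₁ n).obj L) :=
  let E := DerivedCategory.Q.objPreimage L
  let e : DerivedCategory.Q.obj E ≅ L := DerivedCategory.Q.objObjPreimageIso L
  (DerivedCategory.homologyFunctor C₂ n).mapIso (F.mapDerivedCategory.mapIso e.symm) ≪≫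
    (DerivedCategory.homologyFunctor C₂ n).mapIso (F.mapDerivedCategoryFactors.app E) ≪≫
    (DerivedCategory.homologyFunctorFactors C₂ n).app _ ≪≫
    mapHCHomologyIso F E n ≪≫
    F.mapIso ((DerivedCategory.homologyFunctorFactors C₁ n).app E).symm ≪≫
    F.mapIso ((DerivedCategory.homologyFunctor C₁ n).mapIso e)

end general

end H9FE.ModCsPb
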