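import Mathlib
import Groth.Agent.Lib.Helper9.FE.NormalIrred

/-! helper9: étale over a ring with a normal-domain localization: no local zero divisors. -/

universe u
open TensorProduct

namespace H9FE
namespace NormalIrred

attribute [local instance] Algebra.TensorProduct.rightAlgebra in
/-- étale over a ring whose localization at the contraction of `q` is a normal domain: the
localization at `q` has no zero divisors, in elementary form -/
theorem exists_notMem_mul_eq_zero {R C : Type u} [CommRing R] [CommRing C] [Algebra R C]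
    [Algebra.Etale R C] (q : Ideal C) [q.IsPrime] (Rp : Type u) [CommRing Rp] [Algebra R Rp]
    [IsLocalization.AtPrime Rp (q.comap (algebraMap R C))]
    [IsDomain Rp] [IsIntegrallyClosed Rp] (x y : C) (hxy : x * y = 0) :
    ∃ t : C, t ∉ q ∧ (t * x = 0 ∨ t * y = 0) := by
  classical
  let p : Ideal R := q.comap (algebraMap R C)
  let C' := Rp ⊗[R] C
  let M : Submonoid C := Algebra.algebraMapSubmonoid C p.primeCompl
  have hloc : IsLocalization M C' :=
    (Algebra.isLocalization_iff_isPushout p.primeCompl Rp).2 inferInstance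
  obtain ⟨I, hI, e, he, hprime⟩ := normal_etale_irred Rp C'
  have hdisj : Disjoint (M : Set C) (q : Set C) := by
    rw [Set.disjoint_left]
    rintro _ ⟨r, hr, rfl⟩ hq
    exact hr hq
  let q' : Ideal C' := Ideal.map (algebraMap C C') q
  have hq' : q'.IsPrime := IsLocalization.isPrime_of_isPrime_disjoint M C' q inferInstance hdisj
  have hcomap : q'.comap (algebraMap C C') = q :=
    IsLocalization.under_map_of_isPrime_disjoint M C' inferInstance hdisj
  have hex : ∃ i, e i ∉ q' := by
    by_contra hcon
    push Not at hcon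
    have h1 : (∑ i, e i) ∈ q' := Ideal.sum_mem _ (fun i _ => hcon i)
    rw [he.complete] at h1
    exact hq'.ne_top ((Ideal.eq_top_iff_one _).2 h1)
  obtain ⟨i, hi⟩ := hex
  have h0 : algebraMap C C' x * algebraMap C C' y * e i = 0 := by
    rw [← map_mul, hxy, map_zero, zero_mul]
  obtain ⟨⟨c, m⟩, hcm⟩ := IsLocalization.surj M (e i)
  simp only at hcm
  have hc : c ∉ q := by
    intro hcq
    have h1 : algebraMap C C' c ∈ q' := Ideal.mem_map_of_mem _ hcq
    rw [← hcm] at h1
    rcases hq'.mem_or_mem h1 with h2 | h2
    · exact hi h2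
    · have : (m : C) ∈ q := by rw [← hcomap]; exact h2
      exact Set.disjoint_left.1 hdisj m.2 this
  have key : ∀ z : C, algebraMap C C' z * e i = 0 → ∃ t : C, t ∉ q ∧ t * z = 0 := by
    intro z hz
    have h1 : algebraMap C C' (z * c) = 0 := by
      rw [map_mul, ← hcm, ← mul_assoc, hz, zero_mul]
    obtain ⟨m', hm'⟩ := (IsLocalization.map_eq_zero_iff M C' (z * c)).1 h1
    refine ⟨m' * c, ?_, ?_⟩
    · intro h
      rcases (inferInstance : q.IsPrime).mem_or_mem h with h2 | h2
      · exact Set.disjoint_left.1 hdisj m'.2 h2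
      · exact hc h2
    · rw [mul_assoc, mul_comm c z]
      exact hm'
  rcases hprime i _ _ h0 with h1 | h1
  · obtain ⟨t, ht, htx⟩ := key x h1
    exact ⟨t, ht, Or.inl htx⟩
  · obtain ⟨t, ht, hty⟩ := key y h1
    exact ⟨t, ht, Or.inr hty⟩

end NormalIrred
end H9FE
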