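import Mathlib
import Groth.Agent.Lib.Helper9.FE.NormalIrredLoc

/-! helper9: local constancy principle on étale schemes over a normal scheme. -/

universe u
open CategoryTheory CategoryTheory.Limits AlgebraicGeometry Opposite

namespace H9FE
namespace NormalIrredSch

set_option backward.isDefEq.respectTransparency false
set_option linter.style.haveILetI false
set_option linter.unusedSectionVars false

/-- abstract local-constancy principle on an étale scheme over a normal scheme: a predicate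
`P O a` ("the section is the constant `a` on the open `O`") which is local on a retrocompact open
`Ω` extends to neighbourhoods of all points. -/
theorem exists_const_nhd {X V : Scheme.{u}}
    (hX : ∀ x : X, IsDomain (X.presheaf.stalk x) ∧ IsIntegrallyClosed (X.presheaf.stalk x))
    (f : V ⟶ X) [Etale f] (Ω : V.Opens)
    (hΩ : ∀ V₀ : V.Opens, IsAffineOpen V₀ → IsCompact ((Ω ⊓ V₀ : V.Opens) : Set V))
    {α : Type*} (a₀ : α) (P : V.Opens → α → Prop)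
    (C1 : ∀ (O O' : V.Opens) (a : α), O' ≤ O → P O a → P O' a)
    (C2 : ∀ (O : V.Opens) (a b : α), P O a → P O b → (∃ w ∈ O, w ∈ Ω) → a = b)
    (C4 : ∀ (O : V.Opens) (a : α) (𝒪 : Set V.Opens), (∀ O' ∈ 𝒪, O' ≤ O) → (∀ O' ∈ 𝒪, P O' a) →
      (∀ w ∈ O, w ∈ Ω → ∃ O' ∈ 𝒪, w ∈ O') → P O a)
    (C5 : ∀ w ∈ Ω, ∃ O : V.Opens, w ∈ O ∧ ∃ a, P O a)
    (v : V) : ∃ O : V.Opens, v ∈ O ∧ ∃ a, P O a := by
  classical
  obtain ⟨X₀, hX₀, hxX₀, -⟩ := exists_isAffineOpen_mem_and_subset (x := f v) (U := ⊤) trivial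
  obtain ⟨V₀, hV₀, hvV₀, hle⟩ := exists_isAffineOpen_mem_and_subset (x := v)
    (U := f ⁻¹ᵁ X₀) hxX₀
  let ψ : Γ(X, X₀) ⟶ Γ(V, V₀) := f.appLE X₀ V₀ hle
  have hψet : ψ.hom.Etale :=
    HasRingHomProperty.appLE (P := @Etale) f inferInstance ⟨X₀, hX₀⟩ ⟨V₀, hV₀⟩ hle
  algebraize [ψ.hom]
  let p := hX₀.primeIdealOf ⟨f v, hxX₀⟩
  let q := hV₀.primeIdealOf ⟨v, hvV₀⟩
  have hq : q.asIdeal.comap (algebraMap Γ(X, X₀) Γ(V, V₀)) = p.asIdeal :=
    congrArg PrimeSpectrum.asIdeal (IsAffineOpen.comap_primeIdealOf_appLE X₀ hX₀ V₀ hV₀ hle hvV₀)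
  letI : Algebra Γ(X, X₀) (X.presheaf.stalk (f v)) :=
    TopCat.Presheaf.algebra_section_stalk X.presheaf ⟨f v, hxX₀⟩
  have hloc : IsLocalization.AtPrime (X.presheaf.stalk (f v)) p.asIdeal :=
    hX₀.isLocalization_stalk ⟨f v, hxX₀⟩
  have hpc : (q.asIdeal.comap (algebraMap Γ(X, X₀) Γ(V, V₀))).primeCompl = p.asIdeal.primeCompl := by
    ext r
    show r ∉ q.asIdeal.comap (algebraMap Γ(X, X₀) Γ(V, V₀)) ↔ r ∉ p.asIdeal
    rw [hq]
  haveI : IsLocalization.AtPrime (X.presheaf.stalk (f v))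
      (q.asIdeal.comap (algebraMap Γ(X, X₀) Γ(V, V₀))) := by
    show IsLocalization _ _
    rw [hpc]
    exact hloc
  haveI := (hX (f v)).1
  haveI := (hX (f v)).2
  have key : ∀ x y : Γ(V, V₀), x * y = 0 → ∃ t : Γ(V, V₀), t ∉ q.asIdeal ∧ (t * x = 0 ∨ t * y = 0) :=
    fun x y hxy => NormalIrred.exists_notMem_mul_eq_zero (R := Γ(X, X₀)) (C := Γ(V, V₀))
      q.asIdeal (X.presheaf.stalk (f v)) x y hxy
  have hmemv : ∀ t : Γ(V, V₀), v ∈ V.basicOpen t ↔ t ∉ q.asIdeal := by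
    intro t
    have hqv : hV₀.fromSpec q = v := hV₀.fromSpec_primeIdealOf ⟨v, hvV₀⟩
    rw [← hqv]
    change q ∈ hV₀.fromSpec ⁻¹ᵁ V.basicOpen t ↔ _
    rw [hV₀.fromSpec_preimage_basicOpen]
    rfl
  have dead_of : ∀ x y : Γ(V, V₀), V.basicOpen x ⊓ V.basicOpen y = ⊥ →
      ∃ t : Γ(V, V₀), v ∈ V.basicOpen t ∧
        (V.basicOpen t ⊓ V.basicOpen x = ⊥ ∨ V.basicOpen t ⊓ V.basicOpen y = ⊥) := by
    intro x y hxy
    rw [← Scheme.basicOpen_mul] at hxy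
    obtain ⟨N, hN⟩ :=
      (Scheme.isNilpotent_iff_basicOpen_eq_bot_of_isCompact hV₀.isCompact (x * y)).2 hxy
    have hN' : x ^ (N + 1) * y ^ (N + 1) = 0 := by rw [← mul_pow, pow_succ, hN, zero_mul]
    obtain ⟨t, ht, h⟩ := key _ _ hN'
    refine ⟨t, (hmemv t).2 ht, ?_⟩
    rcases h with h | h
    · left
      rw [← Scheme.basicOpen_pow V x (Nat.succ_pos N), ← Scheme.basicOpen_mul, h,
        Scheme.basicOpen_zero]
    · right
      rw [← Scheme.basicOpen_pow V y (Nat.succ_pos N), ← Scheme.basicOpen_mul, h,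
        Scheme.basicOpen_zero]
  -- local data on `Ω ⊓ V₀`
  have hloc' : ∀ w : ↥(Ω ⊓ V₀), ∃ (h : Γ(V, V₀)) (a : α), w.1 ∈ V.basicOpen h ∧
      V.basicOpen h ≤ Ω ∧ P (V.basicOpen h) a := by
    intro w
    obtain ⟨O, hwO, a, hPa⟩ := C5 w.1 w.2.1
    obtain ⟨h, hh, hwh⟩ := hV₀.exists_basicOpen_le (V := O ⊓ Ω) ⟨w.1, hwO, w.2.1⟩ w.2.2
    exact ⟨h, a, hwh, hh.trans inf_le_right, C1 O _ a (hh.trans inf_le_left) hPa⟩
  choose h a hwh hhΩ hPh using hloc'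
  obtain ⟨F, hF⟩ := (hΩ V₀ hV₀).elim_finite_subcover (fun w : ↥(Ω ⊓ V₀) => (V.basicOpen (h w) : Set V))
    (fun w => (V.basicOpen (h w)).isOpen) (fun z hz => Set.mem_iUnion.2 ⟨⟨z, hz⟩, hwh ⟨z, hz⟩⟩)
  let dead : ↥(Ω ⊓ V₀) → Prop := fun w =>
    ∃ t : Γ(V, V₀), v ∈ V.basicOpen t ∧ V.basicOpen t ⊓ V.basicOpen (h w) = ⊥
  have alive_eq : ∀ w w', ¬ dead w → ¬ dead w' → a w = a w' := by
    intro w w' hw hw'
    by_contra hne
    have hbot : V.basicOpen (h w) ⊓ V.basicOpen (h w') = ⊥ := by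
      by_contra hnb
      have hnn : ((V.basicOpen (h w) ⊓ V.basicOpen (h w') : V.Opens) : Set V).Nonempty := by
        by_contra hcon
        exact hnb ((TopologicalSpace.Opens.not_nonempty_iff_eq_bot _).1 hcon)
      obtain ⟨z, hz⟩ := hnn
      exact hne (C2 _ _ _ (C1 _ _ _ inf_le_left (hPh w)) (C1 _ _ _ inf_le_right (hPh w'))
        ⟨z, hz, hhΩ w hz.1⟩)
    obtain ⟨t, htv, ht | ht⟩ := dead_of _ _ hbot
    · exact hw ⟨t, htv, ht⟩
    · exact hw' ⟨t, htv, ht⟩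
  -- the element `t`
  have hdead : ∀ w : ↥(Ω ⊓ V₀), ∃ t : Γ(V, V₀), v ∈ V.basicOpen t ∧
      (dead w → V.basicOpen t ⊓ V.basicOpen (h w) = ⊥) := by
    intro w
    by_cases hw : dead w
    · obtain ⟨t, htv, ht⟩ := hw
      exact ⟨t, htv, fun _ => ht⟩
    · exact ⟨1, by rw [Scheme.basicOpen_one]; exact hvV₀, fun h' => absurd h' hw⟩
  choose tt htv htdead using hdead
  let t : Γ(V, V₀) := ∏ w ∈ F, tt w
  have htq : v ∈ V.basicOpen t := by
    rw [hmemv]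
    intro hmem
    obtain ⟨w, -, hw⟩ := (q.isPrime.prod_mem_iff).1 hmem
    exact (hmemv _).1 (htv w) hw
  have htle : ∀ w ∈ F, V.basicOpen t ≤ V.basicOpen (tt w) := by
    intro w hw
    obtain ⟨c, hc⟩ := Finset.dvd_prod_of_mem tt hw
    show V.basicOpen t ≤ _
    have : t = tt w * c := hc
    rw [this, Scheme.basicOpen_mul]
    exact inf_le_left
  let a' : α := if hex : ∃ w, ¬ dead w then a hex.choose else a₀
  have ha' : ∀ w, ¬ dead w → a w = a' := by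
    intro w hw
    have hex : ∃ w, ¬ dead w := ⟨w, hw⟩
    simp only [a', dif_pos hex]
    exact alive_eq _ _ hw hex.choose_spec
  have hPbot : ∀ b : α, P ⊥ b := by
    intro b
    refine C4 ⊥ b ∅ (fun _ h => absurd h (Set.notMem_empty _)) (fun _ h => absurd h (Set.notMem_empty _)) ?_
    intro w hw
    exact absurd hw (by simp)
  refine ⟨V.basicOpen t, htq, a', ?_⟩
  refine C4 (V.basicOpen t) a' {O' | ∃ w ∈ F, O' = V.basicOpen t ⊓ V.basicOpen (h w)} ?_ ?_ ?_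
  · rintro _ ⟨w, -, rfl⟩
    exact inf_le_left
  · rintro _ ⟨w, hwF, rfl⟩
    by_cases hw : dead w
    · have h1 : V.basicOpen t ⊓ V.basicOpen (h w) = ⊥ := by
        apply le_bot_iff.1
        rw [← htdead w hw]
        exact inf_le_inf_right _ (htle w hwF)
      rw [h1]
      exact hPbot a'
    · rw [← ha' w hw]
      exact C1 _ _ _ inf_le_right (hPh w)
  · intro z hzt hzΩ
    have hzV₀ : z ∈ V₀ := Scheme.basicOpen_le _ _ hzt
    have := hF ⟨hzΩ, hzV₀⟩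
    simp only [Set.mem_iUnion] at this
    obtain ⟨w, hwF, hzw⟩ := this
    exact ⟨_, ⟨w, hwF, rfl⟩, hzt, hzw⟩

end NormalIrredSch
end H9FE
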