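import Mathlib

/-! helper9: a local normal domain with separably closed fraction field is strictly henselian. -/

universe u
open Polynomial

namespace H9FE

theorem irreducible_sepClosed_aux {K : Type*} [Field K] [IsSepClosed K] (q : ℕ) [hE : ExpChar K q]
    {f : K[X]} (hf : Irreducible f) : derivative f = 0 ∨ f.natDegree = 1 := by
  rcases hE with _ | ⟨hq⟩
  · right
    have h1 := IsSepClosed.degree_eq_one_of_irreducible K hf hf.separable
    exact natDegree_eq_of_degree_eq_some h1
  · obtain ⟨n, g, hgs, hge⟩ := exists_separable_of_irreducible q hf hq.ne_zero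
    rcases Nat.eq_zero_or_pos n with rfl | hn
    · right
      rw [pow_zero, expand_one] at hge
      subst hge
      exact natDegree_eq_of_degree_eq_some (IsSepClosed.degree_eq_one_of_irreducible K hf hgs)
    · left
      rw [← hge, derivative_expand]
      have : ((q ^ n : ℕ) : K[X]) = 0 := by
        rw [Nat.cast_pow, CharP.cast_eq_zero K[X] q, zero_pow hn.ne']
      rw [this]
      simp

/-- irreducible polynomial over a separably closed field: derivative zero or degree one -/
theorem irreducible_sepClosed_derivative_or_degree {K : Type*} [Field K] [IsSepClosed K]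
    {f : K[X]} (hf : Irreducible f) : derivative f = 0 ∨ f.natDegree = 1 :=
  irreducible_sepClosed_aux (ringExpChar K) hf

/-- split off a monic factor which is irreducible over the fraction field -/
theorem exists_monic_factor_irreducible_map (R K : Type*) [CommRing R] [IsDomain R]
    [IsIntegrallyClosed R] [Field K] [Algebra R K] [IsFractionRing R K] (g : R[X]) (hg : g.Monic)
    (hdeg : g.natDegree ≠ 0) :
    ∃ f₀ h : R[X], f₀.Monic ∧ h.Monic ∧ g = f₀ * h ∧ Irreducible (f₀.map (algebraMap R K)) := by
  have hinj : Function.Injective (algebraMap R K) := IsFractionRing.injective R K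
  have hgm : (g.map (algebraMap R K)).Monic := hg.map _
  have hnu : ¬ IsUnit (g.map (algebraMap R K)) := by
    intro hu
    have := natDegree_eq_zero_of_isUnit hu
    rw [natDegree_map_eq_of_injective hinj] at this
    exact hdeg this
  obtain ⟨f, hfm, hfi, hfd⟩ := exists_monic_irreducible_factor _ hnu
  obtain ⟨f₀, hf₀⟩ := IsIntegrallyClosed.eq_map_mul_C_of_dvd K hg hfd
  rw [hfm.leadingCoeff, C_1, mul_one] at hf₀
  have hf₀m : f₀.Monic := monic_of_injective hinj (by rw [hf₀]; exact hfm)
  have hmod : g %ₘ f₀ = 0 := by
    apply map_injective _ hinj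
    rw [map_modByMonic _ hf₀m, hf₀, Polynomial.map_zero]
    exact (modByMonic_eq_zero_iff_dvd hfm).2 hfd
  have hmul : g = f₀ * (g /ₘ f₀) := by
    have := modByMonic_add_div g f₀
    rw [hmod, zero_add] at this
    exact this.symm
  refine ⟨f₀, g /ₘ f₀, hf₀m, ?_, hmul, by rw [hf₀]; exact hfi⟩
  exact hf₀m.of_mul_monic_left (by rw [← hmul]; exact hg)

/-- Hensel's lemma for a local normal domain with separably closed fraction field -/
theorem hensel_of_normal_sepClosed (R K : Type*) [CommRing R] [IsDomain R] [IsLocalRing R]
    [IsIntegrallyClosed R] [Field K] [Algebra R K] [IsFractionRing R K] [IsSepClosed K] :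
    ∀ (n : ℕ) (g : R[X]), g.natDegree = n → g.Monic → ∀ a₀ : R,
      g.eval a₀ ∈ IsLocalRing.maximalIdeal R → IsUnit ((derivative g).eval a₀) →
      ∃ a : R, g.IsRoot a ∧ a - a₀ ∈ IsLocalRing.maximalIdeal R := by
  intro n
  induction n using Nat.strong_induction_on with
  | _ n ih =>
    intro g hn hg a₀ h0 h1
    have hinj : Function.Injective (algebraMap R K) := IsFractionRing.injective R K
    have hdeg : g.natDegree ≠ 0 := by
      intro h
      have : g = 1 := hg.natDegree_eq_zero.1 h
      rw [this, eval_one] at h0
      exact (IsLocalRing.maximalIdeal.isMaximal R).ne_top ((Ideal.eq_top_iff_one _).2 h0)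
    obtain ⟨f₀, h, hf₀m, hhm, hgfh, hirr⟩ := exists_monic_factor_irreducible_map R K g hg hdeg
    have hev : g.eval a₀ = f₀.eval a₀ * h.eval a₀ := by rw [hgfh, eval_mul]
    have hder : (derivative g).eval a₀ =
        (derivative f₀).eval a₀ * h.eval a₀ + f₀.eval a₀ * (derivative h).eval a₀ := by
      rw [hgfh, derivative_mul, eval_add, eval_mul, eval_mul]
    have hf₀deg : f₀.natDegree ≠ 0 := by
      intro hz
      have h1' : f₀ = 1 := hf₀m.natDegree_eq_zero.1 hz
      rw [h1', Polynomial.map_one] at hirr
      exact hirr.not_isUnit isUnit_one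
    rw [hev] at h0
    rcases (IsLocalRing.maximalIdeal.isMaximal R).isPrime.mem_or_mem h0 with hf | hh
    · -- `f₀(a₀) ∈ m`
      have hu : IsUnit ((derivative f₀).eval a₀) := by
        rw [hder] at h1
        by_contra hnu
        have h2 : (derivative f₀).eval a₀ ∈ IsLocalRing.maximalIdeal R :=
          (IsLocalRing.mem_maximalIdeal _).2 hnu
        have h3 : (derivative f₀).eval a₀ * h.eval a₀ + f₀.eval a₀ * (derivative h).eval a₀ ∈
            IsLocalRing.maximalIdeal R :=
          Ideal.add_mem _ (Ideal.mul_mem_right _ _ h2) (Ideal.mul_mem_right _ _ hf)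
        exact (IsLocalRing.mem_maximalIdeal _).1 h3 h1
      rcases irreducible_sepClosed_derivative_or_degree hirr with hd | hd
      · exfalso
        rw [derivative_map] at hd
        have : derivative f₀ = 0 := map_injective _ hinj (by rw [hd, Polynomial.map_zero])
        rw [this, eval_zero] at hu
        exact not_isUnit_zero hu
      · rw [natDegree_map_eq_of_injective hinj] at hd
        have hf₀eq : f₀ = X + C (f₀.coeff 0) := by
          have := eq_X_add_C_of_natDegree_le_one hd.le
          rw [this]
          have hlc : f₀.coeff 1 = 1 := by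
            have := hf₀m.coeff_natDegree
            rwa [hd] at this
          rw [hlc, C_1, one_mul]
          simp
        refine ⟨- f₀.coeff 0, ?_, ?_⟩
        · show g.eval _ = 0
          rw [hgfh, eval_mul]
          have : f₀.eval (- f₀.coeff 0) = 0 := by
            rw [hf₀eq]; simp
          rw [this, zero_mul]
        · have : f₀.eval a₀ = a₀ + f₀.coeff 0 := by
            conv_lhs => rw [hf₀eq]
            simp
          rw [this] at hf
          have : - f₀.coeff 0 - a₀ = - (a₀ + f₀.coeff 0) := by ring
          rw [this]
          exact Ideal.neg_mem_iff _ |>.2 hf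
    · -- `h(a₀) ∈ m`
      have hlt : h.natDegree < n := by
        have := congrArg natDegree hgfh
        rw [hf₀m.natDegree_mul hhm, hn] at this
        omega
      have hu : IsUnit ((derivative h).eval a₀) := by
        rw [hder] at h1
        by_contra hnu
        have h2 : (derivative h).eval a₀ ∈ IsLocalRing.maximalIdeal R :=
          (IsLocalRing.mem_maximalIdeal _).2 hnu
        have h3 : (derivative f₀).eval a₀ * h.eval a₀ + f₀.eval a₀ * (derivative h).eval a₀ ∈
            IsLocalRing.maximalIdeal R :=
          Ideal.add_mem _ (Ideal.mul_mem_left _ _ hh) (Ideal.mul_mem_left _ _ h2)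
        exact (IsLocalRing.mem_maximalIdeal _).1 h3 h1
      obtain ⟨a, ha, haa⟩ := ih _ hlt h rfl hhm a₀ hh hu
      refine ⟨a, ?_, haa⟩
      show g.eval a = 0
      rw [hgfh, eval_mul, ha, mul_zero]

theorem residueField_isSepClosed (R K : Type*) [CommRing R] [IsDomain R] [IsLocalRing R]
    [IsIntegrallyClosed R] [Field K] [Algebra R K] [IsFractionRing R K] [IsSepClosed K] :
    IsSepClosed (IsLocalRing.ResidueField R) := by
  apply IsSepClosed.of_exists_root
  intro p hpm hpi hps
  have hinj : Function.Injective (algebraMap R K) := IsFractionRing.injective R K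
  have hsurj : Function.Surjective (IsLocalRing.residue R) := IsLocalRing.residue_surjective
  obtain ⟨g, hgp, hgdeg, hgm⟩ := lifts_and_natDegree_eq_and_monic
    ((mem_lifts p).2 (map_surjective _ hsurj p)) hpm
  have hpdeg : p.natDegree ≠ 0 := by
    intro h
    have : p = 1 := hpm.natDegree_eq_zero.1 h
    exact hpi.not_isUnit (this ▸ isUnit_one)
  obtain ⟨f₀, h, hf₀m, hhm, hgfh, hirr⟩ :=
    exists_monic_factor_irreducible_map R K g hgm (by rw [hgdeg]; exact hpdeg)
  have hf₀deg : f₀.natDegree ≠ 0 := by
    intro hz
    have h1' : f₀ = 1 := hf₀m.natDegree_eq_zero.1 hz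
    rw [h1', Polynomial.map_one] at hirr
    exact hirr.not_isUnit isUnit_one
  have hp' : p = f₀.map (IsLocalRing.residue R) * h.map (IsLocalRing.residue R) := by
    rw [← hgp, hgfh, Polynomial.map_mul]
  have hh1 : h = 1 := by
    rcases hpi.isUnit_or_isUnit hp' with hu | hu
    · exfalso
      have := natDegree_eq_zero_of_isUnit hu
      rw [hf₀m.natDegree_map] at this
      exact hf₀deg this
    · have := natDegree_eq_zero_of_isUnit hu
      rw [hhm.natDegree_map] at this
      exact hhm.natDegree_eq_zero.1 this
  rw [hh1, mul_one] at hgfh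
  subst hgfh
  rcases irreducible_sepClosed_derivative_or_degree hirr with hd | hd
  · exfalso
    rw [derivative_map] at hd
    have hg0 : derivative g = 0 := map_injective _ hinj (by rw [hd, Polynomial.map_zero])
    have hp0 : derivative p = 0 := by rw [← hgp, derivative_map, hg0, Polynomial.map_zero]
    have hsep : IsCoprime p (derivative p) := hps
    rw [hp0, isCoprime_zero_right] at hsep
    exact hpi.not_isUnit hsep
  · rw [natDegree_map_eq_of_injective hinj, hgdeg] at hd
    have hdeg1 : p.degree = 1 := by
      rw [degree_eq_natDegree hpm.ne_zero, hd]; rfl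
    exact exists_root_of_degree_eq_one hdeg1


theorem henselianLocalRing_of_normal_sepClosed (R K : Type*) [CommRing R] [IsDomain R]
    [IsLocalRing R] [IsIntegrallyClosed R] [Field K] [Algebra R K] [IsFractionRing R K]
    [IsSepClosed K] : HenselianLocalRing R where
  is_henselian g hg a₀ h0 h1 := hensel_of_normal_sepClosed R K _ g rfl hg a₀ h0 h1

end H9FE
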