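import Mathlib
import Groth.Prelude.Def_ProEtS
import Groth.Prelude.Def_EtCore
import Groth.Agent.Lib.Helper9.FE.PCShift
import Groth.Agent.Lib.Helper5.Misc.LerayAcyc
import Groth.Agent.Lib.Helper5.Misc.ExtAdj
import Groth.Agent.Lib.Helper3.ExtRD

/-! helper9: comparison of étale and pro-étale cohomology: `H^i(X_et, F) ≅ H^i(X_proet, ε⁻¹ F)`
(Leray for `ε_*` using `R^q ε_* ε⁻¹ F = 0` and the unit isomorphism `F ≅ ε_* ε⁻¹ F`). -/

set_option autoImplicit false
set_option linter.unusedSectionVars false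
set_option linter.style.haveILetI false
set_option backward.isDefEq.respectTransparency false
universe u
open CategoryTheory Limits Opposite AlgebraicGeometry Abelian

namespace H9FE.PC

open Groth.Agent.Lib.Helper5.Misc

variable (X : Scheme.{u}) [ProEtS.EpsCont X]

instance : (ProEtS.epsPush X).PreservesInjectiveObjects :=
  Functor.preservesInjectiveObjects_of_adjunction_of_preservesMonomorphisms (ProEtS.epsAdj X)

/-- the constant sheaf `ℤ` on the small étale site -/
noncomputable abbrev ZZet : EtCoh.Ab X :=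
  (constantSheaf X.smallEtaleTopology AddCommGrpCat.{u + 1}).obj (AddCommGrpCat.of (ULift ℤ))

/-- the constant sheaf `ℤ` on the small pro-étale site -/
noncomputable abbrev ZZpro : ProEtS.AbP X :=
  (constantSheaf (Scheme.ProEt.topology X) AddCommGrpCat.{u + 1}).obj (AddCommGrpCat.of (ULift ℤ))

/-- the image of the terminal object of the small étale site is terminal -/
noncomputable def epsTopIsTerminal : IsTerminal ((ProEtS.eps X).obj (EtCoh.top X)) :=
  IsTerminal.isTerminalObj (ProEtS.eps X) _ (EtCore.topIsTerminal X)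

/-- pullback of constant sheaves -/
noncomputable def constIso :
    constantSheaf X.smallEtaleTopology AddCommGrpCat.{u + 1} ⋙ ProEtS.epsPull X ≅
      constantSheaf (Scheme.ProEt.topology X) AddCommGrpCat.{u + 1} :=
  Adjunction.leftAdjointUniq
    (((constantSheafAdj X.smallEtaleTopology AddCommGrpCat.{u + 1} (EtCore.topIsTerminal X)).comp
      (ProEtS.epsAdj X)).ofNatIsoRight (Iso.refl _))
    (constantSheafAdj (Scheme.ProEt.topology X) AddCommGrpCat.{u + 1} (epsTopIsTerminal X))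

/-- `Hom(ℤ, ε_* -) ≅ Hom(ℤ, -)` -/
noncomputable def homIso :
    ProEtS.epsPush X ⋙ preadditiveCoyoneda.obj (op (ZZet X)) ≅
      preadditiveCoyoneda.obj (op (ZZpro X)) :=
  NatIso.ofComponents
    (fun F => AddEquiv.toAddCommGrpIso
      (X := AddCommGrpCat.of (ZZet X ⟶ (ProEtS.epsPush X).obj F))
      (Y := AddCommGrpCat.of (ZZpro X ⟶ F))
      (((ProEtS.epsAdj X).homAddEquiv (ZZet X) F).symm.trans
        (ExtAdj.preAddEquiv ((constIso X).app (AddCommGrpCat.of (ULift ℤ))).symm F)))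
    (fun {F G} φ => by
      ext ψ
      change ((constIso X).app (AddCommGrpCat.of (ULift ℤ))).symm.hom ≫
          ((ProEtS.epsAdj X).homEquiv (ZZet X) G).symm (ψ ≫ (ProEtS.epsPush X).map φ) =
        (((constIso X).app (AddCommGrpCat.of (ULift ℤ))).symm.hom ≫
          ((ProEtS.epsAdj X).homEquiv (ZZet X) F).symm ψ) ≫ φ
      rw [Adjunction.homEquiv_naturality_right_symm, Category.assoc])

/-- Leray for `ε_*`: cohomology of an `ε_*`-acyclic pro-étale sheaf -/
theorem leray (G : ProEtS.AbP X)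
    (h : ∀ q : ℕ, IsZero ((ProEtS.RepsPush X (q + 1)).obj G)) (p : ℕ) :
    Nonempty (ProEtS.HP X G p ≃+ EtCoh.H X ((ProEtS.epsPush X).obj G) p) := by
  have hX : ∀ i : ℕ, 0 < i → IsZero (((ProEtS.epsPush X).rightDerived i).obj G) := by
    intro i hi
    obtain ⟨q, rfl⟩ : ∃ q, i = q + 1 := ⟨i - 1, by omega⟩
    exact h q
  have e1 := Groth.Agent.Helper3.ExtRD.rightDerivedIsoExt
    (ProEtS.epsPush X ⋙ preadditiveCoyoneda.obj (op (ZZet X))) (ZZpro X) (homIso X) G p
  have e2 := LerayAcyc.preIso (ProEtS.epsPush X) (preadditiveCoyoneda.obj (op (ZZet X))) G hX p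
  have e3 := Groth.Agent.Helper3.ExtRD.coyonedaRightDerivedIso (ZZet X)
    ((ProEtS.epsPush X).obj G) p
  exact ⟨(e1.symm ≪≫ e2 ≪≫ e3).addCommGroupIsoToAddEquiv⟩

/-- `H^i(X_et, F) ≅ H^i(X_proet, ε⁻¹ F)` -/
theorem main719 (F : EtCoh.Ab X) (i : ℕ) :
    Nonempty (EtCoh.H X F i ≃+ ProEtS.HP X ((ProEtS.epsPull X).obj F) i) := by
  obtain ⟨e⟩ := leray X ((ProEtS.epsPull X).obj F) (fun q => isZero_RepsPush q F) i
  have e5 := Groth.Agent.Helper3.ExtRD.coyonedaRightDerivedIso (ZZet X) F i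
  have e3 := Groth.Agent.Helper3.ExtRD.coyonedaRightDerivedIso (ZZet X)
    ((ProEtS.epsPush X).obj ((ProEtS.epsPull X).obj F)) i
  have e4 := ((preadditiveCoyoneda.obj (op (ZZet X))).rightDerived i).mapIso ((unitIso X).app F)
  exact ⟨((e5.symm ≪≫ e4 ≪≫ e3).addCommGroupIsoToAddEquiv).trans e.symm⟩

end H9FE.PC
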