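import Mathlib
import Groth.Prelude.Def_WeakSerre

/-! helper9: for an adjunction `L ⊣ R` of abelian categories with `L` exact and the unit an
isomorphism, such that `R` is right exact on short exact sequences whose kernel is in the essential
image of `L`, the essential image under `L` of a weak Serre subcategory is a weak Serre
subcategory. -/

set_option autoImplicit false
set_option linter.unusedSectionVars false
set_option linter.style.haveILetI false
universe v₁ v₂ u₁ u₂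
open CategoryTheory Limits

namespace H9FE.WSerreEss

variable {𝒜 : Type u₁} [Category.{v₁} 𝒜] [Abelian 𝒜] {ℬ : Type u₂} [Category.{v₂} ℬ] [Abelian ℬ]
  {L : 𝒜 ⥤ ℬ} {R : ℬ ⥤ 𝒜} (adj : L ⊣ R) [L.Additive] [R.Additive] [PreservesFiniteLimits L]

/-- the essential image under `L` of a property of objects -/
def ess (L : 𝒜 ⥤ ℬ) (S : ObjectProperty 𝒜) : ObjectProperty ℬ :=
  fun F => ∃ G : 𝒜, S G ∧ Nonempty (L.obj G ≅ F)

omit [Abelian 𝒜] [Abelian ℬ] [L.Additive] [PreservesFiniteLimits L] in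
lemma ess_of_iso (S : ObjectProperty 𝒜) {F F' : ℬ} (e : F ≅ F') (h : ess L S F) : ess L S F' := by
  obtain ⟨G, hG, ⟨i⟩⟩ := h
  exact ⟨G, hG, ⟨i ≪≫ e⟩⟩

variable [hu : ∀ A, IsIso (adj.unit.app A)]

include adj hu in
omit [R.Additive] in
/-- kernels -/
lemma ess_kernel (S : ObjectProperty 𝒜) [S.IsClosedUnderKernels] {F F' : ℬ} (φ : F ⟶ F')
    (h : ess L S F) (h' : ess L S F') : ess L S (kernel φ) := by
  obtain ⟨G, hG, ⟨e₁⟩⟩ := h
  obtain ⟨G', hG', ⟨e₂⟩⟩ := h'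
  haveI : IsIso adj.unit := NatIso.isIso_of_isIso_app _
  let ff := adj.fullyFaithfulLOfIsIsoUnit
  let ψ : G ⟶ G' := ff.preimage (e₁.hom ≫ φ ≫ e₂.inv)
  have hψ : L.map ψ = e₁.hom ≫ φ ≫ e₂.inv := ff.map_preimage _
  refine ⟨kernel ψ, S.prop_kernel ψ hG hG', ⟨PreservesKernel.iso L ψ ≪≫
    (kernel.mapIso φ (L.map ψ) e₁.symm e₂.symm ?_).symm⟩⟩
  rw [hψ]
  simp

include adj hu in
omit [R.Additive] in
/-- cokernels -/
lemma ess_cokernel (S : ObjectProperty 𝒜) [S.IsClosedUnderCokernels] {F F' : ℬ} (φ : F ⟶ F')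
    (h : ess L S F) (h' : ess L S F') : ess L S (cokernel φ) := by
  obtain ⟨G, hG, ⟨e₁⟩⟩ := h
  obtain ⟨G', hG', ⟨e₂⟩⟩ := h'
  haveI : IsIso adj.unit := NatIso.isIso_of_isIso_app _
  let ff := adj.fullyFaithfulLOfIsIsoUnit
  let ψ : G ⟶ G' := ff.preimage (e₁.hom ≫ φ ≫ e₂.inv)
  have hψ : L.map ψ = e₁.hom ≫ φ ≫ e₂.inv := ff.map_preimage _
  haveI : PreservesColimitsOfSize.{0, 0} L := adj.leftAdjoint_preservesColimits
  refine ⟨cokernel ψ, S.prop_cokernel ψ hG hG', ⟨PreservesCokernel.iso L ψ ≪≫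
    (cokernel.mapIso φ (L.map ψ) e₁.symm e₂.symm ?_).symm⟩⟩
  rw [hψ]
  simp

include adj hu in
/-- extensions -/
lemma ess_ext (S : ObjectProperty 𝒜) [S.IsClosedUnderExtensions] [S.IsClosedUnderIsomorphisms]
    (hR : ∀ T : ShortComplex ℬ, T.ShortExact → (∃ G : 𝒜, Nonempty (L.obj G ≅ T.X₁)) →
      Epi (R.map T.g))
    {T : ShortComplex ℬ} (hT : T.ShortExact) (h₁ : ess L S T.X₁) (h₃ : ess L S T.X₃) :
    ess L S T.X₂ := by
  obtain ⟨G₁, hG₁, ⟨e₁⟩⟩ := h₁
  obtain ⟨G₃, hG₃, ⟨e₃⟩⟩ := h₃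
  haveI : IsIso adj.unit := NatIso.isIso_of_isIso_app _
  let ff := adj.fullyFaithfulLOfIsIsoUnit
  haveI : L.Full := ff.full
  haveI : L.Faithful := ff.faithful
  haveI : PreservesColimitsOfSize.{0, 0} L := adj.leftAdjoint_preservesColimits
  haveI : PreservesFiniteColimits L := PreservesColimitsOfSize.preservesFiniteColimits _
  haveI : PreservesLimitsOfSize.{0, 0} R := adj.rightAdjoint_preservesLimits
  haveI : PreservesFiniteLimits R := PreservesLimitsOfSize.preservesFiniteLimits _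
  haveI := hT.mono_f
  haveI := hT.epi_g
  have hRT : (T.map R).ShortExact :=
    { exact := hT.exact.map_of_mono_of_preservesKernel R inferInstance inferInstance
      mono_f := (inferInstance : Mono (R.map T.f))
      epi_g := hR T hT ⟨G₁, ⟨e₁⟩⟩ }
  have hS₁ : S (R.obj T.X₁) :=
    S.prop_of_iso (asIso (adj.unit.app G₁) ≪≫ R.mapIso e₁) hG₁
  have hS₃ : S (R.obj T.X₃) :=
    S.prop_of_iso (asIso (adj.unit.app G₃) ≪≫ R.mapIso e₃) hG₃
  have hS₂ : S (R.obj T.X₂) := S.prop_X₂_of_shortExact hRT hS₁ hS₃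
  have hLRT : ((T.map R).map L).ShortExact := hRT.map_of_exact L
  let φ : (T.map R).map L ⟶ T :=
    { τ₁ := adj.counit.app T.X₁
      τ₂ := adj.counit.app T.X₂
      τ₃ := adj.counit.app T.X₃
      comm₁₂ := (adj.counit.naturality T.f).symm
      comm₂₃ := (adj.counit.naturality T.g).symm }
  haveI : IsIso φ.τ₁ := adj.isIso_counit_app_of_iso e₁.symm
  haveI : IsIso φ.τ₃ := adj.isIso_counit_app_of_iso e₃.symm
  haveI : IsIso (adj.counit.app T.X₂) :=
    ShortComplex.isIso₂_of_shortExact_of_isIso₁₃ φ hLRT hT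
  exact ⟨R.obj T.X₂, hS₂, ⟨asIso (adj.counit.app T.X₂)⟩⟩

include adj hu in
/-- the essential image of a weak Serre subcategory is a weak Serre subcategory -/
theorem isWeakSerre_ess (S : ObjectProperty 𝒜) [WSerre.IsWeakSerre S]
    (hR : ∀ T : ShortComplex ℬ, T.ShortExact → (∃ G : 𝒜, Nonempty (L.obj G ≅ T.X₁)) →
      Epi (R.map T.g)) :
    WSerre.IsWeakSerre (ess L S) := by
  haveI : (ess L S).ContainsZero := by
    obtain ⟨Z, hZ, hSZ⟩ := S.exists_prop_of_containsZero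
    exact ⟨⟨L.obj Z, L.map_isZero hZ, ⟨Z, hSZ, ⟨Iso.refl _⟩⟩⟩⟩
  haveI : (ess L S).IsClosedUnderKernels :=
    ⟨by
      rintro _ ⟨f, k, hk, ⟨hX, hY⟩⟩
      exact ess_of_iso S (IsLimit.conePointUniqueUpToIso (kernelIsKernel f) hk)
        (ess_kernel adj S f hX hY)⟩
  haveI : (ess L S).IsClosedUnderCokernels :=
    ⟨by
      rintro _ ⟨f, k, hk, ⟨hX, hY⟩⟩
      exact ess_of_iso S (IsColimit.coconePointUniqueUpToIso (cokernelIsCokernel f) hk)
        (ess_cokernel adj S f hX hY)⟩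
  haveI : (ess L S).IsClosedUnderExtensions :=
    ⟨fun hT h₁ h₃ => ess_ext adj S hR hT h₁ h₃⟩
  exact {}

end H9FE.WSerreEss
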