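import Mathlib
import Groth.Prelude.Def_ProEtS
import Groth.Prelude.Def_WeakSerre
import Groth.Agent.Lib.Helper9.FE.PCShift
import Groth.Agent.Lib.Helper9.FE.WSerreEss

/-! helper9: `ε_*` is right exact on short exact sequences of abelian pro-étale sheaves whose kernel
is pulled back from the étale site; the essential image under `ε⁻¹` of a weak Serre subcategory of
abelian étale sheaves is weak Serre. -/

set_option autoImplicit false
set_option linter.unusedSectionVars false
set_option linter.style.haveILetI false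
set_option backward.isDefEq.respectTransparency false
universe u
open CategoryTheory Limits Opposite AlgebraicGeometry Abelian

namespace H9FE.PC

variable {X : Scheme.{u}} [ProEtS.EpsCont X]

theorem epi_epsPush_map (T : ShortComplex (ProEtS.AbP X)) (hT : T.ShortExact)
    (h : ∃ G : EtCoh.Ab X, Nonempty ((ProEtS.epsPull X).obj G ≅ T.X₁)) :
    Epi ((ProEtS.epsPush X).map T.g) := by
  obtain ⟨G, ⟨e⟩⟩ := h
  let Lles := Groth.Agent.Helper3.RDerL.derivedLES (ProEtS.epsPush X)
  have hz : IsZero (((ProEtS.epsPush X).rightDerived 1).obj T.X₁) :=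
    IsZero.of_iso (isZero_RepsPush 0 G) (((ProEtS.epsPush X).rightDerived 1).mapIso e.symm)
  have e3 := Lles.exact₃ T hT 0 1 rfl
  haveI : Epi (((ProEtS.epsPush X).rightDerived 0).map T.g) := e3.epi_f (hz.eq_of_tgt _ _)
  exact epi_map_of_natIso (ProEtS.epsPush X).rightDerivedZeroIsoSelf T.g

theorem main14016 (S : ObjectProperty (EtCoh.Ab X)) [WSerre.IsWeakSerre S] :
    WSerre.IsWeakSerre (fun F : ProEtS.AbP X =>
      ∃ G : EtCoh.Ab X, S G ∧ Nonempty ((ProEtS.epsPull X).obj G ≅ F)) :=
  haveI : ∀ A, IsIso ((ProEtS.epsAdj X).unit.app A) := fun A => H9FE.ProEtE.main717 X A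
  H9FE.WSerreEss.isWeakSerre_ess (ProEtS.epsAdj X) S epi_epsPush_map

end H9FE.PC
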