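import Mathlib
import Groth.Prelude.Def_EtModW
import Groth.Prelude.Def_WeakSerre
import Groth.Agent.Lib.Helper9.FE.PCSerre
import Groth.Agent.Lib.Helper9.FE.ProEtM4
import Groth.Agent.Lib.Helper5.Misc.LanFlat

/-! helper9: sheaves of `Λ`-modules on the pro-étale site: the forgetful functor to abelian sheaves
is exact and commutes with `ε⁻¹`; `ε_*` is right exact on short exact sequences of sheaves of
modules whose kernel is pulled back from the étale site; the essential image of `ε⁻¹` on sheaves of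
modules is a weak Serre subcategory. -/

set_option autoImplicit false
set_option linter.unusedSectionVars false
set_option linter.style.haveILetI false
set_option backward.isDefEq.respectTransparency false
universe u
open CategoryTheory Limits Opposite AlgebraicGeometry Abelian

namespace H9FE.PCMod

open Groth.Agent.Lib.Helper5.Misc H9FE.ProEtE

variable (Λ : Type (u + 1)) [CommRing Λ] (X : Scheme.{u})

/-- forgetting the module structure -/
noncomputable abbrev Fg : ModuleCat.{u + 1} Λ ⥤ AddCommGrpCat.{u + 1} :=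
  forget₂ (ModuleCat.{u + 1} Λ) AddCommGrpCat.{u + 1}

/-- forgetting the module structure, pro-étale sheaves -/
noncomputable abbrev forgetP : EtModW.ModP Λ X ⥤ ProEtS.AbP X :=
  sheafCompose (Scheme.ProEt.topology X) (Fg Λ)

/-- forgetting the module structure, étale sheaves -/
noncomputable abbrev forgetE : EtModW.Mod Λ X ⥤ EtCoh.Ab X :=
  sheafCompose X.smallEtaleTopology (Fg Λ)

instance : PreservesFiniteLimits (forgetP Λ X) := by
  haveI : PreservesFiniteLimits ((Functor.whiskeringRight X.ProEtᵒᵖ _ _).obj (Fg Λ)) :=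
    ⟨fun J _ _ => inferInstance⟩
  have h : PreservesFiniteLimits (forgetP Λ X ⋙ sheafToPresheaf _ _) := by
    change PreservesFiniteLimits (sheafToPresheaf _ (ModuleCat.{u + 1} Λ) ⋙
      (Functor.whiskeringRight X.ProEtᵒᵖ _ _).obj (Fg Λ))
    infer_instance
  exact preservesFiniteLimits_of_reflects_of_preserves (forgetP Λ X) (sheafToPresheaf _ _)

instance : (forgetP Λ X).Additive := Functor.additive_of_preserves_binary_products _

lemma epi_forgetP_map {F G : EtModW.ModP Λ X} (g : F ⟶ G) [Epi g] :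
    Epi ((forgetP Λ X).map g) := by
  haveI h1 : Sheaf.IsLocallySurjective g :=
    (Sheaf.isLocallySurjective_iff_epi' _ g).mpr inferInstance
  haveI : Sheaf.IsLocallySurjective ((forgetP Λ X).map g) :=
    ⟨fun {U} s => (Scheme.ProEt.topology X).superset_covering
      (by
        rintro V i ⟨t, ht⟩
        exact ⟨t, ht⟩) (Presheaf.imageSieve_mem (Scheme.ProEt.topology X) g.hom s)⟩
  infer_instance

lemma shortExact_forgetP (T : ShortComplex (EtModW.ModP Λ X)) (hT : T.ShortExact) :
    (T.map (forgetP Λ X)).ShortExact := by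
  haveI := hT.mono_f
  haveI := hT.epi_g
  exact
    { exact := hT.exact.map_of_mono_of_preservesKernel (forgetP Λ X) inferInstance inferInstance
      mono_f := (inferInstance : Mono ((forgetP Λ X).map T.f))
      epi_g := epi_forgetP_map Λ X T.g }

variable [ProEtS.EpsCont X]

/-- `ε_*` on sheaves of modules -/
noncomputable abbrev pushM : EtModW.ModP Λ X ⥤ EtModW.Mod Λ X :=
  (ProEtS.eps X).sheafPushforwardContinuous (ModuleCat.{u + 1} Λ) X.smallEtaleTopology
    (Scheme.ProEt.topology X)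

/-- the adjunction `ε⁻¹ ⊣ ε_*` on sheaves of modules -/
noncomputable abbrev adjM : EtModW.epsPullMod Λ X ⊣ pushM Λ X :=
  (ProEtS.eps X).sheafAdjunctionContinuous (ModuleCat.{u + 1} Λ) X.smallEtaleTopology
    (Scheme.ProEt.topology X)

instance : (pushM Λ X).Additive where

theorem ab5 : AB5OfSize.{u, u + 1} (ModuleCat.{u + 1} Λ) :=
  AB5OfSize_shrink.{u, u + 1, u + 1, u + 1} (ModuleCat.{u + 1} Λ)

instance : PreservesFiniteLimits (EtModW.epsPullMod Λ X) := by
  have := ab5.{u} Λ
  exact LanFlat.preservesFiniteLimits_sheafPullback (ProEtS.eps X) (ModuleCat.{u + 1} Λ) _ _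

instance : (EtModW.epsPullMod Λ X).Additive := Functor.additive_of_preserves_binary_products _

set_option maxHeartbeats 1000000 in
set_option synthInstance.maxHeartbeats 400000 in
instance preservesSheafification_Fg :
    (Scheme.ProEt.topology X).PreservesSheafification (Fg Λ) :=
  GrothendieckTopology.instPreservesSheafification (Scheme.ProEt.topology X) (Fg Λ)

/-- `ε⁻¹` commutes with forgetting the module structure -/
theorem nonempty_compatIso (M : EtModW.Mod Λ X) :
    Nonempty ((forgetP Λ X).obj ((EtModW.epsPullMod Λ X).obj M) ≅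
      (ProEtS.epsPull X).obj ((forgetE Λ X).obj M)) := by
  have e1 : (EtModW.epsPullMod Λ X).obj M ≅
      (presheafToSheaf (Scheme.ProEt.topology X) (ModuleCat.{u + 1} Λ)).obj
        ((ProEtS.eps X).op.lan.obj M.obj) :=
    (Functor.sheafPullbackConstruction.sheafPullbackIso (ProEtS.eps X) (ModuleCat.{u + 1} Λ)
      X.smallEtaleTopology (Scheme.ProEt.topology X)).app M
  have e2 : (presheafToSheaf (Scheme.ProEt.topology X) AddCommGrpCat.{u + 1}).obj
        ((ProEtS.eps X).op.lan.obj M.obj ⋙ Fg Λ) ≅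
      (forgetP Λ X).obj ((presheafToSheaf (Scheme.ProEt.topology X) (ModuleCat.{u + 1} Λ)).obj
        ((ProEtS.eps X).op.lan.obj M.obj)) :=
    (sheafComposeNatIso (Scheme.ProEt.topology X) (Fg Λ)
      (sheafificationAdjunction (Scheme.ProEt.topology X) (ModuleCat.{u + 1} Λ))
      (sheafificationAdjunction (Scheme.ProEt.topology X) AddCommGrpCat.{u + 1})).app
        ((ProEtS.eps X).op.lan.obj M.obj)
  have e3 : (ProEtS.eps X).op.lan.obj M.obj ⋙ Fg Λ ≅
      (ProEtS.eps X).op.lan.obj (M.obj ⋙ Fg Λ) :=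
    ((Fg Λ).lanCompIsoOfPreserves (ProEtS.eps X).op).app M.obj
  have e4 : (ProEtS.epsPull X).obj ((forgetE Λ X).obj M) ≅
      (presheafToSheaf (Scheme.ProEt.topology X) AddCommGrpCat.{u + 1}).obj
        ((ProEtS.eps X).op.lan.obj (M.obj ⋙ Fg Λ)) :=
    (Functor.sheafPullbackConstruction.sheafPullbackIso (ProEtS.eps X) AddCommGrpCat.{u + 1}
      X.smallEtaleTopology (Scheme.ProEt.topology X)).app ((forgetE Λ X).obj M)
  exact ⟨(forgetP Λ X).mapIso e1 ≪≫ e2.symm ≪≫
    (presheafToSheaf (Scheme.ProEt.topology X) AddCommGrpCat.{u + 1}).mapIso e3 ≪≫ e4.symm⟩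

/-- `ε_*` is right exact on short exact sequences of sheaves of modules whose kernel is pulled back
from the étale site -/
theorem epi_pushM_map (T : ShortComplex (EtModW.ModP Λ X)) (hT : T.ShortExact)
    (h : ∃ G : EtModW.Mod Λ X, Nonempty ((EtModW.epsPullMod Λ X).obj G ≅ T.X₁)) :
    Epi ((pushM Λ X).map T.g) := by
  obtain ⟨G, ⟨e⟩⟩ := h
  obtain ⟨c⟩ := nonempty_compatIso Λ X G
  have hT' := shortExact_forgetP Λ X T hT
  have h1 : Epi ((ProEtS.epsPush X).map ((forgetP Λ X).map T.g)) :=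
    H9FE.PC.epi_epsPush_map (T.map (forgetP Λ X)) hT'
      ⟨(forgetE Λ X).obj G, ⟨c.symm ≪≫ (forgetP Λ X).mapIso e⟩⟩
  haveI : Epi ((forgetE Λ X).map ((pushM Λ X).map T.g)) := h1
  exact (forgetE Λ X).epi_of_epi_map this

instance topKer {𝒜 : Type*} [Category 𝒜] [HasZeroMorphisms 𝒜] :
    (⊤ : ObjectProperty 𝒜).IsClosedUnderKernels := ⟨fun _ _ => trivial⟩

instance topCoker {𝒜 : Type*} [Category 𝒜] [HasZeroMorphisms 𝒜] :
    (⊤ : ObjectProperty 𝒜).IsClosedUnderCokernels := ⟨fun _ _ => trivial⟩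

open H9FE.WSerreEss in
theorem main7288 :
    (∀ (F G : EtModW.ModP Λ X) (φ : F ⟶ G), (EtModW.epsPullMod Λ X).essImage F →
      (EtModW.epsPullMod Λ X).essImage G →
        (EtModW.epsPullMod Λ X).essImage (kernel φ) ∧
          (EtModW.epsPullMod Λ X).essImage (cokernel φ)) ∧
    ∀ (T : ShortComplex (EtModW.ModP Λ X)), T.ShortExact →
      (EtModW.epsPullMod Λ X).essImage T.X₁ → (EtModW.epsPullMod Λ X).essImage T.X₃ →
        (EtModW.epsPullMod Λ X).essImage T.X₂ := by
  haveI : ∀ A, IsIso ((adjM Λ X).unit.app A) := fun A => H9FE.ProEtM.mainMod Λ X A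
  have conv : ∀ F : EtModW.ModP Λ X, (EtModW.epsPullMod Λ X).essImage F ↔
      ess (EtModW.epsPullMod Λ X) ⊤ F :=
    fun F => ⟨fun ⟨G, ⟨e⟩⟩ => ⟨G, trivial, ⟨e⟩⟩, fun ⟨G, _, ⟨e⟩⟩ => ⟨G, ⟨e⟩⟩⟩
  refine ⟨fun F G φ hF hG => ⟨(conv _).2 (ess_kernel (adjM Λ X) ⊤ φ ((conv _).1 hF)
    ((conv _).1 hG)), (conv _).2 (ess_cokernel (adjM Λ X) ⊤ φ ((conv _).1 hF) ((conv _).1 hG))⟩,
    fun T hT h1 h3 => (conv _).2 (ess_ext (adjM Λ X) ⊤ (epi_pushM_map Λ X) hT ((conv _).1 h1)
      ((conv _).1 h3))⟩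

end H9FE.PCMod
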