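import Mathlib
import Groth.Prelude.Def_EtModW
import Groth.Prelude.Def_WeakSerre
import Groth.Agent.Lib.Helper9.FE.PCMod
import Groth.Agent.Lib.Helper9.FE.ModCsStrata

/-! helper9: constructible sheaves of `Λ`-modules on the pro-étale site (pullbacks of constructible
étale sheaves, `Λ` Noetherian) form a weak Serre subcategory. -/

set_option autoImplicit false
set_option linter.unusedSectionVars false
set_option linter.style.haveILetI false
set_option backward.isDefEq.respectTransparency false
universe u
open CategoryTheory Limits Opposite AlgebraicGeometry Abelian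

namespace H9FE.PCMod

theorem main14019 (Λ : Type (u + 1)) [CommRing Λ] [IsNoetherianRing Λ]
    (X : Scheme.{u}) [ProEtS.EpsCont X] :
    WSerre.IsWeakSerre (fun F : EtModW.ModP Λ X =>
      ∃ E : EtModW.Mod Λ X, EtModW.IsConstructible Λ E ∧
        Nonempty ((EtModW.epsPullMod Λ X).obj E ≅ F)) :=
  haveI : ∀ A, IsIso ((adjM Λ X).unit.app A) := fun A => H9FE.ProEtM.mainMod Λ X A
  H9FE.WSerreEss.isWeakSerre_ess (adjM Λ X)
    (fun F : EtModW.Mod Λ X => EtModW.IsConstructible Λ F) (epi_pushM_map Λ X)

end H9FE.PCMod
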