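import Mathlib
/-! helper9: connected components of quasi-compact quasi-separated prespectral spaces are intersections of clopen sets; maps inducing bijections on clopen sets induce homeomorphisms on connected components. -/
open TopologicalSpace Set
universe u
set_option linter.style.haveILetI false
set_option linter.unusedSectionVars false
namespace H9FE

section Spec
variable {X : Type*} [TopologicalSpace X] [CompactSpace X] [QuasiSeparatedSpace X]
  [PrespectralSpace X]

/-- in a quasi-compact quasi-separated space with a basis of quasi-compact opens, every clopen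
neighbourhood filter argument: a compact set disjoint from the intersection of the clopen
neighbourhoods of `x` is disjoint from one of them -/
theorem exists_isClopen_disjoint_of_isCompact (x : X) (K : Set X) (hK : IsCompact K)
    (hd : Disjoint K (⋂ s : { s : Set X // IsClopen s ∧ x ∈ s }, (s : Set X))) :
    ∃ s : Set X, IsClopen s ∧ x ∈ s ∧ Disjoint K s := by
  have H1 := hK.inter_iInter_nonempty
    (fun s : { s : Set X // IsClopen s ∧ x ∈ s } => (s : Set X)) fun s => s.2.1.1
  rw [← not_disjoint_iff_nonempty_inter, imp_not_comm, not_forall] at H1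
  obtain ⟨si, H2⟩ := H1 hd
  refine ⟨⋂ U ∈ si, Subtype.val U, ?_, ?_, ?_⟩
  · exact isClopen_biInter_finset fun s _ => s.2.1
  · exact mem_iInter₂.2 fun s _ => s.2.2
  · rwa [disjoint_iff_inter_eq_empty, ← not_nonempty_iff_eq_empty]

theorem connectedComponent_eq_iInter_isClopen_spectral (x : X) :
    connectedComponent x = ⋂ s : { s : Set X // IsClopen s ∧ x ∈ s }, (s : Set X) := by
  apply Subset.antisymm connectedComponent_subset_iInter_isClopen
  refine IsPreconnected.subset_connectedComponent ?_ (mem_iInter.2 fun s => s.2.2)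
  have hs : @IsClosed X _ (⋂ s : { s : Set X // IsClopen s ∧ x ∈ s }, (s : Set X)) :=
    isClosed_iInter fun s => s.2.1.1
  rw [isPreconnected_iff_subset_of_fully_disjoint_closed hs]
  intro a b ha hb hab ab_disj
  set S : Set X := ⋂ s : { s : Set X // IsClopen s ∧ x ∈ s }, (s : Set X) with hS
  have hxS : x ∈ S := mem_iInter.2 fun s => s.2.2
  -- compact opens separating the two pieces
  obtain ⟨u, huc, hu, hau, hub⟩ := PrespectralSpace.exists_isCompact_and_isOpen_between
    (hs.inter ha).isCompact hb.isOpen_compl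
    (fun y hy => fun hyb => (Set.disjoint_left.mp ab_disj) hy.2 hyb)
  obtain ⟨v, hvc, hv, hbv, hva⟩ := PrespectralSpace.exists_isCompact_and_isOpen_between
    (hs.inter hb).isCompact ha.isOpen_compl
    (fun y hy => fun hya => (Set.disjoint_left.mp ab_disj) hya hy.2)
  have hSuv : S ⊆ u ∪ v := fun y hy => (hab hy).elim (fun h => Or.inl (hau ⟨hy, h⟩))
    (fun h => Or.inr (hbv ⟨hy, h⟩))
  have huvS : Disjoint (u ∩ v) S := by
    rw [Set.disjoint_left]
    rintro y ⟨hyu, hyv⟩ hyS
    rcases hab hyS with h | h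
    · exact hva hyv h
    · exact hub hyu h
  -- clopen neighbourhoods
  obtain ⟨z1, hz1, hxz1, hd1⟩ := exists_isClopen_disjoint_of_isCompact x (u ∩ v)
    (QuasiSeparatedSpace.inter_isCompact u v hu huc hv hvc) huvS
  obtain ⟨z2, hz2, hxz2, hd2⟩ := exists_isClopen_disjoint_of_isCompact x (u ∪ v)ᶜ
    (hu.union hv).isClosed_compl.isCompact (by
      rw [Set.disjoint_left]
      intro y hy hyS
      exact hy (hSuv hyS))
  have hz : IsClopen (z1 ∩ z2) := hz1.inter hz2
  have hzuv : z1 ∩ z2 ⊆ (u ∩ z1) ∪ (v ∩ z1) := by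
    rintro y ⟨hy1, hy2⟩
    have : y ∈ u ∪ v := by
      by_contra hn
      exact (Set.disjoint_left.mp hd2) hn hy2
    rcases this with h | h
    · exact Or.inl ⟨h, hy1⟩
    · exact Or.inr ⟨h, hy1⟩
  have hdisj : Disjoint (u ∩ z1) (v ∩ z1) := by
    rw [Set.disjoint_left]
    rintro y ⟨hyu, hy1⟩ ⟨hyv, _⟩
    exact (Set.disjoint_left.mp hd1) ⟨hyu, hyv⟩ hy1
  have H1 := isClopen_inter_of_disjoint_cover_clopen hz hzuv (hu.inter hz1.2) (hv.inter hz1.2) hdisj
  have hzuv' : z1 ∩ z2 ⊆ (v ∩ z1) ∪ (u ∩ z1) := by rwa [Set.union_comm]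
  have H2 := isClopen_inter_of_disjoint_cover_clopen hz hzuv' (hv.inter hz1.2) (hu.inter hz1.2)
    hdisj.symm
  rcases hSuv hxS with hxu | hxv
  · left
    have h1 : S ⊆ z1 ∩ z2 ∩ (u ∩ z1) :=
      iInter_subset (fun s : { s : Set X // IsClopen s ∧ x ∈ s } => s.1)
        ⟨z1 ∩ z2 ∩ (u ∩ z1), H1, ⟨⟨hxz1, hxz2⟩, hxu, hxz1⟩⟩
    intro y hy
    rcases hab hy with h | h
    · exact h
    · exact absurd h (hub (h1 hy).2.1)
  · right
    have h1 : S ⊆ z1 ∩ z2 ∩ (v ∩ z1) :=
      iInter_subset (fun s : { s : Set X // IsClopen s ∧ x ∈ s } => s.1)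
        ⟨z1 ∩ z2 ∩ (v ∩ z1), H2, ⟨⟨hxz1, hxz2⟩, hxv, hxz1⟩⟩
    intro y hy
    rcases hab hy with h | h
    · exact absurd h (hva (h1 hy).2.1)
    · exact h

theorem connectedComponents_t2_spectral : T2Space (ConnectedComponents X) := by
  refine ⟨ConnectedComponents.surjective_coe.forall₂.2 fun a b ne => ?_⟩
  rw [ConnectedComponents.coe_ne_coe] at ne
  have h := connectedComponent_disjoint ne
  rw [connectedComponent_eq_iInter_isClopen_spectral b, disjoint_iff_inter_eq_empty] at h
  obtain ⟨U, V, hU, ha, hb, rfl⟩ : ∃ (U : Set X) (V : Set (ConnectedComponents X)),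
      IsClopen U ∧ connectedComponent a ∩ U = ∅ ∧ connectedComponent b ⊆ U ∧ (↑) ⁻¹' V = U := by
    have h :=
      (isClosed_connectedComponent (α := X)).isCompact.elim_finite_subfamily_closed
        _ (fun s : { s : Set X // IsClopen s ∧ b ∈ s } => s.2.1.1) h
    obtain ⟨fin_a, ha⟩ := h
    set U : Set X := ⋂ (i : { s // IsClopen s ∧ b ∈ s }) (_ : i ∈ fin_a), i
    have hU : IsClopen U := isClopen_biInter_finset fun i _ => i.2.1
    exact ⟨U, (↑) '' U, hU, ha, subset_iInter₂ fun s _ => s.2.1.connectedComponent_subset s.2.2,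
      (connectedComponents_preimage_image U).symm ▸ hU.biUnion_connectedComponent_eq⟩
  rw [ConnectedComponents.isQuotientMap_coe.isClopen_preimage] at hU
  refine ⟨Vᶜ, V, hU.compl.isOpen, hU.isOpen, ?_, hb mem_connectedComponent, disjoint_compl_left⟩
  exact fun h => flip Set.Nonempty.ne_empty ha ⟨a, mem_connectedComponent, h⟩

end Spec

section Homeo
variable {X Y : Type*} [TopologicalSpace X] [CompactSpace X] [QuasiSeparatedSpace X]
  [PrespectralSpace X] [TopologicalSpace Y] [CompactSpace Y] [QuasiSeparatedSpace Y]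
  [PrespectralSpace Y] {f : X → Y} (hf : Continuous f)

theorem isHomeomorph_connectedComponentsMap_of_clopen
    (hinj : ∀ T : Set Y, IsClopen T → f ⁻¹' T = univ → T = univ)
    (hsurj : ∀ T' : Set X, IsClopen T' → ∃ T : Set Y, IsClopen T ∧ f ⁻¹' T = T') :
    IsHomeomorph hf.connectedComponentsMap := by
  haveI : T2Space (ConnectedComponents Y) := connectedComponents_t2_spectral
  rw [isHomeomorph_iff_continuous_bijective]
  refine ⟨hf.connectedComponentsMap_continuous, ?_, ?_⟩
  · -- injective
    intro a' b' hab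
    obtain ⟨a, rfl⟩ := ConnectedComponents.surjective_coe a'
    obtain ⟨b, rfl⟩ := ConnectedComponents.surjective_coe b'
    have h1 : ((f a : Y) : ConnectedComponents Y) = ((f b : Y) : ConnectedComponents Y) := hab
    rw [ConnectedComponents.coe_eq_coe'] at h1
    by_contra hne
    rw [ConnectedComponents.coe_eq_coe'] at hne
    -- b ∉ connectedComponent a... we have a ∉ connectedComponent b
    rw [connectedComponent_eq_iInter_isClopen_spectral b, mem_iInter] at hne
    push Not at hne
    obtain ⟨⟨T', hT', hbT'⟩, haT'⟩ := hne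
    obtain ⟨T, hT, hTT⟩ := hsurj T' hT'
    have hfb : f b ∈ T := by
      have : b ∈ f ⁻¹' T := by rw [hTT]; exact hbT'
      exact this
    have hfa : f a ∈ T := hT.connectedComponent_subset hfb h1
    apply haT'
    show a ∈ T'
    rw [← hTT]
    exact hfa
  · -- surjective
    intro y'
    obtain ⟨y, rfl⟩ := ConnectedComponents.surjective_coe y'
    have hne : (univ ∩ ⋂ s : { s : Set Y // IsClopen s ∧ y ∈ s }, f ⁻¹' (s : Set Y)).Nonempty := by
      apply isCompact_univ.inter_iInter_nonempty
      · intro s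
        exact s.2.1.1.preimage hf
      · intro u
        rw [univ_inter]
        have hcl : IsClopen (⋂ i ∈ u, (i : Set Y)) := isClopen_biInter_finset fun s _ => s.2.1
        have hy : y ∈ ⋂ i ∈ u, (i : Set Y) := mem_iInter₂.2 fun s _ => s.2.2
        by_contra hemp
        rw [not_nonempty_iff_eq_empty] at hemp
        have h2 : f ⁻¹' (⋂ i ∈ u, (i : Set Y))ᶜ = univ := by
          rw [preimage_compl, Set.compl_univ_iff, ← hemp]
          simp only [preimage_iInter]
        have h3 := hinj _ hcl.compl h2
        rw [Set.compl_univ_iff] at h3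
        rw [h3] at hy
        exact hy
    obtain ⟨a, _, ha⟩ := hne
    refine ⟨(a : ConnectedComponents X), ?_⟩
    show ((f a : Y) : ConnectedComponents Y) = (y : ConnectedComponents Y)
    rw [ConnectedComponents.coe_eq_coe', connectedComponent_eq_iInter_isClopen_spectral y]
    rw [mem_iInter] at ha ⊢
    exact ha

end Homeo


end H9FE
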