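import Mathlib
import Groth.Prelude.Def_FEt
import Groth.Agent.Lib.Helper9.FE.ClopenCrit
import Groth.Agent.Lib.Helper9.FE.SpectralPi0
/-! helper9: a morphism inducing an equivalence on finite étale covers induces a homeomorphism on connected components -/

open CategoryTheory CategoryTheory.Limits AlgebraicGeometry MorphismProperty
universe u
set_option linter.style.haveILetI false
set_option linter.unusedSectionVars false
set_option backward.isDefEq.respectTransparency false
namespace H9FE
open H9SF

section Pi0
variable {X Y : Scheme.{u}} (f : X ⟶ Y)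

/-- the trivial cover -/
noncomputable def oneObj (Y : Scheme.{u}) : FEt.Cat Y :=
  MorphismProperty.Over.mk ⊤ (𝟙 Y) ⟨inferInstance, inferInstance⟩

theorem fst_one_apply (y : ↥(pullback (oneObj Y).hom f)) :
    pullback.fst (oneObj Y).hom f y = f (pullback.snd (oneObj Y).hom f y) := by
  have h : pullback.fst (oneObj Y).hom f = pullback.snd (oneObj Y).hom f ≫ f := by
    have := pullback.condition (f := (oneObj Y).hom) (g := f)
    rw [← this]
    exact (Category.comp_id _).symm
  rw [h]
  rfl

theorem snd_one_surjective : Function.Surjective (pullback.snd (oneObj Y).hom f) := by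
  haveI : IsIso (oneObj Y).hom := inferInstanceAs (IsIso (𝟙 Y))
  haveI : IsIso (pullback.snd (oneObj Y).hom f) := inferInstance
  exact (ConcreteCategory.bijective_of_isIso (pullback.snd (oneObj Y).hom f).base).2

theorem clopen_inj_of_isEquivalence (h : (FEt.restrict f).IsEquivalence) (T : Set Y)
    (hT : IsClopen T) (hfT : f ⁻¹' T = Set.univ) : T = Set.univ := by
  let U : (oneObj Y).left.Opens := ⟨T, hT.2⟩
  have hU : IsClosed (U : Set (oneObj Y).left) := hT.1
  let e := clopenι (oneObj Y) U hU
  haveI : Mono ((FEt.restrict f).map e) := inferInstance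
  have hr : Set.range ((FEt.restrict f).map e).left = Set.univ := by
    rw [range_restrict_map, Set.eq_univ_iff_forall]
    intro y
    show pullback.fst (oneObj Y).hom f y ∈ Set.range U.ι
    rw [Scheme.Opens.range_ι, fst_one_apply]
    have : pullback.snd (oneObj Y).hom f y ∈ f ⁻¹' T := by rw [hfT]; trivial
    exact this
  haveI : IsIso ((FEt.restrict f).map e) :=
    isIso_of_mono_of_surjective _ (Set.range_eq_univ.mp hr)
  haveI : IsIso e := isIso_of_reflects_iso e (FEt.restrict f)
  haveI : IsIso U.ι := (inferInstance : IsIso e.left)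
  have hs : Function.Surjective U.ι := (ConcreteCategory.bijective_of_isIso U.ι.base).2
  rw [Set.eq_univ_iff_forall]
  intro y
  obtain ⟨⟨w, hw⟩, rfl⟩ := hs y
  exact hw

theorem clopen_surj_of_isEquivalence (h : (FEt.restrict f).IsEquivalence) (T' : Set X)
    (hT' : IsClopen T') : ∃ T : Set Y, IsClopen T ∧ f ⁻¹' T = T' := by
  let H := FEt.restrict f
  let sn := pullback.snd (oneObj Y).hom f
  let U' : (H.obj (oneObj Y)).left.Opens := ⟨sn ⁻¹' T', hT'.2.preimage sn.continuous⟩
  have hU' : IsClosed (U' : Set (H.obj (oneObj Y)).left) := hT'.1.preimage sn.continuous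
  let m' := clopenι (H.obj (oneObj Y)) U' hU'
  let M := H.objPreimage (clopenObj (H.obj (oneObj Y)) U' hU')
  let θ : H.obj M ≅ clopenObj (H.obj (oneObj Y)) U' hU' := H.objObjPreimageIso _
  let m : M ⟶ oneObj Y := H.preimage (θ.hom ≫ m')
  have hm : H.map m = θ.hom ≫ m' := H.map_preimage _
  haveI : Mono (H.map m) := by rw [hm]; infer_instance
  haveI : Mono m := H.mono_of_mono_map inferInstance
  refine ⟨Set.range m.left, isClopen_range m.left, ?_⟩
  have h1 : Set.range (H.map m).left = (pullback.fst (oneObj Y).hom f) ⁻¹' (Set.range m.left) :=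
    range_restrict_map f m
  have h2 : Set.range (H.map m).left = sn ⁻¹' T' := by
    rw [hm]
    show Set.range (θ.hom.left ≫ m'.left) = _
    have hs : Function.Surjective θ.hom.left := by
      haveI : IsIso θ.hom.left := inferInstanceAs (IsIso
        ((MorphismProperty.Over.forget FEt.prop.{u} ⊤ X ⋙ Over.forget X).map θ.hom))
      exact (ConcreteCategory.bijective_of_isIso θ.hom.left.base).2
    rw [Scheme.Hom.comp_base, TopCat.coe_comp, hs.range_comp]
    exact Scheme.Opens.range_ι U'
  ext x
  obtain ⟨y, rfl⟩ := snd_one_surjective f x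
  have h3 : y ∈ (pullback.fst (oneObj Y).hom f) ⁻¹' (Set.range m.left) ↔ y ∈ sn ⁻¹' T' := by
    rw [← h1, h2]
  rw [Set.mem_preimage, fst_one_apply] at h3
  exact h3

theorem pi0_isHomeomorph_of_restrict_isEquivalence [CompactSpace X] [QuasiSeparatedSpace X] [CompactSpace Y] [QuasiSeparatedSpace Y]
    (h : (FEt.restrict f).IsEquivalence) :
    IsHomeomorph f.continuous.connectedComponentsMap :=
  isHomeomorph_connectedComponentsMap_of_clopen f.continuous
    (clopen_inj_of_isEquivalence f h) (clopen_surj_of_isEquivalence f h)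

end Pi0


end H9FE
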