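import Mathlib

/-! helper9: (module version) germs at a point of a site: a section whose germ lies in the image of a stalk map is
locally in the image. -/

universe w w' v u
open CategoryTheory CategoryTheory.Limits Opposite

namespace H9FE
namespace PointGermMod

variable {Λ : Type w'} [CommRing Λ]
variable {C : Type u} [Category.{v} C] {J : GrothendieckTopology C} (Φ : J.Point)
  [LocallySmall.{w} C] [HasColimitsOfSize.{w, w} (ModuleCat.{w'} Λ)]
  [PreservesFilteredColimitsOfSize.{w, w} (forget (ModuleCat.{w'} Λ))]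

set_option linter.unusedSectionVars false

theorem germ_restrict {Q : Cᵒᵖ ⥤ (ModuleCat.{w'} Λ)} {W Y : C} (k : Y ⟶ W)
    (y : Φ.fiber.obj Y) (t : Φ.fiber.obj W) (h : Φ.fiber.map k y = t) (g : Q.obj (op W)) :
    Φ.toPresheafFiber W t Q g = Φ.toPresheafFiber Y y Q (Q.map k.op g) := by
  subst h
  exact (GrothendieckTopology.Point.toPresheafFiber_w_apply Φ k y Q g).symm

theorem exists_local_preimage {P Q : Cᵒᵖ ⥤ (ModuleCat.{w'} Λ)} (a : P ⟶ Q)
    (hsurj : Function.Surjective (Φ.presheafFiber.map a)) (W : C) (t : Φ.fiber.obj W)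
    (g : Q.obj (op W)) :
    ∃ (Y : C) (k : Y ⟶ W) (y : Φ.fiber.obj Y) (s : P.obj (op Y)),
      Φ.fiber.map k y = t ∧ a.app (op Y) s = Q.map k.op g := by
  obtain ⟨σ, hσ⟩ := hsurj (Φ.toPresheafFiber W t Q g)
  obtain ⟨W', t', s', rfl⟩ := Φ.toPresheafFiber_jointly_surjective σ
  rw [GrothendieckTopology.Point.toPresheafFiber_naturality_apply] at hσ
  let e₁ : Φ.fiber.Elements := ⟨W, t⟩
  let e₂ : Φ.fiber.Elements := ⟨W', t'⟩
  let e₀ := IsCofiltered.min e₁ e₂
  let p₁ : e₀ ⟶ e₁ := IsCofiltered.minToLeft e₁ e₂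
  let p₂ : e₀ ⟶ e₂ := IsCofiltered.minToRight e₁ e₂
  have h1 := germ_restrict Φ (Q := Q) p₁.1 e₀.2 t p₁.2 g
  have h2 := germ_restrict Φ (Q := Q) p₂.1 e₀.2 t' p₂.2 (a.app (op W') s')
  rw [h1, h2, GrothendieckTopology.Point.toPresheafFiber_eq_iff'] at hσ
  obtain ⟨Y, f, y, hy, hfy⟩ := hσ
  refine ⟨Y, f ≫ p₁.1, y, P.map (f ≫ p₂.1).op s', ?_, ?_⟩
  · rw [Functor.map_comp]
    have : Φ.fiber.map p₁.1 (Φ.fiber.map f y) = t := by rw [hy]; exact p₁.2
    exact this
  · have n1 := NatTrans.naturality_apply a (f ≫ p₂.1).op s'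
    rw [n1]
    have e1 : Q.map (f ≫ p₂.1).op (a.app (op W') s') =
        Q.map f.op (Q.map p₂.1.op (a.app (op W') s')) := by
      rw [op_comp, Functor.map_comp]; rfl
    have e2 : Q.map (f ≫ p₁.1).op g = Q.map f.op (Q.map p₁.1.op g) := by
      rw [op_comp, Functor.map_comp]; rfl
    rw [e1, e2]
    exact hfy

end PointGermMod
end H9FE
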