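import Mathlib

/-! helper9: a cofiltered limit (taken in `Over S`) of schemes integral over `S` is integral
over `S` -/

set_option autoImplicit false
universe u
open CategoryTheory CategoryTheory.Limits AlgebraicGeometry Opposite

namespace H9FE.ProFEtInt

set_option backward.isDefEq.respectTransparency false
set_option linter.style.haveILetI false
set_option linter.unusedSectionVars false

variable {S : Scheme.{u}} {I : Type u} [Category.{u} I] [IsCofiltered I] (Xs : I ⥤ Over S)
  (c : Cone Xs) (hc : IsLimit c) {U : Scheme.{u}} (a : U ⟶ S)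

/-- the base-changed diagram of schemes -/
noncomputable def D : I ⥤ Scheme.{u} := (Xs ⋙ Over.pullback a) ⋙ Over.forget U

/-- the base-changed cone -/
noncomputable def cD : Cone (D Xs a) := (Over.forget U).mapCone ((Over.pullback a).mapCone c)

/-- the base-changed cone is a limit cone -/
noncomputable def hcD : IsLimit (cD Xs c a) := by
  haveI : PreservesLimitsOfSize.{u, u} (Over.pullback a) :=
    (Over.mapPullbackAdj a).rightAdjoint_preservesLimits
  haveI : IsConnected I := IsCofiltered.isConnected I
  exact isLimitOfPreserves (Over.forget U) (isLimitOfPreserves (Over.pullback a) hc)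

lemma cD_w (i : I) :
    (cD Xs c a).π.app i ≫ pullback.snd (Xs.obj i).hom a = pullback.snd c.pt.hom a :=
  Over.w ((Over.pullback a).map (c.π.app i))

include hc in
theorem isIntegral_appTop [IsAffine U] (hint : ∀ i, IsIntegralHom (Xs.obj i).hom) :
    IsAffine (pullback c.pt.hom a) ∧
      RingHom.IsIntegral ((pullback.snd c.pt.hom a).app ⊤).hom := by
  haveI : ∀ i, IsAffine ((D Xs a).obj i) := fun i => by
    haveI := hint i
    change IsAffine (pullback (Xs.obj i).hom a)
    exact isAffine_of_isAffineHom (pullback.snd (Xs.obj i).hom a)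
  haveI haff : IsAffine (cD Xs c a).pt := Scheme.isAffine_of_isLimit _ (hcD Xs c hc a)
  refine ⟨haff, ?_⟩
  intro s
  obtain ⟨i, t, ht⟩ := exists_appTop_π_eq_of_isAffine_of_isLimit (D Xs a) (cD Xs c a)
    (hcD Xs c hc a) s
  haveI := hint i
  have hti : ((pullback.snd (Xs.obj i).hom a).app ⊤).hom.IsIntegralElem t := by
    have h1 : IsIntegralHom (pullback.snd (Xs.obj i).hom a) := inferInstance
    exact ((HasAffineProperty.iff_of_isAffine (P := @IsIntegralHom)).1 h1).2 t
  obtain ⟨p, hp, hpt⟩ := hti
  refine ⟨p, hp, ?_⟩
  have e : ((pullback.snd c.pt.hom a).app ⊤).hom =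
      ((cD Xs c a).π.app i).appTop.hom.comp ((pullback.snd (Xs.obj i).hom a).app ⊤).hom := by
    rw [← CommRingCat.hom_comp]
    congr 1
    exact (congrArg Scheme.Hom.appTop (cD_w Xs c a i)).symm
  rw [e, ← ht]
  refine (Polynomial.hom_eval₂ p _ ((cD Xs c a).π.app i).appTop.hom t).symm.trans ?_
  rw [hpt, map_zero]

include hc in
/-- a cofiltered limit of integral `S`-schemes is integral over `S` -/
theorem isIntegralHom_of_isLimit (hint : ∀ i, IsIntegralHom (Xs.obj i).hom) :
    IsIntegralHom c.pt.hom := by
  refine HasAffineProperty.of_openCover (P := @IsIntegralHom) S.affineCover (fun a => ?_)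
  exact isIntegral_appTop Xs c hc (S.affineCover.f a) hint

end H9FE.ProFEtInt
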