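import Mathlib
import Groth.Agent.S0646
import Groth.Agent.S3054
import Groth.Agent.S3513
import Groth.Agent.S8524
import Groth.Agent.S14451
import Groth.Agent.Lib.Helper9.FE.FEtDegAlg
import Groth.Agent.Lib.Helper9.FE.ProFEtInt
import Groth.Agent.Lib.Helper9.FE.LimPull8
import Groth.Agent.Lib.Helper9.FE.HpullComp
import Groth.Agent.Lib.Helper5.Misc.EtSiteBasic

/-! helper9: cohomology of `ℓ`-power torsion sheaves along a pro-(finite étale of degree prime to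
`ℓ`) cover `g : X ⟶ S`: pullback is injective on cohomology, `g_*` preserves cohomology, and both
`g⁻¹` and `g_*` preserve `ℓ`-power torsion sheaves -/

set_option autoImplicit false
open CategoryTheory CategoryTheory.Limits AlgebraicGeometry Opposite
universe u

namespace H9FE.ProFEtMain

set_option backward.isDefEq.respectTransparency false
set_option linter.style.haveILetI false
set_option linter.unusedSectionVars false

open Groth.Agent.Lib.Helper5

lemma primesIn_singleton_iff (ℓ : ℕ) (hℓ : ℓ.Prime) (m : ℕ) :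
    EtAcyc.PrimesIn {ℓ} m ↔ ∃ k : ℕ, m = ℓ ^ k := by
  constructor
  · rintro ⟨hpos, h⟩
    exact ⟨_, Nat.eq_prime_pow_of_unique_prime_dvd (Nat.pos_iff_ne_zero.1 hpos)
      (fun {p} hp hpm => Set.mem_singleton_iff.1 (h p hp hpm))⟩
  · rintro ⟨k, rfl⟩
    refine ⟨pow_pos hℓ.pos k, fun p hp hpm => ?_⟩
    exact Set.mem_singleton_iff.2 ((Nat.prime_dvd_prime_iff_eq hp hℓ).1 (hp.dvd_of_dvd_pow hpm))

lemma T_iff (ℓ : ℕ) (hℓ : ℓ.Prime) {Y : Scheme.{u}} (G : EtCoh.Ab Y) :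
    (∀ (U : Y.Etale) (s : EtCoh.sect G U) (y : ↥U.left), ∃ (V : Y.Etale) (φ : V ⟶ U),
        (∃ v : ↥V.left, φ.left.base v = y) ∧ ∃ m : ℕ, (ℓ ^ m) • G.obj.map φ.op s = 0) ↔
      EtAcyc.IsLTorsion {ℓ} G := by
  constructor
  · intro h U s y
    obtain ⟨V, φ, hv, m, hm⟩ := h U s y
    exact ⟨V, φ, ℓ ^ m, hv, (primesIn_singleton_iff ℓ hℓ _).2 ⟨m, rfl⟩, hm⟩
  · intro h U s y
    obtain ⟨V, φ, m, hv, hm, hms⟩ := h U s y
    obtain ⟨k, rfl⟩ := (primesIn_singleton_iff ℓ hℓ m).1 hm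
    exact ⟨V, φ, hv, k, hms⟩

/-- direct images of `L`-torsion sheaves along quasi-compact morphisms are `L`-torsion -/
theorem isLTorsion_push {X Y : Scheme.{u}} (f : X ⟶ Y) [QuasiCompact f] (L : Set ℕ)
    (F : EtCoh.Ab X) (hF : EtAcyc.IsLTorsion L F) :
    EtAcyc.IsLTorsion L ((EtCoh.push f).obj F) := by
  intro V s y
  have haff : ∃ W : V.left.Opens, IsAffineOpen W ∧ y ∈ W := by
    obtain ⟨_, ⟨W, hW, rfl⟩, hyW, -⟩ := V.left.isBasis_affineOpens.exists_subset_of_mem_open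
      (Set.mem_univ y) isOpen_univ
    exact ⟨W, hW, hyW⟩
  obtain ⟨W, hW, hyW⟩ := haff
  haveI : Etale V.hom := V.prop
  let V' : Y.Etale := EtSiteBasic.ofEtale (W.ι ≫ V.hom)
  let k : V' ⟶ V := MorphismProperty.Over.homMk W.ι rfl trivial
  haveI : IsAffine V'.left := hW
  haveI : CompactSpace ((EtCoh.bc f).obj V').left := by
    change CompactSpace ↥(pullback V'.hom f)
    haveI : QuasiCompact (pullback.fst V'.hom f) := inferInstance
    haveI h1 : CompactSpace ↥((𝟭 Scheme).obj V'.left) := (inferInstance : CompactSpace ↥V'.left)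
    exact QuasiCompact.compactSpace_of_compactSpace (pullback.fst V'.hom f)
  obtain ⟨m, hm, hms⟩ := Groth.Agent.S8524.result L F hF ((EtCoh.bc f).obj V')
    (F.obj.map ((EtCoh.bc f).map k).op s)
  exact ⟨V', k, m, ⟨⟨y, hyW⟩, rfl⟩, hm, hms⟩

section Tower

variable {S : Scheme.{u}} [CompactSpace ↥S] [QuasiSeparatedSpace ↥S]
  {ι : Type u} [Preorder ι] [IsDirected ι (· ≤ ·)] [Nonempty ι] (Xs : ιᵒᵖ ⥤ Over S)
  (hfin : ∀ i, IsFinite (Xs.obj i).hom) (c : Cone Xs) (hc : IsLimit c)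

/-- the tower of schemes -/
noncomputable abbrev Ys : ιᵒᵖ ⥤ Scheme.{u} := Xs ⋙ Over.forget S

/-- the cone of schemes -/
noncomputable abbrev cY : Cone (Ys Xs) := (Over.forget S).mapCone c

/-- the cone of schemes is a limit cone -/
noncomputable def hcY : IsLimit (cY Xs c) := by
  haveI : IsConnected ιᵒᵖ := IsCofiltered.isConnected ιᵒᵖ
  exact isLimitOfPreserves (Over.forget S) hc

include hfin in
lemma haff ⦃a b : ιᵒᵖ⦄ (h : a ⟶ b) : IsAffineHom ((Ys Xs).map h) := by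
  haveI := hfin a
  haveI := hfin b
  haveI : IsFinite ((Xs.map h).left ≫ (Xs.obj b).hom) := by
    rw [Over.w]
    infer_instance
  haveI : IsFinite (Xs.map h).left := IsFinite.of_comp _ (Xs.obj b).hom
  change IsAffineHom (Xs.map h).left
  infer_instance

include hfin in
lemma hqc (a : ιᵒᵖ) : CompactSpace ↥((Ys Xs).obj a) := by
  haveI := hfin a
  exact QuasiCompact.compactSpace_of_compactSpace (X := (Xs.obj a).left) (Y := S) (Xs.obj a).hom

include hfin in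
lemma hqs (a : ιᵒᵖ) : QuasiSeparatedSpace ↥((Ys Xs).obj a) := by
  haveI := hfin a
  exact quasiSeparatedSpace_of_quasiSeparated (X := (Xs.obj a).left) (Y := S) (Xs.obj a).hom

include hfin hc in
/-- pullback to the limit of a tower of finite étale covers of degrees prime to `ℓ` is injective
on the cohomology of `ℓ`-power torsion sheaves -/
theorem part1_inj (het : ∀ i, AlgebraicGeometry.Etale (Xs.obj i).hom) (ℓ : ℕ) (hℓ : ℓ.Prime)
    (d : ιᵒᵖ → ℕ) (hd : ∀ i, ℓ.Coprime (d i))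
    (hdeg : ∀ (i : ιᵒᵖ) (Ω : Type u) [Field Ω] [IsAlgClosed Ω]
      (η : Spec (CommRingCat.of Ω) ⟶ S),
      Nat.card {t : Spec (CommRingCat.of Ω) ⟶ (Xs.obj i).left // t ≫ (Xs.obj i).hom = η} = d i)
    (G : EtCoh.Ab S) (hG : EtAcyc.IsLTorsion {ℓ} G) (n : ℕ) (α : EtCoh.H S G n)
    (hα : EtCore.Hpull (X := c.pt.left) (Y := S) c.pt.hom G n α = 0) : α = 0 := by
  obtain ⟨i₀⟩ := (inferInstance : Nonempty ι)
  have hle : i₀ ≤ i₀ := le_refl _
  let p₀ : (Xs.obj (op i₀)).left ⟶ S := (Xs.obj (op i₀)).hom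
  let F₀ : EtCoh.Ab ((Ys Xs).obj (op i₀)) := (EtCoh.pull p₀).obj G
  let α₀ : EtCoh.H ((Ys Xs).obj (op i₀)) F₀ n := EtCore.Hpull p₀ G n α
  let t₀ : (Ys Xs).obj (op i₀) ⟶ (Ys Xs).obj (op i₀) := (Ys Xs).map (homOfLE hle).op
  let ξ := EtCore.Hpull t₀ F₀ n α₀
  have hw : (cY Xs c).π.app (op i₀) ≫ p₀ = c.pt.hom := Over.w (c.π.app (op i₀))
  have h1 : EtCore.HpullVia ((cY Xs c).π.app (op i₀)) t₀ ((cY Xs c).π.app (op i₀))
      ((cY Xs c).w (homOfLE hle).op) F₀ n ξ = 0 := by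
    rw [H9FE.LimPull.HpullVia_Hpull]
    exact (H9FE.HpullComp.Hpull_comp_eq_zero_iff ((cY Xs c).π.app (op i₀)) p₀ c.pt.hom hw
      G n α).2 hα
  obtain ⟨k, hk, hk0⟩ := (Groth.Agent.S0646.result (Ys Xs) (haff Xs hfin) (hqc Xs hfin)
    (hqs Xs hfin) (cY Xs c) (hcY Xs c hc) i₀ F₀ n).2 i₀ hle ξ h1
  have h2 : EtCore.Hpull ((Ys Xs).map (homOfLE hk).op ≫ t₀) F₀ n α₀ = 0 :=
    (H9FE.HpullComp.Hpull_comp_eq_zero_iff ((Ys Xs).map (homOfLE hk).op) t₀ _ rfl F₀ n α₀).1 hk0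
  have hw2 : ((Ys Xs).map (homOfLE hk).op ≫ t₀) ≫ p₀ = (Xs.obj (op k)).hom := by
    change ((Xs.map (homOfLE hk).op).left ≫ (Xs.map (homOfLE hle).op).left) ≫
      (Xs.obj (op i₀)).hom = _
    rw [Category.assoc, Over.w, Over.w]
  have h3 : EtCore.Hpull (X := (Xs.obj (op k)).left) (Y := S) (Xs.obj (op k)).hom G n α = 0 :=
    (H9FE.HpullComp.Hpull_comp_eq_zero_iff ((Ys Xs).map (homOfLE hk).op ≫ t₀) p₀
      (Xs.obj (op k)).hom hw2 G n α).1 h2
  haveI := hfin (op k)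
  haveI := het (op k)
  exact H9FE.FEtDegAlg.eq_zero_of_Hpull_eq_zero (U := (Xs.obj (op k)).left) (X := S)
    (Xs.obj (op k)).hom ℓ (d (op k)) hℓ (hd _) (hdeg (op k)) G hG n α h3

include hfin hc in
lemma isIntegralHom_pt : IsIntegralHom c.pt.hom := by
  refine H9FE.ProFEtInt.isIntegralHom_of_isLimit Xs c hc (fun i => ?_)
  haveI := hfin i
  infer_instance

end Tower

/-- direct image along an integral morphism preserves nontriviality of cohomology -/
theorem part2 {X S : Scheme.{u}} (g : X ⟶ S) [IsIntegralHom g] (F : EtCoh.Ab X) (n : ℕ)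
    (h : Nontrivial (EtCoh.H X F n)) : Nontrivial (EtCoh.H S ((EtCoh.push g).obj F) n) := by
  have hb := Groth.Agent.S14451.result g F
    (fun q hq => Groth.Agent.S3054.result g F q hq) n
  exact hb.2.nontrivial

end H9FE.ProFEtMain
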