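import Mathlib

/-! helper9: points of the small étale site, I. For a point `p` of the small étale site of `S`
(a fibre functor): the category `AE p` of affine étale `S`-schemes with an element of the fibre is
cofiltered, essentially small and initial in the category of elements of the fibre functor; for a
small cofiltered category `I` with an initial functor to the elements landing in `AE p`
(`exists_sys`), the domination (`dom`), equalization (`eqz`) and refinement (`refine`: every
covering sieve of a stage contains a transition morphism) principles. -/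

set_option autoImplicit false
set_option linter.unusedSectionVars false
set_option linter.style.haveILetI false
set_option backward.isDefEq.respectTransparency false
universe u
open CategoryTheory CategoryTheory.Limits AlgebraicGeometry Opposite

namespace H9FE.PtGeo

variable {S : Scheme.{u}} (p : GrothendieckTopology.Point.{u} S.smallEtaleTopology)

/-- affine étale `S`-schemes with an element of the fibre -/
noncomputable abbrev AE : Type (u + 1) := (Scheme.AffineEtale.Spec S ⋙ p.fiber).Elements

/-- the comparison with the category of elements of the fibre functor -/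
noncomputable abbrev toEl : AE p ⥤ p.fiber.Elements :=
  Functor.Elements.precomp (Scheme.AffineEtale.Spec S) p.fiber

instance toEl_faithful : (toEl p).Faithful where
  map_injective {x y} f g h := by
    apply Subtype.ext
    apply (Scheme.AffineEtale.Spec S).map_injective
    exact congrArg Subtype.val h

instance toEl_full : (toEl p).Full where
  map_surjective {x y} f := by
    refine ⟨⟨(Scheme.AffineEtale.Spec S).preimage f.1, ?_⟩, ?_⟩
    · change p.fiber.map ((Scheme.AffineEtale.Spec S).map
        ((Scheme.AffineEtale.Spec S).preimage f.1)) x.2 = y.2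
      rw [(Scheme.AffineEtale.Spec S).map_preimage]
      exact f.2
    · apply Subtype.ext
      exact (Scheme.AffineEtale.Spec S).map_preimage _

/-- every element of the fibre is refined by an element on an affine étale scheme -/
theorem exists_affine_refinement (d : p.fiber.Elements) :
    ∃ c : AE p, Nonempty ((toEl p).obj c ⟶ d) := by
  obtain ⟨U, u⟩ := d
  haveI : Etale U.hom := U.prop
  choose R j hj hxj _ using fun x : U.left =>
    Scheme.exists_affine_mem_range_and_range_subset (x := x) (U := ⊤) trivial
  haveI : ∀ x, IsOpenImmersion (j x) := hj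
  let A : U.left → S.AffineEtale := fun x => Scheme.AffineEtale.mk (j x ≫ U.hom)
  let f : ∀ x, (Scheme.AffineEtale.Spec S).obj (A x) ⟶ U := fun x =>
    MorphismProperty.Over.homMk (j x) rfl trivial
  have hcov : Sieve.ofArrows _ f ∈ S.smallEtaleTopology U := by
    rw [Scheme.ofArrows_mem_smallEtaleTopology_iff]
    ext x
    simp only [Set.mem_iUnion, Set.mem_univ, iff_true]
    exact ⟨x, hxj x⟩
  obtain ⟨Y, g, hg, y, hy⟩ := p.jointly_surjective _ hcov u
  obtain ⟨x, a, rfl⟩ := (Sieve.mem_ofArrows_iff _ _ _).1 hg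
  refine ⟨⟨A x, p.fiber.map a y⟩, ⟨⟨f x, ?_⟩⟩⟩
  change p.fiber.map (f x) (p.fiber.map a y) = u
  rw [← hy, Functor.map_comp]
  rfl

instance ae_isCofiltered : IsCofiltered (AE p) :=
  IsCofiltered.of_exists_of_isCofiltered_of_fullyFaithful (toEl p) (exists_affine_refinement p)

instance toEl_initial : (toEl p).Initial :=
  Functor.initial_of_exists_of_isCofiltered_of_fullyFaithful (toEl p) (exists_affine_refinement p)

/-- a small cofiltered index category with an initial functor to the elements of the fibre
functor, through affine étale schemes -/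
theorem exists_sys : ∃ (I : Type u) (_ : SmallCategory I) (_ : IsCofiltered I) (Ψ : I ⥤ AE p),
    (Ψ ⋙ toEl p).Initial := by
  refine ⟨SmallModel.{u} (AE p), inferInstance,
    IsCofiltered.of_equivalence (equivSmallModel.{u} (AE p)),
    (equivSmallModel.{u} (AE p)).inverse, ?_⟩
  exact Functor.initial_comp _ _

section Sys

variable {I : Type u} [SmallCategory I] [IsCofiltered I] (Ψ : I ⥤ AE p)
  [hΨ : (Ψ ⋙ toEl p).Initial]

/-- the tower of affine étale `S`-schemes -/
noncomputable abbrev Us : I ⥤ S.Etale := Ψ ⋙ CategoryOfElements.π _ ⋙ Scheme.AffineEtale.Spec S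

/-- the compatible elements of the fibre -/
noncomputable def pt (i : I) : p.fiber.obj ((Us p Ψ).obj i) := (Ψ.obj i).2

lemma pt_map {i j : I} (m : i ⟶ j) : p.fiber.map ((Us p Ψ).map m) (pt p Ψ i) = pt p Ψ j :=
  (Ψ.map m).2

include hΨ in
/-- every element of the fibre comes from a stage -/
theorem dom (U : S.Etale) (u : p.fiber.obj U) :
    ∃ (i : I) (m : (Us p Ψ).obj i ⟶ U), p.fiber.map m (pt p Ψ i) = u := by
  obtain ⟨h1, -⟩ := (Functor.initial_iff_of_isCofiltered (Ψ ⋙ toEl p)).1 hΨ
  obtain ⟨i, ⟨m⟩⟩ := h1 ⟨U, u⟩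
  exact ⟨i, m.1, m.2⟩

include hΨ in
/-- two morphisms from a stage with the same effect on the element agree at a later stage -/
theorem eqz {i : I} {U : S.Etale} (m₁ m₂ : (Us p Ψ).obj i ⟶ U)
    (h : p.fiber.map m₁ (pt p Ψ i) = p.fiber.map m₂ (pt p Ψ i)) :
    ∃ (j : I) (t : j ⟶ i), (Us p Ψ).map t ≫ m₁ = (Us p Ψ).map t ≫ m₂ := by
  obtain ⟨-, h2⟩ := (Functor.initial_iff_of_isCofiltered (Ψ ⋙ toEl p)).1 hΨ
  let d : p.fiber.Elements := ⟨U, p.fiber.map m₁ (pt p Ψ i)⟩
  let s : (Ψ ⋙ toEl p).obj i ⟶ d := ⟨m₁, rfl⟩
  let s' : (Ψ ⋙ toEl p).obj i ⟶ d := ⟨m₂, h.symm⟩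
  obtain ⟨j, t, ht⟩ := h2 s s'
  exact ⟨j, t, congrArg Subtype.val ht⟩

include hΨ in
/-- every covering sieve of a stage contains a transition morphism -/
theorem refine (i : I) (Rs : Sieve ((Us p Ψ).obj i)) (hRs : Rs ∈ S.smallEtaleTopology _) :
    ∃ (j : I) (t : j ⟶ i), Rs ((Us p Ψ).map t) := by
  obtain ⟨Y, f, hf, y, hy⟩ := p.jointly_surjective Rs hRs (pt p Ψ i)
  obtain ⟨k, m, hm⟩ := dom p Ψ Y y
  let k' : I := IsCofiltered.min k i
  let a : k' ⟶ k := IsCofiltered.minToLeft k i
  let b : k' ⟶ i := IsCofiltered.minToRight k i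
  have h12 : p.fiber.map ((Us p Ψ).map b) (pt p Ψ k') =
      p.fiber.map ((Us p Ψ).map a ≫ m ≫ f) (pt p Ψ k') := by
    rw [pt_map, Functor.map_comp, Functor.map_comp]
    change _ = p.fiber.map f (p.fiber.map m (p.fiber.map ((Us p Ψ).map a) (pt p Ψ k')))
    rw [pt_map, hm, hy]
  obtain ⟨l, t, ht⟩ := eqz p Ψ _ _ h12
  refine ⟨l, t ≫ b, ?_⟩
  rw [Functor.map_comp, ht, ← Category.assoc, ← Category.assoc]
  exact Rs.downward_closed hf _

end Sys

end H9FE.PtGeo
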