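import Mathlib

/-! helper9: a filtered colimit of rings along which Zariski and étale coverings get refined is a
strictly henselian local ring. Setting: a small filtered diagram `F` of commutative rings with
colimit cocone `cc`; hypotheses: (h0) all stages are nontrivial, (h1) for every element `a` of a
stage, `a` or `1 - a` becomes invertible at a later stage, (h2) an étale algebra `B` over a stage
`j` whose image in `Spec` contains the image of a later stage `k` admits, at a still later stage,
a retraction compatible with the transition maps. Conclusions: the colimit is a local ring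
(`isLocalRing`), henselian (`henselian`), with separably closed residue field (`isSepClosed`). -/

set_option autoImplicit false
set_option linter.unusedSectionVars false
set_option linter.style.haveILetI false
set_option backward.isDefEq.respectTransparency false
universe u
open CategoryTheory CategoryTheory.Limits Polynomial IsLocalRing

namespace H9FE.StrHensColim

variable {J : Type u} [SmallCategory J] [IsFiltered J] (F : J ⥤ CommRingCat.{u}) (cc : Cocone F)
  (hcc : IsColimit cc)

/-- the maps to the colimit -/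
abbrev φ (j : J) : F.obj j →+* cc.pt := (cc.ι.app j).hom

lemma φ_map {j k : J} (t : j ⟶ k) (a : F.obj j) :
    φ F cc k ((F.map t).hom a) = φ F cc j a := by
  have h := cc.w t
  exact congrArg (fun f => f.hom a) h

lemma φ_comp_map {j k : J} (t : j ⟶ k) :
    (φ F cc k).comp (F.map t).hom = φ F cc j := by
  ext a
  exact φ_map F cc t a

include hcc in
lemma exists_rep (r : cc.pt) : ∃ (j : J) (a : F.obj j), φ F cc j a = r :=
  Concrete.isColimit_exists_rep F hcc r

include hcc in
lemma exists_eq {j k : J} (a : F.obj j) (b : F.obj k) (h : φ F cc j a = φ F cc k b) :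
    ∃ (l : J) (s : j ⟶ l) (t : k ⟶ l), (F.map s).hom a = (F.map t).hom b :=
  Concrete.isColimit_exists_of_rep_eq F hcc a b h

include hcc in
lemma exists_rep_finset (s : Finset cc.pt) :
    ∃ j : J, ∀ r ∈ s, r ∈ Set.range (φ F cc j) := by
  classical
  induction s using Finset.induction_on with
  | empty => exact ⟨IsFiltered.nonempty.some, fun r hr => absurd hr (Finset.notMem_empty r)⟩
  | insert r s _ ih =>
    obtain ⟨j, hj⟩ := ih
    obtain ⟨k, a, ha⟩ := exists_rep F cc hcc r
    refine ⟨IsFiltered.max j k, fun r' hr' => ?_⟩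
    rcases Finset.mem_insert.1 hr' with rfl | hr'
    · exact ⟨(F.map (IsFiltered.rightToMax j k)).hom a, (φ_map F cc _ a).trans ha⟩
    · obtain ⟨b, hb⟩ := hj r' hr'
      exact ⟨(F.map (IsFiltered.leftToMax j k)).hom b, (φ_map F cc _ b).trans hb⟩

include hcc in
lemma exists_lifts (f g : cc.pt[X]) :
    ∃ j : J, f ∈ Polynomial.lifts (φ F cc j) ∧ g ∈ Polynomial.lifts (φ F cc j) := by
  classical
  obtain ⟨j, hj⟩ := exists_rep_finset F cc hcc (f.coeffs ∪ g.coeffs)
  refine ⟨j, ?_, ?_⟩
  · rw [Polynomial.lifts_iff_coeffs_subset_range]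
    intro r hr
    exact hj r (Finset.mem_union_left _ hr)
  · rw [Polynomial.lifts_iff_coeffs_subset_range]
    intro r hr
    exact hj r (Finset.mem_union_right _ hr)

include hcc in
/-- an element which becomes a unit in the colimit is a unit at a later stage -/
lemma exists_isUnit {j : J} (a : F.obj j) (ha : IsUnit (φ F cc j a)) :
    ∃ (k : J) (t : j ⟶ k), IsUnit ((F.map t).hom a) := by
  obtain ⟨r, hr⟩ := ha.exists_right_inv
  obtain ⟨k, b, hb⟩ := exists_rep F cc hcc r
  let l := IsFiltered.max j k
  let a' := (F.map (IsFiltered.leftToMax j k)).hom a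
  let b' := (F.map (IsFiltered.rightToMax j k)).hom b
  have h1 : φ F cc l (a' * b') = φ F cc l 1 := by
    rw [map_mul, map_one, φ_map, φ_map, hb, hr]
  obtain ⟨l', s, t, hst⟩ := exists_eq F cc hcc _ _ h1
  refine ⟨l', IsFiltered.leftToMax j k ≫ s, ?_⟩
  rw [map_mul, map_one] at hst
  refine IsUnit.of_mul_eq_one ((F.map s).hom b') ?_
  rw [← hst, Functor.map_comp]
  rfl

section Local

variable (h0 : ∀ j, Nontrivial (F.obj j))
  (h1 : ∀ (j : J) (a : F.obj j), ∃ (k : J) (t : j ⟶ k),
    IsUnit ((F.map t).hom a) ∨ IsUnit ((F.map t).hom (1 - a)))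

include hcc h0 in
lemma nontrivial : Nontrivial cc.pt := by
  refine ⟨⟨0, 1, fun h => ?_⟩⟩
  let j : J := IsFiltered.nonempty.some
  have h' : φ F cc j 0 = φ F cc j 1 := by rw [map_zero, map_one, h]
  obtain ⟨l, s, t, hst⟩ := exists_eq F cc hcc _ _ h'
  rw [map_zero, map_one] at hst
  haveI := h0 l
  exact zero_ne_one hst

include hcc h0 h1 in
/-- the colimit is a local ring -/
theorem isLocalRing : IsLocalRing cc.pt := by
  haveI := nontrivial F cc hcc h0
  refine IsLocalRing.of_isUnit_or_isUnit_one_sub_self (fun r => ?_)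
  obtain ⟨j, a, rfl⟩ := exists_rep F cc hcc r
  obtain ⟨k, t, h | h⟩ := h1 j a
  · left
    rw [← φ_map F cc t a]
    exact h.map _
  · right
    have : (1 : cc.pt) - φ F cc j a = φ F cc k ((F.map t).hom (1 - a)) := by
      rw [φ_map, map_sub, map_one]
    rw [this]
    exact h.map _

end Local

section Hens

variable [hloc : IsLocalRing cc.pt]
  (h2 : ∀ (j : J) (B : Type u) [CommRing B] [Algebra (F.obj j) B] [Algebra.Etale (F.obj j) B]
    (k : J) (t : j ⟶ k),
    Set.range (PrimeSpectrum.comap (F.map t).hom) ⊆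
      Set.range (PrimeSpectrum.comap (algebraMap (F.obj j) B)) →
    ∃ (l : J) (s : k ⟶ l) (σ : B →+* F.obj l),
      σ.comp (algebraMap (F.obj j) B) = (F.map (t ≫ s)).hom)

include hcc h2 in
/-- an étale algebra over a stage with a point over the closed point of the colimit admits a
retraction to the colimit -/
theorem exists_retraction (j : J) (B : Type u) [CommRing B] [Algebra (F.obj j) B]
    [Algebra.Etale (F.obj j) B] {K : Type u} [Field K] (τ : B →+* K) (ψ : cc.pt →+* K)
    [IsLocalHom ψ] (hτ : τ.comp (algebraMap (F.obj j) B) = ψ.comp (φ F cc j)) :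
    ∃ σ : B →+* cc.pt, σ.comp (algebraMap (F.obj j) B) = φ F cc j := by
  let q : PrimeSpectrum B := ⟨RingHom.ker τ, RingHom.ker_isPrime τ⟩
  let P : PrimeSpectrum (F.obj j) := PrimeSpectrum.comap (algebraMap (F.obj j) B) q
  have hopen : IsOpen (Set.range (PrimeSpectrum.comap (algebraMap (F.obj j) B))) :=
    (PrimeSpectrum.isOpenMap_comap_of_hasGoingDown_of_finitePresentation
      (R := F.obj j) (S := B)).isOpen_range
  have hP : P ∈ Set.range (PrimeSpectrum.comap (algebraMap (F.obj j) B)) := ⟨q, rfl⟩
  obtain ⟨_, ⟨g, rfl⟩, hg1, hg2⟩ :=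
    PrimeSpectrum.isTopologicalBasis_basic_opens.exists_subset_of_mem_open hP hopen
  -- `g` becomes a unit in the colimit
  have hgP : g ∉ P.asIdeal := hg1
  have hψg : ψ (φ F cc j g) ≠ 0 := by
    intro h0
    apply hgP
    change algebraMap (F.obj j) B g ∈ RingHom.ker τ
    rw [RingHom.mem_ker]
    have := congrArg (fun f => f g) hτ
    exact this.trans h0
  have hunit : IsUnit (φ F cc j g) := isUnit_of_map_unit ψ _ (isUnit_iff_ne_zero.2 hψg)
  obtain ⟨k, t, hk⟩ := exists_isUnit F cc hcc g hunit
  have hrange : Set.range (PrimeSpectrum.comap (F.map t).hom) ⊆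
      Set.range (PrimeSpectrum.comap (algebraMap (F.obj j) B)) := by
    rintro _ ⟨r, rfl⟩
    apply hg2
    change g ∉ (PrimeSpectrum.comap (F.map t).hom r).asIdeal
    intro hmem
    exact r.isPrime.ne_top (Ideal.eq_top_of_isUnit_mem _ hmem hk)
  obtain ⟨l, s, σ, hσ⟩ := h2 j B k t hrange
  refine ⟨(φ F cc l).comp σ, ?_⟩
  rw [RingHom.comp_assoc, hσ]
  exact φ_comp_map F cc (t ≫ s)

include hcc h2 in
/-- roots of monic polynomials over the colimit, simple modulo the maximal ideal, lift -/
theorem exists_root (f g : cc.pt[X]) (hf : f.Monic) {K : Type u} [Field K] (ψ : cc.pt →+* K)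
    [IsLocalHom ψ] (ω : K) (hω : (f.map ψ).eval ω = 0)
    (hω' : (f.map ψ).derivative.eval ω ≠ 0) (hg : (g.map ψ).eval ω ≠ 0) :
    ∃ a : cc.pt, f.eval a = 0 ∧ IsUnit (g.eval a) := by
  obtain ⟨j, hfj, hgj⟩ := exists_lifts F cc hcc f g
  obtain ⟨fj, hfj1, -, hfjm⟩ := Polynomial.lifts_and_degree_eq_and_monic hfj hf
  obtain ⟨gj, hgj1⟩ := (Polynomial.mem_lifts _).1 hgj
  let P : StandardEtalePair (F.obj j) :=
    { f := fj
      monic_f := hfjm
      g := derivative fj * gj
      cond := ⟨gj, 0, 1, by ring⟩ }
  letI : Algebra (F.obj j) K := (ψ.comp (φ F cc j)).toAlgebra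
  have hmapf : fj.map (ψ.comp (φ F cc j)) = f.map ψ := by
    rw [← Polynomial.map_map, hfj1]
  have hmapg : gj.map (ψ.comp (φ F cc j)) = g.map ψ := by
    rw [← Polynomial.map_map, hgj1]
  have hmap : P.HasMap ω := by
    constructor
    · change eval₂ (ψ.comp (φ F cc j)) ω fj = 0
      rw [← Polynomial.eval_map, hmapf]
      exact hω
    · change IsUnit (eval₂ (ψ.comp (φ F cc j)) ω (derivative fj * gj))
      rw [← Polynomial.eval_map, Polynomial.map_mul, Polynomial.eval_mul,
        ← Polynomial.derivative_map, hmapf, hmapg, isUnit_iff_ne_zero]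
      exact mul_ne_zero hω' hg
  let τ : P.Ring →+* K := (P.lift ω hmap).toRingHom
  have hτ : τ.comp (algebraMap (F.obj j) P.Ring) = ψ.comp (φ F cc j) := by
    ext a
    exact (P.lift ω hmap).commutes a
  obtain ⟨σ, hσ⟩ := exists_retraction F cc hcc h2 j P.Ring τ ψ hτ
  have hX := P.hasMap_X
  have key : ∀ h : (F.obj j)[X], (h.map (φ F cc j)).eval (σ P.X) = σ (aeval P.X h) := by
    intro h
    rw [← hσ, ← Polynomial.map_map, Polynomial.eval_map, Polynomial.eval₂_hom]
    congr 1
    rw [Polynomial.eval_map]
    rfl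
  refine ⟨σ P.X, ?_, ?_⟩
  · rw [← hfj1, key, hX.1, map_zero]
  · have h1 : IsUnit (σ (aeval P.X (derivative fj * gj))) := hX.2.map σ
    rw [← key, Polynomial.map_mul, Polynomial.eval_mul, hgj1] at h1
    exact isUnit_of_mul_isUnit_right h1

include hcc h2 in
/-- the colimit is henselian -/
theorem henselian : HenselianLocalRing cc.pt := by
  refine { hloc with is_henselian := ?_ }
  intro f hf a₀ h₁ h₂
  let q : cc.pt[X] := f /ₘ (X - C a₀)
  have hfq : f = C (f.eval a₀) + (X - C a₀) * q := by
    have := Polynomial.modByMonic_add_div f (X - C a₀)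
    rw [Polynomial.modByMonic_X_sub_C_eq_C_eval] at this
    exact this.symm
  have hq : q.eval a₀ = f.derivative.eval a₀ := by
    have h := congrArg (fun p => (derivative p).eval a₀) hfq
    simp only [derivative_add, derivative_C, zero_add, derivative_mul, derivative_sub,
      derivative_X, sub_zero, one_mul, eval_add, eval_mul, eval_sub, eval_X, eval_C, sub_self,
      zero_mul, add_zero] at h
    exact h.symm
  have hres : ∀ (p : cc.pt[X]) (a : cc.pt),
      (p.map (residue cc.pt)).eval (residue cc.pt a) = residue cc.pt (p.eval a) := by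
    intro p a
    rw [Polynomial.eval_map, Polynomial.eval₂_hom]
  obtain ⟨a, ha1, ha2⟩ := exists_root F cc hcc h2 f q hf (residue cc.pt) (residue cc.pt a₀)
    (by rw [hres]; exact (residue_eq_zero_iff _).2 h₁)
    (by
      rw [Polynomial.derivative_map, hres]
      intro h
      exact ((residue_eq_zero_iff _).1 h) |> (mem_maximalIdeal _).1 |> fun h' => h' h₂)
    (by
      rw [hres, hq]
      intro h
      exact ((residue_eq_zero_iff _).1 h) |> (mem_maximalIdeal _).1 |> fun h' => h' h₂)
  refine ⟨a, ha1, ?_⟩
  have h3 : (a - a₀) * q.eval a = - f.eval a₀ := by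
    have h := congrArg (fun p => p.eval a) hfq
    simp only [eval_add, eval_C, eval_mul, eval_sub, eval_X] at h
    rw [ha1] at h
    linear_combination -h
  have h4 : (a - a₀) * q.eval a ∈ maximalIdeal cc.pt := by
    rw [h3]
    exact neg_mem h₁
  rcases (Ideal.IsPrime.mem_or_mem inferInstance h4) with h5 | h5
  · exact h5
  · exact absurd ha2 ((mem_maximalIdeal _).1 h5)

include hcc h2 in
/-- the residue field of the colimit is separably closed -/
theorem isSepClosed : IsSepClosed (ResidueField cc.pt) := by
  refine IsSepClosed.of_exists_root _ (fun pbar hmonic hirr hsep => ?_)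
  obtain ⟨f, hf1, -, hfm⟩ := Polynomial.lifts_and_degree_eq_and_monic
    ((Polynomial.mem_lifts _).2 (Polynomial.map_surjective (residue cc.pt)
      residue_surjective pbar)) hmonic
  let K := AlgebraicClosure (ResidueField cc.pt)
  let ψ : cc.pt →+* K := (algebraMap (ResidueField cc.pt) K).comp (residue cc.pt)
  haveI : IsLocalHom ψ := by
    constructor
    intro a ha
    have h1 : residue cc.pt a ≠ 0 := by
      intro h0
      have : ψ a = 0 := by
        change algebraMap (ResidueField cc.pt) K (residue cc.pt a) = 0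
        rw [h0, map_zero]
      rw [this] at ha
      exact not_isUnit_zero ha
    by_contra hna
    exact h1 ((residue_eq_zero_iff _).2 ((mem_maximalIdeal _).2 hna))
  have hdeg : (pbar.map (algebraMap (ResidueField cc.pt) K)).degree ≠ 0 := by
    rw [Polynomial.degree_map]
    exact (Polynomial.degree_pos_of_irreducible hirr).ne'
  obtain ⟨ω, hω⟩ := IsAlgClosed.exists_root _ hdeg
  have hmapf : f.map ψ = pbar.map (algebraMap (ResidueField cc.pt) K) := by
    rw [← Polynomial.map_map, hf1]
  have hsepK : (pbar.map (algebraMap (ResidueField cc.pt) K)).Separable := hsep.map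
  obtain ⟨a, ha1, -⟩ := exists_root F cc hcc h2 f 1 hfm ψ ω
    (by rw [hmapf]; exact hω)
    (by
      rw [hmapf]
      have := hsepK.eval₂_derivative_ne_zero (RingHom.id K) (x := ω)
        (by rw [Polynomial.eval₂_id]; exact hω)
      rwa [Polynomial.eval₂_id] at this)
    (by simp)
  refine ⟨residue cc.pt a, ?_⟩
  rw [← hf1, Polynomial.eval_map, Polynomial.eval₂_hom, ha1, map_zero]

end Hens

end H9FE.StrHensColim
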