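import Mathlib
import Groth.Agent.Lib.Helper9.FE.PtSysA
import Groth.Agent.Lib.Helper9.FE.StrHensColim

/-! helper9: points of the small étale site, II. For a small cofiltered system of affine étale
`S`-schemes with compatible elements of the fibre of a point `p`, initial in the elements of the
fibre functor: the diagram of rings `RgF` and the refinement hypotheses (h0), (h1), (h2) of
`StrHensColim` for it (`h0_sys`, `h1_sys`, `h2_sys`), from the refinement principle. -/

set_option autoImplicit false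
set_option linter.unusedSectionVars false
set_option linter.style.haveILetI false
set_option backward.isDefEq.respectTransparency false
universe u
open CategoryTheory CategoryTheory.Limits AlgebraicGeometry Opposite

namespace H9FE.PtGeo

variable {S : Scheme.{u}} (p : GrothendieckTopology.Point.{u} S.smallEtaleTopology)
  {I : Type u} [SmallCategory I] [IsCofiltered I] (Ψ : I ⥤ AE p)
  [hΨ : (Ψ ⋙ toEl p).Initial]

/-- the rings of the stages -/
noncomputable abbrev Rg (i : I) : CommRingCat.{u} := (Ψ.obj i).1.left.unop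

/-- the structure morphisms of the stages -/
noncomputable abbrev strHom (i : I) : Spec (Rg p Ψ i) ⟶ S := (Ψ.obj i).1.hom

instance strHom_etale (i : I) : Etale (strHom p Ψ i) := (Ψ.obj i).1.prop

/-- the transition maps of rings -/
noncomputable def rgMap {i j : I} (m : i ⟶ j) : Rg p Ψ j ⟶ Rg p Ψ i := (Ψ.map m).1.left.unop

lemma rgMap_id (i : I) : rgMap p Ψ (𝟙 i) = 𝟙 _ := by
  unfold rgMap
  rw [Ψ.map_id]
  rfl

lemma rgMap_comp {i j k : I} (m : i ⟶ j) (n : j ⟶ k) :
    rgMap p Ψ (m ≫ n) = rgMap p Ψ n ≫ rgMap p Ψ m := by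
  unfold rgMap
  rw [Ψ.map_comp]
  rfl

lemma us_map_left {i j : I} (m : i ⟶ j) :
    ((Us p Ψ).map m).left = Spec.map (rgMap p Ψ m) := rfl

lemma us_obj_hom (i : I) : ((Us p Ψ).obj i).hom = strHom p Ψ i := rfl

lemma strHom_map {i j : I} (m : i ⟶ j) :
    Spec.map (rgMap p Ψ m) ≫ strHom p Ψ j = strHom p Ψ i := by
  have := MorphismProperty.Over.w ((Us p Ψ).map m)
  exact this

/-- the diagram of rings -/
noncomputable abbrev RgF : Iᵒᵖ ⥤ CommRingCat.{u} where
  obj i := Rg p Ψ i.unop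
  map m := rgMap p Ψ m.unop
  map_id i := rgMap_id p Ψ i.unop
  map_comp m n := rgMap_comp p Ψ n.unop m.unop

include hΨ in
/-- refinement of jointly surjective families of étale schemes over a stage -/
theorem refine_family (i : I) {ι : Type} (Z : ι → Scheme.{u}) (z : ∀ l, Z l ⟶ Spec (Rg p Ψ i))
    [∀ l, Etale (z l)] (hz : ∀ x : Spec (Rg p Ψ i), ∃ (l : ι) (y : Z l), z l y = x) :
    ∃ (l : ι) (j : I) (t : j ⟶ i) (n : Spec (Rg p Ψ j) ⟶ Z l),
      n ≫ z l = Spec.map (rgMap p Ψ t) := by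
  let Z' : ι → S.Etale := fun l => Scheme.Etale.mk (z l ≫ strHom p Ψ i)
  let f : ∀ l, Z' l ⟶ (Us p Ψ).obj i := fun l => MorphismProperty.Over.homMk (z l) rfl trivial
  have hcov : Sieve.ofArrows _ f ∈ S.smallEtaleTopology ((Us p Ψ).obj i) := by
    rw [Scheme.ofArrows_mem_smallEtaleTopology_iff]
    ext x
    simp only [Set.mem_iUnion, Set.mem_univ, iff_true]
    obtain ⟨l, y, hy⟩ := hz x
    exact ⟨l, y, hy⟩
  obtain ⟨j, t, ht⟩ := refine p Ψ i _ hcov
  obtain ⟨l, n, hn⟩ := (Sieve.mem_ofArrows_iff _ _ _).1 ht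
  refine ⟨l, j, t, n.left, ?_⟩
  have := congrArg (fun m => m.left) hn
  exact this.symm

include hΨ in
theorem h0_sys (j : Iᵒᵖ) : Nontrivial ((RgF p Ψ).obj j) := by
  by_contra hnt
  rw [not_nontrivial_iff_subsingleton] at hnt
  haveI : Subsingleton (Rg p Ψ j.unop) := hnt
  haveI : IsEmpty (PrimeSpectrum (Rg p Ψ j.unop)) := inferInstance
  let Z : PEmpty.{1} → Scheme.{u} := fun l => l.elim
  let z : ∀ l, Z l ⟶ Spec (Rg p Ψ j.unop) := fun l => l.elim
  haveI : ∀ l, Etale (z l) := fun l => l.elim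
  obtain ⟨l, -⟩ := refine_family p Ψ j.unop Z z
    (fun x => (IsEmpty.false (α := PrimeSpectrum (Rg p Ψ j.unop)) x).elim)
  exact l.elim

include hΨ in
theorem h1_sys (j : Iᵒᵖ) (a : (RgF p Ψ).obj j) :
    ∃ (k : Iᵒᵖ) (t : j ⟶ k),
      IsUnit (((RgF p Ψ).map t).hom a) ∨ IsUnit (((RgF p Ψ).map t).hom (1 - a)) := by
  let c : Bool → Rg p Ψ j.unop := fun b => bif b then a else 1 - a
  let Z : Bool → Scheme.{u} := fun b => Spec (CommRingCat.of (Localization.Away (c b)))
  let z : ∀ b, Z b ⟶ Spec (Rg p Ψ j.unop) := fun b =>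
    Spec.map (CommRingCat.ofHom (algebraMap (Rg p Ψ j.unop) (Localization.Away (c b))))
  haveI : ∀ b, Etale (z b) := fun b => by
    rw [HasRingHomProperty.Spec_iff (P := @Etale)]
    exact RingHom.etale_algebraMap.2 inferInstance
  have hz : ∀ x : Spec (Rg p Ψ j.unop), ∃ (b : Bool) (y : Z b), z b y = x := by
    intro x
    have hrange : ∀ b, Set.range (z b) =
        (PrimeSpectrum.basicOpen (c b) : Set (PrimeSpectrum (Rg p Ψ j.unop))) := fun b =>
      PrimeSpectrum.localization_away_comap_range (Localization.Away (c b)) (c b)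
    by_cases hx : a ∈ (show PrimeSpectrum (Rg p Ψ j.unop) from x).asIdeal
    · have : x ∈ Set.range (z false) := by
        rw [hrange]
        change (1 - a) ∉ (show PrimeSpectrum (Rg p Ψ j.unop) from x).asIdeal
        intro h1
        apply (show PrimeSpectrum (Rg p Ψ j.unop) from x).isPrime.ne_top
        rw [Ideal.eq_top_iff_one]
        have := Ideal.add_mem _ hx h1
        rwa [add_sub_cancel] at this
      obtain ⟨y, hy⟩ := this
      exact ⟨false, y, hy⟩
    · have : x ∈ Set.range (z true) := by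
        rw [hrange]
        exact hx
      obtain ⟨y, hy⟩ := this
      exact ⟨true, y, hy⟩
  obtain ⟨b, k, t, n, hn⟩ := refine_family p Ψ j.unop Z z hz
  obtain ⟨σ, rfl⟩ := Spec.map_surjective n
  rw [← Spec.map_comp] at hn
  have hσ : CommRingCat.ofHom (algebraMap (Rg p Ψ j.unop) (Localization.Away (c b))) ≫ σ =
      rgMap p Ψ t := Spec.map_injective hn
  have hunit : IsUnit ((rgMap p Ψ t).hom (c b)) := by
    rw [← hσ]
    change IsUnit (σ.hom (algebraMap (Rg p Ψ j.unop) (Localization.Away (c b)) (c b)))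
    exact (IsLocalization.Away.algebraMap_isUnit (c b)).map σ.hom
  refine ⟨op k, t.op, ?_⟩
  cases b
  · right
    exact hunit
  · left
    exact hunit

include hΨ in
theorem h2_sys (j : Iᵒᵖ) (B : Type u) [CommRing B] [Algebra ((RgF p Ψ).obj j) B]
    [Algebra.Etale ((RgF p Ψ).obj j) B] (k : Iᵒᵖ) (t : j ⟶ k)
    (hr : Set.range (PrimeSpectrum.comap ((RgF p Ψ).map t).hom) ⊆
      Set.range (PrimeSpectrum.comap (algebraMap ((RgF p Ψ).obj j) B))) :
    ∃ (l : Iᵒᵖ) (s : k ⟶ l) (σ : B →+* (RgF p Ψ).obj l),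
      σ.comp (algebraMap ((RgF p Ψ).obj j) B) = ((RgF p Ψ).map (t ≫ s)).hom := by
  let b : Spec (CommRingCat.of B) ⟶ Spec ((RgF p Ψ).obj j) :=
    Spec.map (CommRingCat.ofHom (algebraMap ((RgF p Ψ).obj j) B))
  let τ : Spec ((RgF p Ψ).obj k) ⟶ Spec ((RgF p Ψ).obj j) := Spec.map ((RgF p Ψ).map t)
  haveI : Etale b := by
    rw [HasRingHomProperty.Spec_iff (P := @Etale)]
    exact RingHom.etale_algebraMap.2 inferInstance
  let Z : PUnit.{1} → Scheme.{u} := fun _ => pullback b τ
  let z : ∀ l, Z l ⟶ Spec (Rg p Ψ k.unop) := fun _ => pullback.snd b τ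
  haveI : ∀ l, Etale (z l) := fun _ => inferInstanceAs (Etale (pullback.snd b τ))
  have hz : ∀ x : Spec (Rg p Ψ k.unop), ∃ (l : PUnit.{1}) (y : Z l), z l y = x := by
    intro x
    have hx : x ∈ Set.range (pullback.snd b τ) := by
      rw [Scheme.Pullback.range_snd]
      have h3 : PrimeSpectrum.comap ((RgF p Ψ).map t).hom x ∈
          Set.range (PrimeSpectrum.comap (algebraMap ((RgF p Ψ).obj j) B)) := hr ⟨x, rfl⟩
      obtain ⟨y, hy⟩ := h3
      exact ⟨y, hy⟩
    obtain ⟨y, hy⟩ := hx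
    exact ⟨PUnit.unit, y, hy⟩
  obtain ⟨u0, l, s, n, hn⟩ := refine_family p Ψ k.unop Z z hz
  obtain ⟨σ, hσ⟩ := Spec.map_surjective (n ≫ pullback.fst b τ)
  have h1 : Spec.map σ ≫ b = Spec.map (rgMap p Ψ (s ≫ t.unop)) := by
    rw [hσ, Category.assoc, pullback.condition, ← Category.assoc]
    have hn' : n ≫ pullback.snd b τ = Spec.map (rgMap p Ψ s) := hn
    rw [hn', rgMap_comp, Spec.map_comp]
  rw [← Spec.map_comp] at h1
  have h2 : CommRingCat.ofHom (algebraMap ((RgF p Ψ).obj j) B) ≫ σ = rgMap p Ψ (s ≫ t.unop) :=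
    Spec.map_injective h1
  refine ⟨op l, s.op, σ.hom, ?_⟩
  have := congrArg CommRingCat.Hom.hom h2
  exact this

end H9FE.PtGeo
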