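import Mathlib
import Groth.Agent.Lib.Helper9.FE.LimTower
import Groth.Agent.Lib.Helper9.FE.SLocSect

/-! helper9: for a henselian local ring `R` and an arbitrary morphism `h : Spec R ⟶ S`, every
`κ(R)`-point of an étale `S`-scheme `U` over the closed point lifts uniquely to an `S`-morphism
`Spec R ⟶ U` (`exists_lift_gen`, `lift_unique_gen`; same proofs as `SHNbhd.exists_lift`,
`SHNbhd.lift_unique`, for a general structure morphism). -/

set_option autoImplicit false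
set_option linter.unusedSectionVars false
set_option linter.style.haveILetI false
set_option backward.isDefEq.respectTransparency false
universe u
open CategoryTheory CategoryTheory.Limits AlgebraicGeometry Opposite IsLocalRing

namespace H9FE.SHLiftGen
open H9FE.LimTower H9FE.SLocSect

variable {S : Scheme.{u}} (R : Type u) [CommRing R] [HenselianLocalRing R]
  (h : Spec (CommRingCat.of R) ⟶ S)
  (U : S.Etale) (v : Spec (CommRingCat.of (ResidueField R)) ⟶ U.left)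

theorem exists_lift_gen (hv : v ≫ U.hom = cpt R ≫ h) :
    ∃ ℓ : Spec (CommRingCat.of R) ⟶ U.left, ℓ ≫ U.hom = h ∧ cpt R ≫ ℓ = v := by
  let Y : (Spec (CommRingCat.of R)).Etale := (EtCoh.bc h).obj U
  let y : Spec (CommRingCat.of (ResidueField R)) ⟶ Y.left := pLift h U v (cpt R) hv
  have hy : y ≫ Y.hom = cpt R := pLift_p2 _ _ _ _ _
  obtain ⟨s, hs1, hs2⟩ := exists_section Y y hy
  refine ⟨s ≫ p1 h U, ?_, ?_⟩
  · rw [Category.assoc, p_cond, ← Category.assoc]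
    have : s ≫ p2 h U = 𝟙 _ := hs1
    rw [this, Category.id_comp]
  · rw [← Category.assoc, hs2]
    exact pLift_p1 _ _ _ _ _

theorem lift_unique_gen (ℓ₁ ℓ₂ : Spec (CommRingCat.of R) ⟶ U.left)
    (h1 : ℓ₁ ≫ U.hom = h) (h2 : ℓ₂ ≫ U.hom = h)
    (h12 : cpt R ≫ ℓ₁ = cpt R ≫ ℓ₂) : ℓ₁ = ℓ₂ := by
  let Y : (Spec (CommRingCat.of R)).Etale := (EtCoh.bc h).obj U
  let s₁ : Spec (CommRingCat.of R) ⟶ Y.left :=
    pLift h U ℓ₁ (𝟙 _) (by rw [h1, Category.id_comp])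
  let s₂ : Spec (CommRingCat.of R) ⟶ Y.left :=
    pLift h U ℓ₂ (𝟙 _) (by rw [h2, Category.id_comp])
  have hs₁ : s₁ ≫ Y.hom = 𝟙 _ := pLift_p2 _ _ _ _ _
  have hs₂ : s₂ ≫ Y.hom = 𝟙 _ := pLift_p2 _ _ _ _ _
  have e1 : s₁ ≫ p1 h U = ℓ₁ := pLift_p1 _ _ _ _ _
  have e2 : s₂ ≫ p1 h U = ℓ₂ := pLift_p1 _ _ _ _ _
  have hs : cpt R ≫ s₁ = cpt R ≫ s₂ := by
    apply p_hom_ext h U
    · rw [Category.assoc, Category.assoc, e1, e2, h12]
    · have f1 : s₁ ≫ p2 h U = 𝟙 _ := hs₁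
      have f2 : s₂ ≫ p2 h U = 𝟙 _ := hs₂
      rw [Category.assoc, Category.assoc, f1, f2]
  have := section_unique Y s₁ s₂ hs₁ hs₂ hs
  rw [← e1, ← e2, this]

end H9FE.SHLiftGen
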