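import Mathlib
import Groth.Agent.Lib.Helper9.FE.PtRing
import Groth.Agent.Lib.Helper9.FE.SHLiftGen

/-! helper9: points of the small étale site, III. For a small cofiltered system of affine étale
`S`-schemes with compatible elements of the fibre of a point `p`, initial in the elements of the
fibre functor: the colimit `Rc` of the rings of the stages is a strictly henselian local ring
(`rc_props`), `Spec Rc` is the limit of the stages (`cDIsLimit`), and the fibre functor of `p` is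
isomorphic to the fibre functor of the closed geometric point of `Spec Rc ⟶ S` (`fibIso`);
hence every point of the small étale site is given by a geometric point (`main`). -/

set_option autoImplicit false
set_option linter.unusedSectionVars false
set_option linter.style.haveILetI false
set_option backward.isDefEq.respectTransparency false
universe u
open CategoryTheory CategoryTheory.Limits AlgebraicGeometry Opposite IsLocalRing

namespace H9FE.PtGeo
open H9FE.SLocSect H9FE.SHLiftGen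

variable {S : Scheme.{u}} (p : GrothendieckTopology.Point.{u} S.smallEtaleTopology)
  {I : Type u} [SmallCategory I] [IsCofiltered I] (Ψ : I ⥤ AE p)
  [hΨ : (Ψ ⋙ toEl p).Initial]

/-- the colimit of the rings of the stages -/
noncomputable abbrev Rc : CommRingCat.{u} := colimit (RgF p Ψ)

include hΨ in
theorem rc_isLocalRing : IsLocalRing (Rc p Ψ) :=
  H9FE.StrHensColim.isLocalRing (RgF p Ψ) (colimit.cocone _) (colimit.isColimit _)
    (h0_sys p Ψ) (h1_sys p Ψ)

include hΨ in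
theorem rc_props : ∃ (_ : HenselianLocalRing (Rc p Ψ)), IsSepClosed (ResidueField (Rc p Ψ)) := by
  haveI hl : IsLocalRing (colimit.cocone (RgF p Ψ)).pt := rc_isLocalRing p Ψ
  refine ⟨H9FE.StrHensColim.henselian (RgF p Ψ) (colimit.cocone _) (colimit.isColimit _)
    (h2_sys p Ψ), ?_⟩
  exact H9FE.StrHensColim.isSepClosed (RgF p Ψ) (colimit.cocone _) (colimit.isColimit _)
    (h2_sys p Ψ)

/-- the diagram of schemes -/
noncomputable abbrev Dg : I ⥤ Scheme.{u} := (RgF p Ψ).rightOp ⋙ Scheme.Spec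

/-- the limit cone with vertex `Spec Rc` -/
noncomputable abbrev cD : Cone (Dg p Ψ) :=
  Scheme.Spec.mapCone (coneRightOpOfCocone (colimit.cocone (RgF p Ψ)))

/-- `Spec Rc` is the limit of the stages -/
noncomputable def cDIsLimit : IsLimit (cD p Ψ) :=
  isLimitOfPreserves Scheme.Spec (isLimitConeRightOpOfCocone _ (colimit.isColimit _))

lemma dg_map {i j : I} (m : i ⟶ j) : (Dg p Ψ).map m = Spec.map (rgMap p Ψ m) := rfl

lemma dg_map_left {i j : I} (m : i ⟶ j) : ((Us p Ψ).map m).left = (Dg p Ψ).map m := rfl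

instance dg_affineHom {i j : I} (m : i ⟶ j) : IsAffineHom ((Dg p Ψ).map m) :=
  inferInstanceAs (IsAffineHom (Spec.map (rgMap p Ψ m)))

instance dg_compact (i : I) : CompactSpace ((Dg p Ψ).obj i) :=
  inferInstanceAs (CompactSpace (Spec (Rg p Ψ i)))

instance dg_qs (i : I) : QuasiSeparatedSpace ((Dg p Ψ).obj i) :=
  inferInstanceAs (QuasiSeparatedSpace (Spec (Rg p Ψ i)))

/-- the structure morphisms, as a natural transformation -/
noncomputable def tD : Dg p Ψ ⟶ (Functor.const I).obj S where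
  app i := strHom p Ψ i
  naturality i j m := by
    change Spec.map (rgMap p Ψ m) ≫ strHom p Ψ j = strHom p Ψ i ≫ 𝟙 _
    rw [Category.comp_id, strHom_map]

/-- the morphism `Spec Rc ⟶ S` -/
noncomputable def hR : Spec (Rc p Ψ) ⟶ S :=
  (cD p Ψ).π.app IsCofiltered.nonempty.some ≫ strHom p Ψ _

lemma cD_w {i j : I} (m : i ⟶ j) : (cD p Ψ).π.app i ≫ (Dg p Ψ).map m = (cD p Ψ).π.app j :=
  (cD p Ψ).w m

lemma hR_eq (i : I) : (cD p Ψ).π.app i ≫ strHom p Ψ i = hR p Ψ := by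
  have key : ∀ {i j : I} (m : i ⟶ j),
      (cD p Ψ).π.app i ≫ strHom p Ψ i = (cD p Ψ).π.app j ≫ strHom p Ψ j := by
    intro i j m
    rw [← cD_w p Ψ m, Category.assoc, dg_map, strHom_map]
  let i₀ : I := IsCofiltered.nonempty.some
  rw [← key (IsCofiltered.minToLeft i i₀), key (IsCofiltered.minToRight i i₀)]
  rfl

include hΨ in
/-- the morphism from `Spec Rc` attached to an element of the fibre -/
noncomputable def ev (U : S.Etale) (u : p.fiber.obj U) : Spec (Rc p Ψ) ⟶ U.left :=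
  (cD p Ψ).π.app (dom p Ψ U u).choose ≫ (dom p Ψ U u).choose_spec.choose.left

lemma ev_eq (U : S.Etale) (u : p.fiber.obj U) (i : I) (m : (Us p Ψ).obj i ⟶ U)
    (hm : p.fiber.map m (pt p Ψ i) = u) : ev p Ψ U u = (cD p Ψ).π.app i ≫ m.left := by
  let i' : I := (dom p Ψ U u).choose
  let m' : (Us p Ψ).obj i' ⟶ U := (dom p Ψ U u).choose_spec.choose
  have hm' : p.fiber.map m' (pt p Ψ i') = u := (dom p Ψ U u).choose_spec.choose_spec
  change (cD p Ψ).π.app i' ≫ m'.left = _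
  let k : I := IsCofiltered.min i i'
  let a : k ⟶ i := IsCofiltered.minToLeft i i'
  let b : k ⟶ i' := IsCofiltered.minToRight i i'
  have h12 : p.fiber.map ((Us p Ψ).map a ≫ m) (pt p Ψ k) =
      p.fiber.map ((Us p Ψ).map b ≫ m') (pt p Ψ k) := by
    rw [Functor.map_comp, Functor.map_comp]
    change p.fiber.map m (p.fiber.map ((Us p Ψ).map a) (pt p Ψ k)) =
      p.fiber.map m' (p.fiber.map ((Us p Ψ).map b) (pt p Ψ k))
    rw [pt_map, pt_map, hm, hm']
  obtain ⟨l, t, ht⟩ := eqz p Ψ _ _ h12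
  have ht' : (Dg p Ψ).map t ≫ (Dg p Ψ).map a ≫ m.left =
      (Dg p Ψ).map t ≫ (Dg p Ψ).map b ≫ m'.left := congrArg (fun f => f.left) ht
  rw [← cD_w p Ψ (t ≫ b), ← cD_w p Ψ (t ≫ a), Functor.map_comp, Functor.map_comp,
    Category.assoc, Category.assoc, Category.assoc, Category.assoc, ht']

lemma ev_hom (U : S.Etale) (u : p.fiber.obj U) : ev p Ψ U u ≫ U.hom = hR p Ψ := by
  obtain ⟨i, m, hm⟩ := dom p Ψ U u
  rw [ev_eq p Ψ U u i m hm, Category.assoc]
  have : m.left ≫ U.hom = strHom p Ψ i := MorphismProperty.Over.w m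
  rw [this, hR_eq]

lemma ev_nat {U U' : S.Etale} (g : U ⟶ U') (u : p.fiber.obj U) :
    ev p Ψ U' (p.fiber.map g u) = ev p Ψ U u ≫ g.left := by
  obtain ⟨i, m, hm⟩ := dom p Ψ U u
  rw [ev_eq p Ψ U u i m hm, ev_eq p Ψ U' (p.fiber.map g u) i (m ≫ g)
    (by rw [Functor.map_comp]; exact congrArg (p.fiber.map g) hm), Category.assoc]
  rfl

section Geo

variable [hh : HenselianLocalRing (Rc p Ψ)] [hs : IsSepClosed (ResidueField (Rc p Ψ))]

/-- the geometric point -/
noncomputable abbrev xi : Spec (CommRingCat.of (ResidueField (Rc p Ψ))) ⟶ S :=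
  cpt (Rc p Ψ) ≫ hR p Ψ

/-- the comparison of fibres -/
noncomputable def toFib (U : S.Etale) (u : p.fiber.obj U) :
    (Scheme.pointSmallEtale (xi p Ψ)).fiber.obj U :=
  Over.homMk (cpt (Rc p Ψ) ≫ ev p Ψ U u) (by
    change (cpt (Rc p Ψ) ≫ ev p Ψ U u) ≫ U.hom = xi p Ψ
    rw [Category.assoc, ev_hom])

lemma toFib_left (U : S.Etale) (u : p.fiber.obj U) :
    (toFib p Ψ U u).left = cpt (Rc p Ψ) ≫ ev p Ψ U u := rfl

theorem toFib_injective (U : S.Etale) : Function.Injective (toFib p Ψ U) := by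
  intro u₁ u₂ h12
  haveI : Etale U.hom := U.prop
  have h1 : cpt (Rc p Ψ) ≫ ev p Ψ U u₁ = cpt (Rc p Ψ) ≫ ev p Ψ U u₂ :=
    congrArg (fun f => f.left) h12
  have h2 : ev p Ψ U u₁ = ev p Ψ U u₂ :=
    lift_unique_gen (Rc p Ψ) (hR p Ψ) U _ _ (ev_hom p Ψ U u₁) (ev_hom p Ψ U u₂) h1
  obtain ⟨i₁, m₁, hm₁⟩ := dom p Ψ U u₁
  obtain ⟨i₂, m₂, hm₂⟩ := dom p Ψ U u₂
  let k : I := IsCofiltered.min i₁ i₂
  let a : k ⟶ i₁ := IsCofiltered.minToLeft i₁ i₂
  let b : k ⟶ i₂ := IsCofiltered.minToRight i₁ i₂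
  have e1 : (cD p Ψ).π.app k ≫ ((Dg p Ψ).map a ≫ m₁.left) =
      (cD p Ψ).π.app k ≫ ((Dg p Ψ).map b ≫ m₂.left) := by
    rw [← Category.assoc, ← Category.assoc, cD_w, cD_w, ← ev_eq p Ψ U u₁ i₁ m₁ hm₁,
      ← ev_eq p Ψ U u₂ i₂ m₂ hm₂, h2]
  have ha : (tD p Ψ).app k = ((Dg p Ψ).map a ≫ m₁.left) ≫ U.hom := by
    have h1 : m₁.left ≫ U.hom = strHom p Ψ i₁ := MorphismProperty.Over.w m₁
    have h2 : Spec.map (rgMap p Ψ a) ≫ strHom p Ψ i₁ = strHom p Ψ k := strHom_map p Ψ a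
    exact (h2.symm.trans (congrArg (fun x => Spec.map (rgMap p Ψ a) ≫ x) h1.symm)).trans
      (Category.assoc _ _ _).symm
  have hb : (tD p Ψ).app k = ((Dg p Ψ).map b ≫ m₂.left) ≫ U.hom := by
    have h1 : m₂.left ≫ U.hom = strHom p Ψ i₂ := MorphismProperty.Over.w m₂
    have h2 : Spec.map (rgMap p Ψ b) ≫ strHom p Ψ i₂ = strHom p Ψ k := strHom_map p Ψ b
    exact (h2.symm.trans (congrArg (fun x => Spec.map (rgMap p Ψ b) ≫ x) h1.symm)).trans
      (Category.assoc _ _ _).symm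
  obtain ⟨l, t, ht⟩ := Scheme.exists_hom_comp_eq_comp_of_locallyOfFiniteType (Dg p Ψ) (tD p Ψ)
    U.hom (cD p Ψ) (cDIsLimit p Ψ) _ _ ha hb e1
  have hmor : (Us p Ψ).map (t ≫ a) ≫ m₁ = (Us p Ψ).map (t ≫ b) ≫ m₂ := by
    apply MorphismProperty.Over.Hom.ext
    change (Dg p Ψ).map (t ≫ a) ≫ m₁.left = (Dg p Ψ).map (t ≫ b) ≫ m₂.left
    rw [Functor.map_comp, Functor.map_comp, Category.assoc, Category.assoc]
    exact ht
  rw [← hm₁, ← hm₂, ← pt_map p Ψ (t ≫ a), ← pt_map p Ψ (t ≫ b)]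
  have e : p.fiber.map ((Us p Ψ).map (t ≫ a) ≫ m₁) (pt p Ψ l) =
      p.fiber.map ((Us p Ψ).map (t ≫ b) ≫ m₂) (pt p Ψ l) := by rw [hmor]
  have e1 := Functor.map_comp_apply p.fiber ((Us p Ψ).map (t ≫ a)) m₁ (pt p Ψ l)
  have e2 := Functor.map_comp_apply p.fiber ((Us p Ψ).map (t ≫ b)) m₂ (pt p Ψ l)
  exact e1.symm.trans (e.trans e2)

theorem toFib_surjective (U : S.Etale) : Function.Surjective (toFib p Ψ U) := by
  intro w
  haveI : Etale U.hom := U.prop
  have hw : w.left ≫ U.hom = cpt (Rc p Ψ) ≫ hR p Ψ := Over.w w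
  obtain ⟨ℓ, hℓ1, hℓ2⟩ := exists_lift_gen (Rc p Ψ) (hR p Ψ) U w.left hw
  obtain ⟨i, g, hg1, hg2⟩ := Scheme.exists_π_app_comp_eq_of_locallyOfFinitePresentation
    (Dg p Ψ) (tD p Ψ) U.hom (cD p Ψ) (cDIsLimit p Ψ) ℓ (by
      ext i
      change (cD p Ψ).π.app i ≫ strHom p Ψ i = ℓ ≫ U.hom
      rw [hR_eq, hℓ1])
  let m : (Us p Ψ).obj i ⟶ U := MorphismProperty.Over.homMk g hg2 trivial
  refine ⟨p.fiber.map m (pt p Ψ i), ?_⟩
  apply Over.OverMorphism.ext
  rw [toFib_left, ev_eq p Ψ U _ i m rfl]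
  change cpt (Rc p Ψ) ≫ (cD p Ψ).π.app i ≫ g = w.left
  rw [hg1, hℓ2]

/-- the fibre functor of `p` is the fibre functor of the geometric point -/
noncomputable def fibIso : p.fiber ≅ (Scheme.pointSmallEtale (xi p Ψ)).fiber :=
  NatIso.ofComponents (fun U => Equiv.toIso (Equiv.ofBijective (toFib p Ψ U)
    ⟨toFib_injective p Ψ U, toFib_surjective p Ψ U⟩)) (by
    intro U U' g
    ext u
    apply Over.OverMorphism.ext
    change cpt (Rc p Ψ) ≫ ev p Ψ U' (p.fiber.map g u) = (cpt (Rc p Ψ) ≫ ev p Ψ U u) ≫ g.left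
    rw [ev_nat, Category.assoc])

end Geo

end H9FE.PtGeo

namespace H9FE.PtGeo

/-- every point of the small étale site of a scheme is given by a geometric point -/
theorem main {S : Scheme.{u}} (p : GrothendieckTopology.Point.{u} S.smallEtaleTopology) :
    ∃ (Ω : Type u) (_ : Field Ω) (_ : IsSepClosed Ω) (ξ : Spec (CommRingCat.of Ω) ⟶ S),
      Nonempty (p.fiber ≅ (Scheme.pointSmallEtale ξ).fiber) := by
  obtain ⟨I, _, _, Ψ, hΨ⟩ := exists_sys p
  obtain ⟨hh, hs⟩ := rc_props p Ψ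
  exact ⟨ResidueField (Rc p Ψ), inferInstance, hs, xi p Ψ, ⟨fibIso p Ψ⟩⟩

end H9FE.PtGeo
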