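import Mathlib

/-! helper9: S0909 — the sheafified additive Yoneda embedding of a small abelian category (regular
topology) is fully faithful and exact; the site has enough points (via the Freyd–Mitchell
embedding and "generic elements"). -/

set_option autoImplicit false
set_option linter.unusedSectionVars false
set_option linter.style.haveILetI false
set_option backward.isDefEq.respectTransparency false

universe u

open CategoryTheory CategoryTheory.Limits Opposite

namespace H9FE.RegAb

variable {A : Type u} [SmallCategory A] [Abelian A] [Preregular A]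

/-- representable additive presheaves are sheaves for the regular topology -/
theorem isSheaf_pY (X : A) :
    Presheaf.IsSheaf (regularTopology A) (preadditiveYoneda.obj X) := by
  rw [Presheaf.isSheaf_iff_isSheaf_forget (regularTopology A) (preadditiveYoneda.obj X)
    (forget AddCommGrpCat.{u})]
  have h : preadditiveYoneda.obj X ⋙ forget AddCommGrpCat.{u} = yoneda.obj X :=
    congrArg (fun F => F.obj X) (whiskering_preadditiveYoneda (C := A))
  rw [h, isSheaf_iff_isSheaf_of_type]
  exact regularTopology.isSheaf_yoneda_obj X

/-- the additive Yoneda embedding with values in sheaves -/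
noncomputable def shY : A ⥤ Sheaf (regularTopology A) AddCommGrpCat.{u} where
  obj X := ⟨preadditiveYoneda.obj X, isSheaf_pY X⟩
  map f := ⟨preadditiveYoneda.map f⟩
  map_id X := Sheaf.hom_ext (preadditiveYoneda.map_id X)
  map_comp f g := Sheaf.hom_ext (preadditiveYoneda.map_comp f g)

theorem shY_comp : shY (A := A) ⋙ sheafToPresheaf (regularTopology A) AddCommGrpCat.{u} =
    preadditiveYoneda := rfl

instance : (shY (A := A)).Faithful := by
  haveI : (shY (A := A) ⋙ sheafToPresheaf (regularTopology A) AddCommGrpCat.{u}).Faithful :=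
    inferInstanceAs (preadditiveYoneda (C := A)).Faithful
  exact Functor.Faithful.of_comp _ (sheafToPresheaf (regularTopology A) AddCommGrpCat.{u})

instance : (shY (A := A)).Full := by
  haveI : (shY (A := A) ⋙ sheafToPresheaf (regularTopology A) AddCommGrpCat.{u}).Full :=
    inferInstanceAs (preadditiveYoneda (C := A)).Full
  exact Functor.Full.of_comp_faithful _ (sheafToPresheaf (regularTopology A) AddCommGrpCat.{u})

/-- the functor of the statement -/
noncomputable abbrev GG : A ⥤ Sheaf (regularTopology A) AddCommGrpCat.{u} :=
  preadditiveYoneda ⋙ presheafToSheaf (regularTopology A) AddCommGrpCat.{u}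

/-- sheafification does not change representables -/
noncomputable def isoG : GG (A := A) ≅ shY :=
  show (shY (A := A) ⋙ sheafToPresheaf (regularTopology A) AddCommGrpCat.{u}) ⋙
      presheafToSheaf (regularTopology A) AddCommGrpCat.{u} ≅ shY from
    Functor.associator shY (sheafToPresheaf (regularTopology A) AddCommGrpCat.{u})
        (presheafToSheaf (regularTopology A) AddCommGrpCat.{u}) ≪≫
      Functor.isoWhiskerLeft shY
        (asIso (sheafificationAdjunction (regularTopology A) AddCommGrpCat.{u}).counit) ≪≫
      Functor.rightUnitor shY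

theorem full_GG : (GG (A := A)).Full := Functor.Full.of_iso (isoG (A := A)).symm

theorem faithful_GG : (GG (A := A)).Faithful := Functor.Faithful.of_iso (isoG (A := A)).symm

instance presFinLim_pY : PreservesFiniteLimits (preadditiveYoneda (C := A)) := by
  constructor
  intro K _ _
  apply preservesLimitsOfShape_of_evaluation
  intro Z
  haveI : PreservesLimitsOfShape K
      ((preadditiveYoneda (C := A) ⋙ (evaluation Aᵒᵖ AddCommGrpCat.{u}).obj Z) ⋙
        forget AddCommGrpCat.{u}) :=
    show PreservesLimitsOfShape K (coyoneda.obj Z) from inferInstance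
  exact preservesLimitsOfShape_of_reflects_of_preserves _ (forget AddCommGrpCat.{u})

theorem presFinLim_GG : PreservesFiniteLimits (GG (A := A)) := inferInstance

theorem additive_GG : (GG (A := A)).Additive := by
  haveI := presFinLim_GG (A := A)
  haveI : PreservesLimitsOfShape (Discrete WalkingPair) (GG (A := A)) := inferInstance
  haveI : PreservesLimit (Functor.empty.{0} A) (GG (A := A)) := inferInstance
  exact Functor.additive_of_preserves_binary_products _

theorem effectiveEpi_of_epi {Y Z : A} (g : Y ⟶ Z) [Epi g] : EffectiveEpi g :=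
  (isRegularEpi_iff_effectiveEpi g).1 (IsRegularEpiCategory.regularEpiOfEpi g)

theorem epi_shY_map {Y Z : A} (g : Y ⟶ Z) [Epi g] : Epi (shY.map g) := by
  refine (Sheaf.isLocallySurjective_iff_epi' (φ := shY.map g)).1 ⟨fun {W} s => ?_⟩
  let s' : W ⟶ Z := s
  haveI : Epi (pullback.fst s' g) := inferInstance
  have he : EffectiveEpi (pullback.fst s' g) := effectiveEpi_of_epi _
  refine regularTopology.mem_sieves_of_hasEffectiveEpi _
    ⟨pullback s' g, pullback.fst s' g, he, ?_⟩
  refine ⟨(pullback.snd s' g : pullback s' g ⟶ Y), ?_⟩
  exact pullback.condition.symm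

theorem epi_GG_map {Y Z : A} (g : Y ⟶ Z) [Epi g] : Epi ((GG (A := A)).map g) := by
  haveI := epi_shY_map g
  have h : (GG (A := A)).map g = (isoG (A := A)).hom.app Y ≫ shY.map g ≫ (isoG (A := A)).inv.app Z := by
    rw [← Category.assoc, ← (isoG (A := A)).hom.naturality g, Category.assoc,
      Iso.hom_inv_id_app, Category.comp_id]
  rw [h]
  infer_instance

theorem presFinColim_GG : PreservesFiniteColimits (GG (A := A)) := by
  haveI := additive_GG (A := A)
  haveI := presFinLim_GG (A := A)
  refine (Functor.preservesFiniteColimits_iff_forall_exact_map_and_epi (GG (A := A))).2 ?_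
  intro S hS
  have h1 := (Functor.preservesFiniteLimits_iff_forall_exact_map_and_mono (GG (A := A))).1
    (presFinLim_GG (A := A)) S hS
  haveI := hS.epi_g
  exact ⟨h1.1, epi_GG_map S.g⟩

/-! ### points -/

/-- the Freyd–Mitchell embedding -/
noncomputable abbrev FM : A ⥤ ModuleCat.{u} (Abelian.FreydMitchell.EmbeddingRing A) :=
  Abelian.FreydMitchell.functor A

/-- its underlying-set functor -/
noncomputable abbrev FT : A ⥤ Type u := FM ⋙ forget (ModuleCat.{u} (Abelian.FreydMitchell.EmbeddingRing A))

/-- the fibre functor attached to `X`: `Z ↦ (|F X| → |F Z|)` -/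
noncomputable abbrev fib (X : A) : A ⥤ Type u := FT ⋙ coyoneda.obj (op (FT.obj X))

instance (X : A) : PreservesFiniteLimits (fib X) := inferInstance

theorem surj_FM_map {Y Z : A} (π : Y ⟶ Z) [Epi π] : Function.Surjective (FM.map π).hom := by
  haveI : Epi (FM.map π) := inferInstance
  exact (ModuleCat.epi_iff_surjective _).1 inferInstance

/-- the point attached to `X` -/
noncomputable def pt (X : A) : GrothendieckTopology.Point.{u} (regularTopology A) where
  fiber := fib X
  isCofiltered := Functor.isCofiltered_elements (fib X)
  initiallySmall := initiallySmall_of_essentiallySmall _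
  jointly_surjective {Z} R hR x := by
    obtain ⟨Y, π, hπ, hRπ⟩ := (regularTopology.mem_sieves_iff_hasEffectiveEpi R).1 hR
    haveI : Epi π := inferInstance
    have hs := surj_FM_map π
    let x' : FT.obj X ⟶ FT.obj Z := x
    let y' : FT.obj X ⟶ FT.obj Y := TypeCat.ofHom (fun a => (hs (x' a)).choose)
    refine ⟨Y, π, hRπ, y', ?_⟩
    show y' ≫ FT.map π = x'
    refine ConcreteCategory.hom_ext _ _ (fun a => ?_)
    exact (hs (x' a)).choose_spec

/-- the family of points -/
def PP : ObjectProperty (GrothendieckTopology.Point.{u} (regularTopology A)) :=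
  fun Φ => ∃ X : A, Φ = pt X

instance small_PP : ObjectProperty.Small.{u} (PP (A := A)) := by
  have hsurj : Function.Surjective (fun X : A => (⟨pt X, X, rfl⟩ : Subtype (PP (A := A)))) := by
    rintro ⟨Φ, X, rfl⟩
    exact ⟨X, rfl⟩
  exact small_of_surjective hsurj

theorem conservative_PP : (PP (A := A)).IsConservativeFamilyOfPoints := by
  refine ObjectProperty.IsConservativeFamilyOfPoints.mk' ?_
  intro X S h
  obtain ⟨Y, g, hg, y, hy⟩ := h ⟨pt X, X, rfl⟩ (𝟙 (FT.obj X))
  -- `FT.map g` is split epi hence `g` is epi
  let y' : FT.obj X ⟶ FT.obj Y := y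
  have hy' : y' ≫ FT.map g = 𝟙 (FT.obj X) := hy
  have hsurj : Function.Surjective (FM.map g).hom := by
    intro b
    refine ⟨y' b, ?_⟩
    exact congrArg (fun (φ : FT.obj X ⟶ FT.obj X) => φ b) hy'
  haveI : Epi (FM.map g) := (ModuleCat.epi_iff_surjective _).2 hsurj
  haveI : Epi g := Functor.epi_of_epi_map FM inferInstance
  exact regularTopology.mem_sieves_of_hasEffectiveEpi S ⟨Y, g, effectiveEpi_of_epi g, hg⟩

theorem hasEnoughPoints :
    GrothendieckTopology.HasEnoughPoints.{u, u, u} (regularTopology A) :=
  ⟨⟨PP, small_PP, conservative_PP⟩⟩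

theorem main :
    (preadditiveYoneda ⋙ presheafToSheaf (regularTopology A) AddCommGrpCat.{u}).Full ∧
    (preadditiveYoneda ⋙ presheafToSheaf (regularTopology A) AddCommGrpCat.{u}).Faithful ∧
    PreservesFiniteLimits (preadditiveYoneda ⋙ presheafToSheaf (regularTopology A) AddCommGrpCat.{u}) ∧
    PreservesFiniteColimits (preadditiveYoneda ⋙ presheafToSheaf (regularTopology A) AddCommGrpCat.{u}) ∧
    GrothendieckTopology.HasEnoughPoints.{u, u, u} (regularTopology A) :=
  ⟨full_GG, faithful_GG, presFinLim_GG, presFinColim_GG, hasEnoughPoints⟩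

end H9FE.RegAb
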