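import Mathlib
import Groth.Prelude.Def_Hensel

/-! helper9: lifting local homomorphisms to strict henselizations (existence of a lift into a
strictly henselian local ring, and factorization of a given map of strict henselizations through
an intermediate strict henselization). -/

set_option autoImplicit false
universe u
open IsLocalRing

namespace H9FE.SHLift

set_option linter.style.haveILetI false
set_option linter.unusedSectionVars false

section Lift

variable {A S T : Type u} [CommRing A] [IsLocalRing A] [CommRing S] [IsLocalRing S] [Algebra A S]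
  [IsLocalHom (algebraMap A S)] [hS : Hensel.IsStrictHenselization A S]
  [CommRing T] [hT : HenselianLocalRing T]

/-- a ring map out of a strict henselization which induces a given map on residue fields is
local -/
theorem isLocalHom_of_residue (φ : S →+* T) (τ : ResidueField S →+* ResidueField T)
    (h : ∀ x : S, residue T (φ x) = τ (residue S x)) : IsLocalHom φ := by
  refine ⟨fun x hx => ?_⟩
  by_contra hx'
  have h1 : residue S x = 0 := (residue_eq_zero_iff x).2 ((mem_maximalIdeal x).2 hx')
  have h2 : residue T (φ x) = 0 := by rw [h, h1, map_zero]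
  exact ((mem_maximalIdeal (φ x)).1 ((residue_eq_zero_iff (φ x)).1 h2)) hx

theorem exists_lift [IsSepClosed (ResidueField T)] (f : A →+* T) [IsLocalHom f] :
    ∃ φ : S →+* T, IsLocalHom φ ∧ φ.comp (algebraMap A S) = f := by
  haveI := hS.isSepClosure
  haveI : Algebra.IsSeparable (ResidueField A) (ResidueField S) := IsSepClosure.separable
  letI : Algebra (ResidueField A) (ResidueField T) := (ResidueField.map f).toAlgebra
  let τ₀ : ResidueField S →ₐ[ResidueField A] ResidueField T := IsSepClosed.lift
  have hτ : (τ₀ : ResidueField S →+* ResidueField T).comp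
      (ResidueField.map (algebraMap A S)) = ResidueField.map f := by
    refine RingHom.ext fun x => ?_
    obtain ⟨a, rfl⟩ := residue_surjective x
    have h1 := τ₀.commutes (residue A a)
    exact h1
  obtain ⟨φ, ⟨h1, h2⟩, -⟩ := hS.universal T f (τ₀ : ResidueField S →+* ResidueField T) hτ
  exact ⟨φ, isLocalHom_of_residue φ _ h2, h1⟩

end Lift

section Factor

variable {AZ AY SZ SY T : Type u} [CommRing AZ] [IsLocalRing AZ] [CommRing AY] [IsLocalRing AY]
  [CommRing SZ] [IsLocalRing SZ] [Algebra AZ SZ] [IsLocalHom (algebraMap AZ SZ)]
  [hSZ : Hensel.IsStrictHenselization AZ SZ]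
  [CommRing SY] [IsLocalRing SY] [Algebra AY SY] [IsLocalHom (algebraMap AY SY)]
  [hSY : Hensel.IsStrictHenselization AY SY]
  [CommRing T] [hT : HenselianLocalRing T]
  (α : AZ →+* AY) [IsLocalHom α] (φ : SY →+* T) [IsLocalHom φ] (χ : SZ →+* T) [IsLocalHom χ]

include hSZ hSY in
theorem exists_residue_preimage
    (hχ : χ.comp (algebraMap AZ SZ) = (φ.comp (algebraMap AY SY)).comp α)
    (a : ResidueField SZ) :
    ∃ b : ResidueField SY, ResidueField.map φ b = ResidueField.map χ a := by
  haveI := hSZ.isSepClosure
  haveI := hSY.isSepClosure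
  haveI : IsSepClosed (ResidueField SY) := IsSepClosure.sep_closed (ResidueField AY)
  haveI : Algebra.IsSeparable (ResidueField AZ) (ResidueField SZ) := IsSepClosure.separable
  letI aK : Algebra (ResidueField SY) (ResidueField T) := (ResidueField.map φ).toAlgebra
  letI a1 : Algebra (ResidueField AZ) (ResidueField SY) :=
    ((algebraMap (ResidueField AY) (ResidueField SY)).comp (ResidueField.map α)).toAlgebra
  letI a2 : Algebra (ResidueField AZ) (ResidueField T) :=
    ((ResidueField.map χ).comp (algebraMap (ResidueField AZ) (ResidueField SZ))).toAlgebra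
  haveI : IsScalarTower (ResidueField AZ) (ResidueField SY) (ResidueField T) := by
    refine IsScalarTower.of_algebraMap_eq fun x => ?_
    obtain ⟨z, rfl⟩ := residue_surjective x
    change ResidueField.map χ (algebraMap (ResidueField AZ) (ResidueField SZ) (residue AZ z)) =
      ResidueField.map φ (algebraMap (ResidueField AY) (ResidueField SY)
        (ResidueField.map α (residue AZ z)))
    rw [ResidueField.algebraMap_residue, ResidueField.map_residue, ResidueField.map_residue,
      ResidueField.algebraMap_residue, ResidueField.map_residue]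
    exact congrArg (residue T) (RingHom.congr_fun hχ z)
  let ρ' : ResidueField SZ →ₐ[ResidueField AZ] ResidueField T :=
    { ResidueField.map χ with commutes' := fun r => rfl }
  have sep_a : IsSeparable (ResidueField AZ) a := Algebra.IsSeparable.isSeparable _ a
  have h1 : IsSeparable (ResidueField AZ) (ρ' a) := sep_a.map ρ' (ResidueField.map χ).injective
  have h2 : IsSeparable (ResidueField SY) (ρ' a) := IsSeparable.tower_top (ResidueField SY) h1
  have hbot := IntermediateField.eq_bot_of_isSepClosed_of_isSeparable
    (separableClosure (ResidueField SY) (ResidueField T))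
  have h3 : ρ' a ∈ separableClosure (ResidueField SY) (ResidueField T) :=
    mem_separableClosure_iff.2 h2
  rw [hbot, IntermediateField.mem_bot] at h3
  obtain ⟨b, hb⟩ := h3
  exact ⟨b, hb⟩

include hSZ hSY in
theorem exists_factor
    (hχ : χ.comp (algebraMap AZ SZ) = (φ.comp (algebraMap AY SY)).comp α) :
    ∃ ψ : SZ →+* SY, IsLocalHom ψ ∧ ψ.comp (algebraMap AZ SZ) = (algebraMap AY SY).comp α ∧
      φ.comp ψ = χ := by
  have hτinj : Function.Injective (ResidueField.map φ) := (ResidueField.map φ).injective
  choose t ht using exists_residue_preimage α φ χ hχ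
  let τ' : ResidueField SZ →+* ResidueField SY :=
    { toFun := t
      map_one' := hτinj (by rw [ht, map_one, map_one])
      map_mul' := fun x y => hτinj (by rw [ht, map_mul, map_mul, ht, ht])
      map_zero' := hτinj (by rw [ht, map_zero, map_zero])
      map_add' := fun x y => hτinj (by rw [ht, map_add, map_add, ht, ht]) }
  have hτ' : ∀ a, ResidueField.map φ (τ' a) = ResidueField.map χ a := ht
  haveI : HenselianLocalRing SY := hSY.henselian
  have hcompat : τ'.comp (ResidueField.map (algebraMap AZ SZ)) =
      ResidueField.map ((algebraMap AY SY).comp α) := by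
    refine RingHom.ext fun x => hτinj ?_
    obtain ⟨z, rfl⟩ := residue_surjective x
    change ResidueField.map φ (τ' (ResidueField.map (algebraMap AZ SZ) (residue AZ z))) = _
    rw [hτ', ResidueField.map_residue, ResidueField.map_residue, ResidueField.map_residue,
      ResidueField.map_residue]
    exact congrArg (residue T) (RingHom.congr_fun hχ z)
  obtain ⟨ψ, ⟨hψ1, hψ2⟩, -⟩ := hSZ.universal SY ((algebraMap AY SY).comp α) τ' hcompat
  refine ⟨ψ, isLocalHom_of_residue ψ τ' hψ2, hψ1, ?_⟩
  -- uniqueness
  have hρ : (ResidueField.map χ).comp (ResidueField.map (algebraMap AZ SZ)) =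
      ResidueField.map (χ.comp (algebraMap AZ SZ)) := (ResidueField.map_comp _ _).symm
  obtain ⟨g, -, hg⟩ := hSZ.universal T (χ.comp (algebraMap AZ SZ)) (ResidueField.map χ) hρ
  have e1 : φ.comp ψ = g := by
    refine hg _ ⟨?_, fun x => ?_⟩
    · rw [RingHom.comp_assoc, hψ1, ← RingHom.comp_assoc, ← hχ]
    · change residue T (φ (ψ x)) = _
      rw [← ResidueField.map_residue, hψ2, hτ']
  have e2 : χ = g := by
    refine hg _ ⟨rfl, fun x => ?_⟩
    rw [ResidueField.map_residue]
  exact e1.trans e2.symm

end Factor

end H9FE.SHLift
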