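import Mathlib
import Groth.Prelude.Def_Hensel
import Groth.Agent.Lib.Helper7.SHens.Abstract

/-! helper9: strict henselizations of separably closed fields: a local ring `K` with zero maximal
ideal and separably closed residue field maps bijectively to each of its strict henselizations
(`bijective_algebraMap_of_field`); the local rings of the spectrum of a separably closed field
are of this kind (`stalk_maximalIdeal`, `stalk_isSepClosed`, `toStalk_bijective`). -/

set_option autoImplicit false
set_option linter.unusedSectionVars false
set_option linter.style.haveILetI false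
universe u
open IsLocalRing AlgebraicGeometry

namespace H9FE.SepField
open Groth.Agent.Helper7.SHens Polynomial

theorem isSepClosed_of_bijective {k L : Type*} [Field k] [Field L] [IsSepClosed k] (ρ : k →+* L)
    (hρ : Function.Bijective ρ) : IsSepClosed L := by
  let e : k ≃+* L := RingEquiv.ofBijective ρ hρ
  refine IsSepClosed.of_exists_root L (fun p _ hirr hsep => ?_)
  let q : k[X] := p.map (e.symm : L →+* k)
  have hq : q.Separable := hsep.map
  have hdeg : q.degree ≠ 0 := by
    rw [Polynomial.degree_map]
    exact (Polynomial.degree_pos_of_irreducible hirr).ne'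
  obtain ⟨x, hx⟩ := IsSepClosed.exists_root q hdeg hq
  refine ⟨e x, ?_⟩
  have hp : p = q.map (e : k →+* L) := by
    rw [Polynomial.map_map]
    have : (e : k →+* L).comp (e.symm : L →+* k) = RingHom.id L := by
      ext y; exact e.apply_symm_apply y
    rw [this, Polynomial.map_id]
  rw [hp, Polynomial.eval_map]
  show eval₂ (e : k →+* L) ((e : k →+* L) x) q = 0
  rw [Polynomial.eval₂_at_apply]
  have : q.eval x = 0 := hx
  rw [this, map_zero]

theorem bijective_algebraMap_of_field (K : Type u) [CommRing K] [IsLocalRing K]
    (hK : maximalIdeal K = ⊥) [IsSepClosed (ResidueField K)]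
    (RS : Type u) [CommRing RS] [IsLocalRing RS] [Algebra K RS] [IsLocalHom (algebraMap K RS)]
    [hS : Hensel.IsStrictHenselization K RS] :
    Function.Bijective (algebraMap K RS) := by
  have hm : maximalIdeal RS = ⊥ := by
    rw [← map_maximalIdeal_of_isStrictHenselization K RS, hK, Ideal.map_bot]
  haveI := hS.isSepClosure
  haveI : Algebra.IsSeparable (ResidueField K) (ResidueField RS) := IsSepClosure.separable
  have hsurj := IsSepClosed.algebraMap_surjective (ResidueField K) (ResidueField RS)
  constructor
  · intro a b hab
    have h0 : algebraMap K RS (a - b) = 0 := by rw [map_sub, hab, sub_self]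
    have hnu : ¬ IsUnit (a - b) := fun hu => by
      have := hu.map (algebraMap K RS)
      rw [h0] at this
      exact not_isUnit_zero this
    have hmem : a - b ∈ maximalIdeal K := (mem_maximalIdeal _).2 hnu
    rw [hK] at hmem
    exact sub_eq_zero.1 hmem
  · intro r
    obtain ⟨c, hc⟩ := hsurj (residue RS r)
    obtain ⟨a, rfl⟩ := residue_surjective c
    refine ⟨a, ?_⟩
    have h1 : residue RS (algebraMap K RS a) = residue RS r := hc
    have h2 : algebraMap K RS a - r ∈ maximalIdeal RS := by
      rw [← residue_eq_zero_iff, map_sub, h1, sub_self]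
    rw [hm] at h2
    exact sub_eq_zero.1 h2

section Stalk

theorem maximalIdeal_eq_bot_of_surjective {k K : Type*} [Field k] [CommRing K] [IsLocalRing K]
    (ρ : k →+* K) (hρ : Function.Surjective ρ) : maximalIdeal K = ⊥ := by
  rw [eq_bot_iff]
  intro a ha
  obtain ⟨b, rfl⟩ := hρ a
  by_contra hne
  have hb : b ≠ 0 := fun h => hne (by rw [h, map_zero]; exact Submodule.zero_mem _)
  exact ((mem_maximalIdeal _).1 ha) ((isUnit_iff_ne_zero.2 hb).map ρ)

theorem isSepClosed_residueField_of_surjective {k K : Type*} [Field k] [IsSepClosed k]
    [CommRing K] [IsLocalRing K] (ρ : k →+* K) (hρ : Function.Surjective ρ) :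
    IsSepClosed (ResidueField K) :=
  isSepClosed_of_bijective ((residue K).comp ρ)
    ⟨RingHom.injective _, (residue_surjective).comp hρ⟩

variable (k : Type u) [Field k] (s : PrimeSpectrum k)

theorem toStalk_bijective :
    Function.Bijective (StructureSheaf.toStalk k s).hom := by
  have := StructureSheaf.IsLocalization.to_stalk k s
  have H : s.asIdeal.primeCompl ≤ IsUnit.submonoid k := by
    intro y hy
    have hy0 : y ≠ 0 := fun h0 => hy (by rw [h0]; exact s.asIdeal.zero_mem)
    exact isUnit_iff_ne_zero.2 hy0
  exact (IsLocalization.atUnits k s.asIdeal.primeCompl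
    (S := (Spec.structureSheaf k).presheaf.stalk s) H).bijective

/-- a strict henselization of the local ring of the spectrum of a separably closed field is
isomorphic to the field -/
theorem exists_bijective_of_spec [IsSepClosed k] (s : ↥(Spec (CommRingCat.of k)))
    (RS : Type u) [CommRing RS] [IsLocalRing RS]
    [Algebra ((Spec (CommRingCat.of k)).presheaf.stalk s) RS]
    [IsLocalHom (algebraMap ((Spec (CommRingCat.of k)).presheaf.stalk s) RS)]
    [Hensel.IsStrictHenselization ((Spec (CommRingCat.of k)).presheaf.stalk s) RS] :
    ∃ θ : k →+* RS, Function.Bijective θ := by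
  let s' : PrimeSpectrum k := s
  let ρ : k →+* ((Spec (CommRingCat.of k)).presheaf.stalk s) := (StructureSheaf.toStalk k s').hom
  have hρ : Function.Bijective ρ := toStalk_bijective k s'
  have hK := maximalIdeal_eq_bot_of_surjective ρ hρ.2
  haveI := isSepClosed_residueField_of_surjective ρ hρ.2
  have hb := bijective_algebraMap_of_field ((Spec (CommRingCat.of k)).presheaf.stalk s) hK RS
  exact ⟨(algebraMap ((Spec (CommRingCat.of k)).presheaf.stalk s) RS).comp ρ, hb.comp hρ⟩

end Stalk

end H9FE.SepField
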