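import Mathlib

/-! helper9: sheaves of sets on a general site: sections of a sheafification, a criterion for the
restriction of a sheaf of sets to a slice site to be constant, and the restriction of a constant sheaf
of sets to a slice site. -/

universe w v₁ u₁
open CategoryTheory CategoryTheory.Limits Opposite

namespace H9FE
namespace SetConstCrit

set_option linter.style.haveILetI false
set_option linter.unusedSectionVars false

variable {C : Type u₁} [Category.{v₁} C] (J : GrothendieckTopology C)

section Gen

variable [HasSheafify J (Type w)] [J.WEqualsLocallyBijective (Type w)]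
variable (P : Cᵒᵖ ⥤ Type w)

/-- the sheafification of a presheaf of sets -/
noncomputable abbrev sh : Sheaf J (Type w) := (presheafToSheaf J (Type w)).obj P

/-- the section of the sheafification attached to a section of the presheaf -/
noncomputable abbrev ts (V : C) (a : P.obj (op V)) : (sh J P).obj.obj (op V) :=
  (toSheafify J P).app (op V) a

theorem ts_map {V W : C} (i : W ⟶ V) (a : P.obj (op V)) :
    (sh J P).obj.map i.op (ts J P V a) = ts J P W (P.map i.op a) := by
  have h := NatTrans.naturality_apply (toSheafify J P) i.op a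
  exact h.symm

theorem equalizerSieve_ts_mem (V : C) (a b : P.obj (op V)) (hab : ts J P V a = ts J P V b) :
    Presheaf.equalizerSieve (F := P) (X := op V) a b ∈ J V := by
  have hW := J.W_toSheafify P
  haveI := hW.isLocallyInjective
  exact Presheaf.equalizerSieve_mem J (toSheafify J P) (X := op V) a b hab

theorem imageSieve_ts_mem (V : C) (s : (sh J P).obj.obj (op V)) :
    Presheaf.imageSieve (toSheafify J P) s ∈ J V := by
  have hW := J.W_toSheafify P
  haveI := hW.isLocallySurjective
  exact Presheaf.imageSieve_mem J (toSheafify J P) s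

end Gen

theorem bot_mem_over_iff {P : C} (Y : Over P) :
    (⊥ : Sieve Y) ∈ (J.over P) Y ↔ (⊥ : Sieve Y.left) ∈ J Y.left := by
  rw [GrothendieckTopology.mem_over_iff, OrderIso.map_bot]

section Crit

variable [∀ P : C, HasSheafify (J.over P) (Type w)]
  [∀ P : C, (J.over P).WEqualsLocallyBijective (Type w)]
variable (E : Sheaf J (Type w)) (W : C) {M : Type w} (γ : M → E.obj.obj (op W))

/-- the presheaf map from the constant presheaf on `Over W` to the restriction of `E` given
by a family of sections over `W` -/
noncomputable def rho :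
    ((Functor.const (Over W)ᵒᵖ).obj M : (Over W)ᵒᵖ ⥤ Type w) ⟶ (E.over W).obj where
  app Z := TypeCat.ofHom (fun m => E.obj.map Z.unop.hom.op (γ m))
  naturality Z Z' k := by
    ext x
    have hw : k.unop.left ≫ Z.unop.hom = Z'.unop.hom := Over.w k.unop
    have h1 : E.obj.map Z'.unop.hom.op (γ x) =
        E.obj.map k.unop.left.op (E.obj.map Z.unop.hom.op (γ x)) := by
      rw [← hw, op_comp, Functor.map_comp]
      rfl
    exact h1

theorem rho_app (Z : Over W) (x : M) :
    (rho J E W γ).app (op Z) x = E.obj.map Z.hom.op (γ x) := rfl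

variable (hinj : ∀ (Z : C) (z : Z ⟶ W) (x y : M), E.obj.map z.op (γ x) = E.obj.map z.op (γ y) →
    x = y ∨ (⊥ : Sieve Z) ∈ J Z)
  (hsurj : ∀ (Z : C) (z : Z ⟶ W) (s : E.obj.obj (op Z)), ∃ S : Sieve Z, S ∈ J Z ∧
    ∀ {Z' : C} (k : Z' ⟶ Z), S k → ∃ x : M, E.obj.map k.op s = E.obj.map (k ≫ z).op (γ x))

include hinj in
theorem rho_locallyInjective : Presheaf.IsLocallyInjective (J.over W) (rho J E W γ) := by
  constructor
  intro Z a b hab
  rcases hinj Z.unop.left Z.unop.hom a b hab with h | h
  · subst h
    rw [Presheaf.equalizerSieve_self_eq_top]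
    exact (J.over W).top_mem _
  · have h2 : (⊥ : Sieve Z.unop) ∈ (J.over W) Z.unop := (bot_mem_over_iff J Z.unop).2 h
    refine (J.over W).superset_covering ?_ h2
    intro d' g hg
    exact hg.elim

include hsurj in
theorem rho_locallySurjective : Presheaf.IsLocallySurjective (J.over W) (rho J E W γ) := by
  constructor
  intro Z s
  obtain ⟨S, hS, hprop⟩ := hsurj Z.left Z.hom s
  rw [GrothendieckTopology.mem_over_iff]
  refine J.superset_covering ?_ hS
  intro Z' k hk
  rw [Sieve.overEquiv_iff]
  obtain ⟨x, hx⟩ := hprop k hk
  exact ⟨x, hx.symm⟩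

/-- the map from the constant sheaf -/
noncomputable def critHom : (constantSheaf (J.over W) (Type w)).obj M ⟶ E.over W :=
  ObjectProperty.homMk (sheafifyLift (J.over W) (rho J E W γ) (E.over W).2)

theorem toSheafify_critHom :
    toSheafify (J.over W) ((Functor.const (Over W)ᵒᵖ).obj M) ≫ (critHom J E W γ).hom =
      rho J E W γ :=
  toSheafify_sheafifyLift (J.over W) _ _

include hinj hsurj in
theorem isIso_critHom : IsIso (critHom J E W γ) := by
  rw [← (J.over W).W_sheafToPresheaf_map_iff_isIso]
  haveI := rho_locallyInjective J E W γ hinj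
  haveI := rho_locallySurjective J E W γ hsurj
  have hW : (J.over W).W (rho J E W γ) := (J.over W).W_of_isLocallyBijective _
  have h1 : (J.over W).W (toSheafify (J.over W) ((Functor.const (Over W)ᵒᵖ).obj M) ≫
      (critHom J E W γ).hom) := by
    rw [toSheafify_critHom]; exact hW
  exact ((J.over W).W).of_precomp _ _ ((J.over W).W_toSheafify _) h1

include hinj hsurj in
/-- criterion: a family of sections over `W` that locally generates and is locally faithful
trivializes the restriction of the sheaf to the slice site of `W` -/
theorem nonempty_iso_of_crit :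
    Nonempty (E.over W ≅ (constantSheaf (J.over W) (Type w)).obj M) := by
  haveI := isIso_critHom J E W γ hinj hsurj
  exact ⟨(asIso (critHom J E W γ)).symm⟩

end Crit

section ConstOver

variable [HasSheafify J (Type w)] [J.WEqualsLocallyBijective (Type w)]
  [∀ P : C, HasSheafify (J.over P) (Type w)]
  [∀ P : C, (J.over P).WEqualsLocallyBijective (Type w)]

/-- the restriction of a constant sheaf of sets to a slice site is the constant sheaf of the slice site -/
theorem constOver_iso (W : C) (M : Type w) :
    Nonempty (((constantSheaf J (Type w)).obj M).over W ≅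
      (constantSheaf (J.over W) (Type w)).obj M) := by
  let P : Cᵒᵖ ⥤ Type w := (Functor.const Cᵒᵖ).obj M
  refine nonempty_iso_of_crit J ((constantSheaf J (Type w)).obj M) W
    (fun m => ts J P W m) ?_ ?_
  · intro Z z x y hxy
    have h1 : ts J P Z x = ts J P Z y := by
      have e1 := ts_map J P z x
      have e2 := ts_map J P z y
      exact e1.symm.trans (hxy.trans e2)
    have hmem := equalizerSieve_ts_mem J P Z x y h1
    by_cases h : x = y
    · exact Or.inl h
    · right
      convert hmem using 1
      ext V f
      simp only [Sieve.bot_apply, false_iff]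
      intro hf
      exact h hf
  · intro Z z s
    refine ⟨Presheaf.imageSieve (toSheafify J P) s, imageSieve_ts_mem J P Z s, ?_⟩
    intro Z' k hk
    obtain ⟨x, hx⟩ := hk
    refine ⟨x, ?_⟩
    have e1 := ts_map J P (k ≫ z) x
    exact hx.symm.trans e1.symm

variable (E : Sheaf J (Type w)) (W : C) {M : Type w} (γ : M → E.obj.obj (op W))
  (hinj : ∀ (Z : C) (z : Z ⟶ W) (x y : M), E.obj.map z.op (γ x) = E.obj.map z.op (γ y) →
    x = y ∨ (⊥ : Sieve Z) ∈ J Z)
  (hsurj : ∀ (Z : C) (z : Z ⟶ W) (s : E.obj.obj (op Z)), ∃ S : Sieve Z, S ∈ J Z ∧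
    ∀ {Z' : C} (k : Z' ⟶ Z), S k → ∃ x : M, E.obj.map k.op s = E.obj.map (k ≫ z).op (γ x))

include hinj hsurj in
/-- criterion, in the form: the restriction of `E` to the slice site of `W` is isomorphic to the
restriction of a constant sheaf -/
theorem nonempty_iso_over_const :
    Nonempty (E.over W ≅ ((constantSheaf J (Type w)).obj M).over W) := by
  obtain ⟨e1⟩ := nonempty_iso_of_crit J E W γ hinj hsurj
  obtain ⟨e2⟩ := constOver_iso J W M
  exact ⟨e1 ≪≫ e2.symm⟩

end ConstOver

end SetConstCrit
end H9FE
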