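import Mathlib
import Groth.Prelude.Def_EtBase
import Groth.Prelude.Def_SGA4b
import Groth.Prelude.Def_EtBCD
import Groth.Agent.Lib.Helper5.RDerPaste.Coh
import Groth.Agent.Lib.Helper5.RDerPaste.Transpose
import Groth.Agent.Lib.Helper9.FE.BcQPaste

/-! helper9: vertical pasting of the degree zero base change maps of sheaves of SETS
(`EtBC.baseChange0Sh`): composition and cancellation. -/

set_option autoImplicit false
universe u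
open CategoryTheory CategoryTheory.Limits AlgebraicGeometry Opposite

namespace H9FE.ShBCPaste
open Groth.Agent.Lib.Helper5.RDerPaste EtDesc

section Abs

variable {𝒯 : Type*} [Category 𝒯] {𝒮 : Type*} [Category 𝒮] {𝒴 : Type*} [Category 𝒴]
  {𝒳 : Type*} [Category 𝒳] {𝒵 : Type*} [Category 𝒵] {𝒲 : Type*} [Category 𝒲]
  (Gs : 𝒯 ⥤ 𝒮) (Fs : 𝒳 ⥤ 𝒮) (Hs : 𝒴 ⥤ 𝒳) (Es : 𝒴 ⥤ 𝒯) (Is : 𝒲 ⥤ 𝒳) (Js : 𝒵 ⥤ 𝒲)
  (Ks : 𝒵 ⥤ 𝒴) (KEs : 𝒵 ⥤ 𝒯) (IFs : 𝒲 ⥤ 𝒮)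
  {Le : 𝒯 ⥤ 𝒴} {Lk : 𝒴 ⥤ 𝒵} {Lke : 𝒯 ⥤ 𝒵} (adjE : Le ⊣ Es) (adjK : Lk ⊣ Ks) (adjKE : Lke ⊣ KEs)
  (α₁ : Es ⋙ Gs ≅ Hs ⋙ Fs) (α₂ : Ks ⋙ Hs ≅ Js ⋙ Is) (α₃ : KEs ⋙ Gs ≅ Js ⋙ IFs)
  (β : Ks ⋙ Es ≅ KEs) (γ : Is ⋙ Fs ≅ IFs)

include adjE adjK adjKE in
/-- vertical pasting of degree zero base change maps in adjoint form -/
theorem paste0 (F : 𝒯) (κF : Lke.obj F ⟶ Lk.obj (Le.obj F))
    (hC1 : adjKE.unit.app F ≫ KEs.map κF =
      adjE.unit.app F ≫ Es.map (adjK.unit.app (Le.obj F)) ≫ β.hom.app (Lk.obj (Le.obj F)))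
    (hC2 : ∀ Z : 𝒵, Gs.map (β.hom.app Z) ≫ α₃.hom.app Z ≫ γ.inv.app (Js.obj Z) =
      α₁.hom.app (Ks.obj Z) ≫ Fs.map (α₂.hom.app Z)) :
    (Gs.map (adjKE.unit.app F) ≫ α₃.hom.app (Lke.obj F)) ≫ IFs.map (Js.map κF) ≫
        γ.inv.app (Js.obj (Lk.obj (Le.obj F))) =
      (Gs.map (adjE.unit.app F) ≫ α₁.hom.app (Le.obj F)) ≫
        Fs.map (Hs.map (adjK.unit.app (Le.obj F)) ≫ α₂.hom.app (Lk.obj (Le.obj F))) := by
  have n3 : α₃.hom.app (Lke.obj F) ≫ IFs.map (Js.map κF) =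
      Gs.map (KEs.map κF) ≫ α₃.hom.app (Lk.obj (Le.obj F)) := (α₃.hom.naturality κF).symm
  have n1 : α₁.hom.app (Le.obj F) ≫ Fs.map (Hs.map (adjK.unit.app (Le.obj F))) =
      Gs.map (Es.map (adjK.unit.app (Le.obj F))) ≫ α₁.hom.app (Ks.obj (Lk.obj (Le.obj F))) :=
    (α₁.hom.naturality (adjK.unit.app (Le.obj F))).symm
  rw [Category.assoc, reassoc_of% n3, ← Gs.map_comp_assoc, hC1, Gs.map_comp, Gs.map_comp,
    Category.assoc, Category.assoc, hC2, Fs.map_comp, Category.assoc, reassoc_of% n1]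

end Abs


section Coh

open EtCoh

lemma c2Sh_aux {X S Y T W Z : Scheme.{u}} (f : X ⟶ S) (g : T ⟶ S) (h : Y ⟶ X) (e : Y ⟶ T)
    (w : e ≫ g = h ≫ f) (i : W ⟶ X) (j : Z ⟶ W) (k : Z ⟶ Y) (w' : k ≫ h = j ≫ i)
    (w'' : (k ≫ e) ≫ g = j ≫ (i ≫ f)) (M : EtDesc.Sh Z) (V : S.Etale) :
    M.obj.map (pcHom k e ((bc g).obj V)).op ≫ M.obj.map (pcHom (k ≫ e) g V).op ≫
      M.obj.map (pgInv w'' V).op ≫ M.obj.map (pcInv j (i ≫ f) V).op ≫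
        M.obj.map ((bc j).map (pcInv i f V)).op =
    M.obj.map ((bc k).map (pcHom e g V)).op ≫ M.obj.map ((bc k).map (pgInv w V)).op ≫
      M.obj.map ((bc k).map (pcInv h f V)).op ≫ M.obj.map (pcHom k h ((bc f).obj V)).op ≫
        M.obj.map (pgInv w' ((bc f).obj V)).op ≫ M.obj.map (pcInv j i ((bc f).obj V)).op := by
  simp only [← Functor.map_comp, ← op_comp]
  congr 2
  apply etale_hom_ext3 g e k V
  simp only [etale_comp_left, Category.assoc, pcHom_pr, pcHom_pr_assoc,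
    pcInv_pr, pcInv_pr_assoc, pgInv_pr, pgInv_pr_assoc, bc_map_left_pr, bc_map_left_pr_assoc]

theorem c2Sh {X S Y T W Z : Scheme.{u}} (f : X ⟶ S) (g : T ⟶ S) (h : Y ⟶ X) (e : Y ⟶ T)
    (w : e ≫ g = h ≫ f) (i : W ⟶ X) (j : Z ⟶ W) (k : Z ⟶ Y) (w' : k ≫ h = j ≫ i)
    (w'' : (k ≫ e) ≫ g = j ≫ (i ≫ f)) (M : EtDesc.Sh Z) :
    (pushSh g).map ((pushCompSh e k).hom.app M) ≫
      (pushCompSh g (k ≫ e) ≪≫ EtBC.pushCongrSh w'' ≪≫ (pushCompSh (i ≫ f) j).symm).hom.app M ≫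
        (pushCompSh f i).inv.app ((pushSh j).obj M) =
    (pushCompSh g e ≪≫ EtBC.pushCongrSh w ≪≫ (pushCompSh f h).symm).hom.app ((pushSh k).obj M) ≫
      (pushSh f).map
        ((pushCompSh h k ≪≫ EtBC.pushCongrSh w' ≪≫ (pushCompSh i j).symm).hom.app M) := by
  apply Sheaf.hom_ext
  apply NatTrans.ext
  funext U
  exact c2Sh_aux f g h e w i j k w' w'' M (unop U)

end Coh


section Concrete

/-- the adjoint form of the base change map of sheaves of sets -/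
noncomputable def bc0Adj {X S X' S' : Scheme.{u}} (f : X ⟶ S) (g : S' ⟶ S) (f' : X' ⟶ S')
    (g' : X' ⟶ X) (w : g' ≫ f = f' ≫ g) (F : EtDesc.Sh X) :
    (pushSh f).obj F ⟶ (pushSh g).obj ((pushSh f').obj ((pullSh g').obj F)) :=
  (pushSh f).map ((adjSh g').unit.app F) ≫
    (pushCompSh f g' ≪≫ EtBC.pushCongrSh w ≪≫ (pushCompSh g f').symm).hom.app ((pullSh g').obj F)

lemma baseChange0Sh_eq {X S X' S' : Scheme.{u}} (f : X ⟶ S) (g : S' ⟶ S) (f' : X' ⟶ S')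
    (g' : X' ⟶ X) (w : g' ≫ f = f' ≫ g) (F : EtDesc.Sh X) :
    EtBC.baseChange0Sh f g f' g' w F = ((adjSh g).homEquiv _ _).symm (bc0Adj f g f' g' w F) :=
  rfl

variable {X S Y T W Z : Scheme.{u}} (f : X ⟶ S) (g : T ⟶ S) (h : Y ⟶ X)
    (e : Y ⟶ T) (w : e ≫ g = h ≫ f) (i : W ⟶ X) (j : Z ⟶ W) (k : Z ⟶ Y) (w' : k ≫ h = j ≫ i)
    (w'' : (k ≫ e) ≫ g = j ≫ (i ≫ f)) (F : EtDesc.Sh T)

/-- `(k ≫ e)⁻¹ F ⟶ k⁻¹ e⁻¹ F` -/
noncomputable def kap : (pullSh (k ≫ e)).obj F ⟶ (pullSh k).obj ((pullSh e).obj F) :=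
  ((adjSh (k ≫ e)).leftAdjointUniq
    (((adjSh e).comp (adjSh k)).ofNatIsoRight (pushCompSh e k))).hom.app F

instance : IsIso (kap e k F) := by
  unfold kap
  infer_instance

lemma paste_sh :
    bc0Adj g (i ≫ f) j (k ≫ e) w'' F ≫ (pushSh (i ≫ f)).map ((pushSh j).map (kap e k F)) ≫
        (pushCompSh f i).inv.app ((pushSh j).obj ((pullSh k).obj ((pullSh e).obj F))) =
      bc0Adj g f h e w F ≫ (pushSh f).map (bc0Adj h i j k w' ((pullSh e).obj F)) := by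
  let adj' : pullSh e ⋙ pullSh k ⊣ pushSh (k ≫ e) :=
    ((adjSh e).comp (adjSh k)).ofNatIsoRight (pushCompSh e k)
  have hC1 : (adjSh (k ≫ e)).unit.app F ≫ (pushSh (k ≫ e)).map (kap e k F) =
      (adjSh e).unit.app F ≫ (pushSh e).map ((adjSh k).unit.app ((pullSh e).obj F)) ≫
        (pushCompSh e k).hom.app ((pullSh k).obj ((pullSh e).obj F)) := by
    have := Adjunction.unit_leftAdjointUniq_hom_app (adjSh (k ≫ e)) adj' F
    refine this.trans ?_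
    simp [adj']
  exact paste0 (pushSh g) (pushSh f) (pushSh h) (pushSh e) (pushSh i) (pushSh j) (pushSh k)
    (pushSh (k ≫ e)) (pushSh (i ≫ f)) (adjSh e) (adjSh k) (adjSh (k ≫ e))
    (pushCompSh g e ≪≫ EtBC.pushCongrSh w ≪≫ (pushCompSh f h).symm)
    (pushCompSh h k ≪≫ EtBC.pushCongrSh w' ≪≫ (pushCompSh i j).symm)
    (pushCompSh g (k ≫ e) ≪≫ EtBC.pushCongrSh w'' ≪≫ (pushCompSh (i ≫ f) j).symm)
    (pushCompSh e k) (pushCompSh f i) F (kap e k F) hC1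
    (fun M => c2Sh f g h e w i j k w' w'' M)

/-- vertical composition of base change isomorphisms (sheaves of sets) -/
theorem baseChange0Sh_isIso_vcomp
    (h1 : IsIso (EtBC.baseChange0Sh g f h e w F))
    (h2 : IsIso (EtBC.baseChange0Sh h i j k w' ((pullSh e).obj F))) :
    IsIso (EtBC.baseChange0Sh g (i ≫ f) j (k ≫ e) w'' F) :=
  isIso_of_paste (adjSh f) (adjSh i) (adjSh (i ≫ f)) (pushCompSh f i)
    (bc0Adj g f h e w F) (bc0Adj h i j k w' ((pullSh e).obj F))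
    (bc0Adj g (i ≫ f) j (k ≫ e) w'' F) ((pushSh j).map (kap e k F))
    (paste_sh f g h e w i j k w' w'' F) h1 h2

/-- cancellation in a vertical pasting (sheaves of sets) -/
theorem baseChange0Sh_vcomp_cancel
    (h3 : IsIso (EtBC.baseChange0Sh g (i ≫ f) j (k ≫ e) w'' F))
    (h2 : IsIso (EtBC.baseChange0Sh h i j k w' ((pullSh e).obj F))) :
    IsIso ((pullSh i).map (EtBC.baseChange0Sh g f h e w F)) :=
  H9FE.BcQPaste.isIso_map_of_paste (adjSh f) (adjSh i) (adjSh (i ≫ f)) (pushCompSh f i)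
    (bc0Adj g f h e w F) (bc0Adj h i j k w' ((pullSh e).obj F))
    (bc0Adj g (i ≫ f) j (k ≫ e) w'' F) ((pushSh j).map (kap e k F))
    (paste_sh f g h e w i j k w' w'' F) h3 h2

/-- the base change map only depends on the morphisms -/
lemma baseChange0Sh_isIso_congr {X S X' S' : Scheme.{u}} (f : X ⟶ S) (g₁ g₂ : S' ⟶ S)
    (f' : X' ⟶ S') (g'₁ g'₂ : X' ⟶ X) (hg : g₁ = g₂) (hg' : g'₁ = g'₂)
    (w₁ : g'₁ ≫ f = f' ≫ g₁) (w₂ : g'₂ ≫ f = f' ≫ g₂) (F : EtDesc.Sh X)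
    (h : IsIso (EtBC.baseChange0Sh f g₁ f' g'₁ w₁ F)) :
    IsIso (EtBC.baseChange0Sh f g₂ f' g'₂ w₂ F) := by
  subst hg hg'
  exact h

end Concrete

end H9FE.ShBCPaste
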