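import Mathlib
import Groth.Prelude.Def_EtBase
import Groth.Prelude.Def_SGA4b
import Groth.Agent.Lib.Helper9.FE.StalkPullGerm
import Groth.Agent.Lib.Helper9.FE.LimLoc

/-! helper9: local structure of sections of an inverse image `f⁻¹ G` of an étale sheaf of sets
(versions for sheaves of sets of `StalkPullGerm.stalkPullIso_inv_germ`, `LimLoc.exists_local_unit`
and `LimLoc.exists_local_vanish`). -/

set_option autoImplicit false
set_option linter.unusedSectionVars false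
set_option linter.style.haveILetI false
set_option backward.isDefEq.respectTransparency false
universe u
open CategoryTheory CategoryTheory.Limits AlgebraicGeometry Opposite

namespace H9FE.ShLoc
open Groth.Agent.Lib.Helper5 Groth.Agent.S0072.Aux H9FE.StalkPullGerm

section Germ

variable {X Y : Scheme.{u}} (f : X ⟶ Y) {Ω : Type u} [Field Ω] [IsSepClosed Ω]
  (ξ : Spec (CommRingCat.of Ω) ⟶ X)

/-- the inverse of `stalkPullShIso` on germs -/
lemma stalkPullShIso_inv_germ (G : EtDesc.Sh Y) (V : Y.Etale)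
    (v : (Scheme.pointSmallEtale (ξ ≫ f)).fiber.obj V) :
    (Scheme.pointSmallEtale (ξ ≫ f)).toPresheafFiber V v G.obj ≫
      (EtStalkPull.stalkPullShIso f ξ).inv.app G =
      ((EtDesc.adjSh f).unit.app G).hom.app (op V) ≫
        (Scheme.pointSmallEtale ξ).toPresheafFiber ((EtCoh.bc f).obj V)
          (liftPt f (ξ ≫ f) ξ rfl V v) ((EtDesc.pullSh f).obj G).obj := by
  have h1 : (EtStalkPull.stalkPullShIso f ξ).inv.app G =
      (EtStalkPull.sheafFiberIsoOfIso (EtStalkPull.pointIso f ξ)).inv.app G ≫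
        (GrothendieckTopology.Point.sheafFiberComapIso (Scheme.pointSmallEtale ξ) (EtCoh.bc f)
          (EtCoh.coverPreserving_bc f) (Type (u + 1))).hom.app G := rfl
  have h2 : (Scheme.pointSmallEtale (ξ ≫ f)).toPresheafFiber V v G.obj ≫
      (EtStalkPull.sheafFiberIsoOfIso (A := Type (u + 1))
        (EtStalkPull.pointIso f ξ)).inv.app G =
      (EtStalkPull.comapPoint f ξ).toPresheafFiber V ((EtStalkPull.fiberIso f ξ).inv.app V v)
        G.obj := by
    simp [EtStalkPull.sheafFiberIsoOfIso, EtStalkPull.pointIso]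
    rfl
  rw [h1, ← Category.assoc, h2, fiberIso_inv]
  exact StalkComapGerm.key (Scheme.pointSmallEtale ξ) (EtCoh.bc f) (EtCoh.coverPreserving_bc f)
    (Type (u + 1)) G V (liftPt f (ξ ≫ f) ξ rfl V v)

end Germ


section Loc

variable {X Y : Scheme.{u}} (f : X ⟶ Y) (G : EtDesc.Sh Y)

/-- the unit of `f⁻¹ ⊣ f_*` on sections over `V` (sheaves of sets) -/
noncomputable abbrev uS (V : Y.Etale) :
    G.obj.obj (op V) → ((EtDesc.pullSh f).obj G).obj.obj (op ((EtCoh.bc f).obj V)) :=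
  ((EtDesc.adjSh f).unit.app G).hom.app (op V)

theorem uS_map {V₁ V₂ : Y.Etale} (a : V₁ ⟶ V₂) (t : G.obj.obj (op V₂)) :
    uS f G V₁ (G.obj.map a.op t) =
      ((EtDesc.pullSh f).obj G).obj.map ((EtCoh.bc f).map a).op (uS f G V₂ t) :=
  types_congr_hom (((EtDesc.adjSh f).unit.app G).hom.naturality a.op) t

/-- sections of a pulled back sheaf are locally restrictions of images of sections under the unit -/
theorem exists_local_unit (T : X.Etale) (t : ((EtDesc.pullSh f).obj G).obj.obj (op T))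
    (x : T.left) :
    ∃ (T' : X.Etale) (g : T' ⟶ T) (x' : T'.left), g.left x' = x ∧
      ∃ (V : Y.Etale) (φ : T' ⟶ (EtCoh.bc f).obj V) (s : G.obj.obj (op V)),
        ((EtDesc.pullSh f).obj G).obj.map g.op t =
          ((EtDesc.pullSh f).obj G).obj.map φ.op (uS f G V s) := by
  obtain ⟨Ω, _, _, ξ, y, hy⟩ := H9FE.LimLoc.exists_geom_pt T x
  let Φ := Scheme.pointSmallEtale ξ
  let Φ' := Scheme.pointSmallEtale (ξ ≫ f)
  let P := ((EtDesc.pullSh f).obj G).obj
  let γ := Φ.toPresheafFiber T y P t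
  obtain ⟨V, v, s, hs⟩ := Φ'.toPresheafFiber_jointly_surjective (P := G.obj)
    ((EtStalkPull.stalkPullShIso f ξ).hom.app G γ)
  have h1 : γ = Φ.toPresheafFiber ((EtCoh.bc f).obj V) (liftPt f (ξ ≫ f) ξ rfl V v) P
      (uS f G V s) := by
    have e1 := types_congr_hom (stalkPullShIso_inv_germ f ξ G V v) s
    have e3 : (EtStalkPull.stalkPullShIso f ξ).inv.app G
        ((EtStalkPull.stalkPullShIso f ξ).hom.app G γ) = γ :=
      types_congr_hom ((EtStalkPull.stalkPullShIso f ξ).hom_inv_id_app G) γ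
    rw [← hs] at e3
    exact e3.symm.trans e1
  let a : Φ.fiber.Elements := ⟨T, y⟩
  let b : Φ.fiber.Elements := ⟨(EtCoh.bc f).obj V, liftPt f (ξ ≫ f) ξ rfl V v⟩
  let m := IsCofiltered.min a b
  let g₁ : m ⟶ a := IsCofiltered.minToLeft a b
  let g₂ : m ⟶ b := IsCofiltered.minToRight a b
  have e3 : Φ.toPresheafFiber m.1 m.2 P (P.map g₁.1.op t) = γ := by
    have := types_congr_hom (Φ.toPresheafFiber_w g₁.1 m.2 P) t
    refine this.trans ?_
    have h2 : Φ.fiber.map g₁.1 m.2 = y := g₁.2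
    rw [h2]
  have e4 : Φ.toPresheafFiber m.1 m.2 P (P.map g₂.1.op (uS f G V s)) = γ := by
    have := types_congr_hom (Φ.toPresheafFiber_w g₂.1 m.2 P) (uS f G V s)
    refine this.trans ?_
    rw [h1]
    have h2 : Φ.fiber.map g₂.1 m.2 = liftPt f (ξ ≫ f) ξ rfl V v := g₂.2
    rw [h2]
  have e5 := e3.trans e4.symm
  rw [Φ.toPresheafFiber_eq_iff'] at e5
  obtain ⟨T', k, y', hk, hres⟩ := e5
  refine ⟨T', k ≫ g₁.1, y'.left (default : Spec (CommRingCat.of Ω)), ?_, V, k ≫ g₂.1, s, ?_⟩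
  · have hyy : y = Φ.fiber.map g₁.1 (Φ.fiber.map k y') := by
      rw [hk]
      exact g₁.2.symm
    have hl : y.left = y'.left ≫ (k ≫ g₁.1).left := by
      rw [hyy]
      rfl
    rw [← hy, hl]
    rfl
  · have e6 : P.map (k ≫ g₁.1).op t = P.map k.op (P.map g₁.1.op t) := by
      rw [op_comp, Functor.map_comp]; rfl
    have e7 : P.map (k ≫ g₂.1).op (uS f G V s) = P.map k.op (P.map g₂.1.op (uS f G V s)) := by
      rw [op_comp, Functor.map_comp]; rfl
    exact e6.trans (hres.trans e7.symm)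

/-- if restrictions of images of two sections under the unit agree, then locally the sections
themselves agree -/
theorem exists_local_eq (V₁ V₂ : Y.Etale) (s₁ : G.obj.obj (op V₁)) (s₂ : G.obj.obj (op V₂))
    (T : X.Etale) (φ₁ : T ⟶ (EtCoh.bc f).obj V₁) (φ₂ : T ⟶ (EtCoh.bc f).obj V₂)
    (h0 : ((EtDesc.pullSh f).obj G).obj.map φ₁.op (uS f G V₁ s₁) =
      ((EtDesc.pullSh f).obj G).obj.map φ₂.op (uS f G V₂ s₂)) (x : T.left) :
    ∃ (V' : Y.Etale) (h₁ : V' ⟶ V₁) (h₂ : V' ⟶ V₂) (z : ((EtCoh.bc f).obj V').left),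
      G.obj.map h₁.op s₁ = G.obj.map h₂.op s₂ ∧
      ((EtCoh.bc f).map h₁).left z = φ₁.left x ∧ ((EtCoh.bc f).map h₂).left z = φ₂.left x := by
  obtain ⟨Ω, _, _, ξ, y, hy⟩ := H9FE.LimLoc.exists_geom_pt T x
  let Φ := Scheme.pointSmallEtale ξ
  let Φ' := Scheme.pointSmallEtale (ξ ≫ f)
  let P := ((EtDesc.pullSh f).obj G).obj
  -- the two points
  have key : ∀ (V : Y.Etale) (φ : T ⟶ (EtCoh.bc f).obj V) (s : G.obj.obj (op V)),
      ∃ v : Φ'.fiber.obj V, liftPt f (ξ ≫ f) ξ rfl V v = Φ.fiber.map φ y ∧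
        (EtStalkPull.stalkPullShIso f ξ).inv.app G (Φ'.toPresheafFiber V v G.obj s) =
          Φ.toPresheafFiber T y P (P.map φ.op (uS f G V s)) := by
    intro V φ s
    refine ⟨(EtStalkPull.fiberIso f ξ).hom.app V (Φ.fiber.map φ y), ?_, ?_⟩
    · rw [← fiberIso_inv]
      exact types_congr_hom ((EtStalkPull.fiberIso f ξ).hom_inv_id_app V) _
    · have hv : liftPt f (ξ ≫ f) ξ rfl V
          ((EtStalkPull.fiberIso f ξ).hom.app V (Φ.fiber.map φ y)) = Φ.fiber.map φ y := by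
        rw [← fiberIso_inv]
        exact types_congr_hom ((EtStalkPull.fiberIso f ξ).hom_inv_id_app V) _
      have e1 := types_congr_hom (stalkPullShIso_inv_germ f ξ G V
        ((EtStalkPull.fiberIso f ξ).hom.app V (Φ.fiber.map φ y))) s
      have e2 := types_congr_hom (Φ.toPresheafFiber_w φ y P) (uS f G V s)
      refine e1.trans ?_
      refine Eq.trans ?_ e2.symm
      show Φ.toPresheafFiber _ _ P (uS f G V s) = Φ.toPresheafFiber _ _ P (uS f G V s)
      rw [hv]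
  obtain ⟨v₁, hv₁, hg₁⟩ := key V₁ φ₁ s₁
  obtain ⟨v₂, hv₂, hg₂⟩ := key V₂ φ₂ s₂
  have hgerm : Φ'.toPresheafFiber V₁ v₁ G.obj s₁ = Φ'.toPresheafFiber V₂ v₂ G.obj s₂ := by
    have hinj : Function.Injective ((EtStalkPull.stalkPullShIso f ξ).inv.app G) := by
      intro a b hab
      have ea := types_congr_hom ((EtStalkPull.stalkPullShIso f ξ).inv_hom_id_app G) a
      have eb := types_congr_hom ((EtStalkPull.stalkPullShIso f ξ).inv_hom_id_app G) b
      exact ea.symm.trans ((congrArg ((EtStalkPull.stalkPullShIso f ξ).hom.app G) hab).trans eb)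
    apply hinj
    rw [hg₁, hg₂, h0]
  let a : Φ'.fiber.Elements := ⟨V₁, v₁⟩
  let b : Φ'.fiber.Elements := ⟨V₂, v₂⟩
  let m := IsCofiltered.min a b
  let g₁ : m ⟶ a := IsCofiltered.minToLeft a b
  let g₂ : m ⟶ b := IsCofiltered.minToRight a b
  have e3 : Φ'.toPresheafFiber m.1 m.2 G.obj (G.obj.map g₁.1.op s₁) =
      Φ'.toPresheafFiber V₁ v₁ G.obj s₁ := by
    have := types_congr_hom (Φ'.toPresheafFiber_w g₁.1 m.2 G.obj) s₁
    refine this.trans ?_
    have h2 : Φ'.fiber.map g₁.1 m.2 = v₁ := g₁.2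
    rw [h2]
  have e4 : Φ'.toPresheafFiber m.1 m.2 G.obj (G.obj.map g₂.1.op s₂) =
      Φ'.toPresheafFiber V₂ v₂ G.obj s₂ := by
    have := types_congr_hom (Φ'.toPresheafFiber_w g₂.1 m.2 G.obj) s₂
    refine this.trans ?_
    have h2 : Φ'.fiber.map g₂.1 m.2 = v₂ := g₂.2
    rw [h2]
  have e5 := e3.trans (hgerm.trans e4.symm)
  rw [Φ'.toPresheafFiber_eq_iff'] at e5
  obtain ⟨V', k, v', hk, hres⟩ := e5
  have hpt : ∀ (V : Y.Etale) (φ : T ⟶ (EtCoh.bc f).obj V) (v : Φ'.fiber.obj V)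
      (hv : liftPt f (ξ ≫ f) ξ rfl V v = Φ.fiber.map φ y) (h : V' ⟶ V)
      (hh : Φ'.fiber.map h v' = v),
      ((EtCoh.bc f).map h).left
        ((liftPt f (ξ ≫ f) ξ rfl V' v').left (default : Spec (CommRingCat.of Ω))) = φ.left x := by
    intro V φ v hv h hh
    have e6 := liftPt_map f (ξ ≫ f) ξ rfl h v'
    rw [hh, hv] at e6
    have e7 : (liftPt f (ξ ≫ f) ξ rfl V' v').left ≫ ((EtCoh.bc f).map h).left =
        (Φ.fiber.map φ y).left := congrArg (fun w => w.left) e6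
    have e8 : (Φ.fiber.map φ y).left = y.left ≫ φ.left := rfl
    rw [← hy]
    exact congrArg (fun w : Spec (CommRingCat.of Ω) ⟶ ((EtCoh.bc f).obj V).left =>
      w (default : Spec (CommRingCat.of Ω))) (e7.trans e8)
  refine ⟨V', k ≫ g₁.1, k ≫ g₂.1,
    (liftPt f (ξ ≫ f) ξ rfl V' v').left (default : Spec (CommRingCat.of Ω)), ?_, ?_, ?_⟩
  · have e6 : G.obj.map (k ≫ g₁.1).op s₁ = G.obj.map k.op (G.obj.map g₁.1.op s₁) := by
      rw [op_comp, Functor.map_comp]; rfl
    have e7 : G.obj.map (k ≫ g₂.1).op s₂ = G.obj.map k.op (G.obj.map g₂.1.op s₂) := by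
      rw [op_comp, Functor.map_comp]; rfl
    exact e6.trans (hres.trans e7.symm)
  · refine hpt V₁ φ₁ v₁ hv₁ (k ≫ g₁.1) ?_
    show Φ'.fiber.map g₁.1 (Φ'.fiber.map k v') = v₁
    rw [hk]; exact g₁.2
  · refine hpt V₂ φ₂ v₂ hv₂ (k ≫ g₂.1) ?_
    show Φ'.fiber.map g₂.1 (Φ'.fiber.map k v') = v₂
    rw [hk]; exact g₂.2

end Loc

end H9FE.ShLoc
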