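import Mathlib
import Groth.Prelude.Def_EtBase
import Groth.Prelude.Def_SGA4b
import Groth.Prelude.Def_EtBCD
import Groth.Agent.Lib.Helper9.FE.ShLoc
import Groth.Agent.Lib.Helper9.FE.StalkPullGerm
import Groth.Agent.Lib.Helper9.FE.ShBCPaste
import Groth.Agent.Lib.Helper5.Misc.EtStalk
import Groth.Agent.Lib.Helper5.Misc.LanFlat

/-! helper9: bridge between étale sheaves of sets and abelian étale sheaves.
* `UU`: the underlying sheaf of sets; `rho`: the comparison `g⁻¹ (U A) ⟶ U (g⁻¹ A)`, an isomorphism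
  (`rho_isIso`, checked on geometric stalks);
* `bc_compat`: the base change map of sets at `U A` corresponds to `U` of the abelian base change map;
* `ZZ`, `eta`: the free abelian sheaf on a sheaf of sets, with monic unit;
* `pullSh_lex`: inverse image of sheaves of sets is left exact;
* `main`: if the abelian degree zero base change map of a square is invertible for every abelian sheaf,
  then the base change map of sheaves of sets is invertible for every sheaf of sets (every sheaf of sets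
  is an equalizer of a pair of maps between underlying sheaves of abelian sheaves). -/

set_option autoImplicit false
set_option linter.unusedSectionVars false
set_option linter.style.haveILetI false
universe u
open CategoryTheory CategoryTheory.Limits AlgebraicGeometry Opposite

namespace H9FE.ShAbBridge

section Cat


variable {C : Type*} [Category C] {D : Type*} [Category D]

/-- a fork which is a limit stays a limit after composing the parallel pair with a mono -/
noncomputable def isLimitForkCompMono {F A B B' : C} (η : F ⟶ A) (l r : A ⟶ B) (w : η ≫ l = η ≫ r)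
    (hl : IsLimit (Fork.ofι η w)) (m : B ⟶ B') [Mono m]
    (w' : η ≫ (l ≫ m) = η ≫ (r ≫ m)) : IsLimit (Fork.ofι η w') :=
  Fork.IsLimit.mk' _ (fun s => by
    have hs : s.ι ≫ l = s.ι ≫ r := by
      have := s.condition
      rw [← cancel_mono m]
      simpa [Category.assoc] using this
    refine ⟨Fork.IsLimit.lift hl s.ι hs, Fork.IsLimit.lift_ι' hl s.ι hs, ?_⟩
    intro k hk
    apply Fork.IsLimit.hom_ext hl
    rw [Fork.IsLimit.lift_ι' hl]
    exact hk)

/-- a natural transformation which is invertible on the two ends of an equalizer diagram preserved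
by both functors is invertible on the equalizer -/
theorem isIso_app_of_fork (T₁ T₂ : C ⥤ D) (φ : T₁ ⟶ T₂) {F A B : C} (η : F ⟶ A) (a b : A ⟶ B)
    (w : η ≫ a = η ≫ b) (hl : IsLimit (Fork.ofι η w))
    [PreservesLimit (parallelPair a b) T₁] [PreservesLimit (parallelPair a b) T₂]
    [IsIso (φ.app A)] [IsIso (φ.app B)] : IsIso (φ.app F) := by
  have w1 : T₁.map η ≫ T₁.map a = T₁.map η ≫ T₁.map b := by
    rw [← T₁.map_comp, ← T₁.map_comp, w]
  have w2 : T₂.map η ≫ T₂.map a = T₂.map η ≫ T₂.map b := by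
    rw [← T₂.map_comp, ← T₂.map_comp, w]
  have h1 : IsLimit (Fork.ofι (T₁.map η) w1) := isLimitForkMapOfIsLimit T₁ w hl
  have h2 : IsLimit (Fork.ofι (T₂.map η) w2) := isLimitForkMapOfIsLimit T₂ w hl
  have hc : (T₂.map η ≫ inv (φ.app A)) ≫ T₁.map a = (T₂.map η ≫ inv (φ.app A)) ≫ T₁.map b := by
    have na : inv (φ.app A) ≫ T₁.map a = T₂.map a ≫ inv (φ.app B) := by
      rw [IsIso.inv_comp_eq, ← Category.assoc, IsIso.eq_comp_inv]
      exact (φ.naturality a)
    have nb : inv (φ.app A) ≫ T₁.map b = T₂.map b ≫ inv (φ.app B) := by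
      rw [IsIso.inv_comp_eq, ← Category.assoc, IsIso.eq_comp_inv]
      exact (φ.naturality b)
    rw [Category.assoc, Category.assoc, na, nb, ← Category.assoc, ← Category.assoc, w2]
  refine ⟨Fork.IsLimit.lift h1 (T₂.map η ≫ inv (φ.app A)) hc, ?_, ?_⟩
  · apply Fork.IsLimit.hom_ext h1
    rw [Category.assoc, Fork.IsLimit.lift_ι' h1]
    change φ.app F ≫ T₂.map η ≫ inv (φ.app A) = 𝟙 _ ≫ T₁.map η
    rw [← Category.assoc, ← φ.naturality η, Category.assoc, IsIso.hom_inv_id, Category.comp_id,
      Category.id_comp]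
  · apply Fork.IsLimit.hom_ext h2
    rw [Category.assoc]
    change Fork.IsLimit.lift h1 (T₂.map η ≫ inv (φ.app A)) hc ≫ φ.app F ≫ T₂.map η =
      𝟙 _ ≫ T₂.map η
    rw [← φ.naturality η, ← Category.assoc]
    have := Fork.IsLimit.lift_ι' h1 (T₂.map η ≫ inv (φ.app A)) hc
    change Fork.IsLimit.lift h1 (T₂.map η ≫ inv (φ.app A)) hc ≫ T₁.map η = _ at this
    rw [this, Category.assoc, IsIso.inv_hom_id, Category.comp_id, Category.id_comp]


end Cat

set_option backward.isDefEq.respectTransparency false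

section Lex
open Groth.Agent.Lib.Helper5.Misc


theorem pullSh_lex {X Y : Scheme.{u}} (g : X ⟶ Y) : PreservesFiniteLimits (EtDesc.pullSh g) := by
  have : AB5OfSize.{u, u + 1} (Type (u + 1)) :=
    AB5OfSize_shrink.{u, u + 1, u + 1, u + 1} (Type (u + 1))
  have : HasFiniteLimits Y.Etale :=
    inferInstanceAs (HasFiniteLimits (MorphismProperty.Over EtCoh.etaleMP.{u} ⊤ Y))
  have : RepresentablyFlat (EtCoh.bc g) := flat_of_preservesFiniteLimits _
  exact LanFlat.preservesFiniteLimits_sheafPullback (EtCoh.bc g) (Type (u + 1)) _ _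


end Lex

section U

open Groth.Agent.Lib.Helper5 Groth.Agent.S0072.Aux H9FE.StalkPullGerm H9FE.ShLoc

attribute [local instance] EtStalk.ab5' EtStalk.pfc

/-- the underlying sheaf of sets of an abelian étale sheaf -/
noncomputable abbrev UU (X : Scheme.{u}) : EtCoh.Ab X ⥤ EtDesc.Sh X :=
  sheafCompose X.smallEtaleTopology (forget AddCommGrpCat.{u + 1})

variable {X Y : Scheme.{u}} (g : X ⟶ Y)

/-- the comparison `g⁻¹ (U A) ⟶ U (g⁻¹ A)` -/
noncomputable def rho (A : EtCoh.Ab Y) :
    (EtDesc.pullSh g).obj ((UU Y).obj A) ⟶ (UU X).obj ((EtCoh.pull g).obj A) :=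
  ((EtDesc.adjSh g).homEquiv ((UU Y).obj A) ((UU X).obj ((EtCoh.pull g).obj A))).symm
    ((UU Y).map ((EtCoh.pullPushAdj g).unit.app A))

lemma unit_rho (A : EtCoh.Ab Y) :
    (EtDesc.adjSh g).unit.app ((UU Y).obj A) ≫ (EtDesc.pushSh g).map (rho g A) =
      (UU Y).map ((EtCoh.pullPushAdj g).unit.app A) := by
  have h := (EtDesc.adjSh g).homEquiv_unit (f := rho g A)
  rw [← h]
  exact Equiv.apply_symm_apply _ _

lemma unit_rho_app (A : EtCoh.Ab Y) (V : Y.Etale) :
    ((EtDesc.adjSh g).unit.app ((UU Y).obj A)).hom.app (op V) ≫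
      (rho g A).hom.app (op ((EtCoh.bc g).obj V)) =
      (forget AddCommGrpCat.{u + 1}).map (((EtCoh.pullPushAdj g).unit.app A).hom.app (op V)) :=
  congrArg (fun z => z.hom.app (op V)) (unit_rho g A)

variable {Ω : Type u} [Field Ω] [IsSepClosed Ω] (ξ : Spec (CommRingCat.of Ω) ⟶ X)

theorem rho_stalk_eq (A : EtCoh.Ab Y) :
    (EtStalkPull.stalkPullShIso g ξ).inv.app ((UU Y).obj A) ≫
      ((Scheme.pointSmallEtale ξ).sheafFiber (A := Type (u + 1))).map (rho g A) ≫
      ((Scheme.pointSmallEtale ξ).sheafFiberCompIso (forget AddCommGrpCat.{u + 1})).hom.app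
        ((EtCoh.pull g).obj A) ≫
      (forget AddCommGrpCat.{u + 1}).map ((EtStalkPull.stalkPullIso g ξ).hom.app A) =
    ((Scheme.pointSmallEtale (ξ ≫ g)).sheafFiberCompIso (forget AddCommGrpCat.{u + 1})).hom.app A := by
  apply (Scheme.pointSmallEtale (ξ ≫ g)).presheafFiber_hom_ext
  intro V v
  have S1 := ShLoc.stalkPullShIso_inv_germ g ξ ((UU Y).obj A) V v
  have S2 := (Scheme.pointSmallEtale ξ).toPresheafFiber_naturality (rho g A).hom
    ((EtCoh.bc g).obj V) (liftPt g (ξ ≫ g) ξ rfl V v)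
  have S3 := unit_rho_app g A V
  have S4 := (Scheme.pointSmallEtale ξ).toPresheafFiber_presheafFiberCompIso_hom_app
    (forget AddCommGrpCat.{u + 1}) ((EtCoh.bc g).obj V) (liftPt g (ξ ≫ g) ξ rfl V v)
    ((EtCoh.pull g).obj A).obj
  have S5 := StalkPullGerm.stalkPullIso_inv_germ g ξ A V v
  have S6 := (Scheme.pointSmallEtale (ξ ≫ g)).toPresheafFiber_presheafFiberCompIso_hom_app
    (forget AddCommGrpCat.{u + 1}) V v A.obj
  have S5' : ((EtCoh.pullPushAdj g).unit.app A).hom.app (op V) ≫
      (Scheme.pointSmallEtale ξ).toPresheafFiber ((EtCoh.bc g).obj V)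
        (liftPt g (ξ ≫ g) ξ rfl V v) ((EtCoh.pull g).obj A).obj ≫
      (EtStalkPull.stalkPullIso g ξ).hom.app A =
      (Scheme.pointSmallEtale (ξ ≫ g)).toPresheafFiber V v A.obj := by
    rw [← Category.assoc, ← S5, Category.assoc, ← NatTrans.comp_app, Iso.inv_hom_id,
      NatTrans.id_app]
    exact Category.comp_id _
  change (Scheme.pointSmallEtale (ξ ≫ g)).toPresheafFiber V v ((UU Y).obj A).obj ≫
      (EtStalkPull.stalkPullShIso g ξ).inv.app ((UU Y).obj A) ≫
        (Scheme.pointSmallEtale ξ).presheafFiber.map (rho g A).hom ≫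
          ((Scheme.pointSmallEtale ξ).presheafFiberCompIso (forget AddCommGrpCat.{u + 1})).hom.app
            ((EtCoh.pull g).obj A).obj ≫
            (forget AddCommGrpCat.{u + 1}).map ((EtStalkPull.stalkPullIso g ξ).hom.app A) =
    (Scheme.pointSmallEtale (ξ ≫ g)).toPresheafFiber V v (A.obj ⋙ forget AddCommGrpCat.{u + 1}) ≫
      ((Scheme.pointSmallEtale (ξ ≫ g)).presheafFiberCompIso
        (forget AddCommGrpCat.{u + 1})).hom.app A.obj
  rw [S6, reassoc_of% S1, reassoc_of% S2, reassoc_of% S3]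
  have S4' : (Scheme.pointSmallEtale ξ).toPresheafFiber ((EtCoh.bc g).obj V)
        (liftPt g (ξ ≫ g) ξ rfl V v) ((UU X).obj ((EtCoh.pull g).obj A)).obj ≫
      ((Scheme.pointSmallEtale ξ).presheafFiberCompIso (forget AddCommGrpCat.{u + 1})).hom.app
        ((EtCoh.pull g).obj A).obj =
    (forget AddCommGrpCat.{u + 1}).map
      ((Scheme.pointSmallEtale ξ).toPresheafFiber ((EtCoh.bc g).obj V)
        (liftPt g (ξ ≫ g) ξ rfl V v) ((EtCoh.pull g).obj A).obj) := S4
  rw [reassoc_of% S4', ← S5']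
  rfl

theorem rho_isIso (A : EtCoh.Ab Y) : IsIso (rho g A) := by
  apply EtStalk.isIso_of_stalks_family (fun p : EtStalk.GeomPt X => p)
    (fun x => ⟨EtStalk.geomPtAt x, EtStalk.geomPtAt_default x⟩)
  intro p
  have h := rho_stalk_eq g p.ξ A
  rw [← isIso_iff_bijective]
  change IsIso (((Scheme.pointSmallEtale p.ξ).sheafFiber (A := Type (u + 1))).map (rho g A))
  haveI : IsIso ((EtStalkPull.stalkPullShIso g p.ξ).inv.app ((UU Y).obj A)) := inferInstance
  haveI : IsIso (((Scheme.pointSmallEtale p.ξ).sheafFiberCompIso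
      (forget AddCommGrpCat.{u + 1})).hom.app ((EtCoh.pull g).obj A)) := inferInstance
  haveI : IsIso ((forget AddCommGrpCat.{u + 1}).map
      ((EtStalkPull.stalkPullIso g p.ξ).hom.app A)) := inferInstance
  haveI : IsIso (((Scheme.pointSmallEtale (p.ξ ≫ g)).sheafFiberCompIso
      (forget AddCommGrpCat.{u + 1})).hom.app A) := inferInstance
  have h1 : IsIso ((EtStalkPull.stalkPullShIso g p.ξ).inv.app ((UU Y).obj A) ≫
      ((Scheme.pointSmallEtale p.ξ).sheafFiber (A := Type (u + 1))).map (rho g A) ≫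
      ((Scheme.pointSmallEtale p.ξ).sheafFiberCompIso (forget AddCommGrpCat.{u + 1})).hom.app
        ((EtCoh.pull g).obj A) ≫
      (forget AddCommGrpCat.{u + 1}).map ((EtStalkPull.stalkPullIso g p.ξ).hom.app A)) := by
    rw [h]; infer_instance
  haveI h2 : IsIso (((Scheme.pointSmallEtale p.ξ).sheafFiber (A := Type (u + 1))).map (rho g A) ≫
      ((Scheme.pointSmallEtale p.ξ).sheafFiberCompIso (forget AddCommGrpCat.{u + 1})).hom.app
        ((EtCoh.pull g).obj A) ≫
      (forget AddCommGrpCat.{u + 1}).map ((EtStalkPull.stalkPullIso g p.ξ).hom.app A)) :=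
    IsIso.of_isIso_comp_left ((EtStalkPull.stalkPullShIso g p.ξ).inv.app ((UU Y).obj A)) _
  haveI : IsIso (((Scheme.pointSmallEtale p.ξ).sheafFiberCompIso
      (forget AddCommGrpCat.{u + 1})).hom.app ((EtCoh.pull g).obj A) ≫
      (forget AddCommGrpCat.{u + 1}).map ((EtStalkPull.stalkPullIso g p.ξ).hom.app A)) :=
    inferInstance
  exact IsIso.of_isIso_comp_right _
    (((Scheme.pointSmallEtale p.ξ).sheafFiberCompIso (forget AddCommGrpCat.{u + 1})).hom.app
        ((EtCoh.pull g).obj A) ≫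
      (forget AddCommGrpCat.{u + 1}).map ((EtStalkPull.stalkPullIso g p.ξ).hom.app A))

section Compat

variable {X S X' S' : Scheme.{u}} (f : X ⟶ S) (g : S' ⟶ S) (f' : X' ⟶ S') (g' : X' ⟶ X)
  (w : g' ≫ f = f' ≫ g)

/-- the composite of the transition isomorphisms, sets -/
noncomputable abbrev cSh : EtDesc.pushSh g' ⋙ EtDesc.pushSh f ≅ EtDesc.pushSh f' ⋙ EtDesc.pushSh g :=
  EtDesc.pushCompSh f g' ≪≫ EtBC.pushCongrSh w ≪≫ (EtDesc.pushCompSh g f').symm

/-- the composite of the transition isomorphisms, abelian sheaves -/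
noncomputable abbrev cAb : EtCoh.push g' ⋙ EtCoh.push f ≅ EtCoh.push f' ⋙ EtCoh.push g :=
  EtCoh.pushComp f g' ≪≫ EtCoh.pushCongr w ≪≫ (EtCoh.pushComp g f').symm

lemma cSh_UU (B : EtCoh.Ab X') :
    (cSh f g f' g' w).hom.app ((UU X').obj B) = (UU S).map ((cAb f g f' g' w).hom.app B) := by
  rfl

lemma bc0Adj_eq (F : EtDesc.Sh X) :
    ShBCPaste.bc0Adj f g f' g' w F =
      (EtDesc.pushSh f).map ((EtDesc.adjSh g').unit.app F) ≫
        (cSh f g f' g' w).hom.app ((EtDesc.pullSh g').obj F) := rfl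

lemma homEquiv_baseChange0Sh (F : EtDesc.Sh X) :
    (EtDesc.adjSh g).homEquiv _ _ (EtBC.baseChange0Sh f g f' g' w F) =
      ShBCPaste.bc0Adj f g f' g' w F := by
  rw [ShBCPaste.baseChange0Sh_eq]
  exact Equiv.apply_symm_apply _ _

lemma homEquiv_baseChange0 (A : EtCoh.Ab X) :
    (EtCoh.pullPushAdj g).homEquiv _ _ (EtCoh.baseChange0 f g f' g' w A) =
      (EtCoh.push f).map ((EtCoh.pullPushAdj g').unit.app A) ≫
        (cAb f g f' g' w).hom.app ((EtCoh.pull g').obj A) := by
  unfold EtCoh.baseChange0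
  rw [Equiv.apply_symm_apply]
  rfl

theorem bc_compat (A : EtCoh.Ab X) :
    EtBC.baseChange0Sh f g f' g' w ((UU X).obj A) ≫ (EtDesc.pushSh f').map (rho g' A) =
      rho g ((EtCoh.push f).obj A) ≫ (UU S').map (EtCoh.baseChange0 f g f' g' w A) := by
  apply ((EtDesc.adjSh g).homEquiv _ _).injective
  rw [Adjunction.homEquiv_naturality_right, homEquiv_baseChange0Sh, bc0Adj_eq]
  rw [Adjunction.homEquiv_naturality_right]
  have n1 : (cSh f g f' g' w).hom.app ((EtDesc.pullSh g').obj ((UU X).obj A)) ≫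
      (EtDesc.pushSh g).map ((EtDesc.pushSh f').map (rho g' A)) =
      (EtDesc.pushSh f).map ((EtDesc.pushSh g').map (rho g' A)) ≫
        (cSh f g f' g' w).hom.app ((UU X').obj ((EtCoh.pull g').obj A)) :=
    ((cSh f g f' g' w).hom.naturality (rho g' A)).symm
  have h2 : ((EtDesc.adjSh g).homEquiv ((EtDesc.pushSh f).obj ((UU X).obj A))
          ((UU S').obj ((EtCoh.pull g).obj ((EtCoh.push f).obj A))))
        (rho g ((EtCoh.push f).obj A)) =
      (UU S).map ((EtCoh.pullPushAdj g).unit.app ((EtCoh.push f).obj A)) :=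
    Equiv.apply_symm_apply _ _
  rw [Category.assoc, n1, ← Category.assoc, ← Functor.map_comp, unit_rho, h2, cSh_UU]
  have h3 : (UU S).map ((EtCoh.pullPushAdj g).unit.app ((EtCoh.push f).obj A)) ≫
      (EtDesc.pushSh g).map ((UU S').map (EtCoh.baseChange0 f g f' g' w A)) =
      (UU S).map ((EtCoh.pullPushAdj g).homEquiv _ _ (EtCoh.baseChange0 f g f' g' w A)) := by
    rw [Adjunction.homEquiv_unit, Functor.map_comp]
    rfl
  rw [h3, homEquiv_baseChange0, Functor.map_comp]
  rfl

theorem isIso_bcSh_UU (A : EtCoh.Ab X) (hA : IsIso (EtCoh.baseChange0 f g f' g' w A)) :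
    IsIso (EtBC.baseChange0Sh f g f' g' w ((UU X).obj A)) := by
  haveI := hA
  haveI := rho_isIso g' A
  haveI := rho_isIso g ((EtCoh.push f).obj A)
  have h := bc_compat f g f' g' w A
  haveI : IsIso (EtBC.baseChange0Sh f g f' g' w ((UU X).obj A) ≫
      (EtDesc.pushSh f').map (rho g' A)) := by
    rw [h]; infer_instance
  exact IsIso.of_isIso_comp_right _ ((EtDesc.pushSh f').map (rho g' A))

theorem bcSh_natural {F G : EtDesc.Sh X} (φ : F ⟶ G) :
    (EtDesc.pullSh g).map ((EtDesc.pushSh f).map φ) ≫ EtBC.baseChange0Sh f g f' g' w G =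
      EtBC.baseChange0Sh f g f' g' w F ≫ (EtDesc.pushSh f').map ((EtDesc.pullSh g').map φ) := by
  apply ((EtDesc.adjSh g).homEquiv _ _).injective
  rw [Adjunction.homEquiv_naturality_left, Adjunction.homEquiv_naturality_right,
    homEquiv_baseChange0Sh, homEquiv_baseChange0Sh, bc0Adj_eq, bc0Adj_eq]
  have n1 : (cSh f g f' g' w).hom.app ((EtDesc.pullSh g').obj F) ≫
      (EtDesc.pushSh g).map ((EtDesc.pushSh f').map ((EtDesc.pullSh g').map φ)) =
      (EtDesc.pushSh f).map ((EtDesc.pushSh g').map ((EtDesc.pullSh g').map φ)) ≫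
        (cSh f g f' g' w).hom.app ((EtDesc.pullSh g').obj G) :=
    ((cSh f g f' g' w).hom.naturality ((EtDesc.pullSh g').map φ)).symm
  have n2 : φ ≫ (EtDesc.adjSh g').unit.app G =
      (EtDesc.adjSh g').unit.app F ≫ (EtDesc.pushSh g').map ((EtDesc.pullSh g').map φ) :=
    (EtDesc.adjSh g').unit.naturality φ
  rw [Category.assoc, n1, ← Category.assoc, ← Category.assoc, ← Functor.map_comp,
    ← Functor.map_comp, n2]

end Compat


end U

section Z


variable {X : Scheme.{u}}

/-- the free abelian presheaf on a sheaf of sets -/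
noncomputable abbrev PP (F : EtDesc.Sh X) : X.Etaleᵒᵖ ⥤ AddCommGrpCat.{u + 1} :=
  F.obj ⋙ AddCommGrpCat.free

/-- the free abelian sheaf on a sheaf of sets -/
noncomputable def ZZ (F : EtDesc.Sh X) : EtCoh.Ab X :=
  (presheafToSheaf X.smallEtaleTopology AddCommGrpCat.{u + 1}).obj (PP F)

/-- the unit `F ⟶ U (Z F)` -/
noncomputable def eta (F : EtDesc.Sh X) : F ⟶ (UU X).obj (ZZ F) :=
  ⟨{ app := fun V => TypeCat.ofHom (fun x =>
        ((toSheafify X.smallEtaleTopology (PP F)).app V).hom (FreeAbelianGroup.of x))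
     naturality := by
      intro V W f
      ext x
      have n := (toSheafify X.smallEtaleTopology (PP F)).naturality f
      have n' := ConcreteCategory.congr_hom n (FreeAbelianGroup.of x)
      simp only [ConcreteCategory.comp_apply] at n'
      refine Eq.trans ?_ n'
      change ((toSheafify X.smallEtaleTopology (PP F)).app W).hom
          (FreeAbelianGroup.of (F.obj.map f x)) =
        ((toSheafify X.smallEtaleTopology (PP F)).app W).hom
          (((PP F).map f).hom (FreeAbelianGroup.of x))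
      congr 1 }⟩

lemma eta_app (F : EtDesc.Sh X) (V : X.Etaleᵒᵖ) (x : F.obj.obj V) :
    (eta F).hom.app V x =
      ((toSheafify X.smallEtaleTopology (PP F)).app V).hom (FreeAbelianGroup.of x) := rfl

theorem eta_injective (F : EtDesc.Sh X) (V : X.Etaleᵒᵖ) :
    Function.Injective ((eta F).hom.app V) := by
  intro x y hxy
  rw [eta_app, eta_app] at hxy
  have hmem := Presheaf.equalizerSieve_mem X.smallEtaleTopology
    (toSheafify X.smallEtaleTopology (PP F)) (FreeAbelianGroup.of x) (FreeAbelianGroup.of y) hxy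
  have hsep : Presieve.IsSeparated X.smallEtaleTopology F.obj :=
    ((isSheaf_iff_isSheaf_of_type _ _).1 F.property).isSeparated
  refine (hsep _ hmem).ext ?_
  intro W f hf
  have h1 : ((PP F).map f.op).hom (FreeAbelianGroup.of x) =
      ((PP F).map f.op).hom (FreeAbelianGroup.of y) := hf
  have h2 : FreeAbelianGroup.of (F.obj.map f.op x) = FreeAbelianGroup.of (F.obj.map f.op y) := h1
  exact FreeAbelianGroup.of_injective h2

instance mono_eta (F : EtDesc.Sh X) : Mono (eta F) := by
  haveI : ∀ V, Mono ((eta F).hom.app V) := fun V =>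
    (mono_iff_injective _).2 (eta_injective F V)
  haveI : Mono (eta F).hom := NatTrans.mono_of_mono_app _
  exact Sheaf.Hom.mono_of_presheaf_mono _ _ _


end Z

section Main

variable {X S X' S' : Scheme.{u}} (f : X ⟶ S) (g : S' ⟶ S) (f' : X' ⟶ S') (g' : X' ⟶ X)
  (w : g' ≫ f = f' ≫ g)

/-- the base change map of sheaves of sets as a natural transformation -/
noncomputable def bcNat :
    EtDesc.pushSh f ⋙ EtDesc.pullSh g ⟶ EtDesc.pullSh g' ⋙ EtDesc.pushSh f' where
  app F := EtBC.baseChange0Sh f g f' g' w F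
  naturality _ _ φ := bcSh_natural f g f' g' w φ

/-- **reduction of base change for sheaves of sets to abelian sheaves** -/
theorem main (hAb : ∀ A : EtCoh.Ab X, IsIso (EtCoh.baseChange0 f g f' g' w A))
    (F : EtDesc.Sh X) : IsIso (EtBC.baseChange0Sh f g f' g' w F) := by
  -- `F` as an equalizer of a pair of maps between underlying sheaves of abelian sheaves
  let r : RegularMono (eta F) := regularMonoOfMono (eta F)
  let m := eta r.Z
  have w' : eta F ≫ (r.left ≫ m) = eta F ≫ (r.right ≫ m) := by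
    rw [← Category.assoc, ← Category.assoc, r.w]
  have hl : IsLimit (Fork.ofι (eta F) w') :=
    isLimitForkCompMono (eta F) r.left r.right r.w r.isLimit m w'
  -- exactness of the two functors
  haveI : PreservesFiniteLimits (EtDesc.pullSh g) := pullSh_lex g
  haveI : PreservesFiniteLimits (EtDesc.pullSh g') := pullSh_lex g'
  haveI : PreservesLimitsOfSize.{0, 0} (EtDesc.pushSh f) :=
    (EtDesc.adjSh f).rightAdjoint_preservesLimits
  haveI : PreservesLimitsOfSize.{0, 0} (EtDesc.pushSh f') :=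
    (EtDesc.adjSh f').rightAdjoint_preservesLimits
  haveI : PreservesLimit (parallelPair (r.left ≫ m) (r.right ≫ m))
      (EtDesc.pushSh f ⋙ EtDesc.pullSh g) := inferInstance
  haveI : PreservesLimit (parallelPair (r.left ≫ m) (r.right ≫ m))
      (EtDesc.pullSh g' ⋙ EtDesc.pushSh f') := inferInstance
  haveI : IsIso ((bcNat f g f' g' w).app ((UU X).obj (ZZ F))) :=
    isIso_bcSh_UU f g f' g' w (ZZ F) (hAb _)
  haveI : IsIso ((bcNat f g f' g' w).app ((UU X).obj (ZZ r.Z))) :=
    isIso_bcSh_UU f g f' g' w (ZZ r.Z) (hAb _)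
  exact isIso_app_of_fork (EtDesc.pushSh f ⋙ EtDesc.pullSh g) (EtDesc.pullSh g' ⋙ EtDesc.pushSh f')
    (bcNat f g f' g' w) (eta F) (r.left ≫ m) (r.right ≫ m) w' hl

end Main

end H9FE.ShAbBridge
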