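import Mathlib
import Groth.Prelude.Def_EtBase
import Groth.Prelude.Def_SGA4b
import Groth.Agent.Lib.Helper9.FE.ShLoc
import Groth.Agent.Lib.Helper9.FE.SecPull
import Groth.Agent.S14453

/-! helper9: agreement loci of two sections of an étale sheaf of sets (open; sections agreeing
everywhere locally are equal; compatibility with restriction), and the single-object version of
`ShLoc.exists_local_eq`. -/

set_option autoImplicit false
set_option linter.unusedSectionVars false
set_option linter.style.haveILetI false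
set_option backward.isDefEq.respectTransparency false
universe u
open CategoryTheory CategoryTheory.Limits AlgebraicGeometry Opposite

namespace H9FE.ShAg
open Groth.Agent.Lib.Helper5 Groth.Agent.S0072.Aux H9FE.StalkPullGerm H9FE.ShLoc H9FE.SecPull
open Groth.Agent.S14453.Aux

section Ag

variable {T : Scheme.{u}}

/-- the agreement locus of two sections -/
def Ag (G : EtDesc.Sh T) {V : T.Etale} (s t : G.obj.obj (op V)) : Set V.left :=
  {q | ∃ (V' : T.Etale) (k : V' ⟶ V) (q' : V'.left), k.left q' = q ∧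
    G.obj.map k.op s = G.obj.map k.op t}

theorem etale_left {V' V : T.Etale} (k : V' ⟶ V) : Etale k.left := by
  haveI : Etale V'.hom := V'.prop
  haveI : Etale V.hom := V.prop
  have hw : k.left ≫ V.hom = V'.hom := MorphismProperty.Over.w k
  haveI : Etale (k.left ≫ V.hom) := by rw [hw]; infer_instance
  exact Etale.of_comp k.left V.hom

theorem isOpen_ag (G : EtDesc.Sh T) {V : T.Etale} (s t : G.obj.obj (op V)) :
    IsOpen (Ag G s t) := by
  have : Ag G s t = ⋃ (p : {p : Σ V' : T.Etale, (V' ⟶ V) //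
      G.obj.map p.2.op s = G.obj.map p.2.op t}), Set.range p.1.2.left := by
    ext q
    simp only [Ag, Set.mem_setOf_eq, Set.mem_iUnion, Set.mem_range]
    constructor
    · rintro ⟨V', k, q', hq, hk⟩
      exact ⟨⟨⟨V', k⟩, hk⟩, q', hq⟩
    · rintro ⟨⟨⟨V', k⟩, hk⟩, q', hq⟩
      exact ⟨V', k, q', hq, hk⟩
  rw [this]
  refine isOpen_iUnion fun p => ?_
  haveI : Etale p.1.2.left := etale_left p.1.2
  exact p.1.2.left.isOpenMap.isOpen_range

theorem eq_of_ag (G : EtDesc.Sh T) {V : T.Etale} (s t : G.obj.obj (op V))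
    (hv : ∀ q : V.left, q ∈ Ag G s t) : s = t := by
  let S : Sieve V :=
    { arrows := fun V' k => G.obj.map k.op s = G.obj.map k.op t
      downward_closed := by
        intro Y Z k hk l
        show G.obj.map (l ≫ k).op s = G.obj.map (l ≫ k).op t
        rw [← mmS, ← mmS, hk] }
  have hS : S ∈ T.smallEtaleTopology V := by
    rw [EtSiteBasic.mem_smallEtale_iff]
    intro x
    obtain ⟨V', k, q', hq, hk⟩ := hv x
    exact ⟨V', k, q', hk, hq⟩
  apply EtSiteBasic.sect_ext G S hS
  intro W g hg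
  exact hg

theorem ag_map (G : EtDesc.Sh T) {V₁ V : T.Etale} (k : V₁ ⟶ V) (s t : G.obj.obj (op V))
    (q₁ : V₁.left) :
    q₁ ∈ Ag G (G.obj.map k.op s) (G.obj.map k.op t) ↔ k.left q₁ ∈ Ag G s t := by
  constructor
  · rintro ⟨V', k', q', hq, hk⟩
    refine ⟨V', k' ≫ k, q', ?_, ?_⟩
    · show k.left (k'.left q') = k.left q₁
      rw [hq]
    · rw [← mmS, ← mmS]; exact hk
  · rintro ⟨V', k₀, q', hq, hk⟩
    obtain ⟨P, π₁, π₂, t', comm, ht₁, ht₂⟩ := H9FE.SecPull.exists_fp k₀ k q' q₁ hq
    refine ⟨P, π₂, t', ht₂, ?_⟩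
    rw [mmS, mmS, ← comm, ← mmS, ← mmS, hk]

end Ag

section Loc

variable {X Y : Scheme.{u}} (f : X ⟶ Y) (G : EtDesc.Sh Y)

/-- if restrictions of the images of two sections over the same object under the unit agree,
then locally the sections themselves agree -/
theorem exists_local_eq' (V : Y.Etale) (s₁ s₂ : G.obj.obj (op V))
    (T : X.Etale) (φ : T ⟶ (EtCoh.bc f).obj V)
    (h0 : ((EtDesc.pullSh f).obj G).obj.map φ.op (uS f G V s₁) =
      ((EtDesc.pullSh f).obj G).obj.map φ.op (uS f G V s₂)) (x : T.left) :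
    ∃ (V' : Y.Etale) (h : V' ⟶ V) (z : ((EtCoh.bc f).obj V').left),
      G.obj.map h.op s₁ = G.obj.map h.op s₂ ∧ ((EtCoh.bc f).map h).left z = φ.left x := by
  obtain ⟨Ω, _, _, ξ, y, hy⟩ := H9FE.LimLoc.exists_geom_pt T x
  let Φ := Scheme.pointSmallEtale ξ
  let Φ' := Scheme.pointSmallEtale (ξ ≫ f)
  let P := ((EtDesc.pullSh f).obj G).obj
  let v : Φ'.fiber.obj V := (EtStalkPull.fiberIso f ξ).hom.app V (Φ.fiber.map φ y)
  have hv : liftPt f (ξ ≫ f) ξ rfl V v = Φ.fiber.map φ y := by
    rw [← fiberIso_inv]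
    exact types_congr_hom ((EtStalkPull.fiberIso f ξ).hom_inv_id_app V) _
  have key : ∀ s : G.obj.obj (op V),
      (EtStalkPull.stalkPullShIso f ξ).inv.app G (Φ'.toPresheafFiber V v G.obj s) =
        Φ.toPresheafFiber T y P (P.map φ.op (uS f G V s)) := by
    intro s
    have e1 := types_congr_hom (stalkPullShIso_inv_germ f ξ G V v) s
    have e2 := types_congr_hom (Φ.toPresheafFiber_w φ y P) (uS f G V s)
    refine e1.trans ?_
    refine Eq.trans ?_ e2.symm
    show Φ.toPresheafFiber _ _ P (uS f G V s) = Φ.toPresheafFiber _ _ P (uS f G V s)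
    rw [hv]
  have hgerm : Φ'.toPresheafFiber V v G.obj s₁ = Φ'.toPresheafFiber V v G.obj s₂ := by
    have hinj : Function.Injective ((EtStalkPull.stalkPullShIso f ξ).inv.app G) := by
      intro a b hab
      have ea := types_congr_hom ((EtStalkPull.stalkPullShIso f ξ).inv_hom_id_app G) a
      have eb := types_congr_hom ((EtStalkPull.stalkPullShIso f ξ).inv_hom_id_app G) b
      exact ea.symm.trans ((congrArg ((EtStalkPull.stalkPullShIso f ξ).hom.app G) hab).trans eb)
    apply hinj
    rw [key, key, h0]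
  rw [Φ'.toPresheafFiber_eq_iff'] at hgerm
  obtain ⟨V', h, v', hv', hres⟩ := hgerm
  refine ⟨V', h, (liftPt f (ξ ≫ f) ξ rfl V' v').left (default : Spec (CommRingCat.of Ω)),
    hres, ?_⟩
  have e6 := liftPt_map f (ξ ≫ f) ξ rfl h v'
  rw [hv', hv] at e6
  have e7 : (liftPt f (ξ ≫ f) ξ rfl V' v').left ≫ ((EtCoh.bc f).map h).left =
      (Φ.fiber.map φ y).left := congrArg (fun w => w.left) e6
  have e8 : (Φ.fiber.map φ y).left = y.left ≫ φ.left := rfl
  rw [← hy]
  exact congrArg (fun w : Spec (CommRingCat.of Ω) ⟶ ((EtCoh.bc f).obj V).left =>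
    w (default : Spec (CommRingCat.of Ω))) (e7.trans e8)

end Loc

end H9FE.ShAg
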