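import Mathlib
import Groth.Prelude.Def_EtBase
import Groth.Prelude.Def_SGA4b
import Groth.Prelude.Def_EtBCD
import Groth.Agent.Lib.Helper5.Misc.EtShriekBC
import Groth.Agent.Lib.Helper5.Misc.JContGen
import Groth.Agent.Lib.Helper9.FE.BC0Germ
import Groth.Agent.Lib.Helper9.FE.FEtTraceSum
import Groth.Agent.Lib.Helper9.FE.EtBC0Et

/-! helper9: étale base change in degree zero for sheaves of SETS: for a cartesian square with `w`
étale, the base change map `w⁻¹ f_* G ⟶ f'_* j'⁻¹ G` (`EtBC.baseChange0Sh`) is an isomorphism.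
(Port of `EtBC0Et` from abelian sheaves to sheaves of sets.) -/

set_option autoImplicit false
set_option linter.unusedSectionVars false
set_option linter.style.haveILetI false
set_option backward.isDefEq.respectTransparency false
universe u
open CategoryTheory CategoryTheory.Limits AlgebraicGeometry Opposite

namespace H9FE.ShBC0Et
open EtShriek H9FE.FEtTraceSum Groth.Agent.Lib.Helper5

attribute [local instance] Groth.Agent.Lib.Helper5.Misc.JContGen.jCont

section Restr

variable {U X : Scheme.{u}} (j : U ⟶ X) [hj : Etale j]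

/-- restriction of sheaves of sets along an étale morphism -/
noncomputable abbrev restrSh : EtDesc.Sh X ⥤ EtDesc.Sh U :=
  (compEtale j).sheafPushforwardContinuous (Type (u + 1)) U.smallEtaleTopology
    X.smallEtaleTopology

/-- restriction along an étale morphism is left adjoint to the direct image (sheaves of sets) -/
noncomputable def restrPushAdjSh : restrSh j ⊣ EtDesc.pushSh j :=
  haveI : (MorphismProperty.Over.map (P := EtCoh.etaleMP.{u}) ⊤ (f := j) hj).IsContinuous
      U.smallEtaleTopology X.smallEtaleTopology := Misc.JContGen.jCont j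
  haveI : (MorphismProperty.Over.pullback EtCoh.etaleMP.{u} ⊤ j).IsContinuous
      X.smallEtaleTopology U.smallEtaleTopology := EtCoh.bcCont j
  (MorphismProperty.Over.mapPullbackAdj EtCoh.etaleMP.{u} ⊤ j hj trivial).sheafPushforwardContinuous
    (E := Type (u + 1)) U.smallEtaleTopology X.smallEtaleTopology

/-- for étale `j`, the inverse image of sheaves of sets is restriction -/
noncomputable def pullIsoSh : EtDesc.pullSh j ≅ restrSh j :=
  (EtDesc.adjSh j).leftAdjointUniq (restrPushAdjSh j)

/-- the restriction map `F ⟶ j_* j⁻¹ F` -/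
noncomputable def resSh (F : EtDesc.Sh X) : F ⟶ (EtDesc.pushSh j).obj ((restrSh j).obj F) :=
  (restrPushAdjSh j).unit.app F

lemma resSh_app (F : EtDesc.Sh X) (W : X.Etale) :
    (resSh j F).hom.app (op W) = F.obj.map (proj j W).op := rfl

lemma resSh_eq (F : EtDesc.Sh X) :
    resSh j F = (EtDesc.adjSh j).unit.app F ≫
      (EtDesc.pushSh j).map ((pullIsoSh j).hom.app F) :=
  (Adjunction.unit_leftAdjointUniq_hom_app (EtDesc.adjSh j) (restrPushAdjSh j) F).symm

end Restr


section Square

variable {X Y W X' : Scheme.{u}} (f : X ⟶ Y) (w : W ⟶ Y) [Etale w] (f' : X' ⟶ W) (j' : X' ⟶ X)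
  [Etale j'] (h : IsPullback j' f' f w)

/-- `j'⁻¹` then `f'_*` is `f_*` then `w⁻¹` (sheaves of sets) -/
noncomputable def rightIsoSh :
    restrSh j' ⋙ EtDesc.pushSh f' ≅ EtDesc.pushSh f ⋙ restrSh w :=
  haveI : (EtCoh.bc f' ⋙ EtShriek.compEtale j').IsContinuous W.smallEtaleTopology
      X.smallEtaleTopology := Functor.isContinuous_comp _ _ _ X'.smallEtaleTopology _
  haveI : (EtShriek.compEtale w ⋙ EtCoh.bc f).IsContinuous W.smallEtaleTopology
      X.smallEtaleTopology := Functor.isContinuous_comp _ _ _ Y.smallEtaleTopology _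
  Functor.sheafPushforwardContinuousComp (EtCoh.bc f') (EtShriek.compEtale j')
      (Type (u + 1)) W.smallEtaleTopology X'.smallEtaleTopology X.smallEtaleTopology ≪≫
    Functor.sheafPushforwardContinuousIso (EtShriekBC.siteIso w f j' f' h) (Type (u + 1))
      W.smallEtaleTopology X.smallEtaleTopology ≪≫
    (Functor.sheafPushforwardContinuousComp (EtShriek.compEtale w) (EtCoh.bc f)
      (Type (u + 1)) W.smallEtaleTopology Y.smallEtaleTopology X.smallEtaleTopology).symm

/-- the adjoint of the base change map (sheaves of sets) -/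
noncomputable def gammaSh (G : EtDesc.Sh X) : (EtDesc.pushSh f).obj G ⟶
    (EtDesc.pushSh w).obj ((EtDesc.pushSh f').obj ((EtDesc.pullSh j').obj G)) :=
  (EtDesc.pushSh f).map ((EtDesc.adjSh j').unit.app G) ≫ (EtDesc.pushCompSh f j').hom.app _ ≫
      (EtBC.pushCongrSh h.w).hom.app _ ≫ (EtDesc.pushCompSh w f').inv.app _

lemma unit_baseChange0Sh (G : EtDesc.Sh X) :
    (EtDesc.adjSh w).unit.app ((EtDesc.pushSh f).obj G) ≫
      (EtDesc.pushSh w).map (EtBC.baseChange0Sh f w f' j' h.w G) = gammaSh f w f' j' h G := by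
  exact ((EtDesc.adjSh w).homEquiv_unit _ _
    (EtBC.baseChange0Sh f w f' j' h.w G)).symm.trans (Equiv.apply_symm_apply _ _)

lemma gammaSh_app (G : EtDesc.Sh X) (V : Y.Etale) :
    (gammaSh f w f' j' h G).hom.app (op V) =
      ((EtDesc.adjSh j').unit.app G).hom.app (op ((EtCoh.bc f).obj V)) ≫
        ((EtDesc.pullSh j').obj G).obj.map (H9FE.BC0Germ.kV f w f' j' h.w V).op := by
  have h1 : (gammaSh f w f' j' h G).hom.app (op V) =
      ((EtDesc.adjSh j').unit.app G).hom.app (op ((EtCoh.bc f).obj V)) ≫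
        ((EtDesc.pullSh j').obj G).obj.map
          ((MorphismProperty.Over.pullbackComp (P := EtCoh.etaleMP) (Q := ⊤) j' f).hom.app V).op ≫
        ((EtDesc.pullSh j').obj G).obj.map
          ((MorphismProperty.Over.pullbackCongr (P := EtCoh.etaleMP) (Q := ⊤) h.w).inv.app V).op ≫
        ((EtDesc.pullSh j').obj G).obj.map
          ((MorphismProperty.Over.pullbackComp (P := EtCoh.etaleMP) (Q := ⊤) f' w).inv.app V).op :=
    rfl
  rw [h1, H9FE.BC0Germ.kV, op_comp, op_comp, Functor.map_comp, Functor.map_comp]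
  simp only [Category.assoc]

/-- the base change map transported to the restriction functors -/
noncomputable def rhoSh (G : EtDesc.Sh X) :
    (restrSh w).obj ((EtDesc.pushSh f).obj G) ⟶ (EtDesc.pushSh f').obj ((restrSh j').obj G) :=
  (pullIsoSh w).inv.app ((EtDesc.pushSh f).obj G) ≫
    EtBC.baseChange0Sh f w f' j' h.w G ≫
    (EtDesc.pushSh f').map ((pullIsoSh j').hom.app G)

lemma unit_rhoSh (G : EtDesc.Sh X) :
    resSh w ((EtDesc.pushSh f).obj G) ≫ (EtDesc.pushSh w).map (rhoSh f w f' j' h G) =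
      gammaSh f w f' j' h G ≫
        (EtDesc.pushSh w).map ((EtDesc.pushSh f').map ((pullIsoSh j').hom.app G)) := by
  rw [resSh_eq, rhoSh, Functor.map_comp, Functor.map_comp, Category.assoc,
    ← Category.assoc ((EtDesc.pushSh w).map ((pullIsoSh w).hom.app _)),
    ← Functor.map_comp, Iso.hom_inv_id_app, CategoryTheory.Functor.map_id, Category.id_comp,
    ← Category.assoc, unit_baseChange0Sh]

lemma L_app (G : EtDesc.Sh X) (V : Y.Etale) :
    (gammaSh f w f' j' h G ≫
      (EtDesc.pushSh w).map ((EtDesc.pushSh f').map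
        ((pullIsoSh j').hom.app G))).hom.app (op V) =
      G.obj.map (proj j' ((EtCoh.bc f).obj V)).op ≫
        G.obj.map ((compEtale j').map (H9FE.BC0Germ.kV f w f' j' h.w V)).op := by
  have h1 : (gammaSh f w f' j' h G ≫
      (EtDesc.pushSh w).map ((EtDesc.pushSh f').map
        ((pullIsoSh j').hom.app G))).hom.app (op V) =
      (gammaSh f w f' j' h G).hom.app (op V) ≫
        ((pullIsoSh j').hom.app G).hom.app
          (op ((EtCoh.bc f').obj ((EtCoh.bc w).obj V))) := rfl
  rw [h1, gammaSh_app, Category.assoc]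
  have nat := ((pullIsoSh j').hom.app G).hom.naturality
    (H9FE.BC0Germ.kV f w f' j' h.w V).op
  rw [nat, ← Category.assoc]
  have h2 : ((EtDesc.adjSh j').unit.app G).hom.app (op ((EtCoh.bc f).obj V)) ≫
      ((pullIsoSh j').hom.app G).hom.app
        (op ((EtCoh.bc j').obj ((EtCoh.bc f).obj V))) =
      (resSh j' G).hom.app (op ((EtCoh.bc f).obj V)) := by
    rw [resSh_eq]
    rfl
  rw [h2]
  rfl

lemma R_app (G : EtDesc.Sh X) (V : Y.Etale) :
    (resSh w ((EtDesc.pushSh f).obj G) ≫
      (EtDesc.pushSh w).map ((rightIsoSh f w f' j' h).inv.app G)).hom.app (op V) =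
      G.obj.map ((EtCoh.bc f).map (proj w V)).op ≫
        G.obj.map ((EtShriekBC.siteIso w f j' f' h).hom.app ((EtCoh.bc w).obj V)).op := by
  rfl

theorem rhoSh_eq (G : EtDesc.Sh X) :
    rhoSh f w f' j' h G = (rightIsoSh f w f' j' h).inv.app G := by
  apply ((restrPushAdjSh w).homEquiv _ _).injective
  rw [Adjunction.homEquiv_unit, Adjunction.homEquiv_unit]
  change resSh w _ ≫ _ = resSh w _ ≫ _
  rw [unit_rhoSh]
  apply Sheaf.hom_ext
  apply NatTrans.ext
  funext V
  obtain ⟨V⟩ := V
  rw [L_app f w f' j' h G V, R_app f w f' j' h G V, ← G.obj.map_comp, ← G.obj.map_comp,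
    ← op_comp, ← op_comp, H9FE.EtBC0Et.site_eq f w f' j' h V]

/-- étale base change in degree zero, for sheaves of sets -/
theorem isIso_baseChange0Sh (G : EtDesc.Sh X) :
    IsIso (EtBC.baseChange0Sh f w f' j' h.w G) := by
  have h1 : IsIso (rhoSh f w f' j' h G) := by
    rw [rhoSh_eq]
    infer_instance
  have e : EtBC.baseChange0Sh f w f' j' h.w G =
      (pullIsoSh w).hom.app ((EtDesc.pushSh f).obj G) ≫ rhoSh f w f' j' h G ≫
        (EtDesc.pushSh f').map ((pullIsoSh j').inv.app G) := by
    unfold rhoSh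
    simp only [Category.assoc, Iso.hom_inv_id_app_assoc, ← Functor.map_comp, Iso.hom_inv_id_app,
      CategoryTheory.Functor.map_id, Category.comp_id]
  rw [e]
  infer_instance

end Square

end H9FE.ShBC0Et
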