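import Mathlib
import Groth.Prelude.Def_EtBase
import Groth.Prelude.Def_SGA4b
import Groth.Agent.Lib.Helper9.FE.LimTower

/-! helper9: for `f : X' ⟶ X`, `X'' = X' ×_X X'` and an étale `X`-scheme `U` with `Y = U ×_X X'`,
the scheme `U ×_X X''` is the fibre product `Y ×_U Y` (via the two canonical projections `rho1`,
`rho2`); in particular two points of `Y` with the same image in `U` come from a point of
`U ×_X X''`. -/

set_option autoImplicit false
set_option linter.unusedSectionVars false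
set_option linter.style.haveILetI false
set_option backward.isDefEq.respectTransparency false
universe u
open CategoryTheory CategoryTheory.Limits AlgebraicGeometry Opposite

namespace H9FE.ShDesc
open H9FE.LimTower

variable {X' X : Scheme.{u}} (f : X' ⟶ X) (U : X.Etale)

/-- `q = pr₁ ≫ f : X'' ⟶ X` -/
noncomputable abbrev qq : EtDesc.X2 f ⟶ X := pullback.fst f f ≫ f

lemma w2 : pullback.snd f f ≫ f = qq f := pullback.condition.symm

/-- first projection `U ×_X X'' ⟶ U ×_X X'` -/
noncomputable def rho1 : ((EtCoh.bc (qq f)).obj U).left ⟶ ((EtCoh.bc f).obj U).left :=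
  (pcMor (pullback.fst f f) f (qq f) rfl U).left ≫ p1 (pullback.fst f f) ((EtCoh.bc f).obj U)

/-- second projection `U ×_X X'' ⟶ U ×_X X'` -/
noncomputable def rho2 : ((EtCoh.bc (qq f)).obj U).left ⟶ ((EtCoh.bc f).obj U).left :=
  (pcMor (pullback.snd f f) f (qq f) (w2 f) U).left ≫ p1 (pullback.snd f f) ((EtCoh.bc f).obj U)

@[reassoc]
lemma rho1_p1 : rho1 f U ≫ p1 f U = p1 (qq f) U := by
  unfold rho1; rw [Category.assoc]; exact pcMor_p1_p1 _ _ _ _ _

@[reassoc]
lemma rho1_p2 : rho1 f U ≫ p2 f U = p2 (qq f) U ≫ pullback.fst f f := by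
  unfold rho1; rw [Category.assoc]; exact pcMor_p1_p2 _ _ _ _ _

@[reassoc]
lemma rho2_p1 : rho2 f U ≫ p1 f U = p1 (qq f) U := by
  unfold rho2; rw [Category.assoc]; exact pcMor_p1_p1 _ _ _ _ _

@[reassoc]
lemma rho2_p2 : rho2 f U ≫ p2 f U = p2 (qq f) U ≫ pullback.snd f f := by
  unfold rho2; rw [Category.assoc]; exact pcMor_p1_p2 _ _ _ _ _

section Lift

variable {T : Scheme.{u}} (a b : T ⟶ ((EtCoh.bc f).obj U).left) (hab : a ≫ p1 f U = b ≫ p1 f U)

include hab in
lemma lift_cond : (a ≫ p2 f U) ≫ f = (b ≫ p2 f U) ≫ f := by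
  rw [Category.assoc, Category.assoc, ← p_cond, ← Category.assoc, ← Category.assoc, hab]

/-- the morphism into `U ×_X X''` induced by two morphisms into `Y` with the same image in `U` -/
noncomputable def rhoLift : T ⟶ ((EtCoh.bc (qq f)).obj U).left :=
  pLift (qq f) U (a ≫ p1 f U) (pullback.lift (a ≫ p2 f U) (b ≫ p2 f U) (lift_cond f U a b hab))
    (by
      rw [← Category.assoc, pullback.lift_fst, Category.assoc, Category.assoc, p_cond])

lemma rhoLift_rho1 : rhoLift f U a b hab ≫ rho1 f U = a := by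
  apply p_hom_ext f U
  · rw [Category.assoc, rho1_p1]; exact pLift_p1 _ _ _ _ _
  · rw [Category.assoc, rho1_p2, ← Category.assoc]
    unfold rhoLift
    rw [pLift_p2, pullback.lift_fst]

lemma rhoLift_rho2 : rhoLift f U a b hab ≫ rho2 f U = b := by
  apply p_hom_ext f U
  · rw [Category.assoc, rho2_p1, ← hab]; exact pLift_p1 _ _ _ _ _
  · rw [Category.assoc, rho2_p2, ← Category.assoc]
    unfold rhoLift
    rw [pLift_p2, pullback.lift_snd]

lemma rhoLift_uniq (m : T ⟶ ((EtCoh.bc (qq f)).obj U).left) (h1 : m ≫ rho1 f U = a)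
    (h2 : m ≫ rho2 f U = b) : m = rhoLift f U a b hab := by
  apply p_hom_ext (qq f) U
  · unfold rhoLift
    rw [pLift_p1, ← h1, Category.assoc, rho1_p1]
  · unfold rhoLift
    rw [pLift_p2]
    apply pullback.hom_ext
    · rw [pullback.lift_fst, Category.assoc, ← rho1_p2, ← Category.assoc, h1]
    · rw [pullback.lift_snd, Category.assoc, ← rho2_p2, ← Category.assoc, h2]

end Lift

theorem isPullback_rho : IsPullback (rho1 f U) (rho2 f U) (p1 f U) (p1 f U) :=
  ⟨⟨(rho1_p1 f U).trans (rho2_p1 f U).symm⟩,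
    ⟨PullbackCone.IsLimit.mk _ (fun s => rhoLift f U s.fst s.snd s.condition)
      (fun s => rhoLift_rho1 f U s.fst s.snd s.condition)
      (fun s => rhoLift_rho2 f U s.fst s.snd s.condition)
      (fun s m h1 h2 => rhoLift_uniq f U s.fst s.snd s.condition m h1 h2)⟩⟩

theorem exists_zeta (b₁ b₂ : ((EtCoh.bc f).obj U).left) (hb : p1 f U b₁ = p1 f U b₂) :
    ∃ ζ : ((EtCoh.bc (qq f)).obj U).left, rho1 f U ζ = b₁ ∧ rho2 f U ζ = b₂ := by
  have sq := isPullback_rho f U
  obtain ⟨z, hz1, hz2⟩ := Scheme.Pullback.exists_preimage_pullback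
    (f := p1 f U) (g := p1 f U) b₁ b₂ hb
  refine ⟨sq.isoPullback.inv z, ?_, ?_⟩
  · have e0 := congrArg (fun ψ : pullback (p1 f U) (p1 f U) ⟶ ((EtCoh.bc f).obj U).left => ψ z)
      (IsPullback.isoPullback_inv_fst sq)
    exact e0.trans hz1
  · have e0 := congrArg (fun ψ : pullback (p1 f U) (p1 f U) ⟶ ((EtCoh.bc f).obj U).left => ψ z)
      (IsPullback.isoPullback_inv_snd sq)
    exact e0.trans hz2

end H9FE.ShDesc
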