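import Mathlib
import Groth.Prelude.Def_EtBase
import Groth.Prelude.Def_SGA4b
import Groth.Agent.Lib.Helper9.FE.LimTower
import Groth.Agent.Lib.Helper9.FE.ShLoc

/-! helper9: the canonical isomorphism `f⁻¹ g⁻¹ F ≅ h⁻¹ F` (`EtDesc.pullVia`, for `f ≫ g = h`) of
étale sheaves of sets is compatible with the units: it sends `unit_f (unit_g t)` to `unit_h t`
(up to the canonical identification of `V ×_Z X` with `(V ×_Z Y) ×_Y X`). -/

set_option autoImplicit false
set_option linter.unusedSectionVars false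
set_option linter.style.haveILetI false
set_option backward.isDefEq.respectTransparency false
universe u
open CategoryTheory CategoryTheory.Limits AlgebraicGeometry Opposite

namespace H9FE.ShVia
open H9FE.LimTower H9FE.ShLoc

variable {X Y Z : Scheme.{u}} (f : X ⟶ Y) (g : Y ⟶ Z)

lemma pushCompSh_hom_app (M : EtDesc.Sh X) (V : Z.Etale) :
    ((EtDesc.pushCompSh g f).hom.app M).hom.app (op V) =
      M.obj.map (pcMor f g (f ≫ g) rfl V).op := by
  dsimp [EtDesc.pushCompSh]
  rw [Functor.sheafPushforwardContinuousComp'_hom_app_hom_app]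
  congr 2
  apply bc_hom_ext
  apply p_hom_ext g V
  · rw [Category.assoc, Category.assoc, pcMor_p1_p1]
    simp only [Iso.symm_inv, unop_op, MorphismProperty.Over.pullbackComp_hom_app_left, p1,
      Category.assoc]
    have h1 : (pullbackLeftPullbackSndIso V.hom g f).inv ≫
        pullback.fst ((EtCoh.bc g).obj V).hom f ≫ pullback.fst V.hom g =
        pullback.fst V.hom (f ≫ g) := pullbackLeftPullbackSndIso_inv_fst V.hom g f
    rw [h1]
    simp
    exact Category.id_comp _
  · rw [Category.assoc, Category.assoc, pcMor_p1_p2]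
    simp only [Iso.symm_inv, unop_op, MorphismProperty.Over.pullbackComp_hom_app_left, p1, p2,
      Category.assoc]
    have h1 : (pullbackLeftPullbackSndIso V.hom g f).inv ≫
        pullback.fst ((EtCoh.bc g).obj V).hom f ≫ pullback.snd V.hom g =
        pullback.snd V.hom (f ≫ g) ≫ f := pullbackLeftPullbackSndIso_inv_fst_snd V.hom g f
    rw [h1]
    simp
    exact Category.id_comp _

theorem unit_via_rfl (F : EtDesc.Sh Z) :
    (EtDesc.adjSh g).unit.app F ≫
      (EtDesc.pushSh g).map ((EtDesc.adjSh f).unit.app ((EtDesc.pullSh g).obj F) ≫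
        (EtDesc.pushSh f).map ((EtDesc.pullCompSh f g).inv.app F)) ≫
      (EtDesc.pushCompSh g f).hom.app ((EtDesc.pullSh (f ≫ g)).obj F) =
    (EtDesc.adjSh (f ≫ g)).unit.app F := by
  have hu := Adjunction.unit_leftAdjointUniq_hom_app (EtDesc.adjSh (f ≫ g))
    (((EtDesc.adjSh g).comp (EtDesc.adjSh f)).ofNatIsoRight (EtDesc.pushCompSh g f)) F
  have hu' : (EtDesc.adjSh (f ≫ g)).unit.app F ≫
      (EtDesc.pushSh (f ≫ g)).map ((EtDesc.pullCompSh f g).hom.app F) =
      (((EtDesc.adjSh g).comp (EtDesc.adjSh f)).ofNatIsoRight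
        (EtDesc.pushCompSh g f)).unit.app F := hu
  have hadj : (((EtDesc.adjSh g).comp (EtDesc.adjSh f)).ofNatIsoRight
      (EtDesc.pushCompSh g f)).unit.app F =
      (EtDesc.adjSh g).unit.app F ≫
        (EtDesc.pushSh g).map ((EtDesc.adjSh f).unit.app ((EtDesc.pullSh g).obj F)) ≫
          (EtDesc.pushCompSh g f).hom.app ((EtDesc.pullSh f).obj ((EtDesc.pullSh g).obj F)) := by
    simp only [Adjunction.ofNatIsoRight_unit, NatTrans.comp_app, Adjunction.comp_unit_app,
      Functor.whiskerLeft_app, Category.assoc]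
    rfl
  have n1 : (EtDesc.pushSh g).map ((EtDesc.pushSh f).map ((EtDesc.pullCompSh f g).inv.app F)) ≫
      (EtDesc.pushCompSh g f).hom.app ((EtDesc.pullSh (f ≫ g)).obj F) =
      (EtDesc.pushCompSh g f).hom.app ((EtDesc.pullSh f).obj ((EtDesc.pullSh g).obj F)) ≫
        (EtDesc.pushSh (f ≫ g)).map ((EtDesc.pullCompSh f g).inv.app F) :=
    (EtDesc.pushCompSh g f).hom.naturality ((EtDesc.pullCompSh f g).inv.app F)
  have e1 : (EtDesc.adjSh g).unit.app F ≫
      (EtDesc.pushSh g).map ((EtDesc.adjSh f).unit.app ((EtDesc.pullSh g).obj F) ≫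
        (EtDesc.pushSh f).map ((EtDesc.pullCompSh f g).inv.app F)) ≫
      (EtDesc.pushCompSh g f).hom.app ((EtDesc.pullSh (f ≫ g)).obj F) =
      ((EtDesc.adjSh g).unit.app F ≫
        (EtDesc.pushSh g).map ((EtDesc.adjSh f).unit.app ((EtDesc.pullSh g).obj F)) ≫
          (EtDesc.pushCompSh g f).hom.app ((EtDesc.pullSh f).obj ((EtDesc.pullSh g).obj F))) ≫
        (EtDesc.pushSh (f ≫ g)).map ((EtDesc.pullCompSh f g).inv.app F) := by
    rw [Functor.map_comp]
    simp only [Category.assoc]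
    rw [n1]
  rw [e1, ← hadj, ← hu', Category.assoc, ← Functor.map_comp, Iso.hom_inv_id_app]
  exact (congrArg (fun t => (EtDesc.adjSh (f ≫ g)).unit.app F ≫ t)
    ((EtDesc.pushSh (f ≫ g)).map_id _)).trans (Category.comp_id _)

lemma pullVia_rfl_hom (F : EtDesc.Sh Z) :
    (EtDesc.pullVia f g (f ≫ g) rfl F).hom = (EtDesc.pullCompSh f g).inv.app F := by
  unfold EtDesc.pullVia
  rw [Iso.app_hom, Iso.trans_hom, NatTrans.comp_app]
  have : (EtDesc.pullCongrSh (rfl : f ≫ g = f ≫ g)).hom.app F = 𝟙 _ := by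
    simp [EtDesc.pullCongrSh]
  rw [this, Category.comp_id]
  rfl

/-- the key compatibility of `pullVia` with the units, on sections -/
theorem via_unit (h : X ⟶ Z) (w : f ≫ g = h) (F : EtDesc.Sh Z) (V : Z.Etale)
    (t : F.obj.obj (op V)) :
    ((EtDesc.pullSh h).obj F).obj.map (pcMor f g h w V).op
      ((EtDesc.pullVia f g h w F).hom.hom.app (op ((EtCoh.bc f).obj ((EtCoh.bc g).obj V)))
        (uS f ((EtDesc.pullSh g).obj F) ((EtCoh.bc g).obj V) (uS g F V t))) = uS h F V t := by
  subst w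
  rw [pullVia_rfl_hom]
  have e := unit_via_rfl f g F
  have e1 := congrArg (fun φ : F ⟶ (EtDesc.pushSh (f ≫ g)).obj ((EtDesc.pullSh (f ≫ g)).obj F) =>
    φ.hom.app (op V) t) e
  refine Eq.trans ?_ e1
  show _ = ((EtDesc.pushCompSh g f).hom.app ((EtDesc.pullSh (f ≫ g)).obj F)).hom.app (op V) _
  rw [pushCompSh_hom_app]
  rfl

end H9FE.ShVia
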