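import Mathlib
import Groth.Prelude.Def_EtBase
import Groth.Prelude.Def_SGA4b
import Groth.Agent.Lib.Helper9.FE.ShDesc1
import Groth.Agent.Lib.Helper9.FE.ShVia
import Groth.Agent.Lib.Helper9.FE.ShAg

/-! helper9: descent of sections of étale sheaves of sets along `f : X' ⟶ X`, the saturation step,
in an abstract setting (`g₁ g₂ : X'' ⟶ X'` with `g₁ ≫ f = q = g₂ ≫ f`, such that any two points
of `U ×_X X'` over the same point of `U` come from a point of `U ×_X X''`):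
if a section `s'` of `f⁻¹ F` satisfies the descent condition, then the locus in `U ×_X X'` where
`s'` agrees with the image of a section `t` of `F` over `U` is saturated for the projection to `U`.
(Everything is kept generic so that the kernel never has to unfold `EtDesc.pullVia`.) -/

set_option autoImplicit false
set_option linter.unusedSectionVars false
set_option linter.style.haveILetI false
set_option backward.isDefEq.respectTransparency false
universe u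
open CategoryTheory CategoryTheory.Limits AlgebraicGeometry Opposite

namespace H9FE.ShDesc
open H9FE.LimTower H9FE.ShLoc H9FE.ShAg H9FE.ShVia H9FE.SecPull

/-- the unique morphism to the terminal object of the small étale site -/
noncomputable abbrev cTop {T : Scheme.{u}} (V : T.Etale) : V ⟶ EtCoh.top T :=
  (EtCore.topIsTerminal T).from V

section R

variable {X'' X' X : Scheme.{u}} (g : X'' ⟶ X') (f : X' ⟶ X) (q : X'' ⟶ X) (w : g ≫ f = q)
  (F : EtDesc.Sh X) (U : X.Etale)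

theorem R1 (t : F.obj.obj (op U)) (N : X''.Etale) (ν : N ⟶ (EtCoh.bc q).obj U) :
    ((EtDesc.pullSh q).obj F).obj.map ν.op (uS q F U t) =
      (EtDesc.pullVia g f q w F).hom.hom.app (op N)
        (((EtDesc.pullSh g).obj ((EtDesc.pullSh f).obj F)).obj.map (ν ≫ pcMor g f q w U).op
          (uS g ((EtDesc.pullSh f).obj F) ((EtCoh.bc f).obj U) (uS f F U t))) := by
  rw [naS, ← mmS, via_unit]

theorem R2 (s' : ((EtDesc.pullSh f).obj F).obj.obj (op (EtCoh.top X'))) (N : X''.Etale)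
    (ν : N ⟶ (EtCoh.bc q).obj U) :
    ((EtDesc.pullSh q).obj F).obj.map (cTop N).op
      ((EtDesc.pullVia g f q w F).hom.hom.app (op (EtCoh.top X''))
        (EtDesc.secPull g ((EtDesc.pullSh f).obj F) s')) =
      (EtDesc.pullVia g f q w F).hom.hom.app (op N)
        (((EtDesc.pullSh g).obj ((EtDesc.pullSh f).obj F)).obj.map (ν ≫ pcMor g f q w U).op
          (uS g ((EtDesc.pullSh f).obj F) ((EtCoh.bc f).obj U)
            (((EtDesc.pullSh f).obj F).obj.map (cTop ((EtCoh.bc f).obj U)).op s'))) := by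
  rw [← naS, uS_map, mmS]
  show (EtDesc.pullVia g f q w F).hom.hom.app (op N)
    (((EtDesc.pullSh g).obj ((EtDesc.pullSh f).obj F)).obj.map (cTop N).op
      (((EtDesc.pullSh g).obj ((EtDesc.pullSh f).obj F)).obj.map (EtCore.bcTopIso g).inv.op
        (uS g ((EtDesc.pullSh f).obj F) (EtCoh.top X') s'))) = _
  rw [mmS]
  have e : cTop N ≫ (EtCore.bcTopIso g).inv =
      (ν ≫ pcMor g f q w U) ≫ (EtCoh.bc g).map (cTop ((EtCoh.bc f).obj U)) :=
    (EtCore.bcTopIsTerminal g).hom_ext _ _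
  rw [e]

end R


section Sat

variable {X'' X' X : Scheme.{u}} (g₁ g₂ : X'' ⟶ X') (f : X' ⟶ X) (q : X'' ⟶ X)
  (w₁ : g₁ ≫ f = q) (w₂ : g₂ ≫ f = q) (F : EtDesc.Sh X)

/-- the descent condition for a global section of `f⁻¹ F` -/
def Cond (s' : ((EtDesc.pullSh f).obj F).obj.obj (op (EtCoh.top X'))) : Prop :=
  (EtDesc.pullVia g₁ f q w₁ F).hom.hom.app (op (EtCoh.top X''))
      (EtDesc.secPull g₁ ((EtDesc.pullSh f).obj F) s') =
    (EtDesc.pullVia g₂ f q w₂ F).hom.hom.app (op (EtCoh.top X''))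
      (EtDesc.secPull g₂ ((EtDesc.pullSh f).obj F) s')

/-- two points of `U ×_X X'` over the same point of `U` come from a point of `U ×_X X''` -/
def HasZeta : Prop :=
  ∀ (U : X.Etale) (b₁ b₂ : ((EtCoh.bc f).obj U).left), p1 f U b₁ = p1 f U b₂ →
    ∃ ζ : ((EtCoh.bc q).obj U).left,
      p1 g₁ ((EtCoh.bc f).obj U) ((pcMor g₁ f q w₁ U).left ζ) = b₁ ∧
      p1 g₂ ((EtCoh.bc f).obj U) ((pcMor g₂ f q w₂ U).left ζ) = b₂

theorem sat_key (s' : ((EtDesc.pullSh f).obj F).obj.obj (op (EtCoh.top X')))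
    (hs' : Cond g₁ g₂ f q w₁ w₂ F s') (U : X.Etale) (t : F.obj.obj (op U))
    (V₁ : X'.Etale) (k₁ : V₁ ⟶ (EtCoh.bc f).obj U)
    (hAB : ((EtDesc.pullSh f).obj F).obj.map k₁.op (uS f F U t) =
      ((EtDesc.pullSh f).obj F).obj.map k₁.op
        (((EtDesc.pullSh f).obj F).obj.map (cTop ((EtCoh.bc f).obj U)).op s'))
    (N : X''.Etale) (μ₁ : N ⟶ (EtCoh.bc g₁).obj V₁)
    (ν : N ⟶ (EtCoh.bc q).obj U)
    (comm : μ₁ ≫ (EtCoh.bc g₁).map k₁ = ν ≫ pcMor g₁ f q w₁ U) :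
    ((EtDesc.pullSh g₂).obj ((EtDesc.pullSh f).obj F)).obj.map
        (ν ≫ pcMor g₂ f q w₂ U).op
        (uS g₂ ((EtDesc.pullSh f).obj F) ((EtCoh.bc f).obj U) (uS f F U t)) =
      ((EtDesc.pullSh g₂).obj ((EtDesc.pullSh f).obj F)).obj.map
        (ν ≫ pcMor g₂ f q w₂ U).op
        (uS g₂ ((EtDesc.pullSh f).obj F) ((EtCoh.bc f).obj U)
          (((EtDesc.pullSh f).obj F).obj.map (cTop ((EtCoh.bc f).obj U)).op s')) := by
  have c1 := R1 g₁ f q w₁ F U t N ν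
  have c2 := R2 g₁ f q w₁ F U s' N ν
  have c3 := R2 g₂ f q w₂ F U s' N ν
  have c4 := R1 g₂ f q w₂ F U t N ν
  have hmid : ((EtDesc.pullSh g₁).obj ((EtDesc.pullSh f).obj F)).obj.map
      (ν ≫ pcMor g₁ f q w₁ U).op
      (uS g₁ ((EtDesc.pullSh f).obj F) ((EtCoh.bc f).obj U) (uS f F U t)) =
      ((EtDesc.pullSh g₁).obj ((EtDesc.pullSh f).obj F)).obj.map
        (ν ≫ pcMor g₁ f q w₁ U).op
        (uS g₁ ((EtDesc.pullSh f).obj F) ((EtCoh.bc f).obj U)
          (((EtDesc.pullSh f).obj F).obj.map (cTop ((EtCoh.bc f).obj U)).op s')) := by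
    rw [← comm, ← mmS, ← mmS, ← uS_map, ← uS_map, hAB]
  have hs'' : (EtDesc.pullVia g₁ f q w₁ F).hom.hom.app (op (EtCoh.top X''))
      (EtDesc.secPull g₁ ((EtDesc.pullSh f).obj F) s') =
    (EtDesc.pullVia g₂ f q w₂ F).hom.hom.app (op (EtCoh.top X''))
      (EtDesc.secPull g₂ ((EtDesc.pullSh f).obj F) s') := hs'
  have e := c4.symm.trans (c1.trans ((congrArg _ hmid).trans (c2.symm.trans
    ((congrArg (fun x => ((EtDesc.pullSh q).obj F).obj.map (cTop N).op x) hs'').trans c3))))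
  exact (sheafIso_app_bijective (EtDesc.pullVia g₂ f q w₂ F) N).injective e

theorem sat_desc (hζ : HasZeta g₁ g₂ f q w₁ w₂)
    (s' : ((EtDesc.pullSh f).obj F).obj.obj (op (EtCoh.top X')))
    (hs' : Cond g₁ g₂ f q w₁ w₂ F s') (U : X.Etale) (t : F.obj.obj (op U))
    (b₁ b₂ : ((EtCoh.bc f).obj U).left) (hb : p1 f U b₁ = p1 f U b₂)
    (h1 : b₁ ∈ Ag ((EtDesc.pullSh f).obj F) (uS f F U t)
      (((EtDesc.pullSh f).obj F).obj.map (cTop ((EtCoh.bc f).obj U)).op s')) :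
    b₂ ∈ Ag ((EtDesc.pullSh f).obj F) (uS f F U t)
      (((EtDesc.pullSh f).obj F).obj.map (cTop ((EtCoh.bc f).obj U)).op s') := by
  let F' := (EtDesc.pullSh f).obj F
  let Y := (EtCoh.bc f).obj U
  let A := uS f F U t
  let B := F'.obj.map (cTop Y).op s'
  obtain ⟨V₁, k₁, v₁, hk₁, hAB⟩ := h1
  obtain ⟨ζ, hζ₁, hζ₂⟩ := hζ U b₁ b₂ hb
  let m₁ : (EtCoh.bc q).obj U ⟶ (EtCoh.bc g₁).obj Y := pcMor g₁ f q w₁ U
  let m₂ : (EtCoh.bc q).obj U ⟶ (EtCoh.bc g₂).obj Y := pcMor g₂ f q w₂ U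
  have sq := EtCoh.isPullback_bc_map g₁ k₁
  have hx : (pullback.fst Y.hom g₁ : ((EtCoh.bc g₁).obj Y).left ⟶ Y.left) (m₁.left ζ) =
      k₁.left v₁ := hζ₁.trans hk₁.symm
  obtain ⟨z, hz1, -⟩ := Scheme.Pullback.exists_preimage_pullback
    (f := (pullback.fst Y.hom g₁ : ((EtCoh.bc g₁).obj Y).left ⟶ Y.left)) (g := k₁.left)
    (m₁.left ζ) v₁ hx
  have hz : ((EtCoh.bc g₁).map k₁).left (sq.isoPullback.inv z) = m₁.left ζ := by
    have e0 := congrArg (fun ψ : pullback (pullback.fst Y.hom g₁ :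
      ((EtCoh.bc g₁).obj Y).left ⟶ Y.left) k₁.left ⟶ ((EtCoh.bc g₁).obj Y).left => ψ z)
      (IsPullback.isoPullback_inv_fst sq)
    exact e0.trans hz1
  obtain ⟨N, μ₁, ν, n, comm, -, hn₂⟩ :=
    H9FE.SecPull.exists_fp ((EtCoh.bc g₁).map k₁) m₁ _ ζ hz
  have h0 := sat_key g₁ g₂ f q w₁ w₂ F s' hs' U t V₁ k₁ hAB N μ₁ ν comm
  obtain ⟨V', h, z', hz'0, hz'⟩ := exists_local_eq' g₂ F' Y A B N (ν ≫ m₂) h0 n
  refine ⟨V', h, (pullback.fst V'.hom g₂ : ((EtCoh.bc g₂).obj V').left ⟶ V'.left) z', ?_, hz'0⟩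
  have e1 := (EtCoh.isPullback_bc_map g₂ h).w
  have e2 : (pullback.fst Y.hom g₂ : ((EtCoh.bc g₂).obj Y).left ⟶ Y.left)
      (((EtCoh.bc g₂).map h).left z') =
      h.left ((pullback.fst V'.hom g₂ : ((EtCoh.bc g₂).obj V').left ⟶ V'.left) z') :=
    congrArg (fun ψ : ((EtCoh.bc g₂).obj V').left ⟶ Y.left => ψ z') e1
  have e3 : (ν ≫ m₂).left n = m₂.left ζ := congrArg m₂.left hn₂
  refine e2.symm.trans ((congrArg _ (hz'.trans e3)).trans ?_)
  exact hζ₂

end Sat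

end H9FE.ShDesc
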