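import Mathlib
import Groth.Prelude.Def_EtBase
import Groth.Prelude.Def_SGA4b
import Groth.Agent.Lib.Helper9.FE.ShDesc2

/-! helper9: descent of sections of étale sheaves of sets along a universally submersive morphism
`f : X' ⟶ X` (abstract setting of `ShDesc2`): injectivity of the unit on all sections, local
descent of a section satisfying the descent condition (through saturated open agreement loci),
compatibility of the transitivity isomorphisms with pullback of global sections, and the main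
exactness statement `main_gen`. -/

set_option autoImplicit false
set_option linter.unusedSectionVars false
set_option linter.style.haveILetI false
set_option backward.isDefEq.respectTransparency false
universe u
open CategoryTheory CategoryTheory.Limits AlgebraicGeometry Opposite

namespace H9FE.ShDesc
open H9FE.LimTower H9FE.ShLoc H9FE.ShAg H9FE.ShVia H9FE.SecPull Groth.Agent.Lib.Helper5

section Inj

variable {X' X : Scheme.{u}} (f : X' ⟶ X) (F : EtDesc.Sh X)
  (hquot : ∀ U : X.Etale, Topology.IsQuotientMap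
    (pullback.fst U.hom f : ((EtCoh.bc f).obj U).left ⟶ U.left).base)

include hquot in
theorem unit_injective (U : X.Etale) : Function.Injective (uS f F U) := by
  intro t₁ t₂ ht
  apply eq_of_ag F t₁ t₂
  intro u
  obtain ⟨b, hb⟩ := (hquot U).surjective u
  have h0 : ((EtDesc.pullSh f).obj F).obj.map (𝟙 ((EtCoh.bc f).obj U)).op (uS f F U t₁) =
      ((EtDesc.pullSh f).obj F).obj.map (𝟙 ((EtCoh.bc f).obj U)).op (uS f F U t₂) := by rw [ht]
  obtain ⟨V', h, z, hz0, hz⟩ := exists_local_eq' f F U t₁ t₂ ((EtCoh.bc f).obj U) (𝟙 _) h0 b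
  refine ⟨V', h, (pullback.fst V'.hom f : ((EtCoh.bc f).obj V').left ⟶ V'.left) z, ?_, hz0⟩
  have e1 := (EtCoh.isPullback_bc_map f h).w
  have e2 : (pullback.fst U.hom f : ((EtCoh.bc f).obj U).left ⟶ U.left)
      (((EtCoh.bc f).map h).left z) =
      h.left ((pullback.fst V'.hom f : ((EtCoh.bc f).obj V').left ⟶ V'.left) z) :=
    congrArg (fun ψ : ((EtCoh.bc f).obj V').left ⟶ U.left => ψ z) e1
  exact e2.symm.trans ((congrArg _ hz).trans hb)

end Inj

section Via

variable {X'' X' X : Scheme.{u}} (g : X'' ⟶ X') (f : X' ⟶ X) (q : X'' ⟶ X) (w : g ≫ f = q)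
  (F : EtDesc.Sh X)

theorem via_secPull (τ : F.obj.obj (op (EtCoh.top X))) :
    (EtDesc.pullVia g f q w F).hom.hom.app (op (EtCoh.top X''))
      (EtDesc.secPull g ((EtDesc.pullSh f).obj F) (EtDesc.secPull f F τ)) =
      EtDesc.secPull q F τ := by
  have c1 := R1 g f q w F (EtCoh.top X) τ (EtCoh.top X'') (EtCore.bcTopIso q).inv
  refine Eq.trans ?_ c1.symm
  refine congrArg _ ?_
  show ((EtDesc.pullSh g).obj ((EtDesc.pullSh f).obj F)).obj.map (EtCore.bcTopIso g).inv.op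
    (uS g ((EtDesc.pullSh f).obj F) (EtCoh.top X')
      (((EtDesc.pullSh f).obj F).obj.map (EtCore.bcTopIso f).inv.op (uS f F (EtCoh.top X) τ))) = _
  rw [uS_map, mmS]
  have e : (EtCore.bcTopIso g).inv ≫ (EtCoh.bc g).map (EtCore.bcTopIso f).inv =
      (EtCore.bcTopIso q).inv ≫ pcMor g f q w (EtCoh.top X) := by
    rw [← cancel_mono ((EtCoh.bc g).map (EtCore.bcTopIso f).hom)]
    exact (EtCore.bcTopIsTerminal g).hom_ext _ _
  rw [e]

end Via

section Bridge

theorem iso_bridge {T : Scheme.{u}} {A B C : EtDesc.Sh T} (α : A ≅ C) (β : B ≅ C) (V : T.Etale)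
    (a : A.obj.obj (op V)) (b : B.obj.obj (op V)) :
    (α ≪≫ β.symm).hom.hom.app (op V) a = b ↔
      α.hom.hom.app (op V) a = β.hom.hom.app (op V) b := by
  have h1 : (α ≪≫ β.symm).hom.hom.app (op V) a =
      β.inv.hom.app (op V) (α.hom.hom.app (op V) a) := rfl
  rw [h1]
  constructor
  · intro h
    rw [← h]
    exact (types_congr_hom (congrArg (fun φ : C ⟶ C => φ.hom.app (op V)) β.inv_hom_id) _).symm
  · intro h
    rw [h]
    exact types_congr_hom (congrArg (fun φ : B ⟶ B => φ.hom.app (op V)) β.hom_inv_id) b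

end Bridge

section Lift

variable {X'' X' X : Scheme.{u}} (g₁ g₂ : X'' ⟶ X') (f : X' ⟶ X) (q : X'' ⟶ X)
  (w₁ : g₁ ≫ f = q) (w₂ : g₂ ≫ f = q) (F : EtDesc.Sh X)
  (hquot : ∀ U : X.Etale, Topology.IsQuotientMap
    (pullback.fst U.hom f : ((EtCoh.bc f).obj U).left ⟶ U.left).base)
  (hζ : HasZeta g₁ g₂ f q w₁ w₂)

include hquot hζ in
theorem local_lift (s' : ((EtDesc.pullSh f).obj F).obj.obj (op (EtCoh.top X')))
    (hs' : Cond g₁ g₂ f q w₁ w₂ F s') (x₀ : (EtCoh.top X).left) :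
    ∃ (E : X.Etale) (k : E ⟶ EtCoh.top X) (x' : E.left), k.left x' = x₀ ∧
      ∃ t : F.obj.obj (op E), uS f F E t =
        ((EtDesc.pullSh f).obj F).obj.map (cTop ((EtCoh.bc f).obj E)).op s' := by
  let F' := (EtDesc.pullSh f).obj F
  let T₀ := EtCoh.top X
  obtain ⟨b₀, hb₀⟩ := (hquot T₀).surjective x₀
  let σ : F'.obj.obj (op ((EtCoh.bc f).obj T₀)) :=
    F'.obj.map (cTop ((EtCoh.bc f).obj T₀)).op s'
  obtain ⟨T', g, x', hx', U, φ, t, ht⟩ := exists_local_unit f F ((EtCoh.bc f).obj T₀) σ b₀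
  let kU : U ⟶ T₀ := cTop U
  let Y := (EtCoh.bc f).obj U
  let p : Y.left ⟶ U.left := pullback.fst U.hom f
  let A : F'.obj.obj (op Y) := uS f F U t
  let B : F'.obj.obj (op Y) := F'.obj.map (cTop Y).op s'
  let b' : Y.left := φ.left x'
  have hb' : b' ∈ Ag F' A B := by
    refine ⟨T', φ, x', rfl, ?_⟩
    have e : g ≫ cTop ((EtCoh.bc f).obj T₀) = φ ≫ cTop Y :=
      (EtCore.topIsTerminal X').hom_ext _ _
    show F'.obj.map φ.op (uS f F U t) = F'.obj.map φ.op (F'.obj.map (cTop Y).op s')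
    rw [← ht]
    show F'.obj.map g.op (F'.obj.map (cTop ((EtCoh.bc f).obj T₀)).op s') = _
    rw [mmS, mmS, e]
  let E' : Set Y.left := Ag F' A B
  let E₀ : Set U.left := p '' E'
  have hsat : p ⁻¹' E₀ = E' := by
    ext b₂
    constructor
    · rintro ⟨b₁, hb₁, hpb⟩
      exact sat_desc g₁ g₂ f q w₁ w₂ F hζ s' hs' U t b₁ b₂ hpb hb₁
    · intro hb₂
      exact ⟨b₂, hb₂, rfl⟩
  have hopen : IsOpen E₀ := by
    rw [← (hquot U).isOpen_preimage]
    show IsOpen (p ⁻¹' E₀)
    rw [hsat]; exact isOpen_ag F' A B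
  let Eo : U.left.Opens := ⟨E₀, hopen⟩
  haveI : Etale U.hom := U.prop
  let E : X.Etale := EtSiteBasic.ofEtale (Eo.ι ≫ U.hom)
  let j : E ⟶ U := MorphismProperty.Over.homMk Eo.ι rfl trivial
  have hu₀ : p b' ∈ E₀ := ⟨b', hb', rfl⟩
  let x'' : E.left := (⟨p b', hu₀⟩ : ↥Eo)
  have hx'' : j.left x'' = p b' := rfl
  refine ⟨E, j ≫ kU, x'', ?_, F.obj.map j.op t, ?_⟩
  · show kU.left (j.left x'') = x₀
    rw [hx'']
    have e1 := (EtCoh.isPullback_bc_map f kU).w
    have e2 : (pullback.fst T₀.hom f : ((EtCoh.bc f).obj T₀).left ⟶ T₀.left)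
        (((EtCoh.bc f).map kU).left b') = kU.left (p b') :=
      congrArg (fun ψ : Y.left ⟶ T₀.left => ψ b') e1
    have hφ : φ ≫ (EtCoh.bc f).map kU = g := (EtCore.bcTopIsTerminal f).hom_ext _ _
    have e3 : ((EtCoh.bc f).map kU).left b' = b₀ := by
      have := congrArg (fun ψ : T' ⟶ (EtCoh.bc f).obj T₀ => ψ.left x') hφ
      exact this.trans hx'
    rw [← e2, e3]; exact hb₀
  · rw [uS_map]
    have e : cTop ((EtCoh.bc f).obj E) = (EtCoh.bc f).map j ≫ cTop Y :=
      (EtCore.topIsTerminal X').hom_ext _ _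
    rw [e, ← mmS]
    show F'.obj.map ((EtCoh.bc f).map j).op A = F'.obj.map ((EtCoh.bc f).map j).op B
    apply eq_of_ag F'
    intro z
    rw [ag_map]
    show ((EtCoh.bc f).map j).left z ∈ E'
    rw [← hsat]
    show p (((EtCoh.bc f).map j).left z) ∈ E₀
    have e1 := (EtCoh.isPullback_bc_map f j).w
    have e2 : p (((EtCoh.bc f).map j).left z) =
        j.left ((pullback.fst E.hom f : ((EtCoh.bc f).obj E).left ⟶ E.left) z) :=
      congrArg (fun ψ : ((EtCoh.bc f).obj E).left ⟶ U.left => ψ z) e1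
    rw [e2]
    exact ((pullback.fst E.hom f : ((EtCoh.bc f).obj E).left ⟶ E.left) z).2

include hquot hζ in
theorem main_gen
    (κ : (EtDesc.pullSh g₁).obj ((EtDesc.pullSh f).obj F) ≅
      (EtDesc.pullSh g₂).obj ((EtDesc.pullSh f).obj F))
    (hκ : κ = EtDesc.pullVia g₁ f q w₁ F ≪≫ (EtDesc.pullVia g₂ f q w₂ F).symm)
    (V : X''.Etale) (hV : V = EtCoh.top X'')
    (σ₁ : EtDesc.sect ((EtDesc.pullSh f).obj F) (EtCoh.top X') →
      ((EtDesc.pullSh g₁).obj ((EtDesc.pullSh f).obj F)).obj.obj (op V))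
    (σ₂ : EtDesc.sect ((EtDesc.pullSh f).obj F) (EtCoh.top X') →
      ((EtDesc.pullSh g₂).obj ((EtDesc.pullSh f).obj F)).obj.obj (op V))
    (h₁ : ∀ s', HEq (σ₁ s') (EtDesc.secPull g₁ ((EtDesc.pullSh f).obj F) s'))
    (h₂ : ∀ s', HEq (σ₂ s') (EtDesc.secPull g₂ ((EtDesc.pullSh f).obj F) s')) :
    Function.Injective (EtDesc.secPull f F) ∧
    Set.range (EtDesc.secPull f F) =
      {s' | κ.hom.hom.app (op V) (σ₁ s') = σ₂ s'} := by
  subst hκ
  subst hV
  have e₁ : σ₁ = EtDesc.secPull g₁ ((EtDesc.pullSh f).obj F) :=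
    funext fun s' => eq_of_heq (h₁ s')
  have e₂ : σ₂ = EtDesc.secPull g₂ ((EtDesc.pullSh f).obj F) :=
    funext fun s' => eq_of_heq (h₂ s')
  subst e₁ e₂
  let F' := (EtDesc.pullSh f).obj F
  refine ⟨(secPull_injective_iff f F).2 (unit_injective f F hquot (EtCoh.top X)), ?_⟩
  ext s'
  constructor
  · rintro ⟨τ, rfl⟩
    exact (iso_bridge _ _ _ _ _).2
      ((via_secPull g₁ f q w₁ F τ).trans (via_secPull g₂ f q w₂ F τ).symm)
  · intro hs
    have hc : Cond g₁ g₂ f q w₁ w₂ F s' := (iso_bridge _ _ _ _ _).1 hs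
    let u := (EtDesc.adjSh f).unit.app F
    haveI : Mono u := (EtSiteBasic.mono_iff u).2 (fun U => unit_injective f F hquot U)
    let σ : ((EtDesc.pushSh f).obj F').obj.obj (op (EtCoh.top X)) :=
      F'.obj.map (cTop ((EtCoh.bc f).obj (EtCoh.top X))).op s'
    obtain ⟨τ, hτ⟩ := H9FE.SecPull.glue u σ (fun x₀ => by
      obtain ⟨E, k, x', hx', t, ht⟩ := local_lift g₁ g₂ f q w₁ w₂ F hquot hζ s' hc x₀
      refine ⟨E, k, x', hx', t, ?_⟩
      refine ht.trans ?_
      show F'.obj.map (cTop ((EtCoh.bc f).obj E)).op s' =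
        F'.obj.map ((EtCoh.bc f).map k).op
          (F'.obj.map (cTop ((EtCoh.bc f).obj (EtCoh.top X))).op s')
      have e : cTop ((EtCoh.bc f).obj E) =
          (EtCoh.bc f).map k ≫ cTop ((EtCoh.bc f).obj (EtCoh.top X)) :=
        (EtCore.topIsTerminal X').hom_ext _ _
      rw [mmS, e])
    refine ⟨τ, ?_⟩
    show F'.obj.map (EtCore.bcTopIso f).inv.op (uS f F (EtCoh.top X) τ) = s'
    have hτ' : uS f F (EtCoh.top X) τ =
      F'.obj.map (cTop ((EtCoh.bc f).obj (EtCoh.top X))).op s' := hτ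
    rw [hτ', mmS]
    have e : (EtCore.bcTopIso f).inv ≫ cTop ((EtCoh.bc f).obj (EtCoh.top X)) =
        𝟙 (EtCoh.top X') := (EtCore.topIsTerminal X').hom_ext _ _
    rw [e]
    exact types_congr_hom (F'.obj.map_id (op (EtCoh.top X'))) s'

end Lift

end H9FE.ShDesc
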