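import Mathlib
import Groth.Prelude.Def_EtBase
import Groth.Prelude.Def_SGA4b
import Groth.Agent.Lib.Helper9.FE.ShDesc3

/-! helper9: descent of sections of étale sheaves of sets along a universally submersive morphism,
relative version (sections over an arbitrary object `U₀` of the small étale site of the base), in
the abstract setting of `ShDesc2`: naturality of `pcMor`, the pullback `pb` of a section of `f⁻¹F`
over `U₀ ×_X X'` to `U₀ ×_X X''`, saturation of agreement loci, a local structure lemma for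
sections of `f⁻¹F` over a base change, and the descent statement `desc_U`. -/

set_option autoImplicit false
set_option linter.unusedSectionVars false
set_option linter.style.haveILetI false
set_option backward.isDefEq.respectTransparency false
universe u
open CategoryTheory CategoryTheory.Limits AlgebraicGeometry Opposite

namespace H9FE.ShDescU
open H9FE.LimTower H9FE.ShLoc H9FE.ShAg H9FE.ShVia H9FE.SecPull H9FE.ShDesc
open Groth.Agent.Lib.Helper5 Groth.Agent.S0072.Aux H9FE.StalkPullGerm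

section PcNat

variable {X Y Z : Scheme.{u}} (f : X ⟶ Y) (g : Y ⟶ Z) (h : X ⟶ Z) (w : f ≫ g = h)

theorem pcMor_nat {U U₀ : Z.Etale} (k : U ⟶ U₀) :
    (EtCoh.bc h).map k ≫ pcMor f g h w U₀ =
      pcMor f g h w U ≫ (EtCoh.bc f).map ((EtCoh.bc g).map k) := by
  apply bc_hom_ext f
  apply p_hom_ext g U₀
  · show ((((EtCoh.bc h).map k).left ≫ (pcMor f g h w U₀).left) ≫ p1 f _) ≫ p1 g U₀ =
      (((pcMor f g h w U).left ≫ ((EtCoh.bc f).map ((EtCoh.bc g).map k)).left) ≫ p1 f _) ≫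
        p1 g U₀
    simp only [Category.assoc]
    rw [pcMor_p1_p1, bc_map_p1, bc_map_p1_assoc, bc_map_p1, pcMor_p1_p1_assoc]
  · show ((((EtCoh.bc h).map k).left ≫ (pcMor f g h w U₀).left) ≫ p1 f _) ≫ p2 g U₀ =
      (((pcMor f g h w U).left ≫ ((EtCoh.bc f).map ((EtCoh.bc g).map k)).left) ≫ p1 f _) ≫
        p2 g U₀
    simp only [Category.assoc]
    rw [pcMor_p1_p2, bc_map_p2_assoc, bc_map_p1_assoc, bc_map_p2, pcMor_p1_p2]

end PcNat

section R

variable {X'' X' X : Scheme.{u}} (g : X'' ⟶ X') (f : X' ⟶ X) (q : X'' ⟶ X) (w : g ≫ f = q)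
  (F : EtDesc.Sh X) (U₀ : X.Etale)

/-- the pullback of a section of `f⁻¹F` over `U₀ ×_X X'` to a section of `q⁻¹F` over
`U₀ ×_X X''` -/
noncomputable def pb (s' : ((EtDesc.pullSh f).obj F).obj.obj (op ((EtCoh.bc f).obj U₀))) :
    ((EtDesc.pullSh q).obj F).obj.obj (op ((EtCoh.bc q).obj U₀)) :=
  (EtDesc.pullVia g f q w F).hom.hom.app (op ((EtCoh.bc q).obj U₀))
    (((EtDesc.pullSh g).obj ((EtDesc.pullSh f).obj F)).obj.map (pcMor g f q w U₀).op
      (uS g ((EtDesc.pullSh f).obj F) ((EtCoh.bc f).obj U₀) s'))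

theorem R2' (s' : ((EtDesc.pullSh f).obj F).obj.obj (op ((EtCoh.bc f).obj U₀)))
    {U : X.Etale} (k : U ⟶ U₀) (N : X''.Etale) (ν : N ⟶ (EtCoh.bc q).obj U) :
    ((EtDesc.pullSh q).obj F).obj.map (ν ≫ (EtCoh.bc q).map k).op (pb g f q w F U₀ s') =
      (EtDesc.pullVia g f q w F).hom.hom.app (op N)
        (((EtDesc.pullSh g).obj ((EtDesc.pullSh f).obj F)).obj.map (ν ≫ pcMor g f q w U).op
          (uS g ((EtDesc.pullSh f).obj F) ((EtCoh.bc f).obj U)
            (((EtDesc.pullSh f).obj F).obj.map ((EtCoh.bc f).map k).op s'))) := by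
  unfold pb
  rw [← naS, mmS, uS_map, mmS]
  have e : (ν ≫ (EtCoh.bc q).map k) ≫ pcMor g f q w U₀ =
      (ν ≫ pcMor g f q w U) ≫ (EtCoh.bc g).map ((EtCoh.bc f).map k) := by
    rw [Category.assoc, pcMor_nat, Category.assoc]
  rw [e]

theorem pb_unit (t : F.obj.obj (op U₀)) :
    pb g f q w F U₀ (uS f F U₀ t) = uS q F U₀ t := by
  have c1 := R1 g f q w F U₀ t ((EtCoh.bc q).obj U₀) (𝟙 _)
  rw [Category.id_comp] at c1
  refine c1.symm.trans ?_
  exact types_congr_hom (((EtDesc.pullSh q).obj F).obj.map_id (op ((EtCoh.bc q).obj U₀))) _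

end R

section Sat

variable {X'' X' X : Scheme.{u}} (g₁ g₂ : X'' ⟶ X') (f : X' ⟶ X) (q : X'' ⟶ X)
  (w₁ : g₁ ≫ f = q) (w₂ : g₂ ≫ f = q) (F : EtDesc.Sh X) (U₀ : X.Etale)

theorem sat_key' (s' : ((EtDesc.pullSh f).obj F).obj.obj (op ((EtCoh.bc f).obj U₀)))
    (hs' : pb g₁ f q w₁ F U₀ s' = pb g₂ f q w₂ F U₀ s') {U : X.Etale} (k : U ⟶ U₀)
    (t : F.obj.obj (op U))
    (V₁ : X'.Etale) (k₁ : V₁ ⟶ (EtCoh.bc f).obj U)
    (hAB : ((EtDesc.pullSh f).obj F).obj.map k₁.op (uS f F U t) =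
      ((EtDesc.pullSh f).obj F).obj.map k₁.op
        (((EtDesc.pullSh f).obj F).obj.map ((EtCoh.bc f).map k).op s'))
    (N : X''.Etale) (μ₁ : N ⟶ (EtCoh.bc g₁).obj V₁)
    (ν : N ⟶ (EtCoh.bc q).obj U)
    (comm : μ₁ ≫ (EtCoh.bc g₁).map k₁ = ν ≫ pcMor g₁ f q w₁ U) :
    ((EtDesc.pullSh g₂).obj ((EtDesc.pullSh f).obj F)).obj.map
        (ν ≫ pcMor g₂ f q w₂ U).op
        (uS g₂ ((EtDesc.pullSh f).obj F) ((EtCoh.bc f).obj U) (uS f F U t)) =
      ((EtDesc.pullSh g₂).obj ((EtDesc.pullSh f).obj F)).obj.map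
        (ν ≫ pcMor g₂ f q w₂ U).op
        (uS g₂ ((EtDesc.pullSh f).obj F) ((EtCoh.bc f).obj U)
          (((EtDesc.pullSh f).obj F).obj.map ((EtCoh.bc f).map k).op s')) := by
  have c1 := R1 g₁ f q w₁ F U t N ν
  have c2 := R2' g₁ f q w₁ F U₀ s' k N ν
  have c3 := R2' g₂ f q w₂ F U₀ s' k N ν
  have c4 := R1 g₂ f q w₂ F U t N ν
  have hmid : ((EtDesc.pullSh g₁).obj ((EtDesc.pullSh f).obj F)).obj.map
      (ν ≫ pcMor g₁ f q w₁ U).op
      (uS g₁ ((EtDesc.pullSh f).obj F) ((EtCoh.bc f).obj U) (uS f F U t)) =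
      ((EtDesc.pullSh g₁).obj ((EtDesc.pullSh f).obj F)).obj.map
        (ν ≫ pcMor g₁ f q w₁ U).op
        (uS g₁ ((EtDesc.pullSh f).obj F) ((EtCoh.bc f).obj U)
          (((EtDesc.pullSh f).obj F).obj.map ((EtCoh.bc f).map k).op s')) := by
    rw [← comm, ← mmS, ← mmS, ← uS_map, ← uS_map, hAB]
  have e := c4.symm.trans (c1.trans ((congrArg _ hmid).trans (c2.symm.trans
    ((congrArg (fun x => ((EtDesc.pullSh q).obj F).obj.map (ν ≫ (EtCoh.bc q).map k).op x)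
      hs').trans c3))))
  exact (sheafIso_app_bijective (EtDesc.pullVia g₂ f q w₂ F) N).injective e

theorem sat_desc' (hζ : HasZeta g₁ g₂ f q w₁ w₂)
    (s' : ((EtDesc.pullSh f).obj F).obj.obj (op ((EtCoh.bc f).obj U₀)))
    (hs' : pb g₁ f q w₁ F U₀ s' = pb g₂ f q w₂ F U₀ s') {U : X.Etale} (k : U ⟶ U₀)
    (t : F.obj.obj (op U))
    (b₁ b₂ : ((EtCoh.bc f).obj U).left) (hb : p1 f U b₁ = p1 f U b₂)
    (h1 : b₁ ∈ Ag ((EtDesc.pullSh f).obj F) (uS f F U t)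
      (((EtDesc.pullSh f).obj F).obj.map ((EtCoh.bc f).map k).op s')) :
    b₂ ∈ Ag ((EtDesc.pullSh f).obj F) (uS f F U t)
      (((EtDesc.pullSh f).obj F).obj.map ((EtCoh.bc f).map k).op s') := by
  let F' := (EtDesc.pullSh f).obj F
  let Y := (EtCoh.bc f).obj U
  let A := uS f F U t
  let B := F'.obj.map ((EtCoh.bc f).map k).op s'
  obtain ⟨V₁, k₁, v₁, hk₁, hAB⟩ := h1
  obtain ⟨ζ, hζ₁, hζ₂⟩ := hζ U b₁ b₂ hb
  let m₁ : (EtCoh.bc q).obj U ⟶ (EtCoh.bc g₁).obj Y := pcMor g₁ f q w₁ U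
  let m₂ : (EtCoh.bc q).obj U ⟶ (EtCoh.bc g₂).obj Y := pcMor g₂ f q w₂ U
  have sq := EtCoh.isPullback_bc_map g₁ k₁
  have hx : (pullback.fst Y.hom g₁ : ((EtCoh.bc g₁).obj Y).left ⟶ Y.left) (m₁.left ζ) =
      k₁.left v₁ := hζ₁.trans hk₁.symm
  obtain ⟨z, hz1, -⟩ := Scheme.Pullback.exists_preimage_pullback
    (f := (pullback.fst Y.hom g₁ : ((EtCoh.bc g₁).obj Y).left ⟶ Y.left)) (g := k₁.left)
    (m₁.left ζ) v₁ hx
  have hz : ((EtCoh.bc g₁).map k₁).left (sq.isoPullback.inv z) = m₁.left ζ := by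
    have e0 := congrArg (fun ψ : pullback (pullback.fst Y.hom g₁ :
      ((EtCoh.bc g₁).obj Y).left ⟶ Y.left) k₁.left ⟶ ((EtCoh.bc g₁).obj Y).left => ψ z)
      (IsPullback.isoPullback_inv_fst sq)
    exact e0.trans hz1
  obtain ⟨N, μ₁, ν, n, comm, -, hn₂⟩ :=
    H9FE.SecPull.exists_fp ((EtCoh.bc g₁).map k₁) m₁ _ ζ hz
  have h0 := sat_key' g₁ g₂ f q w₁ w₂ F U₀ s' hs' k t V₁ k₁ hAB N μ₁ ν comm
  obtain ⟨V', h, z', hz'0, hz'⟩ := exists_local_eq' g₂ F' Y A B N (ν ≫ m₂) h0 n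
  refine ⟨V', h, (pullback.fst V'.hom g₂ : ((EtCoh.bc g₂).obj V').left ⟶ V'.left) z', ?_, hz'0⟩
  have e1 := (EtCoh.isPullback_bc_map g₂ h).w
  have e2 : (pullback.fst Y.hom g₂ : ((EtCoh.bc g₂).obj Y).left ⟶ Y.left)
      (((EtCoh.bc g₂).map h).left z') =
      h.left ((pullback.fst V'.hom g₂ : ((EtCoh.bc g₂).obj V').left ⟶ V'.left) z') :=
    congrArg (fun ψ : ((EtCoh.bc g₂).obj V').left ⟶ Y.left => ψ z') e1
  have e3 : (ν ≫ m₂).left n = m₂.left ζ := congrArg m₂.left hn₂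
  refine e2.symm.trans ((congrArg _ (hz'.trans e3)).trans ?_)
  exact hζ₂

end Sat

section LocOver

variable {X Y : Scheme.{u}} (f : X ⟶ Y) (G : EtDesc.Sh Y)

/-- a section of `f⁻¹G` over a base change `V₀ ×_Y X` agrees, near any given point, with the image
of a section of `G` over an étale `V₀`-scheme -/
theorem exists_local_unit_over (V₀ : Y.Etale)
    (s' : ((EtDesc.pullSh f).obj G).obj.obj (op ((EtCoh.bc f).obj V₀)))
    (x : ((EtCoh.bc f).obj V₀).left) :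
    ∃ (V : Y.Etale) (k : V ⟶ V₀) (t : G.obj.obj (op V)) (b : ((EtCoh.bc f).obj V).left),
      ((EtCoh.bc f).map k).left b = x ∧
      b ∈ Ag ((EtDesc.pullSh f).obj G) (uS f G V t)
        (((EtDesc.pullSh f).obj G).obj.map ((EtCoh.bc f).map k).op s') := by
  let T := (EtCoh.bc f).obj V₀
  obtain ⟨Ω, _, _, ξ, y, hy⟩ := H9FE.LimLoc.exists_geom_pt T x
  let Φ := Scheme.pointSmallEtale ξ
  let Φ' := Scheme.pointSmallEtale (ξ ≫ f)
  let P := ((EtDesc.pullSh f).obj G).obj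
  let γ := Φ.toPresheafFiber T y P s'
  obtain ⟨V₁, v₁, s, hs⟩ := Φ'.toPresheafFiber_jointly_surjective (P := G.obj)
    ((EtStalkPull.stalkPullShIso f ξ).hom.app G γ)
  let u₀ : Φ'.fiber.obj V₀ := (EtStalkPull.fiberIso f ξ).hom.app V₀ y
  have hu₀ : liftPt f (ξ ≫ f) ξ rfl V₀ u₀ = y := by
    rw [← fiberIso_inv]
    exact types_congr_hom ((EtStalkPull.fiberIso f ξ).hom_inv_id_app V₀) _
  let a : Φ'.fiber.Elements := ⟨V₁, v₁⟩
  let b : Φ'.fiber.Elements := ⟨V₀, u₀⟩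
  let m := IsCofiltered.min a b
  let g₁ : m ⟶ a := IsCofiltered.minToLeft a b
  let g₂ : m ⟶ b := IsCofiltered.minToRight a b
  let V : Y.Etale := m.1
  let w : Φ'.fiber.obj V := m.2
  let k : V ⟶ V₀ := g₂.1
  let t : G.obj.obj (op V) := G.obj.map g₁.1.op s
  have ht : Φ'.toPresheafFiber V w G.obj t =
      (EtStalkPull.stalkPullShIso f ξ).hom.app G γ := by
    have := types_congr_hom (Φ'.toPresheafFiber_w g₁.1 m.2 G.obj) s
    refine this.trans ?_
    have h2 : Φ'.fiber.map g₁.1 m.2 = v₁ := g₁.2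
    rw [h2]; exact hs
  let y' : Φ.fiber.obj ((EtCoh.bc f).obj V) := liftPt f (ξ ≫ f) ξ rfl V w
  have h1 : γ = Φ.toPresheafFiber ((EtCoh.bc f).obj V) y' P (uS f G V t) := by
    have e1 := types_congr_hom (stalkPullShIso_inv_germ f ξ G V w) t
    have e3 : (EtStalkPull.stalkPullShIso f ξ).inv.app G
        ((EtStalkPull.stalkPullShIso f ξ).hom.app G γ) = γ :=
      types_congr_hom ((EtStalkPull.stalkPullShIso f ξ).hom_inv_id_app G) γ
    rw [← ht] at e3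
    exact e3.symm.trans e1
  have hy' : Φ.fiber.map ((EtCoh.bc f).map k) y' = y := by
    have e6 := liftPt_map f (ξ ≫ f) ξ rfl k w
    have h2 : Φ'.fiber.map k w = u₀ := g₂.2
    rw [h2, hu₀] at e6
    exact e6
  have h2 : γ = Φ.toPresheafFiber ((EtCoh.bc f).obj V) y' P
      (P.map ((EtCoh.bc f).map k).op s') := by
    have := types_congr_hom (Φ.toPresheafFiber_w ((EtCoh.bc f).map k) y' P) s'
    refine Eq.trans ?_ this.symm
    show Φ.toPresheafFiber T y P s' = Φ.toPresheafFiber T _ P s'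
    rw [hy']
  have e5 := h1.symm.trans h2
  rw [Φ.toPresheafFiber_eq_iff'] at e5
  obtain ⟨T', k', y'', hk', hres⟩ := e5
  refine ⟨V, k, t, y'.left (default : Spec (CommRingCat.of Ω)), ?_, T', k',
    y''.left (default : Spec (CommRingCat.of Ω)), ?_, hres⟩
  · rw [← hy]
    have e7 : y'.left ≫ ((EtCoh.bc f).map k).left = y.left :=
      congrArg (fun w => w.left) hy'
    exact congrArg (fun w : Spec (CommRingCat.of Ω) ⟶ T.left =>
      w (default : Spec (CommRingCat.of Ω))) e7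
  · have e8 : y''.left ≫ k'.left = y'.left := congrArg (fun w => w.left) hk'
    exact congrArg (fun w : Spec (CommRingCat.of Ω) ⟶ ((EtCoh.bc f).obj V).left =>
      w (default : Spec (CommRingCat.of Ω))) e8

end LocOver

section Lift

variable {X'' X' X : Scheme.{u}} (g₁ g₂ : X'' ⟶ X') (f : X' ⟶ X) (q : X'' ⟶ X)
  (w₁ : g₁ ≫ f = q) (w₂ : g₂ ≫ f = q) (F : EtDesc.Sh X)
  (hquot : ∀ U : X.Etale, Topology.IsQuotientMap
    (pullback.fst U.hom f : ((EtCoh.bc f).obj U).left ⟶ U.left).base)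
  (hζ : HasZeta g₁ g₂ f q w₁ w₂) (U₀ : X.Etale)

include hquot hζ in
theorem local_lift' (s' : ((EtDesc.pullSh f).obj F).obj.obj (op ((EtCoh.bc f).obj U₀)))
    (hs' : pb g₁ f q w₁ F U₀ s' = pb g₂ f q w₂ F U₀ s') (x₀ : U₀.left) :
    ∃ (E : X.Etale) (k : E ⟶ U₀) (x' : E.left), k.left x' = x₀ ∧
      ∃ t : F.obj.obj (op E), uS f F E t =
        ((EtDesc.pullSh f).obj F).obj.map ((EtCoh.bc f).map k).op s' := by
  let F' := (EtDesc.pullSh f).obj F
  obtain ⟨b₀, hb₀⟩ := (hquot U₀).surjective x₀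
  obtain ⟨U, kU, t, b', hb'0, hb'⟩ := exists_local_unit_over f F U₀ s' b₀
  let Y := (EtCoh.bc f).obj U
  let p : Y.left ⟶ U.left := pullback.fst U.hom f
  let A : F'.obj.obj (op Y) := uS f F U t
  let B : F'.obj.obj (op Y) := F'.obj.map ((EtCoh.bc f).map kU).op s'
  let E' : Set Y.left := Ag F' A B
  let E₀ : Set U.left := p '' E'
  have hsat : p ⁻¹' E₀ = E' := by
    ext b₂
    constructor
    · rintro ⟨b₁, hb₁, hpb⟩
      exact sat_desc' g₁ g₂ f q w₁ w₂ F U₀ hζ s' hs' kU t b₁ b₂ hpb hb₁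
    · intro hb₂
      exact ⟨b₂, hb₂, rfl⟩
  have hopen : IsOpen E₀ := by
    rw [← (hquot U).isOpen_preimage]
    show IsOpen (p ⁻¹' E₀)
    rw [hsat]; exact isOpen_ag F' A B
  let Eo : U.left.Opens := ⟨E₀, hopen⟩
  haveI : Etale U.hom := U.prop
  let E : X.Etale := EtSiteBasic.ofEtale (Eo.ι ≫ U.hom)
  let j : E ⟶ U := MorphismProperty.Over.homMk Eo.ι rfl trivial
  have hu₀ : p b' ∈ E₀ := ⟨b', hb', rfl⟩
  let x'' : E.left := (⟨p b', hu₀⟩ : ↥Eo)
  have hx'' : j.left x'' = p b' := rfl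
  refine ⟨E, j ≫ kU, x'', ?_, F.obj.map j.op t, ?_⟩
  · show kU.left (j.left x'') = x₀
    rw [hx'']
    have e1 := (EtCoh.isPullback_bc_map f kU).w
    have e2 : (pullback.fst U₀.hom f : ((EtCoh.bc f).obj U₀).left ⟶ U₀.left)
        (((EtCoh.bc f).map kU).left b') = kU.left (p b') :=
      congrArg (fun ψ : Y.left ⟶ U₀.left => ψ b') e1
    rw [← e2, hb'0]; exact hb₀
  · rw [uS_map]
    have e : F'.obj.map ((EtCoh.bc f).map (j ≫ kU)).op s' =
        F'.obj.map ((EtCoh.bc f).map j).op B := by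
      rw [Functor.map_comp, ← mmS]
    rw [e]
    show F'.obj.map ((EtCoh.bc f).map j).op A = F'.obj.map ((EtCoh.bc f).map j).op B
    apply eq_of_ag F'
    intro z
    rw [ag_map]
    show ((EtCoh.bc f).map j).left z ∈ E'
    rw [← hsat]
    show p (((EtCoh.bc f).map j).left z) ∈ E₀
    have e1 := (EtCoh.isPullback_bc_map f j).w
    have e2 : p (((EtCoh.bc f).map j).left z) =
        j.left ((pullback.fst E.hom f : ((EtCoh.bc f).obj E).left ⟶ E.left) z) :=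
      congrArg (fun ψ : ((EtCoh.bc f).obj E).left ⟶ U.left => ψ z) e1
    rw [e2]
    exact ((pullback.fst E.hom f : ((EtCoh.bc f).obj E).left ⟶ E.left) z).2

include hquot hζ in
theorem desc_U (s' : ((EtDesc.pullSh f).obj F).obj.obj (op ((EtCoh.bc f).obj U₀)))
    (hs' : pb g₁ f q w₁ F U₀ s' = pb g₂ f q w₂ F U₀ s') :
    ∃ t : F.obj.obj (op U₀), uS f F U₀ t = s' := by
  let F' := (EtDesc.pullSh f).obj F
  let u := (EtDesc.adjSh f).unit.app F
  haveI : Mono u := (EtSiteBasic.mono_iff u).2 (fun U => unit_injective f F hquot U)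
  let σ : ((EtDesc.pushSh f).obj F').obj.obj (op U₀) := s'
  obtain ⟨τ, hτ⟩ := H9FE.SecPull.glue u σ (fun x₀ => by
    obtain ⟨E, k, x', hx', t, ht⟩ := local_lift' g₁ g₂ f q w₁ w₂ F hquot hζ U₀ s' hs' x₀
    exact ⟨E, k, x', hx', t, ht⟩)
  exact ⟨τ, hτ⟩

end Lift

end H9FE.ShDescU
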