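import Mathlib
import Groth.Prelude.Def_EtBase
import Groth.Prelude.Def_SGA4b
import Groth.Agent.Lib.Helper9.FE.ShDescU1

/-! helper9: inverse image along a universally submersive morphism is fully faithful into sheaves
with descent data (abstract setting of `ShDesc2`): a morphism `a : f⁻¹F ⟶ f⁻¹G` compatible with
the canonical descent data is `f⁻¹ b` for a unique `b : F ⟶ G`. -/

set_option autoImplicit false
set_option linter.unusedSectionVars false
set_option linter.style.haveILetI false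
set_option backward.isDefEq.respectTransparency false
universe u
open CategoryTheory CategoryTheory.Limits AlgebraicGeometry Opposite

namespace H9FE.ShDescU
open H9FE.LimTower H9FE.ShLoc H9FE.ShAg H9FE.ShVia H9FE.SecPull H9FE.ShDesc
open Groth.Agent.Lib.Helper5

section Nat

variable {X Y : Scheme.{u}} (f : X ⟶ Y)

theorem uS_nat {G H : EtDesc.Sh Y} (φ : G ⟶ H) (V : Y.Etale) (s : G.obj.obj (op V)) :
    uS f H V (φ.hom.app (op V) s) =
      ((EtDesc.pullSh f).map φ).hom.app (op ((EtCoh.bc f).obj V)) (uS f G V s) := by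
  have n := (EtDesc.adjSh f).unit.naturality φ
  exact types_congr_hom (congrArg (fun ψ : G ⟶ _ => ψ.hom.app (op V)) n) s

end Nat

section FF

variable {X'' X' X : Scheme.{u}} (g₁ g₂ : X'' ⟶ X') (f : X' ⟶ X) (q : X'' ⟶ X)
  (w₁ : g₁ ≫ f = q) (w₂ : g₂ ≫ f = q) (F G : EtDesc.Sh X)
  (hquot : ∀ U : X.Etale, Topology.IsQuotientMap
    (pullback.fst U.hom f : ((EtCoh.bc f).obj U).left ⟶ U.left).base)
  (hζ : HasZeta g₁ g₂ f q w₁ w₂)
  (a : (EtDesc.pullSh f).obj F ⟶ (EtDesc.pullSh f).obj G)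

/-- `pb` of the image under `a` of a section -/
theorem pb_map (g : X'' ⟶ X') (w : g ≫ f = q) (U : X.Etale)
    (x : ((EtDesc.pullSh f).obj F).obj.obj (op ((EtCoh.bc f).obj U))) :
    pb g f q w G U (a.hom.app (op ((EtCoh.bc f).obj U)) x) =
      (EtDesc.pullVia g f q w G).hom.hom.app (op ((EtCoh.bc q).obj U))
        (((EtDesc.pullSh g).map a).hom.app (op ((EtCoh.bc q).obj U))
          (((EtDesc.pullSh g).obj ((EtDesc.pullSh f).obj F)).obj.map (pcMor g f q w U).op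
            (uS g ((EtDesc.pullSh f).obj F) ((EtCoh.bc f).obj U) x))) := by
  unfold pb
  rw [uS_nat, ← naS]

include hquot hζ in
theorem cond_of_compat
    (ha : (EtDesc.pullVia g₁ f q w₁ F ≪≫ (EtDesc.pullVia g₂ f q w₂ F).symm).hom ≫
        (EtDesc.pullSh g₂).map a =
      (EtDesc.pullSh g₁).map a ≫
        (EtDesc.pullVia g₁ f q w₁ G ≪≫ (EtDesc.pullVia g₂ f q w₂ G).symm).hom)
    (U : X.Etale) (t : F.obj.obj (op U)) :
    pb g₁ f q w₁ G U (a.hom.app (op ((EtCoh.bc f).obj U)) (uS f F U t)) =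
      pb g₂ f q w₂ G U (a.hom.app (op ((EtCoh.bc f).obj U)) (uS f F U t)) := by
  rw [pb_map, pb_map]
  let Z := (EtCoh.bc q).obj U
  let ψ₁ := ((EtDesc.pullSh g₁).obj ((EtDesc.pullSh f).obj F)).obj.map (pcMor g₁ f q w₁ U).op
    (uS g₁ ((EtDesc.pullSh f).obj F) ((EtCoh.bc f).obj U) (uS f F U t))
  let ψ₂ := ((EtDesc.pullSh g₂).obj ((EtDesc.pullSh f).obj F)).obj.map (pcMor g₂ f q w₂ U).op
    (uS g₂ ((EtDesc.pullSh f).obj F) ((EtCoh.bc f).obj U) (uS f F U t))
  have h1 : (EtDesc.pullVia g₁ f q w₁ F).hom.hom.app (op Z) ψ₁ = uS q F U t :=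
    pb_unit g₁ f q w₁ F U t
  have h2 : (EtDesc.pullVia g₂ f q w₂ F).hom.hom.app (op Z) ψ₂ = uS q F U t :=
    pb_unit g₂ f q w₂ F U t
  have h3 : (EtDesc.pullVia g₂ f q w₂ F).inv.hom.app (op Z)
      ((EtDesc.pullVia g₁ f q w₁ F).hom.hom.app (op Z) ψ₁) = ψ₂ := by
    rw [h1, ← h2]
    exact types_congr_hom (congrArg (fun φ : (EtDesc.pullSh g₂).obj ((EtDesc.pullSh f).obj F) ⟶ _
      => φ.hom.app (op Z)) (EtDesc.pullVia g₂ f q w₂ F).hom_inv_id) ψ₂
  have h4 := types_congr_hom (congrArg (fun φ :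
    (EtDesc.pullSh g₁).obj ((EtDesc.pullSh f).obj F) ⟶
      (EtDesc.pullSh g₂).obj ((EtDesc.pullSh f).obj G) => φ.hom.app (op Z)) ha) ψ₁
  have h5 : ((EtDesc.pullSh g₂).map a).hom.app (op Z) ψ₂ =
      (EtDesc.pullVia g₂ f q w₂ G).inv.hom.app (op Z)
        ((EtDesc.pullVia g₁ f q w₁ G).hom.hom.app (op Z)
          (((EtDesc.pullSh g₁).map a).hom.app (op Z) ψ₁)) := by
    rw [← h3]
    exact h4
  show (EtDesc.pullVia g₁ f q w₁ G).hom.hom.app (op Z)
      (((EtDesc.pullSh g₁).map a).hom.app (op Z) ψ₁) =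
    (EtDesc.pullVia g₂ f q w₂ G).hom.hom.app (op Z)
      (((EtDesc.pullSh g₂).map a).hom.app (op Z) ψ₂)
  rw [h5]
  exact (types_congr_hom (congrArg (fun φ : (EtDesc.pullSh q).obj G ⟶ _
      => φ.hom.app (op Z)) (EtDesc.pullVia g₂ f q w₂ G).inv_hom_id) _).symm

include hquot hζ in
theorem exists_desc
    (ha : (EtDesc.pullVia g₁ f q w₁ F ≪≫ (EtDesc.pullVia g₂ f q w₂ F).symm).hom ≫
        (EtDesc.pullSh g₂).map a =
      (EtDesc.pullSh g₁).map a ≫
        (EtDesc.pullVia g₁ f q w₁ G ≪≫ (EtDesc.pullVia g₂ f q w₂ G).symm).hom)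
    (U : X.Etale) (t : F.obj.obj (op U)) :
    ∃ t' : G.obj.obj (op U), uS f G U t' = a.hom.app (op ((EtCoh.bc f).obj U)) (uS f F U t) :=
  desc_U g₁ g₂ f q w₁ w₂ G hquot hζ U _
    (cond_of_compat g₁ g₂ f q w₁ w₂ F G hquot hζ a ha U t)

include hquot hζ in
theorem ff_gen
    (κF : (EtDesc.pullSh g₁).obj ((EtDesc.pullSh f).obj F) ≅
      (EtDesc.pullSh g₂).obj ((EtDesc.pullSh f).obj F))
    (hκF : κF = EtDesc.pullVia g₁ f q w₁ F ≪≫ (EtDesc.pullVia g₂ f q w₂ F).symm)
    (κG : (EtDesc.pullSh g₁).obj ((EtDesc.pullSh f).obj G) ≅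
      (EtDesc.pullSh g₂).obj ((EtDesc.pullSh f).obj G))
    (hκG : κG = EtDesc.pullVia g₁ f q w₁ G ≪≫ (EtDesc.pullVia g₂ f q w₂ G).symm)
    (ha : κF.hom ≫ (EtDesc.pullSh g₂).map a = (EtDesc.pullSh g₁).map a ≫ κG.hom) :
    ∃! b : F ⟶ G, (EtDesc.pullSh f).map b = a := by
  subst hκF
  subst hκG
  have hinjG : ∀ U : X.Etale, Function.Injective (uS f G U) :=
    fun U => unit_injective f G hquot U
  choose bfun hb using fun (U : X.Etale) (t : F.obj.obj (op U)) =>
    exists_desc g₁ g₂ f q w₁ w₂ F G hquot hζ a ha U t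
  have hnat : ∀ {U₁ U : X.Etale} (k : U₁ ⟶ U) (t : F.obj.obj (op U)),
      G.obj.map k.op (bfun U t) = bfun U₁ (F.obj.map k.op t) := by
    intro U₁ U k t
    apply hinjG U₁
    rw [uS_map, hb, hb, uS_map, naS]
  let b : F ⟶ G :=
    ⟨{ app := fun U => ↾fun (t : F.obj.obj U) => bfun U.unop t
       naturality := by
         intro U U' k
         apply ConcreteCategory.hom_ext
         intro t
         exact (hnat k.unop t).symm }⟩
  have hbapp : ∀ (U : X.Etale) (t : F.obj.obj (op U)), b.hom.app (op U) t = bfun U t :=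
    fun U t => rfl
  -- the adjunction transposes
  have key : ∀ b' : F ⟶ G, (EtDesc.pullSh f).map b' = a ↔
      ∀ (U : X.Etale) (t : F.obj.obj (op U)),
        uS f G U (b'.hom.app (op U) t) = a.hom.app (op ((EtCoh.bc f).obj U)) (uS f F U t) := by
    intro b'
    have n : b' ≫ (EtDesc.adjSh f).unit.app G =
        (EtDesc.adjSh f).unit.app F ≫ (EtDesc.pushSh f).map ((EtDesc.pullSh f).map b') :=
      (EtDesc.adjSh f).unit.naturality b'
    rw [← ((EtDesc.adjSh f).homEquiv F ((EtDesc.pullSh f).obj G)).apply_eq_iff_eq,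
      Adjunction.homEquiv_unit, Adjunction.homEquiv_unit, ← n]
    constructor
    · intro h U t
      exact types_congr_hom (congrArg (fun ψ : F ⟶ _ => ψ.hom.app (op U)) h) t
    · intro h
      apply Sheaf.hom_ext
      apply NatTrans.ext
      funext U
      apply ConcreteCategory.hom_ext
      intro t
      exact h U.unop t
  refine ⟨b, (key b).2 (fun U t => by rw [hbapp]; exact hb U t), ?_⟩
  intro b' hb'
  have h1 := (key b').1 hb'
  apply Sheaf.hom_ext
  apply NatTrans.ext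
  funext U
  apply ConcreteCategory.hom_ext
  intro t
  apply hinjG U.unop
  exact (h1 U.unop t).trans (hb U.unop t).symm

end FF

end H9FE.ShDescU
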