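import Mathlib
import Groth.Prelude.Def_EtBase
import Groth.Prelude.Def_SGA4b
import Groth.Agent.Lib.Helper5.Misc.EtStalk
import Groth.Agent.Lib.Helper5.Misc.EtStalkPull

/-! helper9: being an isomorphism of étale sheaves of SETS is étale local. -/

set_option autoImplicit false
set_option linter.unusedSectionVars false
set_option linter.style.haveILetI false
set_option backward.isDefEq.respectTransparency false
universe u
open CategoryTheory CategoryTheory.Limits AlgebraicGeometry Opposite

namespace H9FE.ShIsoLocal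
open Groth.Agent.Lib.Helper5

theorem isIso_of_cover_sh {X : Scheme.{u}} {ι : Type u} (U : ι → X.Etale)
    (hU : EtCoh.Covers U) {F G : EtDesc.Sh X} (φ : F ⟶ G)
    (hφ : ∀ i, IsIso ((EtDesc.pullSh (U i).hom).map φ)) : IsIso φ := by
  let P : (Σ i, (U i).left) → EtStalk.GeomPt X := fun q =>
    { Ω := (EtStalk.geomPtAt q.2).Ω, ξ := (EtStalk.geomPtAt q.2).ξ ≫ (U q.1).hom }
  apply EtStalk.isIso_of_stalks_family P ?_ φ
  · intro q
    haveI := hφ q.1
    let e := EtStalkPull.stalkPullShIso (U q.1).hom (EtStalk.geomPtAt q.2).ξ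
    have hn := e.hom.naturality φ
    have h1 : ((P q).point.sheafFiber (A := Type (u + 1))).map φ =
        e.inv.app F ≫ (EtDesc.pullSh (U q.1).hom ⋙
          (Scheme.pointSmallEtale (EtStalk.geomPtAt q.2).ξ).sheafFiber (A := Type (u + 1))).map φ ≫
          e.hom.app G := by
      rw [hn, ← Category.assoc, ← NatTrans.comp_app, Iso.inv_hom_id]
      exact (Category.id_comp _).symm
    have h2 : IsIso (((P q).point.sheafFiber (A := Type (u + 1))).map φ) := by
      rw [h1]
      haveI : IsIso ((EtDesc.pullSh (U q.1).hom ⋙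
          (Scheme.pointSmallEtale (EtStalk.geomPtAt q.2).ξ).sheafFiber (A := Type (u + 1))).map φ) := by
        rw [Functor.comp_map]
        infer_instance
      infer_instance
    exact (isIso_iff_bijective _).1 h2
  · intro x
    obtain ⟨i, y, hy⟩ := hU x
    refine ⟨⟨i, y⟩, ?_⟩
    show (U i).hom ((EtStalk.geomPtAt y).ξ default) = x
    rw [EtStalk.geomPtAt_default]
    exact hy

end H9FE.ShIsoLocal
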