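import Mathlib
import Groth.Prelude.Def_EtBase
import Groth.Prelude.Def_SGA4b
import Groth.Agent.Lib.Helper9.FE.ShDescU2

/-! helper9: tools for descent of subsheaves of étale sheaves of sets: isomorphisms from
sectionwise bijectivity, lifting points to base changes, openness of the locus where a section
locally comes from a subsheaf, a local (stalkwise) criterion for a section of `H` to come from `G`
given that its image in `f⁻¹H` comes from `f⁻¹G`, factorisation of monomorphisms with nested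
images, and the subsheaf defined by a local predicate. -/

set_option autoImplicit false
set_option linter.unusedSectionVars false
set_option linter.style.haveILetI false
set_option backward.isDefEq.respectTransparency false
universe u
open CategoryTheory CategoryTheory.Limits AlgebraicGeometry Opposite

namespace H9FE.ShSub
open H9FE.LimTower H9FE.ShLoc H9FE.ShAg H9FE.ShVia H9FE.SecPull H9FE.ShDesc H9FE.ShDescU
open Groth.Agent.Lib.Helper5 Groth.Agent.S0072.Aux H9FE.StalkPullGerm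

section Site

variable {X : Scheme.{u}}

theorem isIso_of_bijective {G H : EtDesc.Sh X} (ψ : G ⟶ H)
    (h : ∀ U : X.Etale, Function.Bijective (ψ.hom.app (op U))) : IsIso ψ := by
  haveI : ∀ U : (X.Etale)ᵒᵖ, IsIso (ψ.hom.app U) :=
    fun U => (isIso_iff_bijective _).2 (h U.unop)
  haveI : IsIso ψ.hom := NatIso.isIso_of_isIso_app ψ.hom
  haveI : IsIso ((sheafToPresheaf X.smallEtaleTopology (Type (u + 1))).map ψ) :=
    (inferInstance : IsIso ψ.hom)
  exact isIso_of_reflects_iso ψ (sheafToPresheaf _ _)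

theorem isOpen_loc {F G : EtDesc.Sh X} (u : F ⟶ G) {U : X.Etale} (g : G.obj.obj (op U)) :
    IsOpen {x : U.left | Loc u g x} := by
  have : {x : U.left | Loc u g x} = ⋃ (p : {p : Σ N : X.Etale, (N ⟶ U) //
      G.obj.map p.2.op g ∈ Set.range (u.hom.app (op p.1))}), Set.range p.1.2.left := by
    ext q
    constructor
    · rintro ⟨N, k, n, hn, hk⟩
      exact Set.mem_iUnion.2 ⟨⟨⟨N, k⟩, hk⟩, ⟨n, hn⟩⟩
    · intro hq
      obtain ⟨⟨⟨N, k⟩, hk⟩, ⟨n, hn⟩⟩ := Set.mem_iUnion.1 hq
      exact ⟨N, k, n, hn, hk⟩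
  rw [this]
  refine isOpen_iUnion fun p => ?_
  haveI : Etale p.1.2.left := etale_left p.1.2
  exact p.1.2.left.isOpenMap.isOpen_range

theorem factor_of_range {G₁ G₂ F : EtDesc.Sh X} (a₁ : G₁ ⟶ F) (a₂ : G₂ ⟶ F) [Mono a₂]
    (h : ∀ (U : X.Etale) (t : G₁.obj.obj (op U)),
      a₁.hom.app (op U) t ∈ Set.range (a₂.hom.app (op U))) :
    ∃ ψ : G₁ ⟶ G₂, ψ ≫ a₂ = a₁ := by
  have hinj := (EtSiteBasic.mono_iff a₂).1 inferInstance
  choose c hc using h
  have hnat : ∀ {U₁ U : X.Etale} (k : U₁ ⟶ U) (t : G₁.obj.obj (op U)),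
      G₂.obj.map k.op (c U t) = c U₁ (G₁.obj.map k.op t) := by
    intro U₁ U k t
    apply hinj U₁
    rw [naS, hc, hc, naS]
  refine ⟨⟨{ app := fun U => ↾fun (t : G₁.obj.obj U) => c U.unop t
             naturality := by
               intro U U' k
               apply ConcreteCategory.hom_ext
               intro t
               exact (hnat k.unop t).symm }⟩, ?_⟩
  apply Sheaf.hom_ext
  apply NatTrans.ext
  funext U
  apply ConcreteCategory.hom_ext
  intro t
  exact hc U.unop t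

theorem iso_of_range {G₁ G₂ F : EtDesc.Sh X} (a₁ : G₁ ⟶ F) (a₂ : G₂ ⟶ F) [Mono a₁] [Mono a₂]
    (h₁ : ∀ (U : X.Etale) (t : G₁.obj.obj (op U)),
      a₁.hom.app (op U) t ∈ Set.range (a₂.hom.app (op U)))
    (h₂ : ∀ (U : X.Etale) (t : G₂.obj.obj (op U)),
      a₂.hom.app (op U) t ∈ Set.range (a₁.hom.app (op U))) :
    ∃ ψ : G₁ ≅ G₂, ψ.hom ≫ a₂ = a₁ := by
  obtain ⟨ψ, hψ⟩ := factor_of_range a₁ a₂ h₁
  obtain ⟨χ, hχ⟩ := factor_of_range a₂ a₁ h₂
  refine ⟨⟨ψ, χ, ?_, ?_⟩, hψ⟩
  · rw [← cancel_mono a₁, Category.assoc, hχ, hψ, Category.id_comp]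
  · rw [← cancel_mono a₂, Category.assoc, hψ, hχ, Category.id_comp]

end Site

section Sub

variable {X : Scheme.{u}} (F : EtDesc.Sh X) (P : ∀ U : X.Etale, F.obj.obj (op U) → Prop)
  (hres : ∀ {U₁ U : X.Etale} (k : U₁ ⟶ U) (t : F.obj.obj (op U)),
    P U t → P U₁ (F.obj.map k.op t))
  (hloc : ∀ (U : X.Etale) (t : F.obj.obj (op U)),
    (∀ x : U.left, ∃ (V : X.Etale) (k : V ⟶ U) (q : V.left), k.left q = x ∧
      P V (F.obj.map k.op t)) → P U t)

/-- the subfunctor of `F` defined by a predicate on sections stable under restriction -/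
def subF : Subfunctor F.obj where
  obj U := {t | P U.unop t}
  map := by
    intro U V i t ht
    exact hres i.unop t ht

include hloc in
theorem subF_isSheaf :
    Presheaf.IsSheaf X.smallEtaleTopology (subF F P hres).toFunctor := by
  rw [isSheaf_iff_isSheaf_of_type]
  rw [Subfunctor.isSheaf_iff _ ((isSheaf_iff_isSheaf_of_type _ _).1 F.2)]
  intro U s hs
  apply hloc U.unop s
  rw [EtSiteBasic.mem_smallEtale_iff] at hs
  intro x
  obtain ⟨V, k, q, hk, hq⟩ := hs x
  exact ⟨V, k, q, hq, hk⟩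

/-- the subsheaf of `F` defined by a local predicate on sections -/
noncomputable def subSh : EtDesc.Sh X :=
  ⟨(subF F P hres).toFunctor, subF_isSheaf F P hres hloc⟩

/-- the inclusion of the subsheaf defined by a local predicate -/
noncomputable def subι : subSh F P hres hloc ⟶ F := ⟨(subF F P hres).ι⟩

theorem subι_app (U : X.Etale) (t : (subSh F P hres hloc).obj.obj (op U)) :
    (subι F P hres hloc).hom.app (op U) t = t.1 := rfl

instance mono_subι : Mono (subι F P hres hloc) :=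
  (EtSiteBasic.mono_iff _).2 (fun _ => Subtype.val_injective)

theorem subι_prop (U : X.Etale) (t : (subSh F P hres hloc).obj.obj (op U)) :
    P U ((subι F P hres hloc).hom.app (op U) t) := t.2

/-- a section satisfying the predicate, as a section of the subsheaf -/
def subMk (U : X.Etale) (t : F.obj.obj (op U)) (ht : P U t) :
    (subSh F P hres hloc).obj.obj (op U) := ⟨t, ht⟩

theorem subι_subMk (U : X.Etale) (t : F.obj.obj (op U)) (ht : P U t) :
    (subι F P hres hloc).hom.app (op U) (subMk F P hres hloc U t ht) = t := rfl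

end Sub

section Pts

variable {X' X : Scheme.{u}} (f : X' ⟶ X)

theorem exists_pt_bc_map {V U : X.Etale} (k : V ⟶ U)
    (b : ((EtCoh.bc f).obj U).left) (v : V.left)
    (h : (pullback.fst U.hom f : ((EtCoh.bc f).obj U).left ⟶ U.left) b = k.left v) :
    ∃ n : ((EtCoh.bc f).obj V).left, ((EtCoh.bc f).map k).left n = b ∧
      (pullback.fst V.hom f : ((EtCoh.bc f).obj V).left ⟶ V.left) n = v := by
  have sq := EtCoh.isPullback_bc_map f k
  obtain ⟨z, hz1, hz2⟩ := Scheme.Pullback.exists_preimage_pullback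
    (f := (pullback.fst U.hom f : ((EtCoh.bc f).obj U).left ⟶ U.left)) (g := k.left) b v h
  refine ⟨sq.isoPullback.inv z, ?_, ?_⟩
  · have e0 := congrArg (fun ψ : pullback (pullback.fst U.hom f :
      ((EtCoh.bc f).obj U).left ⟶ U.left) k.left ⟶ ((EtCoh.bc f).obj U).left => ψ z)
      (IsPullback.isoPullback_inv_fst sq)
    exact e0.trans hz1
  · have e0 := congrArg (fun ψ : pullback (pullback.fst U.hom f :
      ((EtCoh.bc f).obj U).left ⟶ U.left) k.left ⟶ V.left => ψ z)
      (IsPullback.isoPullback_inv_snd sq)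
    exact e0.trans hz2

end Pts

section Range

variable {X Y : Scheme.{u}} (f : X ⟶ Y) {G H : EtDesc.Sh Y} (u : G ⟶ H)

/-- if the restriction of the image in `f⁻¹H` of a section `A` of `H` comes from `f⁻¹G`, then
locally `A` itself comes from `G` -/
theorem local_range (V : Y.Etale) (A : H.obj.obj (op V)) (T : X.Etale)
    (φ : T ⟶ (EtCoh.bc f).obj V) (w : ((EtDesc.pullSh f).obj G).obj.obj (op T))
    (h0 : ((EtDesc.pullSh f).map u).hom.app (op T) w =
      ((EtDesc.pullSh f).obj H).obj.map φ.op (uS f H V A)) (x : T.left) :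
    ∃ (V' : Y.Etale) (h : V' ⟶ V) (z : ((EtCoh.bc f).obj V').left),
      H.obj.map h.op A ∈ Set.range (u.hom.app (op V')) ∧
      ((EtCoh.bc f).map h).left z = φ.left x := by
  obtain ⟨Ω, _, _, ξ, y, hy⟩ := H9FE.LimLoc.exists_geom_pt T x
  let Φ := Scheme.pointSmallEtale ξ
  let Φ' := Scheme.pointSmallEtale (ξ ≫ f)
  let PG := ((EtDesc.pullSh f).obj G).obj
  let PH := ((EtDesc.pullSh f).obj H).obj
  let γ := Φ.toPresheafFiber T y PG w
  obtain ⟨V₁, v₁, s₁, hs₁⟩ := Φ'.toPresheafFiber_jointly_surjective (P := G.obj)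
    ((EtStalkPull.stalkPullShIso f ξ).hom.app G γ)
  let v : Φ'.fiber.obj V := (EtStalkPull.fiberIso f ξ).hom.app V (Φ.fiber.map φ y)
  have hv : liftPt f (ξ ≫ f) ξ rfl V v = Φ.fiber.map φ y := by
    rw [← fiberIso_inv]
    exact types_congr_hom ((EtStalkPull.fiberIso f ξ).hom_inv_id_app V) _
  -- the germ of `uS s₁` is `γ`
  have hγ : Φ.toPresheafFiber ((EtCoh.bc f).obj V₁) (liftPt f (ξ ≫ f) ξ rfl V₁ v₁) PG
      (uS f G V₁ s₁) = γ := by
    have e1 := types_congr_hom (stalkPullShIso_inv_germ f ξ G V₁ v₁) s₁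
    have e3 : (EtStalkPull.stalkPullShIso f ξ).inv.app G
        ((EtStalkPull.stalkPullShIso f ξ).hom.app G γ) = γ :=
      types_congr_hom ((EtStalkPull.stalkPullShIso f ξ).hom_inv_id_app G) γ
    rw [← hs₁] at e3
    exact e1.symm.trans e3
  have hinj : Function.Injective ((EtStalkPull.stalkPullShIso f ξ).inv.app H) := by
    intro a b hab
    have ea := types_congr_hom ((EtStalkPull.stalkPullShIso f ξ).inv_hom_id_app H) a
    have eb := types_congr_hom ((EtStalkPull.stalkPullShIso f ξ).inv_hom_id_app H) b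
    exact ea.symm.trans ((congrArg ((EtStalkPull.stalkPullShIso f ξ).hom.app H) hab).trans eb)
  have hgerm : Φ'.toPresheafFiber V₁ v₁ H.obj (u.hom.app (op V₁) s₁) =
      Φ'.toPresheafFiber V v H.obj A := by
    apply hinj
    have l1 := types_congr_hom (stalkPullShIso_inv_germ f ξ H V₁ v₁) (u.hom.app (op V₁) s₁)
    have l2 := types_congr_hom (stalkPullShIso_inv_germ f ξ H V v) A
    refine l1.trans (Eq.trans ?_ l2.symm)
    show Φ.toPresheafFiber _ _ PH (uS f H V₁ (u.hom.app (op V₁) s₁)) =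
      Φ.toPresheafFiber _ _ PH (uS f H V A)
    rw [uS_nat, hv]
    have n1 := types_congr_hom (Φ.toPresheafFiber_naturality ((EtDesc.pullSh f).map u).hom
      ((EtCoh.bc f).obj V₁) (liftPt f (ξ ≫ f) ξ rfl V₁ v₁)) (uS f G V₁ s₁)
    have n2 := types_congr_hom (Φ.toPresheafFiber_naturality ((EtDesc.pullSh f).map u).hom
      T y) w
    have n3 := types_congr_hom (Φ.toPresheafFiber_w φ y PH) (uS f H V A)
    refine n1.symm.trans ?_
    refine Eq.trans ?_ n3
    refine Eq.trans ?_ (n2.trans (congrArg _ h0))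
    exact congrArg _ hγ
  -- common refinement
  let a : Φ'.fiber.Elements := ⟨V₁, v₁⟩
  let b : Φ'.fiber.Elements := ⟨V, v⟩
  let m := IsCofiltered.min a b
  let g₁ : m ⟶ a := IsCofiltered.minToLeft a b
  let g₂ : m ⟶ b := IsCofiltered.minToRight a b
  have e3 : Φ'.toPresheafFiber m.1 m.2 H.obj (H.obj.map g₁.1.op (u.hom.app (op V₁) s₁)) =
      Φ'.toPresheafFiber V₁ v₁ H.obj (u.hom.app (op V₁) s₁) := by
    have := types_congr_hom (Φ'.toPresheafFiber_w g₁.1 m.2 H.obj) (u.hom.app (op V₁) s₁)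
    refine this.trans ?_
    have h2 : Φ'.fiber.map g₁.1 m.2 = v₁ := g₁.2
    rw [h2]
  have e4 : Φ'.toPresheafFiber m.1 m.2 H.obj (H.obj.map g₂.1.op A) =
      Φ'.toPresheafFiber V v H.obj A := by
    have := types_congr_hom (Φ'.toPresheafFiber_w g₂.1 m.2 H.obj) A
    refine this.trans ?_
    have h2 : Φ'.fiber.map g₂.1 m.2 = v := g₂.2
    rw [h2]
  have e5 := e3.trans (hgerm.trans e4.symm)
  rw [Φ'.toPresheafFiber_eq_iff'] at e5
  obtain ⟨V', k, v', hk, hres⟩ := e5
  refine ⟨V', k ≫ g₂.1, (liftPt f (ξ ≫ f) ξ rfl V' v').left (default : Spec (CommRingCat.of Ω)),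
    ⟨G.obj.map (k ≫ g₁.1).op s₁, ?_⟩, ?_⟩
  · rw [naS, ← mmS, ← mmS]
    exact hres
  · have e6 := liftPt_map f (ξ ≫ f) ξ rfl (k ≫ g₂.1) v'
    have h2 : Φ'.fiber.map (k ≫ g₂.1) v' = v := by
      have : Φ'.fiber.map (k ≫ g₂.1) v' = Φ'.fiber.map g₂.1 (Φ'.fiber.map k v') := by
        rw [Functor.map_comp]; rfl
      rw [this, hk]
      exact g₂.2
    rw [h2, hv] at e6
    have e7 : (liftPt f (ξ ≫ f) ξ rfl V' v').left ≫ ((EtCoh.bc f).map (k ≫ g₂.1)).left =
        (Φ.fiber.map φ y).left := congrArg (fun w => w.left) e6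
    have e8 : (Φ.fiber.map φ y).left = y.left ≫ φ.left := rfl
    rw [← hy]
    exact congrArg (fun w : Spec (CommRingCat.of Ω) ⟶ ((EtCoh.bc f).obj V).left =>
      w (default : Spec (CommRingCat.of Ω))) (e7.trans e8)

end Range

end H9FE.ShSub
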