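import Mathlib
import Groth.Prelude.Def_EtBase
import Groth.Prelude.Def_SGA4b
import Groth.Agent.Lib.Helper9.FE.ShSub1

/-! helper9: descent of subsheaves of étale sheaves of sets along a universally submersive
morphism (abstract setting of `ShDesc2`): (a) subsheaves of `F` with the same inverse image
coincide; (b) a subsheaf of `f⁻¹F` compatible with the canonical descent datum is the inverse
image of a subsheaf of `F`. -/

set_option autoImplicit false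
set_option linter.unusedSectionVars false
set_option linter.style.haveILetI false
set_option backward.isDefEq.respectTransparency false
universe u
open CategoryTheory CategoryTheory.Limits AlgebraicGeometry Opposite

namespace H9FE.ShSub
open H9FE.LimTower H9FE.ShLoc H9FE.ShAg H9FE.ShVia H9FE.SecPull H9FE.ShDesc H9FE.ShDescU
open Groth.Agent.Lib.Helper5

section A

variable {X' X : Scheme.{u}} (f : X' ⟶ X)
  (hquot : ∀ U : X.Etale, Topology.IsQuotientMap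
    (pullback.fst U.hom f : ((EtCoh.bc f).obj U).left ⟶ U.left).base)
  (F : EtDesc.Sh X)

include hquot in
theorem range_of_pull {G₁ G₂ : EtDesc.Sh X} (a₁ : G₁ ⟶ F) (a₂ : G₂ ⟶ F) [Mono a₂]
    (χ : (EtDesc.pullSh f).obj G₁ ⟶ (EtDesc.pullSh f).obj G₂)
    (hχ : χ ≫ (EtDesc.pullSh f).map a₂ = (EtDesc.pullSh f).map a₁)
    (U : X.Etale) (t : G₁.obj.obj (op U)) :
    a₁.hom.app (op U) t ∈ Set.range (a₂.hom.app (op U)) := by
  let F' := (EtDesc.pullSh f).obj F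
  let G₂' := (EtDesc.pullSh f).obj G₂
  obtain ⟨τ, hτ⟩ := glue a₂ (a₁.hom.app (op U) t) (fun x => by
    obtain ⟨b, hb⟩ := (hquot U).surjective x
    obtain ⟨y, hydef⟩ : ∃ y : G₂'.obj.obj (op ((EtCoh.bc f).obj U)),
      y = χ.hom.app (op ((EtCoh.bc f).obj U)) (uS f G₁ U t) := ⟨_, rfl⟩
    have hy : ((EtDesc.pullSh f).map a₂).hom.app (op ((EtCoh.bc f).obj U)) y =
        uS f F U (a₁.hom.app (op U) t) := by
      rw [hydef]
      have := types_congr_hom (congrArg (fun ψ : (EtDesc.pullSh f).obj G₁ ⟶ F' =>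
        ψ.hom.app (op ((EtCoh.bc f).obj U))) hχ) (uS f G₁ U t)
      refine this.trans ?_
      exact (uS_nat f a₁ U t).symm
    obtain ⟨V, k, s, b', hb'0, T', k', q', hq', hres⟩ := exists_local_unit_over f G₂ U y b
    have h1 : F'.obj.map k'.op (uS f F V (a₂.hom.app (op V) s)) =
        F'.obj.map k'.op (uS f F V (F.obj.map k.op (a₁.hom.app (op U) t))) := by
      have e := congrArg (((EtDesc.pullSh f).map a₂).hom.app (op T')) hres
      have eL : ((EtDesc.pullSh f).map a₂).hom.app (op T')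
          (G₂'.obj.map k'.op (uS f G₂ V s)) =
          F'.obj.map k'.op (uS f F V (a₂.hom.app (op V) s)) := by
        rw [naS, ← uS_nat]
      have eR : ((EtDesc.pullSh f).map a₂).hom.app (op T')
          (G₂'.obj.map k'.op (G₂'.obj.map ((EtCoh.bc f).map k).op y)) =
          F'.obj.map k'.op (uS f F V (F.obj.map k.op (a₁.hom.app (op U) t))) := by
        rw [naS, naS, hy, ← uS_map]
      exact eL.symm.trans (e.trans eR)
    obtain ⟨V'', h, z, hz0, hz⟩ := exists_local_eq' f F V _ _ T' k' h1 q'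
    refine ⟨V'', h ≫ k,
      (pullback.fst V''.hom f : ((EtCoh.bc f).obj V'').left ⟶ V''.left) z, ?_,
      G₂.obj.map h.op s, ?_⟩
    · show k.left (h.left ((pullback.fst V''.hom f :
        ((EtCoh.bc f).obj V'').left ⟶ V''.left) z)) = x
      have e1 := (EtCoh.isPullback_bc_map f h).w
      have e2 : (pullback.fst V.hom f : ((EtCoh.bc f).obj V).left ⟶ V.left)
          (((EtCoh.bc f).map h).left z) =
          h.left ((pullback.fst V''.hom f : ((EtCoh.bc f).obj V'').left ⟶ V''.left) z) :=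
        congrArg (fun ψ : ((EtCoh.bc f).obj V'').left ⟶ V.left => ψ z) e1
      have e1' := (EtCoh.isPullback_bc_map f k).w
      have e2' : (pullback.fst U.hom f : ((EtCoh.bc f).obj U).left ⟶ U.left)
          (((EtCoh.bc f).map k).left b') =
          k.left ((pullback.fst V.hom f : ((EtCoh.bc f).obj V).left ⟶ V.left) b') :=
        congrArg (fun ψ : ((EtCoh.bc f).obj V).left ⟶ U.left => ψ b') e1'
      rw [← e2, hz, hq', ← e2', hb'0]; exact hb
    · rw [naS, hz0, mmS])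
  exact ⟨τ, hτ⟩

include hquot in
theorem part_a (G₁ G₂ : EtDesc.Sh X) (a₁ : G₁ ⟶ F) (a₂ : G₂ ⟶ F) [Mono a₁] [Mono a₂]
    (h : ∃ φ : (EtDesc.pullSh f).obj G₁ ≅ (EtDesc.pullSh f).obj G₂,
      φ.hom ≫ (EtDesc.pullSh f).map a₂ = (EtDesc.pullSh f).map a₁) :
    ∃ ψ : G₁ ≅ G₂, ψ.hom ≫ a₂ = a₁ := by
  obtain ⟨φ, hφ⟩ := h
  apply iso_of_range a₁ a₂
  · exact range_of_pull f hquot F a₁ a₂ φ.hom hφ
  · refine range_of_pull f hquot F a₂ a₁ φ.inv ?_
    rw [← hφ, Iso.inv_hom_id_assoc]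

end A

section B

variable {X'' X' X : Scheme.{u}} (g₁ g₂ : X'' ⟶ X') (f : X' ⟶ X) (q : X'' ⟶ X)
  (w₁ : g₁ ≫ f = q) (w₂ : g₂ ≫ f = q) (F : EtDesc.Sh X)
  (hquot : ∀ U : X.Etale, Topology.IsQuotientMap
    (pullback.fst U.hom f : ((EtCoh.bc f).obj U).left ⟶ U.left).base)
  (hζ : HasZeta g₁ g₂ f q w₁ w₂)
  (G' : EtDesc.Sh X') (a' : G' ⟶ (EtDesc.pullSh f).obj F) [Mono a']

/-- the predicate defining the descended subsheaf -/
def PP (U : X.Etale) (t : F.obj.obj (op U)) : Prop :=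
  uS f F U t ∈ Set.range (a'.hom.app (op ((EtCoh.bc f).obj U)))

theorem PP_res {U₁ U : X.Etale} (k : U₁ ⟶ U) (t : F.obj.obj (op U))
    (h : PP f F G' a' U t) : PP f F G' a' U₁ (F.obj.map k.op t) := by
  obtain ⟨y, hy⟩ := h
  refine ⟨G'.obj.map ((EtCoh.bc f).map k).op y, ?_⟩
  rw [naS, hy, uS_map]

theorem PP_loc (U : X.Etale) (t : F.obj.obj (op U))
    (h : ∀ x : U.left, ∃ (V : X.Etale) (k : V ⟶ U) (q : V.left), k.left q = x ∧
      PP f F G' a' V (F.obj.map k.op t)) : PP f F G' a' U t := by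
  obtain ⟨τ, hτ⟩ := glue a' (uS f F U t) (fun b => by
    obtain ⟨V, k, qv, hk, y, hy⟩ :=
      h ((pullback.fst U.hom f : ((EtCoh.bc f).obj U).left ⟶ U.left) b)
    obtain ⟨n, hn, -⟩ := exists_pt_bc_map f k b qv hk.symm
    refine ⟨(EtCoh.bc f).obj V, (EtCoh.bc f).map k, n, hn, y, ?_⟩
    rw [hy, uS_map])
  exact ⟨τ, hτ⟩

include hζ in
theorem sat_loc
    (φ : (EtDesc.pullSh g₁).obj G' ≅ (EtDesc.pullSh g₂).obj G')
    (hφ : φ.hom ≫ (EtDesc.pullSh g₂).map a' = (EtDesc.pullSh g₁).map a' ≫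
      (EtDesc.pullVia g₁ f q w₁ F ≪≫ (EtDesc.pullVia g₂ f q w₂ F).symm).hom)
    (U : X.Etale) (t : F.obj.obj (op U))
    (b₁ b₂ : ((EtCoh.bc f).obj U).left) (hb : p1 f U b₁ = p1 f U b₂)
    (h1 : Loc a' (uS f F U t) b₁) : Loc a' (uS f F U t) b₂ := by
  let F' := (EtDesc.pullSh f).obj F
  let Y := (EtCoh.bc f).obj U
  let A : F'.obj.obj (op Y) := uS f F U t
  obtain ⟨N₁, k₁, n₁, hk₁, y₁, hy₁⟩ := h1
  obtain ⟨ζ, hζ₁, hζ₂⟩ := hζ U b₁ b₂ hb
  let m₁ : (EtCoh.bc q).obj U ⟶ (EtCoh.bc g₁).obj Y := pcMor g₁ f q w₁ U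
  let m₂ : (EtCoh.bc q).obj U ⟶ (EtCoh.bc g₂).obj Y := pcMor g₂ f q w₂ U
  have hx : (pullback.fst Y.hom g₁ : ((EtCoh.bc g₁).obj Y).left ⟶ Y.left) (m₁.left ζ) =
      k₁.left n₁ := hζ₁.trans hk₁.symm
  obtain ⟨z, hz, -⟩ := exists_pt_bc_map g₁ k₁ (m₁.left ζ) n₁ hx
  obtain ⟨N, μ₁, ν, n, comm, -, hn₂⟩ :=
    H9FE.SecPull.exists_fp ((EtCoh.bc g₁).map k₁) m₁ z ζ hz
  let G₁' := (EtDesc.pullSh g₁).obj G'
  let F₁' := (EtDesc.pullSh g₁).obj F'
  let F₂' := (EtDesc.pullSh g₂).obj F'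
  obtain ⟨ww₁, hww₁⟩ : ∃ ww₁ : G₁'.obj.obj (op N),
    ww₁ = G₁'.obj.map μ₁.op (uS g₁ G' N₁ y₁) := ⟨_, rfl⟩
  have e1 : ((EtDesc.pullSh g₁).map a').hom.app (op N) ww₁ =
      F₁'.obj.map (ν ≫ m₁).op (uS g₁ F' Y A) := by
    rw [hww₁, naS, ← uS_nat, hy₁, uS_map, mmS, comm]
  have c1 := R1 g₁ f q w₁ F U t N ν
  have c4 := R1 g₂ f q w₂ F U t N ν
  have h4 := types_congr_hom (congrArg (fun ψ : G₁' ⟶ F₂' => ψ.hom.app (op N)) hφ) ww₁
  have e2 : ((EtDesc.pullSh g₂).map a').hom.app (op N) (φ.hom.hom.app (op N) ww₁) =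
      F₂'.obj.map (ν ≫ m₂).op (uS g₂ F' Y A) := by
    refine h4.trans ?_
    show (EtDesc.pullVia g₂ f q w₂ F).inv.hom.app (op N)
      ((EtDesc.pullVia g₁ f q w₁ F).hom.hom.app (op N)
        (((EtDesc.pullSh g₁).map a').hom.app (op N) ww₁)) = _
    rw [e1]
    refine (congrArg _ (c1.symm.trans c4)).trans ?_
    exact types_congr_hom (congrArg (fun ψ : F₂' ⟶ F₂' => ψ.hom.app (op N))
      (EtDesc.pullVia g₂ f q w₂ F).hom_inv_id) _
  obtain ⟨V', h, z', hz'0, hz'⟩ :=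
    local_range g₂ a' Y A N (ν ≫ m₂) (φ.hom.hom.app (op N) ww₁) e2 n
  refine ⟨V', h, (pullback.fst V'.hom g₂ : ((EtCoh.bc g₂).obj V').left ⟶ V'.left) z', ?_, hz'0⟩
  have e1' := (EtCoh.isPullback_bc_map g₂ h).w
  have e2' : (pullback.fst Y.hom g₂ : ((EtCoh.bc g₂).obj Y).left ⟶ Y.left)
      (((EtCoh.bc g₂).map h).left z') =
      h.left ((pullback.fst V'.hom g₂ : ((EtCoh.bc g₂).obj V').left ⟶ V'.left) z') :=
    congrArg (fun ψ : ((EtCoh.bc g₂).obj V').left ⟶ Y.left => ψ z') e1'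
  have e3 : (ν ≫ m₂).left n = m₂.left ζ := congrArg m₂.left hn₂
  refine e2'.symm.trans ((congrArg _ (hz'.trans e3)).trans ?_)
  exact hζ₂

include hquot hζ in
theorem loc_surj
    (φ : (EtDesc.pullSh g₁).obj G' ≅ (EtDesc.pullSh g₂).obj G')
    (hφ : φ.hom ≫ (EtDesc.pullSh g₂).map a' = (EtDesc.pullSh g₁).map a' ≫
      (EtDesc.pullVia g₁ f q w₁ F ≪≫ (EtDesc.pullVia g₂ f q w₂ F).symm).hom)
    (G : EtDesc.Sh X) (a : G ⟶ F)
    (hGP : ∀ (U : X.Etale) (t : F.obj.obj (op U)), PP f F G' a' U t →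
      t ∈ Set.range (a.hom.app (op U)))
    (ψ₀ : (EtDesc.pullSh f).obj G ⟶ G') (hψ₀ : ψ₀ ≫ a' = (EtDesc.pullSh f).map a)
    (V : X'.Etale) (y : G'.obj.obj (op V)) (x : V.left) : Loc ψ₀ y x := by
  let F' := (EtDesc.pullSh f).obj F
  let Gp := (EtDesc.pullSh f).obj G
  have hinj' := (EtSiteBasic.mono_iff a').1 inferInstance
  obtain ⟨T', g, x', hx', U, φ₀, t, ht⟩ :=
    exists_local_unit f F V (a'.hom.app (op V) y) x
  let Y := (EtCoh.bc f).obj U
  let p : Y.left ⟶ U.left := pullback.fst U.hom f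
  let A : F'.obj.obj (op Y) := uS f F U t
  let b' : Y.left := φ₀.left x'
  let L : Set Y.left := {b | Loc a' A b}
  have hb' : b' ∈ L := by
    refine ⟨T', φ₀, x', rfl, G'.obj.map g.op y, ?_⟩
    rw [naS]; exact ht
  let E₀ : Set U.left := p '' L
  have hsat : p ⁻¹' E₀ = L := by
    ext b₂
    constructor
    · rintro ⟨b₁, hb₁, hpb⟩
      exact sat_loc g₁ g₂ f q w₁ w₂ F hζ G' a' φ hφ U t b₁ b₂ hpb hb₁
    · intro hb₂
      exact ⟨b₂, hb₂, rfl⟩
  have hopen : IsOpen E₀ := by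
    rw [← (hquot U).isOpen_preimage]
    show IsOpen (p ⁻¹' E₀)
    rw [hsat]; exact isOpen_loc a' A
  let Eo : U.left.Opens := ⟨E₀, hopen⟩
  haveI : Etale U.hom := U.prop
  let E : X.Etale := EtSiteBasic.ofEtale (Eo.ι ≫ U.hom)
  let j : E ⟶ U := MorphismProperty.Over.homMk Eo.ι rfl trivial
  have hu₀ : p b' ∈ E₀ := ⟨b', hb', rfl⟩
  let x'' : E.left := (⟨p b', hu₀⟩ : ↥Eo)
  have hx'' : j.left x'' = p b' := rfl
  have hPE : PP f F G' a' E (F.obj.map j.op t) := by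
    show uS f F E (F.obj.map j.op t) ∈ Set.range (a'.hom.app (op ((EtCoh.bc f).obj E)))
    rw [uS_map]
    obtain ⟨τ, hτ⟩ := glue a' (F'.obj.map ((EtCoh.bc f).map j).op A) (fun z => by
      rw [loc_map_iff]
      show ((EtCoh.bc f).map j).left z ∈ L
      rw [← hsat]
      show p (((EtCoh.bc f).map j).left z) ∈ E₀
      have e1 := (EtCoh.isPullback_bc_map f j).w
      have e2 : p (((EtCoh.bc f).map j).left z) =
          j.left ((pullback.fst E.hom f : ((EtCoh.bc f).obj E).left ⟶ E.left) z) :=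
        congrArg (fun ψ : ((EtCoh.bc f).obj E).left ⟶ U.left => ψ z) e1
      rw [e2]
      exact ((pullback.fst E.hom f : ((EtCoh.bc f).obj E).left ⟶ E.left) z).2)
    exact ⟨τ, hτ⟩
  obtain ⟨τE, hτE⟩ := hGP E (F.obj.map j.op t) hPE
  obtain ⟨zE, hzE, -⟩ := exists_pt_bc_map f j b' x'' hx''.symm
  obtain ⟨N, π₁, π₂, n, comm, hn₁, -⟩ :=
    H9FE.SecPull.exists_fp φ₀ ((EtCoh.bc f).map j) x' zE hzE.symm
  refine ⟨N, π₁ ≫ g, n, ?_, Gp.obj.map π₂.op (uS f G E τE), ?_⟩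
  · show g.left (π₁.left n) = x
    rw [hn₁]; exact hx'
  · apply hinj' N
    have l1 := types_congr_hom (congrArg (fun ψ : (EtDesc.pullSh f).obj G ⟶ F' =>
      ψ.hom.app (op N)) hψ₀) (Gp.obj.map π₂.op (uS f G E τE))
    have eL : ((EtDesc.pullSh f).map a).hom.app (op N) (Gp.obj.map π₂.op (uS f G E τE)) =
        F'.obj.map π₂.op (uS f F E (F.obj.map j.op t)) := by
      rw [naS, ← uS_nat, hτE]
    have eR : a'.hom.app (op N) (G'.obj.map (π₁ ≫ g).op y) =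
        F'.obj.map (π₁ ≫ φ₀).op A := by
      rw [naS, ← mmS, ht, mmS]
    have eM : F'.obj.map π₂.op (uS f F E (F.obj.map j.op t)) =
        F'.obj.map (π₁ ≫ φ₀).op A := by
      rw [uS_map, mmS, ← comm]
    exact l1.trans (eL.trans (eM.trans eR.symm))

include hquot hζ in
theorem main_b
    (φ : (EtDesc.pullSh g₁).obj G' ≅ (EtDesc.pullSh g₂).obj G')
    (hφ : φ.hom ≫ (EtDesc.pullSh g₂).map a' = (EtDesc.pullSh g₁).map a' ≫
      (EtDesc.pullVia g₁ f q w₁ F ≪≫ (EtDesc.pullVia g₂ f q w₂ F).symm).hom) :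
    ∃ (G : EtDesc.Sh X) (a : G ⟶ F) (_ : Mono a) (ψ : (EtDesc.pullSh f).obj G ≅ G'),
      ψ.hom ≫ a' = (EtDesc.pullSh f).map a := by
  let F' := (EtDesc.pullSh f).obj F
  have hinj' := (EtSiteBasic.mono_iff a').1 inferInstance
  let G : EtDesc.Sh X := subSh F (PP f F G' a') (fun k t h => PP_res f F G' a' k t h)
    (fun U t h => PP_loc f F G' a' U t h)
  let a : G ⟶ F := subι F (PP f F G' a') (fun k t h => PP_res f F G' a' k t h)
    (fun U t h => PP_loc f F G' a' U t h)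
  haveI : Mono a := mono_subι F (PP f F G' a') (fun k t h => PP_res f F G' a' k t h)
    (fun U t h => PP_loc f F G' a' U t h)
  have hP : ∀ (U : X.Etale) (τ : G.obj.obj (op U)),
      ∃ y : G'.obj.obj (op ((EtCoh.bc f).obj U)),
        a'.hom.app (op ((EtCoh.bc f).obj U)) y = uS f F U (a.hom.app (op U) τ) :=
    fun U τ => subι_prop F (PP f F G' a') (fun k t h => PP_res f F G' a' k t h)
      (fun U t h => PP_loc f F G' a' U t h) U τ
  have hGP : ∀ (U : X.Etale) (t : F.obj.obj (op U)), PP f F G' a' U t →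
      t ∈ Set.range (a.hom.app (op U)) :=
    fun U t ht => ⟨subMk F (PP f F G' a') (fun k t h => PP_res f F G' a' k t h)
      (fun U t h => PP_loc f F G' a' U t h) U t ht, rfl⟩
  choose c hc using hP
  have hcnat : ∀ {U₁ U : X.Etale} (k : U₁ ⟶ U) (τ : G.obj.obj (op U)),
      G'.obj.map ((EtCoh.bc f).map k).op (c U τ) = c U₁ (G.obj.map k.op τ) := by
    intro U₁ U k τ
    apply hinj' _
    rw [naS, hc, hc, naS, uS_map]
  let cc : G ⟶ (EtDesc.pushSh f).obj G' :=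
    ⟨{ app := fun U => ↾fun (τ : G.obj.obj U) => c U.unop τ
       naturality := by
         intro U U' k
         apply ConcreteCategory.hom_ext
         intro τ
         exact (hcnat k.unop τ).symm }⟩
  let ψ₀ : (EtDesc.pullSh f).obj G ⟶ G' := ((EtDesc.adjSh f).homEquiv G G').symm cc
  have hψ₀ : ψ₀ ≫ a' = (EtDesc.pullSh f).map a := by
    apply ((EtDesc.adjSh f).homEquiv G F').injective
    have n : a ≫ (EtDesc.adjSh f).unit.app F =
        (EtDesc.adjSh f).unit.app G ≫ (EtDesc.pushSh f).map ((EtDesc.pullSh f).map a) :=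
      (EtDesc.adjSh f).unit.naturality a
    rw [Adjunction.homEquiv_naturality_right, Equiv.apply_symm_apply,
      Adjunction.homEquiv_unit, ← n]
    apply Sheaf.hom_ext
    apply NatTrans.ext
    funext U
    apply ConcreteCategory.hom_ext
    intro τ
    exact hc U.unop τ
  haveI : Mono ((EtDesc.pullSh f).map a) := mono_pullSh f a
  haveI : Mono ψ₀ := mono_of_mono_fac hψ₀
  have hinjψ := (EtSiteBasic.mono_iff ψ₀).1 inferInstance
  have hsurj : ∀ V : X'.Etale, Function.Surjective (ψ₀.hom.app (op V)) := by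
    intro V y
    obtain ⟨τ, hτ⟩ := glue ψ₀ y (fun x =>
      loc_surj g₁ g₂ f q w₁ w₂ F hquot hζ G' a' φ hφ G a hGP ψ₀ hψ₀ V y x)
    exact ⟨τ, hτ⟩
  haveI : IsIso ψ₀ := isIso_of_bijective ψ₀ (fun V => ⟨hinjψ V, hsurj V⟩)
  exact ⟨G, a, inferInstance, asIso ψ₀, hψ₀⟩

include hquot hζ in
theorem main_b' (κ : (EtDesc.pullSh g₁).obj ((EtDesc.pullSh f).obj F) ≅
      (EtDesc.pullSh g₂).obj ((EtDesc.pullSh f).obj F))
    (hκ : κ = EtDesc.pullVia g₁ f q w₁ F ≪≫ (EtDesc.pullVia g₂ f q w₂ F).symm)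
    (h : ∃ φ : (EtDesc.pullSh g₁).obj G' ≅ (EtDesc.pullSh g₂).obj G',
      φ.hom ≫ (EtDesc.pullSh g₂).map a' = (EtDesc.pullSh g₁).map a' ≫ κ.hom) :
    ∃ (G : EtDesc.Sh X) (a : G ⟶ F) (_ : Mono a) (ψ : (EtDesc.pullSh f).obj G ≅ G'),
      ψ.hom ≫ a' = (EtDesc.pullSh f).map a := by
  subst hκ
  obtain ⟨φ, hφ⟩ := h
  exact main_b g₁ g₂ f q w₁ w₂ F hquot hζ G' a' φ hφ

end B

end H9FE.ShSub
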