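import Mathlib
import Groth.Prelude.Def_EtShriek2
import Groth.Agent.S0631
import Groth.Agent.Lib.Helper9.FE.ShriekStalk

/-! helper9: `f_!` is exact for separated locally quasi-finite `f` -/

set_option autoImplicit false
open CategoryTheory CategoryTheory.Limits AlgebraicGeometry Opposite
universe u

namespace H9FE.ShriekExact

set_option backward.isDefEq.respectTransparency false
set_option linter.style.haveILetI false
set_option linter.unusedSectionVars false

open EtShriek Groth.Agent.Lib.Helper5 Groth.Agent.S0728 Groth.Agent.S0072.Aux H9FE.ShriekStalk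

variable {X Y : Scheme.{u}} (f : X ⟶ Y)

instance lowerShriekPreFunctor_additive : (lowerShriekPreFunctor f).Additive where
  map_add := by
    intro F G α β
    ext V ⟨s, hs⟩
    apply Subtype.ext
    rfl

instance lowerShriek_additive : (lowerShriek f).Additive :=
  inferInstanceAs (lowerShriekPreFunctor f ⋙ presheafToSheaf _ _).Additive

variable {Ω : Type u} [Field Ω] [IsSepClosed Ω] (η : Spec (CommRingCat.of Ω) ⟶ Y)

/-- the functor `F ↦ (f_! F)_η` computed on the presheaf level -/
noncomputable abbrev StF : EtCoh.Ab X ⥤ AddCommGrpCat.{u + 1} :=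
  lowerShriekPreFunctor f ⋙ (Scheme.pointSmallEtale η).presheafFiber

/-- naturality of the comparison maps -/
lemma phiS_natural {F G : EtCoh.Ab X} (α : F ⟶ G) (ξ : Spec (CommRingCat.of Ω) ⟶ X)
    (hξ : ξ ≫ f = η) :
    (StF f η).map α ≫ phiS f η G ξ hξ = phiS f η F ξ hξ ≫ (EtCoh.stalk ξ).map α := by
  apply (Scheme.pointSmallEtale η).presheafFiber_hom_ext
  intro V v
  ext s
  simp only [ConcreteCategory.comp_apply]
  have h1 := ConcreteCategory.congr_hom
    ((Scheme.pointSmallEtale η).toPresheafFiber_naturality ((lowerShriekPreFunctor f).map α) V v) s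
  simp only [ConcreteCategory.comp_apply] at h1
  have h2 := ConcreteCategory.congr_hom
    ((Scheme.pointSmallEtale ξ).toPresheafFiber_naturality α.hom ((EtCoh.bc f).obj V)
      (liftPt f η ξ hξ V v)) s.1
  simp only [ConcreteCategory.comp_apply] at h2
  refine (congrArg (phiS f η G ξ hξ) h1).trans ?_
  refine (phiS_germ f η G ξ hξ V v _).trans ?_
  refine Eq.trans ?_ (congrArg ((EtCoh.stalk ξ).map α) (phiS_germ f η F ξ hξ V v s)).symm
  exact h2.symm


attribute [local instance] EtStalk.ab5' EtStalk.pfc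

/-- exactness is detected on a family of geometric points hitting every point -/
lemma exact_of_stalks_family {ι : Sort*} (P : ι → EtStalk.GeomPt Y)
    (hcov : ∀ x : Y, ∃ i, (P i).ξ (default : Spec (CommRingCat.of (P i).Ω)) = x)
    (S : ShortComplex (EtCoh.Ab Y))
    (h : ∀ i, (S.map ((P i).point.sheafFiber (A := AddCommGrpCat.{u + 1}))).Exact) :
    S.Exact := by
  rw [S.exact_iff_isZero_homology]
  apply EtStalk.isZero_of_stalks_family P hcov
  intro i
  have h1 := h i
  rw [ShortComplex.exact_iff_isZero_homology] at h1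
  exact h1.of_iso (S.mapHomologyIso ((P i).point.sheafFiber (A := AddCommGrpCat.{u + 1}))).symm

theorem stalk_exact [IsSeparated f] [LocallyOfFiniteType f] [LocallyQuasiFinite f]
    (hac : IsAlgClosed Ω) (S : ShortComplex (EtCoh.Ab X)) (hS : S.Exact) :
    (S.map (StF f η)).Exact := by
  classical
  rw [ShortComplex.ab_exact_iff]
  intro x₂ hx₂
  have hex : ∀ ξ : {ξ : Spec (CommRingCat.of Ω) ⟶ X // ξ ≫ f = η},
      ∃ y : (EtCoh.stalk ξ.1).obj S.X₁,
        (EtCoh.stalk ξ.1).map S.f y = phiS f η S.X₂ ξ.1 ξ.2 x₂ := by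
    intro ξ
    have h1 : (S.map (EtCoh.stalk ξ.1)).Exact := hS.map _
    rw [ShortComplex.ab_exact_iff] at h1
    apply h1
    have hn := ConcreteCategory.congr_hom (phiS_natural f η S.g ξ.1 ξ.2) x₂
    simp only [ConcreteCategory.comp_apply] at hn
    refine hn.symm.trans ?_
    refine (congrArg (phiS f η S.X₃ ξ.1 ξ.2) hx₂).trans (map_zero _)
  choose y hy using hex
  have hsing := fun ξ : {ξ : Spec (CommRingCat.of Ω) ⟶ X // ξ ≫ f = η} =>
    phiS_single f η S.X₁ ξ.1 ξ.2 (y ξ)
  choose a ha1 ha2 using hsing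
  let T := (phiS_finite f η S.X₂ x₂).toFinset
  refine ⟨∑ ξ ∈ T, a ξ, ?_⟩
  have hz : (S.map (StF f η)).f (∑ ξ ∈ T, a ξ) - x₂ = 0 := by
    apply phiS_injective f η S.X₂ hac
    intro ξ hξ
    rw [map_sub, sub_eq_zero]
    have hn := ConcreteCategory.congr_hom (phiS_natural f η S.f ξ hξ) (∑ ξ ∈ T, a ξ)
    simp only [ConcreteCategory.comp_apply] at hn
    refine hn.trans ?_
    rw [map_sum, map_sum]
    by_cases hmem : (⟨ξ, hξ⟩ : {ξ : Spec (CommRingCat.of Ω) ⟶ X // ξ ≫ f = η}) ∈ T
    · refine (Finset.sum_eq_single_of_mem _ hmem (fun ξ' _ hne =>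
        (congrArg ((EtCoh.stalk ξ).map S.f)
          (ha2 ξ' ξ hξ (fun h => hne (Subtype.ext h.symm)))).trans (map_zero _))).trans ?_
      exact (congrArg ((EtCoh.stalk ξ).map S.f) (ha1 ⟨ξ, hξ⟩)).trans (hy ⟨ξ, hξ⟩)
    · refine (Finset.sum_eq_zero (fun ξ' hξ' =>
        (congrArg ((EtCoh.stalk ξ).map S.f) (ha2 ξ' ξ hξ (fun h => hmem (by
          have : (⟨ξ, hξ⟩ : {ξ : Spec (CommRingCat.of Ω) ⟶ X // ξ ≫ f = η}) = ξ' :=
            Subtype.ext h
          rw [this]
          exact hξ')))).trans (map_zero _))).trans ?_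
      symm
      by_contra hne
      exact hmem ((Set.Finite.mem_toFinset _).2 hne)
  exact sub_eq_zero.1 hz

/-- the natural isomorphism computing the stalks of `f_!` on the presheaf level -/
noncomputable def stalkNatIso :
    lowerShriek f ⋙ EtCoh.stalk η ≅ StF f η :=
  Functor.associator _ _ _ ≪≫ Functor.isoWhiskerLeft (lowerShriekPreFunctor f)
    ((Scheme.pointSmallEtale η).presheafToSheafCompSheafFiberIso AddCommGrpCat.{u + 1})

theorem main [IsSeparated f] [LocallyOfFiniteType f] [LocallyQuasiFinite f] :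
    PreservesFiniteLimits (lowerShriek f) ∧ PreservesFiniteColimits (lowerShriek f) := by
  refine ((Functor.exact_tfae (lowerShriek f)).out 1 3).1 ?_
  intro S hS
  apply exact_of_stalks_family (fun y : Y => Groth.Agent.S0631.Aux.geomPtAlgAt y)
    (fun y => ⟨y, Groth.Agent.S0631.Aux.geomPtAlgAt_default y⟩)
  intro y
  haveI : IsAlgClosed (Groth.Agent.S0631.Aux.geomPtAlgAt y).Ω :=
    (inferInstance : IsAlgClosed (AlgebraicClosure (Y.residueField y)))
  have h1 := stalk_exact f (Groth.Agent.S0631.Aux.geomPtAlgAt y).ξ inferInstance S hS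
  have e : S.map (lowerShriek f ⋙ EtCoh.stalk (Groth.Agent.S0631.Aux.geomPtAlgAt y).ξ) ≅
      S.map (StF f (Groth.Agent.S0631.Aux.geomPtAlgAt y).ξ) :=
    S.mapNatIso (stalkNatIso f (Groth.Agent.S0631.Aux.geomPtAlgAt y).ξ)
  exact (ShortComplex.exact_iff_of_iso e).2 h1

end H9FE.ShriekExact
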