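import Mathlib
import Groth.Prelude.Def_EtShriek2
import Groth.Agent.S0631
import Groth.Agent.Lib.Helper9.FE.ShriekExact
import Groth.Agent.Lib.Helper9.FE.ShriekEtIso
import Groth.Agent.Lib.Helper9.FE.AbCofan

/-! helper9: `f_!` preserves colimits and is a left adjoint (separated locally quasi-finite `f`) -/

set_option autoImplicit false
open CategoryTheory CategoryTheory.Limits AlgebraicGeometry Opposite
universe u

namespace H9FE.ShriekCocont

set_option backward.isDefEq.respectTransparency false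
set_option linter.style.haveILetI false
set_option linter.unusedSectionVars false

open EtShriek Groth.Agent.Lib.Helper5 H9FE.ShriekStalk H9FE.ShriekExact

attribute [local instance] EtStalk.ab5' EtStalk.pfc

/-- colimit cocones of abelian étale sheaves are detected on a family of geometric points -/
lemma isColimit_of_stalks {Y : Scheme.{u}} {J : Type*} [Category J] {K : J ⥤ EtCoh.Ab Y}
    [HasColimit K] (c : Cocone K) {ι : Sort*} (P : ι → EtStalk.GeomPt Y)
    (hcov : ∀ x : Y, ∃ i, (P i).ξ (default : Spec (CommRingCat.of (P i).Ω)) = x)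
    (h : ∀ i, Nonempty (IsColimit
      (((P i).point.sheafFiber (A := AddCommGrpCat.{u + 1})).mapCocone c))) :
    Nonempty (IsColimit c) := by
  haveI : IsIso ((colimit.isColimit K).desc c) := by
    apply ShriekEtIso.isIso_of_stalks_family P hcov
    intro i
    have h1 : IsColimit (((P i).point.sheafFiber (A := AddCommGrpCat.{u + 1})).mapCocone
        (colimit.cocone K)) :=
      isColimitOfPreserves _ (colimit.isColimit K)
    obtain ⟨h2⟩ := h i
    have e : ((P i).point.sheafFiber (A := AddCommGrpCat.{u + 1})).map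
        ((colimit.isColimit K).desc c) = (h1.coconePointUniqueUpToIso h2).hom := by
      apply h1.hom_ext
      intro j
      rw [IsColimit.comp_coconePointUniqueUpToIso_hom]
      change ((P i).point.sheafFiber (A := AddCommGrpCat.{u + 1})).map ((colimit.cocone K).ι.app j) ≫
        ((P i).point.sheafFiber (A := AddCommGrpCat.{u + 1})).map ((colimit.isColimit K).desc c) =
        ((P i).point.sheafFiber (A := AddCommGrpCat.{u + 1})).map (c.ι.app j)
      rw [← Functor.map_comp, IsColimit.fac]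
    rw [e]
    exact (ConcreteCategory.isIso_iff_bijective _).1 inferInstance
  exact ⟨IsColimit.ofPointIso (colimit.isColimit K)⟩

variable {X Y : Scheme.{u}} (f : X ⟶ Y)
  {Ω : Type u} [Field Ω] [IsSepClosed Ω] (η : Spec (CommRingCat.of Ω) ⟶ Y)

lemma StF_map_zero (F G : EtCoh.Ab X) : (StF f η).map (0 : F ⟶ G) = 0 := by
  apply (Scheme.pointSmallEtale η).presheafFiber_hom_ext
  intro V v
  rw [comp_zero]
  change (Scheme.pointSmallEtale η).toPresheafFiber V v _ ≫
    (Scheme.pointSmallEtale η).presheafFiber.map ((lowerShriekPreFunctor f).map 0) = 0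
  rw [(Scheme.pointSmallEtale η).toPresheafFiber_naturality, Functor.map_zero]
  exact zero_comp


variable [IsSeparated f] [LocallyOfFiniteType f] [LocallyQuasiFinite f]

/-- the key generation statement: every element of the stalk of `f_!` of a coproduct is a sum of
elements coming from the summands -/
theorem gen_eq_top (hac : IsAlgClosed Ω) {ι : Type (u + 1)} (F : ι → EtCoh.Ab X) :
    AbCofan.genSubgroup (Cofan.mk ((StF f η).obj (∐ F))
      (fun i => (StF f η).map (Sigma.ι F i)) : Cofan fun i => (StF f η).obj (F i)) = ⊤ := by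
  classical
  set c' : Cofan fun i => (StF f η).obj (F i) := Cofan.mk ((StF f η).obj (∐ F))
    (fun i => (StF f η).map (Sigma.ι F i)) with hc'
  set S : AddSubgroup (St f η (∐ F)) := AbCofan.genSubgroup c' with hS
  have hinjmem : ∀ i (a : (StF f η).obj (F i)), (StF f η).map (Sigma.ι F i) a ∈ S :=
    fun i a => AbCofan.inj_mem_genSubgroup c' i a
  -- Claim A
  have claimA : ∀ (ξ : {ξ : Spec (CommRingCat.of Ω) ⟶ X // ξ ≫ f = η})
      (z : (EtCoh.stalk ξ.1).obj (∐ F)),
      ∃ a : St f η (∐ F), a ∈ S ∧ phiS f η (∐ F) ξ.1 ξ.2 a = z ∧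
        ∀ (ξ' : Spec (CommRingCat.of Ω) ⟶ X) (hξ' : ξ' ≫ f = η), ξ' ≠ ξ.1 →
          phiS f η (∐ F) ξ' hξ' a = 0 := by
    intro ξ z
    let cξ : Cofan fun i => (EtCoh.stalk ξ.1).obj (F i) :=
      Cofan.mk ((EtCoh.stalk ξ.1).obj (∐ F)) (fun i => (EtCoh.stalk ξ.1).map (Sigma.ι F i))
    have hcξ : IsColimit cξ :=
      isColimitMapCoconeCofanMkEquiv _ _ _
        (isColimitOfPreserves (EtCoh.stalk ξ.1) (coproductIsCoproduct F))
    have hz : z ∈ AbCofan.genSubgroup cξ := by
      rw [AbCofan.genSubgroup_eq_top cξ hcξ]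
      trivial
    refine AddSubgroup.closure_induction
      (p := fun z _ => ∃ a : St f η (∐ F), a ∈ S ∧ phiS f η (∐ F) ξ.1 ξ.2 a = z ∧
        ∀ (ξ' : Spec (CommRingCat.of Ω) ⟶ X) (hξ' : ξ' ≫ f = η), ξ' ≠ ξ.1 →
          phiS f η (∐ F) ξ' hξ' a = 0) ?_ ?_ ?_ ?_ hz
    · intro z hz
      obtain ⟨i, zi, rfl⟩ := Set.mem_iUnion.1 hz
      obtain ⟨ai, hai1, hai2⟩ := phiS_single f η (F i) ξ.1 ξ.2 zi
      refine ⟨(StF f η).map (Sigma.ι F i) ai, hinjmem i ai, ?_, ?_⟩
      · have hn := ConcreteCategory.congr_hom (phiS_natural f η (Sigma.ι F i) ξ.1 ξ.2) ai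
        simp only [ConcreteCategory.comp_apply] at hn
        refine hn.trans ?_
        exact congrArg ((EtCoh.stalk ξ.1).map (Sigma.ι F i)) hai1
      · intro ξ' hξ' hne
        have hn := ConcreteCategory.congr_hom (phiS_natural f η (Sigma.ι F i) ξ' hξ') ai
        simp only [ConcreteCategory.comp_apply] at hn
        refine hn.trans ?_
        exact (congrArg ((EtCoh.stalk ξ').map (Sigma.ι F i)) (hai2 ξ' hξ' hne)).trans (map_zero _)
    · exact ⟨0, S.zero_mem, map_zero _, fun ξ' hξ' _ => map_zero _⟩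
    · rintro z z' _ _ ⟨a, ha, ha1, ha2⟩ ⟨a', ha', ha1', ha2'⟩
      refine ⟨a + a', S.add_mem ha ha', ?_, ?_⟩
      · rw [map_add, ha1, ha1']
      · intro ξ' hξ' hne
        rw [map_add, ha2 ξ' hξ' hne, ha2' ξ' hξ' hne, add_zero]
    · rintro z _ ⟨a, ha, ha1, ha2⟩
      refine ⟨-a, S.neg_mem ha, ?_, ?_⟩
      · rw [map_neg, ha1]
      · intro ξ' hξ' hne
        rw [map_neg, ha2 ξ' hξ' hne, neg_zero]
  rw [eq_top_iff]
  intro y0 _
  let y : St f η (∐ F) := y0
  change y ∈ S
  have hA := fun ξ : {ξ : Spec (CommRingCat.of Ω) ⟶ X // ξ ≫ f = η} =>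
    claimA ξ (phiS f η (∐ F) ξ.1 ξ.2 y)
  choose a haS ha1 ha2 using hA
  let T := (phiS_finite f η (∐ F) y).toFinset
  have hz : y - ∑ ξ ∈ T, a ξ = 0 := by
    apply phiS_injective f η (∐ F) hac
    intro ξ hξ
    rw [map_sub, sub_eq_zero, map_sum]
    by_cases hmem : (⟨ξ, hξ⟩ : {ξ : Spec (CommRingCat.of Ω) ⟶ X // ξ ≫ f = η}) ∈ T
    · refine Eq.trans ?_ (Finset.sum_eq_single_of_mem _ hmem (fun ξ' _ hne =>
        ha2 ξ' ξ hξ (fun h => hne (Subtype.ext h.symm)))).symm
      exact (ha1 ⟨ξ, hξ⟩).symm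
    · refine Eq.trans ?_ (Finset.sum_eq_zero (fun ξ' hξ' =>
        ha2 ξ' ξ hξ (fun h => hmem (by
          have : (⟨ξ, hξ⟩ : {ξ : Spec (CommRingCat.of Ω) ⟶ X // ξ ≫ f = η}) = ξ' :=
            Subtype.ext h
          rw [this]
          exact hξ')))).symm
      by_contra hne
      exact hmem ((Set.Finite.mem_toFinset _).2 hne)
  rw [sub_eq_zero.1 hz]
  exact S.sum_mem (fun ξ _ => haS ξ)


/-- the stalk functor of `f_!` preserves coproducts -/
theorem StF_preservesCoproduct (hac : IsAlgClosed Ω) {ι : Type (u + 1)} (F : ι → EtCoh.Ab X) :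
    PreservesColimit (Discrete.functor F) (StF f η) := by
  classical
  apply preservesColimit_of_preserves_colimit_cocone (coproductIsCoproduct F)
  apply (isColimitMapCoconeCofanMkEquiv _ _ _).symm ?_
  let ρ : ∀ k, (∐ F) ⟶ F k := fun k =>
    Sigma.desc (fun i => if h : i = k then eqToHom (by rw [h]) else 0)
  have hρ_same : ∀ k, Sigma.ι F k ≫ ρ k = 𝟙 _ := by
    intro k
    rw [Sigma.ι_desc, dif_pos rfl]
    rfl
  have hρ_ne : ∀ i k, i ≠ k → Sigma.ι F i ≫ ρ k = 0 := by
    intro i k h
    rw [Sigma.ι_desc, dif_neg h]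
  refine AbCofan.isColimitOfRetractions.{u + 1, u + 1} _ (fun k => (StF f η).map (ρ k)) ?_ ?_
    (gen_eq_top f η hac F)
  · intro k z
    change (StF f η).map (ρ k) ((StF f η).map (Sigma.ι F k) z) = z
    rw [← ConcreteCategory.comp_apply, ← Functor.map_comp, hρ_same, CategoryTheory.Functor.map_id]
    rfl
  · intro i k h z
    change (StF f η).map (ρ k) ((StF f η).map (Sigma.ι F i) z) = 0
    rw [← ConcreteCategory.comp_apply, ← Functor.map_comp, hρ_ne i k h, StF_map_zero]
    rfl

/-- `f_!` preserves coproducts -/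
theorem lowerShriek_preservesCoproduct {ι : Type (u + 1)} (F : ι → EtCoh.Ab X) :
    PreservesColimit (Discrete.functor F) (lowerShriek f) := by
  apply preservesColimit_of_preserves_colimit_cocone (coproductIsCoproduct F)
  refine (isColimit_of_stalks _ (fun y : Y => Groth.Agent.S0631.Aux.geomPtAlgAt y)
    (fun y => ⟨y, Groth.Agent.S0631.Aux.geomPtAlgAt_default y⟩) (fun y => ?_)).some
  haveI : IsAlgClosed (Groth.Agent.S0631.Aux.geomPtAlgAt y).Ω :=
    (inferInstance : IsAlgClosed (AlgebraicClosure (Y.residueField y)))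
  haveI := StF_preservesCoproduct f (Groth.Agent.S0631.Aux.geomPtAlgAt y).ξ inferInstance F
  have h1 : IsColimit ((StF f (Groth.Agent.S0631.Aux.geomPtAlgAt y).ξ).mapCocone
      (Cofan.mk (∐ F) (Sigma.ι F))) :=
    isColimitOfPreserves _ (coproductIsCoproduct F)
  have h2 : IsColimit ((lowerShriek f ⋙ EtCoh.stalk (Groth.Agent.S0631.Aux.geomPtAlgAt y).ξ).mapCocone
      (Cofan.mk (∐ F) (Sigma.ι F))) :=
    (IsColimit.mapCoconeEquiv (stalkNatIso f (Groth.Agent.S0631.Aux.geomPtAlgAt y).ξ).symm) h1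
  exact ⟨h2⟩

instance lowerShriek_preservesCoproducts (ι : Type (u + 1)) :
    PreservesColimitsOfShape (Discrete ι) (lowerShriek f) where
  preservesColimit {K} := by
    haveI := lowerShriek_preservesCoproduct f (K.obj ∘ Discrete.mk)
    exact preservesColimit_of_iso_diagram (lowerShriek f) Discrete.natIsoFunctor.symm

theorem lowerShriek_preservesColimits :
    PreservesColimitsOfSize.{u + 1, u + 1} (lowerShriek f) := by
  haveI : PreservesFiniteColimits (lowerShriek f) := (ShriekExact.main f).2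
  haveI := IsGrothendieckAbelian.hasColimits.{u + 1} (EtCoh.Ab X)
  exact preservesColimits_of_preservesCoequalizers_and_coproducts.{u + 1} (lowerShriek f)

theorem isLeftAdjoint : (lowerShriek f).IsLeftAdjoint := by
  haveI := lowerShriek_preservesColimits f
  haveI := IsGrothendieckAbelian.hasColimits.{u + 1} (EtCoh.Ab X)
  exact isLeftAdjoint_of_preservesColimits_of_isSeparating.{u + 1}
    (isSeparator_separator (EtCoh.Ab X)) (lowerShriek f)

end H9FE.ShriekCocont
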