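import Mathlib
import Groth.Prelude.Def_EtShriek2
import Groth.Agent.S0631
import Groth.Agent.Lib.Helper9.FE.ShriekExact
import Groth.Agent.Lib.Helper9.FE.ShriekCocont
import Groth.Agent.Lib.Helper9.FE.AbCofan

/-! helper9: `f_!` preserves coproducts for `f` separated and locally of finite type -/

set_option autoImplicit false
open CategoryTheory CategoryTheory.Limits AlgebraicGeometry Opposite
universe u

namespace H9FE.ShriekCoprod

set_option backward.isDefEq.respectTransparency false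
set_option linter.style.haveILetI false
set_option linter.unusedSectionVars false

open EtShriek Groth.Agent.Lib.Helper5 Groth.Agent.S0728 Groth.Agent.S0072.Aux Groth.Agent.Helper3
  H9FE.ShriekStalk H9FE.ShriekExact

attribute [local instance] EtStalk.ab5' EtStalk.pfc

section Local

variable {X : Scheme.{u}} {ι : Type u} (F : ι → EtCoh.Ab X)

open Classical in
/-- the coordinate projections of a coproduct -/
noncomputable def rho (k : ι) : (∐ F) ⟶ F k :=
  Sigma.desc (fun i => if h : i = k then eqToHom (by rw [h]) else 0)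

lemma ι_rho_same (k : ι) : Sigma.ι F k ≫ rho F k = 𝟙 _ := by
  rw [rho, Sigma.ι_desc, dif_pos rfl]
  rfl

lemma ι_rho_ne (i k : ι) (h : i ≠ k) : Sigma.ι F i ≫ rho F k = 0 := by
  rw [rho, Sigma.ι_desc, dif_neg h]

lemma rho_ι_same_apply (k : ι) (U : X.Etale) (t : EtCoh.sect (F k) U) :
    (rho F k).hom.app (op U) ((Sigma.ι F k).hom.app (op U) t) = t := by
  have h := congrArg (fun α : F k ⟶ F k => α.hom.app (op U) t) (ι_rho_same F k)
  exact h

lemma rho_ι_ne_apply (i k : ι) (h : i ≠ k) (U : X.Etale) (t : EtCoh.sect (F i) U) :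
    (rho F k).hom.app (op U) ((Sigma.ι F i).hom.app (op U) t) = 0 := by
  have h := congrArg (fun α : F i ⟶ F k => α.hom.app (op U) t) (ι_rho_ne F i k h)
  exact h

/-- naturality of a morphism of sheaves on sections -/
lemma app_map {G H : EtCoh.Ab X} (α : G ⟶ H) {U W : X.Etale} (g : W ⟶ U) (s : EtCoh.sect G U) :
    α.hom.app (op W) (G.obj.map g.op s) = H.obj.map g.op (α.hom.app (op U) s) := by
  have := ConcreteCategory.congr_hom (α.hom.naturality g.op) s
  simpa only [ConcreteCategory.comp_apply] using this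

/-- the subgroup of sections of the coproduct which are finite sums of sections of the summands -/
noncomputable def finSub (U : X.Etale) : AddSubgroup (EtCoh.sect (∐ F) U) :=
  AddSubgroup.closure (⋃ i, Set.range ((Sigma.ι F i).hom.app (op U)))

lemma ι_mem_finSub (U : X.Etale) (i : ι) (t : EtCoh.sect (F i) U) :
    (Sigma.ι F i).hom.app (op U) t ∈ finSub F U :=
  AddSubgroup.subset_closure (Set.mem_iUnion.2 ⟨i, t, rfl⟩)

lemma map_mem_finSub {U W : X.Etale} (g : W ⟶ U) (σ : EtCoh.sect (∐ F) U) (hσ : σ ∈ finSub F U) :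
    (∐ F).obj.map g.op σ ∈ finSub F W := by
  refine AddSubgroup.closure_induction (p := fun σ _ => (∐ F).obj.map g.op σ ∈ finSub F W)
    ?_ ?_ ?_ ?_ hσ
  · intro σ hσ
    obtain ⟨i, t, rfl⟩ := Set.mem_iUnion.1 hσ
    change (∐ F).obj.map g.op ((Sigma.ι F i).hom.app (op U) t) ∈ finSub F W
    rw [← app_map]
    exact ι_mem_finSub F W i _
  · rw [map_zero]
    exact (finSub F W).zero_mem
  · intro a b _ _ ha hb
    rw [map_add]
    exact (finSub F W).add_mem ha hb
  · intro a _ ha
    rw [map_neg]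
    exact (finSub F W).neg_mem ha

/-- sections in `finSub` are the sum of their coordinates -/
lemma finSub_sum (U : X.Etale) (σ : EtCoh.sect (∐ F) U) (hσ : σ ∈ finSub F U) :
    ∃ T : Finset ι, ∀ T' : Finset ι, T ⊆ T' →
      σ = ∑ i ∈ T', (Sigma.ι F i).hom.app (op U) ((rho F i).hom.app (op U) σ) := by
  classical
  refine AddSubgroup.closure_induction (p := fun σ _ => ∃ T : Finset ι, ∀ T' : Finset ι, T ⊆ T' →
      σ = ∑ i ∈ T', (Sigma.ι F i).hom.app (op U) ((rho F i).hom.app (op U) σ)) ?_ ?_ ?_ ?_ hσ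
  · intro σ hσ
    obtain ⟨i, t, rfl⟩ := Set.mem_iUnion.1 hσ
    refine ⟨{i}, fun T' hT' => ?_⟩
    have hi : i ∈ T' := hT' (Finset.mem_singleton_self i)
    rw [Finset.sum_eq_single_of_mem i hi]
    · change _ = (Sigma.ι F i).hom.app (op U) ((rho F i).hom.app (op U)
        ((Sigma.ι F i).hom.app (op U) t))
      rw [rho_ι_same_apply]
    · intro k _ hk
      change (Sigma.ι F k).hom.app (op U) ((rho F k).hom.app (op U)
        ((Sigma.ι F i).hom.app (op U) t)) = 0
      rw [rho_ι_ne_apply F i k (fun h => hk h.symm), map_zero]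
  · refine ⟨∅, fun T' _ => ?_⟩
    symm
    apply Finset.sum_eq_zero
    intro i _
    rw [map_zero, map_zero]
  · rintro a b _ _ ⟨Ta, ha⟩ ⟨Tb, hb⟩
    refine ⟨Ta ∪ Tb, fun T' hT' => ?_⟩
    have h1 := ha T' (Finset.union_subset_left hT')
    have h2 := hb T' (Finset.union_subset_right hT')
    simp only [map_add, Finset.sum_add_distrib]
    rw [← h1, ← h2]
  · rintro a _ ⟨Ta, ha⟩
    refine ⟨Ta, fun T' hT' => ?_⟩
    have h1 := ha T' hT'
    simp only [map_neg, Finset.sum_neg_distrib]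
    rw [← h1]

/-- common refinement of two étale neighbourhoods of a geometric point -/
lemma exists_common {Ω : Type u} [Field Ω] [IsSepClosed Ω] (ξ : Spec (CommRingCat.of Ω) ⟶ X)
    (W₁ W₂ : X.Etale) (w₁ : (Scheme.pointSmallEtale ξ).fiber.obj W₁)
    (w₂ : (Scheme.pointSmallEtale ξ).fiber.obj W₂) :
    ∃ (W : X.Etale) (g₁ : W ⟶ W₁) (g₂ : W ⟶ W₂) (w : (Scheme.pointSmallEtale ξ).fiber.obj W),
      (Scheme.pointSmallEtale ξ).fiber.map g₁ w = w₁ ∧
      (Scheme.pointSmallEtale ξ).fiber.map g₂ w = w₂ := by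
  let e₁ : (Scheme.pointSmallEtale ξ).fiber.Elements := ⟨W₁, w₁⟩
  let e₂ : (Scheme.pointSmallEtale ξ).fiber.Elements := ⟨W₂, w₂⟩
  exact ⟨(IsCofiltered.min e₁ e₂).1, (IsCofiltered.minToLeft e₁ e₂).1,
    (IsCofiltered.minToRight e₁ e₂).1, (IsCofiltered.min e₁ e₂).2,
    (IsCofiltered.minToLeft e₁ e₂).2, (IsCofiltered.minToRight e₁ e₂).2⟩

/-- every germ of the coproduct is the germ of a finite sum -/
lemma germ_mem {Ω : Type u} [Field Ω] [IsSepClosed Ω] (ξ : Spec (CommRingCat.of Ω) ⟶ X)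
    (U₀ : X.Etale) (u₀ : (Scheme.pointSmallEtale ξ).fiber.obj U₀)
    (z : (EtCoh.stalk ξ).obj (∐ F)) :
    ∃ (W : X.Etale) (w : (Scheme.pointSmallEtale ξ).fiber.obj W) (σ : EtCoh.sect (∐ F) W),
      σ ∈ finSub F W ∧ (Scheme.pointSmallEtale ξ).toPresheafFiber W w (∐ F).obj σ = z := by
  let cξ : Cofan fun i => (EtCoh.stalk ξ).obj (F i) :=
    Cofan.mk ((EtCoh.stalk ξ).obj (∐ F)) (fun i => (EtCoh.stalk ξ).map (Sigma.ι F i))
  have hcξ : IsColimit cξ :=
    isColimitMapCoconeCofanMkEquiv _ _ _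
      (isColimitOfPreserves (EtCoh.stalk ξ) (coproductIsCoproduct F))
  have hz : z ∈ AbCofan.genSubgroup cξ := by
    rw [AbCofan.genSubgroup_eq_top cξ hcξ]
    trivial
  refine AddSubgroup.closure_induction
    (p := fun z _ => ∃ (W : X.Etale) (w : (Scheme.pointSmallEtale ξ).fiber.obj W)
      (σ : EtCoh.sect (∐ F) W), σ ∈ finSub F W ∧
      (Scheme.pointSmallEtale ξ).toPresheafFiber W w (∐ F).obj σ = z) ?_ ?_ ?_ ?_ hz
  · intro z hz
    obtain ⟨i, zi, rfl⟩ := Set.mem_iUnion.1 hz
    obtain ⟨W, w, τ, rfl⟩ := (Scheme.pointSmallEtale ξ).toPresheafFiber_jointly_surjective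
      (P := (F i).obj) zi
    refine ⟨W, w, (Sigma.ι F i).hom.app (op W) τ, ι_mem_finSub F W i τ, ?_⟩
    have h2 := ConcreteCategory.congr_hom
      ((Scheme.pointSmallEtale ξ).toPresheafFiber_naturality (Sigma.ι F i).hom W w) τ
    simp only [ConcreteCategory.comp_apply] at h2
    exact h2.symm
  · exact ⟨U₀, u₀, 0, (finSub F U₀).zero_mem, map_zero _⟩
  · rintro a b _ _ ⟨Wa, wa, σa, hσa, rfl⟩ ⟨Wb, wb, σb, hσb, rfl⟩
    obtain ⟨W, g₁, g₂, w, hw₁, hw₂⟩ := exists_common ξ Wa Wb wa wb
    refine ⟨W, w, (∐ F).obj.map g₁.op σa + (∐ F).obj.map g₂.op σb,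
      (finSub F W).add_mem (map_mem_finSub F g₁ σa hσa) (map_mem_finSub F g₂ σb hσb), ?_⟩
    rw [map_add]
    have w1 := ConcreteCategory.congr_hom
      ((Scheme.pointSmallEtale ξ).toPresheafFiber_w g₁ w (∐ F).obj) σa
    have w2 := ConcreteCategory.congr_hom
      ((Scheme.pointSmallEtale ξ).toPresheafFiber_w g₂ w (∐ F).obj) σb
    simp only [ConcreteCategory.comp_apply] at w1 w2
    rw [hw₁] at w1
    rw [hw₂] at w2
    rw [w1, w2]
  · rintro a _ ⟨Wa, wa, σa, hσa, rfl⟩
    exact ⟨Wa, wa, -σa, (finSub F Wa).neg_mem hσa, map_neg _ _⟩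

/-- locally every section of the coproduct is a finite sum -/
lemma exists_local (U : X.Etale) (s : EtCoh.sect (∐ F) U) (x : U.left) :
    ∃ (W : X.Etale) (g : W ⟶ U) (w : W.left), g.left w = x ∧
      (∐ F).obj.map g.op s ∈ finSub F W := by
  let P := EtStalk.geomPtAt (U.hom x)
  obtain ⟨u, hu⟩ :=
    Scheme.pointSmallEtaleFiberObjToPreimage_surjective P.ξ (EtStalk.geomPtAt_default _) U ⟨x, rfl⟩
  rw [Subtype.ext_iff] at hu
  simp only [Scheme.pointSmallEtaleFiberObjToPreimage_coe] at hu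
  obtain ⟨W, w, σ, hσ, hz⟩ := germ_mem F P.ξ U u
    ((Scheme.pointSmallEtale P.ξ).toPresheafFiber U u (∐ F).obj s)
  obtain ⟨W', g₁, g₂, w', hw₁, hw₂⟩ := exists_common P.ξ W U w u
  have w1 := ConcreteCategory.congr_hom
    ((Scheme.pointSmallEtale P.ξ).toPresheafFiber_w g₁ w' (∐ F).obj) σ
  have w2 := ConcreteCategory.congr_hom
    ((Scheme.pointSmallEtale P.ξ).toPresheafFiber_w g₂ w' (∐ F).obj) s
  simp only [ConcreteCategory.comp_apply] at w1 w2
  rw [hw₁] at w1
  rw [hw₂] at w2
  have h3 : (Scheme.pointSmallEtale P.ξ).toPresheafFiber W' w' (∐ F).obj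
      ((∐ F).obj.map g₁.op σ) = (Scheme.pointSmallEtale P.ξ).toPresheafFiber W' w' (∐ F).obj
      ((∐ F).obj.map g₂.op s) := w1.trans (hz.trans w2.symm)
  rw [(Scheme.pointSmallEtale P.ξ).toPresheafFiber_eq_iff'] at h3
  obtain ⟨W'', k, w'', hk, hres⟩ := h3
  refine ⟨W'', k ≫ g₂, w''.left (default : Spec (CommRingCat.of P.Ω)), ?_, ?_⟩
  · have e : (Scheme.pointSmallEtale P.ξ).fiber.map (k ≫ g₂) w'' = u := by
      rw [CategoryTheory.Functor.map_comp_apply, hk, hw₂]
    rw [← hu, ← e]
    rfl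
  · rw [map_comp_apply, ← hres, ← map_comp_apply]
    exact map_mem_finSub F (k ≫ g₁) σ hσ

/-- the coordinates are jointly injective on sections of the coproduct -/
lemma eq_zero_of_rho (U : X.Etale) (s : EtCoh.sect (∐ F) U)
    (h : ∀ j, (rho F j).hom.app (op U) s = 0) : s = 0 := by
  apply sect_ext_local
  intro x
  obtain ⟨W, g, w, hw, hmem⟩ := exists_local F U s x
  refine ⟨W, g, w, hw, ?_⟩
  obtain ⟨T, hT⟩ := finSub_sum F W _ hmem
  rw [hT T subset_rfl, map_zero]
  apply Finset.sum_eq_zero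
  intro i _
  rw [app_map, h i, map_zero, map_zero]

/-- locally, all but finitely many coordinates of a section of the coproduct vanish -/
lemma exists_local_rho (U : X.Etale) (s : EtCoh.sect (∐ F) U) (x : U.left) :
    ∃ (W : X.Etale) (g : W ⟶ U) (w : W.left) (T : Finset ι), g.left w = x ∧
      ∀ j, j ∉ T → (F j).obj.map g.op ((rho F j).hom.app (op U) s) = 0 := by
  obtain ⟨W, g, w, hw, hmem⟩ := exists_local F U s x
  obtain ⟨T, hT⟩ := finSub_sum F W _ hmem
  refine ⟨W, g, w, T, hw, fun j hj => ?_⟩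
  rw [← app_map, hT T subset_rfl, map_sum]
  apply Finset.sum_eq_zero
  intro i hi
  have hij : i ≠ j := fun h => hj (h ▸ hi)
  exact rho_ι_ne_apply F i j hij W _

/-- a section of the coproduct with quasi-compact support has only finitely many nonzero
coordinates -/
lemma exists_finset_of_compact (U : X.Etale) (s : EtCoh.sect (∐ F) U)
    (hc : IsCompact (sectSupp (∐ F) U s)) :
    ∃ T : Finset ι, ∀ j, j ∉ T → (rho F j).hom.app (op U) s = 0 := by
  classical
  choose W g w T hw hT using exists_local_rho F U s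
  obtain ⟨xs, hxs⟩ := hc.elim_finite_subcover (fun x => Set.range (g x).left.base)
    (fun x => (g x).left.isOpenMap.isOpen_range)
    (fun y _ => Set.mem_iUnion.2 ⟨y, w y, hw y⟩)
  refine ⟨xs.biUnion T, fun j hj => ?_⟩
  apply sect_ext_local
  intro y
  by_cases hy : y ∈ sectSupp (∐ F) U s
  · obtain ⟨x, hx, w', hw'⟩ : ∃ x ∈ xs, ∃ w', (g x).left w' = y := by
      have h1 := hxs hy
      simp only [Set.mem_iUnion] at h1
      obtain ⟨x, hx, w', hw'⟩ := h1
      exact ⟨x, hx, w', hw'⟩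
    refine ⟨W x, g x, w', hw', ?_⟩
    rw [map_zero]
    apply hT x j
    intro hjx
    exact hj (Finset.mem_biUnion.2 ⟨x, hx, hjx⟩)
  · have h1 : ∃ (W' : X.Etale) (g' : W' ⟶ U), (∃ w' : W'.left, g'.left.base w' = y) ∧
        (∐ F).obj.map g'.op s = 0 := by
      by_contra hne
      apply hy
      intro W' g' hw' h0
      exact hne ⟨W', g', hw', h0⟩
    obtain ⟨W', g', ⟨w', hw'⟩, h0⟩ := h1
    refine ⟨W', g', w', hw', ?_⟩
    rw [map_zero, ← app_map, h0, map_zero]

end Local

section Shriek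

variable {X Y : Scheme.{u}} (f : X ⟶ Y) [IsSeparated f] [LocallyOfFiniteType f]
  {ι : Type u} (F : ι → EtCoh.Ab X)

/-- a section with proper support over a quasi-compact base has only finitely many nonzero
coordinates -/
lemma exists_finset (V : Y.Etale) [CompactSpace V.left]
    (s : EtCoh.sect (∐ F) ((EtCoh.bc f).obj V)) (hs : s ∈ shriekSubgroup f (∐ F) V) :
    ∃ T : Finset ι, ∀ j, j ∉ T → (rho F j).hom.app (op ((EtCoh.bc f).obj V)) s = 0 := by
  apply exists_finset_of_compact
  obtain ⟨hcl, hprop⟩ := isProperOver_sectSupp f (∐ F) V s hs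
  haveI : IsProper (redι _ hcl ≫ prV f V) := hprop
  haveI : CompactSpace (redSub _ hcl) :=
    QuasiCompact.compactSpace_of_compactSpace (redι _ hcl ≫ prV f V)
  rw [← range_redι _ hcl]
  exact isCompact_range (redι _ hcl).continuous

variable {Ω : Type u} [Field Ω] [IsSepClosed Ω] (η : Spec (CommRingCat.of Ω) ⟶ Y)

/-- every element of the stalk of `f_!` of a coproduct is a sum of elements coming from the
summands -/
theorem gen_eq_top :
    AbCofan.genSubgroup (Cofan.mk ((StF f η).obj (∐ F))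
      (fun i => (StF f η).map (Sigma.ι F i)) : Cofan fun i => (StF f η).obj (F i)) = ⊤ := by
  classical
  rw [eq_top_iff]
  intro a _
  obtain ⟨V, v, ⟨s, hs⟩, rfl⟩ := (Scheme.pointSmallEtale η).toPresheafFiber_jointly_surjective
    (P := lowerShriekPre f (∐ F)) a
  obtain ⟨O, hO, hvO⟩ : ∃ O : V.left.Opens, IsAffineOpen O ∧
      v.left (default : Spec (CommRingCat.of Ω)) ∈ O := by
    obtain ⟨_, ⟨O, hO, rfl⟩, hu, -⟩ := V.left.isBasis_affineOpens.exists_subset_of_mem_open
      (Set.mem_univ (v.left (default : Spec (CommRingCat.of Ω)))) isOpen_univ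
    exact ⟨O, hO, hu⟩
  let V' : Y.Etale := restrictOpen V O
  let ι' : V' ⟶ V := restrictOpenι V O
  obtain ⟨v'l, hv'l⟩ := lift_open O v.left hvO
  have hv'w : v'l ≫ V'.hom = η := by
    change v'l ≫ O.ι ≫ V.hom = η
    rw [← Category.assoc, hv'l]
    exact Over.w v
  let v' : (Scheme.pointSmallEtale η).fiber.obj V' := Over.homMk v'l hv'w
  have hv' : (Scheme.pointSmallEtale η).fiber.map ι' v' = v := by
    apply Over.OverMorphism.ext
    exact hv'l
  have w := ConcreteCategory.congr_hom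
    ((Scheme.pointSmallEtale η).toPresheafFiber_w ι' v' (lowerShriekPre f (∐ F))) ⟨s, hs⟩
  simp only [ConcreteCategory.comp_apply] at w
  rw [hv'] at w
  rw [← w]
  haveI : CompactSpace V'.left := isCompact_iff_compactSpace.1 hO.isCompact
  obtain ⟨b, hb⟩ : ∃ b : shriekSubgroup f (∐ F) V',
      b = (lowerShriekPre f (∐ F)).map ι'.op ⟨s, hs⟩ := ⟨_, rfl⟩
  rw [← hb]
  obtain ⟨T, hT⟩ := exists_finset f F V' b.1 b.2
  have hsum : b = ∑ i ∈ T, ((lowerShriekPreFunctor f).map (Sigma.ι F i)).app (op V')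
      (((lowerShriekPreFunctor f).map (rho F i)).app (op V') b) := by
    apply Subtype.ext
    rw [AddSubgroup.val_finsetSum]
    change b.1 = ∑ i ∈ T, (Sigma.ι F i).hom.app (op ((EtCoh.bc f).obj V'))
      ((rho F i).hom.app (op ((EtCoh.bc f).obj V')) b.1)
    rw [← sub_eq_zero]
    apply eq_zero_of_rho F
    intro j
    rw [map_sub, map_sum, sub_eq_zero]
    by_cases hj : j ∈ T
    · rw [Finset.sum_eq_single_of_mem j hj]
      · exact (rho_ι_same_apply F j _ _).symm
      · intro i _ hij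
        exact rho_ι_ne_apply F i j hij _ _
    · rw [hT j hj]
      symm
      apply Finset.sum_eq_zero
      intro i hi
      exact rho_ι_ne_apply F i j (fun h => hj (h ▸ hi)) _ _
  rw [hsum, map_sum]
  apply AddSubgroup.sum_mem
  intro i _
  have h1 := ConcreteCategory.congr_hom ((Scheme.pointSmallEtale η).toPresheafFiber_naturality
    ((lowerShriekPreFunctor f).map (Sigma.ι F i)) V' v')
    (((lowerShriekPreFunctor f).map (rho F i)).app (op V') b)
  simp only [ConcreteCategory.comp_apply] at h1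
  have h2 := AbCofan.inj_mem_genSubgroup (Cofan.mk ((StF f η).obj (∐ F))
      (fun i => (StF f η).map (Sigma.ι F i)) : Cofan fun i => (StF f η).obj (F i)) i
    ((Scheme.pointSmallEtale η).toPresheafFiber V' v' ((lowerShriekPreFunctor f).obj (F i))
      (((lowerShriekPreFunctor f).map (rho F i)).app (op V') b))
  have key : ∀ (S : AddSubgroup (St f η (∐ F))) (x y : St f η (∐ F)), x = y → x ∈ S → y ∈ S :=
    fun S x y h hx => h ▸ hx
  exact key _ _ _ h1 h2

/-- the stalk functor of `f_!` preserves coproducts -/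
theorem StF_preservesCoproduct :
    PreservesColimit (Discrete.functor F) (StF f η) := by
  classical
  apply preservesColimit_of_preserves_colimit_cocone (coproductIsCoproduct F)
  apply (isColimitMapCoconeCofanMkEquiv _ _ _).symm ?_
  refine AbCofan.isColimitOfRetractions.{u + 1, u} _ (fun k => (StF f η).map (rho F k)) ?_ ?_
    (gen_eq_top f F η)
  · intro k z
    change (StF f η).map (rho F k) ((StF f η).map (Sigma.ι F k) z) = z
    rw [← ConcreteCategory.comp_apply, ← Functor.map_comp, ι_rho_same,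
      CategoryTheory.Functor.map_id]
    rfl
  · intro i k h z
    change (StF f η).map (rho F k) ((StF f η).map (Sigma.ι F i) z) = 0
    rw [← ConcreteCategory.comp_apply, ← Functor.map_comp, ι_rho_ne F i k h,
      ShriekCocont.StF_map_zero]
    rfl

/-- `f_!` preserves coproducts -/
theorem lowerShriek_preservesCoproduct :
    PreservesColimit (Discrete.functor F) (lowerShriek f) := by
  apply preservesColimit_of_preserves_colimit_cocone (coproductIsCoproduct F)
  refine (ShriekCocont.isColimit_of_stalks _ (fun y : Y => EtStalk.geomPtAt y)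
    (fun y => ⟨y, EtStalk.geomPtAt_default y⟩) (fun y => ?_)).some
  haveI := StF_preservesCoproduct f F (EtStalk.geomPtAt y).ξ
  have h1 : IsColimit ((StF f (EtStalk.geomPtAt y).ξ).mapCocone
      (Cofan.mk (∐ F) (Sigma.ι F))) :=
    isColimitOfPreserves _ (coproductIsCoproduct F)
  have h2 : IsColimit ((lowerShriek f ⋙ EtCoh.stalk (EtStalk.geomPtAt y).ξ).mapCocone
      (Cofan.mk (∐ F) (Sigma.ι F))) :=
    (IsColimit.mapCoconeEquiv (stalkNatIso f (EtStalk.geomPtAt y).ξ).symm) h1
  exact ⟨h2⟩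

theorem main (ι : Type u) : PreservesColimitsOfShape (Discrete ι) (lowerShriek f) where
  preservesColimit {K} := by
    haveI := lowerShriek_preservesCoproduct f (K.obj ∘ Discrete.mk)
    exact preservesColimit_of_iso_diagram (lowerShriek f) Discrete.natIsoFunctor.symm

end Shriek

end H9FE.ShriekCoprod
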