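import Mathlib
import Groth.Agent.Lib.Helper9.FE.AbCoprod2

/-! helper9: tensoring a direct sum decomposition (given by coordinate maps) with a fixed group:
a criterion for a map `A ⊗ M → B` to be bijective -/

set_option autoImplicit false
open CategoryTheory DirectSum TensorProduct

namespace H9FE.TensDirectSum

universe w v

variable {ι : Type v} {A B M : Type (max v w)} [AddCommGroup A] [AddCommGroup B] [AddCommGroup M]
  (F T : ι → Type (max v w)) [∀ i, AddCommGroup (F i)] [∀ i, AddCommGroup (T i)]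
  (φ : ∀ i, A →+ F i) (ψ : ∀ i, B →+ T i)

theorem bijective_of_components
    (hφinj : ∀ a, (∀ i, φ i a = 0) → a = 0)
    (hφfin : ∀ a, {i | φ i a ≠ 0}.Finite)
    (hφsingle : ∀ i (z : F i), ∃ a, φ i a = z ∧ ∀ j, j ≠ i → φ j a = 0)
    (hψinj : ∀ b, (∀ i, ψ i b = 0) → b = 0)
    (hψfin : ∀ b, {i | ψ i b ≠ 0}.Finite)
    (hψsingle : ∀ i (z : T i), ∃ b, ψ i b = z ∧ ∀ j, j ≠ i → ψ j b = 0)
    (θ : ∀ i, (F i ⊗[ℤ] M) →+ T i) (hθ : ∀ i, Function.Bijective (θ i))
    (Ξ : A ⊗[ℤ] M →+ B) (hΞ : ∀ i a m, ψ i (Ξ (a ⊗ₜ[ℤ] m)) = θ i (φ i a ⊗ₜ[ℤ] m)) :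
    Function.Bijective Ξ := by
  classical
  obtain ⟨eA, heA⟩ := AbCoprod2.addEquiv_directSum'.{w, v} F φ hφinj hφfin hφsingle
  obtain ⟨eB, heB⟩ := AbCoprod2.addEquiv_directSum'.{w, v} T ψ hψinj hψfin hψsingle
  let c : ∀ i, A ⊗[ℤ] M →+ F i ⊗[ℤ] M := fun i =>
    (TensorProduct.map (φ i).toIntLinearMap (LinearMap.id : M →ₗ[ℤ] M)).toAddMonoidHom
  let D' : A ⊗[ℤ] M ≃ₗ[ℤ] ⨁ i, F i ⊗[ℤ] M :=
    (TensorProduct.congr eA.toIntLinearEquiv (LinearEquiv.refl ℤ M)) ≪≫ₗ
      TensorProduct.directSumLeft ℤ ℤ F M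
  have hD' : ∀ z i, D' z i = c i z := by
    intro z i
    induction z using TensorProduct.induction_on with
    | zero => rw [map_zero, map_zero]; rfl
    | tmul a m =>
      change TensorProduct.directSumLeft ℤ ℤ F M (eA a ⊗ₜ[ℤ] m) i = φ i a ⊗ₜ[ℤ] m
      rw [TensorProduct.directSumLeft_tmul, heA]
    | add z z' hz hz' => rw [map_add, map_add, DirectSum.add_apply, hz, hz']
  have hψΞ : ∀ z i, ψ i (Ξ z) = θ i (c i z) := by
    intro z i
    induction z using TensorProduct.induction_on with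
    | zero => rw [map_zero, map_zero, map_zero, map_zero]
    | tmul a m => exact hΞ i a m
    | add z z' hz hz' => rw [map_add, map_add, map_add, map_add, hz, hz']
  constructor
  · rw [injective_iff_map_eq_zero]
    intro z hz
    have h0 : D' z = 0 := by
      apply DFinsupp.ext
      intro i
      rw [hD']
      apply (hθ i).1
      rw [← hψΞ, hz, map_zero, DirectSum.zero_apply, map_zero]
    exact D'.injective (h0.trans (map_zero D').symm)
  · intro b
    let eθ : ∀ i, (F i ⊗[ℤ] M) ≃+ T i := fun i => AddEquiv.ofBijective (θ i) (hθ i)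
    let x : ⨁ i, F i ⊗[ℤ] M :=
      DFinsupp.mapRange (fun i => (eθ i).symm) (fun i => map_zero _) (eB b)
    refine ⟨D'.symm x, ?_⟩
    rw [← sub_eq_zero]
    apply hψinj
    intro i
    rw [map_sub, sub_eq_zero, hψΞ, ← hD', LinearEquiv.apply_symm_apply]
    change θ i (DFinsupp.mapRange (fun i => (eθ i).symm) (fun i => map_zero _) (eB b) i) = _
    rw [DFinsupp.mapRange_apply, heB]
    exact (eθ i).apply_symm_apply _

end H9FE.TensDirectSum
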