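import Mathlib
import Groth.Prelude.Def_EtBase
import Groth.Prelude.Def_EtTens2
import Groth.Agent.Lib.Helper5.Misc.EtStalk

/-! helper9: the fibre of a pointwise tensor product of presheaves of abelian groups on the small
étale site at a geometric point is the tensor product of the fibres -/

set_option autoImplicit false
open CategoryTheory CategoryTheory.Limits AlgebraicGeometry Opposite TensorProduct
universe u

namespace H9FE.TensStalk

set_option backward.isDefEq.respectTransparency false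
set_option linter.style.haveILetI false
set_option linter.unusedSectionVars false

open Groth.Agent.Lib.Helper5

attribute [local instance] EtStalk.ab5' EtStalk.pfc

variable {X : Scheme.{u}} {Ω : Type u} [Field Ω] [IsSepClosed Ω] (ξ : Spec (CommRingCat.of Ω) ⟶ X)
  (P Q : X.Etaleᵒᵖ ⥤ AddCommGrpCat.{u + 1})

/-- the germ of `s|a ⊗ t|b` does not depend on the chosen common refinement -/
lemma germ_tmul_eq {X₁ Y₁ W W' : X.Etale} (s : P.obj (op X₁)) (t : Q.obj (op Y₁))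
    (w : (Scheme.pointSmallEtale ξ).fiber.obj W) (w' : (Scheme.pointSmallEtale ξ).fiber.obj W')
    (a : W ⟶ X₁) (b : W ⟶ Y₁) (a' : W' ⟶ X₁) (b' : W' ⟶ Y₁)
    (ha : (Scheme.pointSmallEtale ξ).fiber.map a w = (Scheme.pointSmallEtale ξ).fiber.map a' w')
    (hb : (Scheme.pointSmallEtale ξ).fiber.map b w = (Scheme.pointSmallEtale ξ).fiber.map b' w') :
    (Scheme.pointSmallEtale ξ).toPresheafFiber W w (EtTens.tensorObj P Q)
        (P.map a.op s ⊗ₜ[ℤ] Q.map b.op t) =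
      (Scheme.pointSmallEtale ξ).toPresheafFiber W' w' (EtTens.tensorObj P Q)
        (P.map a'.op s ⊗ₜ[ℤ] Q.map b'.op t) := by
  let k₁ : (Scheme.pointSmallEtale ξ).fiber.Elements := ⟨W, w⟩
  let k₂ : (Scheme.pointSmallEtale ξ).fiber.Elements := ⟨W', w'⟩
  let j₁ : (Scheme.pointSmallEtale ξ).fiber.Elements :=
    ⟨X₁, (Scheme.pointSmallEtale ξ).fiber.map a w⟩
  let j₂ : (Scheme.pointSmallEtale ξ).fiber.Elements :=
    ⟨Y₁, (Scheme.pointSmallEtale ξ).fiber.map b w⟩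
  let f₁ : k₁ ⟶ j₁ := ⟨a, rfl⟩
  let g₁ : k₂ ⟶ j₁ := ⟨a', ha.symm⟩
  let f₂ : k₁ ⟶ j₂ := ⟨b, rfl⟩
  let g₂ : k₂ ⟶ j₂ := ⟨b', hb.symm⟩
  obtain ⟨e, α, β, h1, h2⟩ := IsCofiltered.bowtie f₁ g₁ f₂ g₂
  have h1' : α.1 ≫ a = β.1 ≫ a' := congrArg Subtype.val h1
  have h2' : α.1 ≫ b = β.1 ≫ b' := congrArg Subtype.val h2
  have w1 := ConcreteCategory.congr_hom
    ((Scheme.pointSmallEtale ξ).toPresheafFiber_w α.1 e.2 (EtTens.tensorObj P Q))
    (P.map a.op s ⊗ₜ[ℤ] Q.map b.op t)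
  have w2 := ConcreteCategory.congr_hom
    ((Scheme.pointSmallEtale ξ).toPresheafFiber_w β.1 e.2 (EtTens.tensorObj P Q))
    (P.map a'.op s ⊗ₜ[ℤ] Q.map b'.op t)
  simp only [ConcreteCategory.comp_apply] at w1 w2
  rw [α.2] at w1
  rw [β.2] at w2
  rw [← w1, ← w2]
  congr 1
  rw [EtTens.tensorObj_map_tmul, EtTens.tensorObj_map_tmul]
  have e1 : P.map α.1.op (P.map a.op s) = P.map β.1.op (P.map a'.op s) := by
    rw [← ConcreteCategory.comp_apply, ← ConcreteCategory.comp_apply, ← Functor.map_comp,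
      ← Functor.map_comp, ← op_comp, ← op_comp, h1']
  have e2 : Q.map α.1.op (Q.map b.op t) = Q.map β.1.op (Q.map b'.op t) := by
    rw [← ConcreteCategory.comp_apply, ← ConcreteCategory.comp_apply, ← Functor.map_comp,
      ← Functor.map_comp, ← op_comp, ← op_comp, h2']
  rw [e1, e2]

/-- the fibre of `P` at `ξ` -/
noncomputable abbrev PF (P : X.Etaleᵒᵖ ⥤ AddCommGrpCat.{u + 1}) : AddCommGrpCat.{u + 1} :=
  (Scheme.pointSmallEtale ξ).presheafFiber.obj P

/-- `t ↦ germ (s| ⊗ t|)` on a chosen common refinement -/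
noncomputable def gam {X₁ : X.Etale} (x : (Scheme.pointSmallEtale ξ).fiber.obj X₁)
    (s : P.obj (op X₁)) {Y₁ : X.Etale} (y : (Scheme.pointSmallEtale ξ).fiber.obj Y₁) :
    Q.obj (op Y₁) →+ PF ξ (EtTens.tensorObj P Q) :=
  let e₁ : (Scheme.pointSmallEtale ξ).fiber.Elements := ⟨X₁, x⟩
  let e₂ : (Scheme.pointSmallEtale ξ).fiber.Elements := ⟨Y₁, y⟩
  ((Scheme.pointSmallEtale ξ).toPresheafFiber (IsCofiltered.min e₁ e₂).1 (IsCofiltered.min e₁ e₂).2
      (EtTens.tensorObj P Q)).hom.comp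
    ((TensorProduct.mk ℤ _ _ (P.map (IsCofiltered.minToLeft e₁ e₂).1.op s)).toAddMonoidHom.comp
      (Q.map (IsCofiltered.minToRight e₁ e₂).1.op).hom)

/-- the value of `gam` computed on any common refinement -/
lemma gam_apply {X₁ : X.Etale} (x : (Scheme.pointSmallEtale ξ).fiber.obj X₁)
    (s : P.obj (op X₁)) {Y₁ : X.Etale} (y : (Scheme.pointSmallEtale ξ).fiber.obj Y₁)
    (t : Q.obj (op Y₁)) {W : X.Etale} (w : (Scheme.pointSmallEtale ξ).fiber.obj W)
    (a : W ⟶ X₁) (b : W ⟶ Y₁) (ha : (Scheme.pointSmallEtale ξ).fiber.map a w = x)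
    (hb : (Scheme.pointSmallEtale ξ).fiber.map b w = y) :
    gam ξ P Q x s y t = (Scheme.pointSmallEtale ξ).toPresheafFiber W w (EtTens.tensorObj P Q)
      (P.map a.op s ⊗ₜ[ℤ] Q.map b.op t) := by
  let e₁ : (Scheme.pointSmallEtale ξ).fiber.Elements := ⟨X₁, x⟩
  let e₂ : (Scheme.pointSmallEtale ξ).fiber.Elements := ⟨Y₁, y⟩
  change (Scheme.pointSmallEtale ξ).toPresheafFiber (IsCofiltered.min e₁ e₂).1
    (IsCofiltered.min e₁ e₂).2 (EtTens.tensorObj P Q)
    (P.map (IsCofiltered.minToLeft e₁ e₂).1.op s ⊗ₜ[ℤ]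
      Q.map (IsCofiltered.minToRight e₁ e₂).1.op t) = _
  apply germ_tmul_eq
  · exact (IsCofiltered.minToLeft e₁ e₂).2.trans ha.symm
  · exact (IsCofiltered.minToRight e₁ e₂).2.trans hb.symm

lemma gam_compat {X₁ : X.Etale} (x : (Scheme.pointSmallEtale ξ).fiber.obj X₁)
    (s : P.obj (op X₁)) ⦃Y₂ Y₁ : X.Etale⦄ (g : Y₂ ⟶ Y₁)
    (y₂ : (Scheme.pointSmallEtale ξ).fiber.obj Y₂) :
    Q.map g.op ≫ AddCommGrpCat.ofHom (gam ξ P Q x s y₂) =
      AddCommGrpCat.ofHom (gam ξ P Q x s ((Scheme.pointSmallEtale ξ).fiber.map g y₂)) := by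
  ext t
  change gam ξ P Q x s y₂ (Q.map g.op t) =
    gam ξ P Q x s ((Scheme.pointSmallEtale ξ).fiber.map g y₂) t
  let e₁ : (Scheme.pointSmallEtale ξ).fiber.Elements := ⟨X₁, x⟩
  let e₂ : (Scheme.pointSmallEtale ξ).fiber.Elements := ⟨Y₂, y₂⟩
  rw [gam_apply ξ P Q x s y₂ (Q.map g.op t) (IsCofiltered.min e₁ e₂).2
      (IsCofiltered.minToLeft e₁ e₂).1 (IsCofiltered.minToRight e₁ e₂).1
      (IsCofiltered.minToLeft e₁ e₂).2 (IsCofiltered.minToRight e₁ e₂).2,
    gam_apply ξ P Q x s ((Scheme.pointSmallEtale ξ).fiber.map g y₂) t (IsCofiltered.min e₁ e₂).2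
      (IsCofiltered.minToLeft e₁ e₂).1 ((IsCofiltered.minToRight e₁ e₂).1 ≫ g)
      (IsCofiltered.minToLeft e₁ e₂).2 (by
        rw [CategoryTheory.Functor.map_comp_apply, (IsCofiltered.minToRight e₁ e₂).2])]
  congr 2
  rw [op_comp, Functor.map_comp]
  rfl

/-- `b ↦ (germ s) · b` -/
noncomputable def lam {X₁ : X.Etale} (x : (Scheme.pointSmallEtale ξ).fiber.obj X₁)
    (s : P.obj (op X₁)) : PF ξ Q ⟶ PF ξ (EtTens.tensorObj P Q) :=
  (Scheme.pointSmallEtale ξ).presheafFiberDesc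
    (fun _ y => AddCommGrpCat.ofHom (gam ξ P Q x s y)) (gam_compat ξ P Q x s)

lemma lam_germ {X₁ : X.Etale} (x : (Scheme.pointSmallEtale ξ).fiber.obj X₁)
    (s : P.obj (op X₁)) {Y₁ : X.Etale} (y : (Scheme.pointSmallEtale ξ).fiber.obj Y₁)
    (t : Q.obj (op Y₁)) :
    lam ξ P Q x s ((Scheme.pointSmallEtale ξ).toPresheafFiber Y₁ y Q t) = gam ξ P Q x s y t := by
  have := ConcreteCategory.congr_hom ((Scheme.pointSmallEtale ξ).toPresheafFiber_presheafFiberDesc
    (P := Q) (fun _ y => AddCommGrpCat.ofHom (gam ξ P Q x s y)) (gam_compat ξ P Q x s) Y₁ y) t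
  exact this

lemma lam_add {X₁ : X.Etale} (x : (Scheme.pointSmallEtale ξ).fiber.obj X₁)
    (s s' : P.obj (op X₁)) : lam ξ P Q x (s + s') = lam ξ P Q x s + lam ξ P Q x s' := by
  apply (Scheme.pointSmallEtale ξ).presheafFiber_hom_ext
  intro Y₁ y
  ext t
  change lam ξ P Q x (s + s') ((Scheme.pointSmallEtale ξ).toPresheafFiber Y₁ y Q t) =
    lam ξ P Q x s ((Scheme.pointSmallEtale ξ).toPresheafFiber Y₁ y Q t) +
      lam ξ P Q x s' ((Scheme.pointSmallEtale ξ).toPresheafFiber Y₁ y Q t)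
  rw [lam_germ, lam_germ, lam_germ]
  let e₁ : (Scheme.pointSmallEtale ξ).fiber.Elements := ⟨X₁, x⟩
  let e₂ : (Scheme.pointSmallEtale ξ).fiber.Elements := ⟨Y₁, y⟩
  rw [gam_apply ξ P Q x (s + s') y t (IsCofiltered.min e₁ e₂).2
      (IsCofiltered.minToLeft e₁ e₂).1 (IsCofiltered.minToRight e₁ e₂).1
      (IsCofiltered.minToLeft e₁ e₂).2 (IsCofiltered.minToRight e₁ e₂).2,
    gam_apply ξ P Q x s y t (IsCofiltered.min e₁ e₂).2
      (IsCofiltered.minToLeft e₁ e₂).1 (IsCofiltered.minToRight e₁ e₂).1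
      (IsCofiltered.minToLeft e₁ e₂).2 (IsCofiltered.minToRight e₁ e₂).2,
    gam_apply ξ P Q x s' y t (IsCofiltered.min e₁ e₂).2
      (IsCofiltered.minToLeft e₁ e₂).1 (IsCofiltered.minToRight e₁ e₂).1
      (IsCofiltered.minToLeft e₁ e₂).2 (IsCofiltered.minToRight e₁ e₂).2,
    map_add, TensorProduct.add_tmul, map_add]

/-- `s ↦ (b ↦ (germ s) · b)` as an additive map -/
noncomputable def betaPre {X₁ : X.Etale} (x : (Scheme.pointSmallEtale ξ).fiber.obj X₁) :
    P.obj (op X₁) →+ (PF ξ Q →+ PF ξ (EtTens.tensorObj P Q)) where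
  toFun s := (lam ξ P Q x s).hom
  map_zero' := by
    have h := lam_add ξ P Q x 0 0
    rw [add_zero] at h
    have h' : lam ξ P Q x 0 = 0 := by
      have := congrArg (fun z => z - lam ξ P Q x 0) h
      simpa using this.symm
    rw [h']
    rfl
  map_add' s s' := by
    rw [lam_add]
    rfl

lemma betaPre_compat ⦃X₂ X₁ : X.Etale⦄ (g : X₂ ⟶ X₁)
    (x₂ : (Scheme.pointSmallEtale ξ).fiber.obj X₂) :
    P.map g.op ≫ AddCommGrpCat.ofHom (betaPre ξ P Q x₂) =
      AddCommGrpCat.ofHom (betaPre ξ P Q ((Scheme.pointSmallEtale ξ).fiber.map g x₂)) := by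
  ext s : 2
  change (lam ξ P Q x₂ (P.map g.op s)).hom =
    (lam ξ P Q ((Scheme.pointSmallEtale ξ).fiber.map g x₂) s).hom
  congr 1
  apply (Scheme.pointSmallEtale ξ).presheafFiber_hom_ext
  intro Y₁ y
  ext t
  change lam ξ P Q x₂ (P.map g.op s) ((Scheme.pointSmallEtale ξ).toPresheafFiber Y₁ y Q t) =
    lam ξ P Q ((Scheme.pointSmallEtale ξ).fiber.map g x₂) s
      ((Scheme.pointSmallEtale ξ).toPresheafFiber Y₁ y Q t)
  rw [lam_germ, lam_germ]
  let e₁ : (Scheme.pointSmallEtale ξ).fiber.Elements := ⟨X₂, x₂⟩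
  let e₂ : (Scheme.pointSmallEtale ξ).fiber.Elements := ⟨Y₁, y⟩
  rw [gam_apply ξ P Q x₂ (P.map g.op s) y t (IsCofiltered.min e₁ e₂).2
      (IsCofiltered.minToLeft e₁ e₂).1 (IsCofiltered.minToRight e₁ e₂).1
      (IsCofiltered.minToLeft e₁ e₂).2 (IsCofiltered.minToRight e₁ e₂).2,
    gam_apply ξ P Q ((Scheme.pointSmallEtale ξ).fiber.map g x₂) s y t
      (IsCofiltered.min e₁ e₂).2
      ((IsCofiltered.minToLeft e₁ e₂).1 ≫ g) (IsCofiltered.minToRight e₁ e₂).1
      (by rw [CategoryTheory.Functor.map_comp_apply, (IsCofiltered.minToLeft e₁ e₂).2])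
      (IsCofiltered.minToRight e₁ e₂).2]
  congr 2
  rw [op_comp, Functor.map_comp]
  rfl

/-- the bilinear pairing of fibres -/
noncomputable def beta :
    PF ξ P ⟶ AddCommGrpCat.of (PF ξ Q →+ PF ξ (EtTens.tensorObj P Q)) :=
  (Scheme.pointSmallEtale ξ).presheafFiberDesc
    (fun _ x => AddCommGrpCat.ofHom (betaPre ξ P Q x)) (betaPre_compat ξ P Q)

lemma beta_germ {X₁ : X.Etale} (x : (Scheme.pointSmallEtale ξ).fiber.obj X₁)
    (s : P.obj (op X₁)) :
    beta ξ P Q ((Scheme.pointSmallEtale ξ).toPresheafFiber X₁ x P s) = (lam ξ P Q x s).hom := by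
  have := ConcreteCategory.congr_hom ((Scheme.pointSmallEtale ξ).toPresheafFiber_presheafFiberDesc
    (P := P) (fun _ x => AddCommGrpCat.ofHom (betaPre ξ P Q x)) (betaPre_compat ξ P Q) X₁ x) s
  exact this

/-- the comparison map from the tensor product of the fibres to the fibre of the tensor
product -/
noncomputable def theta : (PF ξ P) ⊗[ℤ] (PF ξ Q) →+ PF ξ (EtTens.tensorObj P Q) :=
  TensorProduct.liftAddHom (beta ξ P Q).hom (by
    intro r a b
    rw [map_zsmul, AddMonoidHom.smul_apply, map_zsmul])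

/-- `theta` on germs, computed on any common refinement -/
lemma theta_germ {X₁ Y₁ W : X.Etale} (x : (Scheme.pointSmallEtale ξ).fiber.obj X₁)
    (s : P.obj (op X₁)) (y : (Scheme.pointSmallEtale ξ).fiber.obj Y₁) (t : Q.obj (op Y₁))
    (w : (Scheme.pointSmallEtale ξ).fiber.obj W)
    (a : W ⟶ X₁) (b : W ⟶ Y₁) (ha : (Scheme.pointSmallEtale ξ).fiber.map a w = x)
    (hb : (Scheme.pointSmallEtale ξ).fiber.map b w = y) :
    theta ξ P Q ((Scheme.pointSmallEtale ξ).toPresheafFiber X₁ x P s ⊗ₜ[ℤ]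
      (Scheme.pointSmallEtale ξ).toPresheafFiber Y₁ y Q t) =
      (Scheme.pointSmallEtale ξ).toPresheafFiber W w (EtTens.tensorObj P Q)
        (P.map a.op s ⊗ₜ[ℤ] Q.map b.op t) := by
  change (beta ξ P Q ((Scheme.pointSmallEtale ξ).toPresheafFiber X₁ x P s))
    ((Scheme.pointSmallEtale ξ).toPresheafFiber Y₁ y Q t) = _
  rw [beta_germ]
  exact (lam_germ ξ P Q x s y t).trans (gam_apply ξ P Q x s y t w a b ha hb)

/-- `theta` on germs at the same neighbourhood -/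
lemma theta_germ_same {X₁ : X.Etale} (x : (Scheme.pointSmallEtale ξ).fiber.obj X₁)
    (s : P.obj (op X₁)) (t : Q.obj (op X₁)) :
    theta ξ P Q ((Scheme.pointSmallEtale ξ).toPresheafFiber X₁ x P s ⊗ₜ[ℤ]
      (Scheme.pointSmallEtale ξ).toPresheafFiber X₁ x Q t) =
      (Scheme.pointSmallEtale ξ).toPresheafFiber X₁ x (EtTens.tensorObj P Q) (s ⊗ₜ[ℤ] t) := by
  have h := theta_germ ξ P Q x s x t x (𝟙 X₁) (𝟙 X₁)
    (by rw [CategoryTheory.Functor.map_id]; rfl) (by rw [CategoryTheory.Functor.map_id]; rfl)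
  rw [h]
  congr 2
  · rw [op_id, CategoryTheory.Functor.map_id]; rfl
  · rw [op_id, CategoryTheory.Functor.map_id]; rfl

theorem theta_surjective : Function.Surjective (theta ξ P Q) := by
  intro z
  obtain ⟨X₁, x, r, rfl⟩ := (Scheme.pointSmallEtale ξ).toPresheafFiber_jointly_surjective
    (P := EtTens.tensorObj P Q) z
  have hr : ∀ r : (P.obj (op X₁)) ⊗[ℤ] (Q.obj (op X₁)),
      ∃ c, theta ξ P Q c =
        (Scheme.pointSmallEtale ξ).toPresheafFiber X₁ x (EtTens.tensorObj P Q) r := by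
    intro r
    induction r using TensorProduct.induction_on with
    | zero => exact ⟨0, by rw [map_zero]; exact (map_zero _).symm⟩
    | tmul s t => exact ⟨_, theta_germ_same ξ P Q x s t⟩
    | add r r' hr hr' =>
      obtain ⟨c, hc⟩ := hr
      obtain ⟨c', hc'⟩ := hr'
      refine ⟨c + c', ?_⟩
      rw [map_add, hc, hc']
      exact (map_add _ _ _).symm
  exact hr r

lemma psi_compat ⦃X₂ X₁ : X.Etale⦄ (g : X₂ ⟶ X₁)
    (x₂ : (Scheme.pointSmallEtale ξ).fiber.obj X₂) :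
    (EtTens.tensorObj P Q).map g.op ≫ AddCommGrpCat.ofHom
        (TensorProduct.map ((Scheme.pointSmallEtale ξ).toPresheafFiber X₂ x₂ P).hom.toIntLinearMap
          ((Scheme.pointSmallEtale ξ).toPresheafFiber X₂ x₂ Q).hom.toIntLinearMap).toAddMonoidHom =
      AddCommGrpCat.ofHom
        (TensorProduct.map ((Scheme.pointSmallEtale ξ).toPresheafFiber X₁
            ((Scheme.pointSmallEtale ξ).fiber.map g x₂) P).hom.toIntLinearMap
          ((Scheme.pointSmallEtale ξ).toPresheafFiber X₁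
            ((Scheme.pointSmallEtale ξ).fiber.map g x₂) Q).hom.toIntLinearMap).toAddMonoidHom := by
  apply EtTens.hom_ext_tmul
  intro s t
  change (Scheme.pointSmallEtale ξ).toPresheafFiber X₂ x₂ P (P.map g.op s) ⊗ₜ[ℤ]
      (Scheme.pointSmallEtale ξ).toPresheafFiber X₂ x₂ Q (Q.map g.op t) =
    (Scheme.pointSmallEtale ξ).toPresheafFiber X₁ ((Scheme.pointSmallEtale ξ).fiber.map g x₂) P s
      ⊗ₜ[ℤ]
    (Scheme.pointSmallEtale ξ).toPresheafFiber X₁ ((Scheme.pointSmallEtale ξ).fiber.map g x₂) Q t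
  have w1 := ConcreteCategory.congr_hom
    ((Scheme.pointSmallEtale ξ).toPresheafFiber_w g x₂ P) s
  have w2 := ConcreteCategory.congr_hom
    ((Scheme.pointSmallEtale ξ).toPresheafFiber_w g x₂ Q) t
  simp only [ConcreteCategory.comp_apply] at w1 w2
  rw [w1, w2]

/-- the map from the fibre of the tensor product to the tensor product of the fibres -/
noncomputable def psi :
    PF ξ (EtTens.tensorObj P Q) ⟶ AddCommGrpCat.of ((PF ξ P) ⊗[ℤ] (PF ξ Q)) :=
  (Scheme.pointSmallEtale ξ).presheafFiberDesc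
    (fun X₁ x => AddCommGrpCat.ofHom
      (TensorProduct.map ((Scheme.pointSmallEtale ξ).toPresheafFiber X₁ x P).hom.toIntLinearMap
        ((Scheme.pointSmallEtale ξ).toPresheafFiber X₁ x Q).hom.toIntLinearMap).toAddMonoidHom)
    (psi_compat ξ P Q)

lemma psi_germ {X₁ : X.Etale} (x : (Scheme.pointSmallEtale ξ).fiber.obj X₁)
    (s : P.obj (op X₁)) (t : Q.obj (op X₁)) :
    psi ξ P Q ((Scheme.pointSmallEtale ξ).toPresheafFiber X₁ x (EtTens.tensorObj P Q)
      (s ⊗ₜ[ℤ] t)) =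
      (Scheme.pointSmallEtale ξ).toPresheafFiber X₁ x P s ⊗ₜ[ℤ]
        (Scheme.pointSmallEtale ξ).toPresheafFiber X₁ x Q t := by
  have := ConcreteCategory.congr_hom ((Scheme.pointSmallEtale ξ).toPresheafFiber_presheafFiberDesc
    (P := EtTens.tensorObj P Q) (fun X₁ x => AddCommGrpCat.ofHom
      (TensorProduct.map ((Scheme.pointSmallEtale ξ).toPresheafFiber X₁ x P).hom.toIntLinearMap
        ((Scheme.pointSmallEtale ξ).toPresheafFiber X₁ x Q).hom.toIntLinearMap).toAddMonoidHom)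
    (psi_compat ξ P Q) X₁ x) (s ⊗ₜ[ℤ] t)
  exact this

theorem psi_theta (c : (PF ξ P) ⊗[ℤ] (PF ξ Q)) : psi ξ P Q (theta ξ P Q c) = c := by
  induction c using TensorProduct.induction_on with
  | zero => rw [map_zero, map_zero]
  | tmul a b =>
    obtain ⟨X₁, x, s, rfl⟩ := (Scheme.pointSmallEtale ξ).toPresheafFiber_jointly_surjective
      (P := P) a
    obtain ⟨Y₁, y, t, rfl⟩ := (Scheme.pointSmallEtale ξ).toPresheafFiber_jointly_surjective
      (P := Q) b
    let e₁ : (Scheme.pointSmallEtale ξ).fiber.Elements := ⟨X₁, x⟩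
    let e₂ : (Scheme.pointSmallEtale ξ).fiber.Elements := ⟨Y₁, y⟩
    rw [theta_germ ξ P Q x s y t (IsCofiltered.min e₁ e₂).2
      (IsCofiltered.minToLeft e₁ e₂).1 (IsCofiltered.minToRight e₁ e₂).1
      (IsCofiltered.minToLeft e₁ e₂).2 (IsCofiltered.minToRight e₁ e₂).2, psi_germ]
    have w1 := ConcreteCategory.congr_hom
      ((Scheme.pointSmallEtale ξ).toPresheafFiber_w (IsCofiltered.minToLeft e₁ e₂).1
        (IsCofiltered.min e₁ e₂).2 P) s
    have w2 := ConcreteCategory.congr_hom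
      ((Scheme.pointSmallEtale ξ).toPresheafFiber_w (IsCofiltered.minToRight e₁ e₂).1
        (IsCofiltered.min e₁ e₂).2 Q) t
    simp only [ConcreteCategory.comp_apply] at w1 w2
    rw [(IsCofiltered.minToLeft e₁ e₂).2] at w1
    rw [(IsCofiltered.minToRight e₁ e₂).2] at w2
    rw [w1, w2]
  | add c c' hc hc' => rw [map_add, map_add, hc, hc']

theorem theta_bijective : Function.Bijective (theta ξ P Q) :=
  ⟨Function.LeftInverse.injective (psi_theta ξ P Q), theta_surjective ξ P Q⟩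

end H9FE.TensStalk
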