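import Mathlib
import Groth.Prelude.Def_EtShriek2
import Groth.Prelude.Def_EtTens2
import Groth.Agent.S0631
import Groth.Agent.Lib.Helper9.FE.ShriekExact
import Groth.Agent.Lib.Helper9.FE.ShriekEtIso
import Groth.Agent.Lib.Helper9.FE.StalkPullGerm
import Groth.Agent.Lib.Helper9.FE.TensStalk
import Groth.Agent.Lib.Helper9.FE.TensDirectSum

/-! helper9: the projection formula `f_! F ⊗ G ≅ f_! (F ⊗ f⁻¹ G)` for separated locally quasi-finite
`f` -/

set_option autoImplicit false
open CategoryTheory CategoryTheory.Limits AlgebraicGeometry Opposite TensorProduct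
universe u

namespace H9FE.ShriekProj

set_option backward.isDefEq.respectTransparency false
set_option linter.style.haveILetI false
set_option linter.unusedSectionVars false

open EtShriek Groth.Agent.Lib.Helper5 Groth.Agent.S0728 Groth.Agent.S0072.Aux Groth.Agent.Helper3
  H9FE.ShriekStalk H9FE.ShriekExact H9FE.ShriekSh

attribute [local instance] EtStalk.ab5' EtStalk.pfc

variable {X Y : Scheme.{u}} (f : X ⟶ Y) [LocallyOfFiniteType f]
  (F : EtCoh.Ab X) (G : EtCoh.Ab Y)

/-- the presheaf `F ⊗ f⁻¹ G` -/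
noncomputable abbrev tpre : X.Etaleᵒᵖ ⥤ AddCommGrpCat.{u + 1} :=
  EtTens.tensorObj F.obj ((EtCoh.pull f).obj G).obj

/-- the sheaf `F ⊗ f⁻¹ G` -/
noncomputable abbrev tsh : EtCoh.Ab X := (EtTens.tensorBi.obj F).obj ((EtCoh.pull f).obj G)

/-- the unit `G → f_* f⁻¹ G` on sections -/
noncomputable abbrev uV (V : Y.Etale) :
    G.obj.obj (op V) ⟶ ((EtCoh.pull f).obj G).obj.obj (op ((EtCoh.bc f).obj V)) :=
  ((EtCoh.pullPushAdj f).unit.app G).hom.app (op V)

/-- `s ⊗ t ↦ s ⊗ u(t)`, sheafified -/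
noncomputable def mPre (V : Y.Etale) :
    (shriekSubgroup f F V) ⊗[ℤ] (G.obj.obj (op V)) →+ EtCoh.sect (tsh f F G) ((EtCoh.bc f).obj V) :=
  ((toSheafify X.smallEtaleTopology (tpre f F G)).app (op ((EtCoh.bc f).obj V))).hom.comp
    (TensorProduct.map (shriekSubgroup f F V).subtype.toIntLinearMap
      (uV f G V).hom.toIntLinearMap).toAddMonoidHom

lemma mPre_tmul (V : Y.Etale) (s : shriekSubgroup f F V) (t : G.obj.obj (op V)) :
    mPre f F G V (s ⊗ₜ[ℤ] t) =
      (toSheafify X.smallEtaleTopology (tpre f F G)).app (op ((EtCoh.bc f).obj V))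
        (s.1 ⊗ₜ[ℤ] uV f G V t) := rfl

/-- restriction of `toSheafify (s ⊗ r)` -/
lemma toSheafify_tmul_map {U W : X.Etale} (g : W ⟶ U) (s : F.obj.obj (op U))
    (r : ((EtCoh.pull f).obj G).obj.obj (op U)) :
    (tsh f F G).obj.map g.op
        ((toSheafify X.smallEtaleTopology (tpre f F G)).app (op U) (s ⊗ₜ[ℤ] r)) =
      (toSheafify X.smallEtaleTopology (tpre f F G)).app (op W)
        (F.obj.map g.op s ⊗ₜ[ℤ] ((EtCoh.pull f).obj G).obj.map g.op r) := by
  have h := ConcreteCategory.congr_hom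
    ((toSheafify X.smallEtaleTopology (tpre f F G)).naturality g.op) (s ⊗ₜ[ℤ] r)
  simp only [ConcreteCategory.comp_apply] at h
  exact h.symm

lemma sectSupp_mPre_subset (V : Y.Etale) (s : shriekSubgroup f F V) (t : G.obj.obj (op V)) :
    sectSupp (tsh f F G) ((EtCoh.bc f).obj V) (mPre f F G V (s ⊗ₜ[ℤ] t)) ⊆
      sectSupp F ((EtCoh.bc f).obj V) s.1 := by
  intro x hx W g hw h0
  apply hx W g hw
  rw [mPre_tmul, toSheafify_tmul_map, h0, TensorProduct.zero_tmul, map_zero]

lemma mPre_mem (V : Y.Etale) (z : (shriekSubgroup f F V) ⊗[ℤ] (G.obj.obj (op V))) :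
    mPre f F G V z ∈ shriekSubgroup f (tsh f F G) V := by
  induction z using TensorProduct.induction_on with
  | zero =>
    rw [map_zero]
    exact (shriekSubgroup f (tsh f F G) V).zero_mem
  | tmul s t =>
    apply AddSubgroup.subset_closure
    exact shriekPred_of_subset_proper f (tsh f F G) V _ _ (sectSupp_mPre_subset f F G V s t)
      (isProperOver_sectSupp f F V s.1 s.2)
  | add z z' hz hz' =>
    rw [map_add]
    exact (shriekSubgroup f (tsh f F G) V).add_mem hz hz'

/-- the presheaf-level projection map -/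
noncomputable def m : EtTens.tensorObj (lowerShriekPre f F) G.obj ⟶ lowerShriekPre f (tsh f F G) where
  app V := AddCommGrpCat.ofHom ((mPre f F G V.unop).codRestrict
    (shriekSubgroup f (tsh f F G) V.unop) (mPre_mem f F G V.unop))
  naturality V V' φ := by
    apply EtTens.hom_ext_tmul
    intro s t
    apply Subtype.ext
    change mPre f F G V'.unop ((lowerShriekPre f F).map φ s ⊗ₜ[ℤ] G.obj.map φ t) =
      (tsh f F G).obj.map ((EtCoh.bc f).map φ.unop).op (mPre f F G V.unop (s ⊗ₜ[ℤ] t))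
    rw [mPre_tmul, mPre_tmul, toSheafify_tmul_map]
    congr 2
    have h := ConcreteCategory.congr_hom
      (((EtCoh.pullPushAdj f).unit.app G).hom.naturality φ) t
    simp only [ConcreteCategory.comp_apply] at h
    exact h

lemma m_app_tmul (V : Y.Etale) (s : shriekSubgroup f F V) (t : G.obj.obj (op V)) :
    ((m f F G).app (op V) (s ⊗ₜ[ℤ] t)).1 =
      (toSheafify X.smallEtaleTopology (tpre f F G)).app (op ((EtCoh.bc f).obj V))
        (s.1 ⊗ₜ[ℤ] uV f G V t) := rfl

section Stalk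

variable {Ω : Type u} [Field Ω] [IsSepClosed Ω] (η : Spec (CommRingCat.of Ω) ⟶ Y)

/-- the comparison `G_η → (f⁻¹ G)_ξ` -/
noncomputable def kap (ξ : Spec (CommRingCat.of Ω) ⟶ X) (hξ : ξ ≫ f = η) :
    (EtCoh.stalk η).obj G ⟶ (EtCoh.stalk ξ).obj ((EtCoh.pull f).obj G) :=
  (EtCoh.stalk η).map ((EtCoh.pullPushAdj f).unit.app G) ≫
    phi f η ((EtCoh.pull f).obj G) ξ hξ

lemma kap_germ (ξ : Spec (CommRingCat.of Ω) ⟶ X) (hξ : ξ ≫ f = η) (V : Y.Etale)
    (v : (Scheme.pointSmallEtale η).fiber.obj V) (t : G.obj.obj (op V)) :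
    kap f G η ξ hξ ((Scheme.pointSmallEtale η).toPresheafFiber V v G.obj t) =
      (Scheme.pointSmallEtale ξ).toPresheafFiber ((EtCoh.bc f).obj V) (liftPt f η ξ hξ V v)
        ((EtCoh.pull f).obj G).obj (uV f G V t) := by
  have h1 := ConcreteCategory.congr_hom
    ((Scheme.pointSmallEtale η).toPresheafFiber_naturality
      ((EtCoh.pullPushAdj f).unit.app G).hom V v) t
  simp only [ConcreteCategory.comp_apply] at h1
  change phi f η ((EtCoh.pull f).obj G) ξ hξ
    ((Scheme.pointSmallEtale η).presheafFiber.map ((EtCoh.pullPushAdj f).unit.app G).hom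
      ((Scheme.pointSmallEtale η).toPresheafFiber V v G.obj t)) = _
  refine (congrArg (phi f η ((EtCoh.pull f).obj G) ξ hξ) h1).trans ?_
  exact phi_germ f η ((EtCoh.pull f).obj G) ξ hξ V v _

lemma kap_bijective (ξ : Spec (CommRingCat.of Ω) ⟶ X) (hξ : ξ ≫ f = η) :
    Function.Bijective (kap f G η ξ hξ) := by
  subst hξ
  have h : kap f G (ξ ≫ f) ξ rfl = (EtStalkPull.stalkPullIso f ξ).inv.app G :=
    StalkPullGerm.unit_phi f ξ G
  rw [h]
  exact (ConcreteCategory.isIso_iff_bijective _).1 inferInstance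

/-- the identification `F_ξ ⊗ G_η ≅ (F ⊗ f⁻¹ G)_ξ` -/
noncomputable def thetaXi (ξ : Spec (CommRingCat.of Ω) ⟶ X) (hξ : ξ ≫ f = η) :
    ((EtCoh.stalk ξ).obj F) ⊗[ℤ] ((EtCoh.stalk η).obj G) →+ (EtCoh.stalk ξ).obj (tsh f F G) :=
  ((Scheme.pointSmallEtale ξ).presheafFiber.map
      (toSheafify X.smallEtaleTopology (tpre f F G))).hom.comp
    ((TensStalk.theta ξ F.obj ((EtCoh.pull f).obj G).obj).comp
      (TensorProduct.map (LinearMap.id : ((EtCoh.stalk ξ).obj F) →ₗ[ℤ] ((EtCoh.stalk ξ).obj F))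
        (kap f G η ξ hξ).hom.toIntLinearMap).toAddMonoidHom)

lemma thetaXi_bijective (ξ : Spec (CommRingCat.of Ω) ⟶ X) (hξ : ξ ≫ f = η) :
    Function.Bijective (thetaXi f F G η ξ hξ) := by
  have h1 : Function.Bijective ((Scheme.pointSmallEtale ξ).presheafFiber.map
      (toSheafify X.smallEtaleTopology (tpre f F G))) :=
    (Scheme.pointSmallEtale ξ).toPresheafFiber_map_bijective _
  have h2 := TensStalk.theta_bijective ξ F.obj ((EtCoh.pull f).obj G).obj
  have h3 : Function.Bijective (TensorProduct.map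
      (LinearMap.id : ((EtCoh.stalk ξ).obj F) →ₗ[ℤ] ((EtCoh.stalk ξ).obj F))
      (kap f G η ξ hξ).hom.toIntLinearMap) := by
    let e : ((EtCoh.stalk η).obj G) ≃ₗ[ℤ] ((EtCoh.stalk ξ).obj ((EtCoh.pull f).obj G)) :=
      (AddEquiv.ofBijective (kap f G η ξ hξ).hom (kap_bijective f G η ξ hξ)).toIntLinearEquiv
    exact (TensorProduct.congr (LinearEquiv.refl ℤ ((EtCoh.stalk ξ).obj F)) e).bijective
  exact h1.comp (h2.comp h3)

lemma thetaXi_germ (ξ : Spec (CommRingCat.of Ω) ⟶ X) (hξ : ξ ≫ f = η) (V : Y.Etale)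
    (v : (Scheme.pointSmallEtale η).fiber.obj V) (s : F.obj.obj (op ((EtCoh.bc f).obj V)))
    (t : G.obj.obj (op V)) :
    thetaXi f F G η ξ hξ
      ((Scheme.pointSmallEtale ξ).toPresheafFiber ((EtCoh.bc f).obj V) (liftPt f η ξ hξ V v)
        F.obj s ⊗ₜ[ℤ] (Scheme.pointSmallEtale η).toPresheafFiber V v G.obj t) =
      (Scheme.pointSmallEtale ξ).toPresheafFiber ((EtCoh.bc f).obj V) (liftPt f η ξ hξ V v)
        (tsh f F G).obj
        ((toSheafify X.smallEtaleTopology (tpre f F G)).app (op ((EtCoh.bc f).obj V))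
          (s ⊗ₜ[ℤ] uV f G V t)) := by
  change (Scheme.pointSmallEtale ξ).presheafFiber.map
      (toSheafify X.smallEtaleTopology (tpre f F G))
    (TensStalk.theta ξ F.obj ((EtCoh.pull f).obj G).obj
      ((Scheme.pointSmallEtale ξ).toPresheafFiber ((EtCoh.bc f).obj V) (liftPt f η ξ hξ V v)
        F.obj s ⊗ₜ[ℤ] kap f G η ξ hξ
          ((Scheme.pointSmallEtale η).toPresheafFiber V v G.obj t))) = _
  rw [kap_germ, TensStalk.theta_germ_same]
  have h1 := ConcreteCategory.congr_hom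
    ((Scheme.pointSmallEtale ξ).toPresheafFiber_naturality
      (toSheafify X.smallEtaleTopology (tpre f F G)) ((EtCoh.bc f).obj V)
      (liftPt f η ξ hξ V v)) (s ⊗ₜ[ℤ] uV f G V t)
  simp only [ConcreteCategory.comp_apply] at h1
  exact h1

/-- the stalk of the projection map -/
noncomputable abbrev mu :
    (Scheme.pointSmallEtale η).presheafFiber.obj (EtTens.tensorObj (lowerShriekPre f F) G.obj) ⟶
      St f η (tsh f F G) :=
  (Scheme.pointSmallEtale η).presheafFiber.map (m f F G)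

/-- the stalk of the projection map on the tensor product of the stalks -/
noncomputable def xi : (St f η F) ⊗[ℤ] ((EtCoh.stalk η).obj G) →+ St f η (tsh f F G) :=
  (mu f F G η).hom.comp (TensStalk.theta η (lowerShriekPre f F) G.obj)

lemma xi_germ (V : Y.Etale) (v : (Scheme.pointSmallEtale η).fiber.obj V)
    (s : shriekSubgroup f F V) (t : G.obj.obj (op V)) :
    xi f F G η ((Scheme.pointSmallEtale η).toPresheafFiber V v (lowerShriekPre f F) s ⊗ₜ[ℤ]
      (Scheme.pointSmallEtale η).toPresheafFiber V v G.obj t) =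
      (Scheme.pointSmallEtale η).toPresheafFiber V v (lowerShriekPre f (tsh f F G))
        ((m f F G).app (op V) (s ⊗ₜ[ℤ] t)) := by
  change mu f F G η (TensStalk.theta η (lowerShriekPre f F) G.obj
    ((Scheme.pointSmallEtale η).toPresheafFiber V v (lowerShriekPre f F) s ⊗ₜ[ℤ]
      (Scheme.pointSmallEtale η).toPresheafFiber V v G.obj t)) = _
  rw [TensStalk.theta_germ_same]
  have h1 := ConcreteCategory.congr_hom
    ((Scheme.pointSmallEtale η).toPresheafFiber_naturality (m f F G) V v) (s ⊗ₜ[ℤ] t)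
  simp only [ConcreteCategory.comp_apply] at h1
  exact h1

/-- common refinement of two étale neighbourhoods of a geometric point -/
lemma exists_common (V₁ V₂ : Y.Etale) (v₁ : (Scheme.pointSmallEtale η).fiber.obj V₁)
    (v₂ : (Scheme.pointSmallEtale η).fiber.obj V₂) :
    ∃ (V : Y.Etale) (g₁ : V ⟶ V₁) (g₂ : V ⟶ V₂) (v : (Scheme.pointSmallEtale η).fiber.obj V),
      (Scheme.pointSmallEtale η).fiber.map g₁ v = v₁ ∧
      (Scheme.pointSmallEtale η).fiber.map g₂ v = v₂ := by
  let e₁ : (Scheme.pointSmallEtale η).fiber.Elements := ⟨V₁, v₁⟩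
  let e₂ : (Scheme.pointSmallEtale η).fiber.Elements := ⟨V₂, v₂⟩
  exact ⟨(IsCofiltered.min e₁ e₂).1, (IsCofiltered.minToLeft e₁ e₂).1,
    (IsCofiltered.minToRight e₁ e₂).1, (IsCofiltered.min e₁ e₂).2,
    (IsCofiltered.minToLeft e₁ e₂).2, (IsCofiltered.minToRight e₁ e₂).2⟩

lemma xi_compat (ξ : Spec (CommRingCat.of Ω) ⟶ X) (hξ : ξ ≫ f = η) (a : St f η F)
    (b : (EtCoh.stalk η).obj G) :
    phiS f η (tsh f F G) ξ hξ (xi f F G η (a ⊗ₜ[ℤ] b)) =
      thetaXi f F G η ξ hξ (phiS f η F ξ hξ a ⊗ₜ[ℤ] b) := by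
  obtain ⟨V₁, v₁, s₁, rfl⟩ := (Scheme.pointSmallEtale η).toPresheafFiber_jointly_surjective
    (P := lowerShriekPre f F) a
  obtain ⟨V₂, v₂, t₂, rfl⟩ := (Scheme.pointSmallEtale η).toPresheafFiber_jointly_surjective
    (P := G.obj) b
  obtain ⟨V, g₁, g₂, v, hv₁, hv₂⟩ := exists_common η V₁ V₂ v₁ v₂
  have w1 := ConcreteCategory.congr_hom
    ((Scheme.pointSmallEtale η).toPresheafFiber_w g₁ v (lowerShriekPre f F)) s₁
  have w2 := ConcreteCategory.congr_hom
    ((Scheme.pointSmallEtale η).toPresheafFiber_w g₂ v G.obj) t₂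
  simp only [ConcreteCategory.comp_apply] at w1 w2
  rw [hv₁] at w1
  rw [hv₂] at w2
  rw [← w1, ← w2]
  obtain ⟨s, hs⟩ : ∃ s : shriekSubgroup f F V, s = (lowerShriekPre f F).map g₁.op s₁ := ⟨_, rfl⟩
  obtain ⟨t, ht⟩ : ∃ t : G.obj.obj (op V), t = G.obj.map g₂.op t₂ := ⟨_, rfl⟩
  rw [← hs, ← ht, xi_germ, phiS_germ, phiS_germ, thetaXi_germ]
  rfl

theorem xi_bijective [IsSeparated f] [LocallyQuasiFinite f] (hac : IsAlgClosed Ω) :
    Function.Bijective (xi f F G η) := by
  classical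
  refine TensDirectSum.bijective_of_components.{u + 1, u}
    (ι := {ξ : Spec (CommRingCat.of Ω) ⟶ X // ξ ≫ f = η})
    (A := St f η F) (B := St f η (tsh f F G)) (M := (EtCoh.stalk η).obj G)
    (fun ξ => (EtCoh.stalk ξ.1).obj F) (fun ξ => (EtCoh.stalk ξ.1).obj (tsh f F G))
    (fun ξ => (phiS f η F ξ.1 ξ.2).hom) (fun ξ => (phiS f η (tsh f F G) ξ.1 ξ.2).hom)
    ?_ ?_ ?_ ?_ ?_ ?_ (fun ξ => thetaXi f F G η ξ.1 ξ.2)
    (fun ξ => thetaXi_bijective f F G η ξ.1 ξ.2) (xi f F G η) ?_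
  · intro a ha
    exact phiS_injective f η F hac a (fun ξ hξ => ha ⟨ξ, hξ⟩)
  · exact phiS_finite f η F
  · intro ξ z
    obtain ⟨a, ha1, ha2⟩ := phiS_single f η F ξ.1 ξ.2 z
    exact ⟨a, ha1, fun j hj => ha2 j.1 j.2 (fun h => hj (Subtype.ext h))⟩
  · intro a ha
    exact phiS_injective f η (tsh f F G) hac a (fun ξ hξ => ha ⟨ξ, hξ⟩)
  · exact phiS_finite f η (tsh f F G)
  · intro ξ z
    obtain ⟨a, ha1, ha2⟩ := phiS_single f η (tsh f F G) ξ.1 ξ.2 z
    exact ⟨a, ha1, fun j hj => ha2 j.1 j.2 (fun h => hj (Subtype.ext h))⟩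
  · intro ξ a b
    exact xi_compat f F G η ξ.1 ξ.2 a b

theorem mu_bijective [IsSeparated f] [LocallyQuasiFinite f] (hac : IsAlgClosed Ω) :
    Function.Bijective (mu f F G η) := by
  have h1 := xi_bijective f F G η hac
  have h2 := TensStalk.theta_bijective η (lowerShriekPre f F) G.obj
  let e := Equiv.ofBijective _ h2
  have h3 : ⇑(mu f F G η) = ⇑(xi f F G η) ∘ e.symm := by
    funext z
    change mu f F G η z = xi f F G η (e.symm z)
    change mu f F G η z = mu f F G η (TensStalk.theta η (lowerShriekPre f F) G.obj (e.symm z))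
    congr 1
    exact (e.apply_symm_apply z).symm
  rw [h3]
  exact h1.comp e.symm.bijective

end Stalk

section Global

/-- the sheaf-level projection map -/
noncomputable def M :
    (presheafToSheaf Y.smallEtaleTopology AddCommGrpCat.{u + 1}).obj
      (EtTens.tensorObj (lowerShriekPre f F) G.obj) ⟶ (lowerShriekSh f).obj (tsh f F G) :=
  ((sheafificationAdjunction Y.smallEtaleTopology AddCommGrpCat.{u + 1}).homEquiv
    (EtTens.tensorObj (lowerShriekPre f F) G.obj) ((lowerShriekSh f).obj (tsh f F G))).symm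
    (m f F G)

lemma toSheafify_M :
    toSheafify Y.smallEtaleTopology (EtTens.tensorObj (lowerShriekPre f F) G.obj) ≫
      (M f F G).hom = m f F G := by
  have h := ((sheafificationAdjunction Y.smallEtaleTopology AddCommGrpCat.{u + 1}).homEquiv
    (EtTens.tensorObj (lowerShriekPre f F) G.obj)
    ((lowerShriekSh f).obj (tsh f F G))).apply_symm_apply (m f F G)
  rw [Adjunction.homEquiv_unit] at h
  exact h

theorem M_isIso [IsSeparated f] [LocallyQuasiFinite f] : IsIso (M f F G) := by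
  apply ShriekEtIso.isIso_of_stalks_family (fun y : Y => Groth.Agent.S0631.Aux.geomPtAlgAt y)
    (fun y => ⟨y, Groth.Agent.S0631.Aux.geomPtAlgAt_default y⟩)
  intro y
  haveI : IsAlgClosed (Groth.Agent.S0631.Aux.geomPtAlgAt y).Ω :=
    (inferInstance : IsAlgClosed (AlgebraicClosure (Y.residueField y)))
  have h1 := mu_bijective f F G (Groth.Agent.S0631.Aux.geomPtAlgAt y).ξ inferInstance
  have h2 : Function.Bijective
      ((Scheme.pointSmallEtale (Groth.Agent.S0631.Aux.geomPtAlgAt y).ξ).presheafFiber.map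
        (toSheafify Y.smallEtaleTopology (EtTens.tensorObj (lowerShriekPre f F) G.obj))) :=
    (Scheme.pointSmallEtale (Groth.Agent.S0631.Aux.geomPtAlgAt y).ξ).toPresheafFiber_map_bijective _
  have h3 : (Scheme.pointSmallEtale (Groth.Agent.S0631.Aux.geomPtAlgAt y).ξ).presheafFiber.map
      (toSheafify Y.smallEtaleTopology (EtTens.tensorObj (lowerShriekPre f F) G.obj)) ≫
      (Scheme.pointSmallEtale (Groth.Agent.S0631.Aux.geomPtAlgAt y).ξ).presheafFiber.map
        (M f F G).hom = mu f F G (Groth.Agent.S0631.Aux.geomPtAlgAt y).ξ := by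
    rw [← Functor.map_comp, toSheafify_M]
  change Function.Bijective
    ((Scheme.pointSmallEtale (Groth.Agent.S0631.Aux.geomPtAlgAt y).ξ).presheafFiber.map
      (M f F G).hom)
  have h4 : ⇑((Scheme.pointSmallEtale (Groth.Agent.S0631.Aux.geomPtAlgAt y).ξ).presheafFiber.map
      (M f F G).hom) ∘
      ⇑((Scheme.pointSmallEtale (Groth.Agent.S0631.Aux.geomPtAlgAt y).ξ).presheafFiber.map
        (toSheafify Y.smallEtaleTopology (EtTens.tensorObj (lowerShriekPre f F) G.obj))) =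
      ⇑(mu f F G (Groth.Agent.S0631.Aux.geomPtAlgAt y).ξ) := by
    funext z
    exact ConcreteCategory.congr_hom h3 z
  have h5 : Function.Bijective
      (⇑((Scheme.pointSmallEtale (Groth.Agent.S0631.Aux.geomPtAlgAt y).ξ).presheafFiber.map
      (M f F G).hom) ∘
      ⇑((Scheme.pointSmallEtale (Groth.Agent.S0631.Aux.geomPtAlgAt y).ξ).presheafFiber.map
        (toSheafify Y.smallEtaleTopology (EtTens.tensorObj (lowerShriekPre f F) G.obj)))) := by
    rw [h4]
    exact h1
  exact (Function.Bijective.of_comp_iff _ h2).1 h5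

theorem main {X Y : Scheme.{u}} (f : X ⟶ Y) [IsSeparated f]
    [LocallyOfFiniteType f] [LocallyQuasiFinite f] (F : EtCoh.Ab X) (G : EtCoh.Ab Y) :
    Nonempty ((EtTens.tensorBi.obj ((EtShriek.lowerShriek f).obj F)).obj G ≅
      (EtShriek.lowerShriek f).obj ((EtTens.tensorBi.obj F).obj ((EtCoh.pull f).obj G))) := by
  haveI := M_isIso f F G
  let e1 : (EtTens.tensorBi.obj ((EtShriek.lowerShriek f).obj F)).obj G ≅
      (EtTens.tensorBi.obj ((lowerShriekSh f).obj F)).obj G :=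
    (EtTens.tensorBi.mapIso ((lowerShriekShIso f).app F)).app G
  let e2 : (EtTens.tensorBi.obj ((lowerShriekSh f).obj F)).obj G ≅
      (lowerShriekSh f).obj (tsh f F G) := asIso (M f F G)
  let e3 : (lowerShriekSh f).obj (tsh f F G) ≅ (EtShriek.lowerShriek f).obj (tsh f F G) :=
    ((lowerShriekShIso f).app (tsh f F G)).symm
  exact ⟨e1 ≪≫ e2 ≪≫ e3⟩

end Global

end H9FE.ShriekProj
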