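import Mathlib

/-!
helper9: sheaves of sets on topological spaces.  The inverse image `i^* F` has the same stalks as
`F` (compatibly with germs and the unit of the adjunction), hence the unit `F ⟶ i_* i^* F` is
"locally bijective" over `i` (`surj_local`, `inj_local`).  This is a port to `Type u`-valued
sheaves of helper3's `PB2`/`PB3`/`PB5` (which treat abelian sheaves).
-/

set_option autoImplicit false
set_option linter.unusedSectionVars false
set_option linter.style.haveILetI false
set_option backward.isDefEq.respectTransparency false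

universe u

open CategoryTheory CategoryTheory.Limits Opposite TopologicalSpace TopCat

namespace H9FE.SpecSecPB

section sections

variable {X : TopCat.{u}} (F : TopCat.Sheaf (Type u) X)

/-- restriction of sections -/
noncomputable abbrev res {U V : Opens X} (h : V ≤ U) (s : F.obj.obj (op U)) : F.obj.obj (op V) :=
  F.obj.map (homOfLE h).op s

lemma res_res {U V W : Opens X} (h : V ≤ U) (h' : W ≤ V) (s : F.obj.obj (op U)) :
    res F h' (res F h s) = res F (h'.trans h) s := by
  change (F.obj.map (homOfLE h).op ≫ F.obj.map (homOfLE h').op) s = _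
  rw [← F.obj.map_comp]
  rfl

lemma res_self {U : Opens X} (s : F.obj.obj (op U)) : res F le_rfl s = s := by
  change F.obj.map (𝟙 (op U)) s = s
  rw [F.obj.map_id]
  rfl

/-- germs -/
noncomputable abbrev gm {U : Opens X} (x : X) (hx : x ∈ U) (s : F.obj.obj (op U)) :
    Presheaf.stalk F.obj x :=
  Presheaf.germ F.obj U x hx s

lemma gm_res {U V : Opens X} (h : V ≤ U) (x : X) (hx : x ∈ V) (s : F.obj.obj (op U)) :
    gm F x hx (res F h s) = gm F x (h hx) s :=
  Presheaf.germ_res_apply F.obj (homOfLE h) x hx s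

lemma exists_res_eq_of_gm_eq {U V : Opens X} (x : X) (hxU : x ∈ U) (hxV : x ∈ V)
    (s : F.obj.obj (op U)) (t : F.obj.obj (op V)) (h : gm F x hxU s = gm F x hxV t) :
    ∃ (W : Opens X) (_ : x ∈ W) (hU : W ≤ U) (hV : W ≤ V), res F hU s = res F hV t := by
  obtain ⟨W, hxW, iU, iV, hW⟩ := Presheaf.germ_eq F.obj x hxU hxV s t h
  exact ⟨W, hxW, iU.le, iV.le, hW⟩

lemma section_ext {U : Opens X} (s t : F.obj.obj (op U))
    (h : ∀ x (hx : x ∈ U), gm F x hx s = gm F x hx t) : s = t :=
  Presheaf.section_ext F U s t (fun x hx => h x hx)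

lemma exists_gm_eq (x : X) (σ : Presheaf.stalk F.obj x) :
    ∃ (U : Opens X) (hx : x ∈ U) (s : F.obj.obj (op U)), gm F x hx s = σ := by
  obtain ⟨U, hx, s, hs⟩ := Presheaf.exists_germ_eq F.obj σ
  exact ⟨U, hx, s, hs⟩

/-- sections are determined locally -/
lemma eq_of_locally_eq {U : Opens X} (s t : F.obj.obj (op U))
    (h : ∀ x ∈ U, ∃ (W : Opens X) (_ : x ∈ W) (hW : W ≤ U), res F hW s = res F hW t) : s = t := by
  apply section_ext
  intro x hx
  obtain ⟨W, hxW, hW, e⟩ := h x hx
  rw [← gm_res F hW x hxW s, ← gm_res F hW x hxW t, e]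

/-- gluing of a compatible family of sections -/
lemma glue {ι : Type*} (U : ι → Opens X) (V : Opens X) (hUV : ∀ k, U k ≤ V) (hcov : V ≤ iSup U)
    (sf : ∀ k, F.obj.obj (op (U k)))
    (h : ∀ k l, res F (inf_le_left : U k ⊓ U l ≤ U k) (sf k) =
      res F (inf_le_right : U k ⊓ U l ≤ U l) (sf l)) :
    ∃ s : F.obj.obj (op V), ∀ k, res F (hUV k) s = sf k := by
  obtain ⟨s, hs, -⟩ := TopCat.Sheaf.existsUnique_gluing' F U V (fun k => homOfLE (hUV k)) hcov sf
    (fun k l => h k l)
  exact ⟨s, hs⟩

end sections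

variable {Z X : TopCat.{u}} (i : Z ⟶ X) (F : TopCat.Sheaf (Type u) X)

/-- the adjunction between inverse and direct image -/
noncomputable abbrev adj : Sheaf.pullback (Type u) i ⊣ Sheaf.pushforward (Type u) i :=
  Sheaf.pullbackPushforwardAdjunction (Type u) i

/-- the inverse image -/
noncomputable abbrev G : TopCat.Sheaf (Type u) Z := (Sheaf.pullback (Type u) i).obj F

/-- the unit of the adjunction -/
noncomputable abbrev η : F ⟶ (Sheaf.pushforward (Type u) i).obj (G i F) := (adj i).unit.app F

/-- the map induced by the unit on sections -/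
noncomputable abbrev ηU (U : Opens X) :
    F.obj.obj (op U) ⟶ (G i F).obj.obj (op ((Opens.map i).obj U)) :=
  (η i F).hom.app (op U)

lemma map_mono {U U' : Opens X} (h : U' ≤ U) : (Opens.map i).obj U' ≤ (Opens.map i).obj U :=
  fun _ hz => h hz

/-- naturality of the unit with respect to restriction -/
lemma η_res {U U' : Opens X} (h : U' ≤ U) (s : F.obj.obj (op U)) :
    ηU i F U' (res F h s) = res (G i F) (map_mono i h) (ηU i F U s) := by
  have := congrArg (fun f => f s) ((η i F).hom.naturality (homOfLE h).op)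
  exact this

/-- the comparison of stalks -/
noncomputable def φ (z : Z) : Presheaf.stalk F.obj (i z) ⟶ Presheaf.stalk (G i F).obj z :=
  (Presheaf.stalkFunctor (Type u) (i z)).map (η i F).hom ≫
    Presheaf.stalkPushforward (Type u) i (G i F).obj z

lemma germ_φ (z : Z) (U : Opens X) (hU : i z ∈ U) :
    Presheaf.germ F.obj U (i z) hU ≫ φ i F z =
      ηU i F U ≫ Presheaf.germ (G i F).obj ((Opens.map i).obj U) z hU := by
  unfold φ
  rw [Presheaf.stalkFunctor_map_germ_assoc]
  erw [Presheaf.stalkPushforward_germ]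
  rfl

/-- decidability of membership, on the source -/
noncomputable def instZ (z : Z) : ∀ U : Opens Z, Decidable (z ∈ U) := fun _ => Classical.dec _

/-- decidability of membership, on the target, chosen so that the direct image of a skyscraper
sheaf is a skyscraper sheaf by definition -/
noncomputable def instX (z : Z) : ∀ U : Opens X, Decidable (i z ∈ U) :=
  fun U => Classical.dec (z ∈ (Opens.map i).obj U)

/-- the composite adjunction -/
noncomputable def adjL (z : Z) : Sheaf.pullback (Type u) i ⋙ (Sheaf.forget (Type u) Z ⋙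
      Presheaf.stalkFunctor (Type u) z) ⊣
    @skyscraperSheafFunctor X (i z) (instX i z) (Type u) _ _ :=
  (adj i).comp (@stalkSkyscraperSheafAdjunction Z z (instZ z) (Type u) _ _ _)

/-- the adjunction between the stalk and the skyscraper sheaf -/
noncomputable def adjR (z : Z) :
    (Sheaf.forget (Type u) X ⋙ Presheaf.stalkFunctor (Type u) (i z)) ⊣
      @skyscraperSheafFunctor X (i z) (instX i z) (Type u) _ _ :=
  @stalkSkyscraperSheafAdjunction X (i z) (instX i z) (Type u) _ _ _

/-- the abstract identification of the stalks -/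
noncomputable def e (z : Z) :
    Presheaf.stalk (G i F).obj z ≅ Presheaf.stalk F.obj (i z) :=
  ((adjL i z).leftAdjointUniq (adjR i z)).app F

section sky

variable {Y : TopCat.{u}} (p : Y) [∀ U : Opens Y, Decidable (p ∈ U)]

lemma unit_app_eqToHom (𝓕 : TopCat.Sheaf (Type u) Y) (U : Opens Y) (hU : p ∈ U) :
    ((stalkSkyscraperSheafAdjunction p).unit.app 𝓕).hom.app (op U) ≫ eqToHom (if_pos hU) =
      Presheaf.germ 𝓕.obj U p hU := by
  change (StalkSkyscraperPresheafAdjunctionAuxs.toSkyscraperPresheaf p (𝟙 _)).app (op U) ≫ _ = _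
  rw [comp_eqToHom_iff, StalkSkyscraperPresheafAdjunctionAuxs.toSkyscraperPresheaf_app,
    dif_pos hU, Category.id_comp]
  rfl

lemma sky_map_eqToHom {a b : Type u} (f : a ⟶ b) (U : Opens Y) (hU : p ∈ U) :
    ((skyscraperSheafFunctor p).map f).hom.app (op U) ≫ eqToHom (if_pos hU) =
      eqToHom (if_pos hU) ≫ f := by
  change (SkyscraperPresheafFunctor.map' p f).app (op U) ≫ _ = _
  rw [comp_eqToHom_iff, SkyscraperPresheafFunctor.map'_app, dif_pos hU, Category.assoc]

end sky

lemma φ_e (z : Z) : φ i F z ≫ (e i F z).hom = 𝟙 _ := by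
  refine Presheaf.stalk_hom_ext _ fun U hU => ?_
  rw [Category.comp_id, ← Category.assoc, germ_φ, Category.assoc]
  have key := Adjunction.unit_leftAdjointUniq_hom_app (adjL i z) (adjR i z) F
  have key' := congrArg (fun m => m.hom.app (op U)) key
  letI := instX i z
  letI := instZ z
  have hU' : z ∈ (Opens.map i).obj U := hU
  simp only [adjL, adjR, Adjunction.comp_unit_app] at key'
  have key'' := congrArg (fun m => m ≫ eqToHom (if_pos hU)) key'
  simp only at key''
  have hA := unit_app_eqToHom ((ConcreteCategory.hom i) z) F U hU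
  have hA' := unit_app_eqToHom z (G i F) ((Opens.map i).obj U) hU'
  have hB := sky_map_eqToHom ((ConcreteCategory.hom i) z) (e i F z).hom U hU
  refine Eq.trans ?_ (key''.trans hA)
  symm
  let B_U := ((stalkSkyscraperSheafAdjunction z).unit.app (G i F)).hom.app
    (op ((Opens.map i).obj U))
  let C_U := ((skyscraperSheafFunctor ((ConcreteCategory.hom i) z)).map (e i F z).hom).hom.app (op U)
  have hB' : C_U ≫ eqToHom (if_pos hU) = eqToHom (if_pos hU) ≫ (e i F z).hom := hB
  have hA'' : B_U ≫ eqToHom (if_pos hU') =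
      Presheaf.germ (G i F).obj ((Opens.map i).obj U) z hU := hA'
  change ((ηU i F U ≫ B_U) ≫ C_U) ≫ eqToHom (if_pos hU) = _
  calc ((ηU i F U ≫ B_U) ≫ C_U) ≫ eqToHom (if_pos hU)
      = ηU i F U ≫ (B_U ≫ (C_U ≫ eqToHom (if_pos hU))) := by
        simp only [Category.assoc]
    _ = ηU i F U ≫ (B_U ≫ (eqToHom (if_pos hU) ≫ (e i F z).hom)) := by rw [hB']
    _ = ηU i F U ≫ ((B_U ≫ eqToHom (if_pos hU')) ≫ (e i F z).hom) := by
        rw [Category.assoc]
    _ = ηU i F U ≫ (Presheaf.germ (G i F).obj ((Opens.map i).obj U) z hU ≫ (e i F z).hom) := by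
        rw [hA'']

instance isIso_φ (z : Z) : IsIso (φ i F z) := by
  have h : φ i F z = (e i F z).inv := by
    rw [← cancel_mono (e i F z).hom, φ_e, Iso.inv_hom_id]
  rw [h]
  infer_instance

theorem φ_bijective (z : Z) : Function.Bijective (φ i F z) :=
  ConcreteCategory.bijective_of_isIso (φ i F z)

lemma φ_gm (z : Z) (U : Opens X) (hU : i z ∈ U) (s : F.obj.obj (op U)) :
    φ i F z (gm F (i z) hU s) = gm (G i F) z hU (ηU i F U s) := by
  have := congrArg (fun f => f s) (germ_φ i F z U hU)
  exact this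

/-- every section of the inverse image is locally the image of a section -/
theorem surj_local (z : Z) (V : Opens Z) (hz : z ∈ V) (t : (G i F).obj.obj (op V)) :
    ∃ (U : Opens X) (_ : i z ∈ U) (s : F.obj.obj (op U)) (W : Opens Z) (_ : z ∈ W) (hWV : W ≤ V)
      (hWU : W ≤ (Opens.map i).obj U),
      res (G i F) hWU (ηU i F U s) = res (G i F) hWV t := by
  obtain ⟨σ, hσ⟩ := (φ_bijective i F z).2 (gm (G i F) z hz t)
  obtain ⟨U, hU, s, rfl⟩ := exists_gm_eq F (i z) σ
  rw [φ_gm] at hσ
  obtain ⟨W, hW, hWU, hWV, e⟩ := exists_res_eq_of_gm_eq (G i F) z hU hz _ _ hσ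
  exact ⟨U, hU, s, W, hW, hWV, hWU, e⟩

/-- two sections with the same image near `z` agree near `i z` -/
theorem inj_local (z : Z) (U : Opens X) (hU : i z ∈ U) (s s' : F.obj.obj (op U)) (W : Opens Z)
    (hW : z ∈ W) (hWU : W ≤ (Opens.map i).obj U)
    (h : res (G i F) hWU (ηU i F U s) = res (G i F) hWU (ηU i F U s')) :
    ∃ (U' : Opens X) (_ : i z ∈ U') (hle : U' ≤ U), res F hle s = res F hle s' := by
  have h1 : gm (G i F) z hU (ηU i F U s) = gm (G i F) z hU (ηU i F U s') := by
    rw [← gm_res (G i F) hWU z hW, ← gm_res (G i F) hWU z hW, h]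
  rw [← φ_gm, ← φ_gm] at h1
  have h2 := (φ_bijective i F z).1 h1
  obtain ⟨U', hU', hle, hle2, e⟩ := exists_res_eq_of_gm_eq F (i z) hU hU s s' h2
  exact ⟨U', hU', hle, e⟩

end H9FE.SpecSecPB
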