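import Mathlib
import Groth.Agent.Lib.Helper9.FE.SpecSecPB
import Groth.Agent.Lib.Helper9.FE.CsCons

/-!
helper9: sections of a sheaf of sets over a closed subset `Z` of a spectral space `X` such that
`Z ∩ closure {x}` is connected for every `x`: the restriction `Γ(X, F) ⟶ Γ(Z, F|_Z)` (the unit of
the inverse image / direct image adjunction on global sections) is bijective.

Injectivity: every point specializes to a point of `Z`.  Surjectivity: cover `Z` by finitely many
quasi-compact opens `U k` carrying sections `s k` inducing the given section of `F|_Z`; the locus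
`E k l` where `s k = s l` is an open containing `Z ∩ U k ∩ U l`, and by connectedness of
`Z ∩ closure {y}` it contains every `y` such that `closure {y} ∩ Z` meets both `U k` and `U l`.
Compactness of the constructible topology then gives opens `Z ∩ U k ⊆ V k ⊆ U k` with
`V k ∩ V l ⊆ E k l`; they cover `X` and the `s k` glue.
-/

set_option autoImplicit false
set_option linter.unusedSectionVars false
set_option linter.style.haveILetI false
set_option backward.isDefEq.respectTransparency false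

universe u

open CategoryTheory CategoryTheory.Limits Opposite TopologicalSpace TopCat

namespace H9FE.SpecSec

open H9FE.SpecSecPB

section topology

variable {X : Type*} [TopologicalSpace X]

lemma mem_of_mem_closure_singleton {c y : X} (h : c ∈ closure ({y} : Set X)) {O : Set X}
    (hO : IsOpen O) (hc : c ∈ O) : y ∈ O :=
  (specializes_iff_mem_closure.2 h).mem_open hO hc

/-- separate a compact set from a point none of whose specializations lies in it -/
theorem sep1 [PrespectralSpace X] {A : Set X} (hA : IsCompact A) (y : X)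
    (h : ∀ a ∈ A, a ∉ closure ({y} : Set X)) :
    ∃ V : Set X, IsOpen V ∧ IsCompact V ∧ A ⊆ V ∧ y ∉ V := by
  obtain ⟨W, hWc, hWo, hAW, hW⟩ := PrespectralSpace.exists_isCompact_and_isOpen_between hA
    (isClosed_closure (s := ({y} : Set X))).isOpen_compl (fun a ha => h a ha)
  exact ⟨W, hWo, hWc, hAW, fun hy => hW hy (subset_closure rfl)⟩

/-- separation of two sets by opens away from a pro-constructible set -/
theorem sep2 [SpectralSpace X] (A A' Bc : Set X)
    (hBc : ∀ y ∈ Bc, ∃ R : Set X, Topology.IsConstructible R ∧ y ∈ R ∧ R ⊆ Bc)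
    (hsep : ∀ y, y ∉ Bc → (∃ V : Set X, IsOpen V ∧ IsCompact V ∧ A ⊆ V ∧ y ∉ V) ∨
      (∃ V : Set X, IsOpen V ∧ IsCompact V ∧ A' ⊆ V ∧ y ∉ V)) :
    ∃ V V' : Set X, IsOpen V ∧ IsOpen V' ∧ A ⊆ V ∧ A' ⊆ V' ∧ V ∩ V' ⊆ Bc := by
  classical
  let P1 : Set X → Prop := fun R => IsOpen Rᶜ ∧ IsCompact Rᶜ ∧ A ⊆ Rᶜ
  let P2 : Set X → Prop := fun R => IsOpen Rᶜ ∧ IsCompact Rᶜ ∧ A' ⊆ Rᶜ
  let S : Set (Set X) := {R | Topology.IsConstructible R ∧ (P1 R ∨ P2 R ∨ R ⊆ Bc)}
  have hcov : (⋃ R : S, (R : Set X)) = Set.univ := by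
    rw [Set.eq_univ_iff_forall]
    intro y
    by_cases hy : y ∈ Bc
    · obtain ⟨R, hR, hyR, hRB⟩ := hBc y hy
      exact Set.mem_iUnion.2 ⟨⟨R, hR, Or.inr (Or.inr hRB)⟩, hyR⟩
    · rcases hsep y hy with ⟨V, hVo, hVc, hAV, hyV⟩ | ⟨V, hVo, hVc, hAV, hyV⟩
      · refine Set.mem_iUnion.2 ⟨⟨Vᶜ, ?_, Or.inl ?_⟩, hyV⟩
        · exact Topology.isConstructible_compl.2 (hVc.isConstructible hVo)
        · show IsOpen Vᶜᶜ ∧ IsCompact Vᶜᶜ ∧ A ⊆ Vᶜᶜ
          rw [compl_compl]
          exact ⟨hVo, hVc, hAV⟩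
      · refine Set.mem_iUnion.2 ⟨⟨Vᶜ, ?_, Or.inr (Or.inl ?_)⟩, hyV⟩
        · exact Topology.isConstructible_compl.2 (hVc.isConstructible hVo)
        · show IsOpen Vᶜᶜ ∧ IsCompact Vᶜᶜ ∧ A' ⊆ Vᶜᶜ
          rw [compl_compl]
          exact ⟨hVo, hVc, hAV⟩
  obtain ⟨t, ht⟩ := H9FE.CsStrata.exists_finite_subcover_of_isConstructible
    (fun R : S => (R : Set X)) (fun R => R.2.1) hcov
  refine ⟨⋂ R ∈ t, (if P1 (R : Set X) then (R : Set X)ᶜ else Set.univ),
    ⋂ R ∈ t, (if P2 (R : Set X) then (R : Set X)ᶜ else Set.univ), ?_, ?_, ?_, ?_, ?_⟩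
  · refine isOpen_biInter_finset fun R _ => ?_
    split_ifs with h
    · exact h.1
    · exact isOpen_univ
  · refine isOpen_biInter_finset fun R _ => ?_
    split_ifs with h
    · exact h.1
    · exact isOpen_univ
  · intro a ha
    simp only [Set.mem_iInter]
    intro R _
    split_ifs with h
    · exact h.2.2 ha
    · trivial
  · intro a ha
    simp only [Set.mem_iInter]
    intro R _
    split_ifs with h
    · exact h.2.2 ha
    · trivial
  · rintro y ⟨hy1, hy2⟩
    have hyu : y ∈ ⋃ R ∈ t, ((R : S) : Set X) := by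
      rw [ht]
      trivial
    simp only [Set.mem_iUnion] at hyu
    obtain ⟨R, hRt, hyR⟩ := hyu
    simp only [Set.mem_iInter] at hy1 hy2
    rcases R.2.2 with h1 | h2 | h3
    · have := hy1 R hRt
      rw [if_pos h1] at this
      exact absurd hyR this
    · have := hy2 R hRt
      rw [if_pos h2] at this
      exact absurd hyR this
    · exact h3 hyR

end topology

variable {Z X : TopCat.{u}} (i : Z ⟶ X) (F : TopCat.Sheaf (Type u) X)

/-- injectivity of the restriction to a subspace meeting the closure of every point -/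
theorem injective (hne : ∀ x : X, ∃ z : Z, i z ∈ closure ({x} : Set X)) :
    Function.Injective (ηU i F ⊤) := by
  intro s s' h
  apply eq_of_locally_eq F
  intro x _
  obtain ⟨z, hz⟩ := hne x
  obtain ⟨U', hU', hle, e⟩ := inj_local i F z ⊤ (Opens.mem_top _) s s' ((Opens.map i).obj ⊤)
    (Opens.mem_top _) le_rfl (by rw [h])
  exact ⟨U', mem_of_mem_closure_singleton hz U'.isOpen hU', hle, e⟩

/-- a section `s` over `U` induces the given section `t` of the inverse image -/
def Good (t : (G i F).obj.obj (op ((Opens.map i).obj ⊤))) (U : Opens X) (s : F.obj.obj (op U)) :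
    Prop :=
  ηU i F U s = res (G i F) (map_mono i (le_top : U ≤ ⊤)) t

variable {i F}

lemma Good.eq {t : (G i F).obj.obj (op ((Opens.map i).obj ⊤))} {U : Opens X}
    {s : F.obj.obj (op U)} (h : Good i F t U s) :
    ηU i F U s = res (G i F) (map_mono i (le_top : U ≤ ⊤)) t := h

lemma Good.res {t : (G i F).obj.obj (op ((Opens.map i).obj ⊤))} {U U' : Opens X} (h : U' ≤ U)
    {s : F.obj.obj (op U)} (hs : Good i F t U s) : Good i F t U' (res F h s) := by
  unfold Good
  rw [η_res, hs.eq, res_res]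

variable (i F)

theorem exists_good [PrespectralSpace X] (hi : Topology.IsInducing i)
    (t : (G i F).obj.obj (op ((Opens.map i).obj ⊤))) (z : Z) :
    ∃ (U : Opens X), IsCompact (U : Set X) ∧ i z ∈ U ∧ ∃ s : F.obj.obj (op U), Good i F t U s := by
  obtain ⟨U, hU, s, W, hW, hWV, hWU, e⟩ :=
    surj_local i F z ((Opens.map i).obj ⊤) (Opens.mem_top _) t
  obtain ⟨W', hW'o, hW'⟩ := hi.isOpen_iff.1 W.isOpen
  have hzW' : i z ∈ W' := by
    have : z ∈ (i ⁻¹' W') := by
      rw [hW']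
      exact hW
    exact this
  obtain ⟨Q, ⟨hQo, hQc⟩, hzQ, hQ⟩ := PrespectralSpace.isTopologicalBasis.exists_subset_of_mem_open
    (show i z ∈ (U : Set X) ∩ W' from ⟨hU, hzW'⟩) (U.isOpen.inter hW'o)
  let Qo : Opens X := ⟨Q, hQo⟩
  have hQU : Qo ≤ U := fun x hx => (hQ hx).1
  have hQW : (Opens.map i).obj Qo ≤ W := fun x hx => by
    have : x ∈ i ⁻¹' W' := (hQ hx).2
    rw [hW'] at this
    exact this
  refine ⟨Qo, hQc, hzQ, res F hQU s, ?_⟩
  unfold Good
  rw [η_res]
  have e' := congrArg (res (G i F) hQW) e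
  rw [res_res, res_res] at e'
  exact e'

theorem exists_cover [PrespectralSpace X] (hi : Topology.IsInducing i)
    (hcpt : IsCompact (Set.range i)) (t : (G i F).obj.obj (op ((Opens.map i).obj ⊤))) :
    ∃ (K : Type u) (_ : Finite K) (U : K → Opens X) (s : ∀ k, F.obj.obj (op (U k))),
      (∀ k, IsCompact (U k : Set X)) ∧ (∀ k, Good i F t (U k) (s k)) ∧
      Set.range i ⊆ ⋃ k, (U k : Set X) := by
  choose U hUc hzU s hs using exists_good i F hi t
  obtain ⟨t', ht'⟩ := hcpt.elim_finite_subcover (fun z => (U z : Set X)) (fun z => (U z).isOpen)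
    (by
      rintro _ ⟨z, rfl⟩
      exact Set.mem_iUnion.2 ⟨z, hzU z⟩)
  refine ⟨{z : Z // z ∈ t'}, inferInstance, fun k => U k.1, fun k => s k.1, fun k => hUc k.1,
    fun k => hs k.1, ?_⟩
  intro x hx
  obtain ⟨z, hz, hxz⟩ := Set.mem_iUnion₂.1 (ht' hx)
  exact Set.mem_iUnion.2 ⟨⟨z, hz⟩, hxz⟩

section E

variable {K : Type*} (U : K → Opens X) (s : ∀ k, F.obj.obj (op (U k)))

/-- the largest open on which `s k = s l` -/
def E (k l : K) : Opens X :=
  sSup {Q : Opens X | ∃ (h1 : Q ≤ U k) (h2 : Q ≤ U l), res F h1 (s k) = res F h2 (s l)}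

lemma E_le_left (k l : K) : E F U s k l ≤ U k :=
  sSup_le (fun _ hQ => hQ.1)

lemma E_le_right (k l : K) : E F U s k l ≤ U l :=
  sSup_le (fun _ hQ => hQ.2.1)

lemma le_E {k l : K} {Q : Opens X} (h1 : Q ≤ U k) (h2 : Q ≤ U l)
    (h : res F h1 (s k) = res F h2 (s l)) : Q ≤ E F U s k l :=
  le_sSup ⟨h1, h2, h⟩

lemma res_E (k l : K) :
    res F (E_le_left F U s k l) (s k) = res F (E_le_right F U s k l) (s l) := by
  apply eq_of_locally_eq F
  intro x hx
  obtain ⟨Q, ⟨h1, h2, h⟩, hxQ⟩ := Opens.mem_sSup.1 hx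
  refine ⟨Q, hxQ, le_sSup ⟨h1, h2, h⟩, ?_⟩
  rw [res_res, res_res]
  exact h

lemma E_trans (k m l : K) : E F U s k m ⊓ E F U s m l ≤ E F U s k l := by
  refine le_E F U s (inf_le_left.trans (E_le_left F U s k m))
    (inf_le_right.trans (E_le_right F U s m l)) ?_
  have h1 := congrArg (res F (inf_le_left : E F U s k m ⊓ E F U s m l ≤ E F U s k m))
    (res_E F U s k m)
  have h2 := congrArg (res F (inf_le_right : E F U s k m ⊓ E F U s m l ≤ E F U s m l))
    (res_E F U s m l)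
  rw [res_res, res_res] at h1 h2
  exact h1.trans h2

lemma self_le_E (k : K) : U k ≤ E F U s k k := le_E F U s le_rfl le_rfl rfl

variable (t : (G i F).obj.obj (op ((Opens.map i).obj ⊤))) (hgood : ∀ k, Good i F t (U k) (s k))

include hgood in
lemma mem_E_of_good (k l : K) (z : Z) (hk : i z ∈ U k) (hl : i z ∈ U l) :
    i z ∈ E F U s k l := by
  have g1 := (hgood k).res (inf_le_left : U k ⊓ U l ≤ U k)
  have g2 := (hgood l).res (inf_le_right : U k ⊓ U l ≤ U l)
  obtain ⟨U', hU', hle, e⟩ := inj_local i F z (U k ⊓ U l) ⟨hk, hl⟩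
    (res F (inf_le_left : U k ⊓ U l ≤ U k) (s k)) (res F (inf_le_right : U k ⊓ U l ≤ U l) (s l))
    ((Opens.map i).obj (U k ⊓ U l)) ⟨hk, hl⟩ le_rfl (by rw [g1.eq, g2.eq])
  refine le_E F U s (hle.trans inf_le_left) (hle.trans inf_le_right) ?_ hU'
  rw [res_res, res_res] at e
  exact e

include hgood in
lemma mem_E_of_connected (hcov : Set.range i ⊆ ⋃ k, (U k : Set X)) (y : X)
    (hconn : IsPreconnected (Set.range i ∩ closure ({y} : Set X)))
    (k l : K) (zk zl : Z) (hzk : i zk ∈ closure ({y} : Set X)) (hzl : i zl ∈ closure ({y} : Set X))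
    (hk : i zk ∈ U k) (hl : i zl ∈ U l) :
    y ∈ E F U s k l := by
  by_contra hy
  let M : Set K := {m | y ∈ E F U s k m}
  let u : Set X := ⋃ m ∈ M, (U m : Set X)
  let v : Set X := ⋃ m ∈ Mᶜ, (U m : Set X)
  have hu : IsOpen u := isOpen_biUnion fun m _ => (U m).isOpen
  have hv : IsOpen v := isOpen_biUnion fun m _ => (U m).isOpen
  have hsub : Set.range i ∩ closure ({y} : Set X) ⊆ u ∪ v := by
    rintro c ⟨hc, _⟩
    obtain ⟨m, hm⟩ := Set.mem_iUnion.1 (hcov hc)
    by_cases hmM : m ∈ M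
    · exact Or.inl (Set.mem_biUnion hmM hm)
    · exact Or.inr (Set.mem_biUnion (show m ∈ Mᶜ from hmM) hm)
  have hyk : y ∈ U k := mem_of_mem_closure_singleton hzk (U k).isOpen hk
  have hkM : k ∈ M := self_le_E F U s k hyk
  have hlM : l ∈ Mᶜ := hy
  have h1 : (Set.range i ∩ closure ({y} : Set X) ∩ u).Nonempty :=
    ⟨i zk, ⟨⟨zk, rfl⟩, hzk⟩, Set.mem_biUnion hkM hk⟩
  have h2 : (Set.range i ∩ closure ({y} : Set X) ∩ v).Nonempty :=
    ⟨i zl, ⟨⟨zl, rfl⟩, hzl⟩, Set.mem_biUnion hlM hl⟩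
  obtain ⟨c, ⟨⟨z, rfl⟩, hcy⟩, hcu, hcv⟩ := hconn u v hu hv hsub h1 h2
  obtain ⟨m, hmM, hcm⟩ := Set.mem_iUnion₂.1 hcu
  obtain ⟨m', hm'M, hcm'⟩ := Set.mem_iUnion₂.1 hcv
  have hE : i z ∈ E F U s m m' := mem_E_of_good i F U s t hgood m m' z hcm hcm'
  have hyE : y ∈ E F U s m m' := mem_of_mem_closure_singleton hcy (E F U s m m').isOpen hE
  exact hm'M (E_trans F U s k m m' ⟨hmM, hyE⟩)

include hgood in
theorem exists_shrink [SpectralSpace X] [Finite K] (hZc : IsClosed (Set.range i))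
    (hUc : ∀ k, IsCompact (U k : Set X)) (hcov : Set.range i ⊆ ⋃ k, (U k : Set X))
    (hconn : ∀ y : X, IsPreconnected (Set.range i ∩ closure ({y} : Set X))) :
    ∃ V : K → Opens X, (∀ k, V k ≤ U k) ∧ (∀ k, Set.range i ∩ (U k : Set X) ⊆ V k) ∧
      (∀ k l, V k ⊓ V l ≤ E F U s k l) := by
  have hpair : ∀ k l, ∃ V V' : Set X, IsOpen V ∧ IsOpen V' ∧
      Set.range i ∩ (U k : Set X) ⊆ V ∧ Set.range i ∩ (U l : Set X) ⊆ V' ∧
      V ∩ V' ⊆ ((U k : Set X) ∩ (U l : Set X))ᶜ ∪ (E F U s k l : Set X) := by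
    intro k l
    apply sep2
    · rintro y (hy | hy)
      · exact ⟨((U k : Set X) ∩ (U l : Set X))ᶜ, Topology.isConstructible_compl.2
          (((hUc k).inter_of_isOpen (hUc l) (U k).isOpen (U l).isOpen).isConstructible
            ((U k).isOpen.inter (U l).isOpen)), hy, Set.subset_union_left⟩
      · obtain ⟨Q, ⟨hQo, hQc⟩, hyQ, hQ⟩ :=
          PrespectralSpace.isTopologicalBasis.exists_subset_of_mem_open hy (E F U s k l).isOpen
        exact ⟨Q, hQc.isConstructible hQo, hyQ, hQ.trans Set.subset_union_right⟩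
    · intro y hy
      have hy2 : y ∉ E F U s k l := fun h => hy (Or.inr h)
      by_cases hA : ∃ z : Z, i z ∈ closure ({y} : Set X) ∧ i z ∈ U k
      · obtain ⟨zk, hzk, hk⟩ := hA
        right
        refine sep1 ((hUc l).inter_left hZc) y ?_
        rintro a ⟨⟨zl, rfl⟩, hl⟩ hzl
        exact hy2 (mem_E_of_connected i F U s t hgood hcov y (hconn y) k l zk zl hzk hzl hk hl)
      · left
        refine sep1 ((hUc k).inter_left hZc) y ?_
        rintro a ⟨⟨zk, rfl⟩, hk⟩ hzk
        exact hA ⟨zk, hzk, hk⟩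
  choose V V' hVo hV'o hAV hAV' hVV' using hpair
  let Vs : K → Set X := fun k => (U k : Set X) ∩ ⋂ l, (V k l ∩ V' l k)
  have hVs : ∀ k, IsOpen (Vs k) := fun k =>
    (U k).isOpen.inter (isOpen_iInter_of_finite fun l => (hVo k l).inter (hV'o l k))
  refine ⟨fun k => ⟨Vs k, hVs k⟩, fun k x hx => hx.1, ?_, ?_⟩
  · intro k x hx
    exact ⟨hx.2, Set.mem_iInter.2 fun l => ⟨hAV k l hx, hAV' l k hx⟩⟩
  · intro k l x hx
    obtain ⟨⟨hxk, hxk'⟩, ⟨hxl, hxl'⟩⟩ := hx
    have h1 : x ∈ V k l := (Set.mem_iInter.1 hxk' l).1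
    have h2 : x ∈ V' k l := (Set.mem_iInter.1 hxl' k).2
    rcases hVV' k l ⟨h1, h2⟩ with h | h
    · exact absurd ⟨hxk, hxl⟩ h
    · exact h

end E

/-- surjectivity of the restriction -/
theorem surjective [SpectralSpace X] (hi : Topology.IsInducing i) (hZc : IsClosed (Set.range i))
    (hconn : ∀ x : X, IsConnected (Set.range i ∩ closure ({x} : Set X))) :
    Function.Surjective (ηU i F ⊤) := by
  intro t
  have hcpt : IsCompact (Set.range i) := hZc.isCompact
  obtain ⟨K, hK, U, s, hUc, hgood, hcov⟩ := exists_cover i F hi hcpt t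
  obtain ⟨V, hVU, hZV, hVE⟩ := exists_shrink i F U s t hgood hZc hUc hcov
    (fun y => (hconn y).isPreconnected)
  have hVcov : (⊤ : Opens X) ≤ iSup V := by
    intro y _
    obtain ⟨c, ⟨z, rfl⟩, hc⟩ := (hconn y).nonempty
    obtain ⟨k, hk⟩ := Set.mem_iUnion.1 (hcov ⟨z, rfl⟩)
    have hzV : i z ∈ V k := hZV k ⟨⟨z, rfl⟩, hk⟩
    exact Opens.mem_iSup.2 ⟨k, mem_of_mem_closure_singleton hc (V k).isOpen hzV⟩
  obtain ⟨σ, hσ⟩ := glue F V ⊤ (fun k => le_top) hVcov (fun k => res F (hVU k) (s k)) (by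
    intro k l
    rw [res_res, res_res]
    have h := congrArg (res F (hVE k l)) (res_E F U s k l)
    rw [res_res, res_res] at h
    exact h)
  refine ⟨σ, ?_⟩
  apply eq_of_locally_eq (G i F)
  intro z _
  obtain ⟨k, hk⟩ := Set.mem_iUnion.1 (hcov ⟨z, rfl⟩)
  have hzV : i z ∈ V k := hZV k ⟨⟨z, rfl⟩, hk⟩
  refine ⟨(Opens.map i).obj (V k), hzV, map_mono i le_top, ?_⟩
  rw [← η_res i F (le_top : V k ≤ ⊤) σ, hσ k]
  exact ((hgood k).res (hVU k)).eq

/-- Sections over a closed subset of a spectral space meeting the closure of every point in a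
connected set. -/
theorem main [SpectralSpace X] (hi : Topology.IsClosedEmbedding i)
    (hconn : ∀ x : X, IsConnected (Set.range i ∩ closure ({x} : Set X))) :
    Function.Bijective
      (((Sheaf.pullbackPushforwardAdjunction (Type u) i).unit.app F).hom.app (op ⊤)) :=
  ⟨injective i F (fun x => by
      obtain ⟨c, ⟨z, rfl⟩, hc⟩ := (hconn x).nonempty
      exact ⟨z, hc⟩),
    surjective i F hi.isInducing hi.isClosed_range hconn⟩

end H9FE.SpecSec
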