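import Mathlib
import Groth.Prelude
import Groth.Agent.Lib.Helper5.Misc.EtStalkPull

/-! helper9: the identification of the fibre of an inverse image sheaf at a point `Φ` with the fibre
of the sheaf at the induced point `Φ.comap F` sends the germ of a section `t` over `V` to the germ
of the unit section `η(t)` over `F V` (abstract version for points of sites, and the concrete
version for geometric points of schemes and `stalkPullIso`). -/

set_option autoImplicit false
set_option linter.unusedSectionVars false
set_option linter.style.haveILetI false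
set_option backward.isDefEq.respectTransparency false

universe w v u
open CategoryTheory CategoryTheory.Limits Opposite

namespace H9FE.StalkUnit

section Sky

open GrothendieckTopology

variable {C : Type*} [Category C] {J : GrothendieckTopology C} (Ψ : Point.{w} J)
  (A : Type*) [Category.{v} A] [HasProducts.{w} A] [HasColimitsOfSize.{w, w} A]

/-- the unit of the skyscraper adjunction, evaluated at `X` and projected to the component `x`, is
the germ map -/
theorem sky_unit_π (P : Sheaf J A) (X : C) (x : Ψ.fiber.obj X) :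
    ((Ψ.skyscraperSheafAdjunction (A := A)).unit.app P).hom.app (op X) ≫
      Pi.π (fun (_ : Ψ.fiber.obj X) => Ψ.presheafFiber.obj P.obj) x =
    Ψ.toPresheafFiber X x P.obj := by
  have h2 : (Ψ.skyscraperSheafAdjunction (A := A)).unit.app P =
      (Ψ.skyscraperSheafAdjunction (A := A)).homEquiv P _ (𝟙 _) := by
    rw [Adjunction.homEquiv_unit, CategoryTheory.Functor.map_id]
    exact (Category.comp_id _).symm
  have h3 := Ψ.skyscraperSheafAdjunction_homEquiv_apply_hom (A := A) (F := P)
    (𝟙 (Ψ.presheafFiber.obj P.obj))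
  have h4 : ((Ψ.skyscraperSheafAdjunction (A := A)).unit.app P).hom =
      Ψ.skyscraperPresheafHomEquiv (𝟙 (Ψ.presheafFiber.obj P.obj)) := by
    rw [h2]; exact h3
  rw [h4, Ψ.skyscraperPresheafHomEquiv_app_π]
  exact Category.comp_id _

end Sky

section Abstract

open GrothendieckTopology

variable {C D : Type*} [Category C] [Category D]
  {K : GrothendieckTopology D}
  (Φ : Point.{w} K) (F : C ⥤ D) [RepresentablyFlat F] {J : GrothendieckTopology C}
  (hF : CoverPreserving J K F)
  [InitiallySmall (F ⋙ Φ.fiber).Elements]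
  (A : Type*) [Category.{v} A] [HasProducts.{w} A]
  [Functor.IsContinuous F J K]
  [(F.sheafPushforwardContinuous A J K).IsRightAdjoint]
  [HasColimitsOfSize.{w, w} A]

theorem comap_germ (G : Sheaf J A) (V : C) (y : Φ.fiber.obj (F.obj V)) :
    (Φ.comap F hF).toPresheafFiber V y G.obj ≫ (Φ.sheafFiberComapIso F hF A).hom.app G =
      ((F.sheafAdjunctionContinuous A J K).unit.app G).hom.app (op V) ≫
        Φ.toPresheafFiber (F.obj V) y ((F.sheafPullback A J K).obj G).obj := by
  let adjA := (F.sheafAdjunctionContinuous A J K).comp (Φ.skyscraperSheafAdjunction (A := A))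
  let adjB := (Φ.comap F hF).skyscraperSheafAdjunction (A := A)
  let β := Φ.skyscraperSheafFunctorCompSheafPushforwardContinuous F hF A
  have h1 := unit_conjugateEquiv_symm adjA adjB β.hom G
  have hβ : β.hom.app ((F.sheafPullback A J K ⋙ Φ.sheafFiber).obj G) = 𝟙 _ := rfl
  have hiso : (Φ.sheafFiberComapIso F hF A).hom.app G =
      ((conjugateEquiv adjA adjB).symm β.hom).app G := rfl
  let ι := (Φ.sheafFiberComapIso F hF A).hom.app G
  have hmap : ((Φ.comap F hF).skyscraperSheafFunctor.map ι).hom.app (op V) ≫
      Pi.π (fun (_ : (Φ.comap F hF).fiber.obj V) => _) y =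
      Pi.π (fun (_ : (Φ.comap F hF).fiber.obj V) => _) y ≫ ι := by
    simp [GrothendieckTopology.Point.skyscraperSheafFunctor]
  have hA : adjA.unit.app G = (F.sheafAdjunctionContinuous A J K).unit.app G ≫
      (F.sheafPushforwardContinuous A J K).map
        ((Φ.skyscraperSheafAdjunction (A := A)).unit.app ((F.sheafPullback A J K).obj G)) :=
    Adjunction.comp_unit_app _ _ _
  have h5 : (adjB.unit.app G ≫ (Φ.comap F hF).skyscraperSheafFunctor.map ι) =
      adjA.unit.app G := by
    show adjB.unit.app G ≫ (Φ.comap F hF).skyscraperSheafFunctor.map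
      ((Φ.sheafFiberComapIso F hF A).hom.app G) = _
    rw [hiso, ← h1, hβ]
    exact Category.comp_id _
  have h6 : (adjB.unit.app G).hom.app (op V) ≫
      ((Φ.comap F hF).skyscraperSheafFunctor.map ι).hom.app (op V) =
      (adjA.unit.app G).hom.app (op V) := by
    rw [← h5]; rfl
  have kB := sky_unit_π (Φ.comap F hF) A G V y
  have kA := sky_unit_π Φ A ((F.sheafPullback A J K).obj G) (F.obj V) y
  calc (Φ.comap F hF).toPresheafFiber V y G.obj ≫ ι
      = ((adjB.unit.app G).hom.app (op V) ≫
          Pi.π (fun (_ : (Φ.comap F hF).fiber.obj V) => _) y) ≫ ι :=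
        congrArg (fun m => m ≫ ι) kB.symm
    _ = (adjB.unit.app G).hom.app (op V) ≫
          (((Φ.comap F hF).skyscraperSheafFunctor.map ι).hom.app (op V) ≫
            Pi.π (fun (_ : (Φ.comap F hF).fiber.obj V) => _) y) := by
        rw [Category.assoc, hmap]
    _ = (adjA.unit.app G).hom.app (op V) ≫
          Pi.π (fun (_ : (Φ.comap F hF).fiber.obj V) => _) y := by
        rw [← Category.assoc, h6]
    _ = ((F.sheafAdjunctionContinuous A J K).unit.app G).hom.app (op V) ≫
        Φ.toPresheafFiber (F.obj V) y ((F.sheafPullback A J K).obj G).obj := by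
        rw [hA, ← kA, ← Category.assoc]
        rfl

end Abstract

section HomGerm

open GrothendieckTopology

variable {C : Type*} [Category C] {J : GrothendieckTopology C}
  {A : Type*} [Category.{v} A] [HasColimitsOfSize.{w, w} A]

/-- a morphism of points acts on germs through the fibre map -/
theorem hom_germ {Φ₁ Φ₂ : Point.{w} J} (φ : Φ₁ ⟶ Φ₂) (P : Sheaf J A) (X : C)
    (x : Φ₂.fiber.obj X) :
    Φ₂.toPresheafFiber X x P.obj ≫ (Point.Hom.sheafFiber (A := A) φ).app P =
      Φ₁.toPresheafFiber X (φ.hom.app X x) P.obj := by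
  show Φ₂.toPresheafFiber X x P.obj ≫ (Point.Hom.presheafFiber (A := A) φ).app P.obj = _
  unfold Point.Hom.presheafFiber
  dsimp only
  exact Φ₂.toPresheafFiber_presheafFiberDesc (P := P.obj) _ _ X x

end HomGerm

section Scheme

open AlgebraicGeometry Groth.Agent.Lib.Helper5.EtStalkPull

variable {X S : Scheme.{u}} (f : X ⟶ S) {Ω : Type u} [Field Ω] [IsSepClosed Ω]
  (ξ : Spec (CommRingCat.of Ω) ⟶ X)

/-- germ–unit compatibility for `stalkPullIso` (abelian sheaves), as morphisms -/
theorem germ_unit_hom (F : EtCoh.Ab S) (V : S.Etale)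
    (y : (Scheme.pointSmallEtale ξ).fiber.obj ((EtCoh.bc f).obj V)) :
    ((EtCoh.pullPushAdj f).unit.app F).hom.app (op V) ≫
      (Scheme.pointSmallEtale ξ).toPresheafFiber ((EtCoh.bc f).obj V) y
        ((EtCoh.pull f).obj F).obj ≫ (stalkPullIso f ξ).hom.app F =
    (Scheme.pointSmallEtale (ξ ≫ f)).toPresheafFiber V ((fiberIso f ξ).hom.app V y) F.obj := by
  have h1 := comap_germ (Scheme.pointSmallEtale ξ) (EtCoh.bc f) (EtCoh.coverPreserving_bc f)
    AddCommGrpCat.{u + 1} F V y
  have h2 := hom_germ (A := AddCommGrpCat.{u + 1}) (pointIso f ξ).inv F V y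
  have h3 : (stalkPullIso f ξ).hom.app F =
      (GrothendieckTopology.Point.sheafFiberComapIso (Scheme.pointSmallEtale ξ) (EtCoh.bc f)
        (EtCoh.coverPreserving_bc f) AddCommGrpCat.{u + 1}).inv.app F ≫
      (GrothendieckTopology.Point.Hom.sheafFiber (A := AddCommGrpCat.{u + 1})
        (pointIso f ξ).inv).app F := rfl
  rw [h3, ← Category.assoc, ← h1]
  simp only [Category.assoc]
  rw [Iso.hom_inv_id_app_assoc]
  exact h2

end Scheme

end H9FE.StalkUnit
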