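import Mathlib
import Groth.Agent.Lib.Helper9.FE.StkFinal
import Groth.Agent.Lib.Helper9.FE.DerCompareNat
import Groth.Agent.Lib.Helper3.ExtRD2

/-! helper9: functorial version of `StkFinal`: `R^n f_* ⋙ stalk_ξ ≅ g⁻¹ ⋙ H^n(X ×_S T, -)` as
functors (`mainNat`), via the comparison of universal δ-functors (`DerCompareNat`) and
`RⁿΓ(Y, -) ≅ Hⁿ(Y, -)` as functors (`rightDerivedGsecNatIso`). -/

set_option autoImplicit false
set_option linter.unusedSectionVars false
set_option linter.style.haveILetI false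
set_option backward.isDefEq.respectTransparency false
universe u
open CategoryTheory CategoryTheory.Limits AlgebraicGeometry Opposite Abelian

namespace H9FE.StkTheta
open H9FE.LimTower H9FE.StkSys H9FE.StkGeo H9FE.LimPull EtCore Groth.Agent.Lib.Helper5.Misc
  Groth.Agent.Lib.Helper5 Groth.Agent.Helper3

attribute [local instance] EtStalk.ab5' EtStalk.pfc

/-- `Extⁿ(ℤ_Y, -) ≅ Hⁿ(Y, -)` as functors -/
noncomputable def extFunctorIsoHF (Y : Scheme.{u}) (n : ℕ) :
    (extFunctor n).obj (op (EtCoh.const Y ℤ)) ≅ EtCoh.HF Y n :=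
  NatIso.ofComponents (fun F => Iso.refl _) (by
    intro F G φ
    have h1 : ((extFunctor n).obj (op (EtCoh.const Y ℤ))).map φ = (EtCoh.HF Y n).map φ := rfl
    exact (Category.comp_id _).trans (h1.trans (Category.id_comp _).symm))

/-- `RⁿΓ(Y, -) ≅ Hⁿ(Y, -)` as functors -/
noncomputable def rightDerivedGsecNatIso (Y : Scheme.{u}) (n : ℕ) :
    (gsec Y).rightDerived n ≅ EtCoh.HF Y n :=
  ExtRD2.rightDerivedNatIsoExt (gsec Y) (EtCoh.const Y ℤ) (coyonedaIsoGsec Y).symm n ≪≫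
    extFunctorIsoHF Y n

variable {X S : Scheme.{u}} (f : X ⟶ S) {ι : Type u} [Preorder ι] [IsDirected ι (· ≤ ·)]
  [Nonempty ι] (Us : ιᵒᵖ ⥤ S.Etale) (cU : Cone (Xs Us)) (h : cU.pt ⟶ S)
  (hh : ∀ a : ιᵒᵖ, cU.π.app a ≫ (Us.obj a).hom = h)
  {Ω : Type u} [Field Ω] [IsSepClosed Ω] (ξ' : Spec (CommRingCat.of Ω) ⟶ cU.pt)
  (lift : ∀ (U : S.Etale), (Pt Us cU h ξ').fiber.obj U → (cU.pt ⟶ U.left))
  (lift_hom : ∀ U u, lift U u ≫ U.hom = h)
  (lift_nat : ∀ {U U' : S.Etale} (m : U ⟶ U') (u : (Pt Us cU h ξ').fiber.obj U),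
    lift U u ≫ m.left = lift U' ((Pt Us cU h ξ').fiber.map m u))
  (lift_tower : ∀ a, lift (Us.obj a) (uj Us cU h hh ξ' a) = cU.π.app a)
  (dom : ∀ (U : S.Etale) (u : (Pt Us cU h ξ').fiber.obj U), ∃ (a : ιᵒᵖ) (m : Us.obj a ⟶ U),
    (Pt Us cU h ξ').fiber.map m (uj Us cU h hh ξ' a) = u)
  [QuasiCompact f] [QuasiSeparated f] (hcU : IsLimit cU)
  (hUaff : ∀ a : ιᵒᵖ, IsAffine (Us.obj a).left)

include lift lift_hom lift_nat lift_tower hcU hUaff dom in
/-- the stalk of `R^n f_* (-)` at the limit point is the cohomology of `X ×_S T`, functorially -/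
theorem mainNat (n : ℕ) :
    Nonempty (EtCoh.Rpush f n ⋙ EtCoh.stalk (ξ' ≫ h) ≅
      EtCoh.pull (pullback.fst f h) ⋙ EtCoh.HF (pullback f h) n) := by
  have hacy : ∀ (I : EtCoh.Ab X), Injective I → ∀ m : ℕ,
      IsZero (((gsec (pullback f h)).rightDerived (m + 1)).obj
        ((EtCoh.pull (pullback.fst f h)).obj I)) := by
    intro I hI m
    haveI := hI
    refine IsZero.of_iso ?_ (rightDerivedGsecIso (pullback f h) _ (m + 1))
    haveI : Subsingleton (EtCoh.H (pullback f h) ((EtCoh.pull (pullback.fst f h)).obj I) (m + 1)) :=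
      ⟨fun a b => (acyclic (EE f Us) (xs_affine f Us hUaff) (xs_qc f Us hUaff) (xs_qs f Us hUaff)
        (cX f Us cU h hh) (cXIsLimit f Us cU h hh hcU) (pullback.fst f h) (cX_hg f Us cU h hh)
        I m a).trans (acyclic (EE f Us) (xs_affine f Us hUaff) (xs_qc f Us hUaff)
        (xs_qs f Us hUaff) (cX f Us cU h hh) (cXIsLimit f Us cU h hh hcU) (pullback.fst f h)
        (cX_hg f Us cU h hh) I m b).symm⟩
    exact AddCommGrpCat.isZero_of_subsingleton _
  obtain ⟨e⟩ := H9FE.DerCompareNat.nonempty_natIso (EtCoh.push f) (gsec (pullback f h))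
    (EtCoh.pull (pullback.fst f h)) (EtCoh.stalk (ξ' ≫ h))
    (thetaIso f Us cU h hh ξ' lift lift_hom lift_nat lift_tower dom hcU hUaff) hacy n
  exact ⟨e ≪≫ Functor.isoWhiskerLeft _ (rightDerivedGsecNatIso (pullback f h) n)⟩

end H9FE.StkTheta
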