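import Mathlib
import Groth.Prelude.Def_EtShriek2
import Groth.Agent.Lib.Helper9.FE.LimNull1
import Groth.Agent.Lib.Helper9.FE.LimGeom3

/-! helper9: the subsheaf of sections supported in a closed subset (complement of an open `V`) of an
abelian étale sheaf: `Fsupp V F = ker (F → j_* j^{-1} F)`; sectionwise description, vanishing over
objects mapping into `V`, functoriality in `V`, and the criterion for a section to lie in it. -/

set_option autoImplicit false
set_option linter.unusedSectionVars false
set_option linter.style.haveILetI false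
set_option linter.unusedTactic false
set_option backward.isDefEq.respectTransparency false
universe u
open CategoryTheory CategoryTheory.Limits AlgebraicGeometry Opposite

namespace H9FE.SuppSh

variable {X : Scheme.{u}}

/-- sections functor -/
noncomputable def Γs (U : X.Etale) : EtCoh.Ab X ⥤ AddCommGrpCat.{u+1} :=
  sheafToPresheaf X.smallEtaleTopology AddCommGrpCat.{u+1} ⋙ (evaluation _ _).obj (op U)

instance (U : X.Etale) : PreservesFiniteLimits (Γs (X := X) U) := by
  unfold Γs
  infer_instance

instance (U : X.Etale) : (Γs (X := X) U).Additive := by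
  unfold Γs
  infer_instance

lemma Γs_map (U : X.Etale) {A B : EtCoh.Ab X} (f : A ⟶ B) : (Γs U).map f = f.hom.app (op U) := rfl

/-- sections of a kernel: injectivity -/
lemma kernel_ι_app_injective {A B : EtCoh.Ab X} (f : A ⟶ B) (U : X.Etale) :
    Function.Injective ((kernel.ι f).hom.app (op U)) := by
  have : Mono ((Γs U).map (kernel.ι f)) := inferInstance
  exact (AddCommGrpCat.mono_iff_injective _).mp this

/-- sections of a kernel: exactness -/
lemma kernel_ι_app_exact {A B : EtCoh.Ab X} (f : A ⟶ B) (U : X.Etale) (x : A.obj.obj (op U))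
    (hx : f.hom.app (op U) x = 0) :
    ∃ y : (kernel f).obj.obj (op U), (kernel.ι f).hom.app (op U) y = x := by
  let S := ShortComplex.mk (kernel.ι f) f (kernel.condition f)
  have hS : S.Exact := ShortComplex.exact_of_f_is_kernel _ (kernelIsKernel f)
  have hS' : (S.map (Γs U)).Exact :=
    hS.map_of_mono_of_preservesKernel (Γs U) (inferInstanceAs (Mono (kernel.ι f))) inferInstance
  exact (ShortComplex.ab_exact_iff _).mp hS' x hx

lemma kernel_ι_app_comp {A B : EtCoh.Ab X} (f : A ⟶ B) (U : X.Etale)
    (y : (kernel f).obj.obj (op U)) : f.hom.app (op U) ((kernel.ι f).hom.app (op U) y) = 0 := by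
  have e := kernel.condition f
  have e2 := congrArg (fun t => t.hom.app (op U)) e
  exact ConcreteCategory.congr_hom e2 y

open H9FE.LimNull H9FE.LimGeom Groth.Agent.Lib.Helper5 in
/-- a section restricts to zero along any morphism whose image avoids its support -/
lemma restrict_eq_zero_of_avoid (F : EtCoh.Ab X) {U T : X.Etale} (h : T ⟶ U)
    (σ : F.obj.obj (op U)) (hav : ∀ t : T.left, h.left t ∉ EtShriek.sectSupp F U σ) :
    F.obj.map h.op σ = 0 := by
  let R : Sieve T :=
    { arrows := fun W k => F.obj.map k.op (F.obj.map h.op σ) = 0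
      downward_closed := by
        intro W W' k hk l
        change F.obj.map (l ≫ k).op (F.obj.map h.op σ) = 0
        rw [op_comp, Functor.map_comp, ConcreteCategory.comp_apply, hk, map_zero] }
  have hR : R ∈ X.smallEtaleTopology T := by
    rw [EtSiteBasic.mem_smallEtale_iff]
    intro t
    have h1 := hav t
    simp only [EtShriek.sectSupp, Set.mem_ofPred_eq, not_forall, not_not] at h1
    obtain ⟨W, g, ⟨w, hw⟩, h0⟩ := h1
    obtain ⟨z, hz1, hz2⟩ := et_pullback_exists_preimage g h w t hw
    refine ⟨pullback g h, pullback.snd g h, z, ?_, hz2⟩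
    change F.obj.map (pullback.snd g h).op (F.obj.map h.op σ) = 0
    rw [← ConcreteCategory.comp_apply, ← Functor.map_comp, ← op_comp, ← pullback.condition,
      op_comp, Functor.map_comp, ConcreteCategory.comp_apply, h0, map_zero]
  apply ab_sect_ext F R hR
  intro W k hk
  rw [map_zero]
  exact hk

/-- the projection `U ×_X V → U` as a morphism of the small étale site of `X` -/
noncomputable def rho (V : X.Opens) (U : X.Etale) :
    (EtShriek.compEtale V.ι).obj ((EtCoh.bc V.ι).obj U) ⟶ U :=
  MorphismProperty.Over.homMk (pullback.fst U.hom V.ι) (pullback.condition)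

lemma rho_left (V : X.Opens) (U : X.Etale) : (rho V U).left = pullback.fst U.hom V.ι := rfl

lemma rho_natural (V : X.Opens) {U U' : X.Etale} (g : U' ⟶ U) :
    (EtShriek.compEtale V.ι).map ((EtCoh.bc V.ι).map g) ≫ rho V U = rho V U' ≫ g := by
  apply MorphismProperty.Over.Hom.ext
  exact (EtCoh.isPullback_bc_map V.ι g).w

/-- points of `U ×_X V` map into `V` -/
lemma rho_mem (V : X.Opens) (U : X.Etale)
    (t : ((EtShriek.compEtale V.ι).obj ((EtCoh.bc V.ι).obj U)).left) :
    U.hom ((rho V U).left t) ∈ V := by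
  have e : (rho V U).left ≫ U.hom = pullback.snd U.hom V.ι ≫ V.ι := pullback.condition
  have e3 : ((rho V U).left ≫ U.hom) t = (pullback.snd U.hom V.ι ≫ V.ι) t := congr($e t)
  have e2 : U.hom ((rho V U).left t) = V.ι (pullback.snd U.hom V.ι t) := e3
  rw [e2]
  exact (pullback.snd U.hom V.ι t).2

/-- a section of `rho` when `U` maps into `V` -/
noncomputable def rhoSec (V : X.Opens) (U : X.Etale) (hU : Set.range U.hom ⊆ (V : Set X)) :
    U ⟶ (EtShriek.compEtale V.ι).obj ((EtCoh.bc V.ι).obj U) :=
  MorphismProperty.Over.homMk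
    (pullback.lift (𝟙 U.left) (IsOpenImmersion.lift V.ι U.hom (by simpa using hU))
      (by rw [Category.id_comp, IsOpenImmersion.lift_fac]))
    (by
      change pullback.lift _ _ _ ≫ (pullback.snd U.hom V.ι ≫ V.ι) = U.hom
      rw [pullback.lift_snd_assoc, IsOpenImmersion.lift_fac])

lemma rhoSec_rho (V : X.Opens) (U : X.Etale) (hU : Set.range U.hom ⊆ (V : Set X)) :
    rhoSec V U hU ≫ rho V U = 𝟙 U := by
  apply MorphismProperty.Over.Hom.ext
  change pullback.lift _ _ _ ≫ pullback.fst U.hom V.ι = 𝟙 _
  rw [pullback.lift_fst]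
  rfl

lemma snd_homOfLE_ι {V V' : X.Opens} (hV : V' ≤ V) (U : X.Etale) :
    (pullback.snd U.hom V'.ι ≫ X.homOfLE hV) ≫ V.ι = pullback.snd U.hom V'.ι ≫ V'.ι := by
  rw [Category.assoc, Scheme.homOfLE_ι]

/-- comparison for `V' ≤ V` -/
noncomputable def rhoLE {V V' : X.Opens} (hV : V' ≤ V) (U : X.Etale) :
    (EtShriek.compEtale V'.ι).obj ((EtCoh.bc V'.ι).obj U) ⟶
      (EtShriek.compEtale V.ι).obj ((EtCoh.bc V.ι).obj U) :=
  MorphismProperty.Over.homMk
    (pullback.lift (pullback.fst U.hom V'.ι) (pullback.snd U.hom V'.ι ≫ X.homOfLE hV)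
      (pullback.condition.trans (snd_homOfLE_ι hV U).symm))
    (by
      change pullback.lift _ _ _ ≫ (pullback.snd U.hom V.ι ≫ V.ι) = pullback.snd U.hom V'.ι ≫ V'.ι
      rw [pullback.lift_snd_assoc]
      exact snd_homOfLE_ι hV U)

lemma rhoLE_rho {V V' : X.Opens} (hV : V' ≤ V) (U : X.Etale) :
    rhoLE hV U ≫ rho V U = rho V' U := by
  apply MorphismProperty.Over.Hom.ext
  change pullback.lift _ _ _ ≫ pullback.fst U.hom V.ι = pullback.fst U.hom V'.ι
  rw [pullback.lift_fst]

/-- the restriction map `F → j_* j^{-1} F`, `j : V → X` -/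
noncomputable def theta (V : X.Opens) (F : EtCoh.Ab X) :
    F ⟶ (EtCoh.push V.ι).obj ((EtShriek.restrAlong V.ι).obj F) :=
  ⟨{ app := fun U => F.obj.map (rho V U.unop).op
     naturality := by
      intro U U' g
      have e := rho_natural V g.unop
      have e2 := congrArg (fun t => F.obj.map t.op) e
      simp only [op_comp, Functor.map_comp] at e2
      exact e2.symm }⟩

lemma theta_app (V : X.Opens) (F : EtCoh.Ab X) (U : X.Etale) :
    (theta V F).hom.app (op U) = F.obj.map (rho V U).op := rfl

/-- the subsheaf of sections supported in the complement of `V` -/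
noncomputable def Fsupp (V : X.Opens) (F : EtCoh.Ab X) : EtCoh.Ab X := kernel (theta V F)

/-- its inclusion -/
noncomputable def Fι (V : X.Opens) (F : EtCoh.Ab X) : Fsupp V F ⟶ F := kernel.ι (theta V F)

instance (V : X.Opens) (F : EtCoh.Ab X) : Mono (Fι V F) := by unfold Fι; infer_instance

lemma Fι_injective (V : X.Opens) (F : EtCoh.Ab X) (U : X.Etale) :
    Function.Injective ((Fι V F).hom.app (op U)) := kernel_ι_app_injective _ U

lemma Fι_restrict (V : X.Opens) (F : EtCoh.Ab X) (U : X.Etale) (y : (Fsupp V F).obj.obj (op U)) :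
    F.obj.map (rho V U).op ((Fι V F).hom.app (op U) y) = 0 :=
  kernel_ι_app_comp (theta V F) U y

lemma exists_Fι_eq (V : X.Opens) (F : EtCoh.Ab X) (U : X.Etale) (σ : F.obj.obj (op U))
    (h : F.obj.map (rho V U).op σ = 0) : ∃ y : (Fsupp V F).obj.obj (op U),
      (Fι V F).hom.app (op U) y = σ :=
  kernel_ι_app_exact (theta V F) U σ h

/-- a section whose support avoids `V` lies in `Fsupp V F` -/
lemma exists_Fι_eq_of_avoid (V : X.Opens) (F : EtCoh.Ab X) (U : X.Etale) (σ : F.obj.obj (op U))
    (h : ∀ u ∈ EtShriek.sectSupp F U σ, U.hom u ∉ V) : ∃ y : (Fsupp V F).obj.obj (op U),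
      (Fι V F).hom.app (op U) y = σ := by
  apply exists_Fι_eq
  apply restrict_eq_zero_of_avoid
  intro t ht
  exact h _ ht (rho_mem V U t)

/-- `Fsupp V F` has no sections over objects mapping into `V` -/
lemma Fsupp_isZero_of_subset (V : X.Opens) (F : EtCoh.Ab X) (U : X.Etale)
    (hU : Set.range U.hom ⊆ (V : Set X)) : IsZero ((Fsupp V F).obj.obj (op U)) := by
  haveI : Subsingleton ((Fsupp V F).obj.obj (op U)) := by
    refine ⟨fun a b => ?_⟩
    have key : ∀ y : (Fsupp V F).obj.obj (op U), (Fι V F).hom.app (op U) y = 0 := by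
      intro y
      have e1 := Fι_restrict V F U y
      have e2 := congrArg (fun t => F.obj.map (rhoSec V U hU).op t) e1
      simp only [map_zero] at e2
      rw [← ConcreteCategory.comp_apply, ← Functor.map_comp, ← op_comp, rhoSec_rho, op_id,
        CategoryTheory.Functor.map_id] at e2
      exact e2
    apply Fι_injective V F U
    rw [key a, key b]
  exact AddCommGrpCat.isZero_of_subsingleton _

/-- functoriality in `V` -/
noncomputable def FsuppLE {V V' : X.Opens} (hV : V' ≤ V) (F : EtCoh.Ab X) :
    Fsupp V F ⟶ Fsupp V' F :=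
  kernel.lift (theta V' F) (Fι V F) (by
    apply Sheaf.hom_ext
    ext U y
    obtain ⟨U⟩ := U
    change F.obj.map (rho V' U).op ((Fι V F).hom.app (op U) y) = 0
    rw [← rhoLE_rho hV U, op_comp, Functor.map_comp, ConcreteCategory.comp_apply,
      Fι_restrict, map_zero])

@[reassoc (attr := simp)]
lemma FsuppLE_ι {V V' : X.Opens} (hV : V' ≤ V) (F : EtCoh.Ab X) :
    FsuppLE hV F ≫ Fι V' F = Fι V F := kernel.lift_ι _ _ _

lemma FsuppLE_refl (V : X.Opens) (F : EtCoh.Ab X) : FsuppLE (le_refl V) F = 𝟙 _ := by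
  rw [← cancel_mono (Fι V F), FsuppLE_ι, Category.id_comp]

lemma FsuppLE_trans {V V' V'' : X.Opens} (h1 : V' ≤ V) (h2 : V'' ≤ V') (F : EtCoh.Ab X) :
    FsuppLE h1 F ≫ FsuppLE h2 F = FsuppLE (h2.trans h1) F := by
  rw [← cancel_mono (Fι V'' F), Category.assoc, FsuppLE_ι, FsuppLE_ι, FsuppLE_ι]

end H9FE.SuppSh
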