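import Mathlib
import Groth.Agent.Lib.Helper9.FE.SuppSh1
import Groth.Agent.S0671

/-! helper9: an abelian étale sheaf on a locally Noetherian scheme whose support consists of closed
points is the filtered colimit of its subsheaves of sections supported in finite sets of closed
points. -/

set_option autoImplicit false
set_option linter.unusedSectionVars false
set_option linter.style.haveILetI false
set_option linter.unusedTactic false
set_option backward.isDefEq.respectTransparency false
universe u
open CategoryTheory CategoryTheory.Limits AlgebraicGeometry Opposite TopologicalSpace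

namespace H9FE.SuppSh

/-- a closed subset of a Noetherian quasi-sober space all of whose points are closed is finite -/
lemma finite_of_isClosed_of_points_closed {α : Type*} [TopologicalSpace α] [NoetherianSpace α]
    [QuasiSober α] (S : Set α) (hS : IsClosed S) (hpt : ∀ s ∈ S, IsClosed ({s} : Set α)) :
    S.Finite := by
  obtain ⟨T, hTf, hTc, hTi, rfl⟩ := NoetherianSpace.exists_finite_set_isClosed_irreducible hS
  refine Set.Finite.sUnion hTf ?_
  intro t ht
  obtain ⟨η, hη⟩ := QuasiSober.sober (hTi t ht) (hTc t ht)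
  have hηt : η ∈ t := hη.mem
  have hcl : IsClosed ({η} : Set α) := hpt η ⟨t, ht, hηt⟩
  have : t = {η} := by
    have := hη.def
    rw [hcl.closure_eq] at this
    exact this.symm
  rw [this]
  exact Set.finite_singleton η

theorem locallyQuasiFinite_of_etale' {X Y : Scheme.{u}} (f : X ⟶ Y) [Etale f] :
    LocallyQuasiFinite f := by
  rw [HasRingHomProperty.iff_appLE (P := @LocallyQuasiFinite)]
  intro U V e
  have h := (HasRingHomProperty.iff_appLE (P := @Etale)).mp ‹Etale f› U V e
  algebraize [(f.appLE U V e).hom]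
  have : Algebra.Etale Γ(Y, U) Γ(X, V) := h
  exact (inferInstance : Algebra.QuasiFinite Γ(Y, U) Γ(X, V))

lemma isClosed_singleton_of_lqf {X Y : Scheme.{u}} (f : X ⟶ Y) [LocallyQuasiFinite f] (s : X)
    (h : IsClosed ({f s} : Set Y)) : IsClosed ({s} : Set X) := by
  have hd := f.isDiscrete_preimage_singleton (f s)
  have hcl : IsClosed (f ⁻¹' {f s}) := h.preimage f.continuous
  haveI : DiscreteTopology ↥(f ⁻¹' {f s}) := hd.to_subtype
  have h1 : IsClosed ({⟨s, rfl⟩} : Set ↥(f ⁻¹' {f s})) := isClosed_discrete _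
  have h2 := hcl.isClosedEmbedding_subtypeVal.isClosedMap _ h1
  simpa using h2

variable {X : Scheme.{u}}

/-- supports of sections over quasi-compact objects are finite sets of closed points -/
lemma sectSupp_finite [IsLocallyNoetherian X] (F : EtCoh.Ab X)
    (hF : ∀ x ∈ EtPBC.supp F, IsClosed ({x} : Set X)) (U : X.Etale) [CompactSpace U.left]
    (σ : F.obj.obj (op U)) :
    (EtShriek.sectSupp F U σ).Finite ∧
      ∀ u ∈ EtShriek.sectSupp F U σ, IsClosed ({U.hom u} : Set X) := by
  obtain ⟨h1, h2⟩ := Groth.Agent.S0671.result F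
  have hcl : ∀ u ∈ EtShriek.sectSupp F U σ, IsClosed ({U.hom u} : Set X) := by
    intro u hu
    apply hF
    rw [h2]
    simp only [Set.mem_iUnion]
    exact ⟨U, σ, u, hu, rfl⟩
  refine ⟨?_, hcl⟩
  haveI : Etale U.hom := U.prop
  haveI : LocallyQuasiFinite U.hom := locallyQuasiFinite_of_etale' U.hom
  haveI : IsLocallyNoetherian U.left :=
    @LocallyOfFiniteType.isLocallyNoetherian U.left X U.hom inferInstance ‹_›
  haveI : IsNoetherian U.left := {}
  exact finite_of_isClosed_of_points_closed _ (h1 U σ)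
    (fun s hs => isClosed_singleton_of_lqf U.hom s (hcl s hs))

/-- index: finite sets of closed points -/
abbrev CP (X : Scheme.{u}) : Type u := Finset {x : X // IsClosed ({x} : Set X)}

/-- the closed subset attached to a finite set of closed points -/
def closedOf (Z : CP X) : Closeds X :=
  ⟨⋃ x ∈ Z, {x.1}, Set.Finite.isClosed_biUnion Z.finite_toSet (fun x _ => x.2)⟩

lemma mem_closedOf (Z : CP X) (y : X) : y ∈ closedOf Z ↔ ∃ x ∈ Z, y = x.1 := by
  change y ∈ ⋃ x ∈ Z, {x.1} ↔ _
  simp

/-- its open complement -/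
def openOf (Z : CP X) : X.Opens := (closedOf Z).compl

lemma mem_openOf (Z : CP X) (y : X) : y ∈ openOf Z ↔ ¬ ∃ x ∈ Z, y = x.1 := by
  rw [← mem_closedOf]
  rfl

lemma openOf_anti {Z Z' : CP X} (h : Z ≤ Z') : openOf Z' ≤ openOf Z := by
  intro y hy
  rw [mem_openOf] at hy ⊢
  rintro ⟨x, hx, rfl⟩
  exact hy ⟨x, h hx, rfl⟩

/-- the system of subsheaves -/
noncomputable def Dsys (F : EtCoh.Ab X) : CP X ⥤ EtCoh.Ab X where
  obj Z := Fsupp (openOf Z) F
  map h := FsuppLE (openOf_anti (leOfHom h)) F
  map_id _ := FsuppLE_refl _ F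
  map_comp _ _ := (FsuppLE_trans _ _ F).symm

/-- the cocone to `F` -/
noncomputable def Dcocone (F : EtCoh.Ab X) : Cocone (Dsys F) where
  pt := F
  ι := { app := fun Z => Fι (openOf Z) F
         naturality := by
          intro Z Z' h
          change FsuppLE (openOf_anti (leOfHom h)) F ≫ Fι _ F = Fι _ F ≫ 𝟙 F
          rw [FsuppLE_ι, Category.comp_id] }

instance (J : Type u) [SmallCategory J] [IsFiltered J] :
    HasExactColimitsOfShape J (EtCoh.Ab X) := by
  haveI : HasFilteredColimitsOfSize.{u,u} (EtCoh.Ab X) :=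
    hasFilteredColimitsOfSize_of_univLE.{u,u,u+1,u+1}
  haveI := AB5OfSize_of_univLE.{u,u,u+1,u+1,u+1,u+2} (EtCoh.Ab X)
  infer_instance

attribute [local instance] IsFiltered.isConnected in
lemma mono_desc (F : EtCoh.Ab X) : Mono (colimit.desc (Dsys F) (Dcocone F)) := by
  let α : Dsys F ⟶ (Functor.const _).obj F :=
    { app := fun Z => Fι (openOf Z) F
      naturality := (Dcocone F).ι.naturality }
  haveI : ∀ Z, Mono (α.app Z) := fun Z => by change Mono (Fι _ F); infer_instance
  haveI := NatTrans.mono_of_mono_app α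
  exact colim.map_mono' α (colimit.isColimit _) (isColimitConstCocone (CP X) F)
    (colimit.desc (Dsys F) (Dcocone F)) (fun Z =>
      (colimit.ι_desc (Dcocone F) Z).trans (Category.comp_id (Fι (openOf Z) F)).symm)

open H9FE.LimNull in
lemma epi_desc [IsLocallyNoetherian X] (F : EtCoh.Ab X)
    (hF : ∀ x ∈ EtPBC.supp F, IsClosed ({x} : Set X)) :
    Epi (colimit.desc (Dsys F) (Dcocone F)) := by
  classical
  apply Abelian.epi_of_cokernel_π_eq_zero
  apply hom_eq_zero_of_affine
  intro W hW s
  haveI : CompactSpace W.left := inferInstance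
  obtain ⟨hfin, hcl⟩ := sectSupp_finite F hF W s
  let Z0 : Finset X := (hfin.image W.hom).toFinset
  let Z : CP X := Z0.subtype (fun x => IsClosed ({x} : Set X))
  have hav : ∀ u ∈ EtShriek.sectSupp F W s, W.hom u ∉ openOf Z := by
    intro u hu
    rw [mem_openOf, not_not]
    refine ⟨⟨W.hom u, hcl u hu⟩, ?_, rfl⟩
    rw [Finset.mem_subtype]
    change W.hom u ∈ Z0
    rw [Set.Finite.mem_toFinset]
    exact ⟨u, hu, rfl⟩
  obtain ⟨y, hy⟩ := exists_Fι_eq_of_avoid (openOf Z) F W s hav
  have e1 : colimit.ι (Dsys F) Z ≫ colimit.desc (Dsys F) (Dcocone F) = Fι (openOf Z) F :=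
    colimit.ι_desc _ _
  have e2 : (colimit.ι (Dsys F) Z ≫ colimit.desc (Dsys F) (Dcocone F)) ≫
      cokernel.π (colimit.desc (Dsys F) (Dcocone F)) = 0 := by
    rw [Category.assoc, cokernel.condition, comp_zero]
  rw [e1] at e2
  have e3 := congrArg (fun t => t.hom.app (op W)) e2
  have e4 := ConcreteCategory.congr_hom e3 y
  rw [← hy]
  exact e4

/-- the colimit presentation -/
noncomputable def isColimitDcocone [IsLocallyNoetherian X] (F : EtCoh.Ab X)
    (hF : ∀ x ∈ EtPBC.supp F, IsClosed ({x} : Set X)) : IsColimit (Dcocone F) := by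
  haveI := mono_desc F
  haveI := epi_desc F hF
  haveI : IsIso ((colimit.isColimit (Dsys F)).desc (Dcocone F)) :=
    (isIso_of_mono_of_epi (colimit.desc (Dsys F) (Dcocone F)) : _)
  exact IsColimit.ofPointIso (colimit.isColimit (Dsys F))

end H9FE.SuppSh
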