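import Mathlib
import Groth.Agent.Lib.Helper9.FE.SuppSh2
import Groth.Agent.S0099
import Groth.Agent.S14451
import Groth.Agent.S0071
import Groth.Agent.S0088
import Groth.Agent.S0068
import Groth.Agent.S0101

/-! helper9: étale cohomology of abelian sheaves supported in closed points of a scheme of finite
type over a separably closed field vanishes in positive degrees (`vanish_closed_supp`); on a curve,
sheaves with vanishing stalks at the maximal points have no higher cohomology (`vanish_curve`). -/

set_option autoImplicit false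
set_option linter.unusedSectionVars false
set_option linter.style.haveILetI false
set_option linter.unusedTactic false
set_option backward.isDefEq.respectTransparency false
universe u
open CategoryTheory CategoryTheory.Limits AlgebraicGeometry Opposite TopologicalSpace

namespace H9FE.SuppSh


/-- colimit of zero objects is zero. -/
lemma isZero_of_isColimit {J : Type*} [Category J] {C : Type*} [Category C] [HasZeroMorphisms C]
    {G : J ⥤ C} (c : Cocone G) (hc : IsColimit c) (h : ∀ j, IsZero (G.obj j)) : IsZero c.pt := by
  rw [IsZero.iff_id_eq_zero]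
  apply hc.hom_ext
  intro j
  exact (h j).eq_of_src _ _

/-- residue fields at closed points of schemes locally of finite type over a separably closed
field are separably closed -/
theorem residue_sepClosed {K : Type u} [Field K] [IsSepClosed K] (Y : Scheme.{u})
    (a : Y ⟶ Spec (CommRingCat.of K)) [LocallyOfFiniteType a] (y : Y)
    (hy : IsClosed ({y} : Set Y)) : IsSepClosed (Y.residueField y) := by
  have hfin : IsFinite (Y.fromSpecResidueField y ≫ a) := by
    rw [isClosed_singleton_iff_isClosedImmersion] at hy
    rw [isFinite_iff_locallyOfFiniteType_of_jacobsonSpace]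
    infer_instance
  let φ : CommRingCat.of K ⟶ Y.residueField y := Spec.preimage (Y.fromSpecResidueField y ≫ a)
  have hφ : IsFinite (Spec.map φ) := by rw [Spec.map_preimage]; exact hfin
  rw [IsFinite.SpecMap_iff] at hφ
  algebraize [φ.hom]
  haveI : Module.Finite K (Y.residueField y) := hφ
  exact Algebra.IsAlgebraic.isSepClosed (F := K) (E := Y.residueField y)

/-- cohomology of the closed subscheme on a finite set of closed points vanishes -/
theorem H_finite_closed {K : Type u} [Field K] [IsSepClosed K] (X : Scheme.{u})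
    (a : X ⟶ Spec (CommRingCat.of K)) [LocallyOfFiniteType a] (Z : CP X)
    (I : X.IdealSheafData) (hsupp : (I.support : Set X) = (closedOf Z : Set X))
    (G : EtCoh.Ab I.subscheme) (q : ℕ) (hq : 1 ≤ q) :
    Subsingleton (EtCoh.H I.subscheme G q) := by
  let i := I.subschemeι
  have hrange : Set.range i = (closedOf Z : Set X) := by
    rw [Scheme.IdealSheafData.range_subschemeι, hsupp]
  have hinj : Function.Injective i := i.isClosedEmbedding.injective
  have hTfin : (closedOf Z : Set X).Finite := by
    change (⋃ x ∈ Z, {x.1} : Set X).Finite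
    exact Set.Finite.biUnion Z.finite_toSet (fun _ _ => Set.finite_singleton _)
  haveI : Finite I.subscheme := by
    haveI : Finite ↥(closedOf Z : Set X) := hTfin.to_subtype
    refine Finite.of_injective (fun s => (⟨i s, by rw [← hrange]; exact ⟨s, rfl⟩⟩ : ↥(closedOf Z : Set X))) ?_
    intro s t hst
    simp only [Subtype.mk.injEq] at hst
    exact hinj hst
  have hcl : ∀ s : I.subscheme, IsClosed ({s} : Set I.subscheme) := by
    intro s
    have h1 : i s ∈ closedOf Z := by
      change i s ∈ (closedOf Z : Set X)
      rw [← hrange]; exact ⟨s, rfl⟩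
    rw [mem_closedOf] at h1
    obtain ⟨x, -, hx⟩ := h1
    have h2 : IsClosed ({i s} : Set X) := by rw [hx]; exact x.2
    have h3 : i ⁻¹' {i s} = {s} := by
      rw [← Set.image_singleton, hinj.preimage_image]
    rw [← h3]
    exact h2.preimage i.continuous
  haveI : T1Space I.subscheme := ⟨hcl⟩
  haveI : DiscreteTopology I.subscheme := inferInstance
  haveI : IsAffine I.subscheme := inferInstance
  exact Groth.Agent.S0088.result I.subscheme hcl
    (fun s => residue_sepClosed I.subscheme (i ≫ a) s (hcl s)) G q hq


instance HF_additive (X : Scheme.{u}) (n : ℕ) : (EtCoh.HF X n).Additive := by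
  unfold EtCoh.HF; infer_instance

/-- cohomology of the sheaf of sections supported in a finite set of closed points vanishes -/
theorem stage_zero {K : Type u} [Field K] [IsSepClosed K] (X : Scheme.{u})
    (a : X ⟶ Spec (CommRingCat.of K)) [LocallyOfFiniteType a] (F : EtCoh.Ab X) (Z : CP X)
    (q : ℕ) (hq : 1 ≤ q) : IsZero ((EtCoh.HF X q).obj (Fsupp (openOf Z) F)) := by
  let I := Scheme.IdealSheafData.vanishingIdeal (closedOf Z)
  have hsupp : (I.support : Set X) = (closedOf Z : Set X) :=
    Scheme.IdealSheafData.coe_support_vanishingIdeal _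
  let i := I.subschemeι
  have hrange : Set.range i = (closedOf Z : Set X) := by
    rw [Scheme.IdealSheafData.range_subschemeι, hsupp]
  have hess : (EtCoh.push i).essImage (Fsupp (openOf Z) F) := by
    rw [Groth.Agent.S0068.result i (Fsupp (openOf Z) F)]
    intro U hU
    apply Fsupp_isZero_of_subset
    intro x hx
    change x ∈ ((closedOf Z : Set X))ᶜ
    intro hxZ
    rw [← hrange] at hxZ
    exact Set.disjoint_left.mp hU hx hxZ
  let G := hess.witness
  have e : (EtCoh.push i).obj G ≅ Fsupp (openOf Z) F := hess.getIso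
  haveI : PreservesFiniteLimits (EtCoh.pull i) := Groth.Agent.S0101.result _
  have hb := Groth.Agent.S14451.result i G
    (fun p hp => Groth.Agent.S0071.result i G p hp) q
  haveI := H_finite_closed X a Z I hsupp G q hq
  have hs : Subsingleton (EtCoh.H X ((EtCoh.push i).obj G) q) := hb.injective.subsingleton
  have hz : IsZero ((EtCoh.HF X q).obj ((EtCoh.push i).obj G)) :=
    @AddCommGrpCat.isZero_of_subsingleton _ hs
  exact IsZero.of_iso hz ((EtCoh.HF X q).mapIso e.symm)

theorem vanish_closed_supp {K : Type u} [Field K] [IsSepClosed K] (X : Scheme.{u})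
    (a : X ⟶ Spec (CommRingCat.of K)) [LocallyOfFiniteType a] [QuasiCompact a]
    (F : EtCoh.Ab X) (hF : ∀ x ∈ EtPBC.supp F, IsClosed ({x} : Set X)) (q : ℕ) (hq : 0 < q) :
    Subsingleton (EtCoh.H X F q) := by
  haveI : CompactSpace X := (quasiCompact_iff_compactSpace (f := a)).mp inferInstance
  haveI : IsLocallyNoetherian X := LocallyOfFiniteType.isLocallyNoetherian a
  haveI : QuasiSeparatedSpace X := inferInstance
  haveI := Groth.Agent.S0099.result X q (CP X)
  have hc := isColimitOfPreserves (EtCoh.HF X q) (isColimitDcocone F hF)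
  have hz : IsZero ((EtCoh.HF X q).obj F) :=
    isZero_of_isColimit _ hc (fun Z => stage_zero X a F Z q hq)
  exact AddCommGrpCat.subsingleton_of_isZero hz



lemma closure_ssubset_of_specializes_ne {α : Type*} [TopologicalSpace α] [T0Space α] {x z : α}
    (h : x ⤳ z) (hne : z ≠ x) : closure ({z} : Set α) ⊂ closure {x} := by
  refine ⟨specializes_iff_closure_subset.mp h, fun hsub => hne ?_⟩
  have h' : z ⤳ x := specializes_iff_closure_subset.mpr hsub
  exact (h'.antisymm h).eq

lemma isClosed_singleton_of_dim_le_one {α : Type*} [TopologicalSpace α] [T0Space α]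
    (hdim : topologicalKrullDim α ≤ 1) (x y : α) (hyx : y ⤳ x) (hne : y ≠ x) :
    IsClosed ({x} : Set α) := by
  by_contra hx
  have h1 : ¬ closure ({x} : Set α) ⊆ {x} := fun hsub =>
    hx (closure_eq_iff_isClosed.mp (Set.Subset.antisymm hsub subset_closure))
  obtain ⟨z, hz, hzx⟩ := Set.not_subset.mp h1
  have hxz : x ⤳ z := specializes_iff_mem_closure.mpr hz
  have hzx' : z ≠ x := hzx
  let a0 : IrreducibleCloseds α := ⟨closure {z}, isIrreducible_singleton.closure, isClosed_closure⟩
  let a1 : IrreducibleCloseds α := ⟨closure {x}, isIrreducible_singleton.closure, isClosed_closure⟩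
  let a2 : IrreducibleCloseds α := ⟨closure {y}, isIrreducible_singleton.closure, isClosed_closure⟩
  have h01 : a0 < a1 := closure_ssubset_of_specializes_ne hxz hzx'
  have h12 : a1 < a2 := closure_ssubset_of_specializes_ne hyx hne.symm
  let s : LTSeries (IrreducibleCloseds α) := LTSeries.mk 2 ![a0, a1, a2] (by
    rw [Fin.strictMono_iff_lt_succ]
    intro i
    fin_cases i
    · exact h01
    · exact h12)
  have hs : (s.length : WithBot ℕ∞) ≤ topologicalKrullDim α := Order.LTSeries.length_le_krullDim s
  have h2 : s.length = 2 := rfl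
  rw [h2] at hs
  have h3 := hs.trans hdim
  norm_num at h3

/-- the support of a sheaf with vanishing stalks at maximal points of a curve consists of closed
points -/
theorem supp_closed (C : Scheme.{u}) (hdim : topologicalKrullDim C ≤ 1) (F : EtCoh.Ab C)
    (hgen : ∀ (Ω : Type u) [Field Ω] [IsSepClosed Ω] (ξ : Spec (CommRingCat.of Ω) ⟶ C),
      (∀ x ∈ Set.range ξ.base, ∀ y : C, y ⤳ x → y = x) → IsZero ((EtCoh.stalk ξ).obj F)) :
    ∀ x ∈ EtPBC.supp F, IsClosed ({x} : Set C) := by
  rintro x ⟨Ω, _, _, ξ, hξ, hnz⟩
  have h1 : ¬ (∀ x' ∈ Set.range ξ.base, ∀ y : C, y ⤳ x' → y = x') := fun h => hnz (hgen Ω ξ h)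
  push Not at h1
  obtain ⟨x', hx', y, hy, hne⟩ := h1
  have hx'x : x' = x := by
    have : x' ∈ Set.range ξ := hx'
    rw [hξ] at this
    exact this
  subst hx'x
  exact isClosed_singleton_of_dim_le_one hdim x' y hy hne

theorem vanish_curve (k : Type u) [Field k] [IsSepClosed k] (C : Scheme.{u})
    (f : C ⟶ Spec (CommRingCat.of k)) [LocallyOfFiniteType f] [QuasiCompact f]
    (hdim : topologicalKrullDim C ≤ 1) (F : EtCoh.Ab C)
    (hgen : ∀ (Ω : Type u) [Field Ω] [IsSepClosed Ω] (ξ : Spec (CommRingCat.of Ω) ⟶ C),
      (∀ x ∈ Set.range ξ.base, ∀ y : C, y ⤳ x → y = x) → IsZero ((EtCoh.stalk ξ).obj F))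
    (q : ℕ) (hq : 0 < q) : Subsingleton (EtCoh.H C F q) :=
  vanish_closed_supp C f F (supp_closed C hdim F hgen) q hq


end H9FE.SuppSh
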