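import Mathlib
import Groth.Prelude.Def_EtBase
import Groth.Agent.Lib.Helper5.Misc.EtStalk
import Groth.Agent.Lib.Helper5.Misc.PointDetect
import Groth.Agent.Lib.Helper5.Misc.EtStalkPull
import Groth.Agent.Lib.Helper9.FE.StalkUnit

/-! helper9: for a surjective morphism `π` the unit `F ⟶ π_* π⁻¹ F` is a monomorphism of abelian
étale sheaves (the germ of a section `s` at the image of a geometric point `ξ` of the source is
determined by the germ of the unit section `η(s)` at `ξ`). -/

set_option autoImplicit false
set_option linter.unusedSectionVars false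
set_option linter.style.haveILetI false
set_option backward.isDefEq.respectTransparency false
universe u
open CategoryTheory CategoryTheory.Limits AlgebraicGeometry Opposite

namespace H9FE.SurjUnit
open Groth.Agent.Lib.Helper5 Groth.Agent.Lib.Helper5.EtStalkPull

attribute [local instance] EtStalk.ab5' EtStalk.pfc

theorem mono_unit_of_surjective {T' T : Scheme.{u}} (π : T' ⟶ T) [Surjective π]
    (F : EtCoh.Ab T) : Mono ((EtCoh.pullPushAdj π).unit.app F) := by
  rw [EtStalk.mono_iff_ab]
  intro U s t hst
  let P : EtStalk.GeomPt T' → EtStalk.GeomPt T := fun g => { Ω := g.Ω, ξ := g.ξ ≫ π }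
  have hcov : ∀ x : T, ∃ g, (P g).ξ (default : Spec (CommRingCat.of (P g).Ω)) = x := by
    intro x
    obtain ⟨x', hx'⟩ := π.surjective x
    refine ⟨EtStalk.geomPtAt x', ?_⟩
    show ((EtStalk.geomPtAt x').ξ ≫ π) _ = x
    rw [Scheme.Hom.comp_apply, EtStalk.geomPtAt_default, hx']
  apply PointDetect.eq_of_germs_sheaf (EtStalk.detects_of_cover P hcov) F
  intro g x
  have h1 := H9FE.StalkUnit.germ_unit_hom π g.ξ F U ((fiberIso π g.ξ).inv.app U x)
  have hx : (fiberIso π g.ξ).hom.app U ((fiberIso π g.ξ).inv.app U x) = x := by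
    simp
  rw [hx] at h1
  have e1 := ConcreteCategory.congr_hom h1 s
  have e2 := ConcreteCategory.congr_hom h1 t
  simp only [ConcreteCategory.comp_apply] at e1 e2
  rw [hst] at e1
  exact e1.symm.trans e2

end H9FE.SurjUnit
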