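import Mathlib
import Groth.Prelude.Def_CohCx
import Groth.Prelude.Def_ToposFin2
import Groth.Agent.Lib.Helper3.TCech
import Groth.Agent.Lib.Helper3.AcyRes
import Groth.Agent.Lib.Helper5.TFin.Filt
import Groth.Agent.Lib.Helper9.FE.ExtFilteredColim

/-! helper9: cohomology `Ext^q(ℤ[K], -)` of objects `K` of a topos of sheaves on a small site
commutes with filtered colimits, for `K` in an "admissible" class `𝒮` of objects of finite
presentation: every epimorphism onto a member of `𝒮` is refined by a member of `𝒮`, and the terms of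
the Čech nerves of morphisms between members of `𝒮` are in `𝒮`.  The proof is the Čech argument:
filtered colimits of injectives are Čech-acyclic for `𝒮`-coverings, the class of `𝒮`-Čech-acyclic
sheaves is adapted for dimension shifting, and `ExtFilteredColim.hsurj_hinj` concludes. -/

set_option autoImplicit false
set_option linter.unusedSectionVars false
set_option linter.style.haveILetI false
set_option backward.isDefEq.respectTransparency false
universe u
open CategoryTheory CategoryTheory.Limits Opposite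

namespace H9FE.TfColim

open Groth.Agent.Helper3 Groth.Agent.Helper3.CechAcy Groth.Agent.Helper3.TCech
  H9FE.ExtFilteredColim

variable {C : Type u} [SmallCategory C] {J : GrothendieckTopology C}

variable (J) in
/-- the forgetful functor from abelian sheaves to sheaves of sets -/
noncomputable abbrev UU : Sheaf J AddCommGrpCat.{u} ⥤ Sheaf J (Type u) :=
  sheafCompose J (forget AddCommGrpCat.{u})

variable (C) in
/-- the forgetful functor on presheaves -/
noncomputable abbrev WW : (Cᵒᵖ ⥤ AddCommGrpCat.{u}) ⥤ (Cᵒᵖ ⥤ Type u) :=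
  (Functor.whiskeringRight Cᵒᵖ AddCommGrpCat.{u} (Type u)).obj (forget AddCommGrpCat.{u})

section H0

variable {Λ : Type u} [SmallCategory Λ] [IsFiltered Λ]

/-- the forgetful functor from abelian sheaves to sheaves of sets commutes with filtered
colimits -/
theorem presU (D : Λ ⥤ Sheaf J AddCommGrpCat.{u}) : PreservesColimit D (UU J) := by
  let E := colimit.cocone (D ⋙ sheafToPresheaf J AddCommGrpCat.{u})
  have hE : IsColimit E := colimit.isColimit _
  let c := Sheaf.sheafifyCocone E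
  have hc : IsColimit c := Sheaf.isColimitSheafifyCocone E hE
  let E' : Cocone ((D ⋙ UU J) ⋙ sheafToPresheaf J (Type u)) := (WW C).mapCocone E
  have hE' : IsColimit E' := isColimitOfPreserves (WW C) hE
  let c' := Sheaf.sheafifyCocone E'
  have hc' : IsColimit c' := Sheaf.isColimitSheafifyCocone E' hE'
  refine preservesColimit_of_preserves_colimit_cocone hc ?_
  let e : c'.pt ≅ (UU J).obj c.pt :=
    (sheafComposeNatIso J (forget AddCommGrpCat.{u}) (sheafificationAdjunction J AddCommGrpCat.{u})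
      (sheafificationAdjunction J (Type u))).app E.pt
  refine IsColimit.ofIsoColimit hc' (Cocone.ext e ?_)
  intro j
  apply Sheaf.hom_ext
  have h1 : (c'.ι.app j).hom = E'.ι.app j ≫ toSheafify J E'.pt :=
    Sheaf.sheafifyCocone_ι_app_val E' j
  have h2 : (c.ι.app j).hom = E.ι.app j ≫ toSheafify J E.pt := Sheaf.sheafifyCocone_ι_app_val E j
  have h3 : toSheafify J (E.pt ⋙ forget AddCommGrpCat.{u}) ≫ e.hom.hom =
      Functor.whiskerRight (toSheafify J E.pt) (forget AddCommGrpCat.{u}) :=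
    sheafComposeIso_hom_fac J (forget AddCommGrpCat.{u}) E.pt
  show (c'.ι.app j).hom ≫ e.hom.hom =
    Functor.whiskerRight (c.ι.app j).hom (forget AddCommGrpCat.{u})
  rw [h1, h2]
  refine (Category.assoc (E'.ι.app j) (toSheafify J E'.pt) e.hom.hom).trans ?_
  refine (congrArg (fun m => E'.ι.app j ≫ m) h3).trans ?_
  exact (Functor.whiskerRight_comp (E.ι.app j) (toSheafify J E.pt)
    (forget AddCommGrpCat.{u})).symm

/-- `Hom(ℤ[T], -)` commutes with the filtered colimit of `D`, in elementary terms -/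
structure H0 (T : Sheaf J (Type u)) (D : Λ ⥤ Sheaf J AddCommGrpCat.{u}) : Prop where
  surj : ∀ x : L.obj T ⟶ colimit D, ∃ (j : Λ) (y : L.obj T ⟶ D.obj j), y ≫ colimit.ι D j = x
  inj : ∀ (j : Λ) (y : L.obj T ⟶ D.obj j), y ≫ colimit.ι D j = 0 →
    ∃ (k : Λ) (f : j ⟶ k), y ≫ D.map f = 0

/-- objects of finite presentation of the topos satisfy `H0` -/
theorem h0_of_fp {T : Sheaf J (Type u)} (hI : Helper5.TFin.HInj T) (hS : Helper5.TFin.HSurj T)
    (D : Λ ⥤ Sheaf J AddCommGrpCat.{u}) : H0 T D := by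
  haveI := presU D
  let e : (UU J).obj (colimit D) ≅ colimit (D ⋙ UU J) := preservesColimitIso (UU J) D
  have he1 : ∀ j, colimit.ι (D ⋙ UU J) j ≫ e.inv = (UU J).map (colimit.ι D j) :=
    fun j => ι_preservesColimitIso_inv (UU J) D j
  have he2 : ∀ j, (UU J).map (colimit.ι D j) ≫ e.hom = colimit.ι (D ⋙ UU J) j :=
    fun j => ι_preservesColimitIso_hom (UU J) D j
  refine ⟨?_, ?_⟩
  · intro x
    obtain ⟨j, g, hg⟩ := hS Λ (D ⋙ UU J) ((adjF.homEquiv T (colimit D)) x ≫ e.hom)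
    refine ⟨j, (adjF.homEquiv T (D.obj j)).symm g, ?_⟩
    apply (adjF.homEquiv T (colimit D)).injective
    rw [Adjunction.homEquiv_naturality_right, Equiv.apply_symm_apply]
    refine (congrArg (fun m => g ≫ m) (he1 j).symm).trans ?_
    refine (Category.assoc _ _ _).symm.trans ?_
    refine (congrArg (fun m => m ≫ e.inv) hg).trans ?_
    rw [Category.assoc, e.hom_inv_id, Category.comp_id]
  · intro j y hy
    have key : ∀ z : L.obj T ⟶ D.obj j,
        (adjF.homEquiv T (D.obj j)) z ≫ colimit.ι (D ⋙ UU J) j =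
          (adjF.homEquiv T (colimit D)) (z ≫ colimit.ι D j) ≫ e.hom := by
      intro z
      rw [Adjunction.homEquiv_naturality_right, Category.assoc]
      exact (congrArg (fun m => (adjF.homEquiv T (D.obj j)) z ≫ m) (he2 j)).symm
    have h1 : (adjF.homEquiv T (D.obj j)) y ≫ colimit.ι (D ⋙ UU J) j =
        (adjF.homEquiv T (D.obj j)) 0 ≫ colimit.ι (D ⋙ UU J) j := by
      rw [key, key, hy, zero_comp]
    obtain ⟨k, f, hf⟩ := hI Λ (D ⋙ UU J) j _ _ h1
    refine ⟨k, f, ?_⟩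
    have h2 : (adjF.homEquiv T (D.obj k)) (y ≫ D.map f) =
        (adjF.homEquiv T (D.obj k)) (0 ≫ D.map f) := by
      rw [Adjunction.homEquiv_naturality_right, Adjunction.homEquiv_naturality_right]
      exact hf
    have h3 := (adjF.homEquiv T (D.obj k)).injective h2
    rw [h3, zero_comp]

/-- `H0` gives the degree zero case of `HSurj` and `HInj` -/
theorem hs_hi_zero (T : Sheaf J (Type u)) (D : Λ ⥤ Sheaf J AddCommGrpCat.{u}) (h : H0 T D) :
    HSurj.{u} (L.obj T) D 0 ∧ HInj.{u} (L.obj T) D 0 := by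
  refine ⟨?_, ?_⟩
  · intro x
    obtain ⟨φ, rfl⟩ := (Abelian.Ext.mk₀_bijective _ _).2 x
    obtain ⟨j, y, hy⟩ := h.surj φ
    refine ⟨j, Abelian.Ext.mk₀ y, ?_⟩
    unfold push
    rw [Abelian.Ext.mk₀_comp_mk₀, hy]
  · intro j y hy
    obtain ⟨φ, rfl⟩ := (Abelian.Ext.mk₀_bijective _ _).2 y
    have h1 : Abelian.Ext.mk₀ (φ ≫ colimit.ι D j) = 0 := by
      rw [← Abelian.Ext.mk₀_comp_mk₀]
      exact hy
    have h2 : φ ≫ colimit.ι D j = 0 :=
      (Abelian.Ext.mk₀_bijective _ _).1 (h1.trans (Abelian.Ext.mk₀_zero _ _).symm)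
    obtain ⟨k, f, hf⟩ := h.inj j φ h2
    refine ⟨k, f, ?_⟩
    unfold push
    rw [Abelian.Ext.mk₀_comp_mk₀, hf, Abelian.Ext.mk₀_zero]

end H0

section Nerve

variable {K' K : Sheaf J (Type u)} (f : K' ⟶ K)

/-- the terms of the Čech nerve of a morphism of sheaves of sets -/
noncomputable abbrev nerve (n : ℕ) : Sheaf J (Type u) :=
  (Arrow.mk f).cechNerve.obj (op (SimplexCategory.mk n))

end Nerve

/-- admissible classes of objects -/
structure Adm (𝒮 : Set (Sheaf J (Type u))) : Prop where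
  refn : ∀ (K G : Sheaf J (Type u)) (g : G ⟶ K), K ∈ 𝒮 → Epi g →
    ∃ (K' : Sheaf J (Type u)) (k : K' ⟶ G), K' ∈ 𝒮 ∧ Epi (k ≫ g)
  nrv : ∀ (K' K : Sheaf J (Type u)) (f : K' ⟶ K), K' ∈ 𝒮 → K ∈ 𝒮 → Epi f →
    ∀ n : ℕ, nerve f n ∈ 𝒮

/-- Čech-acyclicity for coverings in the class `𝒮` -/
def PcS (𝒮 : Set (Sheaf J (Type u))) (M : Sheaf J AddCommGrpCat.{u}) : Prop :=
  ∀ (K' K : Sheaf J (Type u)) (f : K' ⟶ K), K' ∈ 𝒮 → K ∈ 𝒮 → Epi f →
    ∀ m : ℕ, CExact (PP f) M m

variable {𝒮 : Set (Sheaf J (Type u))}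

/-- sections of the quotient over members of `𝒮` lift when the first `𝒮`-Čech cohomology of the
kernel vanishes -/
theorem exists_liftS (h𝒮 : Adm 𝒮) (S : ShortComplex (Sheaf J AddCommGrpCat.{u}))
    (hS : S.ShortExact)
    (h1 : ∀ (K' K : Sheaf J (Type u)) (f : K' ⟶ K), K' ∈ 𝒮 → K ∈ 𝒮 → Epi f →
      CExact (PP f) S.X₁ 0)
    (K : Sheaf J (Type u)) (hK : K ∈ 𝒮) (ψ : L.obj K ⟶ S.X₃) :
    ∃ ψ' : L.obj K ⟶ S.X₂, ψ' ≫ S.g = ψ := by
  let s : K ⟶ (sheafCompose J (forget AddCommGrpCat.{u})).obj S.X₃ := adjF.homEquiv K S.X₃ ψ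
  let g' := (sheafCompose J (forget AddCommGrpCat.{u})).map S.g
  have := hS.epi_g
  have hls0 : Sheaf.IsLocallySurjective S.g :=
    (Sheaf.isLocallySurjective_iff_epi' (φ := S.g)).2 inferInstance
  have hls : Presheaf.IsLocallySurjective J g'.hom :=
    inferInstanceAs (Sheaf.IsLocallySurjective
      ((sheafCompose J (forget AddCommGrpCat.{u})).map S.g))
  have hfst : Epi (ShPb.fst s g') := ShPb.epi_fst s g'
  obtain ⟨K', k, hK', hkf⟩ := h𝒮.refn K (ShPb.pb s g') (ShPb.fst s g') hK hfst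
  let f : K' ⟶ K := k ≫ ShPb.fst s g'
  have hf : Epi f := hkf
  have hqi := NerveRes.quasiIso_sheaf J f
  let N₀ := (Arrow.mk f).cechNerve.obj (op (SimplexCategory.mk 0))
  let π₀ : N₀ ⟶ K' := WidePullback.π (fun _ : Fin (0 + 1) => (Arrow.mk f).hom) 0
  let base : N₀ ⟶ K := WidePullback.base (fun _ : Fin (0 + 1) => (Arrow.mk f).hom)
  have hπb : π₀ ≫ f = base := WidePullback.π_arrow _ _
  let t₀ : (PP f).X 0 ⟶ S.X₂ := (adjF.homEquiv N₀ S.X₂).symm (π₀ ≫ k ≫ ShPb.snd s g')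
  refine @lift_of_cexact _ _ _ (PP f) (L.obj K)
    (AlgebraicTopology.AlternatingFaceMapComplex.ε.app (NerveRes.Xs J f)) hqi S hS
    (h1 _ _ f hK' hK hf) ψ t₀ ?_
  have e1 : t₀ ≫ S.g = (adjF.homEquiv N₀ S.X₃).symm ((π₀ ≫ k ≫ ShPb.snd s g') ≫ g') :=
    (adjF.homEquiv_naturality_right_symm _ _).symm
  have e2 : (π₀ ≫ k ≫ ShPb.snd s g') ≫ g' = base ≫ s := by
    have c := ShPb.cond s g'
    calc (π₀ ≫ k ≫ ShPb.snd s g') ≫ g' = π₀ ≫ k ≫ (ShPb.snd s g' ≫ g') := by
          simp only [Category.assoc]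
      _ = π₀ ≫ k ≫ (ShPb.fst s g' ≫ s) := by rw [c]
      _ = (π₀ ≫ (k ≫ ShPb.fst s g')) ≫ s := by simp only [Category.assoc]
      _ = base ≫ s := by rw [show π₀ ≫ (k ≫ ShPb.fst s g') = base from hπb]
  have e3 : (adjF.homEquiv N₀ S.X₃).symm (base ≫ s) =
      L.map base ≫ (adjF.homEquiv K S.X₃).symm s :=
    adjF.homEquiv_naturality_left_symm _ _
  rw [e1, e2, e3, Equiv.symm_apply_apply]
  rfl

/-- `𝒮`-Čech-acyclic sheaves are `Ext(ℤ[K], -)`-acyclic for `K` in `𝒮` -/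
theorem ext_eq_zero_of_pcS (h𝒮 : Adm 𝒮) (K : Sheaf J (Type u)) (hK : K ∈ 𝒮) (n : ℕ)
    (M : Sheaf J AddCommGrpCat.{u}) (hM : PcS 𝒮 M)
    (x : Abelian.Ext.{u} (L.obj K) M (n + 1)) : x = 0 := by
  refine AcyClass.ext_eq_zero (L.obj K) (PcS (J := J) 𝒮) ?_ n M hM x
  intro S hS h1 h2
  have hlift := exists_liftS h𝒮 S hS (fun K' K f hK' hK hf => h1 K' K f hK' hK hf 0)
  refine ⟨?_, hlift K hK⟩
  intro K' K₁ f hK' hK₁ hf m
  haveI := h2
  refine cexact_of_ses (PP f) S hS m ?_ (h1 K' K₁ f hK' hK₁ hf (m + 1))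
    (pc_of_injective S.X₂ K' K₁ f hf m)
  intro x₃
  exact hlift (nerve f (m + 1)) (h𝒮.nrv K' K₁ f hK' hK₁ hf (m + 1)) x₃

section Colim

variable {Λ : Type u} [SmallCategory Λ] [IsFiltered Λ]

/-- a filtered colimit of injective sheaves is `𝒮`-Čech-acyclic when the members of `𝒮` satisfy
`H0` -/
theorem pcS_colimit (h𝒮 : Adm 𝒮) (I : Λ ⥤ Sheaf J AddCommGrpCat.{u})
    (hI : ∀ j, Injective (I.obj j)) (h0 : ∀ T ∈ 𝒮, H0 T I) : PcS 𝒮 (colimit I) := by
  intro K' K f hK' hK hf m x hx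
  obtain ⟨j, xj, hxj⟩ := (h0 (nerve f (m + 1)) (h𝒮.nrv K' K f hK' hK hf (m + 1))).surj x
  have hd : ((PP f).d (m + 2) (m + 1) ≫ xj) ≫ colimit.ι I j = 0 := by
    rw [Category.assoc]
    exact (congrArg (fun t => (PP f).d (m + 2) (m + 1) ≫ t) hxj).trans hx
  obtain ⟨k, g, hg⟩ := (h0 (nerve f (m + 2)) (h𝒮.nrv K' K f hK' hK hf (m + 2))).inj j
    ((PP f).d (m + 2) (m + 1) ≫ xj) hd
  haveI := hI k
  obtain ⟨yk, hyk⟩ := pc_of_injective (I.obj k) K' K f hf m (xj ≫ I.map g) (by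
    rw [← Category.assoc]
    exact hg)
  refine ⟨yk ≫ colimit.ι I k, ?_⟩
  rw [← Category.assoc, hyk, Category.assoc, colimit.w]
  exact hxj

/-- `Ext^n(ℤ[K], -)` commutes with filtered colimits for `K` in an admissible class of objects of
finite presentation, in elementary terms -/
theorem hsurj_hinj_S (h𝒮 : Adm 𝒮)
    (hfp : ∀ T ∈ 𝒮, Helper5.TFin.HInj T ∧ Helper5.TFin.HSurj T)
    (K : Sheaf J (Type u)) (hK : K ∈ 𝒮) (n : ℕ) (D : Λ ⥤ Sheaf J AddCommGrpCat.{u}) :
    HSurj.{u} (L.obj K) D n ∧ HInj.{u} (L.obj K) D n := by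
  refine hsurj_hinj (fun D => hs_hi_zero K D (h0_of_fp (hfp K hK).1 (hfp K hK).2 D)) ?_ n D
  intro I hI n x
  exact ext_eq_zero_of_pcS h𝒮 K hK n (colimit I)
    (pcS_colimit h𝒮 I hI (fun T hT => h0_of_fp (hfp T hT).1 (hfp T hT).2 I)) x

/-- `Ext^q(ℤ[K], -)` preserves filtered colimits for `K` in an admissible class of objects of
finite presentation -/
theorem preserves_HK (h𝒮 : Adm 𝒮)
    (hfp : ∀ T ∈ 𝒮, Helper5.TFin.HInj T ∧ Helper5.TFin.HSurj T)
    (K : Sheaf J (Type u)) (hK : K ∈ 𝒮) (q : ℕ) :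
    PreservesColimitsOfShape Λ ((Abelian.extFunctor.{u} q).obj (op (L.obj K))) := by
  constructor
  intro D
  apply preservesColimit_of_preserves_colimit_cocone (colimit.isColimit D)
  haveI : ReflectsColimitsOfShape Λ (forget AddCommGrpCat.{u}) :=
    reflectsColimitsOfShape_of_reflectsIsomorphisms
  apply isColimitOfReflects (forget AddCommGrpCat.{u})
  obtain ⟨hs, hi⟩ := hsurj_hinj_S h𝒮 hfp K hK q D
  apply Types.FilteredColimit.isColimitOf'
  · intro x
    obtain ⟨j, y, hy⟩ := hs x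
    exact ⟨j, y, hy.symm⟩
  · intro i x y hxy
    have hxy' : push (colimit.ι D i) (x : Abelian.Ext.{u} (L.obj K) (D.obj i) q) =
      push (colimit.ι D i) (y : Abelian.Ext.{u} (L.obj K) (D.obj i) q) := hxy
    have h0 : push (colimit.ι D i) ((x : Abelian.Ext.{u} (L.obj K) (D.obj i) q) - y) = 0 := by
      rw [push_sub, hxy', sub_self]
    obtain ⟨k, f, hf⟩ := hi i _ h0
    refine ⟨k, f, ?_⟩
    rw [push_sub, sub_eq_zero] at hf
    exact hf

end Colim

end H9FE.TfColim
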