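import Mathlib
import Groth.Agent.Lib.Helper9.FE.TfColim
import Groth.Agent.Lib.Helper5.TFin.Alg
import Groth.Agent.Lib.Helper5.TFin.FP
import Groth.Agent.Lib.Helper5.TFin.Pb2
import Groth.Agent.Lib.Helper5.TFin.Pull
import Groth.Agent.S5585

/-! helper9: in an algebraic topos the coherent objects form an admissible class (in the sense of
`TfColim.Adm`) of objects of finite presentation; hence `H^q(K, -)` commutes with filtered
colimits for `K` coherent. -/

set_option autoImplicit false
set_option linter.unusedSectionVars false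
set_option linter.style.haveILetI false
set_option backward.isDefEq.respectTransparency false
universe u
open CategoryTheory CategoryTheory.Limits Opposite

namespace H9FE.TfCoh

open Groth.Agent.Helper3 Helper5.TFin H9FE.TfColim
open ToposFin (Sh IsQC IsQS IsCohHom IsCoherent IsGenerating ClosedUnderPullbacks
  ClosedUnderEqualizers IsAlgebraic HasQCGenerators)

variable {C : Type u} [SmallCategory C] {J : GrothendieckTopology C}

section Nerve

variable {K' K : Sh J} (f : K' ⟶ K)

/-- the projections of the Čech nerve -/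
noncomputable abbrev pi (n : ℕ) (k : Fin (n + 1)) : nerve f n ⟶ K' :=
  WidePullback.π (fun _ : Fin (n + 1) => (Arrow.mk f).hom) k

/-- the structure map of the Čech nerve -/
noncomputable abbrev bs (n : ℕ) : nerve f n ⟶ K :=
  WidePullback.base (fun _ : Fin (n + 1) => (Arrow.mk f).hom)

lemma pi_f (n : ℕ) (k : Fin (n + 1)) : pi f n k ≫ f = bs f n :=
  WidePullback.π_arrow (fun _ : Fin (n + 1) => (Arrow.mk f).hom) k

/-- forgetting the last factor -/
noncomputable def p1 (n : ℕ) : nerve f (n + 1) ⟶ nerve f n :=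
  WidePullback.lift (bs f (n + 1)) (fun k : Fin (n + 1) => pi f (n + 1) (Fin.castSucc k))
    (fun k => pi_f f (n + 1) (Fin.castSucc k))

lemma p1_pi (n : ℕ) (k : Fin (n + 1)) : p1 f n ≫ pi f n k = pi f (n + 1) (Fin.castSucc k) :=
  WidePullback.lift_π (fun _ : Fin (n + 1) => (Arrow.mk f).hom) _ _ _ k

lemma p1_bs (n : ℕ) : p1 f n ≫ bs f n = bs f (n + 1) :=
  WidePullback.lift_base (fun _ : Fin (n + 1) => (Arrow.mk f).hom) _ _ _

lemma pi_p1_app (n : ℕ) (k : Fin (n + 1)) (V : Cᵒᵖ) (x : (nerve f (n + 1)).obj.obj V) :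
    (pi f n k).hom.app V ((p1 f n).hom.app V x) =
      (pi f (n + 1) (Fin.castSucc k)).hom.app V x :=
  (sec_comp (p1 f n) (pi f n k) V x).symm.trans (sec_congr (p1_pi f n k) V x)

lemma f_pi_app (n : ℕ) (k : Fin (n + 1)) (V : Cᵒᵖ) (x : (nerve f n).obj.obj V) :
    f.hom.app V ((pi f n k).hom.app V x) = (bs f n).hom.app V x :=
  (sec_comp (pi f n k) f V x).symm.trans (sec_congr (pi_f f n k) V x)

lemma nerve_ext (n : ℕ) (V : Cᵒᵖ) (x y : (nerve f n).obj.obj V)
    (h : ∀ k, (pi f n k).hom.app V x = (pi f n k).hom.app V y) : x = y :=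
  NerveRes.pr_injective J f V n x y h

lemma nerve_exists (n : ℕ) (V : Cᵒᵖ) (e : Fin (n + 1) → K'.obj.obj V) (b : K.obj.obj V)
    (h : ∀ k, f.hom.app V (e k) = b) :
    ∃ x : (nerve f n).obj.obj V, ∀ k, (pi f n k).hom.app V x = e k :=
  NerveRes.pr_surjective J f V n e b h

/-- the next term of the Čech nerve is a fibre product -/
lemma nerve_sq (n : ℕ) :
    IsPullback (p1 f n) (pi f (n + 1) (Fin.last (n + 1))) (bs f n) f := by
  refine isPullback_of_sections _ _ _ _ ?_ ?_ ?_
  · rw [p1_bs, pi_f]
  · intro V a b hab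
    obtain ⟨x, hx⟩ := nerve_exists f (n + 1) V
      (Fin.lastCases b (fun k => (pi f n k).hom.app V a)) (f.hom.app V b) (by
        intro k
        refine Fin.lastCases ?_ (fun k' => ?_) k
        · rw [Fin.lastCases_last]
        · rw [Fin.lastCases_castSucc]
          exact (f_pi_app f n k' V a).trans hab)
    refine ⟨x, ?_, ?_⟩
    · apply nerve_ext f n V
      intro k
      refine (pi_p1_app f n k V x).trans ((hx (Fin.castSucc k)).trans ?_)
      rw [Fin.lastCases_castSucc]
    · refine (hx (Fin.last (n + 1))).trans ?_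
      rw [Fin.lastCases_last]
  · intro V p p' h1 h2
    apply nerve_ext f (n + 1) V
    intro k
    refine Fin.lastCases ?_ (fun k' => ?_) k
    · exact h2
    · exact (pi_p1_app f n k' V p).symm.trans
        ((congrArg (fun t => (pi f n k').hom.app V t) h1).trans (pi_p1_app f n k' V p'))

lemma isIso_pi_zero : IsIso (pi f 0 0) := by
  apply isIso_of_bijective_sections
  intro V
  constructor
  · intro x y h
    apply nerve_ext f 0 V
    intro k
    haveI : Subsingleton (Fin (0 + 1)) := inferInstanceAs (Subsingleton (Fin 1))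
    have hk : k = 0 := Subsingleton.elim _ _
    rw [hk]
    exact h
  · intro b
    obtain ⟨x, hx⟩ := nerve_exists f 0 V (fun _ => b) (f.hom.app V b) (fun _ => rfl)
    exact ⟨x, hx 0⟩

/-- the terms of the Čech nerve of a morphism of coherent objects of an algebraic topos are
coherent -/
theorem isCoherent_nerve (hE : IsAlgebraic J) (hK' : IsCoherent K') (hK : IsCoherent K) :
    ∀ n : ℕ, IsCoherent (nerve f n) := by
  intro n
  induction n with
  | zero =>
    haveI := isIso_pi_zero f
    exact isCoherent_of_iso (asIso (pi f 0 0)).symm hK'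
  | succ n ih =>
    have hf : IsCohHom f := ((Groth.Agent.S5585.result hE f).2 hK).1 hK'
    have hp : IsCohHom (p1 f n) := isCohHom_of_isPullback' (nerve_sq f n) hf
    exact ((Groth.Agent.S5585.result hE (p1 f n)).2 ih).2 hp

end Nerve

/-- the coherent objects of an algebraic topos form an admissible class -/
theorem adm_coherent (hE : IsAlgebraic J) : Adm {K : Sh J | IsCoherent K} := by
  have hE' := hE
  obtain ⟨S, hqc, hgen, hpb, heq⟩ := hE'
  refine ⟨?_, ?_⟩
  · intro K G g hK hg
    have hK' : IsCoherent K := hK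
    obtain ⟨ι, F, π, hF, hπ⟩ := (isGenerating_iff S).1 hgen G
    haveI := hg
    have h1 : JE (fun i => π i ≫ g) := hπ.comp_epi g
    obtain ⟨s, hs⟩ := exists_finset_of_isQC hK'.1 _ h1
    refine ⟨∐ (fun i : s => F i), Sigma.desc (fun i : s => π i), ?_, ?_⟩
    · exact isCoherent_sigma _ (fun i => isCoherent_of_mem hqc hgen hpb (hF i))
    · have h2 : Sigma.desc (fun i : s => π i) ≫ g = Sigma.desc (fun i : s => π i ≫ g) := by
        apply Sigma.hom_ext
        intro i
        rw [← Category.assoc, Sigma.ι_desc, Sigma.ι_desc]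
      rw [h2]
      exact (epi_sigmaDesc_iff _).2 hs
  · intro K' K f hK' hK _ n
    exact isCoherent_nerve f hE hK' hK n

/-- coherent objects of an algebraic topos are of finite presentation -/
theorem fp_coherent (hE : IsAlgebraic J) (T : Sh J) (hT : T ∈ {K : Sh J | IsCoherent K}) :
    HInj T ∧ HSurj T := by
  obtain ⟨S, hqc, hgen, hpb, heq⟩ := hE
  have hT' : IsCoherent T := hT
  exact ⟨hInj_of_isQC hT'.1,
    hSurj_of_isCoherent (hasQCGenerators_of_isGenerating hqc hgen) hT'⟩

/-- cohomology of a coherent object of an algebraic topos commutes with filtered colimits -/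
theorem preserves_HK_coherent (hE : IsAlgebraic J) (K : Sh J) (hK : IsCoherent K)
    (Λ : Type u) [SmallCategory Λ] [IsFiltered Λ] (q : ℕ) :
    PreservesColimitsOfShape Λ (ToposFin.HKFunctor K q) :=
  preserves_HK (adm_coherent hE) (fp_coherent hE) K hK q

end H9FE.TfCoh
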