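import Mathlib
import Groth.Prelude.Def_CohSite
import Groth.Agent.Lib.Helper9.FE.TfCoh
import Groth.Agent.Lib.Helper3.WFree
import Groth.Agent.S0882

/-! helper9: applications of `TfCoh.preserves_HK_coherent`: cohomology of a coherent topos and
higher direct images along a coherent morphism commute with filtered colimits. -/

set_option autoImplicit false
set_option linter.unusedSectionVars false
set_option linter.style.haveILetI false
set_option backward.isDefEq.respectTransparency false
universe u
open CategoryTheory CategoryTheory.Limits Opposite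

namespace H9FE.TfApps

open Groth.Agent.Helper3 Groth.Agent.Helper3.TCech H9FE.TfCoh
open ToposFin (Sh IsCoherent IsAlgebraic)

variable {C : Type u} [SmallCategory C] {J : GrothendieckTopology C}

variable (J) in
/-- the constant sheaf of sets with value a point -/
noncomputable abbrev ptSh : Sh J :=
  ⟨(Functor.const Cᵒᵖ).obj PUnit.{u + 1}, Presheaf.isSheaf_of_isTerminal J Types.isTerminalPUnit⟩

variable (J) in
/-- the point sheaf is terminal -/
noncomputable def ptShIsTerminal : IsTerminal (ptSh J) :=
  IsTerminal.ofUniqueHom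
    (fun X => ⟨{ app := fun V => TypeCat.ofHom (fun _ => PUnit.unit)
                 naturality := fun _ _ _ => rfl }⟩)
    (fun X m => by
      apply Sheaf.hom_ext
      ext V x
      exact @Subsingleton.elim PUnit.{u + 1} _ _ _)

variable (J) in
/-- the final object is the point sheaf -/
noncomputable def topIso : ⊤_ (Sh J) ≅ ptSh J := terminalIsTerminal.uniqueUpToIso (ptShIsTerminal J)

/-- the group of integers is free on a point -/
noncomputable def e0 : AddCommGrpCat.of (ULift.{u} ℤ) ≅ AddCommGrpCat.free.{u}.obj PUnit.{u + 1} :=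
  AddEquiv.toAddCommGrpIso (AddEquiv.ulift.trans (FreeAbelianGroup.uniqueEquiv PUnit.{u + 1}).symm)

variable (J) in
/-- the free abelian sheaf on the final object is the constant sheaf of integers -/
noncomputable def zIso : L.obj (⊤_ (Sh J)) ≅
    (constantSheaf J AddCommGrpCat.{u}).obj (AddCommGrpCat.of (ULift.{u} ℤ)) :=
  L.mapIso (topIso J) ≪≫ (presheafToSheaf J AddCommGrpCat.{u}).mapIso
    (Functor.constComp Cᵒᵖ PUnit.{u + 1} AddCommGrpCat.free.{u} ≪≫
      (Functor.const Cᵒᵖ).mapIso e0.symm)

/-- cohomology of a coherent topos commutes with filtered colimits -/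
theorem preserves_functorH (hE : IsAlgebraic J) (hT : IsCoherent (⊤_ (Sh J)))
    (Λ : Type u) [SmallCategory Λ] [IsFiltered Λ] (q : ℕ) :
    PreservesColimitsOfShape Λ
      (Sheaf.functorH J q : Sheaf J AddCommGrpCat.{u} ⥤ AddCommGrpCat.{u}) := by
  haveI := preserves_HK_coherent hE (⊤_ (Sh J)) hT Λ q
  let e1 : ToposFin.HKFunctor (⊤_ (Sh J)) q ≅ (Abelian.extFunctor.{u} q).obj
      (op ((constantSheaf J AddCommGrpCat.{u}).obj (AddCommGrpCat.of (ULift.{u} ℤ)))) :=
    (Abelian.extFunctor.{u} q).mapIso (zIso J).symm.op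
  haveI : PreservesColimitsOfShape Λ ((Abelian.extFunctor.{u} q).obj
      (op ((constantSheaf J AddCommGrpCat.{u}).obj (AddCommGrpCat.of (ULift.{u} ℤ))))) :=
    preservesColimitsOfShape_of_natIso e1
  let e2 : (Abelian.extFunctor.{u} q).obj
      (op ((constantSheaf J AddCommGrpCat.{u}).obj (AddCommGrpCat.of (ULift.{u} ℤ)))) ≅
      (Sheaf.functorH J q : Sheaf J AddCommGrpCat.{u} ⥤ AddCommGrpCat.{u}) :=
    NatIso.ofComponents (fun F => Iso.refl _) (fun f => by
      rw [Iso.refl_hom, Iso.refl_hom, Category.comp_id, Category.id_comp]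
      rfl)
  exact preservesColimitsOfShape_of_natIso e2

/-- higher direct images along a "coherent" continuous functor commute with filtered colimits -/
theorem preserves_Rpush {D : Type u} [SmallCategory D] (J : GrothendieckTopology C)
    (K : GrothendieckTopology D) (hE : IsAlgebraic J)
    (v : D ⥤ C) [v.IsContinuous K J] (hv : ∀ V : D, IsCoherent (ToposFin.eps J (v.obj V)))
    (Λ : Type u) [SmallCategory Λ] [IsFiltered Λ] (q : ℕ) :
    PreservesColimitsOfShape Λ (CohSite.Rpush J K v q) := by
  constructor
  intro F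
  refine Groth.Agent.S0882.result J K v F q ?_
  intro V
  refine ⟨PUnit.{u + 1}, fun _ => V, fun _ => 𝟙 V, ?_, fun _ => ?_⟩
  · exact K.covering_of_eq_top (Sieve.id_mem_iff_eq_top.1
      (Sieve.ofArrows_mk (fun _ : PUnit.{u + 1} => V) (fun _ => 𝟙 V) PUnit.unit))
  · haveI := preserves_HK_coherent hE (ToposFin.eps J (v.obj V)) (hv V) Λ q
    let i := WFree.sheafifyFreeIso J (toSheafify J (yoneda.obj (v.obj V))) (J.W_toSheafify _)
    let e : ToposFin.HKFunctor (ToposFin.eps J (v.obj V)) q ≅
        (Sheaf.cohomologyPresheafFunctor J q).flip.obj (op (v.obj V)) :=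
      (Abelian.extFunctor.{u} q).mapIso i.op
    exact preservesColimit_of_natIso F e

end H9FE.TfApps
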