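import Mathlib
import Groth.Agent.Lib.Helper9.FE.TfColim

/-! helper9: a two-class variant of `TfColim`: a class `ℬ` of base objects and the class `Cov ℬ`
of finite coproducts of members of `ℬ`.  If epimorphisms onto members of `ℬ` are refined by
members of `Cov ℬ`, and Čech nerves of such coverings have terms in `Cov ℬ`, then a filtered colimit
of `ℬ`-acyclic abelian sheaves is `ℬ`-acyclic (members of `Cov ℬ` being of finite presentation). -/

set_option autoImplicit false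
set_option linter.unusedSectionVars false
set_option linter.style.haveILetI false
set_option backward.isDefEq.respectTransparency false
universe w v u' u
open CategoryTheory CategoryTheory.Limits Opposite

namespace H9FE.TfColim2

open Groth.Agent.Helper3 Groth.Agent.Helper3.CechAcy Groth.Agent.Helper3.TCech
  H9FE.ExtFilteredColim H9FE.TfColim

section General

variable {𝒜 : Type u'} [Category.{v} 𝒜]

/-- morphisms out of a coproduct lift when their components do -/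
lemma exists_lift_of_cofan {A : Type w} {X : A → 𝒜} {P : 𝒜} (ι : ∀ a, X a ⟶ P)
    (hc : IsColimit (Cofan.mk P ι)) {Y₂ Y₃ : 𝒜} (g : Y₂ ⟶ Y₃) (ψ : P ⟶ Y₃)
    (h : ∀ a, ∃ ψ' : X a ⟶ Y₂, ψ' ≫ g = ι a ≫ ψ) : ∃ ψ' : P ⟶ Y₂, ψ' ≫ g = ψ := by
  choose φ hφ using h
  refine ⟨Cofan.IsColimit.desc hc φ, ?_⟩
  refine Cofan.IsColimit.hom_ext hc _ _ (fun a => ?_)
  have h1 : ι a ≫ Cofan.IsColimit.desc hc φ = φ a := Cofan.IsColimit.fac hc φ a
  show ι a ≫ Cofan.IsColimit.desc hc φ ≫ g = ι a ≫ ψ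
  rw [← Category.assoc, h1, hφ]

variable [Abelian 𝒜] [HasExt.{w} 𝒜]

open Abelian in
/-- `Ext` out of a finite coproduct vanishes when `Ext` out of the summands does -/
lemma ext_eq_zero_of_cofan {A : Type w} [Finite A] {X : A → 𝒜} {P : 𝒜} (ι : ∀ a, X a ⟶ P)
    (hc : IsColimit (Cofan.mk P ι)) (M : 𝒜) (n : ℕ)
    (h : ∀ (a : A) (y : Ext.{w} (X a) M n), y = 0) (x : Ext.{w} P M n) : x = 0 := by
  classical
  haveI := Fintype.ofFinite A
  let π : ∀ a, P ⟶ X a := fun a => Cofan.IsColimit.desc hc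
    (fun b => if hb : b = a then eqToHom (by rw [hb]) else 0)
  have hπ : ∀ a b, ι b ≫ π a = if hb : b = a then eqToHom (by rw [hb]) else 0 :=
    fun a b => Cofan.IsColimit.fac hc _ b
  have total : ∑ a, π a ≫ ι a = 𝟙 P := by
    refine Cofan.IsColimit.hom_ext hc _ _ (fun b => ?_)
    show ι b ≫ ∑ a, π a ≫ ι a = ι b ≫ 𝟙 P
    rw [Preadditive.comp_sum, Category.comp_id, Finset.sum_eq_single b]
    · rw [← Category.assoc, hπ, dif_pos rfl, eqToHom_refl, Category.id_comp]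
    · intro a _ hab
      rw [← Category.assoc, hπ, dif_neg (Ne.symm hab), zero_comp]
    · intro hb
      exact absurd (Finset.mem_univ b) hb
  let Φ : (P ⟶ P) →+ Ext.{w} P M n := AddMonoidHom.mk'
    (fun φ => (Ext.mk₀ φ).comp x (zero_add n)) (fun φ ψ => by
      show (Ext.mk₀ (φ + ψ)).comp x (zero_add n) = _
      rw [Ext.mk₀_add, Ext.add_comp])
  have hx : x = Φ (𝟙 P) := (Ext.mk₀_id_comp x).symm
  rw [hx, ← total, map_sum]
  refine Finset.sum_eq_zero (fun a _ => ?_)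
  show (Ext.mk₀ (π a ≫ ι a)).comp x (zero_add n) = 0
  rw [← Ext.mk₀_comp_mk₀, Ext.comp_assoc_of_second_deg_zero,
    h a ((Ext.mk₀ (ι a)).comp x (zero_add n)), Ext.comp_zero]

end General

variable {C : Type u} [SmallCategory C] {J : GrothendieckTopology C}

/-- the class of finite coproducts of members of `ℬ` -/
def Cov (ℬ : Set (Sheaf J (Type u))) : Set (Sheaf J (Type u)) :=
  {T | ∃ (A : Type u) (_ : Finite A) (F : A → Sheaf J (Type u)) (ι : ∀ a, F a ⟶ T),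
    (∀ a, F a ∈ ℬ) ∧ Nonempty (IsColimit (Cofan.mk T ι))}

/-- admissible classes of base objects -/
structure Adm2 (ℬ : Set (Sheaf J (Type u))) : Prop where
  refn : ∀ (K G : Sheaf J (Type u)) (g : G ⟶ K), K ∈ ℬ → Epi g →
    ∃ (K' : Sheaf J (Type u)) (k : K' ⟶ G), K' ∈ Cov ℬ ∧ Epi (k ≫ g)
  nrv : ∀ (K' K : Sheaf J (Type u)) (f : K' ⟶ K), K' ∈ Cov ℬ → K ∈ ℬ → Epi f →
    ∀ n : ℕ, nerve f n ∈ Cov ℬ

/-- Čech-acyclicity for coverings of members of `ℬ` by members of `Cov ℬ` -/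
def PcS2 (ℬ : Set (Sheaf J (Type u))) (M : Sheaf J AddCommGrpCat.{u}) : Prop :=
  ∀ (K' K : Sheaf J (Type u)) (f : K' ⟶ K), K' ∈ Cov ℬ → K ∈ ℬ → Epi f →
    ∀ m : ℕ, CExact (PP f) M m

variable {ℬ : Set (Sheaf J (Type u))}

/-- lifting for members of `Cov ℬ` follows from lifting for members of `ℬ` -/
theorem exists_lift_cov (S : ShortComplex (Sheaf J AddCommGrpCat.{u}))
    (hl : ∀ K ∈ ℬ, ∀ ψ : L.obj K ⟶ S.X₃, ∃ ψ' : L.obj K ⟶ S.X₂, ψ' ≫ S.g = ψ)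
    (T : Sheaf J (Type u)) (hT : T ∈ Cov ℬ) (ψ : L.obj T ⟶ S.X₃) :
    ∃ ψ' : L.obj T ⟶ S.X₂, ψ' ≫ S.g = ψ := by
  obtain ⟨A, _, F, ι, hF, ⟨hc⟩⟩ := hT
  haveI : PreservesColimitsOfSize.{u, u} (L (J := J)) := adjF.leftAdjoint_preservesColimits
  have hc' := isColimitCofanMkObjOfIsColimit (L (J := J)) F ι hc
  exact exists_lift_of_cofan (fun a => L.map (ι a)) hc' S.g ψ (fun a => hl (F a) (hF a) _)

/-- `Ext`-vanishing for members of `Cov ℬ` follows from that for members of `ℬ` -/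
theorem ext_eq_zero_cov (M : Sheaf J AddCommGrpCat.{u}) (n : ℕ)
    (hz : ∀ K ∈ ℬ, ∀ x : Abelian.Ext.{u} (L.obj K) M n, x = 0)
    (T : Sheaf J (Type u)) (hT : T ∈ Cov ℬ) (x : Abelian.Ext.{u} (L.obj T) M n) : x = 0 := by
  obtain ⟨A, _, F, ι, hF, ⟨hc⟩⟩ := hT
  haveI : PreservesColimitsOfSize.{u, u} (L (J := J)) := adjF.leftAdjoint_preservesColimits
  have hc' := isColimitCofanMkObjOfIsColimit (L (J := J)) F ι hc
  exact ext_eq_zero_of_cofan (fun a => L.map (ι a)) hc' M n (fun a y => hz (F a) (hF a) y) x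

/-- sections of the quotient over members of `ℬ` lift when the first Čech cohomology of the
kernel vanishes -/
theorem exists_lift2 (hℬ : Adm2 ℬ) (S : ShortComplex (Sheaf J AddCommGrpCat.{u}))
    (hS : S.ShortExact)
    (h1 : ∀ (K' K : Sheaf J (Type u)) (f : K' ⟶ K), K' ∈ Cov ℬ → K ∈ ℬ → Epi f →
      CExact (PP f) S.X₁ 0)
    (K : Sheaf J (Type u)) (hK : K ∈ ℬ) (ψ : L.obj K ⟶ S.X₃) :
    ∃ ψ' : L.obj K ⟶ S.X₂, ψ' ≫ S.g = ψ := by
  let s : K ⟶ (sheafCompose J (forget AddCommGrpCat.{u})).obj S.X₃ := adjF.homEquiv K S.X₃ ψ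
  let g' := (sheafCompose J (forget AddCommGrpCat.{u})).map S.g
  have := hS.epi_g
  have hls0 : Sheaf.IsLocallySurjective S.g :=
    (Sheaf.isLocallySurjective_iff_epi' (φ := S.g)).2 inferInstance
  have hls : Presheaf.IsLocallySurjective J g'.hom :=
    inferInstanceAs (Sheaf.IsLocallySurjective
      ((sheafCompose J (forget AddCommGrpCat.{u})).map S.g))
  have hfst : Epi (ShPb.fst s g') := ShPb.epi_fst s g'
  obtain ⟨K', k, hK', hkf⟩ := hℬ.refn K (ShPb.pb s g') (ShPb.fst s g') hK hfst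
  let f : K' ⟶ K := k ≫ ShPb.fst s g'
  have hf : Epi f := hkf
  have hqi := NerveRes.quasiIso_sheaf J f
  let N₀ := (Arrow.mk f).cechNerve.obj (op (SimplexCategory.mk 0))
  let π₀ : N₀ ⟶ K' := WidePullback.π (fun _ : Fin (0 + 1) => (Arrow.mk f).hom) 0
  let base : N₀ ⟶ K := WidePullback.base (fun _ : Fin (0 + 1) => (Arrow.mk f).hom)
  have hπb : π₀ ≫ f = base := WidePullback.π_arrow _ _
  let t₀ : (PP f).X 0 ⟶ S.X₂ := (adjF.homEquiv N₀ S.X₂).symm (π₀ ≫ k ≫ ShPb.snd s g')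
  refine @lift_of_cexact _ _ _ (PP f) (L.obj K)
    (AlgebraicTopology.AlternatingFaceMapComplex.ε.app (NerveRes.Xs J f)) hqi S hS
    (h1 _ _ f hK' hK hf) ψ t₀ ?_
  have e1 : t₀ ≫ S.g = (adjF.homEquiv N₀ S.X₃).symm ((π₀ ≫ k ≫ ShPb.snd s g') ≫ g') :=
    (adjF.homEquiv_naturality_right_symm _ _).symm
  have e2 : (π₀ ≫ k ≫ ShPb.snd s g') ≫ g' = base ≫ s := by
    have c := ShPb.cond s g'
    calc (π₀ ≫ k ≫ ShPb.snd s g') ≫ g' = π₀ ≫ k ≫ (ShPb.snd s g' ≫ g') := by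
          simp only [Category.assoc]
      _ = π₀ ≫ k ≫ (ShPb.fst s g' ≫ s) := by rw [c]
      _ = (π₀ ≫ (k ≫ ShPb.fst s g')) ≫ s := by simp only [Category.assoc]
      _ = base ≫ s := by rw [show π₀ ≫ (k ≫ ShPb.fst s g') = base from hπb]
  have e3 : (adjF.homEquiv N₀ S.X₃).symm (base ≫ s) =
      L.map base ≫ (adjF.homEquiv K S.X₃).symm s :=
    adjF.homEquiv_naturality_left_symm _ _
  rw [e1, e2, e3, Equiv.symm_apply_apply]
  rfl

/-- Čech-acyclic sheaves are `Ext(ℤ[K], -)`-acyclic for `K` in `ℬ` -/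
theorem ext_eq_zero_of_pcS2 (hℬ : Adm2 ℬ) (K : Sheaf J (Type u)) (hK : K ∈ ℬ) (n : ℕ)
    (M : Sheaf J AddCommGrpCat.{u}) (hM : PcS2 ℬ M)
    (x : Abelian.Ext.{u} (L.obj K) M (n + 1)) : x = 0 := by
  refine AcyClass.ext_eq_zero (L.obj K) (PcS2 (J := J) ℬ) ?_ n M hM x
  intro S hS h1 h2
  have hlift := exists_lift2 hℬ S hS (fun K' K f hK' hK hf => h1 K' K f hK' hK hf 0)
  refine ⟨?_, hlift K hK⟩
  intro K' K₁ f hK' hK₁ hf m
  haveI := h2
  refine cexact_of_ses (PP f) S hS m ?_ (h1 K' K₁ f hK' hK₁ hf (m + 1))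
    (pc_of_injective S.X₂ K' K₁ f hf m)
  intro x₃
  exact exists_lift_cov S hlift (nerve f (m + 1)) (hℬ.nrv K' K₁ f hK' hK₁ hf (m + 1)) x₃

section Colim

variable {Λ : Type u} [SmallCategory Λ] [IsFiltered Λ]

/-- a filtered colimit of `ℬ`-acyclic sheaves is Čech-acyclic when the members of `Cov ℬ` satisfy
`H0` -/
theorem pcS2_colimit (hℬ : Adm2 ℬ) (D : Λ ⥤ Sheaf J AddCommGrpCat.{u})
    (hD : ∀ (j : Λ), ∀ K ∈ ℬ, ∀ (q : ℕ) (x : Abelian.Ext.{u} (L.obj K) (D.obj j) (q + 1)), x = 0)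
    (h0 : ∀ T ∈ Cov ℬ, H0 T D) : PcS2 ℬ (colimit D) := by
  intro K' K f hK' hK hf m x hx
  obtain ⟨j, xj, hxj⟩ := (h0 (nerve f (m + 1)) (hℬ.nrv K' K f hK' hK hf (m + 1))).surj x
  have hd : ((PP f).d (m + 2) (m + 1) ≫ xj) ≫ colimit.ι D j = 0 := by
    rw [Category.assoc]
    exact (congrArg (fun t => (PP f).d (m + 2) (m + 1) ≫ t) hxj).trans hx
  obtain ⟨k, g, hg⟩ := (h0 (nerve f (m + 2)) (hℬ.nrv K' K f hK' hK hf (m + 2))).inj j
    ((PP f).d (m + 2) (m + 1) ≫ xj) hd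
  have hqi := NerveRes.quasiIso_sheaf J f
  obtain ⟨yk, hyk⟩ := @AcyRes.exists_lift _ _ _ _ (PP f) (L.obj K)
    (AlgebraicTopology.AlternatingFaceMapComplex.ε.app (NerveRes.Xs J f)) hqi (D.obj k)
    (fun n q y => ext_eq_zero_cov (D.obj k) (q + 1) (fun K₁ hK₁ z => hD k K₁ hK₁ q z)
      (nerve f n) (hℬ.nrv K' K f hK' hK hf n) y)
    (fun q y => hD k K hK q y) m (xj ≫ D.map g) (by
      rw [← Category.assoc]
      exact hg)
  refine ⟨yk ≫ colimit.ι D k, ?_⟩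
  rw [← Category.assoc, hyk, Category.assoc, colimit.w]
  exact hxj

/-- a filtered colimit of `ℬ`-acyclic sheaves is `ℬ`-acyclic -/
theorem ext_colimit_eq_zero (hℬ : Adm2 ℬ)
    (hfp : ∀ T ∈ Cov ℬ, Helper5.TFin.HInj T ∧ Helper5.TFin.HSurj T)
    (D : Λ ⥤ Sheaf J AddCommGrpCat.{u})
    (hD : ∀ (j : Λ), ∀ K ∈ ℬ, ∀ (q : ℕ) (x : Abelian.Ext.{u} (L.obj K) (D.obj j) (q + 1)), x = 0)
    (K : Sheaf J (Type u)) (hK : K ∈ ℬ) (q : ℕ)
    (x : Abelian.Ext.{u} (L.obj K) (colimit D) (q + 1)) : x = 0 :=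
  ext_eq_zero_of_pcS2 hℬ K hK q (colimit D)
    (pcS2_colimit hℬ D hD (fun T hT => h0_of_fp (hfp T hT).1 (hfp T hT).2 D)) x

end Colim

end H9FE.TfColim2
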