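import Mathlib
import Groth.Agent.Lib.Helper9.FE.TfColim2
import Groth.Agent.Lib.Helper9.FE.TfCoh

/-! helper9: in a locally coherent topos (a generating set `S` of quasi-compact objects stable under
fibre products) the iso-closure of `S` is an admissible class of base objects in the sense of
`TfColim2.Adm2`; hence filtered colimits of `S`-acyclic abelian sheaves are `S`-acyclic. -/

set_option autoImplicit false
set_option linter.unusedSectionVars false
set_option linter.style.haveILetI false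
set_option backward.isDefEq.respectTransparency false
universe w u
open CategoryTheory CategoryTheory.Limits Opposite

namespace H9FE.TfLocCoh

open Groth.Agent.Helper3 Groth.Agent.Helper3.TCech Helper5.TFin H9FE.TfColim H9FE.TfColim2
  H9FE.TfCoh
open ToposFin (Sh IsQC IsQS IsQCHom IsCohHom IsCoherent IsGenerating ClosedUnderPullbacks
  HasQCGenerators)

variable {C : Type u} [SmallCategory C] {J : GrothendieckTopology C}

section Disj

/-- disjoint covers are stable under isomorphisms of the target -/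
lemma disjCover_comp_iso {ι : Type w} {A A' : Sh J} {Ai : ι → Sh J} {v : ∀ i, Ai i ⟶ A}
    (h : DisjCover v) (e : A ≅ A') : DisjCover (fun i => v i ≫ e.hom) where
  je := h.je.comp_epi e.hom
  mono := fun i => by
    haveI := h.mono i
    exact mono_comp _ _
  disj := fun i j hij P p₁ p₂ hp => h.disj i j hij P p₁ p₂ (by
    rw [← cancel_mono e.hom, Category.assoc, Category.assoc]
    exact hp)

/-- a disjoint cover exhibits its target as a coproduct -/
theorem isColimit_of_disjCover {A : Type u} {T : Sh J} {F : A → Sh J} (v : ∀ a, F a ⟶ T)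
    (h : DisjCover v) : Nonempty (IsColimit (Cofan.mk T v)) := by
  let c : ∐ F ⟶ T := Sigma.desc v
  have hcu : ∀ a, Sigma.ι F a ≫ c = v a := fun a => Sigma.ι_desc v a
  have hSg : DisjCover (Sigma.ι F) :=
    disjCover_of_isColimit (Cofan.mk (∐ F) (Sigma.ι F)) (coproductIsCoproduct F)
  have hp := hSg.pullback_map hSg c c
  have hepi : Epi c := (epi_sigmaDesc_iff v).2 h.je
  have key : pullback.fst c c = pullback.snd c c := by
    apply hp.je
    rintro ⟨a, b⟩
    have e1 : pullback.map (Sigma.ι F a ≫ c) (Sigma.ι F b ≫ c) c c (Sigma.ι F a) (Sigma.ι F b)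
        (𝟙 T) (Category.comp_id _) (Category.comp_id _) ≫ pullback.fst c c =
        pullback.fst _ _ ≫ Sigma.ι F a := pullback.lift_fst _ _ _
    have e2 : pullback.map (Sigma.ι F a ≫ c) (Sigma.ι F b ≫ c) c c (Sigma.ι F a) (Sigma.ι F b)
        (𝟙 T) (Category.comp_id _) (Category.comp_id _) ≫ pullback.snd c c =
        pullback.snd _ _ ≫ Sigma.ι F b := pullback.lift_snd _ _ _
    refine e1.trans (Eq.trans ?_ e2.symm)
    by_cases hab : a = b
    · subst hab
      haveI : Mono (Sigma.ι F a ≫ c) := by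
        rw [hcu]
        exact h.mono a
      have h3 : pullback.fst (Sigma.ι F a ≫ c) (Sigma.ι F a ≫ c) = pullback.snd _ _ := by
        rw [← cancel_mono (Sigma.ι F a ≫ c)]
        exact pullback.condition
      rw [h3]
    · have hi : IsInit (pullback (Sigma.ι F a ≫ c) (Sigma.ι F b ≫ c)) :=
        h.disj a b hab _ (pullback.fst _ _) (pullback.snd _ _) (by
          rw [← hcu a, ← hcu b]
          exact pullback.condition)
      exact hi.hom_ext _ _
  have hmono : Mono c := ⟨fun {W} a b hab => by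
    calc a = pullback.lift a b hab ≫ pullback.fst c c := (pullback.lift_fst _ _ _).symm
      _ = pullback.lift a b hab ≫ pullback.snd c c := by rw [key]
      _ = b := pullback.lift_snd _ _ _⟩
  haveI : IsIso c := isIso_of_mono_of_epi c
  exact ⟨IsColimit.ofIsoColimit (coproductIsCoproduct F)
    (Cocone.ext (asIso c) (by
      rintro ⟨a⟩
      exact hcu a))⟩

/-- an object with a finite disjoint cover by coherent objects is coherent -/
lemma isCoherent_of_disjCover {A : Type u} [Finite A] {T : Sh J} {F : A → Sh J}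
    (v : ∀ a, F a ⟶ T) (h : DisjCover v) (hF : ∀ a, IsCoherent (F a)) : IsCoherent T := by
  refine ⟨isQC_of_finite_JE v h.je (fun i => (hF i).1), ?_⟩
  intro X Y a b hX hY
  have ha : IsQCHom a := by
    refine isQCHom_of_disjCover a h (fun i => ?_)
    refine isQCHom_of_isQC_of_isQS _ ?_ (hF i).2
    exact isQC_of_iso (pullbackSymmetry _ _) ((h.pullback a).isQC_member hX i)
  exact ha Y b hY

end Disj

variable (S : Set (Sh J))

/-- the iso-closure of a set of objects -/
def Bs : Set (Sh J) := {T | ∃ P ∈ S, Nonempty (T ≅ P)}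

variable {S} (hqc : ∀ K ∈ S, IsQC K) (hgen : IsGenerating S) (hpb : ClosedUnderPullbacks S)

include hqc hgen hpb in
lemma isCoherent_of_mem_Bs {T : Sh J} (hT : T ∈ Bs S) : IsCoherent T := by
  obtain ⟨P, hP, ⟨e⟩⟩ := hT
  exact isCoherent_of_iso e.symm (isCoherent_of_mem hqc hgen hpb hP)

include hpb in
lemma pullback_mem_Bs {X Y Z : Sh J} (x : X ⟶ Z) (y : Y ⟶ Z) (hX : X ∈ Bs S) (hY : Y ∈ Bs S)
    (hZ : Z ∈ Bs S) : pullback x y ∈ Bs S := by
  obtain ⟨X₀, hX₀, ⟨eX⟩⟩ := hX
  obtain ⟨Y₀, hY₀, ⟨eY⟩⟩ := hY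
  obtain ⟨Z₀, hZ₀, ⟨eZ⟩⟩ := hZ
  obtain ⟨Q, q₁, q₂, hQ, sq⟩ := hpb (eX.inv ≫ x ≫ eZ.hom) (eY.inv ≫ y ≫ eZ.hom) hX₀ hY₀ hZ₀
  have sq' : IsPullback (q₁ ≫ eX.inv) (q₂ ≫ eY.inv) x y :=
    IsPullback.of_iso sq (Iso.refl Q) eX.symm eY.symm eZ.symm (by simp) (by simp) (by simp)
      (by simp)
  exact ⟨Q, hQ, ⟨sq'.isoPullback.symm⟩⟩

include hpb in
/-- the terms of the Čech nerve of a covering of a base object are finite coproducts of base
objects -/
theorem nerve_mem_cov {K' K : Sh J} (f : K' ⟶ K) (hK' : K' ∈ Cov (Bs S)) (hK : K ∈ Bs S) :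
    ∀ n : ℕ, nerve f n ∈ Cov (Bs S) := by
  intro n
  induction n with
  | zero =>
    obtain ⟨A, hA, F, ι, hF, ⟨hc⟩⟩ := hK'
    haveI := isIso_pi_zero f
    have h1 : DisjCover ι := disjCover_of_isColimit (Cofan.mk K' ι) hc
    have h2 := disjCover_comp_iso h1 (asIso (pi f 0 0)).symm
    exact ⟨A, hA, F, _, hF, isColimit_of_disjCover _ h2⟩
  | succ n ih =>
    obtain ⟨A, hA, F, ι, hF, ⟨hc⟩⟩ := ih
    obtain ⟨A', hA', F', ι', hF', ⟨hc'⟩⟩ := hK'
    have h1 : DisjCover ι := disjCover_of_isColimit (Cofan.mk _ ι) hc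
    have h2 : DisjCover ι' := disjCover_of_isColimit (Cofan.mk _ ι') hc'
    have h3 := h1.pullback_map h2 (bs f n) f
    have sq := nerve_sq f n
    have h4 := disjCover_comp_iso h3 sq.isoPullback.symm
    haveI := hA
    haveI := hA'
    refine ⟨A × A', inferInstance, _, _, ?_, isColimit_of_disjCover _ h4⟩
    rintro ⟨a, a'⟩
    exact pullback_mem_Bs hpb _ _ (hF a) (hF' a') hK

include hqc hgen hpb in
/-- the iso-closure of `S` is an admissible class of base objects -/
theorem adm2 : Adm2 (Bs S) := by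
  refine ⟨?_, fun K' K f hK' hK _ n => nerve_mem_cov hpb f hK' hK n⟩
  intro K G g hK hg
  have hKqc : IsQC K := (isCoherent_of_mem_Bs hqc hgen hpb hK).1
  obtain ⟨ι, F, π, hF, hπ⟩ := (isGenerating_iff S).1 hgen G
  haveI := hg
  have h1 : JE (fun i => π i ≫ g) := hπ.comp_epi g
  obtain ⟨s, hs⟩ := exists_finset_of_isQC hKqc _ h1
  refine ⟨∐ (fun i : s => F i), Sigma.desc (fun i : s => π i), ?_, ?_⟩
  · exact ⟨s, inferInstance, fun i : s => F i, Sigma.ι (fun i : s => F i),
      fun i => ⟨F i, hF i, ⟨Iso.refl _⟩⟩, ⟨coproductIsCoproduct _⟩⟩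
  · have h2 : Sigma.desc (fun i : s => π i) ≫ g = Sigma.desc (fun i : s => π i ≫ g) := by
      apply Sigma.hom_ext
      intro i
      rw [← Category.assoc, Sigma.ι_desc, Sigma.ι_desc]
    rw [h2]
    exact (epi_sigmaDesc_iff _).2 hs

include hqc hgen hpb in
/-- finite coproducts of base objects are of finite presentation -/
theorem fp_cov (T : Sh J) (hT : T ∈ Cov (Bs S)) : HInj T ∧ HSurj T := by
  obtain ⟨A, hA, F, ι, hF, ⟨hc⟩⟩ := hT
  haveI := hA
  have h1 : DisjCover ι := disjCover_of_isColimit (Cofan.mk _ ι) hc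
  have hT' : IsCoherent T := isCoherent_of_disjCover ι h1
    (fun a => isCoherent_of_mem_Bs hqc hgen hpb (hF a))
  exact ⟨hInj_of_isQC hT'.1,
    hSurj_of_isCoherent (hasQCGenerators_of_isGenerating hqc hgen) hT'⟩

include hqc hgen hpb in
/-- in a locally coherent topos, filtered colimits of `S`-acyclic abelian sheaves are
`S`-acyclic -/
theorem main {Λ : Type u} [SmallCategory Λ] [IsFiltered Λ] (D : Λ ⥤ Sheaf J AddCommGrpCat.{u})
    (hD : ∀ (i : Λ) (K : Sh J), K ∈ S → ∀ q : ℕ, Subsingleton (CohCx.HK K (D.obj i) (q + 1)))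
    (K : Sh J) (hK : K ∈ S) (q : ℕ) : Subsingleton (CohCx.HK K (colimit D) (q + 1)) := by
  have hD' : ∀ (j : Λ), ∀ K₁ ∈ Bs S,
      ∀ (q : ℕ) (x : Abelian.Ext.{u} (L.obj K₁) (D.obj j) (q + 1)), x = 0 := by
    intro j K₁ hK₁ q x
    obtain ⟨P, hP, ⟨e₀⟩⟩ := hK₁
    let e : L.obj K₁ ≅ L.obj P := L.mapIso e₀
    have h1 : (Abelian.Ext.mk₀ e.hom).comp ((Abelian.Ext.mk₀ e.inv).comp x (zero_add _))
        (zero_add _) = x := by
      rw [← Abelian.Ext.comp_assoc_of_second_deg_zero, Abelian.Ext.mk₀_comp_mk₀, e.hom_inv_id,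
        Abelian.Ext.mk₀_id_comp]
    have h2 : (Abelian.Ext.mk₀ e.inv).comp x (zero_add (q + 1)) = 0 :=
      (hD j P hP q).elim _ _
    rw [← h1, h2, Abelian.Ext.comp_zero]
  have hz : ∀ z : Abelian.Ext.{u} (L.obj K) (colimit D) (q + 1), z = 0 := fun z =>
    ext_colimit_eq_zero (adm2 hqc hgen hpb) (fp_cov hqc hgen hpb) D hD' K
      ⟨K, hK, ⟨Iso.refl _⟩⟩ q z
  exact ⟨fun x y => (hz x).trans (hz y).symm⟩

end H9FE.TfLocCoh
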