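import Mathlib
import Groth.Agent.Lib.Helper9.FE.TfColim
import Groth.Agent.Lib.Helper9.FE.TfCoh
import Groth.Agent.Lib.Helper5.TFin.Map

/-! helper9: for a class `S` of quasi-compact sheaves of sets such that epimorphisms onto members
are refined by members, and products of members and equalizers of pairs of maps between members are
covered by members, the class `Tc S` of "`S`-coherent" objects (covered by a member, and with fibre
products of members over it covered by members) contains `S` and is stable under fibre products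
and under the formation of Čech nerves. -/

set_option autoImplicit false
set_option linter.unusedSectionVars false
set_option linter.style.haveILetI false
set_option backward.isDefEq.respectTransparency false
universe u
open CategoryTheory CategoryTheory.Limits Opposite

namespace H9FE.TfSCoh

open Helper5.TFin H9FE.TfColim H9FE.TfCoh
open ToposFin (Sh IsQC)

variable {C : Type u} [SmallCategory C] {J : GrothendieckTopology C}

/-- epimorphisms of the topos are stable under base change -/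
lemma epi_snd_of_isPullback {P A Y X : Sh J} {p₁ : P ⟶ A} {p₂ : P ⟶ Y} {f : A ⟶ X} {g : Y ⟶ X}
    (sq : IsPullback p₁ p₂ f g) [Epi f] : Epi p₂ := by
  have h1 : JE (fun _ : PUnit.{1} => f) := JE.of_epi f
  have h2 : JE (fun _ : PUnit.{1} => p₂) :=
    h1.pullback g (fun _ => P) (fun _ => p₁) (fun _ => p₂) (fun _ => sq)
  exact epi_of_JE_punit p₂ h2

lemma epi_fst_of_isPullback {P A Y X : Sh J} {p₁ : P ⟶ A} {p₂ : P ⟶ Y} {f : A ⟶ X} {g : Y ⟶ X}
    (sq : IsPullback p₁ p₂ f g) [Epi g] : Epi p₁ :=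
  epi_snd_of_isPullback sq.flip

/-- fibre products of epimorphisms are epimorphisms -/
lemma epi_pullback_map {X X' Y Y' Z : Sh J} (kX : X' ⟶ X) (kY : Y' ⟶ Y) [Epi kX] [Epi kY]
    (a : X ⟶ Z) (a' : Y ⟶ Z) :
    Epi (pullback.map (kX ≫ a) (kY ≫ a') a a' kX kY (𝟙 Z) (Category.comp_id _)
      (Category.comp_id _)) := by
  have h1 : JE (fun _ : PUnit.{1} => kX) := JE.of_epi kX
  have h2 : JE (fun _ : PUnit.{1} => kY) := JE.of_epi kY
  have h3 := h1.pullback_map h2 a a'
  exact ⟨fun u v huv => h3 u v (fun _ => huv)⟩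

/-- recognising pullback squares one of whose legs is an equalizer inclusion -/
lemma isPullback_equalizer {B W M Y : Sh J} (α β : M ⟶ Y) (c : B ⟶ W) [Mono c] (m : M ⟶ W)
    (θ : equalizer α β ⟶ B) (hθ : θ ≫ c = equalizer.ι α β ≫ m)
    (heq : ∀ {Z : Sh J} (u : Z ⟶ B) (v : Z ⟶ M), u ≫ c = v ≫ m → v ≫ α = v ≫ β) :
    IsPullback θ (equalizer.ι α β) c m := by
  refine ⟨⟨hθ⟩, ⟨PullbackCone.IsLimit.mk hθ
    (fun s => equalizer.lift s.snd (heq s.fst s.snd s.condition)) ?_ ?_ ?_⟩⟩
  · intro s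
    rw [← cancel_mono c, Category.assoc, hθ, ← Category.assoc, equalizer.lift_ι]
    exact s.condition.symm
  · intro s
    exact equalizer.lift_ι _ _
  · intro s l h1 h2
    apply equalizer.hom_ext
    rw [equalizer.lift_ι]
    exact h2

variable (S : Set (Sh J))

/-- covered by a member of `S` -/
def Cv (X : Sh J) : Prop := ∃ (K : Sh J) (k : K ⟶ X), K ∈ S ∧ Epi k

variable {S} in
lemma Cv.of_epi {X Y : Sh J} (h : Cv S X) (g : X ⟶ Y) [Epi g] : Cv S Y := by
  obtain ⟨K, k, hK, hk⟩ := h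
  haveI := hk
  exact ⟨K, k ≫ g, hK, epi_comp k g⟩

/-- `S`-coherent objects -/
def Tc (T : Sh J) : Prop :=
  Cv S T ∧ ∀ (K K' : Sh J) (x : K ⟶ T) (y : K' ⟶ T), K ∈ S → K' ∈ S → Cv S (pullback x y)

/-- the hypotheses on the class `S` -/
structure Hyp : Prop where
  h2 : ∀ (F K : Sh J) (g : F ⟶ K), K ∈ S → Epi g →
    ∃ (K' : Sh J) (k : K' ⟶ F), K' ∈ S ∧ Epi (k ≫ g)
  h3 : ∀ K ∈ S, ∀ K' ∈ S, ∃ (K'' : Sh J) (g : K'' ⟶ K ⨯ K'), K'' ∈ S ∧ Epi g
  h4 : ∀ K ∈ S, ∀ K' ∈ S, ∀ (a b : K ⟶ K'),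
    ∃ (K'' : Sh J) (g : K'' ⟶ equalizer a b), K'' ∈ S ∧ Epi g
  h5 : ∀ K ∈ S, IsQC K

variable {S}

lemma isQC_of_cv (H : Hyp S) {T : Sh J} (hT : Cv S T) : IsQC T := by
  obtain ⟨K, k, hK, hk⟩ := hT
  haveI := hk
  exact isQC_of_epi k (H.h5 K hK)

/-- members of `S` are `S`-coherent -/
theorem tc_of_mem (H : Hyp S) {T : Sh J} (hT : T ∈ S) : Tc S T := by
  refine ⟨⟨T, 𝟙 T, hT, inferInstance⟩, ?_⟩
  intro K₁ K₂ x y hK₁ hK₂
  obtain ⟨K'', g, hK'', hg⟩ := H.h3 K₁ hK₁ K₂ hK₂
  haveI := hg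
  obtain ⟨M, m, hM, hm⟩ := H.h4 K'' hK'' T hT (g ≫ prod.fst ≫ x) (g ≫ prod.snd ≫ y)
  haveI := hm
  let c : pullback x y ⟶ K₁ ⨯ K₂ := prod.lift (pullback.fst x y) (pullback.snd x y)
  have hc1 : c ≫ prod.fst = pullback.fst x y := prod.lift_fst _ _
  have hc2 : c ≫ prod.snd = pullback.snd x y := prod.lift_snd _ _
  haveI : Mono c := ⟨fun {Z} a b hab => by
    apply pullback.hom_ext
    · rw [← hc1, ← Category.assoc, hab, Category.assoc]
    · rw [← hc2, ← Category.assoc, hab, Category.assoc]⟩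
  have hw : (equalizer.ι (g ≫ prod.fst ≫ x) (g ≫ prod.snd ≫ y) ≫ g ≫ prod.fst) ≫ x =
      (equalizer.ι (g ≫ prod.fst ≫ x) (g ≫ prod.snd ≫ y) ≫ g ≫ prod.snd) ≫ y := by
    have := equalizer.condition (g ≫ prod.fst ≫ x) (g ≫ prod.snd ≫ y)
    simpa only [Category.assoc] using this
  let θ : equalizer (g ≫ prod.fst ≫ x) (g ≫ prod.snd ≫ y) ⟶ pullback x y :=
    pullback.lift _ _ hw
  have hθ1 : θ ≫ pullback.fst x y = equalizer.ι _ _ ≫ g ≫ prod.fst := pullback.lift_fst _ _ _
  have hθ2 : θ ≫ pullback.snd x y = equalizer.ι _ _ ≫ g ≫ prod.snd := pullback.lift_snd _ _ _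
  have sq : IsPullback θ (equalizer.ι (g ≫ prod.fst ≫ x) (g ≫ prod.snd ≫ y)) c g := by
    refine isPullback_equalizer _ _ c g θ ?_ ?_
    · apply prod.hom_ext
      · rw [Category.assoc, hc1, hθ1, Category.assoc]
      · rw [Category.assoc, hc2, hθ2, Category.assoc]
    · intro Z u v huv
      have e1 : v ≫ g ≫ prod.fst = u ≫ pullback.fst x y := by
        rw [← hc1, ← Category.assoc, ← Category.assoc, huv]
      have e2 : v ≫ g ≫ prod.snd = u ≫ pullback.snd x y := by
        rw [← hc2, ← Category.assoc, ← Category.assoc, huv]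
      calc v ≫ g ≫ prod.fst ≫ x = (v ≫ g ≫ prod.fst) ≫ x := by simp only [Category.assoc]
        _ = (u ≫ pullback.fst x y) ≫ x := by rw [e1]
        _ = (u ≫ pullback.snd x y) ≫ y := by
            rw [Category.assoc, pullback.condition, ← Category.assoc]
        _ = (v ≫ g ≫ prod.snd) ≫ y := by rw [e2]
        _ = v ≫ g ≫ prod.snd ≫ y := by simp only [Category.assoc]
  haveI : Epi θ := epi_fst_of_isPullback sq
  exact ⟨M, m ≫ θ, hM, epi_comp m θ⟩

/-- equalizers of pairs of maps from a member to an `S`-coherent object are covered -/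
theorem cv_equalizer (H : Hyp S) {M T : Sh J} (hM : M ∈ S) (hT : Tc S T) (a b : M ⟶ T) :
    Cv S (equalizer a b) := by
  obtain ⟨N, n, hN, hn⟩ := hT.2 M M a b hM hM
  haveI := hn
  obtain ⟨M', m', hM', hm'⟩ := H.h4 N hN M hM (n ≫ pullback.fst a b) (n ≫ pullback.snd a b)
  haveI := hm'
  let δ : equalizer a b ⟶ pullback a b :=
    pullback.lift (equalizer.ι a b) (equalizer.ι a b) (equalizer.condition a b)
  have hδ1 : δ ≫ pullback.fst a b = equalizer.ι a b := pullback.lift_fst _ _ _
  have hδ2 : δ ≫ pullback.snd a b = equalizer.ι a b := pullback.lift_snd _ _ _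
  haveI : Mono δ := mono_of_mono_fac hδ1
  have hw : (equalizer.ι (n ≫ pullback.fst a b) (n ≫ pullback.snd a b) ≫ n ≫ pullback.fst a b) ≫ a =
      (equalizer.ι (n ≫ pullback.fst a b) (n ≫ pullback.snd a b) ≫ n ≫ pullback.fst a b) ≫ b := by
    have e := equalizer.condition (n ≫ pullback.fst a b) (n ≫ pullback.snd a b)
    calc (equalizer.ι (n ≫ pullback.fst a b) (n ≫ pullback.snd a b) ≫ n ≫ pullback.fst a b) ≫ a
        = equalizer.ι (n ≫ pullback.fst a b) (n ≫ pullback.snd a b) ≫ n ≫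
            (pullback.fst a b ≫ a) := by simp only [Category.assoc]
      _ = equalizer.ι (n ≫ pullback.fst a b) (n ≫ pullback.snd a b) ≫ n ≫
            (pullback.snd a b ≫ b) := by rw [pullback.condition]
      _ = (equalizer.ι (n ≫ pullback.fst a b) (n ≫ pullback.snd a b) ≫ n ≫ pullback.snd a b) ≫
            b := by simp only [Category.assoc]
      _ = (equalizer.ι (n ≫ pullback.fst a b) (n ≫ pullback.snd a b) ≫ n ≫ pullback.fst a b) ≫
            b := by rw [← e]
  let θ : equalizer (n ≫ pullback.fst a b) (n ≫ pullback.snd a b) ⟶ equalizer a b :=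
    equalizer.lift _ hw
  have hθ : θ ≫ equalizer.ι a b = equalizer.ι _ _ ≫ n ≫ pullback.fst a b := equalizer.lift_ι _ _
  have sq : IsPullback θ (equalizer.ι (n ≫ pullback.fst a b) (n ≫ pullback.snd a b)) δ n := by
    refine isPullback_equalizer _ _ δ n θ ?_ ?_
    · apply pullback.hom_ext
      · rw [Category.assoc, hδ1, hθ, Category.assoc]
      · rw [Category.assoc, hδ2, hθ, Category.assoc]
        exact equalizer.condition _ _
    · intro Z u v huv
      calc v ≫ n ≫ pullback.fst a b = (v ≫ n) ≫ pullback.fst a b := by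
            simp only [Category.assoc]
        _ = (u ≫ δ) ≫ pullback.fst a b := by rw [huv]
        _ = (u ≫ δ) ≫ pullback.snd a b := by
            rw [Category.assoc, Category.assoc, hδ1, hδ2]
        _ = (v ≫ n) ≫ pullback.snd a b := by rw [huv]
        _ = v ≫ n ≫ pullback.snd a b := by simp only [Category.assoc]
  haveI : Epi θ := epi_fst_of_isPullback sq
  exact ⟨M', m' ≫ θ, hM', epi_comp m' θ⟩

/-- fibre products of covered objects over an `S`-coherent object are covered -/
theorem cv_pullback {X Y Z : Sh J} (hX : Cv S X) (hY : Cv S Y) (hZ : Tc S Z) (a : X ⟶ Z)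
    (a' : Y ⟶ Z) : Cv S (pullback a a') := by
  obtain ⟨KX, kX, hKX, hkX⟩ := hX
  obtain ⟨KY, kY, hKY, hkY⟩ := hY
  haveI := hkX
  haveI := hkY
  have h := hZ.2 KX KY (kX ≫ a) (kY ≫ a') hKX hKY
  haveI := epi_pullback_map kX kY a a'
  exact h.of_epi (pullback.map (kX ≫ a) (kY ≫ a') a a' kX kY (𝟙 Z) (Category.comp_id _)
    (Category.comp_id _))

/-- `S`-coherent objects are stable under fibre products -/
theorem tc_pullback (H : Hyp S) {X Y Z : Sh J} (hX : Tc S X) (hY : Tc S Y) (hZ : Tc S Z)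
    (p : X ⟶ Z) (q : Y ⟶ Z) : Tc S (pullback p q) := by
  refine ⟨cv_pullback hX.1 hY.1 hZ p q, ?_⟩
  intro K K' x y hK hK'
  obtain ⟨M₁, m₁, hM₁, hm₁⟩ := hX.2 K K' (x ≫ pullback.fst p q) (y ≫ pullback.fst p q) hK hK'
  haveI := hm₁
  let W₁ := pullback (x ≫ pullback.fst p q) (y ≫ pullback.fst p q)
  let α : M₁ ⟶ Y := m₁ ≫ pullback.fst (x ≫ pullback.fst p q) (y ≫ pullback.fst p q) ≫ x ≫
    pullback.snd p q
  let β : M₁ ⟶ Y := m₁ ≫ pullback.snd (x ≫ pullback.fst p q) (y ≫ pullback.fst p q) ≫ y ≫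
    pullback.snd p q
  obtain ⟨M₂, m₂, hM₂, hm₂⟩ := cv_equalizer H hM₁ hY α β
  haveI := hm₂
  have hcw : pullback.fst x y ≫ x ≫ pullback.fst p q = pullback.snd x y ≫ y ≫ pullback.fst p q := by
    rw [← Category.assoc, pullback.condition, Category.assoc]
  let c : pullback x y ⟶ W₁ := pullback.lift (pullback.fst x y) (pullback.snd x y) hcw
  have hc1 : c ≫ pullback.fst (x ≫ pullback.fst p q) (y ≫ pullback.fst p q) = pullback.fst x y :=
    pullback.lift_fst _ _ _
  have hc2 : c ≫ pullback.snd (x ≫ pullback.fst p q) (y ≫ pullback.fst p q) = pullback.snd x y :=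
    pullback.lift_snd _ _ _
  haveI : Mono c := ⟨fun {Z'} u v huv => by
    apply pullback.hom_ext
    · rw [← hc1, ← Category.assoc, huv, Category.assoc]
    · rw [← hc2, ← Category.assoc, huv, Category.assoc]⟩
  have hw : (equalizer.ι α β ≫ m₁ ≫
        pullback.fst (x ≫ pullback.fst p q) (y ≫ pullback.fst p q)) ≫ x =
      (equalizer.ι α β ≫ m₁ ≫
        pullback.snd (x ≫ pullback.fst p q) (y ≫ pullback.fst p q)) ≫ y := by
    apply pullback.hom_ext
    · simp only [Category.assoc]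
      rw [pullback.condition]
    · have e := equalizer.condition α β
      simp only [Category.assoc]
      exact e
  let θ : equalizer α β ⟶ pullback x y := pullback.lift _ _ hw
  have hθ1 : θ ≫ pullback.fst x y = equalizer.ι α β ≫ m₁ ≫
      pullback.fst (x ≫ pullback.fst p q) (y ≫ pullback.fst p q) := pullback.lift_fst _ _ _
  have hθ2 : θ ≫ pullback.snd x y = equalizer.ι α β ≫ m₁ ≫
      pullback.snd (x ≫ pullback.fst p q) (y ≫ pullback.fst p q) := pullback.lift_snd _ _ _
  have sq : IsPullback θ (equalizer.ι α β) c m₁ := by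
    refine isPullback_equalizer α β c m₁ θ ?_ ?_
    · apply pullback.hom_ext
      · rw [Category.assoc, hc1, hθ1, Category.assoc]
      · rw [Category.assoc, hc2, hθ2, Category.assoc]
    · intro Z' u v huv
      have e1 : v ≫ m₁ ≫ pullback.fst (x ≫ pullback.fst p q) (y ≫ pullback.fst p q) =
          u ≫ pullback.fst x y := by
        rw [← hc1, ← Category.assoc, ← Category.assoc, huv]
      have e2 : v ≫ m₁ ≫ pullback.snd (x ≫ pullback.fst p q) (y ≫ pullback.fst p q) =
          u ≫ pullback.snd x y := by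
        rw [← hc2, ← Category.assoc, ← Category.assoc, huv]
      calc v ≫ α = (v ≫ m₁ ≫ pullback.fst (x ≫ pullback.fst p q) (y ≫ pullback.fst p q)) ≫ x ≫
            pullback.snd p q := by simp only [α, Category.assoc]
        _ = (u ≫ pullback.fst x y) ≫ x ≫ pullback.snd p q := by rw [e1]
        _ = (u ≫ pullback.snd x y) ≫ y ≫ pullback.snd p q := by
            simp only [Category.assoc]
            rw [← Category.assoc (pullback.fst x y), pullback.condition, Category.assoc]
        _ = (v ≫ m₁ ≫ pullback.snd (x ≫ pullback.fst p q) (y ≫ pullback.fst p q)) ≫ y ≫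
            pullback.snd p q := by rw [e2]
        _ = v ≫ β := by simp only [β, Category.assoc]
  haveI : Epi θ := epi_fst_of_isPullback sq
  exact ⟨M₂, m₂ ≫ θ, hM₂, epi_comp m₂ θ⟩

/-- `S`-coherence is invariant under isomorphism -/
theorem tc_of_iso {T T' : Sh J} (e : T ≅ T') (h : Tc S T) : Tc S T' := by
  refine ⟨h.1.of_epi e.hom, ?_⟩
  intro K K' x y hK hK'
  have h1 := h.2 K K' (x ≫ e.inv) (y ≫ e.inv) hK hK'
  have hw : pullback.fst (x ≫ e.inv) (y ≫ e.inv) ≫ x = pullback.snd (x ≫ e.inv) (y ≫ e.inv) ≫ y := by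
    rw [← cancel_mono e.inv, Category.assoc, Category.assoc]
    exact pullback.condition
  let r : pullback (x ≫ e.inv) (y ≫ e.inv) ⟶ pullback x y := pullback.lift _ _ hw
  have hw' : pullback.fst x y ≫ x ≫ e.inv = pullback.snd x y ≫ y ≫ e.inv := by
    rw [← Category.assoc, pullback.condition, Category.assoc]
  let σ : pullback x y ⟶ pullback (x ≫ e.inv) (y ≫ e.inv) := pullback.lift _ _ hw'
  have hσr : σ ≫ r = 𝟙 _ := by
    apply pullback.hom_ext
    · rw [Category.assoc, pullback.lift_fst, pullback.lift_fst, Category.id_comp]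
    · rw [Category.assoc, pullback.lift_snd, pullback.lift_snd, Category.id_comp]
  haveI : Epi r := epi_of_epi_fac hσr
  exact h1.of_epi r

/-- the terms of the Čech nerve of a morphism of `S`-coherent objects are `S`-coherent -/
theorem tc_nerve (H : Hyp S) {K' K : Sh J} (f : K' ⟶ K) (hK' : Tc S K') (hK : Tc S K) :
    ∀ n : ℕ, Tc S (nerve f n) := by
  intro n
  induction n with
  | zero =>
    haveI := isIso_pi_zero f
    exact tc_of_iso (asIso (pi f 0 0)).symm hK'
  | succ n ih =>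
    exact tc_of_iso (nerve_sq f n).isoPullback.symm (tc_pullback H ih hK' hK (bs f n) f)

end H9FE.TfSCoh
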