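import Mathlib
import Groth.Agent.Lib.Helper9.FE.TfCoh

/-! helper9: application of `TfCoh.preserves_HK_coherent`: cohomology of a coherent topos commutes
with filtered colimits. -/

set_option autoImplicit false
set_option linter.unusedSectionVars false
set_option linter.style.haveILetI false
set_option backward.isDefEq.respectTransparency false
universe u
open CategoryTheory CategoryTheory.Limits Opposite

namespace H9FE.TfTop

open Groth.Agent.Helper3 Groth.Agent.Helper3.TCech H9FE.TfCoh
open ToposFin (Sh IsCoherent IsAlgebraic)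

variable {C : Type u} [SmallCategory C] {J : GrothendieckTopology C}

variable (J) in
/-- the constant sheaf of sets with value a point -/
noncomputable abbrev ptSh : Sh J :=
  ⟨(Functor.const Cᵒᵖ).obj PUnit.{u + 1}, Presheaf.isSheaf_of_isTerminal J Types.isTerminalPUnit⟩

variable (J) in
/-- the point sheaf is terminal -/
noncomputable def ptShIsTerminal : IsTerminal (ptSh J) :=
  IsTerminal.ofUniqueHom
    (fun X => ⟨{ app := fun V => TypeCat.ofHom (fun _ => PUnit.unit)
                 naturality := fun _ _ _ => rfl }⟩)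
    (fun X m => by
      apply Sheaf.hom_ext
      ext V x
      exact @Subsingleton.elim PUnit.{u + 1} _ _ _)

variable (J) in
/-- the final object is the point sheaf -/
noncomputable def topIso : ⊤_ (Sh J) ≅ ptSh J := terminalIsTerminal.uniqueUpToIso (ptShIsTerminal J)

/-- the group of integers is free on a point -/
noncomputable def e0 : AddCommGrpCat.of (ULift.{u} ℤ) ≅ AddCommGrpCat.free.{u}.obj PUnit.{u + 1} :=
  AddEquiv.toAddCommGrpIso (AddEquiv.ulift.trans (FreeAbelianGroup.uniqueEquiv PUnit.{u + 1}).symm)

variable (J) in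
/-- the free abelian sheaf on the final object is the constant sheaf of integers -/
noncomputable def zIso : L.obj (⊤_ (Sh J)) ≅
    (constantSheaf J AddCommGrpCat.{u}).obj (AddCommGrpCat.of (ULift.{u} ℤ)) :=
  L.mapIso (topIso J) ≪≫ (presheafToSheaf J AddCommGrpCat.{u}).mapIso
    (Functor.constComp Cᵒᵖ PUnit.{u + 1} AddCommGrpCat.free.{u} ≪≫
      (Functor.const Cᵒᵖ).mapIso e0.symm)

/-- cohomology of a coherent topos commutes with filtered colimits -/
theorem preserves_functorH (hE : IsAlgebraic J) (hT : IsCoherent (⊤_ (Sh J)))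
    (Λ : Type u) [SmallCategory Λ] [IsFiltered Λ] (q : ℕ) :
    PreservesColimitsOfShape Λ
      (Sheaf.functorH J q : Sheaf J AddCommGrpCat.{u} ⥤ AddCommGrpCat.{u}) := by
  haveI := preserves_HK_coherent hE (⊤_ (Sh J)) hT Λ q
  let e1 : ToposFin.HKFunctor (⊤_ (Sh J)) q ≅ (Abelian.extFunctor.{u} q).obj
      (op ((constantSheaf J AddCommGrpCat.{u}).obj (AddCommGrpCat.of (ULift.{u} ℤ)))) :=
    (Abelian.extFunctor.{u} q).mapIso (zIso J).symm.op
  haveI : PreservesColimitsOfShape Λ ((Abelian.extFunctor.{u} q).obj
      (op ((constantSheaf J AddCommGrpCat.{u}).obj (AddCommGrpCat.of (ULift.{u} ℤ))))) :=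
    preservesColimitsOfShape_of_natIso e1
  let e2 : (Abelian.extFunctor.{u} q).obj
      (op ((constantSheaf J AddCommGrpCat.{u}).obj (AddCommGrpCat.of (ULift.{u} ℤ)))) ≅
      (Sheaf.functorH J q : Sheaf J AddCommGrpCat.{u} ⥤ AddCommGrpCat.{u}) :=
    NatIso.ofComponents (fun F => Iso.refl _) (fun f => by
      rw [Iso.refl_hom, Iso.refl_hom, Category.comp_id, Category.id_comp]
      rfl)
  exact preservesColimitsOfShape_of_natIso e2

end H9FE.TfTop
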