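import Mathlib
import Groth.Agent.Lib.Helper9.FE.TfSCoh
import Groth.Agent.Lib.Helper9.FE.TfLocCoh
import Groth.Agent.Lib.Helper9.FE.TfTop

/-! helper9: the class of `S`-coherent objects of `TfSCoh` is admissible and consists of objects of
finite presentation; hence the cohomology of the topos commutes with filtered colimits when the
final object is `S`-coherent. -/

set_option autoImplicit false
set_option linter.unusedSectionVars false
set_option linter.style.haveILetI false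
set_option backward.isDefEq.respectTransparency false
universe u
open CategoryTheory CategoryTheory.Limits Opposite

namespace H9FE.TfSCoh

open Helper5.TFin H9FE.TfColim H9FE.TfCoh H9FE.TfLocCoh Groth.Agent.Helper3.TCech
open ToposFin (Sh IsQC)

variable {C : Type u} [SmallCategory C] {J : GrothendieckTopology C} {S : Set (Sh J)}

/-- `Hom(X, -)` is surjective on filtered colimits for `S`-coherent `X` -/
theorem hSurj_of_tc (H : Hyp S) {X : Sh J} (hX : Tc S X) : HSurj X := by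
  classical
  intro I _ _ D φ
  obtain ⟨⟨K, k₀, hK, hk₀⟩, hb⟩ := hX
  haveI := hk₀
  have h1 : JE (fun j => pullback.snd (colimit.ι D j) (k₀ ≫ φ)) :=
    (je_colimit_ι D).pullback' (k₀ ≫ φ)
  let P : I → Sh J := fun j => pullback (colimit.ι D j) (k₀ ≫ φ)
  let c : ∐ P ⟶ K := Sigma.desc (fun j => pullback.snd (colimit.ι D j) (k₀ ≫ φ))
  have hιc : ∀ j, Sigma.ι P j ≫ c = pullback.snd (colimit.ι D j) (k₀ ≫ φ) :=
    fun j => Sigma.ι_desc _ j
  have hc : Epi c := (epi_sigmaDesc_iff _).2 h1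
  obtain ⟨K', k, hK', hkc⟩ := H.h2 (∐ P) K c hK hc
  haveI := hkc
  have hSg : DisjCover (Sigma.ι P) :=
    disjCover_of_isColimit (Cofan.mk (∐ P) (Sigma.ι P)) (coproductIsCoproduct P)
  have hG := hSg.pullback k
  obtain ⟨s, hs⟩ := exists_finset_of_isQC (H.h5 K' hK')
    (fun j => pullback.snd (Sigma.ι P j) k) hG.je
  have hGs : DisjCover (fun j : s => pullback.snd (Sigma.ι P j) k) :=
    ⟨hs, fun j => hG.mono j, fun i j hij Q p₁ p₂ hp =>
      hG.disj i j (fun h => hij (Subtype.ext h)) Q p₁ p₂ hp⟩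
  obtain ⟨hcol⟩ := isColimit_of_disjCover (fun j : s => pullback.snd (Sigma.ι P j) k) hGs
  obtain ⟨j₀, hj₀⟩ := IsFiltered.sup_objs_exists (s : Finset I)
  have hu : ∀ j : s, Nonempty ((j : I) ⟶ j₀) := fun j => hj₀ j.2
  let w : ∀ j : s, (j : I) ⟶ j₀ := fun j => (hu j).some
  let q' : K' ⟶ D.obj j₀ := Cofan.IsColimit.desc hcol
    (fun j : s => pullback.fst (Sigma.ι P j) k ≫ pullback.fst (colimit.ι D j) (k₀ ≫ φ) ≫
      D.map (w j))
  have hq'v : ∀ j : s, pullback.snd (Sigma.ι P j) k ≫ q' =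
      pullback.fst (Sigma.ι P j) k ≫ pullback.fst (colimit.ι D j) (k₀ ≫ φ) ≫ D.map (w j) :=
    fun j => Cofan.IsColimit.fac hcol _ j
  obtain ⟨p', hp'def⟩ : ∃ p' : K' ⟶ X, p' = (k ≫ c) ≫ k₀ := ⟨_, rfl⟩
  have hp' : Epi p' := by
    rw [hp'def]
    exact epi_comp _ _
  have hq : q' ≫ colimit.ι D j₀ = p' ≫ φ := by
    refine Cofan.IsColimit.hom_ext hcol _ _ (fun j => ?_)
    show pullback.snd (Sigma.ι P j) k ≫ q' ≫ colimit.ι D j₀ =
      pullback.snd (Sigma.ι P j) k ≫ p' ≫ φ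
    calc pullback.snd (Sigma.ι P j) k ≫ q' ≫ colimit.ι D j₀
        = (pullback.snd (Sigma.ι P j) k ≫ q') ≫ colimit.ι D j₀ := by
          simp only [Category.assoc]
      _ = (pullback.fst (Sigma.ι P j) k ≫ pullback.fst (colimit.ι D j) (k₀ ≫ φ) ≫
            D.map (w j)) ≫ colimit.ι D j₀ := by rw [hq'v]
      _ = pullback.fst (Sigma.ι P j) k ≫ pullback.fst (colimit.ι D j) (k₀ ≫ φ) ≫
            colimit.ι D j := by
          simp only [Category.assoc]
          rw [colimit.w]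
      _ = pullback.fst (Sigma.ι P j) k ≫ pullback.snd (colimit.ι D j) (k₀ ≫ φ) ≫ k₀ ≫ φ := by
          rw [pullback.condition]
      _ = pullback.fst (Sigma.ι P j) k ≫ (Sigma.ι P j ≫ c) ≫ k₀ ≫ φ := by rw [hιc]
      _ = (pullback.fst (Sigma.ι P j) k ≫ Sigma.ι P j) ≫ c ≫ k₀ ≫ φ := by
          simp only [Category.assoc]
      _ = (pullback.snd (Sigma.ι P j) k ≫ k) ≫ c ≫ k₀ ≫ φ := by rw [pullback.condition]
      _ = pullback.snd (Sigma.ι P j) k ≫ p' ≫ φ := by simp only [hp'def, Category.assoc]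
  obtain ⟨M, m, hM, hm⟩ := hb K' K' p' p' hK' hK'
  haveI := hm
  have hR : IsQC (pullback p' p') := isQC_of_epi m (H.h5 M hM)
  have hr : (pullback.fst p' p' ≫ q') ≫ colimit.ι D j₀ =
      (pullback.snd p' p' ≫ q') ≫ colimit.ι D j₀ := by
    rw [Category.assoc, Category.assoc, hq, ← Category.assoc, ← Category.assoc,
      pullback.condition]
  obtain ⟨j₁, t, ht⟩ := exists_eq_of_isQC D hR _ _ hr
  haveI := hp'
  obtain ⟨g, hg⟩ := exists_desc_of_epi p' (q' ≫ D.map t) (by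
    rw [← Category.assoc, ← Category.assoc]
    exact ht)
  refine ⟨j₁, g, ?_⟩
  rw [← cancel_epi p', ← Category.assoc, hg, Category.assoc, colimit.w, hq]

/-- the `S`-coherent objects form an admissible class -/
theorem adm_tc (H : Hyp S) : Adm {T : Sh J | Tc S T} := by
  refine ⟨?_, fun K' K f hK' hK _ n => tc_nerve H f hK' hK n⟩
  intro K G g hK hg
  obtain ⟨⟨K₀, k₀, hK₀, hk₀⟩, -⟩ := (hK : Tc S K)
  haveI := hg
  haveI := hk₀
  have hsnd : Epi (pullback.snd g k₀) := epi_snd_of_isPullback (IsPullback.of_hasPullback g k₀)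
  obtain ⟨K', k, hK', hk⟩ := H.h2 (pullback g k₀) K₀ (pullback.snd g k₀) hK₀ hsnd
  refine ⟨K', k ≫ pullback.fst g k₀, tc_of_mem H hK', ?_⟩
  have e : (k ≫ pullback.fst g k₀) ≫ g = (k ≫ pullback.snd g k₀) ≫ k₀ := by
    rw [Category.assoc, Category.assoc, pullback.condition]
  rw [e]
  haveI := hk
  exact epi_comp _ _

/-- `S`-coherent objects are of finite presentation -/
theorem fp_tc (H : Hyp S) (T : Sh J) (hT : T ∈ {T : Sh J | Tc S T}) : HInj T ∧ HSurj T :=
  ⟨hInj_of_isQC (isQC_of_cv H (hT : Tc S T).1), hSurj_of_tc H hT⟩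

/-- the final object is `S`-coherent when it is covered by a member -/
theorem tc_top (H : Hyp S) (h1 : ∃ K ∈ S, Epi (terminal.from K)) : Tc S (⊤_ (Sh J)) := by
  obtain ⟨K₀, hK₀, hk₀⟩ := h1
  refine ⟨⟨K₀, terminal.from K₀, hK₀, hk₀⟩, ?_⟩
  intro K K' x y hK hK'
  obtain ⟨K'', g, hK'', hg⟩ := H.h3 K hK K' hK'
  haveI := hg
  let r : K ⨯ K' ⟶ pullback x y := pullback.lift prod.fst prod.snd (Subsingleton.elim _ _)
  let σ : pullback x y ⟶ K ⨯ K' := prod.lift (pullback.fst x y) (pullback.snd x y)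
  have hσr : σ ≫ r = 𝟙 _ := by
    apply pullback.hom_ext
    · rw [Category.assoc, pullback.lift_fst, prod.lift_fst, Category.id_comp]
    · rw [Category.assoc, pullback.lift_snd, prod.lift_snd, Category.id_comp]
  haveI : Epi r := epi_of_epi_fac hσr
  exact ⟨K'', g ≫ r, hK'', epi_comp g r⟩

/-- the quasi-compactness notion of `Def_CohCx` implies that of `Def_SGA4c` -/
lemma isQC_of_isQcObject {K : Sh J} (h : CohCx.IsQcObject K) : IsQC K := by
  rw [isQC_iff]
  intro ι F π hπ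
  have h1 : CohCx.JointlySurjective π := by
    intro U s
    exact ⟨liftSieve π s, (je_iff_jls π).1 hπ U s, fun V g hg => hg⟩
  obtain ⟨t, ht⟩ := h ι F π h1
  refine ⟨t, (je_iff_jls _).2 ?_⟩
  intro U s
  obtain ⟨R, hR, hR'⟩ := ht U s
  refine J.superset_covering ?_ hR
  intro V g hg
  exact hR' V g hg

/-- the cohomology of the topos commutes with filtered colimits -/
theorem preserves_functorH (S : Set (Sh J))
    (h1 : ∃ K ∈ S, Epi (terminal.from K))
    (h2 : ∀ (F : Sheaf J (Type u)) (K : Sheaf J (Type u)) (g : F ⟶ K), K ∈ S → Epi g →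
      ∃ (K' : Sheaf J (Type u)) (k : K' ⟶ F), K' ∈ S ∧ Epi (k ≫ g))
    (h3 : ∀ K ∈ S, ∀ K' ∈ S, ∃ (K'' : Sheaf J (Type u)) (g : K'' ⟶ K ⨯ K'), K'' ∈ S ∧ Epi g)
    (h4 : ∀ K ∈ S, ∀ K' ∈ S, ∀ (a b : K ⟶ K'),
      ∃ (K'' : Sheaf J (Type u)) (g : K'' ⟶ equalizer a b), K'' ∈ S ∧ Epi g)
    (h5 : ∀ K ∈ S, CohCx.IsQcObject K)
    (Λ : Type u) [SmallCategory Λ] [IsFiltered Λ] (p : ℕ) :
    PreservesColimitsOfShape Λ
      (Sheaf.functorH J p : Sheaf J AddCommGrpCat.{u} ⥤ AddCommGrpCat.{u}) := by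
  have H : Hyp S := ⟨h2, h3, h4, fun K hK => isQC_of_isQcObject (h5 K hK)⟩
  haveI : PreservesColimitsOfShape Λ
      ((Abelian.extFunctor.{u} p).obj (op (L.obj (⊤_ (Sh J))))) :=
    preserves_HK (adm_tc H) (fp_tc H) (⊤_ (Sh J)) (tc_top H h1) p
  let e1 : (Abelian.extFunctor.{u} p).obj (op (L.obj (⊤_ (Sh J)))) ≅
      (Abelian.extFunctor.{u} p).obj
        (op ((constantSheaf J AddCommGrpCat.{u}).obj (AddCommGrpCat.of (ULift.{u} ℤ)))) :=
    (Abelian.extFunctor.{u} p).mapIso (TfTop.zIso J).symm.op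
  haveI : PreservesColimitsOfShape Λ ((Abelian.extFunctor.{u} p).obj
      (op ((constantSheaf J AddCommGrpCat.{u}).obj (AddCommGrpCat.of (ULift.{u} ℤ))))) :=
    preservesColimitsOfShape_of_natIso e1
  let e2 : (Abelian.extFunctor.{u} p).obj
      (op ((constantSheaf J AddCommGrpCat.{u}).obj (AddCommGrpCat.of (ULift.{u} ℤ)))) ≅
      (Sheaf.functorH J p : Sheaf J AddCommGrpCat.{u} ⥤ AddCommGrpCat.{u}) :=
    NatIso.ofComponents (fun F => Iso.refl _) (fun f => by
      rw [Iso.refl_hom, Iso.refl_hom, Category.comp_id, Category.id_comp]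
      rfl)
  exact preservesColimitsOfShape_of_natIso e2

end H9FE.TfSCoh
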