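import Mathlib
import Groth.Agent.Lib.Helper9.FE.TfCoh

/-! helper9: cohomology with supports in the closed complement of a coherent open of a coherent
topos commutes with filtered colimits: dimension shifting (`ExtFilteredColim.hsurj_hinj`) for the
quotient `ℤ/ℤ_U` of `ℤ[⊤]` by `ℤ[U]`. -/

set_option autoImplicit false
set_option linter.unusedSectionVars false
set_option linter.style.haveILetI false
set_option backward.isDefEq.respectTransparency false
universe w' w v u
open CategoryTheory CategoryTheory.Limits Opposite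

namespace H9FE.TfSupp

open H9FE.ExtFilteredColim Abelian

section General

variable {𝒜 : Type u} [Category.{v} 𝒜] [Abelian 𝒜] [HasExt.{w'} 𝒜] [EnoughInjectives 𝒜]
  {Λ : Type w} [SmallCategory Λ] [IsFiltered Λ] [HasProducts.{w} 𝒜]
  [HasColimitsOfShape Λ 𝒜] [HasExactColimitsOfShape Λ 𝒜]

/-- `Hom(Z, -)` commutes with the filtered colimit of `D`, in elementary terms -/
structure G0 (Z : 𝒜) (D : Λ ⥤ 𝒜) : Prop where
  surj : ∀ x : Z ⟶ colimit D, ∃ (j : Λ) (y : Z ⟶ D.obj j), y ≫ colimit.ι D j = x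
  inj : ∀ (j : Λ) (y : Z ⟶ D.obj j), y ≫ colimit.ι D j = 0 →
    ∃ (k : Λ) (f : j ⟶ k), y ≫ D.map f = 0

theorem g0_quot (S : ShortComplex 𝒜) (hS : S.ShortExact) (D : Λ ⥤ 𝒜)
    (h1 : G0 S.X₁ D) (h2 : G0 S.X₂ D) : G0 S.X₃ D := by
  haveI := hS.epi_g
  refine ⟨?_, ?_⟩
  · intro φ
    obtain ⟨j, y, hy⟩ := h2.surj (S.g ≫ φ)
    have h0 : (S.f ≫ y) ≫ colimit.ι D j = 0 := by
      rw [Category.assoc, hy, ← Category.assoc, S.zero, zero_comp]
    obtain ⟨k, f, hf⟩ := h1.inj j (S.f ≫ y) h0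
    have hf' : S.f ≫ (y ≫ D.map f) = 0 := by
      rw [← Category.assoc]
      exact hf
    refine ⟨k, hS.exact.desc (y ≫ D.map f) hf', ?_⟩
    rw [← cancel_epi S.g, ← Category.assoc, hS.exact.g_desc, Category.assoc, colimit.w]
    exact hy
  · intro j z hz
    have h0 : (S.g ≫ z) ≫ colimit.ι D j = 0 := by
      rw [Category.assoc, hz, comp_zero]
    obtain ⟨k, f, hf⟩ := h2.inj j (S.g ≫ z) h0
    refine ⟨k, f, ?_⟩
    rw [← cancel_epi S.g, comp_zero, ← Category.assoc]
    exact hf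

theorem hs_hi_zero_of_g0 (Z : 𝒜) (D : Λ ⥤ 𝒜) (h : G0 Z D) :
    HSurj.{w'} Z D 0 ∧ HInj.{w'} Z D 0 := by
  refine ⟨?_, ?_⟩
  · intro x
    obtain ⟨φ, rfl⟩ := (Ext.mk₀_bijective _ _).2 x
    obtain ⟨j, y, hy⟩ := h.surj φ
    refine ⟨j, Ext.mk₀ y, ?_⟩
    unfold push
    rw [Ext.mk₀_comp_mk₀, hy]
  · intro j y hy
    obtain ⟨φ, rfl⟩ := (Ext.mk₀_bijective _ _).2 y
    have h1 : Ext.mk₀ (φ ≫ colimit.ι D j) = 0 := by
      rw [← Ext.mk₀_comp_mk₀]
      exact hy
    have h2 : φ ≫ colimit.ι D j = 0 :=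
      (Ext.mk₀_bijective _ _).1 (h1.trans (Ext.mk₀_zero _ _).symm)
    obtain ⟨k, f, hf⟩ := h.inj j φ h2
    refine ⟨k, f, ?_⟩
    unfold push
    rw [Ext.mk₀_comp_mk₀, hf, Ext.mk₀_zero]

/-- two-out-of-three for commutation of `Ext` with filtered colimits along a short exact sequence
in the first variable -/
theorem hsurj_hinj_quot (S : ShortComplex 𝒜) (hS : S.ShortExact)
    (h1 : ∀ D : Λ ⥤ 𝒜, G0 S.X₁ D) (h2 : ∀ D : Λ ⥤ 𝒜, G0 S.X₂ D)
    (a1 : ∀ I : Λ ⥤ 𝒜, (∀ j, Injective (I.obj j)) →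
      ∀ (n : ℕ) (x : Ext.{w'} S.X₁ (colimit I) (n + 1)), x = 0)
    (a2 : ∀ I : Λ ⥤ 𝒜, (∀ j, Injective (I.obj j)) →
      ∀ (n : ℕ) (x : Ext.{w'} S.X₂ (colimit I) (n + 1)), x = 0) :
    ∀ (n : ℕ) (D : Λ ⥤ 𝒜), HSurj.{w'} S.X₃ D n ∧ HInj.{w'} S.X₃ D n := by
  refine hsurj_hinj (fun D => hs_hi_zero_of_g0 _ D (g0_quot S hS D (h1 D) (h2 D))) ?_
  intro I hI n x
  have hx2 : (Ext.mk₀ S.g).comp x (zero_add (n + 1)) = 0 := a2 I hI n _
  cases n with
  | zero =>
    obtain ⟨x₁, hx₁⟩ := Ext.contravariant_sequence_exact₃ hS (colimit I) x hx2 (n₀ := 0)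
      (by norm_num)
    obtain ⟨ψ, rfl⟩ := (Ext.mk₀_bijective _ _).2 x₁
    obtain ⟨j, y, hy⟩ := (h1 I).surj ψ
    haveI := hI j
    haveI := hS.mono_f
    have hy' : S.f ≫ Injective.factorThru y S.f = y := Injective.comp_factorThru y S.f
    have h3 : Ext.mk₀ ψ = (Ext.mk₀ S.f).comp
        (Ext.mk₀ (Injective.factorThru y S.f ≫ colimit.ι I j)) (zero_add 0) := by
      rw [Ext.mk₀_comp_mk₀, ← Category.assoc, hy', hy]
    rw [← hx₁, h3]
    exact hS.extClass_comp_assoc _
  | succ n =>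
    obtain ⟨x₁, hx₁⟩ := Ext.contravariant_sequence_exact₃ hS (colimit I) x hx2 (n₀ := n + 1)
      (by omega)
    rw [← hx₁, a1 I hI n x₁, Ext.comp_zero]

end General

section Sheaf

open Groth.Agent.Helper3 Groth.Agent.Helper3.TCech H9FE.TfColim H9FE.TfCoh
open ToposFin (Sh IsCoherent IsAlgebraic)

universe t

variable {C : Type t} [SmallCategory C] {J : GrothendieckTopology C}

lemma free_map_injective {X Y : Type t} (f : X → Y) (hf : Function.Injective f) :
    Function.Injective (FreeAbelianGroup.map f) := by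
  rcases isEmpty_or_nonempty X with hX | hX
  · exact Function.injective_of_subsingleton _
  · have hl : Function.LeftInverse (Function.invFun f) f := Function.leftInverse_invFun hf
    have h : Function.LeftInverse (FreeAbelianGroup.map (Function.invFun f))
        (FreeAbelianGroup.map f) := by
      intro x
      rw [← AddMonoidHom.comp_apply, ← FreeAbelianGroup.map_comp, hl.comp_eq_id,
        FreeAbelianGroup.map_id]
      rfl
    exact h.injective

/-- the free abelian sheaf functor preserves monomorphisms -/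
lemma mono_L_map {X Y : Sh J} (g : X ⟶ Y) [Mono g] : Mono (L.map g) := by
  have h1 : Mono ((sheafToPresheaf J (Type t)).map g) := inferInstance
  have h1' : Mono g.hom := h1
  have h2 : ∀ V : Cᵒᵖ, Function.Injective (g.hom.app V) := by
    intro V
    have : Mono (g.hom.app V) := (NatTrans.mono_iff_mono_app g.hom).1 h1' V
    exact (mono_iff_injective _).1 this
  have h3 : Mono (Functor.whiskerRight g.hom AddCommGrpCat.free.{t}) := by
    haveI : ∀ V, Mono ((Functor.whiskerRight g.hom AddCommGrpCat.free.{t}).app V) := by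
      intro V
      rw [AddCommGrpCat.mono_iff_injective]
      exact free_map_injective _ (h2 V)
    exact NatTrans.mono_of_mono_app _
  exact (presheafToSheaf J AddCommGrpCat.{t}).map_mono
    (Functor.whiskerRight g.hom AddCommGrpCat.free.{t})

variable {Λ : Type t} [SmallCategory Λ] [IsFiltered Λ]

/-- the elementary form of commutation with filtered colimits gives preservation of colimits -/
theorem preserves_of_hsurj_hinj (Z : Sheaf J AddCommGrpCat.{t}) (q : ℕ)
    (h : ∀ D : Λ ⥤ Sheaf J AddCommGrpCat.{t}, HSurj.{t} Z D q ∧ HInj.{t} Z D q) :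
    PreservesColimitsOfShape Λ ((Abelian.extFunctor.{t} q).obj (op Z)) := by
  constructor
  intro D
  apply preservesColimit_of_preserves_colimit_cocone (colimit.isColimit D)
  haveI : ReflectsColimitsOfShape Λ (forget AddCommGrpCat.{t}) :=
    reflectsColimitsOfShape_of_reflectsIsomorphisms
  apply isColimitOfReflects (forget AddCommGrpCat.{t})
  obtain ⟨hs, hi⟩ := h D
  apply Types.FilteredColimit.isColimitOf'
  · intro x
    obtain ⟨j, y, hy⟩ := hs x
    exact ⟨j, y, hy.symm⟩
  · intro i x y hxy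
    have hxy' : push (colimit.ι D i) (x : Abelian.Ext.{t} Z (D.obj i) q) =
      push (colimit.ι D i) (y : Abelian.Ext.{t} Z (D.obj i) q) := hxy
    have h0 : push (colimit.ι D i) ((x : Abelian.Ext.{t} Z (D.obj i) q) - y) = 0 := by
      rw [push_sub, hxy', sub_self]
    obtain ⟨k, f, hf⟩ := hi i _ h0
    refine ⟨k, f, ?_⟩
    rw [push_sub, sub_eq_zero] at hf
    exact hf

/-- cohomology with supports in the complement of a coherent open of a coherent topos commutes
with filtered colimits -/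
theorem preserves_HZ (hE : IsAlgebraic J) (hT : IsCoherent (⊤_ (Sh J))) (U : Sh J)
    [Mono (terminal.from U)] (hU : IsCoherent U) (q : ℕ) :
    PreservesColimitsOfShape Λ (ToposFin.HZFunctor U q) := by
  haveI : Mono (L.map (terminal.from U)) := mono_L_map _
  let S : ShortComplex (Sheaf J AddCommGrpCat.{t}) :=
    ShortComplex.mk (L.map (terminal.from U)) (cokernel.π (L.map (terminal.from U)))
      (cokernel.condition _)
  have hS : S.ShortExact :=
    { exact := ShortComplex.exact_cokernel _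
      mono_f := by dsimp [S]; infer_instance
      epi_g := by dsimp [S]; infer_instance }
  have h𝒮 := adm_coherent hE
  have hfp := fp_coherent hE
  have g0 : ∀ (T : Sh J), IsCoherent T → ∀ D : Λ ⥤ Sheaf J AddCommGrpCat.{t},
      G0 (L.obj T) D := by
    intro T hT D
    have h := h0_of_fp (hfp T hT).1 (hfp T hT).2 D
    exact ⟨h.surj, h.inj⟩
  have acy : ∀ (T : Sh J), IsCoherent T → ∀ I : Λ ⥤ Sheaf J AddCommGrpCat.{t},
      (∀ j, Injective (I.obj j)) →
      ∀ (n : ℕ) (x : Ext.{t} (L.obj T) (colimit I) (n + 1)), x = 0 := by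
    intro T hT I hI n x
    exact ext_eq_zero_of_pcS h𝒮 T hT n (colimit I) (pcS_colimit h𝒮 I hI
      (fun T' hT' => h0_of_fp (hfp T' hT').1 (hfp T' hT').2 I)) x
  have key := hsurj_hinj_quot S hS (g0 U hU) (g0 _ hT) (acy U hU) (acy _ hT)
  exact preserves_of_hsurj_hinj S.X₃ q (fun D => key q D)

end Sheaf

end H9FE.TfSupp
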