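import Mathlib
import Groth.Prelude.Def_FEt
import Groth.Agent.S0239
import Groth.Agent.Lib.Helper7.Hensel.SmallerIdeal

/-! helper9: essential surjectivity of restriction of finite étale covers along a thickening
with affine target (nil ideals are henselian), and transport of essential surjectivity. -/

open CategoryTheory CategoryTheory.Limits AlgebraicGeometry MorphismProperty
universe u
set_option linter.style.haveILetI false
set_option linter.unusedSectionVars false
set_option backward.isDefEq.respectTransparency false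
namespace H9FE

theorem henselianRing_of_nil {A : Type u} [CommRing A] (I : Ideal A)
    (hI : I ≤ nilradical A) : HenselianRing A I := by
  have h0 : HenselianRing A (⊥ : Ideal A) :=
    { jac := bot_le
      is_henselian := fun f _ a₀ h₁ _ => ⟨a₀, by simpa using h₁, by simp⟩ }
  apply Groth.Agent.Helper7.Hensel.henselianRing_of_radical_eq h0
  apply le_antisymm
  · exact Ideal.radical_mono bot_le
  · have : I.radical ≤ (nilradical A).radical := Ideal.radical_mono hI
    rw [nilradical, Ideal.radical_idem] at this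
    exact this

/-- transport of essential surjectivity along isomorphisms of arrows -/
theorem restrict_essSurj_of_iso {X X' X₀ X₀' : Scheme.{u}} (i : X ⟶ X') (i₀ : X₀ ⟶ X₀')
    (e : X ≅ X₀) (e' : X' ≅ X₀') (hc : i ≫ e'.hom = e.hom ≫ i₀)
    (h : (FEt.restrict i₀).EssSurj) : (FEt.restrict i).EssSurj := by
  refine ⟨fun U => ?_⟩
  have hU : FEt.prop (U.hom ≫ e.hom) :=
    FEt.prop.comp_mem _ _ U.prop ⟨inferInstance, inferInstance⟩
  let U₀ : FEt.Cat X₀ := MorphismProperty.Over.mk ⊤ (U.hom ≫ e.hom) hU
  obtain ⟨V₀, ⟨ψ⟩⟩ := h.mem_essImage U₀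
  have hV : FEt.prop (V₀.hom ≫ e'.inv) :=
    FEt.prop.comp_mem _ _ V₀.prop ⟨inferInstance, inferInstance⟩
  let V : FEt.Cat X' := MorphismProperty.Over.mk ⊤ (V₀.hom ≫ e'.inv) hV
  have hψ : ψ.hom.left ≫ U.hom ≫ e.hom = pullback.snd V₀.hom i₀ :=
    MorphismProperty.Over.w ψ.hom
  have hc' : i ≫ e'.hom = e.hom ≫ i₀ := hc
  let κ : pullback (V₀.hom ≫ e'.inv) i ⟶ pullback V₀.hom i₀ :=
    pullback.map _ _ _ _ (𝟙 _) e.hom e'.hom (by simp) hc'
  haveI : IsIso κ := by
    show IsIso (pullback.map _ _ _ _ (𝟙 _) e.hom e'.hom _ _)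
    infer_instance
  refine ⟨V, ⟨MorphismProperty.Over.isoMk (asIso κ ≪≫ (MorphismProperty.Over.forget _ _ _ ⋙
    CategoryTheory.Over.forget _).mapIso ψ) ?_⟩⟩
  show (κ ≫ ψ.hom.left) ≫ U.hom = pullback.snd (V₀.hom ≫ e'.inv) i
  rw [← cancel_mono e.hom, Category.assoc, Category.assoc, hψ]
  simp [κ]

/-- restriction along a thickening with affine target is essentially surjective -/
theorem restrict_essSurj_of_affine_thickening {X X' : Scheme.{u}} (i : X ⟶ X')
    [IsClosedImmersion i] [Surjective i] [IsAffine X'] : (FEt.restrict i).EssSurj := by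
  obtain ⟨I, e, he⟩ := IsClosedImmersion.Spec_iff.mp
    (inferInstance : IsClosedImmersion (i ≫ X'.isoSpec.hom))
  have hsurj : Surjective (Spec.map (CommRingCat.ofHom (Ideal.Quotient.mk I))) := by
    have h1 : Surjective (e.hom ≫ Spec.map (CommRingCat.ofHom (Ideal.Quotient.mk I))) := by
      rw [← he]; infer_instance
    exact Surjective.of_comp e.hom _
  have hI : I ≤ nilradical Γ(X', ⊤) := by
    have h1 : Set.range (PrimeSpectrum.comap (Ideal.Quotient.mk I)) = Set.univ :=
      Set.range_eq_univ.mpr hsurj.surj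
    rw [range_comap_of_surjective _ _ Ideal.Quotient.mk_surjective,
      Ideal.mk_ker, PrimeSpectrum.zeroLocus_eq_univ_iff] at h1
    exact h1
  haveI : HenselianRing Γ(X', ⊤) I := henselianRing_of_nil I hI
  have hequiv := Groth.Agent.S0239.result Γ(X', ⊤) I
  exact restrict_essSurj_of_iso i _ e X'.isoSpec he hequiv.essSurj

end H9FE
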