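import Mathlib
import Groth.Prelude.Def_FEt
import Groth.Agent.Lib.Helper9.FE.InsepSec
import Groth.Agent.Lib.Helper9.FE.ThickAff

/-! helper9: gluing of local lifts of a finite étale cover along a thickening. -/

open CategoryTheory CategoryTheory.Limits AlgebraicGeometry MorphismProperty
universe u
set_option linter.style.haveILetI false
set_option linter.unusedSectionVars false
set_option backward.isDefEq.respectTransparency false
namespace H9FE

section Uniq
variable {Z Z' S : Scheme.{u}} (q : Z' ⟶ Z)

/-- uniqueness of maps to a finite étale cover descended along `q` with `FEt.restrict q` faithful -/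
theorem descent_unique (hfaith : (FEt.restrict q).Faithful) (h : Z ⟶ S) (T : FEt.Cat S)
    (g₁ g₂ : Z ⟶ T.left) (h₁ : g₁ ≫ T.hom = h) (h₂ : g₂ ≫ T.hom = h) (hq : q ≫ g₁ = q ≫ g₂) :
    g₁ = g₂ := by
  let T₀ : FEt.Cat Z := MorphismProperty.Over.mk ⊤ (𝟙 Z) (FEt.prop.id_mem Z)
  let P : FEt.Cat Z := (FEt.restrict h).obj T
  have hP : P.hom = pullback.snd T.hom h := rfl
  have hc₀ : ∀ (g : Z ⟶ T.left), g ≫ T.hom = h → g ≫ T.hom = 𝟙 Z ≫ h := fun g hg => by
    rw [hg, Category.id_comp]
  let ml : ∀ (g : Z ⟶ T.left), g ≫ T.hom = h → (Z ⟶ pullback T.hom h) := fun g hg =>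
    pullback.lift g (𝟙 Z) (hc₀ g hg)
  have hml1 : ∀ g hg, ml g hg ≫ pullback.fst T.hom h = g := fun g hg => pullback.lift_fst _ _ _
  have hml2 : ∀ g hg, ml g hg ≫ pullback.snd T.hom h = 𝟙 Z := fun g hg => pullback.lift_snd _ _ _
  let m : ∀ (g : Z ⟶ T.left), g ≫ T.hom = h → (T₀ ⟶ P) := fun g hg =>
    MorphismProperty.Over.homMk (ml g hg) (hml2 g hg)
  have hm : ∀ g hg, (m g hg).left = ml g hg := fun g hg => rfl
  have key : (FEt.restrict q).map (m g₁ h₁) = (FEt.restrict q).map (m g₂ h₂) := by
    apply MorphismProperty.Over.Hom.ext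
    rw [restrict_map_left, restrict_map_left]
    apply pullback.hom_ext
    · rw [pullback.lift_fst, pullback.lift_fst]
      have hc : pullback.fst (𝟙 Z) q = pullback.snd (𝟙 Z) q ≫ q := by
        have := pullback.condition (f := 𝟙 Z) (g := q)
        rw [Category.comp_id] at this
        exact this
      show pullback.fst (𝟙 Z) q ≫ (m g₁ h₁).left = pullback.fst (𝟙 Z) q ≫ (m g₂ h₂).left
      rw [hc, Category.assoc, Category.assoc, hm g₁ h₁, hm g₂ h₂]
      congr 1
      apply pullback.hom_ext
      · rw [Category.assoc, Category.assoc, hml1 g₁ h₁, hml1 g₂ h₂, hq]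
      · rw [Category.assoc, Category.assoc, hml2 g₁ h₁, hml2 g₂ h₂]
    · rw [pullback.lift_snd, pullback.lift_snd]
  have h3 := hfaith.map_injective key
  have h4 : ml g₁ h₁ = ml g₂ h₂ := by rw [← hm g₁ h₁, ← hm g₂ h₂, h3]
  rw [← hml1 g₁ h₁, ← hml1 g₂ h₂, h4]

end Uniq

section Local
variable {X X' : Scheme.{u}} (i : X ⟶ X') (U : FEt.Cat X)

/-- the base change of the cover to the preimage of an affine open -/
noncomputable abbrev thUW (W : X'.directedAffineCover.I₀) : Scheme.{u} :=
  pullback (U.hom ≫ i) (X'.directedAffineCover.f W)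

noncomputable abbrev thXW (W : X'.directedAffineCover.I₀) : Scheme.{u} :=
  pullback i (X'.directedAffineCover.f W)

noncomputable abbrev thiW (W : X'.directedAffineCover.I₀) :
    thXW i W ⟶ X'.directedAffineCover.X W :=
  pullback.snd i (X'.directedAffineCover.f W)

noncomputable def thfW (W : X'.directedAffineCover.I₀) : thUW i U W ⟶ thXW i W :=
  pullback.map (U.hom ≫ i) (X'.directedAffineCover.f W) i (X'.directedAffineCover.f W)
    U.hom (𝟙 _) (𝟙 _) (by simp) (by simp)

@[reassoc (attr := simp)]
theorem thfW_fst (W : X'.directedAffineCover.I₀) :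
    thfW i U W ≫ pullback.fst i (X'.directedAffineCover.f W) =
      pullback.fst (U.hom ≫ i) (X'.directedAffineCover.f W) ≫ U.hom := by
  simp [thfW]

@[reassoc (attr := simp)]
theorem thfW_snd (W : X'.directedAffineCover.I₀) :
    thfW i U W ≫ thiW i W = pullback.snd (U.hom ≫ i) (X'.directedAffineCover.f W) := by
  simp [thfW]

/-- `U_W = U ×_X X_W` -/
theorem isPullback_thfW (W : X'.directedAffineCover.I₀) :
    IsPullback (pullback.fst (U.hom ≫ i) (X'.directedAffineCover.f W)) (thfW i U W) U.hom
      (pullback.fst i (X'.directedAffineCover.f W)) := by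
  have total : IsPullback (thfW i U W ≫ thiW i W)
      (pullback.fst (U.hom ≫ i) (X'.directedAffineCover.f W)) (X'.directedAffineCover.f W)
      (U.hom ≫ i) := by
    rw [thfW_snd]
    exact (IsPullback.of_hasPullback (U.hom ≫ i) (X'.directedAffineCover.f W)).flip
  exact (IsPullback.of_right total (thfW_fst i U W)
    (IsPullback.of_hasPullback i (X'.directedAffineCover.f W)).flip).flip

/-- a local lift of the cover over an affine open of the thickening -/
structure ThLD (W : X'.directedAffineCover.I₀) where
  V : FEt.Cat (X'.directedAffineCover.X W)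
  a : thUW i U W ⟶ V.left
  ha : a ≫ V.hom = pullback.snd (U.hom ≫ i) (X'.directedAffineCover.f W)
  pb : IsPullback a (thfW i U W) V.hom (thiW i W)

variable [IsClosedImmersion i] [Surjective i]

theorem nonempty_thLD (W : X'.directedAffineCover.I₀) : Nonempty (ThLD i U W) := by
  haveI : IsAffine (X'.directedAffineCover.X W) := W.2
  have hfW : FEt.prop (thfW i U W) :=
    FEt.prop.of_isPullback (isPullback_thfW i U W) U.prop
  let UW : FEt.Cat (thXW i W) := MorphismProperty.Over.mk ⊤ (thfW i U W) hfW
  obtain ⟨V, ⟨φ⟩⟩ := (restrict_essSurj_of_affine_thickening (thiW i W)).mem_essImage UW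
  have hφ : φ.inv.left ≫ pullback.snd V.hom (thiW i W) = thfW i U W :=
    MorphismProperty.Over.w φ.inv
  have ha : (φ.inv.left ≫ pullback.fst V.hom (thiW i W)) ≫ V.hom =
      pullback.snd (U.hom ≫ i) (X'.directedAffineCover.f W) := by
    rw [Category.assoc, pullback.condition, ← Category.assoc, hφ, thfW_snd]
  refine ⟨⟨V, φ.inv.left ≫ pullback.fst V.hom (thiW i W), ha, ?_⟩⟩
  let e : thUW i U W ≅ pullback V.hom (thiW i W) :=
    (MorphismProperty.Over.forget _ _ _ ⋙ CategoryTheory.Over.forget _).mapIso φ.symm
  have he : e.hom = φ.inv.left := rfl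
  refine IsPullback.of_iso_pullback ⟨?_⟩ e ?_ ?_
  · rw [ha, thfW_snd]
  · rw [he]
  · rw [he, hφ]

end Local

section Glue
variable {X X' : Scheme.{u}} (i : X ⟶ X') [IsClosedImmersion i] [Surjective i] (U : FEt.Cat X)
  (c : ∀ W : X'.directedAffineCover.I₀, ThLD i U W)

theorem thLD_a_closedImmersion (W : X'.directedAffineCover.I₀) : IsClosedImmersion (c W).a :=
  MorphismProperty.of_isPullback (P := @IsClosedImmersion) (c W).pb.flip inferInstance

theorem thLD_a_surjective (W : X'.directedAffineCover.I₀) : Surjective (c W).a :=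
  MorphismProperty.of_isPullback (P := @Surjective) (c W).pb.flip inferInstance

theorem thLD_a_ff (W : X'.directedAffineCover.I₀) :
    (FEt.restrict (c W).a).Full ∧ (FEt.restrict (c W).a).Faithful := by
  haveI := thLD_a_closedImmersion i U c W
  haveI := thLD_a_surjective i U c W
  exact restrict_full_faithful_of_univHomeo (c W).a

/-- transition maps of the `U_W` -/
noncomputable def thtU {W W' : X'.directedAffineCover.I₀} (h : W ⟶ W') :
    thUW i U W ⟶ thUW i U W' :=
  pullback.map (U.hom ≫ i) (X'.directedAffineCover.f W) (U.hom ≫ i) (X'.directedAffineCover.f W')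
    (𝟙 _) (X'.directedAffineCover.trans h) (𝟙 _)
    (by rw [Category.comp_id, Category.id_comp])
    (by rw [Category.comp_id, X'.directedAffineCover.trans_map])

@[reassoc (attr := simp)]
theorem thtU_fst {W W' : X'.directedAffineCover.I₀} (h : W ⟶ W') :
    thtU i U h ≫ pullback.fst (U.hom ≫ i) (X'.directedAffineCover.f W') =
      pullback.fst (U.hom ≫ i) (X'.directedAffineCover.f W) := by
  simp [thtU]

@[reassoc (attr := simp)]
theorem thtU_snd {W W' : X'.directedAffineCover.I₀} (h : W ⟶ W') :
    thtU i U h ≫ pullback.snd (U.hom ≫ i) (X'.directedAffineCover.f W') =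
      pullback.snd (U.hom ≫ i) (X'.directedAffineCover.f W) ≫ X'.directedAffineCover.trans h := by
  simp [thtU]

theorem thtU_id (W : X'.directedAffineCover.I₀) : thtU i U (𝟙 W) = 𝟙 _ := by
  apply pullback.hom_ext <;> simp

theorem thtU_comp {W W' W'' : X'.directedAffineCover.I₀} (h : W ⟶ W') (h' : W' ⟶ W'') :
    thtU i U (h ≫ h') = thtU i U h ≫ thtU i U h' := by
  apply pullback.hom_ext <;> simp

theorem exists_thθ {W W' : X'.directedAffineCover.I₀} (h : W ⟶ W') :
    ∃ θ : (c W).V.left ⟶ (c W').V.left,
      θ ≫ (c W').V.hom = (c W).V.hom ≫ X'.directedAffineCover.trans h ∧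
      (c W).a ≫ θ = thtU i U h ≫ (c W').a := by
  apply exists_descent_of_full (c W).a (thLD_a_ff i U c W).1
    ((c W).V.hom ≫ X'.directedAffineCover.trans h) (c W').V (thtU i U h ≫ (c W').a)
  rw [Category.assoc, (c W').ha, thtU_snd, ← Category.assoc, (c W).ha]

/-- the transition maps of the local lifts -/
noncomputable def thθ {W W' : X'.directedAffineCover.I₀} (h : W ⟶ W') :
    (c W).V.left ⟶ (c W').V.left := (exists_thθ i U c h).choose

@[reassoc]
theorem thθ_hom {W W' : X'.directedAffineCover.I₀} (h : W ⟶ W') :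
    thθ i U c h ≫ (c W').V.hom = (c W).V.hom ≫ X'.directedAffineCover.trans h :=
  (exists_thθ i U c h).choose_spec.1

@[reassoc]
theorem thθ_a {W W' : X'.directedAffineCover.I₀} (h : W ⟶ W') :
    (c W).a ≫ thθ i U c h = thtU i U h ≫ (c W').a :=
  (exists_thθ i U c h).choose_spec.2

theorem thθ_unique {W W' : X'.directedAffineCover.I₀} (h : W ⟶ W')
    (θ : (c W).V.left ⟶ (c W').V.left)
    (h1 : θ ≫ (c W').V.hom = (c W).V.hom ≫ X'.directedAffineCover.trans h)
    (h2 : (c W).a ≫ θ = thtU i U h ≫ (c W').a) : θ = thθ i U c h :=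
  descent_unique (c W).a (thLD_a_ff i U c W).2 ((c W).V.hom ≫ X'.directedAffineCover.trans h)
    (c W').V θ (thθ i U c h) h1 (thθ_hom i U c h) (by rw [h2, thθ_a])

/-- the functor of local lifts -/
noncomputable def thFunctor : X'.directedAffineCover.I₀ ⥤ Scheme.{u} where
  obj W := (c W).V.left
  map h := thθ i U c h
  map_id W := by
    symm
    apply thθ_unique
    · rw [X'.directedAffineCover.trans_id]
      exact (Category.id_comp _).trans (Category.comp_id _).symm
    · rw [thtU_id]
      exact (Category.comp_id _).trans (Category.id_comp _).symm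
  map_comp h h' := by
    symm
    apply thθ_unique
    · rw [Category.assoc, thθ_hom, thθ_hom_assoc, X'.directedAffineCover.trans_comp]
    · rw [thθ_a_assoc, thθ_a, thtU_comp, Category.assoc]

/-- the structure maps of the local lifts -/
noncomputable def thNatTrans :
    thFunctor i U c ⟶ X'.directedAffineCover.functorOfLocallyDirected where
  app W := (c W).V.hom
  naturality _ _ h := thθ_hom i U c h

/-- transition maps of the `X_W` -/
noncomputable def thtX {W W' : X'.directedAffineCover.I₀} (h : W ⟶ W') :
    thXW i W ⟶ thXW i W' :=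
  pullback.map i (X'.directedAffineCover.f W) i (X'.directedAffineCover.f W')
    (𝟙 _) (X'.directedAffineCover.trans h) (𝟙 _)
    (by rw [Category.comp_id, Category.id_comp])
    (by rw [Category.comp_id, X'.directedAffineCover.trans_map])

theorem isPullback_thtU {W W' : X'.directedAffineCover.I₀} (h : W ⟶ W') :
    IsPullback (thtU i U h) (thfW i U W) (thfW i U W') (thtX i h) := by
  have hfst : thtX i h ≫ pullback.fst i (X'.directedAffineCover.f W') =
      pullback.fst i (X'.directedAffineCover.f W) := by simp [thtX]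
  refine IsPullback.of_right ?_ ?_ (isPullback_thfW i U W')
  · rw [thtU_fst, hfst]
    exact isPullback_thfW i U W
  · apply pullback.hom_ext
    · rw [Category.assoc, Category.assoc, thfW_fst, thtU_fst_assoc, hfst, thfW_fst]
    · have hsnd : thtX i h ≫ pullback.snd i (X'.directedAffineCover.f W') =
          pullback.snd i (X'.directedAffineCover.f W) ≫ X'.directedAffineCover.trans h := by
        simp [thtX]
      rw [Category.assoc, Category.assoc, hsnd]
      have h1 := thfW_snd i U W'
      have h2 := thfW_snd i U W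
      simp only [thiW] at h1 h2
      rw [h1, thtU_snd, ← Category.assoc, h2]

theorem thEquifibered : NatTrans.Equifibered (thNatTrans i U c) := by
  intro W W' h
  show IsPullback (thθ i U c h) (c W).V.hom (c W').V.hom (X'.directedAffineCover.trans h)
  set o := X'.directedAffineCover.trans h with ho
  let cmap : (c W).V.left ⟶ pullback (c W').V.hom o :=
    pullback.lift (thθ i U c h) (c W).V.hom (thθ_hom i U c h)
  have hcond : (thtU i U h ≫ (c W').a) ≫ (c W').V.hom =
      pullback.snd (U.hom ≫ i) (X'.directedAffineCover.f W) ≫ o := by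
    rw [Category.assoc, (c W').ha, thtU_snd]
  let aR : thUW i U W ⟶ pullback (c W').V.hom o :=
    pullback.lift (thtU i U h ≫ (c W').a)
      (pullback.snd (U.hom ≫ i) (X'.directedAffineCover.f W)) hcond
  have haR1 : aR ≫ pullback.fst (c W').V.hom o = thtU i U h ≫ (c W').a := pullback.lift_fst _ _ _
  have haR2 : aR ≫ pullback.snd (c W').V.hom o =
      pullback.snd (U.hom ≫ i) (X'.directedAffineCover.f W) := pullback.lift_snd _ _ _
  have hcm1 : cmap ≫ pullback.fst (c W').V.hom o = thθ i U c h := pullback.lift_fst _ _ _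
  have hcm2 : cmap ≫ pullback.snd (c W').V.hom o = (c W).V.hom := pullback.lift_snd _ _ _
  have haRc : (c W).a ≫ cmap = aR := by
    apply pullback.hom_ext
    · rw [Category.assoc, hcm1, haR1, thθ_a]
    · rw [Category.assoc, hcm2, haR2, (c W).ha]
  -- aR is a base change of the thickening
  have hsndX : thtX i h ≫ thiW i W' = thiW i W ≫ o := by simp [thtX, thiW, ho]
  have PR : IsPullback aR (thfW i U W) (pullback.snd (c W').V.hom o) (thiW i W) := by
    refine IsPullback.of_right ?_ ?_ (IsPullback.of_hasPullback (c W').V.hom o)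
    · rw [haR1, ← hsndX]
      exact (isPullback_thtU i U h).paste_horiz (c W').pb
    · rw [haR2, thfW_snd]
  haveI : IsClosedImmersion aR :=
    MorphismProperty.of_isPullback (P := @IsClosedImmersion) PR.flip inferInstance
  haveI : Surjective aR :=
    MorphismProperty.of_isPullback (P := @Surjective) PR.flip inferInstance
  have hffR := restrict_full_faithful_of_univHomeo aR
  let RObj : FEt.Cat (X'.directedAffineCover.X W) :=
    MorphismProperty.Over.mk ⊤ (pullback.snd (c W').V.hom o)
      (FEt.prop.pullback_snd _ _ (c W').V.prop)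
  obtain ⟨c', hc'1, hc'2⟩ := exists_descent_of_full aR hffR.1
    (pullback.snd (c W').V.hom o) (c W).V (c W).a (by rw [(c W).ha, haR2])
  have h1 : cmap ≫ c' = 𝟙 _ := by
    apply descent_unique (c W).a (thLD_a_ff i U c W).2 (c W).V.hom (c W).V
    · rw [Category.assoc, hc'1, hcm2]
    · exact Category.id_comp _
    · rw [← Category.assoc, haRc, hc'2]
      exact (Category.comp_id _).symm
  have h2 : c' ≫ cmap = 𝟙 _ := by
    apply descent_unique aR hffR.2 (pullback.snd (c W').V.hom o) RObj
    · show (c' ≫ cmap) ≫ pullback.snd (c W').V.hom o = _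
      rw [Category.assoc, hcm2, hc'1]
    · exact Category.id_comp _
    · rw [← Category.assoc, hc'2, haRc]
      exact (Category.comp_id _).symm
  haveI : IsIso cmap := ⟨c', h1, h2⟩
  exact IsPullback.of_iso_pullback ⟨thθ_hom i U c h⟩ (asIso cmap) hcm1 hcm2

/-- the relative gluing datum of the local lifts -/
noncomputable def thGD : Scheme.Cover.RelativeGluingData X'.directedAffineCover where
  functor := thFunctor i U c
  natTrans := thNatTrans i U c
  equifibered := thEquifibered i U c

theorem thGlued_prop : FEt.prop (thGD i U c).toBase := by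
  apply IsZariskiLocalAtTarget.of_openCover (P := FEt.prop) X'.directedAffineCover
  intro W
  have pb := ((thGD i U c).isPullback_natTrans_ι_toBase W).flip
  have h1 : pb.isoPullback.hom ≫ pullback.snd _ _ = (c W).V.hom := pb.isoPullback_hom_snd
  have h2 : X'.directedAffineCover.pullbackHom (thGD i U c).toBase W =
      pb.isoPullback.inv ≫ (c W).V.hom := by
    rw [Iso.eq_inv_comp]
    exact h1
  rw [h2]
  exact (MorphismProperty.cancel_left_of_respectsIso _ _ _).mpr (c W).V.prop

/-- the glued lift -/
noncomputable def thGlued : FEt.Cat X' :=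
  MorphismProperty.Over.mk ⊤ (thGD i U c).toBase (thGlued_prop i U c)

theorem thGluedMap_compat {W W' : (X'.directedAffineCover.pullback₁ (U.hom ≫ i)).I₀}
    (h : W ⟶ W') :
    Scheme.Cover.trans (X'.directedAffineCover.pullback₁ (U.hom ≫ i)) h ≫
      (c W').a ≫ colimit.ι (thGD i U c).functor W' =
      (c W).a ≫ colimit.ι (thGD i U c).functor W := by
  have h1 : Scheme.Cover.trans (X'.directedAffineCover.pullback₁ (U.hom ≫ i)) h =
    thtU i U h := rfl
  rw [h1, ← Category.assoc, ← thθ_a i U c h, Category.assoc]
  congr 1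
  exact colimit.w (thGD i U c).functor h

/-- the map from the cover to the glued lift -/
noncomputable def thGluedMap : U.left ⟶ (thGD i U c).glued :=
  Scheme.OpenCover.glueMorphismsOfLocallyDirected
    (X'.directedAffineCover.pullback₁ (U.hom ≫ i))
    (fun W => (c W).a ≫ colimit.ι (thGD i U c).functor W)
    (fun {_ _} h => thGluedMap_compat i U c h)

theorem thGluedMap_ι (W : X'.directedAffineCover.I₀) :
    pullback.fst (U.hom ≫ i) (X'.directedAffineCover.f W) ≫ thGluedMap i U c =
      (c W).a ≫ colimit.ι (thGD i U c).functor W :=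
  Scheme.OpenCover.map_glueMorphismsOfLocallyDirected
    (X'.directedAffineCover.pullback₁ (U.hom ≫ i))
    (fun W => (c W).a ≫ colimit.ι (thGD i U c).functor W)
    (fun {_ _} h => thGluedMap_compat i U c h) W

theorem thGluedMap_toBase : thGluedMap i U c ≫ (thGD i U c).toBase = U.hom ≫ i := by
  apply (X'.directedAffineCover.pullback₁ (U.hom ≫ i)).hom_ext
  intro W
  show pullback.fst (U.hom ≫ i) (X'.directedAffineCover.f W) ≫ _ = _
  rw [← Category.assoc, thGluedMap_ι, Category.assoc, Scheme.Cover.RelativeGluingData.ι_toBase]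
  show (c W).a ≫ (c W).V.hom ≫ _ = _
  rw [← Category.assoc, (c W).ha]
  exact pullback.condition.symm

theorem isPullback_thGluedMap :
    IsPullback (thGluedMap i U c) U.hom (thGD i U c).toBase i := by
  apply Scheme.isPullback_of_openCover (thGluedMap i U c) U.hom (thGD i U c).toBase i
    (thGD i U c).cover
  intro W
  have hιb : colimit.ι (thGD i U c).functor W ≫ (thGD i U c).toBase =
      (c W).V.hom ≫ X'.directedAffineCover.f W :=
    Scheme.Cover.RelativeGluingData.ι_toBase (thGD i U c) W
  have PB1 : IsPullback (c W).a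
      (pullback.fst (U.hom ≫ i) (X'.directedAffineCover.f W) ≫ U.hom)
      (colimit.ι (thGD i U c).functor W ≫ (thGD i U c).toBase) i := by
    rw [hιb, ← thfW_fst]
    exact (c W).pb.paste_vert (IsPullback.of_hasPullback i (X'.directedAffineCover.f W)).flip
  have PB2 : IsPullback (c W).a (pullback.fst (U.hom ≫ i) (X'.directedAffineCover.f W))
      (colimit.ι (thGD i U c).functor W) (thGluedMap i U c) := by
    refine IsPullback.of_right ?_ (thGluedMap_ι i U c W).symm
      ((thGD i U c).isPullback_natTrans_ι_toBase W)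
    show IsPullback ((c W).a ≫ (c W).V.hom) _ _ _
    rw [(c W).ha, thGluedMap_toBase]
    exact (IsPullback.of_hasPullback (U.hom ≫ i) (X'.directedAffineCover.f W)).flip
  let e := PB2.flip.isoPullback
  have he1 : e.hom ≫ pullback.fst (thGluedMap i U c) (colimit.ι (thGD i U c).functor W) =
      pullback.fst (U.hom ≫ i) (X'.directedAffineCover.f W) := PB2.flip.isoPullback_hom_fst
  have he2 : e.hom ≫ pullback.snd (thGluedMap i U c) (colimit.ι (thGD i U c).functor W) =
      (c W).a := PB2.flip.isoPullback_hom_snd
  refine IsPullback.of_iso PB1 e (Iso.refl _) (Iso.refl _) (Iso.refl _) ?_ ?_ ?_ ?_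
  · rw [Iso.refl_hom, Category.comp_id]
    exact he2.symm
  · rw [Iso.refl_hom, Category.comp_id]
    show _ = e.hom ≫ pullback.fst (thGluedMap i U c) (colimit.ι (thGD i U c).functor W) ≫ U.hom
    rw [← Category.assoc, he1]
  · rw [Iso.refl_hom, Iso.refl_hom, Category.comp_id, Category.id_comp]
    rfl
  · rw [Iso.refl_hom, Iso.refl_hom, Category.comp_id, Category.id_comp]

theorem exists_restrict_iso_of_thLD :
    Nonempty ((FEt.restrict i).obj (thGlued i U c) ≅ U) := by
  have pb := isPullback_thGluedMap i U c
  refine ⟨(MorphismProperty.Over.isoMk pb.isoPullback ?_).symm⟩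
  exact pb.isoPullback_hom_snd

end Glue

/-- restriction of finite étale covers along a thickening is essentially surjective -/
theorem restrict_essSurj_of_thickening {X X' : Scheme.{u}} (i : X ⟶ X') [IsClosedImmersion i]
    [Surjective i] : (FEt.restrict i).EssSurj :=
  ⟨fun U => ⟨thGlued i U (fun W => (nonempty_thLD i U W).some),
    exists_restrict_iso_of_thLD i U _⟩⟩

end H9FE
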