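import Mathlib
import Groth.Prelude.Def_EtCore
import Groth.Prelude.Def_EtLim
import Groth.Agent.Lib.Helper9.FE.LimPull7
import Groth.Agent.Lib.Helper9.FE.LimPull8
import Groth.Agent.Lib.Helper9.FE.FieldLim
import Groth.Agent.Lib.Helper9.FE.FEtTraceCoh
import Groth.Agent.Lib.Helper9.FE.SuppSh3
import Groth.Agent.S13842
import Groth.Agent.S0088
import Groth.Agent.S0623

/-! helper9: positive-degree étale cohomology classes on a quasi-compact scheme locally
quasi-finite over a field are torsion (they die over a finite separable extension of the base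
field, and restriction–corestriction applies). -/

set_option autoImplicit false
open CategoryTheory CategoryTheory.Limits AlgebraicGeometry Opposite
universe u

namespace H9FE.TorsA

set_option backward.isDefEq.respectTransparency false
set_option linter.style.haveILetI false
set_option linter.unusedSectionVars false

open H9FE.LimTower H9FE.EtTr H9FE.LimNull H9FE.LimGeom H9FE.LimPull H9FE.FEtTraceCoh

section Gen

lemma HF_map_hom_eq_zero {X : Scheme.{u}} {A B : EtCoh.Ab X} (e : A ≅ B) (n : ℕ)
    (y : EtCoh.H X A n) (h : ((EtCoh.HF X n).map e.hom).hom y = 0) : y = 0 := by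
  have h2 := congrArg ((EtCoh.HF X n).map e.inv).hom h
  rw [map_zero] at h2
  rw [← h2]
  exact (HF_map_iso_apply e.symm n y).symm

variable {X Y Z : Scheme.{u}} (f : X ⟶ Y) (g : Y ⟶ Z) (h : X ⟶ Z) (w : f ≫ g = h)

include w in
/-- a class dying along a composite dies after the two successive pullbacks -/
lemma Hpull_Hpull_of_eq_zero (F : EtCoh.Ab Z) (n : ℕ) (z : EtCoh.H Z F n)
    (hz : EtCore.Hpull h F n z = 0) :
    EtCore.Hpull f ((EtCoh.pull g).obj F) n (EtCore.Hpull g F n z) = 0 := by
  have e := HpullVia_Hpull f g h w F n z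
  rw [hz] at e
  exact HF_map_hom_eq_zero (kap f g h w F) n _ e

/-- a class at a stage of a tower dying on the limit dies at a later stage -/
theorem bottom {ι : Type u} [Preorder ι] [IsDirected ι (· ≤ ·)] (Xs : ιᵒᵖ ⥤ Scheme.{u})
    (haff : ∀ ⦃a b : ιᵒᵖ⦄ (h : a ⟶ b), IsAffineHom (Xs.map h))
    (hqc : ∀ a, CompactSpace ↥(Xs.obj a)) (hqs : ∀ a, QuasiSeparatedSpace ↥(Xs.obj a))
    (c : Cone Xs) (hc : IsLimit c)
    (k : ι) (F : EtCoh.Ab (Xs.obj (op k))) (n : ℕ) (z : EtCoh.H (Xs.obj (op k)) F n)
    (hz : EtCore.Hpull (c.π.app (op k)) F n z = 0) :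
    ∃ (k' : ι) (hk : k ≤ k'), EtCore.Hpull (Xs.map (homOfLE hk).op) F n z = 0 := by
  obtain ⟨-, H2⟩ := pull_thm_up Xs haff hqc hqs c hc k F n
  have e := HpullVia_Hpull (c.π.app (op k)) (Xs.map (homOfLE (le_refl k)).op) (c.π.app (op k))
    (c.w (homOfLE (le_refl k)).op) F n z
  obtain ⟨k', hk, hk'⟩ := H2 k (le_refl k)
    (EtCore.Hpull (Xs.map (homOfLE (le_refl k)).op) F n z) (e.trans hz)
  refine ⟨k', hk, ?_⟩
  exact Hpull_Hpull_eq_zero (Xs.map (homOfLE hk).op) (Xs.map (homOfLE (le_refl k)).op)
    (Xs.map (homOfLE hk).op) (uu_comp Xs (le_refl k) hk) F n z hk'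

end Gen

section Field

variable (K : Type u) [Field K] {W : Scheme.{u}} (w : W ⟶ Spec (CommRingCat.of K))

/-- the projection `W ×_K L ⟶ W` -/
noncomputable abbrev prj (L : Type u) [Field L] [Algebra K L] :
    pullback w (Spec.map (CommRingCat.ofHom (algebraMap K L))) ⟶ W :=
  pullback.fst w (Spec.map (CommRingCat.ofHom (algebraMap K L)))

section Trace

variable (L : Type u) [Field L] [Algebra K L] [FiniteDimensional K L] [Algebra.IsSeparable K L]

instance isFinite_prj : IsFinite (prj K w L) :=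
  MorphismProperty.pullback_fst _ _ (Groth.Agent.S13842.Aux.isFinite_specMap K L)

instance etale_prj : Etale (prj K w L) :=
  MorphismProperty.pullback_fst _ _ (Groth.Agent.S13842.Aux.etale_specMap K L)

theorem card_fibre_bc (Ω : Type u) [Field Ω] [IsSepClosed Ω]
    (ξ : Spec (CommRingCat.of Ω) ⟶ W) :
    Nat.card ↥(pullback (prj K w L) ξ) = Module.finrank K L := by
  let t := Spec.map (CommRingCat.ofHom (algebraMap K L))
  let e : pullback (pullback.fst w t) ξ ≅ pullback t (ξ ≫ w) :=
    pullbackSymmetry _ _ ≪≫ pullbackRightPullbackFstIso w t ξ ≪≫ pullbackSymmetry _ _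
  rw [Nat.card_congr (Scheme.homeoOfIso e).toEquiv]
  exact Groth.Agent.S13842.Aux.card_fibre K L Ω (ξ ≫ w)

/-- restriction–corestriction along `W ×_K L ⟶ W` -/
theorem finrank_nsmul (G : EtCoh.Ab W) (q : ℕ) (α : EtCoh.H W G q)
    (h : EtCore.Hpull (prj K w L) G q α = 0) : Module.finrank K L • α = 0 :=
  nsmul_eq_zero_of_Hpull_eq_zero (prj K w L) _ (fun Ω _ _ ξ => card_fibre_bc K w L Ω ξ) G q α h

end Trace

variable [CompactSpace W] [QuasiSeparatedSpace W]

set_option maxHeartbeats 1600000 in
/-- a class dying on `W ×_K K^s` dies on `W ×_K L` for a finite subextension `L` -/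
theorem exists_finite_kill (G : EtCoh.Ab W) (q : ℕ) (α : EtCoh.H W G q)
    (hα : EtCore.Hpull (prj K w (SeparableClosure K)) G q α = 0) :
    ∃ L : FinSub K (SeparableClosure K), EtCore.Hpull (prj K w L.1) G q α = 0 := by
  let Kb := SeparableClosure K
  let D := pbDiag w (specDiag K Kb) (specDiagStr K Kb)
  let c := pbCone w (specDiag K Kb) (specDiagStr K Kb) (specCone K Kb)
    (Spec.map (CommRingCat.ofHom (algebraMap K Kb))) (specCone_str K Kb)
  have hc : IsLimit c := pbConeIsLimit w _ _ _ _ _ (specConeIsLimit K Kb)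
  let b : FinSub K Kb := ⟨⊥, inferInstance⟩
  let p₀ : D.obj (op b) ⟶ W := pullback.fst w ((specDiagStr K Kb).app (op b))
  have e1 : c.π.app (op b) ≫ p₀ = prj K w Kb :=
    (pullback.lift_fst _ _ _).trans (Category.comp_id _)
  have hz : EtCore.Hpull (c.π.app (op b)) ((EtCoh.pull p₀).obj G) q
      (EtCore.Hpull p₀ G q α) = 0 :=
    Hpull_Hpull_of_eq_zero (c.π.app (op b)) p₀ _ e1 G q α hα
  obtain ⟨L, hL, h⟩ := bottom D
    (fun _ _ h => inferInstanceAs (IsAffineHom ((pbDiag w (specDiag K Kb) (specDiagStr K Kb)).map h)))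
    (fun a => inferInstanceAs (CompactSpace ((pbDiag w (specDiag K Kb) (specDiagStr K Kb)).obj a)))
    (fun a => inferInstanceAs
      (QuasiSeparatedSpace ((pbDiag w (specDiag K Kb) (specDiagStr K Kb)).obj a)))
    c hc b ((EtCoh.pull p₀).obj G) q _ hz
  refine ⟨L, ?_⟩
  have e2 : D.map (homOfLE hL).op ≫ p₀ = prj K w L.1 := by
    have h0 := (pbDiagFst w (specDiag K Kb) (specDiagStr K Kb)).naturality (homOfLE hL).op
    exact h0.trans (Category.comp_id _)
  exact Hpull_Hpull_eq_zero (D.map (homOfLE hL).op) p₀ _ e2 G q α h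

variable [LocallyQuasiFinite w] [LocallyOfFiniteType w]

/-- positive-degree cohomology of `W ×_K K^s` vanishes -/
theorem H_bar_subsingleton
    (G' : EtCoh.Ab (pullback w (Spec.map (CommRingCat.ofHom (algebraMap K (SeparableClosure K))))))
    (q : ℕ) (hq : 1 ≤ q) :
    Subsingleton (EtCoh.H _ G' q) := by
  let Kb := SeparableClosure K
  let s := Spec.map (CommRingCat.ofHom (algebraMap K Kb))
  let Wb := pullback w s
  let a : Wb ⟶ Spec (CommRingCat.of Kb) := pullback.snd w s
  haveI : QuasiCompact w := inferInstance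
  haveI : QuasiCompact a := inferInstance
  haveI : LocallyQuasiFinite a := inferInstance
  haveI : LocallyOfFiniteType a := inferInstance
  haveI : CompactSpace Wb := QuasiCompact.compactSpace_of_compactSpace a
  haveI : IsLocallyArtinian (Spec (CommRingCat.of Kb)) := by
    rw [Scheme.isLocallyArtinianScheme_Spec]
    infer_instance
  haveI : IsLocallyArtinian Wb := IsLocallyArtinian.of_locallyQuasiFinite a
  haveI : DiscreteTopology Wb := inferInstance
  haveI : Finite Wb := finite_of_compact_of_discrete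
  haveI : IsAffine Wb := inferInstance
  have h1 : ∀ y : Wb, IsClosed ({y} : Set Wb) := fun y => isClosed_discrete _
  exact Groth.Agent.S0088.result Wb h1
    (fun y => H9FE.SuppSh.residue_sepClosed Wb a y (h1 y)) G' q hq

include K w in
/-- positive-degree étale cohomology classes on a quasi-compact scheme locally quasi-finite over
a field are torsion -/
theorem exists_pos_nsmul_eq_zero (G : EtCoh.Ab W) (q : ℕ) (hq : 1 ≤ q) (α : EtCoh.H W G q) :
    ∃ m : ℕ, 0 < m ∧ m • α = 0 := by
  haveI := H_bar_subsingleton K w ((EtCoh.pull (prj K w (SeparableClosure K))).obj G) q hq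
  obtain ⟨L, hL⟩ := exists_finite_kill K w G q α (Subsingleton.elim _ _)
  haveI : FiniteDimensional K L.1 := L.2
  exact ⟨Module.finrank K L.1, Module.finrank_pos, finrank_nsmul K w L.1 G q α hL⟩

end Field

end H9FE.TorsA
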