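import Mathlib
import Groth.Agent.Lib.Helper9.FE.FixedRing
import Groth.Agent.Lib.Helper9.FE.PointsRing
import Groth.Agent.Lib.Helper9.SF.Rank
import Groth.Agent.Lib.Helper9.SF.RankCount
import Groth.Agent.Lib.Helper9.SF.Points
import Groth.Agent.Lib.Helper9.SF.OrbitPoints

/-! helper9: finite étale algebras are detected by their geometric points; algebras with a
simply transitive action on geometric points (torsors): invariants and trace. -/

open TensorProduct
universe u
set_option linter.style.haveILetI false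
set_option linter.unusedSectionVars false
namespace H9FE
open H9SF

section Crit
variable {R E B : Type u} [CommRing R] [CommRing E] [CommRing B] [Algebra R E] [Algebra R B]

/-- a non-nilpotent element is nonzero at some geometric point -/
theorem exists_pt_ne_zero (x : E) (hx : ¬ IsNilpotent x) :
    ∃ (Ω : Type u) (_ : Field Ω) (_ : IsAlgClosed Ω) (_ : Algebra R Ω) (s : E →ₐ[R] Ω), s x ≠ 0 := by
  rw [nilpotent_iff_mem_prime] at hx
  push Not at hx
  obtain ⟨𝔮, h𝔮, hx𝔮⟩ := hx
  haveI := h𝔮
  let Ω := AlgebraicClosure 𝔮.ResidueField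
  let φ : E →+* Ω := (algebraMap 𝔮.ResidueField Ω).comp (algebraMap E 𝔮.ResidueField)
  letI : Algebra R Ω := (φ.comp (algebraMap R E)).toAlgebra
  refine ⟨Ω, inferInstance, inferInstance, inferInstance, ⟨φ, fun r => rfl⟩, ?_⟩
  show (algebraMap 𝔮.ResidueField Ω) (algebraMap E 𝔮.ResidueField x) ≠ 0
  rw [Ne, map_eq_zero_iff _ (algebraMap 𝔮.ResidueField Ω).injective,
    Ideal.algebraMap_residueField_eq_zero]
  exact hx𝔮

variable [Module.Finite R E] [Algebra.Etale R E] [Module.Finite R B] [Algebra.Etale R B]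

/-- a map of finite étale algebras which is surjective on geometric points is injective -/
theorem injective_of_pts_surjective (f : E →ₐ[R] B)
    (h : ∀ (Ω : Type u) [Field Ω] [IsAlgClosed Ω] [Algebra R Ω] (x : E →ₐ[R] Ω),
      ∃ s : B →ₐ[R] Ω, s.comp f = x) : Function.Injective f := by
  obtain ⟨e, he⟩ := exists_isKerIdem f
  apply he.injective_of_eq_one
  by_contra hne
  have hidem : IsIdempotentElem (1 - e) := he.1.one_sub
  have hnil : ¬ IsNilpotent (1 - e) := by
    rintro ⟨n, hn⟩
    apply hne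
    rcases Nat.eq_zero_or_pos n with rfl | hpos
    · rw [pow_zero] at hn
      have : Subsingleton E := subsingleton_of_zero_eq_one hn.symm
      exact Subsingleton.elim _ _
    · rw [hidem.pow_eq (Nat.pos_iff_ne_zero.mp hpos)] at hn
      exact (sub_eq_zero.mp hn).symm
  obtain ⟨Ω, _, _, _, x, hx⟩ := exists_pt_ne_zero (R := R) (1 - e) hnil
  obtain ⟨s, hs⟩ := h Ω x
  apply hx
  rw [← hs, AlgHom.comp_apply, he.map_one_sub, map_zero]

/-- the rank is the number of geometric points -/
theorem card_pts_eq_rankAtStalk (P : PrimeSpectrum R) :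
    Nat.card (E →ₐ[R] AlgebraicClosure P.asIdeal.ResidueField) = Module.rankAtStalk E P := by
  let Ω := AlgebraicClosure P.asIdeal.ResidueField
  have h1 := card_fib_eq_rankAtStalk R Ω E
  have h2 : (⟨⊥, Ideal.isPrime_bot⟩ : PrimeSpectrum Ω).comap (algebraMap R Ω) = P := by
    apply PrimeSpectrum.ext
    ext r
    show algebraMap R Ω r ∈ (⊥ : Ideal Ω) ↔ r ∈ P.asIdeal
    rw [Ideal.mem_bot, IsScalarTower.algebraMap_apply R P.asIdeal.ResidueField Ω,
      map_eq_zero_iff _ (algebraMap P.asIdeal.ResidueField Ω).injective,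
      Ideal.algebraMap_residueField_eq_zero]
  rw [h2] at h1
  rw [← h1]
  exact Nat.card_congr (Equiv.ofBijective fibOfPt ⟨fibOfPt_injective, fibOfPt_surjective⟩)

/-- a map of finite étale algebras which is bijective on geometric points is bijective -/
theorem bijective_of_pts_bijective (f : E →ₐ[R] B)
    (h : ∀ (Ω : Type u) [Field Ω] [IsAlgClosed Ω] [Algebra R Ω],
      Function.Bijective (fun s : B →ₐ[R] Ω => s.comp f)) : Function.Bijective f := by
  have hinj : Function.Injective f :=
    injective_of_pts_surjective f (fun Ω _ _ _ x => (h Ω).2 x)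
  refine ⟨hinj, ?_⟩
  obtain ⟨e, he⟩ := exists_isKerIdem f
  refine surjective_of_injective_of_rankAtStalk_eq f he hinj (fun P => ?_)
  rw [← card_pts_eq_rankAtStalk, ← card_pts_eq_rankAtStalk]
  exact (Nat.card_congr (Equiv.ofBijective _ (h (AlgebraicClosure P.asIdeal.ResidueField)))).symm

end Crit


section Tors
variable {R B : Type u} [CommRing R] [CommRing B] [Algebra R B]
  {G : Type*} [Group G]

/-- a family of endomorphisms indexed by a group acting simply transitively on geometric points -/
structure IsTors (σ : G → (B →ₐ[R] B)) : Prop where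
  one : σ 1 = AlgHom.id R B
  mul : ∀ g h, σ (g * h) = (σ h).comp (σ g)
  nonempty : ∀ (Ω : Type u) [Field Ω] [IsAlgClosed Ω] [Algebra R Ω], Nonempty (B →ₐ[R] Ω)
  trans : ∀ (Ω : Type u) [Field Ω] [IsAlgClosed Ω] [Algebra R Ω] (s t : B →ₐ[R] Ω),
    ∃! g, s.comp (σ g) = t

variable {σ : G → (B →ₐ[R] B)}

theorem IsTors.comp_comp (hσ : IsTors σ) {Ω : Type u} [Field Ω] [Algebra R Ω]
    (s : B →ₐ[R] Ω) (g h : G) : (s.comp (σ g)).comp (σ h) = s.comp (σ (h * g)) := by
  rw [hσ.mul, AlgHom.comp_assoc]

theorem IsTors.comp_injective (hσ : IsTors σ) {Ω : Type u} [Field Ω] [IsAlgClosed Ω] [Algebra R Ω]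
    (s : B →ₐ[R] Ω) : Function.Injective (fun g => s.comp (σ g)) := by
  intro g h hgh
  obtain ⟨k, _, hk⟩ := hσ.trans Ω s (s.comp (σ g))
  rw [hk g rfl, hk h hgh.symm]

variable [Module.Finite R B] [Algebra.Etale R B] [Finite G]

/-- the invariants of a torsor algebra are the base ring -/
theorem IsTors.ofId_fixedSub_bijective (hσ : IsTors σ) :
    Function.Bijective (Algebra.ofId R (fixedSub σ)) := by
  classical
  haveI := Fintype.ofFinite G
  haveI : Algebra.Etale R (fixedSub σ) := fixedSub_etale_gen σ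
  haveI : Module.Finite R (fixedSub σ) := fixedSub_finite_gen σ
  apply bijective_of_pts_bijective
  intro Ω _ _ _
  have hsub : ∀ x y : (fixedSub σ) →ₐ[R] Ω, x = y := by
    intro x y
    obtain ⟨x', hx'⟩ := exists_pt_extension (fixedSub σ).val Subtype.val_injective x
    obtain ⟨y', hy'⟩ := exists_pt_extension (fixedSub σ).val Subtype.val_injective y
    obtain ⟨g, hg, _⟩ := hσ.trans Ω x' y'
    rw [← hx', ← hy', ← hg]
    ext ⟨c, hc⟩
    show x' c = x' (σ g c)
    rw [hc g]
  constructor
  · intro x y _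
    exact hsub x y
  · intro z
    obtain ⟨s⟩ := hσ.nonempty Ω
    refine ⟨s.comp (fixedSub σ).val, ?_⟩
    ext

theorem IsTors.exists_algebraMap_eq (hσ : IsTors σ) (b : B) (hb : ∀ g, σ g b = b) :
    ∃ r : R, algebraMap R B r = b := by
  obtain ⟨r, hr⟩ := hσ.ofId_fixedSub_bijective.2 ⟨b, hb⟩
  exact ⟨r, congrArg Subtype.val hr⟩

theorem IsTors.algebraMap_injective (hσ : IsTors σ) : Function.Injective (algebraMap R B) := by
  intro r r' h
  apply hσ.ofId_fixedSub_bijective.1
  apply Subtype.ext
  exact h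

/-- the trace of a torsor algebra is surjective -/
theorem IsTors.exists_sum_eq_one [Fintype G] (hσ : IsTors σ) : ∃ c : B, ∑ g, σ g c = 1 := by
  classical
  -- the ideal of values of the trace
  have hfix : ∀ (b : B) (h : G), σ h (∑ g, σ g b) = ∑ g, σ g b := by
    intro b h
    rw [map_sum]
    have : ∀ g, σ h (σ g b) = σ (g * h) b := by
      intro g
      rw [hσ.mul]
      rfl
    simp_rw [this]
    exact Fintype.sum_equiv (Equiv.mulRight h) _ _ (fun g => rfl)
  let I : Ideal R :=
    { carrier := {r | ∃ c : B, ∑ g, σ g c = algebraMap R B r}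
      add_mem' := by
        rintro r r' ⟨c, hc⟩ ⟨c', hc'⟩
        refine ⟨c + c', ?_⟩
        simp only [map_add, Finset.sum_add_distrib, hc, hc']
      zero_mem' := ⟨0, by simp⟩
      smul_mem' := by
        rintro a r ⟨c, hc⟩
        refine ⟨a • c, ?_⟩
        have h1 : ∀ g, σ g (a • c) = a • σ g c := fun g => map_smul (σ g) a c
        simp only [h1, ← Finset.smul_sum, hc]
        rw [smul_eq_mul, map_mul, Algebra.smul_def] }
  by_cases hI : I = ⊤
  · have h1 : (1 : R) ∈ I := hI ▸ Submodule.mem_top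
    obtain ⟨c, hc⟩ := h1
    exact ⟨c, by rw [hc, map_one]⟩
  · exfalso
    obtain ⟨m, hm, hIm⟩ := Ideal.exists_le_maximal I hI
    haveI := hm
    letI := Ideal.Quotient.field m
    let Ω := AlgebraicClosure (R ⧸ m)
    obtain ⟨s⟩ := hσ.nonempty Ω
    have hzero : ∀ b : B, ∑ g, (s.comp (σ g)) b = 0 := by
      intro b
      obtain ⟨r, hr⟩ := hσ.exists_algebraMap_eq (∑ g, σ g b) (hfix b)
      have hrI : r ∈ I := ⟨b, hr.symm⟩
      have hrm : r ∈ m := hIm hrI
      simp only [AlgHom.comp_apply]
      rw [← map_sum, ← hr, AlgHom.commutes, IsScalarTower.algebraMap_apply R (R ⧸ m) Ω,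
        Ideal.Quotient.algebraMap_eq, Ideal.Quotient.eq_zero_iff_mem.mpr hrm, map_zero]
    -- Dedekind independence
    have hli := linearIndependent_monoidHom B Ω
    let v : G → (B →* Ω) := fun g => ((s.comp (σ g) : B →ₐ[R] Ω) : B →* Ω)
    have hv : Function.Injective v := by
      intro g h hgh
      apply hσ.comp_injective s
      ext b
      exact congrArg (fun f : B →* Ω => f b) hgh
    have hli' : LinearIndependent Ω (fun g => (v g : B → Ω)) := hli.comp v hv
    have h0 : ∑ g, (1 : Ω) • (v g : B → Ω) = 0 := by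
      ext b
      simp only [one_smul, Finset.sum_apply, Pi.zero_apply]
      exact hzero b
    have := Fintype.linearIndependent_iff.mp hli' (fun _ => 1) h0 1
    exact one_ne_zero this

end Tors

end H9FE
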