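import Mathlib
import Groth.Prelude.Def_SGA1t
import Groth.Agent.Lib.Helper9.FE.TorsAlg

/-! helper9: Artin–Schreier theory for torsor algebras under `ℤ/p` in characteristic `p`. -/

open Polynomial
universe u
set_option linter.style.haveILetI false
set_option linter.unusedSectionVars false
namespace H9FE
open H9SF

section EtaleAdjoin
variable {R : Type u} [CommRing R]

/-- `R[X]/(f)` is étale when `f` is monic and `f'` is invertible modulo `f` -/
theorem etale_adjoinRoot (f : R[X]) (hf : f.Monic)
    (h : ∃ p₁ p₂ : R[X], derivative f * p₁ + f * p₂ = 1) : Algebra.Etale R (AdjoinRoot f) := by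
  obtain ⟨p₁, p₂, h12⟩ := h
  let P : StandardEtalePair R := ⟨f, hf, 1, ⟨p₁, p₂, 0, by rw [pow_zero]; exact h12⟩⟩
  let L := Localization.Away (AdjoinRoot.mk P.f P.g)
  have hu : Submonoid.powers (AdjoinRoot.mk P.f P.g) ≤ IsUnit.submonoid (AdjoinRoot f) := by
    rintro _ ⟨n, rfl⟩
    show IsUnit ((AdjoinRoot.mk f 1) ^ n)
    rw [map_one, one_pow]
    exact isUnit_one
  let e1 : AdjoinRoot f ≃ₐ[AdjoinRoot f] L := IsLocalization.atUnits (AdjoinRoot f) _ hu
  let e2 : AdjoinRoot f ≃ₐ[R] L := e1.restrictScalars R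
  exact Algebra.Etale.of_equiv (P.equivAwayAdjoinRoot.trans e2.symm)

end EtaleAdjoin

section AS
variable {A B : Type u} [CommRing A] [CommRing B] [Algebra A B]
  (p : ℕ) [Fact p.Prime] [CharP A p]

/-- the Artin–Schreier polynomial -/
noncomputable def asPoly (a : A) : A[X] := X ^ p - X - C a

theorem asPoly_monic (a : A) : (asPoly p a).Monic := by
  have h : asPoly p a = X ^ p - (X + C a) := by rw [asPoly]; ring
  rw [h]
  apply monic_X_pow_sub
  have hp : 1 < p := (Fact.out : p.Prime).one_lt
  calc (X + C a : A[X]).degree ≤ 1 := by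
        refine (degree_add_le _ _).trans (max_le degree_X_le (degree_C_le.trans zero_le_one))
    _ < p := by exact_mod_cast hp

theorem asPoly_derivative (a : A) : derivative (asPoly p a) = -1 := by
  rw [asPoly]
  simp [derivative_X_pow]

instance as_finite (a : A) : Module.Finite A (AdjoinRoot (asPoly p a)) :=
  (asPoly_monic p a).finite_adjoinRoot

instance as_etale (a : A) : Algebra.Etale A (AdjoinRoot (asPoly p a)) :=
  etale_adjoinRoot _ (asPoly_monic p a) ⟨-1, 0, by rw [asPoly_derivative]; ring⟩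

/-- the cast `ℤ/p → A` -/
noncomputable abbrev zc : ZMod p →+* A := ZMod.castHom (dvd_refl p) A

theorem zc_pow (j : ZMod p) : (zc (A := A) p j) ^ p = zc p j := by
  rw [← map_pow, ZMod.pow_card]


variable [Module.Finite A B] [Algebra.Etale A B]
  (σ : Multiplicative (ZMod p) → (B →ₐ[A] B))

/-- the Artin–Schreier generator of a `ℤ/p`-torsor algebra -/
theorem exists_as_generator (hσ : IsTors σ) :
    ∃ t : B, ∀ k : ZMod p, σ (Multiplicative.ofAdd k) t = t + algebraMap A B (zc p k) := by
  classical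
  obtain ⟨c, hc⟩ := hσ.exists_sum_eq_one
  have hc' : ∑ j : ZMod p, σ (Multiplicative.ofAdd j) c = 1 := by
    rw [← hc]
    exact Fintype.sum_equiv Multiplicative.ofAdd _ _ (fun _ => rfl)
  refine ⟨- ∑ j : ZMod p, algebraMap A B (zc p j) * σ (Multiplicative.ofAdd j) c, fun k => ?_⟩
  have hcomp : ∀ j : ZMod p, σ (Multiplicative.ofAdd k) (σ (Multiplicative.ofAdd j) c) =
      σ (Multiplicative.ofAdd (j + k)) c := by
    intro j
    rw [ofAdd_add, hσ.mul]
    rfl
  rw [map_neg, map_sum]
  simp only [map_mul, AlgHom.commutes, hcomp]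
  rw [Fintype.sum_equiv (Equiv.addRight k)
    (fun j => algebraMap A B (zc p j) * σ (Multiplicative.ofAdd (j + k)) c)
    (fun m => algebraMap A B (zc p (m - k)) * σ (Multiplicative.ofAdd m) c)
    (fun j => by simp)]
  simp only [map_sub, sub_mul, Finset.sum_sub_distrib, ← Finset.mul_sum, hc']
  ring


/-- the Artin–Schreier presentation of a `ℤ/p`-torsor algebra -/
theorem exists_as_equiv (hσ : IsTors σ) :
    ∃ (a : A) (ψ : AdjoinRoot (asPoly p a) ≃ₐ[A] B),
      ∀ k : ZMod p, σ (Multiplicative.ofAdd k) (ψ (AdjoinRoot.root _)) =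
        ψ (AdjoinRoot.root _) + algebraMap A B (zc p k) := by
  classical
  obtain ⟨t, ht⟩ := exists_as_generator p σ hσ
  haveI : CharP B p := charP_of_injective_algebraMap hσ.algebraMap_injective p
  have hfix : ∀ g, σ g (t ^ p - t) = t ^ p - t := by
    intro g
    obtain ⟨k, rfl⟩ : ∃ k : ZMod p, Multiplicative.ofAdd k = g := ⟨Multiplicative.toAdd g, rfl⟩
    rw [map_sub, map_pow, ht, add_pow_char, ← map_pow, zc_pow]
    ring
  obtain ⟨a, ha⟩ := hσ.exists_algebraMap_eq _ hfix
  have hroot : (asPoly p a).eval₂ (Algebra.ofId A B : A →+* B) t = 0 := by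
    rw [asPoly, eval₂_sub, eval₂_sub, eval₂_pow, eval₂_X, eval₂_C]
    show t ^ p - t - algebraMap A B a = 0
    rw [ha, sub_self]
  let ψ₀ : AdjoinRoot (asPoly p a) →ₐ[A] B := AdjoinRoot.liftAlgHom _ (Algebra.ofId A B) t hroot
  have hψt : ψ₀ (AdjoinRoot.root _) = t := AdjoinRoot.liftAlgHom_root _ _ _ _
  have hbij : Function.Bijective ψ₀ := by
    apply bijective_of_pts_bijective
    intro Ω _ _ _
    let ι : ZMod p →+* Ω := (algebraMap A Ω).comp (zc p)
    haveI : CharP Ω p := charP_of_injective_ringHom ι.injective p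
    have hι : ∀ j, ι j = ZMod.castHom (dvd_refl p) Ω j := by
      intro j
      exact congrArg (fun f : ZMod p →+* Ω => f j) (Subsingleton.elim _ _)
    have hst : ∀ (s : B →ₐ[A] Ω) (k : ZMod p),
        (s.comp (σ (Multiplicative.ofAdd k))) t = s t + ι k := by
      intro s k
      rw [AlgHom.comp_apply, ht, map_add, AlgHom.commutes]
      rfl
    constructor
    · intro s s' hss
      have h1 : s t = s' t := by
        have := congrArg (fun f : AdjoinRoot (asPoly p a) →ₐ[A] Ω => f (AdjoinRoot.root _)) hss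
        simpa only [AlgHom.comp_apply, hψt] using this
      obtain ⟨g, hg, _⟩ := hσ.trans Ω s s'
      obtain ⟨k, rfl⟩ : ∃ k : ZMod p, Multiplicative.ofAdd k = g := ⟨Multiplicative.toAdd g, rfl⟩
      have h2 : s' t = s t + ι k := by rw [← hg, hst]
      have h3 : ι k = 0 := by
        rw [← h1] at h2
        exact (add_eq_left.mp h2.symm)
      have h4 : k = 0 := (map_eq_zero_iff ι ι.injective).mp h3
      rw [← hg, h4]
      show s = s.comp (σ 1)
      rw [hσ.one]
      rfl
    · intro x
      obtain ⟨s⟩ := hσ.nonempty Ω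
      have hx : (x (AdjoinRoot.root _)) ^ p - x (AdjoinRoot.root _) = algebraMap A Ω a := by
        have h0 := AdjoinRoot.aeval_algHom_eq_zero (asPoly p a) x
        unfold asPoly at h0
        rw [map_sub, map_sub, map_pow, aeval_X, aeval_C] at h0
        exact sub_eq_zero.mp h0
      have hs : (s t) ^ p - s t = algebraMap A Ω a := by
        rw [← map_pow, ← map_sub, ← ha, AlgHom.commutes]
      have hy : (x (AdjoinRoot.root _) - s t) ^ p = x (AdjoinRoot.root _) - s t := by
        rw [sub_pow_char]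
        linear_combination hx - hs
      have hmem : (x (AdjoinRoot.root _) - s t) ∈ (⊥ : Subfield Ω) :=
        (Subfield.mem_bot_iff_pow_eq_self Ω p).mpr hy
      rw [← ZMod.fieldRange_castHom_eq_bot p] at hmem
      obtain ⟨k, hk⟩ := hmem
      refine ⟨s.comp (σ (Multiplicative.ofAdd k)), ?_⟩
      apply AdjoinRoot.algHom_ext
      rw [AlgHom.comp_apply, hψt]
      show (s.comp (σ (Multiplicative.ofAdd k))) t = _
      rw [hst, hι, hk]
      ring
  refine ⟨a, AlgEquiv.ofBijective ψ₀ hbij, fun k => ?_⟩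
  have h1 : (AlgEquiv.ofBijective ψ₀ hbij) (AdjoinRoot.root (asPoly p a)) = t := hψt
  rw [h1, ht]

end AS

end H9FE
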