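import Mathlib
import Groth.Prelude.Def_EtBase
import Groth.Prelude.Def_EtCore
import Groth.Prelude.Def_EtShriek2
import Groth.Agent.Lib.Helper9.FE.TorsA
import Groth.Agent.Lib.Helper9.FE.EtTorsH
import Groth.Agent.Lib.Helper9.FE.EtClopenLift
import Groth.Agent.Lib.Helper5.Misc.ExtAdjAcyc
import Groth.Agent.Lib.Helper5.Misc.RDExact
import Groth.Agent.Lib.Helper5.Misc.JContGen
import Groth.Agent.S14452
import Groth.Agent.S0648
import Groth.Agent.S0623

/-! helper9: for an object `U` of the small étale site of `X` with structure morphism `j`, the sheaf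
`j_! ℤ` corepresents sections over `U`; over a field, its higher `Ext` groups into any sheaf are
torsion when `U` is quasi-compact and quasi-separated. -/

set_option autoImplicit false
open CategoryTheory CategoryTheory.Limits AlgebraicGeometry Opposite Abelian
universe u

namespace H9FE.TorsB

set_option backward.isDefEq.respectTransparency false
set_option linter.style.haveILetI false
set_option linter.unusedSectionVars false

open H9FE.SiteHUColim H9FE.EtHColim H9FE.EtTorsH Groth.Agent.S14452.Aux
open Groth.Agent.Lib.Helper5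

attribute [local instance] Groth.Agent.Lib.Helper5.Misc.JContGen.jCont

variable {X : Scheme.{u}} (U : X.Etale)

/-- `j_! ℤ` for the structure morphism `j` of `U` -/
noncomputable def ZS : EtCoh.Ab X := (EtShriek.extZero U.hom).obj (ZZ U.left)

/-- sections over `U → U → X` are sections over `U` -/
noncomputable def secEquiv (G : EtCoh.Ab X) :
    G.obj.obj (op ((EtShriek.compEtale U.hom).obj (EtCoh.top U.left))) ≃ G.obj.obj (op U) where
  toFun := (G.obj.map (eW U).op).hom
  invFun := (G.obj.map (eWinv U).op).hom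
  left_inv s := by
    rw [← ConcreteCategory.comp_apply, ← Functor.map_comp, ← op_comp, eWinv_eW, op_id,
      G.obj.map_id]
    rfl
  right_inv s := by
    rw [← ConcreteCategory.comp_apply, ← Functor.map_comp, ← op_comp, eW_eWinv, op_id,
      G.obj.map_id]
    rfl

/-- `j_! ℤ` corepresents sections over `U` -/
noncomputable def reprZS : Repr (ZS U) U where
  e G := ((EtShriek.extZeroAdj U.hom).homEquiv (ZZ U.left) G).trans
    (((reprZZ U.left).e ((EtShriek.restrAlong U.hom).obj G)).trans (secEquiv U G))
  nat {G G'} φ ψ := by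
    have h1 : (EtShriek.extZeroAdj U.hom).homEquiv (ZZ U.left) G' (ψ ≫ φ) =
        (EtShriek.extZeroAdj U.hom).homEquiv (ZZ U.left) G ψ ≫
          (EtShriek.restrAlong U.hom).map φ :=
      Adjunction.homEquiv_naturality_right _ ψ φ
    have h2 := (reprZZ U.left).nat ((EtShriek.restrAlong U.hom).map φ)
      ((EtShriek.extZeroAdj U.hom).homEquiv (ZZ U.left) G ψ)
    have h3 := φ.hom.naturality (eW U).op
    change (G'.obj.map (eW U).op).hom ((reprZZ U.left).e _
      ((EtShriek.extZeroAdj U.hom).homEquiv (ZZ U.left) G' (ψ ≫ φ))) =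
      (φ.hom.app (op U)).hom ((G.obj.map (eW U).op).hom ((reprZZ U.left).e _
        ((EtShriek.extZeroAdj U.hom).homEquiv (ZZ U.left) G ψ)))
    rw [h1, h2]
    exact (ConcreteCategory.congr_hom h3 _).symm

section Field

variable (K : Type u) [Field K] (U : (Spec (CommRingCat.of K)).Etale)
  [CompactSpace U.left] [QuasiSeparatedSpace U.left]

theorem ext_torsion (F : EtCoh.Ab (Spec (CommRingCat.of K))) (n : ℕ) (hn : 1 ≤ n)
    (x : Ext (ZS U) F n) : ∃ m : ℕ, 0 < m ∧ m • x = 0 := by
  let j : U.left ⟶ Spec (CommRingCat.of K) := U.hom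
  haveI : Etale j := U.prop
  letI := HasDerivedCategory.standard (EtCoh.Ab (Spec (CommRingCat.of K)))
  letI := HasDerivedCategory.standard (EtCoh.Ab U.left)
  haveI : PreservesFiniteLimits (EtShriek.extZero j) := Groth.Agent.S0648.result j
  haveI : PreservesFiniteColimits (EtShriek.extZero j) := by
    haveI : PreservesColimitsOfSize.{0, 0} (EtShriek.extZero j) :=
      (EtShriek.extZeroAdj j).leftAdjoint_preservesColimits
    exact PreservesColimitsOfSize.preservesFiniteColimits _
  haveI : PreservesFiniteLimits (EtShriek.restrAlong j) := by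
    haveI : PreservesLimitsOfSize.{0, 0} (EtShriek.restrAlong j) :=
      (EtShriek.extZeroAdj j).rightAdjoint_preservesLimits
    exact PreservesLimitsOfSize.preservesFiniteLimits _
  haveI : PreservesFiniteColimits (EtShriek.restrAlong j) := by
    haveI : PreservesColimitsOfSize.{0, 0} (EtShriek.restrAlong j) :=
      (Groth.Agent.S0623.restrPushAdj j).leftAdjoint_preservesColimits
    exact PreservesColimitsOfSize.preservesFiniteColimits _
  haveI : (EtShriek.restrAlong j).Additive := { }
  haveI : (EtShriek.extZero j).Additive := (EtShriek.extZeroAdj j).left_adjoint_additive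
  have hR : ∀ i : ℕ, 0 < i → IsZero (((EtShriek.restrAlong j).rightDerived i).obj F) := by
    intro i hi
    obtain ⟨k, rfl⟩ := Nat.exists_eq_succ_of_ne_zero hi.ne'
    exact Misc.RDExact.isZero_rightDerived_succ _ F k
  have hΦ := ExtAdjAcyc.Φ_bijective (EtShriek.extZeroAdj j) (ZZ U.left) F hR n
  obtain ⟨y, rfl⟩ := hΦ.2 x
  let e := (Groth.Agent.S0623.pullIso j).app F
  let y' : Ext (ZZ U.left) ((EtCoh.pull j).obj F) n := y.comp (Ext.mk₀ e.inv) (add_zero n)
  haveI : LocallyQuasiFinite j := H9FE.EtClopenLift.locallyQuasiFinite_of_etale j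
  haveI : LocallyOfFiniteType j := inferInstance
  obtain ⟨m, hm, hmy⟩ := TorsA.exists_pos_nsmul_eq_zero K j ((EtCoh.pull j).obj F) n hn y'
  refine ⟨m, hm, ?_⟩
  have h0 : m • y' = ((Ext.mk₀ e.inv).postcomp (ZZ U.left) (add_zero n)) (m • y) :=
    (map_nsmul ((Ext.mk₀ e.inv).postcomp (ZZ U.left) (add_zero n)) m y).symm
  have h1 : m • y = 0 := by
    have h2 := Groth.Agent.Helper3.EtMV3.comp_iso_inv_hom e n (m • y)
    rw [← h2]
    have h3 : (m • y).comp (Ext.mk₀ e.inv) (add_zero n) = 0 := h0.symm.trans hmy
    rw [h3, Ext.zero_comp]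
  refine (map_nsmul (ExtAdjAcyc.Φ (EtShriek.extZeroAdj j) (ZZ U.left) F n) m y).symm.trans ?_
  rw [h1, map_zero]

end Field

end H9FE.TorsB
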