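import Mathlib
import Groth.Agent.Lib.Helper9.FE.SiteTorsRpush

/-! helper9: a variant of `SiteTorsRpush.locKilled_rightDerived` for a single sheaf `F`: if the
groups `Ext^{p+1}(Z_U, F)` are killed elementwise by members of `M` for the objects `U = Φ W'` of a
class `B` through which coverings can be refined, then `R^{p+1} Φ_* F` is locally killed by `M`. -/

set_option autoImplicit false
set_option linter.unusedSectionVars false
set_option linter.style.haveILetI false
universe w' w v v₂ u u₂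
open CategoryTheory Limits Opposite Abelian

namespace H9FE.TorsC

open H9FE.SiteSectColim H9FE.CechCartanG H9FE.SiteCechColim H9FE.ExtFilteredColim
  H9FE.SiteHUColim H9FE.SiteTorsColim H9FE.SiteTorsRpush

variable {C : Type u} [Category.{v} C] {Jc : GrothendieckTopology C}
  {D : Type u₂} [Category.{v₂} D] {Jd : GrothendieckTopology D}
  [HasPullbacks C] [LocallySmall.{w} C]
  [∀ U : C, HasFiniteProducts (Over U)]
  [HasSheafify Jc AddCommGrpCat.{w}] [Jc.WEqualsLocallyBijective AddCommGrpCat.{w}]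
  [Jc.HasSheafCompose (forget AddCommGrpCat.{w})]
  [HasExt.{w'} (Sheaf Jc AddCommGrpCat.{w})] [EnoughInjectives (Sheaf Jc AddCommGrpCat.{w})]
  [HasSheafify Jd AddCommGrpCat.{w}] [Jd.WEqualsLocallyBijective AddCommGrpCat.{w}]
  [Jd.HasSheafCompose (forget AddCommGrpCat.{w})]
  {B : Set C}
  (M : Submonoid ℕ)
  [HasProducts.{w} (Sheaf Jc AddCommGrpCat.{w})]
  [HasColimitsOfShape (Idx.{w} M) (Sheaf Jc AddCommGrpCat.{w})]
  [HasExactColimitsOfShape (Idx.{w} M) (Sheaf Jc AddCommGrpCat.{w})]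
  [HasColimitsOfShape (Idx.{w} M) (Sheaf Jd AddCommGrpCat.{w})]
  [HasExactColimitsOfShape (Idx.{w} M) (Sheaf Jd AddCommGrpCat.{w})]
  (Zr : C → Sheaf Jc AddCommGrpCat.{w}) (Rr : ∀ U : C, Repr (Zr U) U)
  (Φ : D ⥤ C) [Φ.IsContinuous Jd Jc]

include Rr in
theorem locKilled_rightDerived_of_ext [PreservesFiniteLimits (P.{w} (Jc := Jc) (Jd := Jd) Φ)]
    (hΦ : ∀ (V : D) (T : Sieve V), T ∈ Jd V →
      Sieve.generate (fun W g => T g ∧ Φ.obj W ∈ B) ∈ Jd V)
    (F : Sheaf Jc AddCommGrpCat.{w}) (p : ℕ)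
    (hExt : ∀ W' : D, Φ.obj W' ∈ B → ∀ x : Ext.{w'} (Zr (Φ.obj W')) F (p + 1),
      ∃ m ∈ M, m • x = 0) :
    LocKilled M (((P.{w} (Jc := Jc) (Jd := Jd) Φ).rightDerived (p + 1)).obj F) := by
  let Pf := P.{w} (Jc := Jc) (Jd := Jd) Φ
  let I : InjectiveResolution F := injectiveResolution F
  let K := (Pf.mapHomologicalComplex (ComplexShape.up ℕ)).obj I.cocomplex
  refine locKilled_of_iso M (I.isoRightDerivedObj Pf (p + 1)) ?_
  change LocKilled M (K.homology (p + 1))
  rw [locKilled_iff]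
  intro V s
  haveI : Sheaf.IsLocallySurjective (K.homologyπ (p + 1)) :=
    (Sheaf.isLocallySurjective_iff_epi' (φ := K.homologyπ (p + 1))).2 inferInstance
  have hcov := hΦ V _ (Presheaf.imageSieve_mem Jd (K.homologyπ (p + 1)).hom s)
  refine Jd.superset_covering ?_ hcov
  rintro W g ⟨W', k, g', ⟨⟨c, hc⟩, hW'⟩, rfl⟩
  apply Sieve.downward_closed
  -- the cocycle
  let R := Rr (Φ.obj W')
  let z : (I.cocomplex.X (p + 1)).obj.obj (op (Φ.obj W')) :=
    ((K.iCycles (p + 1)).hom.app (op W')).hom c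
  have hz : ((I.cocomplex.d (p + 1) (p + 2)).hom.app (op (Φ.obj W'))).hom z = 0 := by
    have h1 : K.iCycles (p + 1) ≫ K.d (p + 1) (p + 2) = 0 := K.iCycles_d (p + 1) (p + 2)
    have h2 := congrArg (fun φ => (φ.hom.app (op W')).hom c) h1
    exact h2
  let ζ : Zr (Φ.obj W') ⟶ I.cocomplex.X (p + 1) := (R.e _).symm z
  have hζ : ζ ≫ I.cocomplex.d (p + 1) (p + 2) = 0 := by
    apply (R.e _).injective
    rw [R.nat, Equiv.apply_symm_apply, R.e_zero]
    exact hz
  obtain ⟨m, hm, h⟩ := hExt W' hW' (I.extMk ζ (p + 2) rfl hζ)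
  rw [nsmul_extMk, InjectiveResolution.extMk_eq_zero_iff _ _ _ _ _ p rfl] at h
  obtain ⟨γ, hγ⟩ := h
  let wsec : (K.X p).obj.obj (op W') := R.e _ γ
  have hw : ((K.d p (p + 1)).hom.app (op W')).hom wsec = m • z := by
    have h1 := R.nat (I.cocomplex.d p (p + 1)) γ
    rw [hγ, R.e_nsmul, Equiv.apply_symm_apply] at h1
    exact h1.symm
  -- hence `m • c` is a boundary
  have hinj : Function.Injective ((K.iCycles (p + 1)).hom.app (op W')).hom := by
    have h : Mono ((Γ Jd W').map (K.iCycles (p + 1))) := inferInstance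
    exact (AddCommGrpCat.mono_iff_injective _).1 h
  have hc' : ((K.toCycles p (p + 1)).hom.app (op W')).hom wsec = m • c := by
    apply hinj
    rw [map_nsmul]
    have h1 : K.toCycles p (p + 1) ≫ K.iCycles (p + 1) = K.d p (p + 1) := K.toCycles_i p (p + 1)
    have h2 := congrArg (fun φ => (φ.hom.app (op W')).hom wsec) h1
    exact h2.trans hw
  refine ⟨m, hm, ?_⟩
  have h3 : ((K.homologyπ (p + 1)).hom.app (op W')).hom (m • c) = 0 := by
    rw [← hc']
    have h1 : K.toCycles p (p + 1) ≫ K.homologyπ (p + 1) = 0 := K.toCycles_comp_homologyπ p (p + 1)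
    have h2 := congrArg (fun φ => (φ.hom.app (op W')).hom wsec) h1
    exact h2
  rw [map_nsmul] at h3
  have hc2 : ((K.homologyπ (p + 1)).hom.app (op W')).hom c =
      ((K.homology (p + 1)).obj.map g'.op).hom s := hc
  rw [hc2] at h3
  exact h3

end H9FE.TorsC
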