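import Mathlib
import Groth.Agent.Lib.Helper5.Misc.ExtAdjAcyc

/-! helper9: for an adjunction `L ⊣ R` of abelian categories with `L` exact, the adjunction map
`Ext¹(X, R F) → Ext¹(L X, F)` is injective (the edge map `E₂^{1,0} ↪ H¹` of the Leray spectral
sequence). -/

set_option autoImplicit false
open CategoryTheory CategoryTheory.Limits Abelian
universe w w' v v' u u'

namespace H9FE.TorsD

set_option linter.style.haveILetI false
set_option linter.unusedSectionVars false

open Groth.Agent.Lib.Helper5.ExtAdjAcyc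

variable {A : Type u} [Category.{v} A] [Abelian A] {B : Type u'} [Category.{v'} B] [Abelian B]
  [HasExt.{w} A] [HasExt.{w'} B]
  {L : B ⥤ A} {R : A ⥤ B} (adj : L ⊣ R) [L.Additive] [R.Additive]
  [PreservesFiniteLimits L] [PreservesFiniteColimits L]

theorem Φ_injective_one [EnoughInjectives A] (X : B) (F : A) :
    Function.Injective (Φ adj X F 1) := by
  haveI : PreservesFiniteLimits R := by
    have := adj.rightAdjoint_preservesLimits
    infer_instance
  rw [injective_iff_map_eq_zero]
  intro e he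
  let I : InjectivePresentation F := Classical.arbitrary _
  haveI : Mono I.f := I.mono
  let S := ShortComplex.mk I.f (cokernel.π I.f) (cokernel.condition I.f)
  have hS : S.ShortExact := { exact := ShortComplex.exact_cokernel I.f }
  haveI : Injective I.J := I.injective
  haveI : Injective (R.obj I.J) := adj.map_injective _ I.injective
  -- the image of `R π`
  let π' : R.obj I.J ⟶ R.obj S.X₃ := R.map S.g
  let q : R.obj I.J ⟶ Abelian.image π' := Abelian.factorThruImage π'
  let ι' : Abelian.image π' ⟶ R.obj S.X₃ := Abelian.image.ι π'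
  have hqι : q ≫ ι' = π' := Abelian.image.fac π'
  have hz : R.map S.f ≫ q = 0 := by
    rw [← cancel_mono ι', Category.assoc, hqι, zero_comp, ← R.map_comp, S.zero, R.map_zero]
  let S' : ShortComplex B := ShortComplex.mk (R.map S.f) q hz
  have hS' : S'.ShortExact := by
    haveI := hS.mono_f
    haveI : Mono S'.f := by
      change Mono (R.map S.f)
      infer_instance
    haveI : Epi S'.g := by
      change Epi (Abelian.factorThruImage π')
      infer_instance
    refine { exact := ?_ }
    have h1 : (S.map R).Exact :=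
      hS.exact.map_of_mono_of_preservesKernel R hS.mono_f inferInstance
    let φ : S' ⟶ S.map R := ShortComplex.homMk (𝟙 _) (𝟙 _) ι'
      ((Category.id_comp _).trans (Category.comp_id _).symm)
      ((Category.id_comp _).trans hqι.symm)
    haveI : Epi φ.τ₁ := by
      change Epi (𝟙 (R.obj S.X₁))
      infer_instance
    haveI : IsIso φ.τ₂ := by
      change IsIso (𝟙 (R.obj S.X₂))
      infer_instance
    haveI : Mono φ.τ₃ := by
      change Mono (Abelian.image.ι π')
      infer_instance
    exact (ShortComplex.exact_iff_of_epi_of_isIso_of_mono φ).2 h1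
  -- `e` comes from `Hom(X, image)`
  obtain ⟨e₀, rfl⟩ := Ext.covariant_sequence_exact₁ X hS' e (Ext.eq_zero_of_injective _)
    (rfl : 0 + 1 = 1)
  obtain ⟨a, rfl⟩ := (Ext.mk₀_bijective _ _).2 e₀
  -- the morphism of short complexes `L S' ⟶ S`
  obtain ⟨τ₃, hτ₃⟩ : ∃ t : L.obj (Abelian.image π') ⟶ S.X₃,
      t = L.map ι' ≫ adj.counit.app S.X₃ := ⟨_, rfl⟩
  let ψ : S'.map L ⟶ S := ShortComplex.homMk (adj.counit.app S.X₁) (adj.counit.app S.X₂) τ₃
    (adj.counit_naturality S.f).symm
    (by
      change adj.counit.app S.X₂ ≫ S.g = L.map q ≫ τ₃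
      rw [hτ₃, ← Category.assoc, ← L.map_comp, hqι]
      exact (adj.counit_naturality S.g).symm)
  have hSL : (S'.map L).ShortExact := hS'.map_of_exact L
  have key' : (hS'.extClass.mapExactFunctor L).comp (Ext.mk₀ (adj.counit.app S.X₁))
      (add_zero 1) = (Ext.mk₀ τ₃).comp hS.extClass (zero_add 1) := by
    rw [Ext.mapExactFunctor_extClass]
    exact ShortComplex.ShortExact.extClass_naturality hSL hS ψ
  have hΦ : Φ adj X F 1 ((Ext.mk₀ a).comp hS'.extClass (zero_add 1)) =
      (Ext.mk₀ (L.map a ≫ τ₃)).comp hS.extClass (zero_add 1) := by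
    rw [Φ_apply, Ext.mapExactFunctor_comp, Ext.comp_assoc_of_third_deg_zero, key',
      Ext.mapExactFunctor_mk₀]
    refine (Ext.comp_assoc_of_second_deg_zero _ _ _ _).symm.trans ?_
    rw [Ext.mk₀_comp_mk₀]
  rw [hΦ] at he
  obtain ⟨x₂, hx₂⟩ := Ext.covariant_sequence_exact₃ (L.obj X) hS (Ext.mk₀ (L.map a ≫ τ₃))
    (zero_add 1) he
  obtain ⟨b, rfl⟩ := (Ext.mk₀_bijective _ _).2 x₂
  rw [Ext.mk₀_comp_mk₀] at hx₂
  have hb : b ≫ S.g = L.map a ≫ τ₃ := (Ext.mk₀_bijective _ _).1 hx₂
  -- adjoint of `b`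
  let b' : X ⟶ R.obj I.J := adj.homEquiv X S.X₂ b
  have hb' : b' ≫ q = a := by
    rw [← cancel_mono ι', Category.assoc, hqι]
    have h1 : b' ≫ π' = adj.homEquiv X S.X₃ (b ≫ S.g) :=
      (Adjunction.homEquiv_naturality_right adj b S.g).symm
    rw [h1, hb]
    have h2 : L.map a ≫ τ₃ = (adj.homEquiv X S.X₃).symm (a ≫ ι') := by
      rw [Adjunction.homEquiv_counit, L.map_comp, Category.assoc, hτ₃]
    rw [h2, Equiv.apply_symm_apply]
  rw [← hb', ← Ext.mk₀_comp_mk₀, Ext.comp_assoc_of_second_deg_zero]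
  have hzero : (Ext.mk₀ q).comp hS'.extClass (zero_add 1) = 0 := hS'.comp_extClass
  rw [hzero, Ext.comp_zero]

end H9FE.TorsD
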