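import Mathlib
import Groth.Prelude.Def_EtBase
import Groth.Prelude.Def_EtCore
import Groth.Prelude.Def_RDerDelta
import Groth.Agent.Lib.Helper9.FE.TorsD
import Groth.Agent.Lib.Helper9.FE.EtTorsH
import Groth.Agent.Lib.Helper3.RDerL
import Groth.Agent.S0623

/-! helper9: a Serre-class form of the Leray spectral sequence for torsion: if `R¹f_*` of every
sheaf is a torsion sheaf and `H¹(X', -)` is torsion, then `H^q(X, f_* F)` is torsion for all
`q ≥ 1` (`X` quasi-compact and quasi-separated). -/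

set_option autoImplicit false
open CategoryTheory CategoryTheory.Limits AlgebraicGeometry Opposite Abelian
universe u

namespace H9FE.TorsE

set_option backward.isDefEq.respectTransparency false
set_option linter.style.haveILetI false
set_option linter.unusedSectionVars false

section ExtLin
universe w v₁ u₁
variable {C : Type u₁} [Category.{v₁} C] [Abelian C] [HasExt.{w} C] {X Y Z : C}

lemma nsmul_comp {a b c : ℕ} (m : ℕ) (α : Ext X Y a) (β : Ext Y Z b) (h : a + b = c) :
    (m • α).comp β h = m • α.comp β h :=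
  map_nsmul (β.postcomp X h) m α

lemma comp_nsmul {a b c : ℕ} (m : ℕ) (α : Ext X Y a) (β : Ext Y Z b) (h : a + b = c) :
    α.comp (m • β) h = m • α.comp β h :=
  map_nsmul ((Ext.bilinearComp X Y Z a b c h) α) m β

end ExtLin

section Img
universe v₁ u₁ v₂ u₂
variable {A : Type u₁} [Category.{v₁} A] [Abelian A] [EnoughInjectives A]
  {B : Type u₂} [Category.{v₂} B] [Abelian B]
  (R : A ⥤ B) [R.Additive] [PreservesFiniteLimits R] (S : ShortComplex A)

/-- `R X₁ ⟶ R X₂ ⟶ im (R g)` -/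
noncomputable def sc₁ : ShortComplex B :=
  ShortComplex.mk (R.map S.f) (Abelian.factorThruImage (R.map S.g)) (by
    rw [← cancel_mono (Abelian.image.ι (R.map S.g)), Category.assoc, Abelian.image.fac,
      zero_comp, ← R.map_comp, S.zero, R.map_zero])

/-- `im (R g) ⟶ R X₃ ⟶ coker` -/
noncomputable def sc₂ : ShortComplex B :=
  ShortComplex.mk (Abelian.image.ι (R.map S.g)) (cokernel.π (Abelian.image.ι (R.map S.g)))
    (cokernel.condition _)

variable {S}

lemma sc₁_shortExact (hS : S.ShortExact) : (sc₁ R S).ShortExact := by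
  haveI := hS.mono_f
  haveI : Mono (sc₁ R S).f := by
    change Mono (R.map S.f)
    infer_instance
  haveI : Epi (sc₁ R S).g := by
    change Epi (Abelian.factorThruImage (R.map S.g))
    infer_instance
  refine { exact := ?_ }
  have h1 : (S.map R).Exact :=
    hS.exact.map_of_mono_of_preservesKernel R hS.mono_f inferInstance
  let φ : sc₁ R S ⟶ S.map R := ShortComplex.homMk (𝟙 _) (𝟙 _) (Abelian.image.ι (R.map S.g))
    ((Category.id_comp _).trans (Category.comp_id _).symm)
    ((Category.id_comp _).trans (Abelian.image.fac (R.map S.g)).symm)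
  haveI : Epi φ.τ₁ := by
    change Epi (𝟙 (R.obj S.X₁))
    infer_instance
  haveI : IsIso φ.τ₂ := by
    change IsIso (𝟙 (R.obj S.X₂))
    infer_instance
  haveI : Mono φ.τ₃ := by
    change Mono (Abelian.image.ι (R.map S.g))
    infer_instance
  exact (ShortComplex.exact_iff_of_epi_of_isIso_of_mono φ).2 h1

lemma sc₂_shortExact : (sc₂ R S).ShortExact :=
  { exact := ShortComplex.exact_cokernel _
    mono_f := inferInstanceAs (Mono (Abelian.image.ι (R.map S.g)))
    epi_g := inferInstanceAs (Epi (cokernel.π (Abelian.image.ι (R.map S.g)))) }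

/-- the connecting map `R X₃ ⟶ R¹ X₁` -/
noncomputable def δ' (hS : S.ShortExact) : R.obj S.X₃ ⟶ (R.rightDerived 1).obj S.X₁ :=
  R.rightDerivedZeroIsoSelf.inv.app S.X₃ ≫ (Groth.Agent.Helper3.RDerL.derivedLES R).δ S hS 0 1 rfl

lemma map_g_δ' (hS : S.ShortExact) : R.map S.g ≫ δ' R hS = 0 := by
  unfold δ'
  have h1 := R.rightDerivedZeroIsoSelf.inv.naturality S.g
  rw [← Category.assoc, h1, Category.assoc,
    (Groth.Agent.Helper3.RDerL.derivedLES R).comp_δ S hS 0 1 rfl, comp_zero]

lemma exact_g_δ' (hS : S.ShortExact) :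
    (ShortComplex.mk (R.map S.g) (δ' R hS) (map_g_δ' R hS)).Exact := by
  have h0 := (Groth.Agent.Helper3.RDerL.derivedLES R).exact₃ S hS 0 1 rfl
  refine (ShortComplex.exact_iff_of_iso ?_).1 h0
  refine ShortComplex.isoMk (R.rightDerivedZeroIsoSelf.app S.X₂) (R.rightDerivedZeroIsoSelf.app S.X₃)
    (Iso.refl _) ?_ ?_
  · exact (R.rightDerivedZeroIsoSelf.hom.naturality S.g).symm
  · change R.rightDerivedZeroIsoSelf.hom.app S.X₃ ≫ δ' R hS =
      (Groth.Agent.Helper3.RDerL.derivedLES R).δ S hS 0 1 rfl ≫ 𝟙 _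
    unfold δ'
    rw [Category.comp_id, ← Category.assoc, Iso.hom_inv_id_app, Category.id_comp]

lemma ι_δ' (hS : S.ShortExact) : Abelian.image.ι (R.map S.g) ≫ δ' R hS = 0 := by
  rw [← cancel_epi (Abelian.factorThruImage (R.map S.g)), ← Category.assoc, Abelian.image.fac,
    map_g_δ', comp_zero]

/-- the cokernel of `R X₂ ⟶ R X₃` embeds into `R¹ X₁` -/
noncomputable def cokerToR1 (hS : S.ShortExact) :
    (sc₂ R S).X₃ ⟶ (R.rightDerived 1).obj S.X₁ :=
  cokernel.desc (Abelian.image.ι (R.map S.g)) (δ' R hS) (ι_δ' R hS)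

instance mono_cokerToR1 (hS : S.ShortExact) : Mono (cokerToR1 R hS) := by
  have h1 : (ShortComplex.mk (Abelian.image.ι (R.map S.g)) (δ' R hS) (ι_δ' R hS)).Exact := by
    let φ : ShortComplex.mk (R.map S.g) (δ' R hS) (map_g_δ' R hS) ⟶
        ShortComplex.mk (Abelian.image.ι (R.map S.g)) (δ' R hS) (ι_δ' R hS) :=
      ShortComplex.homMk (Abelian.factorThruImage (R.map S.g)) (𝟙 _) (𝟙 _)
        ((Abelian.image.fac (R.map S.g)).trans (Category.comp_id _).symm)
        ((Category.id_comp _).trans (Category.comp_id _).symm)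
    haveI : Epi φ.τ₁ := by
      change Epi (Abelian.factorThruImage (R.map S.g))
      infer_instance
    haveI : IsIso φ.τ₂ := by
      change IsIso (𝟙 (R.obj S.X₃))
      infer_instance
    haveI : Mono φ.τ₃ := by
      change Mono (𝟙 ((R.rightDerived 1).obj S.X₁))
      infer_instance
    exact (ShortComplex.exact_iff_of_epi_of_isIso_of_mono φ).1 (exact_g_δ' R hS)
  exact h1.mono_cokernelDesc

end Img

section Tors

variable {X : Scheme.{u}}

/-- a subsheaf of a torsion sheaf is torsion -/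
lemma isTorsion_of_mono {T G : EtCoh.Ab X} (φ : T ⟶ G) [Mono φ] (hG : EtCoh.IsTorsion G) :
    EtCoh.IsTorsion T := by
  intro U s x
  obtain ⟨V, g, hv, hs⟩ := hG U ((φ.hom.app (op U)).hom s) x
  refine ⟨V, g, hv, ?_⟩
  obtain ⟨m, hm, hms⟩ := isOfFinAddOrder_iff_nsmul_eq_zero.1 hs
  refine isOfFinAddOrder_iff_nsmul_eq_zero.2 ⟨m, hm, ?_⟩
  have hinj : Function.Injective (φ.hom.app (op V)).hom := by
    have h : Mono ((H9FE.CechCartanG.Γ X.smallEtaleTopology V).map φ) := inferInstance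
    exact (AddCommGrpCat.mono_iff_injective _).1 h
  apply hinj
  rw [map_nsmul, map_zero]
  have hn := ConcreteCategory.congr_hom (φ.hom.naturality g.op) s
  exact (congrArg (fun t => m • t) hn).trans hms

end Tors

section Main

open H9FE.EtHColim H9FE.EtTorsH Groth.Agent.Lib.Helper5.ExtAdjAcyc

variable {X' X : Scheme.{u}} (f : X' ⟶ X)

instance pfl_push : PreservesFiniteLimits (EtCoh.push f) := by
  haveI : PreservesLimitsOfSize.{0, 0} (EtCoh.push f) :=
    (EtCoh.pullPushAdj f).rightAdjoint_preservesLimits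
  exact PreservesLimitsOfSize.preservesFiniteLimits _

theorem torsion_H_push [CompactSpace X] [QuasiSeparatedSpace X]
    (H1 : ∀ F : EtCoh.Ab X', EtCoh.IsTorsion ((EtCoh.Rpush f 1).obj F))
    (H2 : ∀ (F : EtCoh.Ab X') (α : EtCoh.H X' F 1), ∃ m : ℕ, 0 < m ∧ m • α = 0) :
    ∀ (q : ℕ) (F : EtCoh.Ab X') (x : EtCoh.H X ((EtCoh.push f).obj F) (q + 1)),
      ∃ m : ℕ, 0 < m ∧ m • x = 0 := by
  intro q
  induction q with
  | zero =>
    intro F x
    have hinj := H9FE.TorsD.Φ_injective_one (EtCoh.pullPushAdj f) (ZZ X) F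
    let y : EtCoh.H X' F 1 := (Ext.mk₀ (EtCore.pullConst f ℤ).inv).comp
      (Φ (EtCoh.pullPushAdj f) (ZZ X) F 1 x) (zero_add 1)
    obtain ⟨m, hm, hmy⟩ := H2 F y
    refine ⟨m, hm, hinj ?_⟩
    rw [map_nsmul, map_zero]
    have h1 : (Ext.mk₀ (EtCore.pullConst f ℤ).inv).comp
        (m • Φ (EtCoh.pullPushAdj f) (ZZ X) F 1 x) (zero_add 1) = 0 :=
      (comp_nsmul m _ _ _).trans hmy
    have h2 : (Ext.mk₀ (EtCore.pullConst f ℤ).hom).comp
        ((Ext.mk₀ (EtCore.pullConst f ℤ).inv).comp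
          (m • Φ (EtCoh.pullPushAdj f) (ZZ X) F 1 x) (zero_add 1)) (zero_add 1) = 0 := by
      rw [h1, Ext.comp_zero]
    rw [← Ext.comp_assoc_of_second_deg_zero, Ext.mk₀_comp_mk₀, Iso.hom_inv_id,
      Ext.mk₀_id_comp] at h2
    exact h2
  | succ q ih =>
    intro F x
    let I : InjectivePresentation F := Classical.arbitrary _
    haveI : Mono I.f := I.mono
    let S := ShortComplex.mk I.f (cokernel.π I.f) (cokernel.condition I.f)
    have hS : S.ShortExact := { exact := ShortComplex.exact_cokernel I.f }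
    haveI : Injective I.J := I.injective
    haveI : Injective ((EtCoh.push f).obj I.J) := inferInstance
    have h1 := sc₁_shortExact (EtCoh.push f) hS
    have h2 := sc₂_shortExact (EtCoh.push f) (S := S)
    -- `x` comes from the image
    obtain ⟨b, hb⟩ := Ext.covariant_sequence_exact₁ (ZZ X) h1 x
      (Ext.eq_zero_of_injective (I := (EtCoh.push f).obj I.J) _) (rfl : q + 1 + 1 = q + 1 + 1)
    -- the image of `b` in the cohomology of `f_* Q` is torsion
    obtain ⟨m₁, hm₁, hmb⟩ := ih S.X₃ (b.comp (Ext.mk₀ (sc₂ (EtCoh.push f) S).f) (add_zero (q + 1)))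
    have hmb' : (m₁ • b).comp (Ext.mk₀ (sc₂ (EtCoh.push f) S).f) (add_zero (q + 1)) = 0 :=
      (nsmul_comp m₁ _ _ _).trans hmb
    obtain ⟨t, ht⟩ := Ext.covariant_sequence_exact₁ (ZZ X) h2 (m₁ • b) hmb'
      (rfl : q + 1 = q + 1)
    -- the cokernel is a torsion sheaf
    have hT : EtCoh.IsTorsion (sc₂ (EtCoh.push f) S).X₃ :=
      isTorsion_of_mono (cokerToR1 (EtCoh.push f) hS) (H1 F)
    obtain ⟨m₂, hm₂, hmt⟩ := isOfFinAddOrder_iff_nsmul_eq_zero.1
      (isAddTorsion_H (sc₂ (EtCoh.push f) S).X₃ hT q t)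
    refine ⟨m₂ * m₁, Nat.mul_pos hm₂ hm₁, ?_⟩
    rw [← hb, ← nsmul_comp, mul_smul, ← ht, ← nsmul_comp, hmt, Ext.zero_comp, Ext.zero_comp]

end Main

end H9FE.TorsE
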