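import Mathlib
import Groth.Prelude.Def_EtBase
import Groth.Prelude.Def_EtCore
import Groth.Agent.Lib.Helper9.FE.TorsA
import Groth.Agent.Lib.Helper9.FE.TorsE
import Groth.Agent.Lib.Helper9.FE.ConstUnit
import Groth.Agent.Lib.Helper3.EtMV2

/-! helper9: the first étale cohomology group of the spectrum of a field with coefficients in a
constant sheaf with torsion-free value vanishes. -/

set_option autoImplicit false
open CategoryTheory CategoryTheory.Limits AlgebraicGeometry Opposite Abelian
universe u

namespace H9FE.TorsF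

set_option backward.isDefEq.respectTransparency false
set_option linter.style.haveILetI false
set_option linter.unusedSectionVars false

open H9FE.ConstUnit H9FE.TorsE Groth.Agent.Helper3.EtMV2

section Const

variable (Y : Scheme.{u})

instance pfl_const : PreservesFiniteLimits
    (constantSheaf Y.smallEtaleTopology AddCommGrpCat.{u + 1}) := by
  unfold constantSheaf
  infer_instance

instance pfc_const : PreservesFiniteColimits
    (constantSheaf Y.smallEtaleTopology AddCommGrpCat.{u + 1}) := by
  haveI : PreservesColimitsOfSize.{0, 0}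
      (constantSheaf Y.smallEtaleTopology AddCommGrpCat.{u + 1}) :=
    (EtCore.constAdj Y).leftAdjoint_preservesColimits
  exact PreservesColimitsOfSize.preservesFiniteColimits _

instance additive_const :
    (constantSheaf Y.smallEtaleTopology AddCommGrpCat.{u + 1}).Additive := by
  haveI : PreservesBinaryBiproducts
      (constantSheaf Y.smallEtaleTopology AddCommGrpCat.{u + 1}) :=
    preservesBinaryBiproducts_of_preservesBinaryProducts _
  exact Functor.additive_of_preservesBinaryBiproducts _

/-- the map on constant sheaves is compatible with the canonical sections -/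
lemma cS_map_toSheafify {A A' : AddCommGrpCat.{u + 1}} (π : A ⟶ A') (V : Y.Etale) (a : A) :
    (((constantSheaf Y.smallEtaleTopology AddCommGrpCat.{u + 1}).map π).hom.app (op V)).hom
        ((toSheafify Y.smallEtaleTopology (cP Y A)).app (op V) a) =
      (toSheafify Y.smallEtaleTopology (cP Y A')).app (op V) (π.hom a) := by
  have h := toSheafify_naturality Y.smallEtaleTopology ((Functor.const Y.Etaleᵒᵖ).map π)
  have h2 := congrArg (fun η => (η.app (op V)).hom a) h
  exact h2.symm

end Const

section Field

variable (K : Type u) [Field K] (A : AddCommGrpCat.{u + 1})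
  (hA : ∀ m : ℕ, 0 < m → Function.Injective (fun a : A => m • a))

include hA in
theorem H1_const_subsingleton :
    Subsingleton (EtCoh.H (Spec (CommRingCat.of K)) (cS (Spec (CommRingCat.of K)) A) 1) := by
  let Y := Spec (CommRingCat.of K)
  let CS := constantSheaf Y.smallEtaleTopology AddCommGrpCat.{u + 1}
  have key : ∀ α : EtCoh.H Y (cS Y A) 1, α = 0 := by
    intro α
    obtain ⟨m, hm, hmα⟩ := H9FE.TorsA.exists_pos_nsmul_eq_zero K (𝟙 Y) (cS Y A) 1 le_rfl α
    -- the multiplication sequence
    let μ : A ⟶ A := m • 𝟙 A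
    haveI : Mono μ := by
      rw [AddCommGrpCat.mono_iff_injective]
      intro a b hab
      apply hA m hm
      have e : ∀ c : A, μ.hom c = m • c := by
        intro c
        change (m • 𝟙 A : A ⟶ A).hom c = m • c
        rw [AddCommGrpCat.hom_nsmul]
        rfl
      exact (e a).symm.trans (hab.trans (e b))
    let S₀ : ShortComplex AddCommGrpCat.{u + 1} :=
      ShortComplex.mk μ (cokernel.π μ) (cokernel.condition μ)
    have hS₀ : S₀.ShortExact :=
      { exact := ShortComplex.exact_cokernel μ
        mono_f := inferInstanceAs (Mono μ)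
        epi_g := inferInstanceAs (Epi (cokernel.π μ)) }
    have hS : (S₀.map CS).ShortExact := hS₀.map_of_exact CS
    -- `m • α = 0` means that `α` comes from the quotient
    have hμ : CS.map μ = m • 𝟙 (CS.obj A) := by
      change CS.map (m • 𝟙 A) = _
      rw [Functor.map_nsmul, CategoryTheory.Functor.map_id]
    have h0 : α.comp (Ext.mk₀ (S₀.map CS).f) (add_zero 1) = 0 := by
      change α.comp (Ext.mk₀ (CS.map μ)) (add_zero 1) = 0
      rw [hμ]
      have e1 : (Ext.mk₀ (m • 𝟙 (CS.obj A)) : Ext (CS.obj A) (CS.obj A) 0) =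
          m • Ext.mk₀ (𝟙 (CS.obj A)) :=
        map_nsmul (Ext.addEquiv₀ (X := CS.obj A) (Y := CS.obj A)).symm m (𝟙 _)
      rw [e1, comp_nsmul, Ext.comp_mk₀_id]
      exact hmα
    obtain ⟨β, hβ⟩ := Ext.covariant_sequence_exact₁ (EtCoh.const Y ℤ) hS α h0
      (rfl : 0 + 1 = 1)
    -- lift `β`
    have hsurj : ∃ γ : Ext (EtCoh.const Y ℤ) (S₀.map CS).X₂ 0,
        γ.comp (Ext.mk₀ (S₀.map CS).g) (add_zero 0) = β := by
      haveI : IrreducibleSpace ↥(EtCoh.top Y).left :=
        (inferInstance : IrreducibleSpace ↥(Spec (CommRingCat.of K)))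
      obtain ⟨ā, hā⟩ := ts_surjective Y (cokernel μ) (EtCoh.top Y) (ev Y _ β)
      have hπ : Function.Surjective (cokernel.π μ).hom :=
        (AddCommGrpCat.epi_iff_surjective _).1 inferInstance
      obtain ⟨a, rfl⟩ := hπ ā
      let t : (S₀.map CS).X₂.obj.obj (op (EtCoh.top Y)) :=
        (toSheafify Y.smallEtaleTopology (cP Y A)).app (op (EtCoh.top Y)) a
      refine ⟨(ev Y (S₀.map CS).X₂).symm t, ?_⟩
      apply (ev Y _).injective
      rw [ev_naturality, AddEquiv.apply_symm_apply]
      exact (cS_map_toSheafify Y (cokernel.π μ) (EtCoh.top Y) a).trans hā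
    obtain ⟨γ, rfl⟩ := hsurj
    rw [← hβ]
    refine (Ext.comp_assoc_of_second_deg_zero _ _ _ _).trans ?_
    have hz : (Ext.mk₀ (S₀.map CS).g).comp hS.extClass (zero_add 1) = 0 := hS.comp_extClass
    rw [hz, Ext.comp_zero]
  exact ⟨fun a b => (key a).trans (key b).symm⟩

end Field

end H9FE.TorsF
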