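import Mathlib
import Groth.Prelude.Def_SGA1t
import Groth.Agent.Lib.Helper9.FE.TorsAlg
import Groth.Agent.Lib.Helper9.FE.TorsAS

/-! helper9: Kummer theory for torsor algebras under `μ_n` over a local ring. -/

open Polynomial
universe u
set_option linter.style.haveILetI false
set_option linter.unusedSectionVars false
namespace H9FE
open H9SF

section Roots
variable {A : Type u} [CommRing A] [IsLocalRing A] (n : ℕ)

/-- over a local ring in which `n` is invertible, a nontrivial `n`-th root of unity differs from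
one by a unit -/
theorem isUnit_sub_one_of_pow_eq_one (hn : IsUnit ((n : ℕ) : A)) (g : A) (hg : g ^ n = 1)
    (hne : g ≠ 1) : IsUnit (g - 1) := by
  by_contra hnu
  have hm : g - 1 ∈ IsLocalRing.maximalIdeal A := by
    rwa [IsLocalRing.mem_maximalIdeal, mem_nonunits_iff]
  have hres : IsLocalRing.residue A g = 1 := by
    have := (IsLocalRing.residue_eq_zero_iff (g - 1)).mpr hm
    rw [map_sub, map_one, sub_eq_zero] at this
    exact this
  have hsum : IsUnit (∑ i ∈ Finset.range n, g ^ i) := by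
    rw [← IsLocalRing.residue_ne_zero_iff_isUnit, map_sum]
    simp only [map_pow, hres, one_pow, Finset.sum_const, Finset.card_range, nsmul_eq_mul, mul_one]
    have h1 : IsLocalRing.residue A ((n : ℕ) : A) ≠ 0 :=
      (IsLocalRing.residue_ne_zero_iff_isUnit _).mpr hn
    rwa [map_natCast] at h1
  have h2 : (∑ i ∈ Finset.range n, g ^ i) * (g - 1) = 0 := by
    rw [geom_sum_mul, hg, sub_self]
  have h3 : g - 1 = 0 := (hsum.mul_right_eq_zero).mp h2
  exact hne (sub_eq_zero.mp h3)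

variable {n}

theorem algebraMap_rootsOfUnity_injective (hn : IsUnit ((n : ℕ) : A))
    {Ω : Type u} [Field Ω] [Algebra A Ω] :
    Function.Injective (fun g : rootsOfUnity n A => algebraMap A Ω ((g : Aˣ) : A)) := by
  intro g h hgh
  by_contra hne
  have h1 : (((g * h⁻¹ : rootsOfUnity n A) : Aˣ) : A) ≠ 1 := by
    intro h2
    apply hne
    have h3 : ((g * h⁻¹ : rootsOfUnity n A) : Aˣ) = 1 := Units.ext h2
    have h4 : g * h⁻¹ = 1 := Subtype.ext h3
    exact mul_inv_eq_one.mp h4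
  have h5 : (((g * h⁻¹ : rootsOfUnity n A) : Aˣ) : A) ^ n = 1 := by
    have := (mem_rootsOfUnity n ((g * h⁻¹ : rootsOfUnity n A) : Aˣ)).mp (g * h⁻¹).2
    have h6 := congrArg Units.val this
    simpa using h6
  have hu := isUnit_sub_one_of_pow_eq_one n hn _ h5 h1
  have hu' := hu.map (algebraMap A Ω)
  rw [map_sub, map_one] at hu'
  apply hu'.ne_zero
  rw [sub_eq_zero]
  have h7 : algebraMap A Ω (((g * h⁻¹ : rootsOfUnity n A) : Aˣ) : A) *
      algebraMap A Ω ((h : Aˣ) : A) = algebraMap A Ω ((g : Aˣ) : A) := by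
    rw [← map_mul]
    congr 1
    have : ((g * h⁻¹ : rootsOfUnity n A) : Aˣ) * (h : Aˣ) = (g : Aˣ) := by
      rw [Subgroup.coe_mul, Subgroup.coe_inv, inv_mul_cancel_right]
    exact congrArg Units.val this
  have h8 : algebraMap A Ω ((h : Aˣ) : A) ≠ 0 := ((h : Aˣ).isUnit.map (algebraMap A Ω)).ne_zero
  have h9 : algebraMap A Ω ((g : Aˣ) : A) = algebraMap A Ω ((h : Aˣ) : A) := hgh
  rw [h9] at h7
  exact mul_right_cancel₀ h8 (h7.trans (one_mul _).symm)

theorem exists_rootsOfUnity_algebraMap_eq (hn1 : 1 ≤ n) (hn : IsUnit ((n : ℕ) : A)) (ζ₀ : A)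
    (hζ₀ : IsPrimitiveRoot ζ₀ n) {Ω : Type u} [Field Ω] [Algebra A Ω] (ω : Ω) (hω : ω ^ n = 1) :
    ∃ g : rootsOfUnity n A, algebraMap A Ω ((g : Aˣ) : A) = ω := by
  haveI : NeZero n := ⟨by omega⟩
  have hprim : IsPrimitiveRoot (algebraMap A Ω ζ₀) n := by
    refine IsPrimitiveRoot.mk_of_lt _ (by omega) (by rw [← map_pow, hζ₀.pow_eq_one, map_one]) ?_
    intro l hl0 hln h1
    have hne : ζ₀ ^ l ≠ 1 := hζ₀.pow_ne_one_of_pos_of_lt (by omega) hln
    have hpow : (ζ₀ ^ l) ^ n = 1 := by rw [← pow_mul, mul_comm, pow_mul, hζ₀.pow_eq_one, one_pow]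
    have hu := (isUnit_sub_one_of_pow_eq_one n hn _ hpow hne).map (algebraMap A Ω)
    rw [map_sub, map_one, map_pow] at hu
    exact hu.ne_zero (sub_eq_zero.mpr h1)
  obtain ⟨i, -, hi⟩ := hprim.eq_pow_of_pow_eq_one hω
  refine ⟨hζ₀.toRootsOfUnity ^ i, ?_⟩
  rw [← hi, ← map_pow]
  congr 1

end Roots


section Kum
variable {A B : Type u} [CommRing A] [CommRing B] [Algebra A B] (n : ℕ)

/-- the Kummer polynomial -/
noncomputable def kumPoly (a : A) : A[X] := X ^ n - C a

theorem kumPoly_monic (hn1 : 1 ≤ n) (a : A) : (kumPoly n a).Monic :=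
  monic_X_pow_sub_C a (by omega)

theorem kum_finite (hn1 : 1 ≤ n) (a : A) : Module.Finite A (AdjoinRoot (kumPoly n a)) :=
  (kumPoly_monic n hn1 a).finite_adjoinRoot

theorem kum_etale (hn1 : 1 ≤ n) (hn : IsUnit ((n : ℕ) : A)) (a : A) (ha : IsUnit a) :
    Algebra.Etale A (AdjoinRoot (kumPoly n a)) := by
  refine etale_adjoinRoot _ (kumPoly_monic n hn1 a)
    ⟨C ((↑(hn.unit⁻¹) : A) * (↑(ha.unit⁻¹) : A)) * X, - C (↑(ha.unit⁻¹) : A), ?_⟩
  obtain ⟨m, rfl⟩ : ∃ m, n = m + 1 := ⟨n - 1, by omega⟩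
  have h1 : ((m + 1 : ℕ) : A) * (↑(hn.unit⁻¹) : A) = 1 := hn.mul_val_inv
  have h2 : a * (↑(ha.unit⁻¹) : A) = 1 := ha.mul_val_inv
  have h1' : (C ((m + 1 : ℕ) : A) : A[X]) * C (↑(hn.unit⁻¹) : A) = 1 := by
    rw [← C_mul, h1, C_1]
  have h2' : (C a : A[X]) * C (↑(ha.unit⁻¹) : A) = 1 := by rw [← C_mul, h2, C_1]
  rw [kumPoly, derivative_sub, derivative_C, sub_zero, derivative_X_pow, C_mul]
  simp only [Nat.add_sub_cancel]
  linear_combination (X ^ (m + 1) * C (↑(ha.unit⁻¹) : A)) * h1' + h2'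


variable [IsLocalRing A] [Module.Finite A B] [Algebra.Etale A B]

theorem finite_rootsOfUnity_of_isLocalRing (hn1 : 1 ≤ n) (hn : IsUnit ((n : ℕ) : A)) :
    Finite (rootsOfUnity n A) := by
  let Ω := AlgebraicClosure (IsLocalRing.ResidueField A)
  let f : rootsOfUnity n A → {ω : Ω // ω ∈ nthRootsFinset n (1 : Ω)} := fun g =>
    ⟨algebraMap A Ω ((g : Aˣ) : A), by
      rw [mem_nthRootsFinset (by omega), ← map_pow]
      have := (mem_rootsOfUnity n (g : Aˣ)).mp g.2
      have h6 := congrArg Units.val this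
      rw [Units.val_pow_eq_pow_val, Units.val_one] at h6
      rw [h6, map_one]⟩
  have hf : Function.Injective f := by
    intro g h hgh
    exact algebraMap_rootsOfUnity_injective (Ω := Ω) hn (congrArg Subtype.val hgh)
  exact Finite.of_injective f hf

/-- the Kummer presentation of a `μ_n`-torsor algebra over a local ring -/
theorem exists_kummer_equiv (hn1 : 1 ≤ n) (hn : IsUnit ((n : ℕ) : A)) (ζ₀ : A)
    (hζ₀ : IsPrimitiveRoot ζ₀ n) (σ : rootsOfUnity n A → (B →ₐ[A] B)) (hσ : IsTors σ) :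
    ∃ (a : Aˣ) (ψ : AdjoinRoot (kumPoly n (a : A)) ≃ₐ[A] B),
      ∀ g : rootsOfUnity n A, σ g (ψ (AdjoinRoot.root _)) =
        algebraMap A B ((g : Aˣ) : A) * ψ (AdjoinRoot.root _) := by
  classical
  haveI : Finite (rootsOfUnity n A) := finite_rootsOfUnity_of_isLocalRing n hn1 hn
  haveI := Fintype.ofFinite (rootsOfUnity n A)
  let Ω₀ := AlgebraicClosure (IsLocalRing.ResidueField A)
  obtain ⟨s₀⟩ := hσ.nonempty Ω₀
  -- Dedekind
  have hex : ∃ b : B, ∑ g : rootsOfUnity n A,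
      algebraMap A Ω₀ (((g⁻¹ : rootsOfUnity n A) : Aˣ) : A) * s₀ (σ g b) ≠ 0 := by
    by_contra hcon
    push Not at hcon
    have hli := linearIndependent_monoidHom B Ω₀
    let v : rootsOfUnity n A → (B →* Ω₀) := fun g => ((s₀.comp (σ g) : B →ₐ[A] Ω₀) : B →* Ω₀)
    have hv : Function.Injective v := by
      intro g h hgh
      apply hσ.comp_injective s₀
      ext b
      exact congrArg (fun f : B →* Ω₀ => f b) hgh
    have hli' : LinearIndependent Ω₀ (fun g => (v g : B → Ω₀)) := hli.comp v hv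
    have h0 : ∑ g, (algebraMap A Ω₀ (((g⁻¹ : rootsOfUnity n A) : Aˣ) : A)) • (v g : B → Ω₀) = 0 := by
      ext b
      simp only [Finset.sum_apply, Pi.smul_apply, smul_eq_mul, Pi.zero_apply]
      exact hcon b
    have := Fintype.linearIndependent_iff.mp hli' _ h0 1
    simp at this
  obtain ⟨b, hb⟩ := hex
  let u : B := ∑ g : rootsOfUnity n A,
    algebraMap A B (((g⁻¹ : rootsOfUnity n A) : Aˣ) : A) * σ g b
  have hs₀u : s₀ u ≠ 0 := by
    have : s₀ u = ∑ g : rootsOfUnity n A,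
        algebraMap A Ω₀ (((g⁻¹ : rootsOfUnity n A) : Aˣ) : A) * s₀ (σ g b) := by
      simp only [u, map_sum, map_mul, AlgHom.commutes]
    rw [this]
    exact hb
  have hu : ∀ h : rootsOfUnity n A, σ h u = algebraMap A B ((h : Aˣ) : A) * u := by
    intro h
    have hcomp : ∀ g : rootsOfUnity n A, σ h (σ g b) = σ (g * h) b := by
      intro g
      rw [hσ.mul]
      rfl
    simp only [u, map_sum, map_mul, AlgHom.commutes, hcomp, Finset.mul_sum]
    rw [Fintype.sum_equiv (Equiv.mulRight h)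
      (fun g => algebraMap A B (((g⁻¹ : rootsOfUnity n A) : Aˣ) : A) * σ (g * h) b)
      (fun m => algebraMap A B (((h * m⁻¹ : rootsOfUnity n A) : Aˣ) : A) * σ m b)
      (fun g => by simp)]
    refine Finset.sum_congr rfl fun m _ => ?_
    rw [← mul_assoc, ← map_mul]
    congr 2
  have hpow : ∀ h : rootsOfUnity n A, (algebraMap A B ((h : Aˣ) : A)) ^ n = 1 := by
    intro h
    have := (mem_rootsOfUnity n (h : Aˣ)).mp h.2
    have h6 := congrArg Units.val this
    rw [Units.val_pow_eq_pow_val, Units.val_one] at h6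
    rw [← map_pow, h6, map_one]
  have hfix : ∀ h, σ h (u ^ n) = u ^ n := by
    intro h
    rw [map_pow, hu, mul_pow, hpow, one_mul]
  obtain ⟨a₀, ha₀⟩ := hσ.exists_algebraMap_eq _ hfix
  have ha₀u : IsUnit a₀ := by
    rw [← IsLocalRing.residue_ne_zero_iff_isUnit]
    intro h0
    apply hs₀u
    have h1 : algebraMap A Ω₀ a₀ = 0 := by
      rw [IsScalarTower.algebraMap_apply A (IsLocalRing.ResidueField A) Ω₀]
      show algebraMap (IsLocalRing.ResidueField A) Ω₀ (IsLocalRing.residue A a₀) = 0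
      rw [h0, map_zero]
    have h2 : s₀ u ^ n = 0 := by
      rw [← map_pow, ← ha₀, AlgHom.commutes, h1]
    exact pow_eq_zero_iff (by omega) |>.mp h2
  let a : Aˣ := ha₀u.unit
  have hroot : (kumPoly n (a : A)).eval₂ (Algebra.ofId A B : A →+* B) u = 0 := by
    rw [kumPoly, eval₂_sub, eval₂_pow, eval₂_X, eval₂_C]
    show u ^ n - algebraMap A B a₀ = 0
    rw [ha₀, sub_self]
  let ψ₀ : AdjoinRoot (kumPoly n (a : A)) →ₐ[A] B :=
    AdjoinRoot.liftAlgHom _ (Algebra.ofId A B) u hroot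
  have hψu : ψ₀ (AdjoinRoot.root _) = u := AdjoinRoot.liftAlgHom_root _ _ _ _
  haveI : Module.Finite A (AdjoinRoot (kumPoly n (a : A))) := kum_finite n hn1 _
  haveI : Algebra.Etale A (AdjoinRoot (kumPoly n (a : A))) := kum_etale n hn1 hn _ ha₀u
  have hbij : Function.Bijective ψ₀ := by
    apply bijective_of_pts_bijective
    intro Ω _ _ _
    have hsu : ∀ (s : B →ₐ[A] Ω), s u ^ n = algebraMap A Ω a₀ := by
      intro s
      rw [← map_pow, ← ha₀, AlgHom.commutes]
    have ha₀Ω : algebraMap A Ω a₀ ≠ 0 := (ha₀u.map (algebraMap A Ω)).ne_zero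
    have hsu0 : ∀ (s : B →ₐ[A] Ω), s u ≠ 0 := by
      intro s h0
      apply ha₀Ω
      rw [← hsu s, h0, zero_pow (by omega)]
    have hst : ∀ (s : B →ₐ[A] Ω) (g : rootsOfUnity n A),
        (s.comp (σ g)) u = algebraMap A Ω ((g : Aˣ) : A) * s u := by
      intro s g
      rw [AlgHom.comp_apply, hu, map_mul, AlgHom.commutes]
    constructor
    · intro s s' hss
      have h1 : s u = s' u := by
        have := congrArg (fun f : AdjoinRoot (kumPoly n (a : A)) →ₐ[A] Ω =>
          f (AdjoinRoot.root _)) hss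
        simpa only [AlgHom.comp_apply, hψu] using this
      obtain ⟨g, hg, _⟩ := hσ.trans Ω s s'
      have h2 : s' u = algebraMap A Ω ((g : Aˣ) : A) * s u := by rw [← hg, hst]
      have h3 : algebraMap A Ω ((g : Aˣ) : A) = 1 := by
        rw [← h1] at h2
        exact mul_right_cancel₀ (hsu0 s) (h2.symm.trans (one_mul _).symm)
      have h4 : g = 1 := by
        apply algebraMap_rootsOfUnity_injective (Ω := Ω) hn
        show algebraMap A Ω ((g : Aˣ) : A) = algebraMap A Ω (((1 : rootsOfUnity n A) : Aˣ) : A)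
        rw [h3]
        simp
      rw [← hg, h4, hσ.one]
      rfl
    · intro x
      obtain ⟨s⟩ := hσ.nonempty Ω
      have hx : (x (AdjoinRoot.root _)) ^ n = algebraMap A Ω a₀ := by
        have h0 := AdjoinRoot.aeval_algHom_eq_zero (kumPoly n (a : A)) x
        unfold kumPoly at h0
        rw [map_sub, map_pow, aeval_X, aeval_C] at h0
        exact sub_eq_zero.mp h0
      have hω : (x (AdjoinRoot.root _) / s u) ^ n = 1 := by
        rw [div_pow, hx, hsu s, div_self ha₀Ω]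
      obtain ⟨g, hg⟩ := exists_rootsOfUnity_algebraMap_eq hn1 hn ζ₀ hζ₀ _ hω
      refine ⟨s.comp (σ g), ?_⟩
      apply AdjoinRoot.algHom_ext
      rw [AlgHom.comp_apply, hψu]
      show (s.comp (σ g)) u = _
      rw [hst, hg, div_mul_cancel₀ _ (hsu0 s)]
  refine ⟨a, AlgEquiv.ofBijective ψ₀ hbij, fun g => ?_⟩
  have h1 : (AlgEquiv.ofBijective ψ₀ hbij) (AdjoinRoot.root (kumPoly n (a : A))) = u := hψu
  rw [h1, hu]

end Kum

end H9FE
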