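import Mathlib
import Groth.Prelude.Def_SGA1t
import Groth.Agent.Lib.Helper9.FE.TorsAlg
import Groth.Agent.Lib.Helper9.FE.FiberQuot
import Groth.Agent.Lib.Helper9.FE.FiberIso

/-! helper9: principal covers of an affine scheme as torsor algebras. -/

open CategoryTheory CategoryTheory.Limits AlgebraicGeometry MorphismProperty
universe u v
set_option linter.style.haveILetI false
set_option linter.unusedSectionVars false
set_option backward.isDefEq.respectTransparency false
namespace H9FE
open H9SF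

section TorsSch
variable {A : Type u} [CommRing A] (P : FEt.Cat (Spec (CommRingCat.of A)))

/-- the structure morphism of a cover -/
abbrev cHom {S : Scheme.{u}} (P : FEt.Cat S) : P.left ⟶ S := P.hom

instance cHom_finite {S : Scheme.{u}} (P : FEt.Cat S) : IsFinite (cHom P) := P.prop.1
instance cHom_etale {S : Scheme.{u}} (P : FEt.Cat S) : Etale (cHom P) := P.prop.2

/-- the structure map of the algebra of a cover of `Spec A` -/
noncomputable def strHom : CommRingCat.of A ⟶ Γ(P.left, ⊤) :=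
  (Scheme.ΓSpecIso (CommRingCat.of A)).inv ≫ (cHom P).appTop

/-- the algebra of global sections of a cover of `Spec A` -/
noncomputable abbrev secAlg : Algebra A Γ(P.left, ⊤) := (strHom P).hom.toAlgebra

instance isAffine_cover : IsAffine P.left := isAffine_of_isAffineHom (cHom P)

theorem secAlg_finite : letI := secAlg P; Module.Finite A Γ(P.left, ⊤) := by
  letI := secAlg P
  have h1 : (cHom P).appTop.hom.Finite := (cHom P).finite_appTop
  have h2 : (strHom P).hom.Finite := by
    rw [strHom, CommRingCat.hom_comp]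
    refine RingHom.Finite.comp h1 ?_
    exact RingHom.Finite.of_surjective _
      (Scheme.ΓSpecIso (CommRingCat.of A)).symm.commRingCatIsoToRingEquiv.surjective
  exact RingHom.finite_algebraMap.mp h2

theorem secAlg_etale : letI := secAlg P; Algebra.Etale A Γ(P.left, ⊤) := by
  letI := secAlg P
  have h1 : (cHom P).appTop.hom.Etale :=
    (HasRingHomProperty.iff_of_isAffine (P := @Etale)).mp inferInstance
  have h2 : (strHom P).hom.Etale := by
    rw [strHom, CommRingCat.hom_comp]
    refine RingHom.Etale.stableUnderComposition _ _ ?_ h1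
    exact RingHom.Etale.of_bijective
      (Scheme.ΓSpecIso (CommRingCat.of A)).symm.commRingCatIsoToRingEquiv.bijective
  exact RingHom.etale_algebraMap.mp h2


attribute [local instance] secAlg

theorem algebraMap_secAlg (r : A) :
    algebraMap A Γ(P.left, ⊤) r = (cHom P).appTop.hom ((Scheme.ΓSpecIso (CommRingCat.of A)).inv.hom r) :=
  rfl

variable {G : Type v} [Group G] (ρ : G →* Aut P)

/-- the action on the algebra of global sections -/
noncomputable def actHom (g : G) : Γ(P.left, ⊤) →ₐ[A] Γ(P.left, ⊤) where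
  toRingHom := (ρ g).hom.left.appTop.hom
  commutes' r := by
    rw [algebraMap_secAlg]
    have h1 : (ρ g).hom.left ≫ cHom P = cHom P := Over.w (ρ g).hom.hom
    have h2 : (cHom P).appTop ≫ (ρ g).hom.left.appTop = (cHom P).appTop := by
      rw [← Scheme.Hom.comp_appTop, h1]
    exact congrArg (fun f : Γ(Spec (CommRingCat.of A), ⊤) ⟶ Γ(P.left, ⊤) =>
      f.hom ((Scheme.ΓSpecIso (CommRingCat.of A)).inv.hom r)) h2

theorem actHom_apply (g : G) (b : Γ(P.left, ⊤)) :
    actHom P ρ g b = (ρ g).hom.left.appTop.hom b := rfl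

section Dict
variable {Ω : Type u} [Field Ω] [Algebra A Ω]

/-- the geometric point of `Spec A` attached to an algebra structure -/
noncomputable abbrev geomPt (A : Type u) [CommRing A] (Ω : Type u) [Field Ω] [Algebra A Ω] :
    Spec (CommRingCat.of Ω) ⟶ Spec (CommRingCat.of A) :=
  Spec.map (CommRingCat.ofHom (algebraMap A Ω))

theorem homOfPt_geomPt : homOfPt (geomPt A Ω) =
    (Scheme.ΓSpecIso (CommRingCat.of A)).hom ≫ CommRingCat.ofHom (algebraMap A Ω) := by
  rw [homOfPt]
  exact Scheme.ΓSpecIso_naturality _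

/-- the algebra map attached to a point of the geometric fibre -/
noncomputable def ptAlgHom (s : FEt.fiberObj (geomPt A Ω) P) : Γ(P.left, ⊤) →ₐ[A] Ω where
  toRingHom := (homOfPt s.1).hom
  commutes' r := by
    rw [algebraMap_secAlg]
    have h1 : homOfPt (s.1 ≫ cHom P) = (cHom P).appTop ≫ homOfPt s.1 := homOfPt_comp _ _
    have h2 : s.1 ≫ cHom P = geomPt A Ω := s.2
    rw [h2, homOfPt_geomPt] at h1
    have h3 := congrArg (fun f : Γ(Spec (CommRingCat.of A), ⊤) ⟶ CommRingCat.of Ω =>
      f.hom ((Scheme.ΓSpecIso (CommRingCat.of A)).inv.hom r)) h1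
    have h4 : (Scheme.ΓSpecIso (CommRingCat.of A)).hom.hom
        ((Scheme.ΓSpecIso (CommRingCat.of A)).inv.hom r) = r := by
      rw [← CommRingCat.comp_apply, Iso.inv_hom_id]
      rfl
    refine h3.symm.trans ?_
    show algebraMap A Ω ((Scheme.ΓSpecIso (CommRingCat.of A)).hom.hom
        ((Scheme.ΓSpecIso (CommRingCat.of A)).inv.hom r)) = algebraMap A Ω r
    rw [h4]

theorem ptAlgHom_apply (s : FEt.fiberObj (geomPt A Ω) P) (b : Γ(P.left, ⊤)) :
    ptAlgHom P s b = (homOfPt s.1).hom b := rfl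

theorem ptAlgHom_injective : Function.Injective (ptAlgHom (Ω := Ω) P) := by
  intro s t h
  apply Subtype.ext
  apply pt_ext
  ext b
  exact congrArg (fun f : Γ(P.left, ⊤) →ₐ[A] Ω => f b) h

theorem ptAlgHom_surjective : Function.Surjective (ptAlgHom (Ω := Ω) P) := by
  intro x
  have hx : homOfPt (ptOfHom P.left (CommRingCat.ofHom (x : Γ(P.left, ⊤) →+* Ω))) =
      CommRingCat.ofHom (x : Γ(P.left, ⊤) →+* Ω) := homOfPt_ptOfHom _ _
  refine ⟨⟨ptOfHom P.left (CommRingCat.ofHom (x : Γ(P.left, ⊤) →+* Ω)), ?_⟩, ?_⟩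
  · show ptOfHom P.left (CommRingCat.ofHom (x : Γ(P.left, ⊤) →+* Ω)) ≫ cHom P = geomPt A Ω
    apply pt_ext
    have h1 := homOfPt_comp (ptOfHom P.left (CommRingCat.ofHom (x : Γ(P.left, ⊤) →+* Ω))) (cHom P)
    refine h1.trans ?_
    rw [hx, homOfPt_geomPt]
    rw [← Iso.inv_comp_eq]
    ext r
    exact x.commutes r
  · apply AlgHom.ext
    intro b
    rw [ptAlgHom_apply]
    exact congrArg (fun f : Γ(P.left, ⊤) ⟶ CommRingCat.of Ω => f.hom b) hx

theorem ptAlgHom_map (g : G) (s : FEt.fiberObj (geomPt A Ω) P) :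
    ptAlgHom P ((FEt.fiber (geomPt A Ω)).map (ρ g).hom s) = (ptAlgHom P s).comp (actHom P ρ g) := by
  apply AlgHom.ext
  intro b
  rw [ptAlgHom_apply, AlgHom.comp_apply, ptAlgHom_apply, actHom_apply]
  have h1 : homOfPt (s.1 ≫ (ρ g).hom.left) = (ρ g).hom.left.appTop ≫ homOfPt s.1 :=
    homOfPt_comp _ _
  exact congrArg (fun f : Γ(P.left, ⊤) ⟶ CommRingCat.of Ω => f.hom b) h1

end Dict

/-- a principal cover of `Spec A` gives a torsor algebra -/
theorem isTors_of_isPrincipal (hP : SGA1t.IsPrincipal G P ρ) : IsTors (actHom P ρ) where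
  one := by
    apply AlgHom.ext
    intro b
    rw [actHom_apply, map_one]
    rfl
  mul g h := by
    apply AlgHom.ext
    intro b
    rw [actHom_apply, map_mul, AlgHom.comp_apply, actHom_apply, actHom_apply]
    rfl
  nonempty Ω _ _ _ := by
    obtain ⟨w, hw⟩ := hP.1 ((geomPt A Ω) (default : PrimeSpectrum Ω))
    obtain ⟨s, hs⟩ := exists_pt_lift (cHom P) (geomPt A Ω) w hw
    exact ⟨ptAlgHom P ⟨s, hs⟩⟩
  trans Ω _ _ _ x y := by
    obtain ⟨s, rfl⟩ := ptAlgHom_surjective P x
    obtain ⟨t, rfl⟩ := ptAlgHom_surjective P y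
    obtain ⟨g, hg, hu⟩ := hP.2 Ω (geomPt A Ω) s t
    refine ⟨g, ?_, ?_⟩
    · show (ptAlgHom P s).comp (actHom P ρ g) = ptAlgHom P t
      rw [← ptAlgHom_map, hg]
    · intro g' hg'
      apply hu
      apply ptAlgHom_injective P
      rw [ptAlgHom_map]
      exact hg'


section SpecIso
variable {E : Type u} [CommRing E] [Algebra A E] (ψ : E ≃ₐ[A] Γ(P.left, ⊤))

/-- the isomorphism of a cover with the spectrum of a presentation of its algebra -/
noncomputable def specIso : P.left ≅ Spec (CommRingCat.of E) where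
  hom := P.left.isoSpec.hom ≫ Spec.map (CommRingCat.ofHom (ψ : E →+* Γ(P.left, ⊤)))
  inv := Spec.map (CommRingCat.ofHom (ψ.symm : Γ(P.left, ⊤) →+* E)) ≫ P.left.isoSpec.inv
  hom_inv_id := by
    rw [Category.assoc, ← Category.assoc (Spec.map _), ← Spec.map_comp]
    have h : CommRingCat.ofHom (ψ.symm : Γ(P.left, ⊤) →+* E) ≫
        CommRingCat.ofHom (ψ : E →+* Γ(P.left, ⊤)) = 𝟙 _ := by
      ext b
      exact ψ.apply_symm_apply b
    rw [h, Spec.map_id]
    exact (congrArg (P.left.isoSpec.hom ≫ ·) (Category.id_comp _)).trans (Iso.hom_inv_id _)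
  inv_hom_id := by
    rw [Category.assoc, ← Category.assoc P.left.isoSpec.inv, Iso.inv_hom_id, Category.id_comp,
      ← Spec.map_comp]
    have h : CommRingCat.ofHom (ψ : E →+* Γ(P.left, ⊤)) ≫
        CommRingCat.ofHom (ψ.symm : Γ(P.left, ⊤) →+* E) = 𝟙 _ := by
      ext b
      exact ψ.symm_apply_apply b
    rw [h, Spec.map_id]

theorem specIso_hom_comp :
    (specIso P ψ).hom ≫ Spec.map (CommRingCat.ofHom (algebraMap A E)) = P.hom := by
  show (P.left.isoSpec.hom ≫ Spec.map _) ≫ Spec.map _ = cHom P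
  rw [Category.assoc, ← Spec.map_comp]
  have h : CommRingCat.ofHom (algebraMap A E) ≫ CommRingCat.ofHom (ψ : E →+* Γ(P.left, ⊤)) =
      (Scheme.ΓSpecIso (CommRingCat.of A)).inv ≫ (cHom P).appTop := by
    ext r
    exact ψ.commutes r
  rw [h, Spec.map_comp, ← Category.assoc, Scheme.isoSpec_hom_naturality, Category.assoc,
    Scheme.isoSpec_Spec_hom, ← Spec.map_comp, Iso.inv_hom_id, Spec.map_id, Category.comp_id]

theorem specIso_equivariant (g : G) (τ : E →+* E)
    (h : ∀ x, ψ (τ x) = actHom P ρ g (ψ x)) :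
    (ρ g).hom.left ≫ (specIso P ψ).hom = (specIso P ψ).hom ≫ Spec.map (CommRingCat.ofHom τ) := by
  show (ρ g).hom.left ≫ (P.left.isoSpec.hom ≫ Spec.map _) =
    (P.left.isoSpec.hom ≫ Spec.map _) ≫ Spec.map _
  rw [← Category.assoc, ← Scheme.isoSpec_hom_naturality, Category.assoc, Category.assoc,
    ← Spec.map_comp, ← Spec.map_comp]
  congr 2
  ext x
  exact (h x).symm

end SpecIso

end TorsSch

end H9FE
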