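import Mathlib
import Groth.Agent.Lib.Helper9.FE.LocFree
import Groth.Agent.Lib.Helper9.FE.FlfSec
/-! helper9: finite flat finitely presented morphisms have a basis of trivialising affine opens -/
open CategoryTheory CategoryTheory.Limits AlgebraicGeometry TopologicalSpace Opposite
universe u
set_option linter.style.haveILetI false
set_option linter.unusedSectionVars false
set_option backward.isDefEq.respectTransparency false
namespace H9FE

section Triv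
variable {W S : Scheme.{u}} (π : W ⟶ S)

theorem exists_isTrivOpen [IsFinite π] [Flat π] [LocallyOfFinitePresentation π]
    (V : S.Opens) (s : S) (hs : s ∈ V) :
    ∃ V₀ : S.Opens, IsTrivOpen π V₀ ∧ s ∈ V₀ ∧ V₀ ≤ V := by
  obtain ⟨V₁, hV₁, hsV₁, hV₁V⟩ := Opens.isBasis_iff_nbhd.mp S.isBasis_affineOpens hs
  have hW₁ : IsAffineOpen (π ⁻¹ᵁ V₁) := hV₁.preimage π
  let φ : Γ(S, V₁) →+* Γ(W, π ⁻¹ᵁ V₁) := (π.app V₁).hom
  letI : Algebra Γ(S, V₁) Γ(W, π ⁻¹ᵁ V₁) := φ.toAlgebra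
  haveI hfin : Module.Finite Γ(S, V₁) Γ(W, π ⁻¹ᵁ V₁) := π.finite_app V₁ hV₁
  haveI hflat : Module.Flat Γ(S, V₁) Γ(W, π ⁻¹ᵁ V₁) := by
    have := π.flat_appLE hV₁ hW₁ le_rfl
    rw [Scheme.Hom.appLE_eq_app] at this
    exact this
  haveI hfp : Algebra.FinitePresentation Γ(S, V₁) Γ(W, π ⁻¹ᵁ V₁) := by
    have := π.finitePresentation_appLE hV₁ hW₁ le_rfl
    rw [Scheme.Hom.appLE_eq_app] at this
    exact this
  haveI : Module.FinitePresentation Γ(S, V₁) Γ(W, π ⁻¹ᵁ V₁) :=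
    Module.FinitePresentation.of_finite_of_finitePresentation _ _
  let p : Ideal Γ(S, V₁) :=
    (IsLocalRing.maximalIdeal (S.presheaf.stalk s)).comap (S.presheaf.germ V₁ s hsV₁).hom
  haveI : p.IsPrime := Ideal.comap_isPrime _ _
  obtain ⟨r, hr, hfree⟩ := exists_free_away Γ(S, V₁) Γ(W, π ⁻¹ᵁ V₁) p
  have hV₀ : IsAffineOpen (S.basicOpen r) := hV₁.basicOpen r
  have hpre : π ⁻¹ᵁ (S.basicOpen r) = W.basicOpen (φ r) := Scheme.preimage_basicOpen π r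
  have hW₀ : IsAffineOpen (π ⁻¹ᵁ (S.basicOpen r)) := by
    rw [hpre]; exact hW₁.basicOpen _
  have hs₀ : s ∈ S.basicOpen r := by
    rw [S.mem_basicOpen r s hsV₁]
    by_contra hnu
    exact hr ((IsLocalRing.mem_maximalIdeal _).mpr hnu)
  haveI : Nontrivial Γ(S, S.basicOpen r) :=
    (S.presheaf.germ (S.basicOpen r) s hs₀).hom.domain_nontrivial
  refine ⟨S.basicOpen r, ⟨hV₀, hW₀, ?_⟩, hs₀, (S.basicOpen_le r).trans hV₁V⟩
  · -- the basis
    haveI locR : IsLocalization.Away r Γ(S, S.basicOpen r) := hV₁.isLocalization_basicOpen r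
    have hle : π ⁻¹ᵁ (S.basicOpen r) ≤ π ⁻¹ᵁ V₁ := π.preimage_mono (S.basicOpen_le r)
    letI algBB₀ : Algebra Γ(W, π ⁻¹ᵁ V₁) Γ(W, π ⁻¹ᵁ (S.basicOpen r)) :=
      (W.presheaf.map (homOfLE hle).op).hom.toAlgebra
    haveI locB : IsLocalization.Away (φ r) Γ(W, π ⁻¹ᵁ (S.basicOpen r)) :=
      hW₁.isLocalization_of_eq_basicOpen (φ r) (homOfLE hle) hpre
    letI algR₀B₀ : Algebra Γ(S, S.basicOpen r) Γ(W, π ⁻¹ᵁ (S.basicOpen r)) :=
      (π.app (S.basicOpen r)).hom.toAlgebra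
    letI algRB₀ : Algebra Γ(S, V₁) Γ(W, π ⁻¹ᵁ (S.basicOpen r)) :=
      ((algebraMap Γ(W, π ⁻¹ᵁ V₁) Γ(W, π ⁻¹ᵁ (S.basicOpen r))).comp φ).toAlgebra
    haveI : IsScalarTower Γ(S, V₁) Γ(W, π ⁻¹ᵁ V₁) Γ(W, π ⁻¹ᵁ (S.basicOpen r)) :=
      IsScalarTower.of_algebraMap_eq' rfl
    haveI : IsScalarTower Γ(S, V₁) Γ(S, S.basicOpen r) Γ(W, π ⁻¹ᵁ (S.basicOpen r)) := by
      apply IsScalarTower.of_algebraMap_eq'
      have := π.naturality (homOfLE (S.basicOpen_le r)).op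
      exact (congrArg CommRingCat.Hom.hom this).symm
    haveI : IsLocalization (Algebra.algebraMapSubmonoid Γ(W, π ⁻¹ᵁ V₁) (Submonoid.powers r))
        Γ(W, π ⁻¹ᵁ (S.basicOpen r)) := by
      have : Algebra.algebraMapSubmonoid Γ(W, π ⁻¹ᵁ V₁) (Submonoid.powers r) =
          Submonoid.powers (φ r) := Submonoid.map_powers _ _
      rw [this]; exact locB
    haveI : IsLocalizedModule (Submonoid.powers r)
        (IsScalarTower.toAlgHom Γ(S, V₁) Γ(W, π ⁻¹ᵁ V₁)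
          Γ(W, π ⁻¹ᵁ (S.basicOpen r))).toLinearMap :=
      isLocalizedModule_iff_isLocalization.mpr inferInstance
    haveI hfree₀ : Module.Free Γ(S, S.basicOpen r) Γ(W, π ⁻¹ᵁ (S.basicOpen r)) :=
      free_of_free_localizedModule_away r hfree _ _
        (IsScalarTower.toAlgHom Γ(S, V₁) Γ(W, π ⁻¹ᵁ V₁)
          Γ(W, π ⁻¹ᵁ (S.basicOpen r))).toLinearMap
    haveI hfin₀ : Module.Finite Γ(S, S.basicOpen r) Γ(W, π ⁻¹ᵁ (S.basicOpen r)) :=
      π.finite_app _ hV₀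
    let bb := Module.finBasis Γ(S, S.basicOpen r) Γ(W, π ⁻¹ᵁ (S.basicOpen r))
    refine ⟨_, fun i => bb i, ?_⟩
    convert bb.equivFun.symm.bijective using 2 with c
    rw [Module.Basis.equivFun_symm_apply]
    refine Finset.sum_congr rfl fun i _ => ?_
    rw [Algebra.smul_def]; rfl

end Triv

end H9FE
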